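import Cfsg.Agent.Helper17.Fi23TC.Facts17

set_option autoImplicit false
set_option linter.all false

noncomputable section

namespace Cfsg.Agent.Helper17.Fi23TC

def n63094 : Q := act 3 n62369
theorem D63094 : act 3 n62369 = n63094 := rfl
theorem F281907 : act 1 n63094 = n62370 := d10_1 D63094 (iv D62370) (iv F278520)
theorem F281908 : act 4 n63094 = n62376 := d24_2 D62369 D63094 (iv D62376) (iv D61403) (iv F274069)
theorem F281909 : act 6 n63094 = n62372 := d26_2 (iv F278522) D63094 (iv D62372)
theorem F281910 : act 9 n63094 = n62510 := d29_2 (iv F278524) D63094 (iv D62510)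
def n63095 : Q := act 3 n62371
theorem D63095 : act 3 n62371 = n63095 := rfl
theorem F281911 : act 0 n63095 = n62372 := d2_1 D63095 (iv D62372) (iv F278529)
theorem F281912 : act 4 n63095 = n62377 := d24_2 D62371 D63095 (iv D62377) (iv D61405) (iv F274078)
theorem F281913 : act 7 n63095 = n62615 := d27_2 (iv F278530) D63095 (iv D62615)
def n63096 : Q := act 5 n62371
theorem D63096 : act 5 n62371 = n63096 := rfl
theorem F281914 : act 0 n63096 = n62373 := d4_1 D63096 (iv D62373) (iv F278529)
theorem F281915 : act 1 n63096 = n62594 := d12_1 D63096 (iv F281544) F281542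
theorem F281916 : act 2 n63096 = n62385 := d19_1 D63096 (iv F280413) F280412
theorem F281917 : act 4 n63096 = n62374 := d30_1 D63096 (iv D62374) (iv D61400) (iv F274079) D62371
theorem F281918 : act 7 n63096 = n62411 := d36_2 (iv F278530) D63096 F278676
theorem F281919 : act 8 n63096 = n62380 := d37_2 F280589 D63096 (iv F280586)
theorem F281920 : act 9 n63096 = n62539 := d38_2 F280402 D63096 (iv F280398)
theorem F281921 : act 6 n62541 = n63096 := d41_3 F281920 F279111 (iv F279117)
def n63097 : Q := act 2 n62372
theorem D63097 : act 2 n62372 = n63097 := rfl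
theorem F281922 : act 1 n63097 = n63097 := d9_1 D63097 (iv D63097) F278531 F274083 (iv F278531)
theorem F281923 : act 4 n63097 = n62378 := d18_2 (iv F278532) D63097 (iv D62378)
theorem F281924 : act 7 n63097 = n62616 := d21_2 (iv F278533) D63097 (iv D62616)
def n63098 : Q := act 3 n62375
theorem D63098 : act 3 n62375 = n63098 := rfl
theorem F281925 : act 0 n63098 = n62376 := d2_1 D63098 (iv D62376) (iv F278549)
theorem F281926 : act 6 n63098 = n62377 := d26_2 (iv F278550) D63098 (iv D62377)
def n63099 : Q := act 2 n62376
theorem D63099 : act 2 n62376 = n63099 := rfl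
theorem F281927 : act 1 n63099 = n63099 := d9_1 D63099 (iv D63099) F278551 F274112 (iv F278551)
theorem F281928 : act 6 n63099 = n62378 := d20_2 (iv F278552) D63099 (iv D62378)
def n63100 : Q := act 2 n62377
theorem D63100 : act 2 n62377 = n63100 := rfl
theorem F281929 : act 0 n63100 = n62378 := d1_1 D63100 (iv D62378) (iv F278553)
theorem F281930 : act 7 n63100 = n62619 := d21_2 (iv F278554) D63100 (iv D62619)
def n63101 : Q := act 8 n62377
theorem D63101 : act 8 n62377 = n63101 := rfl
theorem F281931 : act 0 n63101 = n62379 := d7_1 D63101 (iv D62379) (iv F278553)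
theorem F281932 : act 1 n63101 = n62579 := d15_1 D63101 (iv F281558) F281555
theorem F281933 : act 3 n63101 = n62574 := d28_1 D63101 (iv F280751) F280747 F277581 D62377
theorem F281934 : act 5 n63101 = n62588 := d37_1 D63101 (iv F281407) F281405
theorem F281935 : act 7 n63101 = n62620 := d42_1 D63101 (iv D62620) (iv F278554)
def n63102 : Q := act 8 n62378
theorem D63102 : act 8 n62378 = n63102 := rfl
theorem F281936 : act 1 n63102 = n63102 := d15_1 D63102 (iv D63102) F278555
theorem F281937 : act 2 n63102 = n62379 := d22_1 D63102 (iv D62379) D62378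
theorem F281938 : act 5 n63102 = n62589 := d37_1 D63102 (iv F281412) F281410
theorem F281939 : act 7 n63102 = n62621 := d42_1 D63102 (iv D62621) (iv F278556)
def n63103 : Q := act 4 n62381
theorem D63103 : act 4 n62381 = n63103 := rfl
theorem F281940 : act 0 n63103 = n62382 := d3_1 D63103 (iv D62382) D62381
theorem F281941 : act 2 n63103 = n62541 := d18_1 D63103 (iv D62541) (iv F278564)
theorem F281942 : act 6 n63103 = n62385 := d31_2 (iv F278566) D63103 (iv D62385)
theorem F281943 : act 8 n63103 = n62391 := d33_2 (iv F278567) D63103 (iv D62391)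
theorem F281944 : act 9 n63103 = n62536 := d34_2 (iv F278568) D63103 (iv D62536)
def n63104 : Q := act 3 n62382
theorem D63104 : act 3 n62382 = n63104 := rfl
theorem F281945 : act 1 n63104 = n62383 := d10_1 D63104 (iv D62383) (iv F278569)
theorem F281946 : act 6 n63104 = n62386 := d26_2 (iv F278571) D63104 (iv D62386)
theorem F281947 : act 9 n63104 = n62537 := d29_2 (iv F278573) D63104 (iv D62537)
def n63105 : Q := act 3 n62385
theorem D63105 : act 3 n62385 = n63105 := rfl
theorem F281948 : act 0 n63105 = n62386 := d2_1 D63105 (iv D62386) (iv F278584)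
theorem F281949 : act 7 n63105 = n62428 := d27_2 (iv F278585) D63105 (iv D62428)
def n63106 : Q := act 2 n62386
theorem D63106 : act 2 n62386 = n63106 := rfl
theorem F281950 : act 1 n63106 = n63106 := d9_1 D63106 (iv D63106) F278587 F274157 (iv F278587)
theorem F281951 : act 7 n63106 = n62430 := d21_2 (iv F278588) D63106 (iv D62430)
def n63107 : Q := act 8 n62386
theorem D63107 : act 8 n62386 = n63107 := rfl
theorem F281952 : act 1 n63107 = n62387 := d15_1 D63107 (iv D62387) (iv F278587)
theorem F281953 : act 3 n63107 = n62397 := d28_1 D63107 (iv D62397) (iv D61426) (iv F274156) D62386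
theorem F281954 : act 5 n63107 = n62508 := d37_1 D63107 (iv F280423) F280420
theorem F281955 : act 7 n63107 = n62432 := d42_1 D63107 (iv D62432) (iv F278588)
def n63108 : Q := act 9 n62387
theorem D63108 : act 9 n62387 = n63108 := rfl
theorem F281956 : act 2 n63108 = n63108 := d23_1 D63108 (iv D63108) F278589
theorem F281957 : act 3 n63108 = n62398 := d29_1 D63108 (iv D62398) (iv F278590)
theorem F281958 : act 5 n63108 = n62506 := d38_1 D63108 F279030 (iv F278591)
theorem F281959 : act 7 n63108 = n62434 := d43_1 D63108 (iv D62434) (iv F278592)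
def n63109 : Q := act 4 n62388
theorem D63109 : act 4 n62388 = n63109 := rfl
theorem F281960 : act 0 n63109 = n62389 := d3_1 D63109 (iv D62389) D62388
theorem F281961 : act 2 n63109 = n62593 := d18_1 D63109 (iv D62593) (iv F278593)
theorem F281962 : act 6 n63109 = n62438 := d31_2 (iv F278595) D63109 (iv D62438)
theorem F281963 : act 7 n63109 = n62391 := d32_2 (iv F278596) D63109 (iv D62391)
theorem F281964 : act 9 n63109 = n62591 := d34_2 (iv F278597) D63109 (iv D62591)
def n63110 : Q := act 5 n62389
theorem D63110 : act 5 n62389 = n63110 := rfl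
theorem F281965 : act 1 n63110 = n62390 := d12_1 D63110 (iv D62390) (iv F278598)
theorem F281966 : act 2 n63110 = n62409 := d19_1 D63110 F278667 (iv F278599)
theorem F281967 : act 7 n63110 = n62393 := d36_2 (iv F278601) D63110 (iv D62393)
theorem F281968 : act 9 n63110 = n62408 := d38_2 (iv F278602) D63110 F278664
def n63111 : Q := act 3 n62391
theorem D63111 : act 3 n62391 = n63111 := rfl
theorem F281969 : act 0 n63111 = n62392 := d2_1 D63111 (iv D62392) (iv F278606)
theorem F281970 : act 4 n63111 = n62401 := d24_2 D62391 D63111 (iv D62401) (iv D61431) (iv F274178)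
theorem F281971 : act 6 n63111 = n62396 := d26_2 (iv F278607) D63111 (iv D62396)
theorem F281972 : act 9 n63111 = n62534 := d29_2 F280599 D63111 (iv F280594)
def n63112 : Q := act 5 n62391
theorem D63112 : act 5 n62391 = n63112 := rfl
theorem F281973 : act 0 n63112 = n62393 := d4_1 D63112 (iv D62393) (iv F278606)
theorem F281974 : act 2 n63112 = n62448 := d19_1 D63112 (iv F281417) F281414
theorem F281975 : act 6 n63112 = n62545 := d35_2 (iv F278607) D63112 (iv D62545) (iv F276724) F276723
theorem F281976 : act 9 n63112 = n62447 := d38_2 F280599 D63112 (iv F280596)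
def n63113 : Q := act 5 n62392
theorem D63113 : act 5 n62392 = n63113 := rfl
theorem F281977 : act 1 n63113 = n62394 := d12_1 D63113 (iv D62394) (iv F278608)
theorem F281978 : act 3 n63113 = n62393 := d25_1 D63113 (iv D62393) D62392
theorem F281979 : act 6 n63113 = n62499 := d35_2 (iv F278610) D63113 (iv D62499) F274681 (iv F274193)
theorem F281980 : act 9 n63113 = n62449 := d38_2 (iv F278611) D63113 F278801
def n63114 : Q := act 8 n62392
theorem D63114 : act 8 n62392 = n63114 := rfl
theorem F281981 : act 1 n63114 = n62395 := d15_1 D63114 (iv D62395) (iv F278608)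
theorem F281982 : act 4 n63114 = n62404 := d33_1 D63114 (iv D62404) (iv F278609)
theorem F281983 : act 6 n63114 = n62397 := d40_1 D63114 (iv D62397) (iv F278610)
def n63115 : Q := act 8 n62394
theorem D63115 : act 8 n62394 = n63115 := rfl
theorem F281984 : act 2 n63115 = n62450 := d22_1 D63115 (iv D62450) (iv F278616)
theorem F281985 : act 5 n63115 = n62395 := d37_1 D63115 (iv D62395) D62394
theorem F281986 : act 6 n63115 = n62497 := d40_1 D63115 F278994 (iv F278618)
def n63116 : Q := act 9 n62395
theorem D63116 : act 9 n62395 = n63116 := rfl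
theorem F281987 : act 2 n63116 = n62451 := d23_1 D63116 (iv D62451) (iv F278620)
theorem F281988 : act 4 n63116 = n62405 := d34_1 D63116 (iv D62405) (iv F278621)
theorem F281989 : act 6 n63116 = n62398 := d41_1 D63116 (iv D62398) (iv F278622)
theorem F281990 : act 8 n63116 = n62531 := d44_1 D63116 F279090 F274820 (iv F274185) D62395
def n63117 : Q := act 8 n62396
theorem D63117 : act 8 n62396 = n63117 := rfl
theorem F281991 : act 0 n63117 = n62397 := d7_1 D63117 (iv D62397) (iv F278623)
theorem F281992 : act 4 n63117 = n62407 := d33_1 D63117 (iv D62407) (iv F278624)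
theorem F281993 : act 5 n63117 = n62507 := d37_1 D63117 F279033 (iv F278625)
theorem F281994 : act 7 n63117 = n62441 := d42_1 D63117 (iv D62441) (iv F278626)
def n63118 : Q := act 9 n62397
theorem D63118 : act 9 n62397 = n63118 := rfl
theorem F281995 : act 1 n63118 = n62398 := d16_1 D63118 (iv D62398) (iv F278628)
theorem F281996 : act 4 n63118 = n62409 := d34_1 D63118 (iv D62409) (iv F278629)
theorem F281997 : act 5 n63118 = n62505 := d38_1 D63118 F279026 (iv F278630)
theorem F281998 : act 7 n63118 = n62442 := d43_1 D63118 (iv D62442) (iv F278631)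
theorem F281999 : act 8 n63118 = n62530 := d44_1 D63118 F279088 F274818 (iv F274195) D62397
def n63119 : Q := act 3 n62399
theorem D63119 : act 3 n62399 = n63119 := rfl
theorem F282000 : act 0 n63119 = n62400 := d2_1 D63119 (iv D62400) (iv F278637)
theorem F282001 : act 2 n63119 = n62534 := d17_1 D63119 (iv F280594) F280593 (iv F280561) F280560
theorem F282002 : act 6 n63119 = n62443 := d26_2 (iv F278638) D63119 (iv D62443)
theorem F282003 : act 7 n63119 = n62401 := d27_2 (iv F278639) D63119 (iv D62401)
def n63120 : Q := act 2 n62401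
theorem D63120 : act 2 n62401 = n63120 := rfl
theorem F282004 : act 0 n63120 = n62403 := d1_1 D63120 (iv D62403) (iv F278645)
theorem F282005 : act 3 n63120 = n62591 := d17_2 D62401 D63120 F279241 (iv F276654) F276653
theorem F282006 : act 6 n63120 = n62406 := d20_2 (iv F278646) D63120 (iv D62406)
theorem F282007 : act 7 n63120 = n62534 := d21_2 F282003 D63120 (iv F282001)
def n63121 : Q := act 8 n62401
theorem D63121 : act 8 n62401 = n63121 := rfl
theorem F282008 : act 0 n63121 = n62404 := d7_1 D63121 (iv D62404) (iv F278645)
theorem F282009 : act 6 n63121 = n62407 := d40_1 D63121 (iv D62407) (iv F278646)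
def n63122 : Q := act 9 n62404
theorem D63122 : act 9 n62404 = n63122 := rfl
theorem F282010 : act 1 n63122 = n62405 := d16_1 D63122 (iv D62405) (iv F278652)
theorem F282011 : act 6 n63122 = n62409 := d41_1 D63122 (iv D62409) (iv F278653)
def n63123 : Q := act 1 n62406
theorem D63123 : act 1 n62406 = n63123 := rfl
theorem F282012 : act 0 n63123 = n62453 := d0_1 D63123 (iv D62453) F274408 (iv F274219) (iv F278656)
theorem F282013 : act 2 n63123 = n62622 := d9_2 D62406 D63123 (iv F279756) F279757 F278116
theorem F282014 : act 3 n63123 = n62472 := d10_2 F280575 D63123 (iv F280574)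
theorem F282015 : act 5 n63123 = n62590 := d12_2 (iv F278657) D63123 F279237
theorem F282016 : act 7 n63123 = n62446 := d14_2 (iv F278658) D63123 (iv D62446)
def n63124 : Q := act 8 n62406
theorem D63124 : act 8 n62406 = n63124 := rfl
theorem F282017 : act 0 n63124 = n62408 := d7_1 D63124 (iv D62408) (iv F278656)
theorem F282018 : act 2 n63124 = n62407 := d22_1 D63124 (iv D62407) D62406
theorem F282019 : act 5 n63124 = n62591 := d37_1 D63124 F279242 (iv F278657)
theorem F282020 : act 7 n63124 = n62447 := d42_1 D63124 (iv D62447) (iv F278658)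
def n63125 : Q := act 9 n62407
theorem D63125 : act 9 n62407 = n63125 := rfl
theorem F282021 : act 0 n63125 = n62409 := d8_1 D63125 (iv D62409) (iv F278659)
theorem F282022 : act 5 n63125 = n62593 := d38_1 D63125 F279245 (iv F278660)
theorem F282023 : act 7 n63125 = n62448 := d43_1 D63125 (iv D62448) (iv F278661)
def n63126 : Q := act 3 n62411
theorem D63126 : act 3 n62411 = n63126 := rfl
theorem F282024 : act 0 n63126 = n62412 := d2_1 D63126 (iv D62412) (iv F278674)
theorem F282025 : act 5 n63126 = n62615 := d25_2 (iv F278676) D63126 (iv D62615)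
theorem F282026 : act 8 n63126 = n62596 := d28_2 (iv F278677) D63126 (iv D62596) (iv F276534) F276531
def n63127 : Q := act 2 n62412
theorem D63127 : act 2 n62412 = n63127 := rfl
theorem F282027 : act 1 n63127 = n63127 := d9_1 D63127 (iv D63127) F278678 F274239 (iv F278678)
theorem F282028 : act 3 n63127 = n62430 := d17_2 D62412 D63127 (iv D62430) (iv D61459) (iv F274236)
theorem F282029 : act 5 n63127 = n62616 := d19_2 (iv F278679) D63127 (iv D62616)
theorem F282030 : act 8 n63127 = n62597 := d22_2 (iv F278680) D63127 (iv D62597)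
def n63128 : Q := act 4 n62413
theorem D63128 : act 4 n62413 = n63128 := rfl
theorem F282031 : act 0 n63128 = n62414 := d3_1 D63128 (iv D62414) D62413
theorem F282032 : act 1 n63128 = n62515 := d11_1 D63128 (iv D62515) (iv F278681)
theorem F282033 : act 7 n63128 = n62421 := d32_2 (iv F278684) D63128 (iv D62421)
theorem F282034 : act 8 n63128 = n62438 := d33_2 (iv F278685) D63128 (iv D62438)
def n63129 : Q := act 3 n62414
theorem D63129 : act 3 n62414 = n63129 := rfl
theorem F282035 : act 1 n63129 = n62415 := d10_1 D63129 (iv D62415) (iv F278686)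
theorem F282036 : act 4 n63129 = n62470 := d24_2 D62414 D63129 (iv D62470) (iv D61523) (iv F274250)
theorem F282037 : act 7 n63129 = n62422 := d27_2 (iv F278687) D63129 (iv D62422)
def n63130 : Q := act 5 n62414
theorem D63130 : act 5 n62414 = n63130 := rfl
theorem F282038 : act 1 n63130 = n62416 := d12_1 D63130 (iv D62416) (iv F278686)
theorem F282039 : act 4 n63130 = n62468 := d30_1 D63130 (iv D62468) (iv D61520) (iv F274251) D62414
theorem F282040 : act 7 n63130 = n62423 := d36_2 (iv F278687) D63130 (iv D62423)
theorem F282041 : act 8 n63130 = n62439 := d37_2 (iv F278688) D63130 (iv D62439)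
def n63131 : Q := act 4 n62417
theorem D63131 : act 4 n62417 = n63131 := rfl
theorem F282042 : act 0 n63131 = n62418 := d3_1 D63131 (iv D62418) D62417
theorem F282043 : act 6 n63131 = n62425 := d31_2 (iv F278699) D63131 (iv D62425)
theorem F282044 : act 9 n63131 = n62421 := d34_2 (iv F278700) D63131 (iv D62421)
def n63132 : Q := act 3 n62418
theorem D63132 : act 3 n62418 = n63132 := rfl
theorem F282045 : act 1 n63132 = n62419 := d10_1 D63132 (iv D62419) (iv F278701)
theorem F282046 : act 6 n63132 = n62426 := d26_2 (iv F278702) D63132 (iv D62426)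
theorem F282047 : act 9 n63132 = n62422 := d29_2 (iv F278703) D63132 (iv D62422)
def n63133 : Q := act 5 n62418
theorem D63133 : act 5 n62418 = n63133 := rfl
theorem F282048 : act 1 n63133 = n62420 := d12_1 D63133 (iv D62420) (iv F278701)
theorem F282049 : act 4 n63133 = n62625 := d30_1 D63133 F279319 (iv D61762) (iv F274263) D62418
theorem F282050 : act 9 n63133 = n62423 := d38_2 (iv F278703) D63133 (iv D62423)
def n63134 : Q := act 5 n62419
theorem D63134 : act 5 n62419 = n63134 := rfl
theorem F282051 : act 2 n63134 = n63134 := d19_1 D63134 (iv D63134) F278704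
theorem F282052 : act 3 n63134 = n62420 := d25_1 D63134 (iv D62420) D62419
theorem F282053 : act 9 n63134 = n62424 := d38_2 (iv F278706) D63134 (iv D62424)
def n63135 : Q := act 8 n62419
theorem D63135 : act 8 n62419 = n63135 := rfl
theorem F282054 : act 2 n63135 = n63135 := d22_1 D63135 (iv D63135) F278704
theorem F282055 : act 6 n63135 = n62427 := d40_1 D63135 (iv D62427) (iv F278705)
def n63136 : Q := act 3 n62421
theorem D63136 : act 3 n62421 = n63136 := rfl
theorem F282056 : act 0 n63136 = n62422 := d2_1 D63136 (iv D62422) (iv F278710)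
theorem F282057 : act 6 n63136 = n62428 := d26_2 (iv F278711) D63136 (iv D62428)
def n63137 : Q := act 5 n62421
theorem D63137 : act 5 n62421 = n63137 := rfl
theorem F282058 : act 0 n63137 = n62423 := d4_1 D63137 (iv D62423) (iv F278710)
theorem F282059 : act 4 n63137 = n62624 := d30_1 D63137 F279317 (iv D61763) (iv F274272) D62421
theorem F282060 : act 8 n63137 = n62440 := d37_2 (iv F278712) D63137 (iv D62440)
def n63138 : Q := act 2 n62422
theorem D63138 : act 2 n62422 = n63138 := rfl
theorem F282061 : act 1 n63138 = n63138 := d9_1 D63138 (iv D63138) F278713 F274278 (iv F278713)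
theorem F282062 : act 6 n63138 = n62430 := d20_2 (iv F278714) D63138 (iv D62430)
def n63139 : Q := act 5 n62422
theorem D63139 : act 5 n62422 = n63139 := rfl
theorem F282063 : act 1 n63139 = n62424 := d12_1 D63139 (iv D62424) (iv F278713)
theorem F282064 : act 3 n63139 = n62423 := d25_1 D63139 (iv D62423) D62422
theorem F282065 : act 8 n63139 = n62537 := d37_2 F281891 D63139 (iv F281889)
def n63140 : Q := act 3 n62425
theorem D63140 : act 3 n62425 = n63140 := rfl
theorem F282066 : act 0 n63140 = n62426 := d2_1 D63140 (iv D62426) (iv F278721)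
theorem F282067 : act 9 n63140 = n62428 := d29_2 (iv F278722) D63140 (iv D62428)
def n63141 : Q := act 2 n62426
theorem D63141 : act 2 n62426 = n63141 := rfl
theorem F282068 : act 1 n63141 = n63141 := d9_1 D63141 (iv D63141) F278723 F274287 (iv F278723)
theorem F282069 : act 9 n63141 = n62430 := d23_2 (iv F278724) D63141 (iv D62430)
def n63142 : Q := act 8 n62426
theorem D63142 : act 8 n62426 = n63142 := rfl
theorem F282070 : act 1 n63142 = n62427 := d15_1 D63142 (iv D62427) (iv F278723)
def n63143 : Q := act 9 n62427
theorem D63143 : act 9 n62427 = n63143 := rfl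
theorem F282071 : act 2 n63143 = n63143 := d23_1 D63143 (iv D63143) F278725
theorem F282072 : act 3 n63143 = n62497 := d29_1 D63143 (iv F279571) F279567
theorem F282073 : act 5 n63143 = n62496 := d38_1 D63143 (iv F279563) (iv F279564)
theorem F282074 : act 8 n63143 = n62434 := d44_1 D63143 (iv D62434) (iv D61462) (iv F274288) D62427
def n63144 : Q := act 2 n62428
theorem D63144 : act 2 n62428 = n63144 := rfl
theorem F282075 : act 0 n63144 = n62430 := d1_1 D63144 (iv D62430) (iv F278726)
def n63145 : Q := act 5 n62428
theorem D63145 : act 5 n62428 = n63145 := rfl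
theorem F282076 : act 0 n63145 = n62431 := d4_1 D63145 (iv D62431) (iv F278726)
theorem F282077 : act 1 n63145 = n62612 := d12_1 D63145 (iv F281614) F281613
theorem F282078 : act 3 n63145 = n62429 := d25_1 D63145 (iv D62429) D62428
theorem F282079 : act 8 n62513 = n63145 := d46_0 (iv D63145) (iv F281293) (iv D62952) (iv F281240) F281239 F279142 F274910 D61647 (iv F275256) (iv D61771) F270498 F267403 (iv F267211) F267217 F263249 (iv D57728) (iv F258972) (iv D57724) (iv F256839) F256838 (iv F257159) (iv F261897) F261896 (iv D57825) (iv F258347) F258346 (iv F257697) (iv D57449) (iv F257694) F257693 F257692 F253367 F247685 F240557 D53755 (iv F248429) F248428 D56646 D57816 D59000 D60234 (iv F272959) F272957 (iv F272339) F272338 F270119 (iv F265701) (iv D59542) F260980 F257440 (iv F256544) (iv F261312) (iv F266043) (iv D59599) F261261 (iv F264848) F264846 D59219 D60442 F269825 (iv F274754) (iv F279046)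
def n63146 : Q := act 8 n62428
theorem D63146 : act 8 n62428 = n63146 := rfl
theorem F282080 : act 0 n63146 = n62432 := d7_1 D63146 (iv D62432) (iv F278726)
theorem F282081 : act 3 n63146 = n62441 := d28_1 D63146 (iv D62441) (iv D61474) (iv F274290) D62428
theorem F282082 : act 5 n63146 = n62513 := d37_1 D63146 F282079 (iv D63145)
def n63147 : Q := act 5 n62430
theorem D63147 : act 5 n62430 = n63147 := rfl
theorem F282083 : act 1 n63147 = n63147 := d12_1 D63147 (iv D63147) F278732
theorem F282084 : act 2 n63147 = n62431 := d19_1 D63147 (iv D62431) D62430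
theorem F282085 : act 3 n63147 = n62616 := d25_1 D63147 (iv F282029) F282028
theorem F282086 : act 8 n62514 = n63147 := d22_0 F282084 (iv F278735) D62514
def n63148 : Q := act 8 n62430
theorem D63148 : act 8 n62430 = n63148 := rfl
theorem F282087 : act 1 n63148 = n63148 := d15_1 D63148 (iv D63148) F278732
theorem F282088 : act 2 n63148 = n62432 := d22_1 D63148 (iv D62432) D62430
theorem F282089 : act 5 n63148 = n62514 := d37_1 D63148 F282086 (iv D63147)
def n63149 : Q := act 4 n62431
theorem D63149 : act 4 n62431 = n63149 := rfl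
theorem F282090 : act 1 n63149 = n62433 := d11_1 D63149 (iv D62433) (iv F278733)
theorem F282091 : act 3 n63149 = n62437 := d24_1 D63149 (iv D62437) F274324 (iv F274294) (iv F278734)
theorem F282092 : act 7 n63149 = n62464 := d32_2 F280422 D63149 (iv F280419)
theorem F282093 : act 8 n63149 = n62493 := d33_2 F278735 D63149 F278981
def n63150 : Q := act 9 n62432
theorem D63150 : act 9 n62432 = n63150 := rfl
theorem F282094 : act 1 n63150 = n62434 := d16_1 D63150 (iv D62434) (iv F278736)
theorem F282095 : act 3 n63150 = n62442 := d29_1 D63150 (iv D62442) (iv F278737)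
theorem F282096 : act 5 n63150 = n62512 := d38_1 D63150 F279045 (iv F278738)
def n63151 : Q := act 4 n62436
theorem D63151 : act 4 n62436 = n63151 := rfl
theorem F282097 : act 0 n63151 = n62437 := d3_1 D63151 (iv D62437) (iv F278752)
theorem F282098 : act 1 n63151 = n62507 := d11_1 D63151 (iv D62507) (iv F278753)
theorem F282099 : act 2 n63151 = n62515 := d18_1 D63151 (iv D62515) (iv F278754)
theorem F282100 : act 7 n63151 = n62463 := d32_2 (iv F278756) D63151 (iv D62463)
theorem F282101 : act 8 n63151 = n62462 := d33_2 (iv F278757) D63151 (iv D62462)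
def n63152 : Q := act 5 n62438
theorem D63152 : act 5 n62438 = n63152 := rfl
theorem F282102 : act 0 n63152 = n62439 := d4_1 D63152 (iv D62439) (iv F278762)
theorem F282103 : act 3 n63152 = n62523 := d25_1 D63152 (iv F281845) F281843
theorem F282104 : act 4 n63152 = n62622 := d30_1 D63152 F279310 F275211 (iv F274332) D62438
theorem F282105 : act 7 n63152 = n62440 := d36_2 (iv F278763) D63152 (iv D62440)
theorem F282106 : act 9 n63152 = n62592 := d38_2 F280581 D63152 (iv F280577)
def n63153 : Q := act 9 n62441
theorem D63153 : act 9 n62441 = n63153 := rfl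
theorem F282107 : act 0 n63153 = n62442 := d8_1 D63153 (iv D62442) (iv F278772)
theorem F282108 : act 4 n63153 = n62448 := d34_1 D63153 (iv D62448) (iv F278773)
theorem F282109 : act 5 n63153 = n62511 := d38_1 D63153 F279043 (iv F278774)
theorem F282110 : act 8 n63153 = n62545 := d44_1 D63153 F279123 F274886 (iv F274348) D62441
def n63154 : Q := act 9 n62444
theorem D63154 : act 9 n62444 = n63154 := rfl
theorem F282111 : act 0 n63154 = n62445 := d8_1 D63154 (iv D62445) (iv F278783)
theorem F282112 : act 2 n63154 = n62545 := d23_1 D63154 F279123 (iv F278784)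
theorem F282113 : act 5 n63154 = n62538 := d38_1 D63154 F279108 (iv F278785)
theorem F282114 : act 6 n63154 = n62448 := d41_1 D63154 (iv D62448) (iv F278786)
def n63155 : Q := act 8 n62446
theorem D63155 : act 8 n62446 = n63155 := rfl
theorem F282115 : act 0 n63155 = n62455 := d7_1 D63155 (iv D62455) (iv F278791)
theorem F282116 : act 1 n63155 = n62447 := d15_1 D63155 (iv D62447) D62446
theorem F282117 : act 2 n63155 = n62624 := d22_1 D63155 (iv D62624) (iv F278792)
theorem F282118 : act 5 n63155 = n62623 := d37_1 D63155 F279315 (iv F278794)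
theorem F282119 : act 6 n63155 = n62489 := d40_1 D63155 F278966 (iv F278795)
def n63156 : Q := act 3 n62447
theorem D63156 : act 3 n62447 = n63156 := rfl
theorem F282120 : act 0 n63156 = n62449 := d2_1 D63156 (iv D62449) (iv F278796)
theorem F282121 : act 5 n63156 = n62534 := d25_2 F280596 D63156 (iv F280594)
theorem F282122 : act 6 n63156 = n62518 := d26_2 (iv F278798) D63156 F279054
def n63157 : Q := act 4 n62449
theorem D63157 : act 4 n62449 = n63157 := rfl
theorem F282123 : act 1 n63157 = n62457 := d11_1 D63157 (iv D62457) (iv F278800)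
theorem F282124 : act 6 n63157 = n62517 := d31_2 (iv F278802) D63157 F279052
def n63158 : Q := act 1 n62452
theorem D63158 : act 1 n62452 = n63158 := rfl
theorem F282125 : act 2 n63158 = n62484 := d9_2 D62452 D63158 F278946 F274603 (iv F274400)
theorem F282126 : act 3 n63158 = n62466 := d10_2 (iv F278811) D63158 F278872
theorem F282127 : act 6 n63158 = n62453 := d13_2 (iv F278812) D63158 (iv D62453)
theorem F282128 : act 7 n63158 = n62482 := d14_2 (iv F278813) D63158 F278940
def n63159 : Q := act 8 n62453
theorem D63159 : act 8 n62453 = n63159 := rfl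
theorem F282129 : act 1 n63159 = n62454 := d15_1 D63159 (iv D62454) D62453
theorem F282130 : act 2 n63159 = n62468 := d22_1 D63159 F278886 (iv F278814)
theorem F282131 : act 5 n63159 = n62466 := d37_1 D63159 F278876 (iv F278816)
theorem F282132 : act 7 n63159 = n62455 := d42_1 D63159 (iv D62455) (iv F278817)
def n63160 : Q := act 3 n62455
theorem D63160 : act 3 n62455 = n63160 := rfl
theorem F282133 : act 1 n63160 = n62456 := d10_1 D63160 (iv D62456) (iv F278822)
theorem F282134 : act 5 n63160 = n62482 := d25_2 (iv F278824) D63160 F278941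
theorem F282135 : act 6 n63160 = n62468 := d26_2 (iv F278825) D63160 F278884
theorem F282136 : act 8 n63160 = n62484 := d28_2 D62455 D63160 (iv D62484) F274602 (iv F274421)
def n63161 : Q := act 3 n62459
theorem D63161 : act 3 n62459 = n63161 := rfl
theorem F282137 : act 0 n63161 = n62460 := d2_1 D63161 (iv D62460) (iv F278839)
theorem F282138 : act 1 n63161 = n62617 := d10_1 D63161 (iv D62617) (iv F278840)
theorem F282139 : act 4 n63161 = n62543 := d24_2 D62459 D63161 (iv D62543) (iv D61629) (iv F274451)
theorem F282140 : act 5 n63161 = n62519 := d25_2 (iv F278842) D63161 (iv D62519)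
theorem F282141 : act 6 n63161 = n62588 := d26_2 (iv F278843) D63161 (iv D62588)
theorem F282142 : act 7 n63161 = n62572 := d27_2 (iv F278844) D63161 (iv D62572)
def n63162 : Q := act 2 n62460
theorem D63162 : act 2 n62460 = n63162 := rfl
theorem F282143 : act 1 n63162 = n63162 := d9_1 D63162 (iv D63162) F278846 F274463 (iv F278846)
theorem F282144 : act 3 n63162 = n62580 := d17_2 D62460 D63162 (iv D62580) (iv D61693) (iv F274457)
theorem F282145 : act 4 n63162 = n62544 := d18_2 (iv F278847) D63162 (iv D62544)
theorem F282146 : act 5 n63162 = n62520 := d19_2 (iv F278848) D63162 (iv D62520)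
theorem F282147 : act 6 n63162 = n62589 := d20_2 (iv F278849) D63162 (iv D62589)
theorem F282148 : act 7 n63162 = n62573 := d21_2 (iv F278850) D63162 (iv D62573)
def n63163 : Q := act 3 n62463
theorem D63163 : act 3 n62463 = n63163 := rfl
theorem F282149 : act 0 n63163 = n62464 := d2_1 D63163 (iv D62464) (iv F278862)
theorem F282150 : act 1 n63163 = n62513 := d10_1 D63163 (iv D62513) (iv F278863)
theorem F282151 : act 8 n63163 = n62612 := d28_2 (iv F278864) D63163 (iv D62612) F275149 (iv F274508)
def n63164 : Q := act 2 n62464
theorem D63164 : act 2 n62464 = n63164 := rfl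
theorem F282152 : act 1 n63164 = n63164 := d9_1 D63164 (iv D63164) F278865 F274504 (iv F278865)
theorem F282153 : act 8 n63164 = n62613 := d22_2 (iv F278866) D63164 (iv D62613)
def n63165 : Q := act 4 n62465
theorem D63165 : act 4 n62465 = n63165 := rfl
theorem F282154 : act 0 n63165 = n62466 := d3_1 D63165 (iv D62466) D62465
theorem F282155 : act 1 n63165 = n62591 := d11_1 D63165 (iv D62591) (iv F278867)
theorem F282156 : act 2 n63165 = n62467 := d18_1 D63165 (iv D62467) (iv F278868)
theorem F282157 : act 6 n63165 = n62472 := d31_2 (iv F278869) D63165 (iv D62472)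
theorem F282158 : act 7 n63165 = n62623 := d32_2 (iv F278870) D63165 F279314
theorem F282159 : act 8 n63165 = n62590 := d33_2 (iv F278871) D63165 (iv D62590)
def n63166 : Q := act 5 n62467
theorem D63166 : act 5 n62467 = n63166 := rfl
theorem F282160 : act 0 n63166 = n62468 := d4_1 D63166 (iv D62468) (iv F278877)
theorem F282161 : act 1 n63166 = n62518 := d12_1 D63166 (iv D62518) (iv F278878)
theorem F282162 : act 3 n63166 = n62489 := d25_1 D63166 (iv D62489) (iv F278879)
theorem F282163 : act 7 n63166 = n62624 := d36_2 (iv F278881) D63166 F279317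
theorem F282164 : act 8 n63166 = n62622 := d37_2 (iv F278882) D63166 F279310
def n63167 : Q := act 3 n62469
theorem D63167 : act 3 n62469 = n63167 := rfl
theorem F282165 : act 0 n63167 = n62470 := d2_1 D63167 (iv D62470) (iv F278887)
theorem F282166 : act 1 n63167 = n62519 := d10_1 D63167 (iv D62519) (iv F278888)
theorem F282167 : act 5 n63167 = n62617 := d25_2 (iv F278889) D63167 (iv D62617)
def n63168 : Q := act 2 n62470
theorem D63168 : act 2 n62470 = n63168 := rfl
theorem F282168 : act 1 n63168 = n63168 := d9_1 D63168 (iv D63168) F278890 F274539 (iv F278890)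
theorem F282169 : act 5 n63168 = n62618 := d19_2 (iv F278891) D63168 (iv D62618)
def n63169 : Q := act 8 n62470
theorem D63169 : act 8 n62470 = n63169 := rfl
theorem F282170 : act 1 n63169 = n62471 := d15_1 D63169 (iv D62471) (iv F278890)
theorem F282171 : act 3 n63169 = n62562 := d28_1 D63169 F279173 (iv F275223) F275227 D62470
theorem F282172 : act 5 n63169 = n62561 := d37_1 D63169 F279170 (iv F278891)
def n63170 : Q := act 9 n62471
theorem D63170 : act 9 n62471 = n63170 := rfl
theorem F282173 : act 0 n63170 = n62522 := d8_1 D63170 (iv D62522) (iv F278892)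
theorem F282174 : act 2 n63170 = n63170 := d23_1 D63170 (iv D63170) F278893
theorem F282175 : act 3 n63170 = n62559 := d29_1 D63170 F279164 (iv F278894)
theorem F282176 : act 5 n63170 = n62558 := d38_1 D63170 F279161 (iv F278895)
def n63171 : Q := act 5 n62472
theorem D63171 : act 5 n62472 = n63171 := rfl
theorem F282177 : act 0 n63171 = n62473 := d4_1 D63171 (iv D62473) (iv F278896)
theorem F282178 : act 1 n63171 = n62592 := d12_1 D63171 (iv F280577) F280574
theorem F282179 : act 2 n63171 = n62481 := d19_1 D63171 (iv D62481) (iv F278897)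
theorem F282180 : act 3 n63171 = n62590 := d25_1 D63171 (iv F282015) F282014
theorem F282181 : act 7 n63171 = n62486 := d36_2 (iv F278898) D63171 (iv D62486)
def n63172 : Q := act 4 n62474
theorem D63172 : act 4 n62474 = n63172 := rfl
theorem F282182 : act 0 n63172 = n62475 := d3_1 D63172 (iv D62475) D62474
theorem F282183 : act 1 n63172 = n62527 := d11_1 D63172 (iv D62527) (iv F278903)
theorem F282184 : act 7 n63172 = n62487 := d32_2 (iv F278906) D63172 (iv D62487)
theorem F282185 : act 8 n63172 = n62480 := d33_2 (iv F278907) D63172 (iv D62480)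
def n63173 : Q := act 3 n62475
theorem D63173 : act 3 n62475 = n63173 := rfl
theorem F282186 : act 1 n63173 = n62476 := d10_1 D63173 (iv D62476) (iv F278908)
theorem F282187 : act 4 n63173 = n62569 := d24_2 D62475 D63173 (iv D62569) (iv D61665) (iv F274550)
theorem F282188 : act 7 n63173 = n62488 := d27_2 (iv F278909) D63173 (iv D62488)
theorem F282189 : act 8 n63173 = n62583 := d28_2 (iv F278910) D63173 (iv D62583) F275047 (iv F274583)
def n63174 : Q := act 5 n62477
theorem D63174 : act 5 n62477 = n63174 := rfl
theorem F282190 : act 0 n63174 = n62478 := d4_1 D63174 (iv D62478) (iv F278916)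
theorem F282191 : act 1 n63174 = n62532 := d12_1 D63174 (iv D62532) (iv F278917)
theorem F282192 : act 3 n63174 = n62624 := d25_1 D63174 F279317 (iv F278918)
theorem F282193 : act 7 n63174 = n62489 := d36_2 (iv F278920) D63174 (iv D62489)
theorem F282194 : act 8 n63174 = n62481 := d37_2 (iv F278921) D63174 (iv D62481)
def n63175 : Q := act 6 n62478
theorem D63175 : act 6 n62478 = n63175 := rfl
theorem F282195 : act 1 n63175 = n62479 := d13_1 D63175 (iv D62479) (iv F278922)
theorem F282196 : act 3 n63175 = n62485 := d26_1 D63175 F278950 (iv F278923)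
theorem F282197 : act 5 n63175 = n62484 := d35_1 D63175 F278947 F275177 (iv F274565) D62478
theorem F282198 : act 8 n63175 = n62482 := d40_2 (iv F278925) D63175 (iv D62482)
def n63176 : Q := act 6 n62481
theorem D63176 : act 6 n62481 = n63176 := rfl
theorem F282199 : act 0 n63176 = n62482 := d5_1 D63176 (iv D62482) (iv F278936)
theorem F282200 : act 1 n63176 = n62534 := d13_1 D63176 (iv D62534) (iv F278937)
theorem F282201 : act 3 n63176 = n62623 := d26_1 D63176 (iv D62623) (iv F278938)
def n63177 : Q := act 3 n62483
theorem D63177 : act 3 n62483 = n63177 := rfl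
theorem F282202 : act 0 n63177 = n62484 := d2_1 D63177 (iv D62484) (iv F278942)
theorem F282203 : act 6 n63177 = n62622 := d26_2 (iv F278944) D63177 (iv D62622)
def n63178 : Q := act 5 n62483
theorem D63178 : act 5 n62483 = n63178 := rfl
theorem F282204 : act 0 n63178 = n62485 := d4_1 D63178 (iv D62485) (iv F278942)
theorem F282205 : act 2 n63178 = n62489 := d19_1 D63178 (iv D62489) (iv F278943)
theorem F282206 : act 6 n63178 = n62624 := d35_2 (iv F278944) D63178 F279317 F275206 (iv F275173)
theorem F282207 : act 8 n63178 = n62486 := d37_2 (iv F278945) D63178 (iv D62486)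
def n63179 : Q := act 3 n62487
theorem D63179 : act 3 n62487 = n63179 := rfl
theorem F282208 : act 0 n63179 = n62488 := d2_1 D63179 (iv D62488) (iv F278956)
theorem F282209 : act 1 n63179 = n62543 := d10_1 D63179 (iv D62543) (iv F278957)
theorem F282210 : act 4 n63179 = n62617 := d24_2 D62487 D63179 (iv D62617) (iv D61747) (iv F274616)
theorem F282211 : act 6 n63179 = n62615 := d26_2 (iv F278958) D63179 (iv D62615)
theorem F282212 : act 8 n63179 = n62586 := d28_2 (iv F278959) D63179 (iv D62586) F275067 (iv F274636)
def n63180 : Q := act 2 n62488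
theorem D63180 : act 2 n62488 = n63180 := rfl
theorem F282213 : act 1 n63180 = n63180 := d9_1 D63180 (iv D63180) F278960 F274624 (iv F278960)
theorem F282214 : act 4 n63180 = n62618 := d18_2 (iv F278961) D63180 (iv D62618)
theorem F282215 : act 6 n63180 = n62616 := d20_2 (iv F278962) D63180 (iv D62616)
theorem F282216 : act 8 n63180 = n62587 := d22_2 (iv F278963) D63180 (iv D62587)
def n63181 : Q := act 3 n62490
theorem D63181 : act 3 n62490 = n63181 := rfl
theorem F282217 : act 0 n63181 = n62491 := d2_1 D63181 (iv D62491) (iv F278967)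
theorem F282218 : act 4 n63181 = n62592 := d24_2 D62490 D63181 (iv D62592) (iv D61713) (iv F274641)
theorem F282219 : act 5 n63181 = n62614 := d25_2 (iv F278969) D63181 F279294
theorem F282220 : act 7 n63181 = n62602 := d27_2 (iv F278970) D63181 (iv D62602)
theorem F282221 : act 9 n63181 = n62622 := d29_2 (iv F278971) D63181 (iv D62622)
def n63182 : Q := act 3 n62492
theorem D63182 : act 3 n62492 = n63182 := rfl
theorem F282222 : act 0 n63182 = n62493 := d2_1 D63182 (iv D62493) (iv F278977)
theorem F282223 : act 4 n63182 = n62513 := d24_2 D62492 D63182 (iv D62513) (iv D61584) (iv F274655)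
theorem F282224 : act 7 n63182 = n62612 := d27_2 (iv F278978) D63182 (iv D62612)
def n63183 : Q := act 2 n62493
theorem D63183 : act 2 n62493 = n63183 := rfl
theorem F282225 : act 1 n63183 = n63183 := d9_1 D63183 (iv D63183) F278980 F274662 (iv F278980)
theorem F282226 : act 4 n63183 = n62514 := d18_2 (iv F278981) D63183 (iv D62514)
theorem F282227 : act 7 n63183 = n62613 := d21_2 (iv F278982) D63183 (iv D62613)
def n63184 : Q := act 4 n62494
theorem D63184 : act 4 n62494 = n63184 := rfl
theorem F282228 : act 0 n63184 = n62495 := d3_1 D63184 (iv D62495) D62494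
theorem F282229 : act 6 n63184 = n62507 := d31_2 (iv F278984) D63184 (iv D62507)
theorem F282230 : act 8 n63184 = n62498 := d33_2 (iv F278985) D63184 (iv D62498)
def n63185 : Q := act 3 n62495
theorem D63185 : act 3 n62495 = n63185 := rfl
theorem F282231 : act 1 n63185 = n62496 := d10_1 D63185 (iv D62496) (iv F278986)
theorem F282232 : act 4 n63185 = n62609 := d24_2 D62495 D63185 (iv D62609) (iv D61735) (iv F274668)
theorem F282233 : act 6 n63185 = n62508 := d26_2 (iv F278987) D63185 (iv D62508)
theorem F282234 : act 8 n63185 = n62512 := d28_2 (iv F278988) D63185 (iv D62512) F274748 (iv F274680)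
def n63186 : Q := act 5 n62495
theorem D63186 : act 5 n62495 = n63186 := rfl
theorem F282235 : act 1 n63186 = n62497 := d12_1 D63186 (iv D62497) (iv F278986)
theorem F282236 : act 8 n63186 = n62499 := d37_2 (iv F278988) D63186 (iv D62499)
def n63187 : Q := act 5 n62498
theorem D63187 : act 5 n62498 = n63187 := rfl
theorem F282237 : act 0 n63187 = n62499 := d4_1 D63187 (iv D62499) (iv F278995)
theorem F282238 : act 3 n63187 = n62545 := d25_1 D63187 (iv D62545) (iv F278996)
theorem F282239 : act 9 n63187 = n62518 := d38_2 (iv F278998) D63187 (iv D62518)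
def n63188 : Q := act 4 n62500
theorem D63188 : act 4 n62500 = n63188 := rfl
theorem F282240 : act 0 n63188 = n62501 := d3_1 D63188 (iv D62501) D62500
theorem F282241 : act 2 n63188 = n62507 := d18_1 D63188 (iv D62507) (iv F279002)
theorem F282242 : act 7 n63188 = n62509 := d32_2 (iv F279004) D63188 (iv D62509)
theorem F282243 : act 8 n63188 = n62503 := d33_2 (iv F279005) D63188 (iv D62503)
def n63189 : Q := act 3 n62501
theorem D63189 : act 3 n62501 = n63189 := rfl
theorem F282244 : act 1 n63189 = n62502 := d10_1 D63189 (iv D62502) (iv F279006)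
theorem F282245 : act 7 n63189 = n62510 := d27_2 (iv F279008) D63189 (iv D62510)
theorem F282246 : act 8 n63189 = n62571 := d28_2 (iv F279009) D63189 (iv D62571) F274983 (iv F274700)
def n63190 : Q := act 4 n62504
theorem D63190 : act 4 n62504 = n63190 := rfl
theorem F282247 : act 0 n63190 = n62505 := d3_1 D63190 (iv D62505) D62504
theorem F282248 : act 7 n63190 = n62511 := d32_2 (iv F279020) D63190 (iv D62511)
theorem F282249 : act 8 n63190 = n62529 := d33_2 (iv F279021) D63190 (iv D62529)
theorem F282250 : act 9 n63190 = n62507 := d34_2 (iv F279022) D63190 (iv D62507)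
def n63191 : Q := act 3 n62505
theorem D63191 : act 3 n62505 = n63191 := rfl
theorem F282251 : act 1 n63191 = n62506 := d10_1 D63191 (iv D62506) (iv F279023)
theorem F282252 : act 4 n63191 = n62611 := d24_2 D62505 D63191 (iv D62611) (iv D61738) (iv F274703)
theorem F282253 : act 7 n63191 = n62512 := d27_2 (iv F279024) D63191 (iv D62512)
theorem F282254 : act 9 n63191 = n62508 := d29_2 (iv F279026) D63191 (iv D62508)
def n63192 : Q := act 3 n62507
theorem D63192 : act 3 n62507 = n63192 := rfl
theorem F282255 : act 0 n63192 = n62508 := d2_1 D63192 (iv D62508) (iv F279031)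
theorem F282256 : act 4 n63192 = n62612 := d24_2 D62507 D63192 (iv D62612) (iv D61740) (iv F274712)
theorem F282257 : act 7 n63192 = n62513 := d27_2 (iv F279032) D63192 (iv D62513)
def n63193 : Q := act 2 n62508
theorem D63193 : act 2 n62508 = n63193 := rfl
theorem F282258 : act 1 n63193 = n63193 := d9_1 D63193 (iv D63193) F279034 F274719 (iv F279034)
theorem F282259 : act 4 n63193 = n62613 := d18_2 (iv F279035) D63193 (iv D62613)
theorem F282260 : act 7 n63193 = n62514 := d21_2 (iv F279036) D63193 (iv D62514)
def n63194 : Q := act 3 n62509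
theorem D63194 : act 3 n62509 = n63194 := rfl
theorem F282261 : act 0 n63194 = n62510 := d2_1 D63194 (iv D62510) (iv F279037)
def n63195 : Q := act 2 n62510
theorem D63195 : act 2 n62510 = n63195 := rfl
theorem F282262 : act 1 n63195 = n63195 := d9_1 D63195 (iv D63195) F279040 F274730 (iv F279040)
theorem F282263 : act 3 n63195 = n62514 := d17_2 D62510 D63195 (iv D62514) (iv D61585) (iv F274728)
def n63196 : Q := act 3 n62511
theorem D63196 : act 3 n62511 = n63196 := rfl
theorem F282264 : act 0 n63196 = n62512 := d2_1 D63196 (iv D62512) (iv F279041)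
theorem F282265 : act 9 n63196 = n62513 := d29_2 (iv F279043) D63196 (iv D62513)
def n63197 : Q := act 2 n62512
theorem D63197 : act 2 n62512 = n63197 := rfl
theorem F282266 : act 1 n63197 = n63197 := d9_1 D63197 (iv D63197) F279044 F274750 (iv F279044)
theorem F282267 : act 9 n63197 = n62514 := d23_2 (iv F279045) D63197 (iv D62514)
def n63198 : Q := act 2 n62513
theorem D63198 : act 2 n62513 = n63198 := rfl
theorem F282268 : act 0 n63198 = n62514 := d1_1 D63198 (iv D62514) (iv F279046)
def n63199 : Q := act 3 n62515
theorem D63199 : act 3 n62515 = n63199 := rfl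
theorem F282269 : act 0 n63199 = n62516 := d2_1 D63199 (iv D62516) (iv F279048)
theorem F282270 : act 4 n63199 = n62519 := d24_2 D62515 D63199 (iv D62519) (iv D61592) (iv F274755)
def n63200 : Q := act 5 n62515
theorem D63200 : act 5 n62515 = n63200 := rfl
theorem F282271 : act 0 n63200 = n62517 := d4_1 D63200 (iv D62517) (iv F279048)
theorem F282272 : act 4 n63200 = n62518 := d30_1 D63200 (iv D62518) (iv D61590) (iv F274756) D62515
def n63201 : Q := act 2 n62516
theorem D63201 : act 2 n62516 = n63201 := rfl
theorem F282273 : act 1 n63201 = n63201 := d9_1 D63201 (iv D63201) F279049 F274758 (iv F279049)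
theorem F282274 : act 4 n63201 = n62520 := d18_2 (iv F279050) D63201 (iv D62520)
def n63202 : Q := act 2 n62519
theorem D63202 : act 2 n62519 = n63202 := rfl
theorem F282275 : act 0 n63202 = n62520 := d1_1 D63202 (iv D62520) (iv F279055)
theorem F282276 : act 3 n63202 = n62619 := d17_2 D62519 D63202 (iv D62619) (iv D61749) (iv F274768)
def n63203 : Q := act 8 n62519
theorem D63203 : act 8 n62519 = n63203 := rfl
theorem F282277 : act 0 n63203 = n62521 := d7_1 D63203 (iv D62521) (iv F279055)
def n63204 : Q := act 8 n62520
theorem D63204 : act 8 n62520 = n63204 := rfl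
theorem F282278 : act 1 n63204 = n63204 := d15_1 D63204 (iv D63204) F279056
theorem F282279 : act 2 n63204 = n62521 := d22_1 D63204 (iv D62521) D62520
def n63205 : Q := act 9 n62521
theorem D63205 : act 9 n62521 = n63205 := rfl
theorem F282280 : act 1 n63205 = n62522 := d16_1 D63205 (iv D62522) (iv F279058)
def n63206 : Q := act 4 n62524
theorem D63206 : act 4 n62524 = n63206 := rfl
theorem F282281 : act 0 n63206 = n62525 := d3_1 D63206 (iv D62525) D62524
theorem F282282 : act 7 n63206 = n62541 := d32_2 (iv F279066) D63206 (iv D62541)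
theorem F282283 : act 8 n63206 = n62593 := d33_2 (iv F279067) D63206 (iv D62593)
theorem F282284 : act 9 n63206 = n62527 := d34_2 (iv F279068) D63206 (iv D62527)
def n63207 : Q := act 3 n62525
theorem D63207 : act 3 n62525 = n63207 := rfl
theorem F282285 : act 1 n63207 = n62526 := d10_1 D63207 (iv D62526) (iv F279069)
theorem F282286 : act 4 n63207 = n62571 := d24_2 D62525 D63207 (iv D62571) (iv D61671) (iv F274784)
theorem F282287 : act 7 n63207 = n62542 := d27_2 (iv F279070) D63207 (iv D62542)
theorem F282288 : act 9 n63207 = n62528 := d29_2 (iv F279072) D63207 (iv D62528)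
def n63208 : Q := act 3 n62527
theorem D63208 : act 3 n62527 = n63208 := rfl
theorem F282289 : act 0 n63208 = n62528 := d2_1 D63208 (iv D62528) (iv F279077)
theorem F282290 : act 4 n63208 = n62572 := d24_2 D62527 D63208 (iv D62572) (iv D61673) (iv F274793)
theorem F282291 : act 7 n63208 = n62543 := d27_2 (iv F279078) D63208 (iv D62543)
def n63209 : Q := act 2 n62528
theorem D63209 : act 2 n62528 = n63209 := rfl
theorem F282292 : act 1 n63209 = n63209 := d9_1 D63209 (iv D63209) F279080 F274800 (iv F279080)
theorem F282293 : act 4 n63209 = n62573 := d18_2 (iv F279081) D63209 (iv D62573)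
theorem F282294 : act 7 n63209 = n62544 := d21_2 (iv F279082) D63209 (iv D62544)
def n63210 : Q := act 5 n62529
theorem D63210 : act 5 n62529 = n63210 := rfl
theorem F282295 : act 0 n63210 = n62530 := d4_1 D63210 (iv D62530) (iv F279083)
theorem F282296 : act 7 n63210 = n62545 := d36_2 (iv F279084) D63210 (iv D62545)
theorem F282297 : act 9 n63210 = n62532 := d38_2 (iv F279085) D63210 (iv D62532)
def n63211 : Q := act 6 n62530
theorem D63211 : act 6 n62530 = n63211 := rfl
theorem F282298 : act 1 n63211 = n62531 := d13_1 D63211 (iv D62531) (iv F279086)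
theorem F282299 : act 9 n63211 = n62533 := d41_2 (iv F279088) D63211 (iv D62533)
def n63212 : Q := act 6 n62532
theorem D63212 : act 6 n62532 = n63212 := rfl
theorem F282300 : act 0 n63212 = n62533 := d5_1 D63212 (iv D62533) (iv F279091)
theorem F282301 : act 8 n63212 = n62534 := d40_2 (iv F279093) D63212 (iv D62534)
def n63213 : Q := act 3 n62536
theorem D63213 : act 3 n62536 = n63213 := rfl
theorem F282302 : act 0 n63213 = n62537 := d2_1 D63213 (iv D62537) (iv F279102)
def n63214 : Q := act 2 n62537
theorem D63214 : act 2 n62537 = n63214 := rfl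
theorem F282303 : act 1 n63214 = n63214 := d9_1 D63214 (iv D63214) F279105 F274843 (iv F279105)
theorem F282304 : act 3 n63214 = n62544 := d17_2 D62537 D63214 (iv D62544) (iv D61630) (iv F274841)
def n63215 : Q := act 3 n62539
theorem D63215 : act 3 n62539 = n63215 := rfl
theorem F282305 : act 0 n63215 = n62540 := d2_1 D63215 (iv D62540) (iv F279109)
theorem F282306 : act 1 n63215 = n62615 := d10_1 D63215 (iv D62615) (iv F279110)
theorem F282307 : act 4 n63215 = n62588 := d24_2 D62539 D63215 (iv D62588) (iv D61707) (iv F274861)
theorem F282308 : act 6 n63215 = n62543 := d26_2 (iv F279111) D63215 (iv D62543)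
def n63216 : Q := act 2 n62540
theorem D63216 : act 2 n62540 = n63216 := rfl
theorem F282309 : act 1 n63216 = n63216 := d9_1 D63216 (iv D63216) F279113 F274869 (iv F279113)
theorem F282310 : act 4 n63216 = n62589 := d18_2 (iv F279114) D63216 (iv D62589)
theorem F282311 : act 6 n63216 = n62544 := d20_2 (iv F279115) D63216 (iv D62544)
def n63217 : Q := act 3 n62541
theorem D63217 : act 3 n62541 = n63217 := rfl
theorem F282312 : act 0 n63217 = n62542 := d2_1 D63217 (iv D62542) (iv F279116)
theorem F282313 : act 9 n63217 = n62543 := d29_2 (iv F279117) D63217 (iv D62543)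
def n63218 : Q := act 2 n62542
theorem D63218 : act 2 n62542 = n63218 := rfl
theorem F282314 : act 1 n63218 = n63218 := d9_1 D63218 (iv D63218) F279118 F274876 (iv F279118)
theorem F282315 : act 9 n63218 = n62544 := d23_2 (iv F279119) D63218 (iv D62544)
def n63219 : Q := act 2 n62543
theorem D63219 : act 2 n62543 = n63219 := rfl
theorem F282316 : act 0 n63219 = n62544 := d1_1 D63219 (iv D62544) (iv F279120)
def n63220 : Q := act 4 n62548
theorem D63220 : act 4 n62548 = n63220 := rfl
theorem F282317 : act 0 n63220 = n62549 := d3_1 D63220 (iv D62549) D62548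
theorem F282318 : act 6 n63220 = n62582 := d31_2 (iv F279129) D63220 (iv D62582)
theorem F282319 : act 8 n63220 = n62563 := d33_2 (iv F279130) D63220 (iv D62563)
theorem F282320 : act 9 n63220 = n62552 := d34_2 (iv F279131) D63220 (iv D62552)
def n63221 : Q := act 3 n62549
theorem D63221 : act 3 n62549 = n63221 := rfl
theorem F282321 : act 1 n63221 = n62550 := d10_1 D63221 (iv D62550) (iv F279132)
theorem F282322 : act 6 n63221 = n62583 := d26_2 (iv F279133) D63221 (iv D62583)
theorem F282323 : act 9 n63221 = n62553 := d29_2 (iv F279135) D63221 (iv D62553)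
def n63222 : Q := act 5 n62549
theorem D63222 : act 5 n62549 = n63222 := rfl
theorem F282324 : act 1 n63222 = n62551 := d12_1 D63222 (iv D62551) (iv F279132)
theorem F282325 : act 8 n63222 = n62564 := d37_2 (iv F279134) D63222 (iv D62564)
theorem F282326 : act 9 n63222 = n62554 := d38_2 (iv F279135) D63222 (iv D62554)
def n63223 : Q := act 3 n62552
theorem D63223 : act 3 n62552 = n63223 := rfl
theorem F282327 : act 0 n63223 = n62553 := d2_1 D63223 (iv D62553) (iv F279142)
theorem F282328 : act 8 n63223 = n62572 := d28_2 (iv F279143) D63223 (iv D62572) F274988 (iv F274916)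
def n63224 : Q := act 5 n62552
theorem D63224 : act 5 n62552 = n63224 := rfl
theorem F282329 : act 0 n63224 = n62554 := d4_1 D63224 (iv D62554) (iv F279142)
theorem F282330 : act 8 n63224 = n62555 := d37_2 (iv F279143) D63224 (iv D62555)
def n63225 : Q := act 2 n62553
theorem D63225 : act 2 n62553 = n63225 := rfl
theorem F282331 : act 1 n63225 = n63225 := d9_1 D63225 (iv D63225) F279144 F274911 (iv F279144)
theorem F282332 : act 8 n63225 = n62573 := d22_2 (iv F279145) D63225 (iv D62573)
def n63226 : Q := act 4 n62556
theorem D63226 : act 4 n62556 = n63226 := rfl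
theorem F282333 : act 0 n63226 = n62557 := d3_1 D63226 (iv D62557) D62556
theorem F282334 : act 6 n63226 = n62575 := d31_2 (iv F279153) D63226 (iv D62575)
theorem F282335 : act 9 n63226 = n62560 := d34_2 (iv F279154) D63226 (iv D62560)
def n63227 : Q := act 3 n62557
theorem D63227 : act 3 n62557 = n63227 := rfl
theorem F282336 : act 1 n63227 = n62558 := d10_1 D63227 (iv D62558) (iv F279155)
theorem F282337 : act 4 n63227 = n62578 := d24_2 D62557 D63227 (iv D62578) (iv D61690) (iv F274921)
theorem F282338 : act 6 n63227 = n62576 := d26_2 (iv F279156) D63227 (iv D62576)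
theorem F282339 : act 9 n63227 = n62561 := d29_2 (iv F279157) D63227 (iv D62561)
def n63228 : Q := act 5 n62557
theorem D63228 : act 5 n62557 = n63228 := rfl
theorem F282340 : act 1 n63228 = n62559 := d12_1 D63228 (iv D62559) (iv F279155)
theorem F282341 : act 4 n63228 = n62564 := d30_1 D63228 (iv D62564) (iv D61656) (iv F274922) D62557
theorem F282342 : act 9 n63228 = n62562 := d38_2 (iv F279157) D63228 (iv D62562)
def n63229 : Q := act 3 n62560
theorem D63229 : act 3 n62560 = n63229 := rfl
theorem F282343 : act 0 n63229 = n62561 := d2_1 D63229 (iv D62561) (iv F279165)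
theorem F282344 : act 4 n63229 = n62586 := d24_2 D62560 D63229 (iv D62586) (iv D61704) (iv F274931)
theorem F282345 : act 6 n63229 = n62620 := d26_2 F280773 D63229 F280777
theorem F282346 : act 8 n63229 = n62617 := d28_2 (iv F279166) D63229 (iv D62617) (iv F275282) F275279
def n63230 : Q := act 5 n62560
theorem D63230 : act 5 n62560 = n63230 := rfl
theorem F282347 : act 0 n63230 = n62562 := d4_1 D63230 (iv D62562) (iv F279165)
theorem F282348 : act 4 n63230 = n62565 := d30_1 D63230 (iv D62565) (iv D61658) (iv F274932) D62560
theorem F282349 : act 8 n63230 = n62566 := d37_2 (iv F279166) D63230 (iv D62566)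
def n63231 : Q := act 2 n62561
theorem D63231 : act 2 n62561 = n63231 := rfl
theorem F282350 : act 1 n63231 = n63231 := d9_1 D63231 (iv D63231) F279167 F274936 (iv F279167)
theorem F282351 : act 4 n63231 = n62587 := d18_2 (iv F279168) D63231 (iv D62587)
theorem F282352 : act 6 n63231 = n62621 := d20_2 (iv F279169) D63231 F279308
theorem F282353 : act 8 n63231 = n62618 := d22_2 (iv F279170) D63231 (iv D62618)
def n63232 : Q := act 5 n62563
theorem D63232 : act 5 n62563 = n63232 := rfl
theorem F282354 : act 0 n63232 = n62564 := d4_1 D63232 (iv D62564) (iv F279174)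
theorem F282355 : act 9 n63232 = n62565 := d38_2 (iv F279176) D63232 (iv D62565)
def n63233 : Q := act 3 n62568
theorem D63233 : act 3 n62568 = n63233 := rfl
theorem F282356 : act 0 n63233 = n62569 := d2_1 D63233 (iv D62569) (iv F279185)
theorem F282357 : act 1 n63233 = n62572 := d10_1 D63233 (iv D62572) (iv F279186)
theorem F282358 : act 7 n63233 = n62617 := d27_2 (iv F279187) D63233 (iv D62617)
def n63234 : Q := act 2 n62569
theorem D63234 : act 2 n62569 = n63234 := rfl
theorem F282359 : act 1 n63234 = n63234 := d9_1 D63234 (iv D63234) F279189 F274970 (iv F279189)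
theorem F282360 : act 7 n63234 = n62618 := d21_2 (iv F279190) D63234 (iv D62618)
def n63235 : Q := act 3 n62570
theorem D63235 : act 3 n62570 = n63235 := rfl
theorem F282361 : act 0 n63235 = n62571 := d2_1 D63235 (iv D62571) (iv F279191)
theorem F282362 : act 9 n63235 = n62572 := d29_2 (iv F279193) D63235 (iv D62572)
def n63236 : Q := act 2 n62571
theorem D63236 : act 2 n62571 = n63236 := rfl
theorem F282363 : act 1 n63236 = n63236 := d9_1 D63236 (iv D63236) F279194 F274985 (iv F279194)
theorem F282364 : act 9 n63236 = n62573 := d23_2 (iv F279195) D63236 (iv D62573)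
def n63237 : Q := act 2 n62572
theorem D63237 : act 2 n62572 = n63237 := rfl
theorem F282365 : act 0 n63237 = n62573 := d1_1 D63237 (iv D62573) (iv F279196)
def n63238 : Q := act 3 n62575
theorem D63238 : act 3 n62575 = n63238 := rfl
theorem F282366 : act 0 n63238 = n62576 := d2_1 D63238 (iv D62576) (iv F279201)
theorem F282367 : act 4 n63238 = n62579 := d24_2 D62575 D63238 (iv D62579) (iv D61692) (iv F275014)
theorem F282368 : act 9 n63238 = n62620 := d29_2 F280776 D63238 F280777
def n63239 : Q := act 2 n62576
theorem D63239 : act 2 n62576 = n63239 := rfl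
theorem F282369 : act 1 n63239 = n63239 := d9_1 D63239 (iv D63239) F279202 F275017 (iv F279202)
theorem F282370 : act 4 n63239 = n62580 := d18_2 (iv F279203) D63239 (iv D62580)
theorem F282371 : act 9 n63239 = n62621 := d23_2 (iv F279204) D63239 F279308
def n63240 : Q := act 3 n62577
theorem D63240 : act 3 n62577 = n63240 := rfl
theorem F282372 : act 0 n63240 = n62578 := d2_1 D63240 (iv D62578) (iv F279205)
theorem F282373 : act 6 n63240 = n62579 := d26_2 (iv F279207) D63240 (iv D62579)
theorem F282374 : act 9 n63240 = n62586 := d29_2 (iv F279208) D63240 (iv D62586)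
def n63241 : Q := act 2 n62578
theorem D63241 : act 2 n62578 = n63241 := rfl
theorem F282375 : act 1 n63241 = n63241 := d9_1 D63241 (iv D63241) F279209 F275028 (iv F279209)
theorem F282376 : act 3 n63241 = n62589 := d17_2 D62578 D63241 (iv D62589) (iv D61708) (iv F275025)
theorem F282377 : act 6 n63241 = n62580 := d20_2 (iv F279210) D63241 (iv D62580)
theorem F282378 : act 9 n63241 = n62587 := d23_2 (iv F279211) D63241 (iv D62587)
def n63242 : Q := act 2 n62579
theorem D63242 : act 2 n62579 = n63242 := rfl
theorem F282379 : act 0 n63242 = n62580 := d1_1 D63242 (iv D62580) (iv F279212)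
theorem F282380 : act 5 n63242 = n62619 := d19_2 (iv F279213) D63242 (iv D62619)
def n63243 : Q := act 3 n62582
theorem D63243 : act 3 n62582 = n63243 := rfl
theorem F282381 : act 0 n63243 = n62583 := d2_1 D63243 (iv D62583) (iv F279219)
theorem F282382 : act 7 n63243 = n62586 := d27_2 (iv F279220) D63243 (iv D62586)
def n63244 : Q := act 2 n62583
theorem D63244 : act 2 n62583 = n63244 := rfl
theorem F282383 : act 1 n63244 = n63244 := d9_1 D63244 (iv D63244) F279222 F275048 (iv F279222)
theorem F282384 : act 7 n63244 = n62587 := d21_2 (iv F279223) D63244 (iv D62587)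
def n63245 : Q := act 3 n62584
theorem D63245 : act 3 n62584 = n63245 := rfl
theorem F282385 : act 0 n63245 = n62585 := d2_1 D63245 (iv D62585) (iv F279224)
theorem F282386 : act 1 n63245 = n62596 := d10_1 D63245 (iv D62596) (iv F279225)
theorem F282387 : act 9 n63245 = n62588 := d29_2 (iv F279228) D63245 (iv D62588)
def n63246 : Q := act 2 n62585
theorem D63246 : act 2 n62585 = n63246 := rfl
theorem F282388 : act 1 n63246 = n63246 := d9_1 D63246 (iv D63246) F279229 F275062 (iv F279229)
theorem F282389 : act 3 n63246 = n62587 := d17_2 D62585 D63246 (iv D62587) (iv D61705) (iv F275058)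
theorem F282390 : act 9 n63246 = n62589 := d23_2 (iv F279230) D63246 (iv D62589)
def n63247 : Q := act 2 n62586
theorem D63247 : act 2 n62586 = n63247 := rfl
theorem F282391 : act 0 n63247 = n62587 := d1_1 D63247 (iv D62587) (iv F279231)
def n63248 : Q := act 2 n62588
theorem D63248 : act 2 n62588 = n63248 := rfl
theorem F282392 : act 0 n63248 = n62589 := d1_1 D63248 (iv D62589) (iv F279233)
def n63249 : Q := act 3 n62594
theorem D63249 : act 3 n62594 = n63249 := rfl
theorem F282393 : act 0 n63249 = n62595 := d2_1 D63249 (iv D62595) (iv F279246)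
theorem F282394 : act 4 n63249 = n62596 := d24_2 D62594 D63249 (iv D62596) (iv D61721) (iv F275094)
theorem F282395 : act 9 n63249 = n62615 := d29_2 (iv F279247) D63249 (iv D62615)
def n63250 : Q := act 2 n62595
theorem D63250 : act 2 n62595 = n63250 := rfl
theorem F282396 : act 1 n63250 = n63250 := d9_1 D63250 (iv D63250) F279248 F275099 (iv F279248)
theorem F282397 : act 4 n63250 = n62597 := d18_2 (iv F279249) D63250 (iv D62597)
theorem F282398 : act 9 n63250 = n62616 := d23_2 (iv F279250) D63250 (iv D62616)
def n63251 : Q := act 2 n62596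
theorem D63251 : act 2 n62596 = n63251 := rfl
theorem F282399 : act 0 n63251 = n62597 := d1_1 D63251 (iv D62597) (iv F279251)
theorem F282400 : act 9 n63251 = n62619 := d23_2 (iv F279252) D63251 (iv D62619)
def n63252 : Q := act 3 n62599
theorem D63252 : act 3 n62599 = n63252 := rfl
theorem F282401 : act 0 n63252 = n62600 := d2_1 D63252 (iv D62600) (iv F279256)
def n63253 : Q := act 2 n62600
theorem D63253 : act 2 n62600 = n63253 := rfl
theorem F282402 : act 1 n63253 = n63253 := d9_1 D63253 (iv D63253) F279259 F275114 (iv F279259)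
theorem F282403 : act 3 n63253 = n62613 := d17_2 D62600 D63253 (iv D62613) (iv D61741) (iv F275112)
def n63254 : Q := act 8 n62600
theorem D63254 : act 8 n62600 = n63254 := rfl
theorem F282404 : act 1 n63254 = n62601 := d15_1 D63254 (iv D62601) (iv F279259)
theorem F282405 : act 3 n63254 = n62603 := d28_1 D63254 (iv D62603) (iv D61729) (iv F275113) D62600
theorem F282406 : act 5 n63254 = n62609 := d37_1 D63254 (iv F280031) F280028
def n63255 : Q := act 9 n62601
theorem D63255 : act 9 n62601 = n63255 := rfl
theorem F282407 : act 2 n63255 = n63255 := d23_1 D63255 (iv D63255) F279260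
theorem F282408 : act 3 n63255 = n62604 := d29_1 D63255 (iv D62604) (iv F279261)
theorem F282409 : act 5 n63255 = n62607 := d38_1 D63255 F279280 (iv F279262)
def n63256 : Q := act 8 n62602
theorem D63256 : act 8 n62602 = n63256 := rfl
theorem F282410 : act 0 n63256 = n62603 := d7_1 D63256 (iv D62603) (iv F279263)
theorem F282411 : act 5 n63256 = n62608 := d37_1 D63256 F279283 (iv F279264)
def n63257 : Q := act 9 n62603
theorem D63257 : act 9 n62603 = n63257 := rfl
theorem F282412 : act 1 n63257 = n62604 := d16_1 D63257 (iv D62604) (iv F279266)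
theorem F282413 : act 5 n63257 = n62606 := d38_1 D63257 F279277 (iv F279267)
theorem F282414 : act 8 n63257 = n62625 := d44_1 D63257 (iv D62625) (iv D61759) (iv F275120) D62603
def n63258 : Q := act 4 n62605
theorem D63258 : act 4 n62605 = n63258 := rfl
theorem F282415 : act 0 n63258 = n62606 := d3_1 D63258 (iv D62606) D62605
theorem F282416 : act 6 n63258 = n62610 := d31_2 (iv F279271) D63258 (iv D62610)
theorem F282417 : act 8 n63258 = n62626 := d33_2 (iv F279272) D63258 (iv D62626)
theorem F282418 : act 9 n63258 = n62608 := d34_2 (iv F279273) D63258 (iv D62608)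
def n63259 : Q := act 3 n62606
theorem D63259 : act 3 n62606 = n63259 := rfl
theorem F282419 : act 1 n63259 = n62607 := d10_1 D63259 (iv D62607) (iv F279274)
theorem F282420 : act 6 n63259 = n62611 := d26_2 (iv F279275) D63259 (iv D62611)
theorem F282421 : act 9 n63259 = n62609 := d29_2 (iv F279277) D63259 (iv D62609)
def n63260 : Q := act 3 n62608
theorem D63260 : act 3 n62608 = n63260 := rfl
theorem F282422 : act 0 n63260 = n62609 := d2_1 D63260 (iv D62609) (iv F279281)
theorem F282423 : act 6 n63260 = n62612 := d26_2 (iv F279282) D63260 (iv D62612)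
def n63261 : Q := act 2 n62609
theorem D63261 : act 2 n62609 = n63261 := rfl
theorem F282424 : act 1 n63261 = n63261 := d9_1 D63261 (iv D63261) F279284 F275138 (iv F279284)
theorem F282425 : act 6 n63261 = n62613 := d20_2 (iv F279285) D63261 (iv D62613)
def n63262 : Q := act 3 n62610
theorem D63262 : act 3 n62610 = n63262 := rfl
theorem F282426 : act 0 n63262 = n62611 := d2_1 D63262 (iv D62611) (iv F279286)
theorem F282427 : act 9 n63262 = n62612 := d29_2 (iv F279288) D63262 (iv D62612)
def n63263 : Q := act 2 n62611
theorem D63263 : act 2 n62611 = n63263 := rfl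
theorem F282428 : act 1 n63263 = n63263 := d9_1 D63263 (iv D63263) F279289 F275146 (iv F279289)
theorem F282429 : act 9 n63263 = n62613 := d23_2 (iv F279290) D63263 (iv D62613)
def n63264 : Q := act 2 n62612
theorem D63264 : act 2 n62612 = n63264 := rfl
theorem F282430 : act 0 n63264 = n62613 := d1_1 D63264 (iv D62613) (iv F279291)
def n63265 : Q := act 2 n62615
theorem D63265 : act 2 n62615 = n63265 := rfl
theorem F282431 : act 0 n63265 = n62616 := d1_1 D63265 (iv D62616) (iv F279297)
theorem F282432 : act 4 n63265 = n62619 := d18_2 (iv F279298) D63265 (iv D62619)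
def n63266 : Q := act 2 n62617
theorem D63266 : act 2 n62617 = n63266 := rfl
theorem F282433 : act 0 n63266 = n62618 := d1_1 D63266 (iv D62618) (iv F279301)
theorem F282434 : act 6 n63266 = n62619 := d20_2 (iv F279302) D63266 (iv D62619)
def n63267 : Q := act 1 n62619
theorem D63267 : act 1 n62619 = n63267 := rfl
theorem F282435 : act 0 n63267 = n63267 := d0_1 D63267 (iv D63267) F279305 F275169 (iv F279305)
def n63268 : Q := act 8 n62619
theorem D63268 : act 8 n62619 = n63268 := rfl
theorem F282436 : act 0 n63268 = n62621 := d7_1 D63268 (iv D62621) (iv F279305)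
theorem F282437 : act 2 n63268 = n62620 := d22_1 D63268 (iv D62620) D62619
def n63269 : Q := act 3 n62621
theorem D63269 : act 3 n62621 = n63269 := rfl
theorem F282438 : act 1 n63269 = n63269 := d10_1 D63269 (iv D63269) F279307
def n63270 : Q := act 9 n62624
theorem D63270 : act 9 n62624 = n63270 := rfl
theorem F282439 : act 0 n63270 = n62625 := d8_1 D63270 (iv D62625) (iv F279316)
theorem F282440 : act 5 n63270 = n62626 := d38_1 D63270 F279322 (iv F279317)
def n63271 : Q := act 8 n62628
theorem D63271 : act 8 n62628 = n63271 := rfl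
theorem F282441 : act 0 n63271 = n62629 := d7_1 D63271 (iv D62629) (iv F279332)
theorem F282442 : act 1 n63271 = n62945 := d15_1 D63271 F281270 (iv F279333)
theorem F282443 : act 2 n63271 = n63016 := d22_1 D63271 F281595 (iv F279334)
theorem F282444 : act 3 n63271 = n62719 := d28_1 D63271 (iv D62719) (iv D61871) (iv F275253) D62628
theorem F282445 : act 4 n63271 = n63224 := d33_1 D63271 F282330 (iv F279335)
theorem F282446 : act 5 n63271 = n62632 := d37_1 D63271 (iv D62632) (iv F279336)
theorem F282447 : act 6 n63271 = n62883 := d40_1 D63271 (iv D62883) (iv F279337)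
theorem F282448 : act 7 n63271 = n62973 := d42_1 D63271 F281382 (iv F279338)
def n63272 : Q := act 9 n62629
theorem D63272 : act 9 n62629 = n63272 := rfl
theorem F282449 : act 1 n63272 = n62630 := d16_1 D63272 (iv D62630) (iv F279340)
theorem F282450 : act 2 n63272 = n63001 := d23_1 D63272 F281522 (iv F279341)
theorem F282451 : act 3 n63272 = n62720 := d29_1 D63272 (iv D62720) (iv F279342)
theorem F282452 : act 4 n63272 = n63222 := d34_1 D63272 F282326 (iv F279343)
theorem F282453 : act 5 n63272 = n62633 := d38_1 D63272 (iv D62633) (iv F279344)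
theorem F282454 : act 6 n63272 = n62884 := d41_1 D63272 (iv D62884) (iv F279345)
theorem F282455 : act 7 n63272 = n62839 := d43_1 D63272 F280688 (iv F279346)
theorem F282456 : act 8 n63272 = n63228 := d44_1 D63272 F282342 F279173 (iv F275260) D62629
def n63273 : Q := act 9 n62632
theorem D63273 : act 9 n62632 = n63273 := rfl
theorem F282457 : act 0 n63273 = n62633 := d8_1 D63273 (iv D62633) (iv F279364)
theorem F282458 : act 1 n63273 = n62943 := d16_1 D63273 F281258 (iv F279365)
theorem F282459 : act 2 n63273 = n62999 := d23_1 D63273 F281515 (iv F279366)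
theorem F282460 : act 3 n63273 = n62827 := d29_1 D63273 (iv D62827) (iv F279367)
theorem F282461 : act 4 n63273 = n62721 := d34_1 D63273 F279956 (iv F279368)
theorem F282462 : act 6 n63273 = n62725 := d41_1 D63273 F279987 (iv F279369)
theorem F282463 : act 7 n63273 = n62838 := d43_1 D63273 F280684 (iv F279370)
theorem F282464 : act 8 n63273 = n63226 := d44_1 D63273 F282335 F279166 (iv F275307) D62632
def n63274 : Q := act 4 n62634
theorem D63274 : act 4 n62634 = n63274 := rfl
theorem F282465 : act 0 n63274 = n62635 := d3_1 D63274 (iv D62635) D62634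
theorem F282466 : act 1 n63274 = n62784 := d11_1 D63274 (iv D62784) (iv F279378)
theorem F282467 : act 2 n63274 = n62971 := d18_1 D63274 (iv D62971) (iv F279379)
theorem F282468 : act 5 n63274 = n62756 := d30_2 (iv F279381) D63274 (iv D62756) F276211 (iv F275346)
theorem F282469 : act 6 n63274 = n62947 := d31_2 (iv F279382) D63274 (iv D62947)
theorem F282470 : act 7 n63274 = n62656 := d32_2 (iv F279383) D63274 (iv D62656)
theorem F282471 : act 8 n63274 = n62671 := d33_2 (iv F279384) D63274 (iv D62671)
theorem F282472 : act 9 n63274 = n62732 := d34_2 (iv F279385) D63274 (iv D62732)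
def n63275 : Q := act 3 n62635
theorem D63275 : act 3 n62635 = n63275 := rfl
theorem F282473 : act 1 n63275 = n62636 := d10_1 D63275 (iv D62636) (iv F279386)
theorem F282474 : act 4 n63275 = n63132 := d24_2 D62635 D63275 (iv D63132) (iv D62418) (iv F275330)
theorem F282475 : act 5 n63275 = n62757 := d25_2 (iv F279388) D63275 (iv D62757)
theorem F282476 : act 6 n63275 = n62948 := d26_2 (iv F279389) D63275 (iv D62948)
theorem F282477 : act 7 n63275 = n62657 := d27_2 (iv F279390) D63275 (iv D62657)
theorem F282478 : act 9 n63275 = n62733 := d29_2 (iv F279392) D63275 (iv D62733)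
def n63276 : Q := act 8 n62636
theorem D63276 : act 8 n62636 = n63276 := rfl
theorem F282479 : act 0 n63276 = n62786 := d7_1 D63276 (iv D62786) (iv F279393)
theorem F282480 : act 2 n63276 = n63276 := d22_1 D63276 (iv D63276) F279394
theorem F282481 : act 3 n63276 = n62673 := d28_1 D63276 (iv D62673) (iv D61816) (iv F275341) D62636
theorem F282482 : act 4 n63276 = n63135 := d33_1 D63276 (iv D63135) (iv F279395)
theorem F282483 : act 5 n63276 = n62758 := d37_1 D63276 (iv D62758) (iv F279396)
theorem F282484 : act 6 n63276 = n62951 := d40_1 D63276 (iv D62951) (iv F279397)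
theorem F282485 : act 7 n63276 = n62658 := d42_1 D63276 (iv D62658) (iv F279398)
theorem F282486 : act 9 n62901 = n63276 := d38_0 F282483 (iv F280208) D62901
def n63277 : Q := act 4 n62637
theorem D63277 : act 4 n62637 = n63277 := rfl
theorem F282487 : act 0 n63277 = n62638 := d3_1 D63277 (iv D62638) D62637
theorem F282488 : act 1 n63277 = n63109 := d11_1 D63277 (iv D63109) (iv F279400)
theorem F282489 : act 2 n63277 = n62653 := d18_1 D63277 (iv D62653) (iv F279401)
theorem F282490 : act 6 n63277 = n62687 := d31_2 (iv F279404) D63277 (iv D62687)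
theorem F282491 : act 7 n63277 = n63012 := d32_2 (iv F279405) D63277 (iv D63012)
theorem F282492 : act 8 n63277 = n62903 := d33_2 (iv F279406) D63277 (iv D62903)
theorem F282493 : act 9 n63277 = n63165 := d34_2 (iv F279407) D63277 (iv D63165)
def n63278 : Q := act 3 n62638
theorem D63278 : act 3 n62638 = n63278 := rfl
theorem F282494 : act 1 n63278 = n62639 := d10_1 D63278 (iv D62639) (iv F279408)
theorem F282495 : act 2 n63278 = n62762 := d17_1 D63278 (iv D62762) F276242 (iv F275440) (iv F279409)
theorem F282496 : act 4 n63278 = n62694 := d24_2 D62638 D63278 (iv D62694) (iv D61841) (iv F275352)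
theorem F282497 : act 6 n63278 = n62688 := d26_2 (iv F279410) D63278 (iv D62688)
theorem F282498 : act 7 n63278 = n63013 := d27_2 (iv F279411) D63278 (iv D63013)
theorem F282499 : act 9 n63278 = n63158 := d29_2 (iv F279413) D63278 F282126
theorem F282500 : act 8 n63059 = n63278 := d40_0 F282497 F279740 D63059
def n63279 : Q := act 5 n62638
theorem D63279 : act 5 n62638 = n63279 := rfl
theorem F282501 : act 1 n63279 = n62640 := d12_1 D63279 (iv D62640) (iv F279408)
theorem F282502 : act 2 n63279 = n62654 := d19_1 D63279 (iv D62654) (iv F279409)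
theorem F282503 : act 4 n63279 = n62900 := d30_1 D63279 (iv D62900) (iv D62115) (iv F275353) D62638
theorem F282504 : act 7 n63279 = n62775 := d36_2 (iv F279411) D63279 F280284
theorem F282505 : act 8 n63279 = n62905 := d37_2 (iv F279412) D63279 (iv D62905)
theorem F282506 : act 9 n63279 = n63159 := d38_2 (iv F279413) D63279 F282131
def n63280 : Q := act 5 n62639
theorem D63280 : act 5 n62639 = n63280 := rfl
theorem F282507 : act 0 n63280 = n62896 := d4_1 D63280 F281054 (iv F279414)
theorem F282508 : act 2 n63280 = n62642 := d19_1 D63280 (iv D62642) (iv F279415)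
theorem F282509 : act 3 n63280 = n62640 := d25_1 D63280 (iv D62640) D62639
theorem F282510 : act 4 n63280 = n63115 := d30_1 D63280 F281985 F278621 F275720 (iv F279416)
theorem F282511 : act 6 n63280 = n62738 := d35_2 (iv F279417) D63280 (iv D62738) F276118 F275670
theorem F282512 : act 7 n63280 = n62655 := d36_2 (iv F279418) D63280 F279525
theorem F282513 : act 8 n63280 = n63053 := d37_2 F279420 D63280 F281743
theorem F282514 : act 9 n63280 = n63038 := d38_2 (iv F279419) D63280 F281681
def n63281 : Q := act 6 n62640
theorem D63281 : act 6 n62640 = n63281 := rfl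
theorem F282515 : act 0 n63281 = n62894 := d5_1 D63281 F281045 (iv F279421)
theorem F282516 : act 2 n63281 = n62641 := d20_1 D63281 (iv D62641) (iv F279422)
theorem F282517 : act 3 n63281 = n62738 := d26_1 D63281 (iv F282511) F282509
theorem F282518 : act 4 n63281 = n62902 := d31_1 D63281 (iv D62902) (iv F279423)
theorem F282519 : act 5 n63281 = n62690 := d35_1 D63281 (iv D62690) (iv D61835) (iv F275360) D62640
theorem F282520 : act 7 n63281 = n62751 := d39_2 (iv F279424) D63281 (iv D62751) F276182 D61937
theorem F282521 : act 8 n63281 = n62908 := d40_2 (iv F279425) D63281 (iv D62908)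
theorem F282522 : act 9 n63281 = n63037 := d41_2 (iv F279426) D63281 F281675
def n63282 : Q := act 4 n62643
theorem D63282 : act 4 n62643 = n63282 := rfl
theorem F282523 : act 0 n63282 = n62644 := d3_1 D63282 (iv D62644) D62643
theorem F282524 : act 1 n63282 = n63184 := d11_1 D63282 (iv D63184) (iv F279443)
theorem F282525 : act 2 n63282 = n62903 := d18_1 D63282 (iv D62903) (iv F279444)
theorem F282526 : act 6 n63282 = n63151 := d31_2 (iv F279447) D63282 (iv D63151)
theorem F282527 : act 7 n63282 = n63258 := d32_2 (iv F279448) D63282 (iv D63258)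
theorem F282528 : act 8 n63282 = n62653 := d33_2 (iv F279449) D63282 (iv D62653)
theorem F282529 : act 9 n63282 = n63039 := d34_2 (iv F279450) D63282 (iv D63039)
def n63283 : Q := act 3 n62644
theorem D63283 : act 3 n62644 = n63283 := rfl
theorem F282530 : act 1 n63283 = n62645 := d10_1 D63283 (iv D62645) (iv F279451)
theorem F282531 : act 4 n63283 = n62679 := d24_2 D62644 D63283 (iv D62679) (iv D61821) (iv F275395)
theorem F282532 : act 6 n63283 = n63149 := d26_2 (iv F279453) D63283 F282091
theorem F282533 : act 7 n63283 = n63259 := d27_2 (iv F279454) D63283 (iv D63259)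
theorem F282534 : act 8 n63283 = n62766 := d28_2 (iv F279455) D63283 (iv D62766) F276264 (iv F275440)
theorem F282535 : act 9 n63283 = n63040 := d29_2 (iv F279456) D63283 (iv D63040)
def n63284 : Q := act 5 n62644
theorem D63284 : act 5 n62644 = n63284 := rfl
theorem F282536 : act 1 n63284 = n62646 := d12_1 D63284 (iv D62646) (iv F279451)
theorem F282537 : act 2 n63284 = n62905 := d19_1 D63284 (iv D62905) (iv F279452)
theorem F282538 : act 4 n63284 = n62893 := d30_1 D63284 (iv D62893) (iv D62107) (iv F275396) D62644
theorem F282539 : act 7 n63284 = n63257 := d36_2 (iv F279454) D63284 F282413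
theorem F282540 : act 8 n63284 = n62654 := d37_2 (iv F279455) D63284 (iv D62654)
theorem F282541 : act 9 n63284 = n63041 := d38_2 (iv F279456) D63284 (iv D63041)
def n63285 : Q := act 5 n62645
theorem D63285 : act 5 n62645 = n63285 := rfl
theorem F282542 : act 0 n63285 = n63143 := d4_1 D63285 F282073 (iv F279457)
theorem F282543 : act 2 n63285 = n63285 := d19_1 D63285 (iv D63285) F279458
theorem F282544 : act 3 n63285 = n62646 := d25_1 D63285 (iv D62646) D62645
theorem F282545 : act 7 n63285 = n63255 := d36_2 (iv F279461) D63285 F282409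
theorem F282546 : act 8 n63285 = n62768 := d37_2 (iv F279462) D63285 (iv D62768)
theorem F282547 : act 9 n63285 = n63019 := d38_2 (iv F279463) D63285 F281610
def n63286 : Q := act 6 n62646
theorem D63286 : act 6 n62646 = n63286 := rfl
theorem F282548 : act 0 n63286 = n63115 := d5_1 D63286 F281986 (iv F279464)
theorem F282549 : act 2 n63286 = n62647 := d20_1 D63286 (iv D62647) (iv F279465)
theorem F282550 : act 4 n63286 = n62896 := d31_1 D63286 (iv D62896) (iv F279466)
theorem F282551 : act 5 n63286 = n62967 := d35_1 D63286 (iv D62967) F277762 (iv F275403) D62646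
theorem F282552 : act 7 n63286 = n63053 := d39_2 (iv F279467) D63286 (iv D63053) (iv F279840) F279839
theorem F282553 : act 8 n63286 = n62655 := d40_2 (iv F279468) D63286 (iv D62655)
theorem F282554 : act 9 n63286 = n62764 := d41_2 (iv F279469) D63286 F280237
def n63287 : Q := act 4 n62648
theorem D63287 : act 4 n62648 = n63287 := rfl
theorem F282555 : act 0 n63287 = n62649 := d3_1 D63287 (iv D62649) D62648
theorem F282556 : act 1 n63287 = n63048 := d11_1 D63287 (iv D63048) (iv F279478)
theorem F282557 : act 2 n63287 = n62898 := d18_1 D63287 (iv D62898) (iv F279479)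
theorem F282558 : act 6 n63287 = n62986 := d31_2 (iv F279482) D63287 (iv D62986)
theorem F282559 : act 7 n63287 = n63131 := d32_2 (iv F279483) D63287 (iv D63131)
theorem F282560 : act 8 n63287 = n62891 := d33_2 (iv F279484) D63287 (iv D62891)
theorem F282561 : act 9 n63287 = n63128 := d34_2 (iv F279485) D63287 (iv D63128)
def n63288 : Q := act 3 n62649
theorem D63288 : act 3 n62649 = n63288 := rfl
theorem F282562 : act 1 n63288 = n62650 := d10_1 D63288 (iv D62650) (iv F279486)
theorem F282563 : act 4 n63288 = n62657 := d24_2 D62649 D63288 (iv D62657) (iv D61801) (iv F275415)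
theorem F282564 : act 6 n63288 = n62987 := d26_2 (iv F279488) D63288 (iv D62987)
theorem F282565 : act 7 n63288 = n63132 := d27_2 (iv F279489) D63288 (iv D63132)
theorem F282566 : act 9 n63288 = n63129 := d29_2 (iv F279491) D63288 (iv D63129)
def n63289 : Q := act 5 n62649
theorem D63289 : act 5 n62649 = n63289 := rfl
theorem F282567 : act 1 n63289 = n62651 := d12_1 D63289 (iv D62651) (iv F279486)
theorem F282568 : act 2 n63289 = n62900 := d19_1 D63289 (iv D62900) (iv F279487)
theorem F282569 : act 4 n63289 = n62654 := d30_1 D63289 (iv D62654) (iv D61797) (iv F275416) D62649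
theorem F282570 : act 7 n63289 = n63133 := d36_2 (iv F279489) D63289 (iv D63133)
theorem F282571 : act 8 n63289 = n62893 := d37_2 (iv F279490) D63289 (iv D62893)
theorem F282572 : act 9 n63289 = n63130 := d38_2 (iv F279491) D63289 (iv D63130)
def n63290 : Q := act 5 n62650
theorem D63290 : act 5 n62650 = n63290 := rfl
theorem F282573 : act 0 n63290 = n63051 := d4_1 D63290 (iv D63051) (iv F279492)
theorem F282574 : act 2 n63290 = n63290 := d19_1 D63290 (iv D63290) F279493
theorem F282575 : act 3 n63290 = n62651 := d25_1 D63290 (iv D62651) D62650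
theorem F282576 : act 4 n63290 = n62772 := d30_1 D63290 (iv D62772) F276286 (iv F275467) (iv F279494)
theorem F282577 : act 7 n63290 = n63134 := d36_2 (iv F279496) D63290 (iv D63134)
theorem F282578 : act 9 n63290 = n62990 := d38_2 (iv F279497) D63290 F281472
def n63291 : Q := act 8 n62650
theorem D63291 : act 8 n62650 = n63291 := rfl
theorem F282579 : act 0 n63291 = n63052 := d7_1 D63291 (iv D63052) (iv F279492)
theorem F282580 : act 2 n63291 = n63291 := d22_1 D63291 (iv D63291) F279493
theorem F282581 : act 3 n63291 = n62895 := d28_1 D63291 (iv D62895) (iv D62108) (iv F275425) D62650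
theorem F282582 : act 4 n63291 = n62658 := d33_1 D63291 (iv D62658) (iv F279494)
theorem F282583 : act 6 n63291 = n62990 := d40_1 D63291 (iv D62990) (iv F279495)
theorem F282584 : act 7 n63291 = n63135 := d42_1 D63291 (iv D63135) (iv F279496)
def n63292 : Q := act 6 n62651
theorem D63292 : act 6 n62651 = n63292 := rfl
theorem F282585 : act 0 n63292 = n63053 := d5_1 D63292 (iv D63053) (iv F279498)
theorem F282586 : act 2 n63292 = n62652 := d20_1 D63292 (iv D62652) (iv F279499)
theorem F282587 : act 4 n63292 = n62655 := d31_1 D63292 (iv D62655) (iv F279500)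
theorem F282588 : act 5 n63292 = n62991 := d35_1 D63292 (iv D62991) (iv D62236) (iv F275423) D62651
theorem F282589 : act 7 n63292 = n63115 := d39_2 (iv F279501) D63292 F281986 (iv F279672) F279671
theorem F282590 : act 8 n63292 = n62896 := d40_2 (iv F279502) D63292 (iv D62896)
theorem F282591 : act 9 n63292 = n62895 := d41_2 (iv F279503) D63292 F281051
def n63293 : Q := act 5 n62653
theorem D63293 : act 5 n62653 = n63293 := rfl
theorem F282592 : act 0 n63293 = n62654 := d4_1 D63293 (iv D62654) (iv F279512)
theorem F282593 : act 1 n63293 = n63187 := d12_1 D63293 (iv D63187) (iv F279513)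
theorem F282594 : act 3 n63293 = n62774 := d25_1 D63293 (iv D62774) (iv F279514)
theorem F282595 : act 7 n63293 = n63270 := d36_2 (iv F279516) D63293 F282440
theorem F282596 : act 9 n63293 = n63166 := d38_2 (iv F279517) D63293 (iv D63166)
def n63294 : Q := act 6 n62654
theorem D63294 : act 6 n62654 = n63294 := rfl
theorem F282597 : act 1 n63294 = n62655 := d13_1 D63294 (iv D62655) (iv F279518)
theorem F282598 : act 3 n63294 = n62775 := d26_1 D63294 (iv D62775) (iv F279519)
theorem F282599 : act 5 n63294 = n63013 := d35_1 D63294 F281581 F278104 (iv F275441) D62654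
theorem F282600 : act 9 n63294 = n63160 := d41_2 (iv F279521) D63294 F282135
def n63295 : Q := act 3 n62656
theorem D63295 : act 3 n62656 = n63295 := rfl
theorem F282601 : act 0 n63295 = n62657 := d2_1 D63295 (iv D62657) (iv F279527)
theorem F282602 : act 1 n63295 = n63061 := d10_1 D63295 (iv D63061) (iv F279528)
theorem F282603 : act 5 n63295 = n62776 := d25_2 (iv F279530) D63295 (iv D62776)
theorem F282604 : act 6 n63295 = n62994 := d26_2 (iv F279531) D63295 (iv D62994)
theorem F282605 : act 9 n63295 = n63167 := d29_2 (iv F279533) D63295 (iv D63167)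
def n63296 : Q := act 2 n62657
theorem D63296 : act 2 n62657 = n63296 := rfl
theorem F282606 : act 1 n63296 = n63296 := d9_1 D63296 (iv D63296) F279534 F275466 (iv F279534)
theorem F282607 : act 3 n63296 = n62975 := d17_2 D62657 D63296 (iv D62975) (iv D62217) (iv F275460)
theorem F282608 : act 5 n63296 = n62777 := d19_2 (iv F279535) D63296 (iv D62777)
theorem F282609 : act 6 n63296 = n62995 := d20_2 (iv F279536) D63296 (iv D62995)
theorem F282610 : act 9 n63296 = n63168 := d23_2 (iv F279537) D63296 (iv D63168)
def n63297 : Q := act 8 n62657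
theorem D63297 : act 8 n62657 = n63297 := rfl
theorem F282611 : act 1 n63297 = n62658 := d15_1 D63297 (iv D62658) (iv F279534)
theorem F282612 : act 3 n63297 = n62684 := d28_1 D63297 (iv D62684) (iv D61827) (iv F275463) D62657
theorem F282613 : act 5 n63297 = n62778 := d37_1 D63297 (iv D62778) (iv F279535)
theorem F282614 : act 6 n63297 = n62996 := d40_1 D63297 (iv D62996) (iv F279536)
def n63298 : Q := act 9 n62658
theorem D63298 : act 9 n62658 = n63298 := rfl
theorem F282615 : act 0 n63298 = n63064 := d8_1 D63298 (iv D63064) (iv F279538)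
theorem F282616 : act 2 n63298 = n63298 := d23_1 D63298 (iv D63298) F279539
theorem F282617 : act 3 n63298 = n62685 := d29_1 D63298 (iv D62685) (iv F279540)
theorem F282618 : act 5 n63298 = n62779 := d38_1 D63298 (iv D62779) (iv F279541)
theorem F282619 : act 6 n63298 = n62772 := d41_1 D63298 F280271 (iv F279542)
theorem F282620 : act 7 n63298 = n62901 := d43_1 D63298 F282486 F282485
theorem F282621 : act 8 n63298 = n63170 := d44_1 D63298 (iv D63170) (iv D62471) (iv F275469) D62658
def n63299 : Q := act 4 n62659
theorem D63299 : act 4 n62659 = n63299 := rfl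
theorem F282622 : act 0 n63299 = n62660 := d3_1 D63299 (iv D62660) D62659
theorem F282623 : act 1 n63299 = n63039 := d11_1 D63299 (iv D63039) (iv F279543)
theorem F282624 : act 2 n63299 = n63172 := d18_1 D63299 (iv D63172) (iv F279544)
theorem F282625 : act 6 n63299 = n63190 := d31_2 (iv F279547) D63299 (iv D63190)
theorem F282626 : act 7 n63299 = n62678 := d32_2 (iv F279548) D63299 (iv D62678)
theorem F282627 : act 8 n63299 = n62664 := d33_2 (iv F279549) D63299 (iv D62664)
theorem F282628 : act 9 n63299 = n63184 := d34_2 (iv F279550) D63299 (iv D63184)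
def n63300 : Q := act 3 n62660
theorem D63300 : act 3 n62660 = n63300 := rfl
theorem F282629 : act 1 n63300 = n62661 := d10_1 D63300 (iv D62661) (iv F279551)
theorem F282630 : act 4 n63300 = n63259 := d24_2 D62660 D63300 (iv D63259) (iv D62606) (iv F275480)
theorem F282631 : act 6 n63300 = n63191 := d26_2 (iv F279553) D63300 (iv D63191)
theorem F282632 : act 7 n63300 = n62679 := d27_2 (iv F279554) D63300 (iv D62679)
theorem F282633 : act 8 n63300 = n62789 := d28_2 (iv F279555) D63300 (iv D62789) F276376 (iv F275508)
theorem F282634 : act 9 n63300 = n63185 := d29_2 (iv F279556) D63300 (iv D63185)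
theorem F282635 : act 5 n63142 = n63300 := d37_3 F282633 F280360 D63142
def n63301 : Q := act 5 n62660
theorem D63301 : act 5 n62660 = n63301 := rfl
theorem F282636 : act 1 n63301 = n62662 := d12_1 D63301 (iv D62662) (iv F279551)
theorem F282637 : act 2 n63301 = n63004 := d19_1 D63301 F281535 (iv F279552)
theorem F282638 : act 3 n63301 = n63142 := d25_1 D63301 F282635 (iv D63300)
theorem F282639 : act 4 n63301 = n63036 := d30_1 D63301 (iv D63036) (iv D62296) (iv F275481) D62660
theorem F282640 : act 7 n63301 = n62680 := d36_2 (iv F279554) D63301 (iv D62680)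
theorem F282641 : act 8 n63301 = n62665 := d37_2 (iv F279555) D63301 (iv D62665)
theorem F282642 : act 9 n63301 = n63186 := d38_2 (iv F279556) D63301 (iv D63186)
def n63302 : Q := act 6 n62662
theorem D63302 : act 6 n62662 = n63302 := rfl
theorem F282643 : act 0 n63302 = n62764 := d5_1 D63302 F280237 (iv F279565)
theorem F282644 : act 2 n63302 = n62663 := d20_1 D63302 (iv D62663) (iv F279566)
theorem F282645 : act 3 n63302 = n63135 := d26_1 D63302 F282055 (iv F279567)
theorem F282646 : act 4 n63302 = n63038 := d31_1 D63302 F281682 (iv F279568)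
theorem F282647 : act 5 n63302 = n63116 := d35_1 D63302 F281989 F278634 (iv F275488) D62662
theorem F282648 : act 7 n63302 = n62895 := d39_2 (iv F279569) D63302 F281051 F278696 (iv F275600)
theorem F282649 : act 8 n63302 = n62666 := d40_2 (iv F279570) D63302 (iv D62666)
theorem F282650 : act 9 n63302 = n63115 := d41_2 (iv F279571) D63302 F281986
def n63303 : Q := act 5 n62664
theorem D63303 : act 5 n62664 = n63303 := rfl
theorem F282651 : act 0 n63303 = n62665 := d4_1 D63303 (iv D62665) (iv F279580)
theorem F282652 : act 1 n63303 = n63181 := d12_1 D63303 F282219 (iv F279581)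
theorem F282653 : act 2 n63303 = n63003 := d19_1 D63303 F281530 (iv F279582)
theorem F282654 : act 3 n63303 = n62790 := d25_1 D63303 (iv D62790) (iv F279583)
theorem F282655 : act 4 n63303 = n63171 := d30_1 D63303 (iv D63171) (iv D62472) (iv F275502) D62664
theorem F282656 : act 7 n63303 = n62682 := d36_2 (iv F279585) D63303 (iv D62682)
theorem F282657 : act 9 n63303 = n62691 := d38_2 (iv F279586) D63303 (iv D62691)
def n63304 : Q := act 6 n62665
theorem D63304 : act 6 n62665 = n63304 := rfl
theorem F282658 : act 1 n63304 = n62666 := d13_1 D63304 (iv D62666) (iv F279587)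
theorem F282659 : act 2 n63304 = n63000 := d20_1 D63304 F281518 (iv F279588)
theorem F282660 : act 3 n63304 = n62760 := d26_1 D63304 F280219 (iv F279589)
theorem F282661 : act 4 n63304 = n63035 := d31_1 D63304 F281666 (iv F279590)
theorem F282662 : act 5 n63304 = n63211 := d35_1 D63304 (iv D63211) (iv D62530) (iv F275509) D62665
theorem F282663 : act 7 n63304 = n62892 := d39_2 (iv F279591) D63304 F281038 F278767 (iv F275612)
theorem F282664 : act 9 n63304 = n62692 := d41_2 (iv F279592) D63304 (iv D62692)
def n63305 : Q := act 4 n62667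
theorem D63305 : act 4 n62667 = n63305 := rfl
theorem F282665 : act 0 n63305 = n62668 := d3_1 D63305 (iv D62668) D62667
theorem F282666 : act 1 n63305 = n63074 := d11_1 D63305 (iv D63074) (iv F279600)
theorem F282667 : act 2 n63305 = n62838 := d18_1 D63305 (iv D62838) (iv F279601)
theorem F282668 : act 6 n63305 = n62671 := d31_2 (iv F279604) D63305 (iv D62671)
theorem F282669 : act 7 n63305 = n62999 := d32_2 (iv F279605) D63305 (iv D62999)
theorem F282670 : act 8 n63305 = n62947 := d33_2 (iv F279606) D63305 (iv D62947)
theorem F282671 : act 9 n63305 = n62693 := d34_2 (iv F279607) D63305 (iv D62693)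
def n63306 : Q := act 3 n62668
theorem D63306 : act 3 n62668 = n63306 := rfl
theorem F282672 : act 1 n63306 = n62669 := d10_1 D63306 (iv D62669) (iv F279608)
theorem F282673 : act 2 n63306 = n62892 := d17_1 D63306 (iv D62892) F277366 (iv F276897) (iv F279609)
theorem F282674 : act 4 n63306 = n63158 := d24_2 D62668 D63306 F282126 (iv D62466) (iv F275526)
theorem F282675 : act 6 n63306 = n62672 := d26_2 (iv F279610) D63306 (iv D62672)
theorem F282676 : act 7 n63306 = n63000 := d27_2 (iv F279611) D63306 (iv D63000)
theorem F282677 : act 9 n63306 = n62694 := d29_2 (iv F279613) D63306 (iv D62694)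
theorem F282678 : act 5 n63122 = n63306 := d38_3 F282677 (iv F279778) D63122
def n63307 : Q := act 5 n62668
theorem D63307 : act 5 n62668 = n63307 := rfl
theorem F282679 : act 1 n63307 = n62670 := d12_1 D63307 (iv D62670) (iv F279608)
theorem F282680 : act 2 n63307 = n62839 := d19_1 D63307 (iv D62839) (iv F279609)
theorem F282681 : act 3 n63307 = n63122 := d25_1 D63307 F282678 (iv D63306)
theorem F282682 : act 4 n63307 = n62926 := d30_1 D63307 (iv D62926) (iv D62145) (iv F275527) D62668
theorem F282683 : act 6 n63307 = n62792 := d35_2 (iv F279610) D63307 (iv D62792) F276402 (iv F275554)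
theorem F282684 : act 7 n63307 = n63001 := d36_2 (iv F279611) D63307 (iv D63001)
theorem F282685 : act 8 n63307 = n62949 := d37_2 (iv F279612) D63307 (iv D62949)
theorem F282686 : act 9 n63307 = n62695 := d38_2 (iv F279613) D63307 (iv D62695)
def n63308 : Q := act 8 n62669
theorem D63308 : act 8 n62669 = n63308 := rfl
theorem F282687 : act 0 n63308 = n63046 := d7_1 D63308 F281716 (iv F279614)
theorem F282688 : act 2 n63308 = n62686 := d22_1 D63308 (iv D62686) (iv F279615)
theorem F282689 : act 3 n63308 = n62951 := d28_1 D63308 (iv D62951) (iv D62183) (iv F275536) D62669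
theorem F282690 : act 4 n63308 = n63037 := d33_1 D63308 (iv F281677) (iv F279616)
theorem F282691 : act 5 n63308 = n63080 := d37_1 D63308 F281841 F279620
theorem F282692 : act 6 n63308 = n62673 := d40_1 D63308 (iv D62673) (iv F279617)
theorem F282693 : act 7 n63308 = n63002 := d42_1 D63308 (iv D63002) (iv F279618)
theorem F282694 : act 9 n63308 = n62902 := d44_2 (iv F279619) D63308 F281077 F277436 (iv F275719)
def n63309 : Q := act 3 n62671
theorem D63309 : act 3 n62671 = n63309 := rfl
theorem F282695 : act 0 n63309 = n62672 := d2_1 D63309 (iv D62672) (iv F279629)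
theorem F282696 : act 1 n63309 = n63084 := d10_1 D63309 (iv D63084) (iv F279630)
theorem F282697 : act 2 n63309 = n63152 := d17_1 D63309 F282103 F279061 (iv F277861) (iv F279631)
theorem F282698 : act 4 n63309 = n63123 := d24_2 D62671 D63309 F282014 (iv D62472) (iv F275548)
theorem F282699 : act 5 n63309 = n62793 := d25_2 (iv F279632) D63309 (iv D62793)
theorem F282700 : act 7 n63309 = n62683 := d27_2 (iv F279633) D63309 (iv D62683)
theorem F282701 : act 9 n63309 = n62696 := d29_2 (iv F279634) D63309 (iv D62696)
def n63310 : Q := act 8 n62672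
theorem D63310 : act 8 n62672 = n63310 := rfl
theorem F282702 : act 1 n63310 = n62673 := d15_1 D63310 (iv D62673) (iv F279635)
theorem F282703 : act 2 n63310 = n63130 := d22_1 D63310 F282041 (iv F279636)
theorem F282704 : act 4 n63310 = n63159 := d33_1 D63310 (iv D63159) (iv F279637)
theorem F282705 : act 5 n63310 = n62794 := d37_1 D63310 (iv D62794) (iv F279638)
theorem F282706 : act 7 n63310 = n62684 := d42_1 D63310 (iv D62684) (iv F279639)
theorem F282707 : act 9 n63310 = n62900 := d44_2 (iv F279640) D63310 F281072 F277432 F275738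
def n63311 : Q := act 4 n62674
theorem D63311 : act 4 n62674 = n63311 := rfl
theorem F282708 : act 0 n63311 = n62675 := d3_1 D63311 (iv D62675) D62674
theorem F282709 : act 1 n63311 = n63258 := d11_1 D63311 (iv D63258) (iv F279647)
theorem F282710 : act 2 n63311 = n62769 := d18_1 D63311 (iv D62769) (iv F279648)
theorem F282711 : act 6 n63311 = n62788 := d31_2 (iv F279651) D63311 (iv D62788)
theorem F282712 : act 7 n63311 = n63184 := d32_2 (iv F279652) D63311 (iv D63184)
theorem F282713 : act 8 n63311 = n62709 := d33_2 (iv F279653) D63311 (iv D62709)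
theorem F282714 : act 9 n63311 = n62678 := d34_2 (iv F279654) D63311 (iv D62678)
def n63312 : Q := act 3 n62675
theorem D63312 : act 3 n62675 = n63312 := rfl
theorem F282715 : act 1 n63312 = n62676 := d10_1 D63312 (iv D62676) (iv F279655)
theorem F282716 : act 4 n63312 = n63040 := d24_2 D62675 D63312 (iv D63040) (iv D62303) (iv F275564)
theorem F282717 : act 6 n63312 = n62789 := d26_2 (iv F279657) D63312 (iv D62789)
theorem F282718 : act 7 n63312 = n63185 := d27_2 (iv F279658) D63312 (iv D63185)
theorem F282719 : act 8 n63312 = n63191 := d28_2 (iv F279659) D63312 (iv D63191) F279025 (iv F275826)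
theorem F282720 : act 9 n63312 = n62679 := d29_2 (iv F279660) D63312 (iv D62679)
def n63313 : Q := act 5 n62675
theorem D63313 : act 5 n62675 = n63313 := rfl
theorem F282721 : act 1 n63313 = n62677 := d12_1 D63313 (iv D62677) (iv F279655)
theorem F282722 : act 2 n63313 = n62771 := d19_1 D63313 (iv D62771) (iv F279656)
theorem F282723 : act 4 n63313 = n62763 := d30_1 D63313 (iv D62763) (iv D61923) (iv F275565) D62675
theorem F282724 : act 6 n63313 = n63133 := d35_2 (iv F279657) D63313 (iv D63133) F278702 (iv F276374)
theorem F282725 : act 7 n63313 = n63186 := d36_2 (iv F279658) D63313 (iv D63186)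
theorem F282726 : act 8 n63313 = n62710 := d37_2 (iv F279659) D63313 (iv D62710)
theorem F282727 : act 9 n63313 = n62680 := d38_2 (iv F279660) D63313 (iv D62680)
def n63314 : Q := act 5 n62676
theorem D63314 : act 5 n62676 = n63314 := rfl
theorem F282728 : act 0 n63314 = n63255 := d4_1 D63314 F282409 (iv F279661)
theorem F282729 : act 2 n63314 = n63314 := d19_1 D63314 (iv D63314) F279662
theorem F282730 : act 3 n63314 = n62677 := d25_1 D63314 (iv D62677) D62676
theorem F282731 : act 6 n63314 = n63134 := d35_2 (iv F279664) D63314 (iv D63134) F278705 (iv F276380)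
theorem F282732 : act 7 n63314 = n63143 := d36_2 (iv F279665) D63314 F282073
theorem F282733 : act 8 n63314 = n63108 := d37_2 (iv F279666) D63314 F281958
theorem F282734 : act 9 n63314 = n62681 := d38_2 (iv F279667) D63314 (iv D62681)
def n63315 : Q := act 3 n62678
theorem D63315 : act 3 n62678 = n63315 := rfl
theorem F282735 : act 0 n63315 = n62679 := d2_1 D63315 (iv D62679) (iv F279675)
theorem F282736 : act 1 n63315 = n63260 := d10_1 D63315 (iv D63260) (iv F279676)
theorem F282737 : act 6 n63315 = n63145 := d26_2 (iv F279678) D63315 F282078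
theorem F282738 : act 8 n63315 = n62799 := d28_2 (iv F279679) D63315 (iv D62799) F276490 (iv F275605)
def n63316 : Q := act 5 n62678
theorem D63316 : act 5 n62678 = n63316 := rfl
theorem F282739 : act 0 n63316 = n62680 := d4_1 D63316 (iv D62680) (iv F279675)
theorem F282740 : act 1 n63316 = n63256 := d12_1 D63316 F282411 (iv F279676)
theorem F282741 : act 2 n63316 = n63005 := d19_1 D63316 F281540 (iv F279677)
theorem F282742 : act 4 n63316 = n63178 := d30_1 D63316 (iv D63178) (iv D62483) (iv F275586) D62678
theorem F282743 : act 6 n63316 = n63137 := d35_2 (iv F279678) D63316 (iv D63137) F278711 D62429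
theorem F282744 : act 8 n63316 = n62682 := d37_2 (iv F279679) D63316 (iv D62682)
def n63317 : Q := act 2 n62679
theorem D63317 : act 2 n62679 = n63317 := rfl
theorem F282745 : act 1 n63317 = n63317 := d9_1 D63317 (iv D63317) F279680 F275594 (iv F279680)
theorem F282746 : act 3 n63317 = n63180 := d17_2 D62679 D63317 (iv D63180) (iv D62488) (iv F275590)
theorem F282747 : act 6 n63317 = n63147 := d20_2 (iv F279681) D63317 F282084
theorem F282748 : act 8 n63317 = n62801 := d22_2 (iv F279682) D63317 (iv D62801)
def n63318 : Q := act 5 n62679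
theorem D63318 : act 5 n62679 = n63318 := rfl
theorem F282749 : act 1 n63318 = n62681 := d12_1 D63318 (iv D62681) (iv F279680)
theorem F282750 : act 3 n63318 = n62680 := d25_1 D63318 (iv D62680) D62679
theorem F282751 : act 6 n63318 = n63139 := d35_2 (iv F279681) D63318 (iv D63139) F278714 D62431
theorem F282752 : act 7 n63318 = n63142 := d36_2 F282632 D63318 F282635
theorem F282753 : act 8 n63318 = n62802 := d37_2 (iv F279682) D63318 (iv D62802)
def n63319 : Q := act 4 n62681
theorem D63319 : act 4 n62681 = n63319 := rfl
theorem F282754 : act 0 n63319 = n63029 := d3_1 D63319 F281644 (iv F279688)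
theorem F282755 : act 2 n63319 = n63319 := d18_1 D63319 (iv D63319) F279689
theorem F282756 : act 3 n63319 = n63002 := d24_1 D63319 F281525 F278928 (iv F275599) (iv F279690)
theorem F282757 : act 6 n63319 = n62985 := d31_2 (iv F279691) D63319 F281446
theorem F282758 : act 7 n63319 = n62951 := d32_2 (iv F279692) D63319 F281291
theorem F282759 : act 8 n63319 = n62803 := d33_2 (iv F279693) D63319 (iv D62803)
def n63320 : Q := act 8 n62683
theorem D63320 : act 8 n62683 = n63320 := rfl
theorem F282760 : act 0 n63320 = n62684 := d7_1 D63320 (iv D62684) (iv F279701)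
theorem F282761 : act 1 n63320 = n63086 := d15_1 D63320 (iv D63086) (iv F279702)
theorem F282762 : act 2 n63320 = n63137 := d22_1 D63320 F282060 (iv F279703)
theorem F282763 : act 4 n63320 = n63155 := d33_1 D63320 (iv D63155) (iv F279704)
theorem F282764 : act 5 n63320 = n62805 := d37_1 D63320 (iv D62805) (iv F279705)
theorem F282765 : act 6 n63320 = n63005 := d40_1 D63320 (iv D63005) (iv F279706)
def n63321 : Q := act 9 n62684
theorem D63321 : act 9 n62684 = n63321 := rfl
theorem F282766 : act 1 n63321 = n62685 := d16_1 D63321 (iv D62685) (iv F279708)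
theorem F282767 : act 2 n63321 = n63133 := d23_1 D63321 F282050 (iv F279709)
theorem F282768 : act 4 n63321 = n62775 := d34_1 D63321 F280285 (iv F279710)
theorem F282769 : act 5 n63321 = n62806 := d38_1 D63321 (iv D62806) (iv F279711)
theorem F282770 : act 6 n63321 = n62771 := d41_1 D63321 F280267 (iv F279712)
theorem F282771 : act 7 n63321 = n62900 := d43_1 D63321 (iv F282707) F282706
theorem F282772 : act 8 n63321 = n62720 := d44_1 D63321 (iv D62720) (iv D61872) (iv F275625) D62684
def n63322 : Q := act 3 n62687
theorem D63322 : act 3 n62687 = n63322 := rfl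
theorem F282773 : act 0 n63322 = n62688 := d2_1 D63322 (iv D62688) (iv F279728)
theorem F282774 : act 1 n63322 = n63081 := d10_1 D63322 F281843 (iv F279729)
theorem F282775 : act 2 n63322 = n63181 := d17_1 D63322 (iv D63181) F278968 (iv F278859) (iv F279730)
theorem F282776 : act 4 n63322 = n62696 := d24_2 D62687 D63322 (iv D62696) (iv D61844) (iv F275655)
theorem F282777 : act 7 n63322 = n62714 := d27_2 (iv F279731) D63322 (iv D62714)
theorem F282778 : act 9 n63322 = n63123 := d29_2 (iv F279733) D63322 F282014
theorem F282779 : act 5 n63047 = n63322 := d38_3 F282778 F282015 (iv F281722)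
theorem F282780 : act 8 n63322 = n63055 := d37_2 (iv F281721) F282779 (iv D63055)
def n63323 : Q := act 5 n62687
theorem D63323 : act 5 n62687 = n63323 := rfl
theorem F282781 : act 0 n63323 = n62689 := d4_1 D63323 (iv D62689) (iv F279728)
theorem F282782 : act 1 n63323 = n63152 := d12_1 D63323 (iv D63152) (iv F279729)
theorem F282783 : act 2 n63323 = n63014 := d19_1 D63323 F281586 (iv F279730)
theorem F282784 : act 3 n63323 = n63047 := d25_1 D63323 F282779 (iv D63322)
theorem F282785 : act 4 n63323 = n62691 := d30_1 D63323 (iv D62691) (iv D61837) (iv F275656) D62687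
theorem F282786 : act 7 n63323 = n62715 := d36_2 (iv F279731) D63323 (iv D62715)
theorem F282787 : act 8 n63323 = n63200 := d37_2 (iv F279732) D63323 (iv D63200)
theorem F282788 : act 9 n63323 = n63171 := d38_2 (iv F279733) D63323 (iv D63171)
def n63324 : Q := act 6 n62689
theorem D63324 : act 6 n62689 = n63324 := rfl
theorem F282789 : act 1 n63324 = n62690 := d13_1 D63324 (iv D62690) (iv F279741)
theorem F282790 : act 2 n63324 = n63013 := d20_1 D63324 F281581 (iv F279742)
theorem F282791 : act 3 n63324 = n62737 := d26_1 D63324 F280070 (iv F279743)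
theorem F282792 : act 4 n63324 = n62692 := d31_1 D63324 (iv D62692) (iv F279744)
theorem F282793 : act 7 n63324 = n62762 := d39_2 (iv F279745) D63324 F280229 F278975 (iv F275876)
theorem F282794 : act 8 n63324 = n63157 := d40_2 (iv F279746) D63324 F282124
theorem F282795 : act 9 n63324 = n63035 := d41_2 (iv F279747) D63324 F281666
def n63325 : Q := act 6 n62691
theorem D63325 : act 6 n62691 = n63325 := rfl
theorem F282796 : act 0 n63325 = n62692 := d5_1 D63325 (iv D62692) (iv F279755)
theorem F282797 : act 1 n63325 = n63177 := d13_1 D63325 F282203 (iv F279756)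
theorem F282798 : act 2 n63325 = n63015 := d20_1 D63325 F281591 (iv F279757)
theorem F282799 : act 3 n63325 = n62821 := d26_1 D63325 (iv D62821) (iv F279758)
theorem F282800 : act 5 n63325 = n63212 := d35_1 D63325 (iv D63212) (iv D62532) (iv F275690) D62691
theorem F282801 : act 7 n63325 = n63042 := d39_2 (iv F279759) D63325 F281697 F279939 (iv D62718)
theorem F282802 : act 8 n63325 = n63156 := d40_2 (iv F279760) D63325 F282122
def n63326 : Q := act 3 n62693
theorem D63326 : act 3 n62693 = n63326 := rfl
theorem F282803 : act 0 n63326 = n62694 := d2_1 D63326 (iv D62694) (iv F279767)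
theorem F282804 : act 1 n63326 = n63119 := d10_1 D63326 (iv D63119) (iv F279768)
theorem F282805 : act 2 n63326 = n63042 := d17_1 D63326 (iv D63042) F278260 (iv F277825) (iv F279769)
theorem F282806 : act 6 n63326 = n62696 := d26_2 (iv F279770) D63326 (iv D62696)
theorem F282807 : act 7 n63326 = n63015 := d27_2 (iv F279771) D63326 (iv D63015)
theorem F282808 : act 8 n63326 = n63060 := d28_2 (iv F279772) D63326 F281762 (iv F280954) F280950
theorem F282809 : act 5 n63121 = n63326 := d37_3 F282808 F281763 D63121
def n63327 : Q := act 5 n62693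
theorem D63327 : act 5 n62693 = n63327 := rfl
theorem F282810 : act 0 n63327 = n62695 := d4_1 D63327 (iv D62695) (iv F279767)
theorem F282811 : act 1 n63327 = n62964 := d12_1 D63327 F281340 (iv F279768)
theorem F282812 : act 2 n63327 = n62973 := d19_1 D63327 (iv D62973) (iv F279769)
theorem F282813 : act 3 n63327 = n63121 := d25_1 D63327 F282809 (iv D63326)
theorem F282814 : act 4 n63327 = n62929 := d30_1 D63327 (iv D62929) (iv D62148) (iv F275706) D62693
theorem F282815 : act 6 n63327 = n62823 := d35_2 (iv F279770) D63327 (iv D62823) F276655 (iv F275731)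
theorem F282816 : act 7 n63327 = n63016 := d36_2 (iv F279771) D63327 (iv D63016)
theorem F282817 : act 8 n63327 = n62877 := d37_2 (iv F279772) D63327 (iv F280946)
def n63328 : Q := act 4 n62697
theorem D63328 : act 4 n62697 = n63328 := rfl
theorem F282818 : act 0 n63328 = n62698 := d3_1 D63328 (iv D62698) D62697
theorem F282819 : act 1 n63328 = n62980 := d11_1 D63328 F281416 (iv F279792)
theorem F282820 : act 2 n63328 = n62709 := d18_1 D63328 (iv D62709) (iv F279793)
theorem F282821 : act 3 n63328 = n62939 := d24_1 D63328 (iv D62939) F277610 (iv F276459) (iv F279794)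
theorem F282822 : act 6 n63328 = n62787 := d31_2 (iv F279796) D63328 (iv D62787)
theorem F282823 : act 7 n63328 = n62959 := d32_2 (iv F279797) D63328 F281317
theorem F282824 : act 8 n63328 = n62769 := d33_2 (iv F279798) D63328 (iv D62769)
theorem F282825 : act 9 n63328 = n62699 := d34_2 (iv F279799) D63328 (iv D62699)
theorem F282826 : act 5 n63024 = n63328 := d38_3 F282825 (iv F279815) D63024
def n63329 : Q := act 4 n62700
theorem D63329 : act 4 n62700 = n63329 := rfl
theorem F282827 : act 0 n63329 = n62701 := d3_1 D63329 (iv D62701) D62700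
theorem F282828 : act 1 n63329 = n63131 := d11_1 D63329 (iv D63131) (iv F279816)
theorem F282829 : act 2 n63329 = n62765 := d18_1 D63329 (iv D62765) (iv F279817)
theorem F282830 : act 6 n63329 = n63017 := d31_2 (iv F279820) D63329 (iv D63017)
theorem F282831 : act 7 n63329 = n63048 := d32_2 (iv F279821) D63329 (iv D63048)
theorem F282832 : act 8 n63329 = n62761 := d33_2 (iv F279822) D63329 (iv D62761)
theorem F282833 : act 9 n63329 = n62704 := d34_2 (iv F279823) D63329 (iv D62704)
def n63330 : Q := act 3 n62701
theorem D63330 : act 3 n62701 = n63330 := rfl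
theorem F282834 : act 1 n63330 = n62702 := d10_1 D63330 (iv D62702) (iv F279824)
theorem F282835 : act 4 n63330 = n62785 := d24_2 D62701 D63330 (iv D62785) (iv D61945) (iv F275777)
theorem F282836 : act 6 n63330 = n63018 := d26_2 (iv F279826) D63330 (iv D63018)
theorem F282837 : act 7 n63330 = n63049 := d27_2 (iv F279827) D63330 (iv D63049)
theorem F282838 : act 9 n63330 = n62705 := d29_2 (iv F279829) D63330 (iv D62705)
def n63331 : Q := act 5 n62701
theorem D63331 : act 5 n62701 = n63331 := rfl
theorem F282839 : act 1 n63331 = n62703 := d12_1 D63331 (iv D62703) (iv F279824)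
theorem F282840 : act 2 n63331 = n62767 := d19_1 D63331 (iv D62767) (iv F279825)
theorem F282841 : act 4 n63331 = n62710 := d30_1 D63331 (iv D62710) (iv D61859) (iv F275778) D62701
theorem F282842 : act 6 n63331 = n63257 := d35_2 (iv F279826) D63331 F282413 F279275 (iv F278134)
theorem F282843 : act 7 n63331 = n63050 := d36_2 (iv F279827) D63331 (iv D63050)
theorem F282844 : act 8 n63331 = n62763 := d37_2 (iv F279828) D63331 (iv D62763)
theorem F282845 : act 9 n63331 = n62706 := d38_2 (iv F279829) D63331 (iv D62706)
def n63332 : Q := act 5 n62702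
theorem D63332 : act 5 n62702 = n63332 := rfl
theorem F282846 : act 0 n63332 = n63134 := d4_1 D63332 (iv D63134) (iv F279830)
theorem F282847 : act 2 n63332 = n63332 := d19_1 D63332 (iv D63332) F279831
theorem F282848 : act 3 n63332 = n62703 := d25_1 D63332 (iv D62703) D62702
theorem F282849 : act 4 n63332 = n63033 := d30_1 D63332 F281656 F279074 (iv F276349) (iv F279832)
theorem F282850 : act 6 n63332 = n63255 := d35_2 (iv F279833) D63332 F282409 F279279 (iv F278140)
theorem F282851 : act 7 n63332 = n63051 := d36_2 (iv F279834) D63332 (iv D63051)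
theorem F282852 : act 9 n63332 = n62707 := d38_2 (iv F279835) D63332 (iv D62707)
def n63333 : Q := act 8 n62702
theorem D63333 : act 8 n62702 = n63333 := rfl
theorem F282853 : act 0 n63333 = n63135 := d7_1 D63333 (iv D63135) (iv F279830)
theorem F282854 : act 2 n63333 = n63333 := d22_1 D63333 (iv D63333) F279831
theorem F282855 : act 3 n63333 = n62764 := d28_1 D63333 (iv D62764) (iv D61924) (iv F275787) D62702
theorem F282856 : act 4 n63333 = n62786 := d33_1 D63333 (iv D62786) (iv F279832)
theorem F282857 : act 6 n63333 = n63019 := d40_1 D63333 (iv D63019) (iv F279833)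
theorem F282858 : act 7 n63333 = n63052 := d42_1 D63333 (iv D63052) (iv F279834)
def n63334 : Q := act 3 n62704
theorem D63334 : act 3 n62704 = n63334 := rfl
theorem F282859 : act 0 n63334 = n62705 := d2_1 D63334 (iv D62705) (iv F279843)
theorem F282860 : act 1 n63334 = n63136 := d10_1 D63334 (iv D63136) (iv F279844)
theorem F282861 : act 4 n63334 = n62815 := d24_2 D62704 D63334 (iv D62815) (iv D61985) (iv F275799)
theorem F282862 : act 6 n63334 = n63020 := d26_2 (iv F279846) D63334 (iv D63020)
theorem F282863 : act 7 n63334 = n63199 := d27_2 (iv F279847) D63334 (iv D63199)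
def n63335 : Q := act 5 n62704
theorem D63335 : act 5 n62704 = n63335 := rfl
theorem F282864 : act 0 n63335 = n62706 := d4_1 D63335 (iv D62706) (iv F279843)
theorem F282865 : act 1 n63335 = n63137 := d12_1 D63335 (iv D63137) (iv F279844)
theorem F282866 : act 2 n63335 = n63023 := d19_1 D63335 F281623 (iv F279845)
theorem F282867 : act 4 n63335 = n62712 := d30_1 D63335 (iv D62712) (iv D61862) (iv F275800) D62704
theorem F282868 : act 6 n63335 = n63256 := d35_2 (iv F279846) D63335 F282411 F279282 (iv F278145)
theorem F282869 : act 7 n63335 = n63200 := d36_2 (iv F279847) D63335 (iv D63200)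
theorem F282870 : act 8 n63335 = n62715 := d37_2 (iv F279848) D63335 (iv D62715)
def n63336 : Q := act 2 n62705
theorem D63336 : act 2 n62705 = n63336 := rfl
theorem F282871 : act 1 n63336 = n63336 := d9_1 D63336 (iv D63336) F279849 F275810 (iv F279849)
theorem F282872 : act 3 n63336 = n63164 := d17_2 D62705 D63336 (iv D63164) (iv D62464) (iv F275805)
theorem F282873 : act 4 n63336 = n62816 := d18_2 (iv F279850) D63336 (iv D62816)
theorem F282874 : act 6 n63336 = n63021 := d20_2 (iv F279851) D63336 (iv D63021)
theorem F282875 : act 7 n63336 = n63201 := d21_2 (iv F279852) D63336 (iv D63201)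
def n63337 : Q := act 5 n62705
theorem D63337 : act 5 n62705 = n63337 := rfl
theorem F282876 : act 1 n63337 = n62707 := d12_1 D63337 (iv D62707) (iv F279849)
theorem F282877 : act 3 n63337 = n62706 := d25_1 D63337 (iv D62706) D62705
theorem F282878 : act 4 n63337 = n63032 := d30_1 D63337 F281652 F279081 (iv F276592) (iv F279850)
theorem F282879 : act 6 n63337 = n63254 := d35_2 (iv F279851) D63337 F282406 F279285 (iv F278148)
theorem F282880 : act 7 n63337 = n63058 := d36_2 (iv F279852) D63337 F281758
theorem F282881 : act 8 n63026 = n63337 := d42_0 F282880 (iv D63058) (iv F281635)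
def n63338 : Q := act 8 n62705
theorem D63338 : act 8 n62705 = n63338 := rfl
theorem F282882 : act 1 n63338 = n62708 := d15_1 D63338 (iv D62708) (iv F279849)
theorem F282883 : act 3 n63338 = n62716 := d28_1 D63338 (iv D62716) (iv D61866) (iv F275808) D62705
theorem F282884 : act 4 n63338 = n62817 := d33_1 D63338 (iv D62817) (iv F279850)
theorem F282885 : act 5 n63338 = n63026 := d37_1 D63338 F282881 (iv D63337)
theorem F282886 : act 6 n63338 = n63022 := d40_1 D63338 (iv D63022) (iv F279851)
theorem F282887 : act 7 n63338 = n63057 := d42_1 D63338 (iv F281754) (iv F279852)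
def n63339 : Q := act 9 n62708
theorem D63339 : act 9 n62708 = n63339 := rfl
theorem F282888 : act 0 n63339 = n63092 := d8_1 D63339 (iv D63092) (iv F279866)
theorem F282889 : act 2 n63339 = n63339 := d23_1 D63339 (iv D63339) F279867
theorem F282890 : act 3 n63339 = n62717 := d29_1 D63339 (iv D62717) (iv F279868)
theorem F282891 : act 4 n63339 = n62818 := d34_1 D63339 (iv D62818) (iv F279869)
theorem F282892 : act 5 n63339 = n62888 := d38_1 D63339 F281023 (iv F279870)
theorem F282893 : act 6 n63339 = n62768 := d41_1 D63339 F280255 (iv F279871)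
theorem F282894 : act 7 n63339 = n62906 := d43_1 D63339 F281091 (iv F279872)
def n63340 : Q := act 5 n62709
theorem D63340 : act 5 n62709 = n63340 := rfl
theorem F282895 : act 0 n63340 = n62710 := d4_1 D63340 (iv D62710) (iv F279873)
theorem F282896 : act 1 n63340 = n63270 := d12_1 D63340 F282440 (iv F279874)
theorem F282897 : act 2 n63340 = n63024 := d19_1 D63340 F282826 F282820
theorem F282898 : act 3 n63340 = n63210 := d25_1 D63340 (iv D63210) (iv F279875)
theorem F282899 : act 7 n63340 = n63187 := d36_2 (iv F279877) D63340 (iv D63187)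
theorem F282900 : act 9 n63340 = n62712 := d38_2 (iv F279878) D63340 (iv D62712)
def n63341 : Q := act 6 n62710
theorem D63341 : act 6 n62710 = n63341 := rfl
theorem F282901 : act 1 n63341 = n62711 := d13_1 D63341 (iv D62711) (iv F279879)
theorem F282902 : act 2 n63341 = n62720 := d20_1 D63341 F279947 (iv F279880)
theorem F282903 : act 3 n63341 = n63211 := d26_1 D63341 (iv D63211) (iv F279881)
theorem F282904 : act 4 n63341 = n63257 := d31_1 D63341 (iv F282842) F282841
theorem F282905 : act 5 n63341 = n62760 := d35_1 D63341 F280219 (iv D61953) (iv F275827) D62710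
theorem F282906 : act 8 n63341 = n63133 := d40_2 F282726 D63341 (iv F282724)
theorem F282907 : act 9 n63341 = n62713 := d41_2 (iv F279883) D63341 (iv D62713)
theorem F282908 : act 7 n62893 = n63341 := d43_3 F282907 (iv F279904) (iv F281042)
def n63342 : Q := act 6 n62712
theorem D63342 : act 6 n62712 = n63342 := rfl
theorem F282909 : act 0 n63342 = n62713 := d5_1 D63342 (iv D62713) (iv F279892)
theorem F282910 : act 1 n63342 = n63178 := d13_1 D63342 F282206 (iv F279893)
theorem F282911 : act 2 n63342 = n62719 := d20_1 D63342 F279943 (iv F279894)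
theorem F282912 : act 3 n63342 = n63212 := d26_1 D63342 (iv D63212) (iv F279895)
theorem F282913 : act 4 n63342 = n63256 := d31_1 D63342 (iv F282868) F282867
theorem F282914 : act 5 n63342 = n62821 := d35_1 D63342 (iv D62821) (iv D61992) (iv F275846) D62712
theorem F282915 : act 8 n63342 = n62718 := d40_2 (iv F279897) D63342 (iv D62718)
theorem F282916 : act 7 n63043 = n63342 := d42_3 F282915 (iv F279939) (iv F281700)
def n63343 : Q := act 8 n62714
theorem D63343 : act 8 n62714 = n63343 := rfl
theorem F282917 : act 0 n63343 = n62716 := d7_1 D63343 (iv D62716) (iv F279905)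
theorem F282918 : act 1 n63343 = n63088 := d15_1 D63343 (iv D63088) (iv F279906)
theorem F282919 : act 2 n63343 = n63256 := d22_1 D63343 (iv D63256) (iv F279907)
theorem F282920 : act 4 n63343 = n62719 := d33_1 D63343 (iv D62719) (iv F279908)
theorem F282921 : act 5 n63343 = n63025 := d37_1 D63343 F281631 F279911
theorem F282922 : act 6 n63343 = n63023 := d40_1 D63343 (iv D63023) (iv F279909)
theorem F282923 : act 7 n63343 = n63055 := d42_1 D63343 (iv F282780) F282777
def n63344 : Q := act 9 n62716
theorem D63344 : act 9 n62716 = n63344 := rfl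
theorem F282924 : act 1 n63344 = n62717 := d16_1 D63344 (iv D62717) (iv F279919)
theorem F282925 : act 2 n63344 = n63257 := d23_1 D63344 (iv D63257) (iv F279920)
theorem F282926 : act 4 n63344 = n62720 := d34_1 D63344 (iv D62720) (iv F279921)
theorem F282927 : act 5 n63344 = n62887 := d38_1 D63344 F281017 (iv F279922)
theorem F282928 : act 6 n63344 = n62767 := d41_1 D63344 F280251 (iv F279923)
theorem F282929 : act 7 n63344 = n62905 := d43_1 D63344 F281087 (iv F279924)
theorem F282930 : act 8 n63344 = n62775 := d44_1 D63344 F280285 (iv D62455) (iv F275870) D62716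
def n63345 : Q := act 9 n62719
theorem D63345 : act 9 n62719 = n63345 := rfl
theorem F282931 : act 0 n63345 = n62720 := d8_1 D63345 (iv D62720) (iv F279940)
theorem F282932 : act 1 n63345 = n63154 := d16_1 D63345 (iv D63154) (iv F279941)
theorem F282933 : act 5 n63345 = n62827 := d38_1 D63345 (iv D62827) (iv F279942)
theorem F282934 : act 6 n63345 = n63024 := d41_1 D63345 (iv D63024) (iv F279943)
theorem F282935 : act 7 n63345 = n62909 := d43_1 D63345 F281101 (iv F279944)
def n63346 : Q := act 4 n62722
theorem D63346 : act 4 n62722 = n63346 := rfl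
theorem F282936 : act 0 n63346 = n62723 := d3_1 D63346 (iv D62723) D62722
theorem F282937 : act 1 n63346 = n62843 := d11_1 D63346 (iv D62843) (iv F279957)
theorem F282938 : act 2 n63346 = n62732 := d18_1 D63346 (iv D62732) (iv F279958)
theorem F282939 : act 5 n63346 = n62889 := d30_2 (iv F279960) D63346 (iv D62889) F277349 (iv F275948)
theorem F282940 : act 6 n63346 = n62940 := d31_2 (iv F279961) D63346 (iv D62940)
theorem F282941 : act 7 n63346 = n62840 := d32_2 (iv F279962) D63346 (iv D62840)
theorem F282942 : act 8 n63346 = n62828 := d33_2 (iv F279963) D63346 (iv D62828)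
theorem F282943 : act 9 n63346 = n62971 := d34_2 (iv F279964) D63346 (iv D62971)
def n63347 : Q := act 3 n62723
theorem D63347 : act 3 n62723 = n63347 := rfl
theorem F282944 : act 1 n63347 = n62724 := d10_1 D63347 (iv D62724) (iv F279965)
theorem F282945 : act 4 n63347 = n63221 := d24_2 D62723 D63347 (iv D63221) (iv D62549) (iv F275933)
theorem F282946 : act 5 n63347 = n62890 := d25_2 (iv F279967) D63347 (iv D62890)
theorem F282947 : act 6 n63347 = n62941 := d26_2 (iv F279968) D63347 (iv D62941)
theorem F282948 : act 7 n63347 = n62841 := d27_2 (iv F279969) D63347 (iv D62841)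
theorem F282949 : act 8 n63347 = n62870 := d28_2 (iv F279970) D63347 (iv D62870) F277189 (iv F276804)
theorem F282950 : act 9 n63347 = n62972 := d29_2 (iv F279971) D63347 (iv D62972)
def n63348 : Q := act 3 n62726
theorem D63348 : act 3 n62726 = n63348 := rfl
theorem F282951 : act 0 n63348 = n62727 := d2_1 D63348 (iv D62727) (iv F279988)
theorem F282952 : act 1 n63348 = n62981 := d10_1 D63348 (iv D62981) (iv F279989)
theorem F282953 : act 4 n63348 = n62978 := d24_2 D62726 D63348 (iv D62978) (iv D62222) (iv F275969)
theorem F282954 : act 5 n63348 = n63245 := d25_2 (iv F279991) D63348 (iv D63245)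
theorem F282955 : act 6 n63348 = n62974 := d26_2 (iv F279992) D63348 (iv D62974)
theorem F282956 : act 7 n63348 = n63238 := d27_2 (iv F279993) D63348 (iv D63238)
theorem F282957 : act 8 n63348 = n63215 := d28_2 (iv F279994) D63348 (iv D63215) F279112 (iv F275993)
theorem F282958 : act 9 n63348 = n63101 := d29_2 (iv F279995) D63348 F281933
def n63349 : Q := act 2 n62727
theorem D63349 : act 2 n62727 = n63349 := rfl
theorem F282959 : act 1 n63349 = n63349 := d9_1 D63349 (iv D63349) F279996 F275983 (iv F279996)
theorem F282960 : act 3 n63349 = n62995 := d17_2 D62727 D63349 (iv D62995) (iv D62242) (iv F275976)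
theorem F282961 : act 4 n63349 = n62979 := d18_2 (iv F279997) D63349 (iv D62979)
theorem F282962 : act 5 n63349 = n63246 := d19_2 (iv F279998) D63349 (iv D63246)
theorem F282963 : act 6 n63349 = n62975 := d20_2 (iv F279999) D63349 (iv D62975)
theorem F282964 : act 7 n63349 = n63239 := d21_2 (iv F280000) D63349 (iv D63239)
theorem F282965 : act 8 n63349 = n63216 := d22_2 (iv F280001) D63349 (iv D63216)
theorem F282966 : act 9 n63349 = n63102 := d23_2 (iv F280002) D63349 F281937
def n63350 : Q := act 3 n62728
theorem D63350 : act 3 n62728 = n63350 := rfl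
theorem F282967 : act 0 n63350 = n62729 := d2_1 D63350 (iv D62729) (iv F280003)
theorem F282968 : act 1 n63350 = n62776 := d10_1 D63350 (iv D62776) (iv F280004)
theorem F282969 : act 4 n63350 = n63217 := d24_2 D62728 D63350 (iv D63217) (iv D62541) (iv F276008)
theorem F282970 : act 5 n63350 = n63061 := d25_2 (iv F280006) D63350 (iv D63061)
theorem F282971 : act 6 n63350 = n63245 := d26_2 (iv F280007) D63350 (iv D63245)
theorem F282972 : act 7 n63350 = n63235 := d27_2 (iv F280008) D63350 (iv D63235)
theorem F282973 : act 8 n63350 = n63194 := d28_2 (iv F280009) D63350 (iv D63194) F279039 (iv F276063)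
theorem F282974 : act 9 n63350 = n63161 := d29_2 (iv F280010) D63350 (iv D63161)
def n63351 : Q := act 2 n62729
theorem D63351 : act 2 n62729 = n63351 := rfl
theorem F282975 : act 1 n63351 = n63351 := d9_1 D63351 (iv D63351) F280011 F276022 (iv F280011)
theorem F282976 : act 3 n63351 = n62982 := d17_2 D62729 D63351 (iv D62982) (iv D62229) (iv F276015)
theorem F282977 : act 4 n63351 = n63218 := d18_2 (iv F280012) D63351 (iv D63218)
theorem F282978 : act 5 n63351 = n63062 := d19_2 (iv F280013) D63351 (iv D63062)
theorem F282979 : act 6 n63351 = n63246 := d20_2 (iv F280014) D63351 (iv D63246)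
theorem F282980 : act 7 n63351 = n63236 := d21_2 (iv F280015) D63351 (iv D63236)
theorem F282981 : act 8 n63351 = n63195 := d22_2 (iv F280016) D63351 (iv D63195)
theorem F282982 : act 9 n63351 = n63162 := d23_2 (iv F280017) D63351 (iv D63162)
def n63352 : Q := act 3 n62730
theorem D63352 : act 3 n62730 = n63352 := rfl
theorem F282983 : act 0 n63352 = n62731 := d2_1 D63352 (iv D62731) (iv F280018)
theorem F282984 : act 1 n63352 = n62799 := d10_1 D63352 (iv D62799) (iv F280019)
theorem F282985 : act 4 n63352 = n63196 := d24_2 D62730 D63352 (iv D63196) (iv D62511) (iv F276031)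
theorem F282986 : act 5 n63352 = n63252 := d25_2 (iv F280021) D63352 (iv D63252)
theorem F282987 : act 6 n63352 = n63163 := d26_2 (iv F280022) D63352 (iv D63163)
theorem F282988 : act 7 n63352 = n63262 := d27_2 (iv F280023) D63352 (iv D63262)
theorem F282989 : act 8 n63352 = n63260 := d28_2 (iv F280024) D63352 (iv D63260) F279283 (iv F276055)
theorem F282990 : act 9 n63352 = n63182 := d29_2 (iv F280025) D63352 (iv D63182)
def n63353 : Q := act 2 n62731
theorem D63353 : act 2 n62731 = n63353 := rfl
theorem F282991 : act 1 n63353 = n63353 := d9_1 D63353 (iv D63353) F280026 F276045 (iv F280026)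
theorem F282992 : act 3 n63353 = n63021 := d17_2 D62731 D63353 (iv D63021) (iv D62279) (iv F276038)
theorem F282993 : act 4 n63353 = n63197 := d18_2 (iv F280027) D63353 (iv D63197)
theorem F282994 : act 5 n63353 = n63253 := d19_2 (iv F280028) D63353 (iv D63253)
theorem F282995 : act 6 n63353 = n63164 := d20_2 (iv F280029) D63353 (iv D63164)
theorem F282996 : act 7 n63353 = n63263 := d21_2 (iv F280030) D63353 (iv D63263)
theorem F282997 : act 8 n63353 = n63261 := d22_2 (iv F280031) D63353 (iv D63261)
theorem F282998 : act 9 n63353 = n63183 := d23_2 (iv F280032) D63353 (iv D63183)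
def n63354 : Q := act 3 n62732
theorem D63354 : act 3 n62732 = n63354 := rfl
theorem F282999 : act 0 n63354 = n62733 := d2_1 D63354 (iv D62733) (iv F280033)
theorem F283000 : act 1 n63354 = n62815 := d10_1 D63354 (iv D62815) (iv F280034)
theorem F283001 : act 4 n63354 = n63136 := d24_2 D62732 D63354 (iv D63136) (iv D62421) (iv F276069)
theorem F283002 : act 5 n63354 = n63233 := d25_2 (iv F280035) D63354 (iv D63233)
theorem F283003 : act 6 n63354 = n62952 := d26_2 (iv F280036) D63354 (iv D62952)
theorem F283004 : act 7 n63354 = n63167 := d27_2 (iv F280037) D63354 (iv D63167)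
def n63355 : Q := act 2 n62733
theorem D63355 : act 2 n62733 = n63355 := rfl
theorem F283005 : act 1 n63355 = n63355 := d9_1 D63355 (iv D63355) F280039 F276080 (iv F280039)
theorem F283006 : act 4 n63355 = n63138 := d18_2 (iv F280040) D63355 (iv D63138)
theorem F283007 : act 5 n63355 = n63234 := d19_2 (iv F280041) D63355 (iv D63234)
theorem F283008 : act 6 n63355 = n62954 := d20_2 (iv F280042) D63355 (iv D62954)
theorem F283009 : act 7 n63355 = n63168 := d21_2 (iv F280043) D63355 (iv D63168)
def n63356 : Q := act 8 n62733
theorem D63356 : act 8 n62733 = n63356 := rfl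
theorem F283010 : act 1 n63356 = n62734 := d15_1 D63356 (iv D62734) (iv F280039)
theorem F283011 : act 3 n63356 = n62942 := d28_1 D63356 F281252 F277690 (iv F276078) D62733
theorem F283012 : act 4 n63356 = n63090 := d33_1 D63356 F281891 (iv F280040)
theorem F283013 : act 5 n63356 = n62941 := d37_1 D63356 F281246 (iv F280041)
theorem F283014 : act 6 n63356 = n62956 := d40_1 D63356 (iv D62956) (iv F280042)
theorem F283015 : act 7 n63356 = n63169 := d42_1 D63356 (iv D63169) (iv F280043)
def n63357 : Q := act 9 n62734
theorem D63357 : act 9 n62734 = n63357 := rfl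
theorem F283016 : act 0 n63357 = n62818 := d8_1 D63357 (iv D62818) (iv F280044)
theorem F283017 : act 2 n63357 = n63357 := d23_1 D63357 (iv D63357) F280045
theorem F283018 : act 3 n63357 = n62833 := d29_1 D63357 F280649 (iv F280046)
theorem F283019 : act 4 n63357 = n63092 := d34_1 D63357 (iv D63092) (iv F280047)
theorem F283020 : act 5 n63357 = n62832 := d38_1 D63357 F280642 (iv F280048)
theorem F283021 : act 6 n63357 = n62958 := d41_1 D63357 (iv D62958) (iv F280049)
theorem F283022 : act 7 n63357 = n63170 := d43_1 D63357 (iv D63170) (iv F280050)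
theorem F283023 : act 8 n63357 = n62901 := d44_1 D63357 F282486 (iv D63276) F279399 D62734
def n63358 : Q := act 4 n62736
theorem D63358 : act 4 n62736 = n63358 := rfl
theorem F283024 : act 0 n63358 = n62737 := d3_1 D63358 (iv D62737) D62736
theorem F283025 : act 1 n63358 = n62891 := d11_1 D63358 (iv D62891) (iv F280060)
theorem F283026 : act 2 n63358 = n62749 := d18_1 D63358 (iv D62749) (iv F280061)
theorem F283027 : act 6 n63358 = n63047 := d31_2 (iv F280064) D63358 (iv D63047)
theorem F283028 : act 7 n63358 = n62761 := d32_2 (iv F280065) D63358 (iv D62761)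
theorem F283029 : act 8 n63358 = n63048 := d33_2 (iv F280066) D63358 (iv D63048)
theorem F283030 : act 9 n63358 = n63034 := d34_2 (iv F280067) D63358 (iv D63034)
def n63359 : Q := act 5 n62737
theorem D63359 : act 5 n62737 = n63359 := rfl
theorem F283031 : act 1 n63359 = n62738 := d12_1 D63359 (iv D62738) (iv F280068)
theorem F283032 : act 2 n63359 = n62750 := d19_1 D63359 (iv D62750) (iv F280069)
theorem F283033 : act 4 n63359 = n63186 := d30_1 D63359 (iv D63186) (iv D62495) (iv F276111) D62737
theorem F283034 : act 7 n63359 = n62763 := d36_2 (iv F280071) D63359 (iv D62763)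
theorem F283035 : act 8 n63359 = n63050 := d37_2 (iv F280072) D63359 (iv D63050)
theorem F283036 : act 9 n63359 = n63036 := d38_2 (iv F280073) D63359 (iv D63036)
def n63360 : Q := act 4 n62739
theorem D63360 : act 4 n62739 = n63360 := rfl
theorem F283037 : act 0 n63360 = n62740 := d3_1 D63360 (iv D62740) D62739
theorem F283038 : act 1 n63360 = n63190 := d11_1 D63360 (iv D63190) (iv F280080)
theorem F283039 : act 2 n63360 = n63048 := d18_1 D63360 (iv D63048) (iv F280081)
theorem F283040 : act 6 n63360 = n63039 := d31_2 (iv F280084) D63360 (iv D63039)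
theorem F283041 : act 7 n63360 = n62765 := d32_2 (iv F280085) D63360 (iv D62765)
theorem F283042 : act 8 n63360 = n62749 := d33_2 (iv F280086) D63360 (iv D62749)
theorem F283043 : act 9 n63360 = n63151 := d34_2 (iv F280087) D63360 (iv D63151)
def n63361 : Q := act 3 n62740
theorem D63361 : act 3 n62740 = n63361 := rfl
theorem F283044 : act 1 n63361 = n62741 := d10_1 D63361 (iv D62741) (iv F280088)
theorem F283045 : act 4 n63361 = n62789 := d24_2 D62740 D63361 (iv D62789) (iv D61950) (iv F276130)
theorem F283046 : act 6 n63361 = n63040 := d26_2 (iv F280090) D63361 (iv D63040)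
theorem F283047 : act 7 n63361 = n62766 := d27_2 (iv F280091) D63361 (iv D62766)
theorem F283048 : act 8 n63361 = n63259 := d28_2 (iv F280092) D63361 (iv D63259) F279276 (iv F276175)
theorem F283049 : act 9 n63361 = n63149 := d29_2 (iv F280093) D63361 F282091
def n63362 : Q := act 5 n62740
theorem D63362 : act 5 n62740 = n63362 := rfl
theorem F283050 : act 1 n63362 = n62742 := d12_1 D63362 (iv D62742) (iv F280088)
theorem F283051 : act 2 n63362 = n63050 := d19_1 D63362 (iv D63050) (iv F280089)
theorem F283052 : act 4 n63362 = n62961 := d30_1 D63362 (iv D62961) F277728 (iv F276131) D62740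
theorem F283053 : act 7 n63362 = n62767 := d36_2 (iv F280091) D63362 (iv D62767)
theorem F283054 : act 8 n63362 = n62750 := d37_2 (iv F280092) D63362 (iv D62750)
theorem F283055 : act 9 n63362 = n62965 := d38_2 (iv F280093) D63362 F281345
def n63363 : Q := act 5 n62741
theorem D63363 : act 5 n62741 = n63363 := rfl
theorem F283056 : act 0 n63363 = n63108 := d4_1 D63363 F281958 (iv F280094)
theorem F283057 : act 2 n63363 = n63363 := d19_1 D63363 (iv D63363) F280095
theorem F283058 : act 3 n63363 = n62742 := d25_1 D63363 (iv D62742) D62741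
theorem F283059 : act 4 n63363 = n62950 := d30_1 D63363 (iv D62950) F277706 (iv F276380) (iv F280096)
theorem F283060 : act 7 n63363 = n62768 := d36_2 (iv F280098) D63363 (iv D62768)
theorem F283061 : act 8 n63363 = n63255 := d37_2 (iv F280099) D63363 F282409
theorem F283062 : act 9 n63363 = n62957 := d38_2 (iv F280100) D63363 F281307
def n63364 : Q := act 6 n62742
theorem D63364 : act 6 n62742 = n63364 := rfl
theorem F283063 : act 0 n63364 = n63116 := d5_1 D63364 F281989 (iv F280101)
theorem F283064 : act 2 n63364 = n62743 := d20_1 D63364 (iv D62743) (iv F280102)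
theorem F283065 : act 4 n63364 = n62911 := d31_1 D63364 F281110 (iv F280103)
theorem F283066 : act 5 n63364 = n62764 := d35_1 D63364 F280237 (iv D62305) (iv F276138) D62742
theorem F283067 : act 7 n63364 = n62908 := d39_2 (iv F280104) D63364 (iv D62908) (iv F279930) F279929
theorem F283068 : act 8 n63364 = n62751 := d40_2 (iv F280105) D63364 (iv D62751)
theorem F283069 : act 9 n63364 = n62967 := d41_2 (iv F280106) D63364 (iv D62967)
def n63365 : Q := act 4 n62744
theorem D63365 : act 4 n62744 = n63365 := rfl
theorem F283070 : act 0 n63365 = n62745 := d3_1 D63365 (iv D62745) D62744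
theorem F283071 : act 1 n63365 = n63206 := d11_1 D63365 (iv D63206) (iv F280115)
theorem F283072 : act 2 n63365 = n63184 := d18_1 D63365 (iv D63184) (iv F280116)
theorem F283073 : act 6 n63365 = n63188 := d31_2 (iv F280119) D63365 (iv D63188)
theorem F283074 : act 7 n63365 = n62769 := d32_2 (iv F280120) D63365 (iv D62769)
theorem F283075 : act 8 n63365 = n62959 := d33_2 (iv F280121) D63365 F281317
theorem F283076 : act 9 n63365 = n63172 := d34_2 (iv F280122) D63365 (iv D63172)
def n63366 : Q := act 3 n62745
theorem D63366 : act 3 n62745 = n63366 := rfl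
theorem F283077 : act 1 n63366 = n62746 := d10_1 D63366 (iv D62746) (iv F280123)
theorem F283078 : act 4 n63366 = n62757 := d24_2 D62745 D63366 (iv D62757) (iv D61918) (iv F276150)
theorem F283079 : act 6 n63366 = n63189 := d26_2 (iv F280125) D63366 (iv D63189)
theorem F283080 : act 7 n63366 = n62770 := d27_2 (iv F280126) D63366 (iv D62770)
theorem F283081 : act 8 n63366 = n62925 := d28_2 (iv F280127) D63366 (iv D62925) F277537 D62191
theorem F283082 : act 9 n63366 = n63173 := d29_2 (iv F280128) D63366 (iv D63173)
def n63367 : Q := act 5 n62745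
theorem D63367 : act 5 n62745 = n63367 := rfl
theorem F283083 : act 1 n63367 = n62747 := d12_1 D63367 (iv D62747) (iv F280123)
theorem F283084 : act 2 n63367 = n63186 := d19_1 D63367 (iv D63186) (iv F280124)
theorem F283085 : act 4 n63367 = n62750 := d30_1 D63367 (iv D62750) (iv D61911) (iv F276151) D62745
theorem F283086 : act 7 n63367 = n62771 := d36_2 (iv F280126) D63367 (iv D62771)
theorem F283087 : act 8 n63367 = n62961 := d37_2 (iv F280127) D63367 (iv D62961)
theorem F283088 : act 9 n63367 = n63004 := d38_2 (iv F280128) D63367 F281535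
def n63368 : Q := act 5 n62746
theorem D63368 : act 5 n62746 = n63368 := rfl
theorem F283089 : act 0 n63368 = n63033 := d4_1 D63368 F281656 (iv F280129)
theorem F283090 : act 2 n63368 = n63368 := d19_1 D63368 (iv D63368) F280130
theorem F283091 : act 3 n63368 = n62747 := d25_1 D63368 (iv D62747) D62746
theorem F283092 : act 4 n63368 = n63134 := d30_1 D63368 (iv D63134) (iv F279395) F279396 (iv F280131)
theorem F283093 : act 7 n63368 = n62772 := d36_2 (iv F280133) D63368 (iv D62772)
theorem F283094 : act 8 n63368 = n62927 := d37_2 (iv F280134) D63368 (iv D62927)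
theorem F283095 : act 9 n63368 = n62985 := d38_2 (iv F280135) D63368 F281447
def n63369 : Q := act 6 n62747
theorem D63369 : act 6 n62747 = n63369 := rfl
theorem F283096 : act 0 n63369 = n63080 := d5_1 D63369 F281840 (iv F280136)
theorem F283097 : act 2 n63369 = n62748 := d20_1 D63369 (iv D62748) (iv F280137)
theorem F283098 : act 4 n63369 = n62751 := d31_1 D63369 (iv D62751) (iv F280138)
theorem F283099 : act 5 n63369 = n63046 := d35_1 D63369 F281714 F278460 (iv F276158) D62747
theorem F283100 : act 7 n63369 = n62902 := d39_2 (iv F280139) D63369 (iv D62902) (iv F279718) F279717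
theorem F283101 : act 8 n63369 = n62911 := d40_2 (iv F280140) D63369 F281110
theorem F283102 : act 9 n63369 = n63002 := d41_2 (iv F280141) D63369 F281526
def n63370 : Q := act 5 n62749
theorem D63370 : act 5 n62749 = n63370 := rfl
theorem F283103 : act 0 n63370 = n62750 := d4_1 D63370 (iv D62750) (iv F280150)
theorem F283104 : act 1 n63370 = n63210 := d12_1 D63370 (iv D63210) (iv F280151)
theorem F283105 : act 3 n63370 = n63270 := d25_1 D63370 F282440 (iv F280152)
theorem F283106 : act 7 n63370 = n62774 := d36_2 (iv F280154) D63370 (iv D62774)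
theorem F283107 : act 9 n63370 = n63174 := d38_2 (iv F280155) D63370 (iv D63174)
def n63371 : Q := act 6 n62750
theorem D63371 : act 6 n62750 = n63371 := rfl
theorem F283108 : act 1 n63371 = n62751 := d13_1 D63371 (iv D62751) (iv F280156)
theorem F283109 : act 3 n63371 = n62763 := d26_1 D63371 F280233 (iv F280157)
theorem F283110 : act 5 n63371 = n62762 := d35_1 D63371 F280229 F278974 (iv F276176) D62750
theorem F283111 : act 9 n63371 = n63175 := d41_2 (iv F280159) D63371 (iv D63175)
def n63372 : Q := act 4 n62752
theorem D63372 : act 4 n62752 = n63372 := rfl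
theorem F283112 : act 0 n63372 = n62753 := d3_1 D63372 (iv D62753) D62752
theorem F283113 : act 1 n63372 = n62924 := d11_1 D63372 (iv D62924) (iv F280165)
theorem F283114 : act 2 n63372 = n63027 := d18_1 D63372 (iv D63027) (iv F280166)
theorem F283115 : act 6 n63372 = n62756 := d31_2 (iv F280169) D63372 (iv D62756)
theorem F283116 : act 7 n63372 = n63069 := d32_2 (iv F280170) D63372 (iv D63069)
theorem F283117 : act 8 n63372 = n62791 := d33_2 (iv F280171) D63372 (iv D62791)
theorem F283118 : act 9 n63372 = n62869 := d34_2 (iv F280172) D63372 (iv D62869)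
def n63373 : Q := act 3 n62753
theorem D63373 : act 3 n62753 = n63373 := rfl
theorem F283119 : act 1 n63373 = n62754 := d10_1 D63373 (iv D62754) (iv F280173)
theorem F283120 : act 4 n63373 = n63189 := d24_2 D62753 D63373 (iv D63189) (iv D62501) (iv F276189)
theorem F283121 : act 6 n63373 = n62757 := d26_2 (iv F280175) D63373 (iv D62757)
theorem F283122 : act 7 n63373 = n63070 := d27_2 (iv F280176) D63373 (iv D63070)
theorem F283123 : act 8 n63373 = n63207 := d28_2 (iv F280177) D63373 (iv D63207) F279071 (iv F276401)
theorem F283124 : act 9 n63373 = n62870 := d29_2 (iv F280178) D63373 (iv D62870)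
def n63374 : Q := act 5 n62753
theorem D63374 : act 5 n62753 = n63374 := rfl
theorem F283125 : act 1 n63374 = n62755 := d12_1 D63374 (iv D62755) (iv F280173)
theorem F283126 : act 2 n63374 = n62969 := d19_1 D63374 F281363 (iv F280174)
theorem F283127 : act 4 n63374 = n62962 := d30_1 D63374 F281329 (iv D62343) (iv F276190) D62753
theorem F283128 : act 6 n63374 = n62949 := d35_2 (iv F280175) D63374 (iv D62949) (iv F279389) F279388
theorem F283129 : act 7 n63374 = n62934 := d36_2 (iv F280176) D63374 F281209
theorem F283130 : act 8 n63374 = n62792 := d37_2 (iv F280177) D63374 (iv D62792)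
theorem F283131 : act 9 n63374 = n62871 := d38_2 (iv F280178) D63374 (iv D62871)
def n63375 : Q := act 5 n62754
theorem D63375 : act 5 n62754 = n63375 := rfl
theorem F283132 : act 0 n63375 = n62927 := d4_1 D63375 (iv D62927) (iv F280179)
theorem F283133 : act 2 n63375 = n63375 := d19_1 D63375 (iv D63375) F280180
theorem F283134 : act 3 n63375 = n62755 := d25_1 D63375 (iv D62755) D62754
theorem F283135 : act 6 n63375 = n62950 := d35_2 (iv F280182) D63375 (iv D62950) (iv F279397) F279396
theorem F283136 : act 7 n63375 = n62915 := d36_2 (iv F280183) D63375 F281125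
theorem F283137 : act 8 n63375 = n63033 := d37_2 (iv F280184) D63375 F281656
theorem F283138 : act 9 n63375 = n62872 := d38_2 (iv F280185) D63375 (iv D62872)
def n63376 : Q := act 3 n62756
theorem D63376 : act 3 n62756 = n63376 := rfl
theorem F283139 : act 0 n63376 = n62757 := d2_1 D63376 (iv D62757) (iv F280193)
theorem F283140 : act 1 n63376 = n63235 := d10_1 D63376 (iv D63235) (iv F280194)
theorem F283141 : act 7 n63376 = n62776 := d27_2 (iv F280196) D63376 (iv D62776)
theorem F283142 : act 9 n63376 = n63233 := d29_2 (iv F280198) D63376 (iv D63233)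
def n63377 : Q := act 2 n62757
theorem D63377 : act 2 n62757 = n63377 := rfl
theorem F283143 : act 1 n63377 = n63377 := d9_1 D63377 (iv D63377) F280199 F276221 (iv F280199)
theorem F283144 : act 3 n63377 = n63031 := d17_2 D62757 D63377 (iv D63031) (iv D62293) (iv F276216)
theorem F283145 : act 7 n63377 = n62777 := d21_2 (iv F280200) D63377 (iv D62777)
theorem F283146 : act 9 n63377 = n63234 := d23_2 (iv F280201) D63377 (iv D63234)
def n63378 : Q := act 8 n62757
theorem D63378 : act 8 n62757 = n63378 := rfl
theorem F283147 : act 1 n63378 = n62758 := d15_1 D63378 (iv D62758) (iv F280199)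
theorem F283148 : act 3 n63378 = n62794 := d28_1 D63378 (iv D62794) (iv D61958) (iv F276218) D62757
theorem F283149 : act 4 n63378 = n62925 := d33_1 D63378 (iv F283081) F283078
theorem F283150 : act 6 n63378 = n63207 := d40_1 D63378 (iv F283123) F283121
theorem F283151 : act 7 n63378 = n62778 := d42_1 D63378 (iv D62778) (iv F280200)
theorem F283152 : act 9 n62899 = n63378 := d41_0 F283150 F282288 (iv F281070)
def n63379 : Q := act 4 n62759
theorem D63379 : act 4 n62759 = n63379 := rfl
theorem F283153 : act 0 n63379 = n62760 := d3_1 D63379 (iv D62760) D62759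
theorem F283154 : act 1 n63379 = n62761 := d11_1 D63379 (iv D62761) (iv F280209)
theorem F283155 : act 2 n63379 = n62827 := d18_1 D63379 F280602 (iv F280210)
theorem F283156 : act 6 n63379 = n62790 := d31_2 (iv F280213) D63379 F280366
theorem F283157 : act 7 n63379 = n62891 := d32_2 (iv F280214) D63379 (iv D62891)
theorem F283158 : act 8 n63379 = n63131 := d33_2 (iv F280215) D63379 (iv D63131)
theorem F283159 : act 9 n63379 = n62821 := d34_2 (iv F280216) D63379 F280555
def n63380 : Q := act 3 n62761
theorem D63380 : act 3 n62761 = n63380 := rfl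
theorem F283160 : act 0 n63380 = n62762 := d2_1 D63380 (iv D62762) (iv F280223)
theorem F283161 : act 4 n63380 = n63042 := d24_2 D62761 D63380 (iv D63042) (iv D62306) (iv F276238)
theorem F283162 : act 6 n63380 = n63181 := d26_2 (iv F280225) D63380 (iv D63181)
theorem F283163 : act 9 n63380 = n63177 := d29_2 (iv F280226) D63380 (iv D63177)
def n63381 : Q := act 5 n62761
theorem D63381 : act 5 n62761 = n63381 := rfl
theorem F283164 : act 0 n63381 = n62763 := d4_1 D63381 (iv D62763) (iv F280223)
theorem F283165 : act 2 n63381 = n62774 := d19_1 D63381 (iv D62774) (iv F280224)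
theorem F283166 : act 6 n63381 = n63270 := d35_2 (iv F280225) D63381 F282440 F279321 (iv F278969)
theorem F283167 : act 9 n63381 = n63178 := d38_2 (iv F280226) D63381 (iv D63178)
def n63382 : Q := act 8 n62762
theorem D63382 : act 8 n62762 = n63382 := rfl
theorem F283168 : act 1 n63382 = n62764 := d15_1 D63382 (iv D62764) (iv F280227)
theorem F283169 : act 2 n63382 = n63059 := d22_1 D63382 F282500 F282495
theorem F283170 : act 4 n63382 = n63045 := d33_1 D63382 (iv D63045) (iv F280228)
theorem F283171 : act 6 n63382 = n63041 := d40_1 D63382 F281695 (iv F280229)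
theorem F283172 : act 7 n63382 = n63157 := d42_1 D63382 (iv F282794) F282793
def n63383 : Q := act 3 n62765
theorem D63383 : act 3 n62765 = n63383 := rfl
theorem F283173 : act 0 n63383 = n62766 := d2_1 D63383 (iv D62766) (iv F280239)
theorem F283174 : act 1 n63383 = n63196 := d10_1 D63383 (iv D63196) (iv F280240)
theorem F283175 : act 4 n63383 = n62799 := d24_2 D62765 D63383 (iv D62799) (iv D61968) (iv F276258)
theorem F283176 : act 6 n63383 = n63182 := d26_2 (iv F280241) D63383 (iv D63182)
theorem F283177 : act 9 n63383 = n63163 := d29_2 (iv F280243) D63383 (iv D63163)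
def n63384 : Q := act 5 n62765
theorem D63384 : act 5 n62765 = n63384 := rfl
theorem F283178 : act 0 n63384 = n62767 := d4_1 D63384 (iv D62767) (iv F280239)
theorem F283179 : act 1 n63384 = n63153 := d12_1 D63384 F282109 (iv F280240)
theorem F283180 : act 4 n63384 = n63024 := d30_1 D63384 F282826 (iv D63328) F279795 D62765
theorem F283181 : act 8 n63384 = n62774 := d37_2 (iv F280242) D63384 (iv D62774)
theorem F283182 : act 9 n63384 = n63023 := d38_2 (iv F280243) D63384 F281623
def n63385 : Q := act 2 n62766
theorem D63385 : act 2 n62766 = n63385 := rfl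
theorem F283183 : act 1 n63385 = n63385 := d9_1 D63385 (iv D63385) F280244 F276267 (iv F280244)
theorem F283184 : act 4 n63385 = n62801 := d18_2 (iv F280245) D63385 (iv D62801)
theorem F283185 : act 6 n63385 = n63183 := d20_2 (iv F280246) D63385 (iv D63183)
theorem F283186 : act 9 n63385 = n63164 := d23_2 (iv F280247) D63385 (iv D63164)
def n63386 : Q := act 5 n62766
theorem D63386 : act 5 n62766 = n63386 := rfl
theorem F283187 : act 1 n63386 = n62768 := d12_1 D63386 (iv D62768) (iv F280244)
theorem F283188 : act 3 n63386 = n62767 := d25_1 D63386 (iv D62767) D62766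
theorem F283189 : act 9 n63386 = n63022 := d38_2 (iv F280247) D63386 F281619
def n63387 : Q := act 4 n62768
theorem D63387 : act 4 n62768 = n63387 := rfl
theorem F283190 : act 0 n63387 = n62958 := d3_1 D63387 F281312 (iv F280252)
theorem F283191 : act 2 n63387 = n63387 := d18_1 D63387 (iv D63387) F280253
theorem F283192 : act 3 n63387 = n62882 := d24_1 D63387 F280980 F277312 (iv F276273) (iv F280254)
theorem F283193 : act 5 n63387 = n62803 := d30_2 D62768 D63387 (iv D62803) (iv D61971) (iv F276268)
theorem F283194 : act 6 n63387 = n62818 := d31_2 F282893 D63387 (iv F282891)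
theorem F283195 : act 7 n63387 = n62950 := d32_2 F283060 D63387 (iv F283059)
theorem F283196 : act 9 n63387 = n62814 := d34_2 (iv F280255) D63387 F280515
def n63388 : Q := act 3 n62769
theorem D63388 : act 3 n62769 = n63388 := rfl
theorem F283197 : act 0 n63388 = n62770 := d2_1 D63388 (iv D62770) (iv F280256)
theorem F283198 : act 1 n63388 = n63217 := d10_1 D63388 (iv D63217) (iv F280257)
theorem F283199 : act 4 n63388 = n62776 := d24_2 D62769 D63388 (iv D62776) (iv D61938) (iv F276277)
theorem F283200 : act 6 n63388 = n63249 := d26_2 (iv F280258) D63388 (iv D63249)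
theorem F283201 : act 9 n63388 = n63179 := d29_2 (iv F280259) D63388 (iv D63179)
def n63389 : Q := act 5 n62769
theorem D63389 : act 5 n62769 = n63389 := rfl
theorem F283202 : act 0 n63389 = n62771 := d4_1 D63389 (iv D62771) (iv F280256)
theorem F283203 : act 1 n63389 = n63089 := d12_1 D63389 F281886 (iv F280257)
theorem F283204 : act 4 n63389 = n62774 := d30_1 D63389 (iv D62774) (iv D61935) (iv F276278) D62769
theorem F283205 : act 8 n63389 = n63024 := d37_2 F282824 D63389 F282826
theorem F283206 : act 9 n63389 = n63005 := d38_2 (iv F280259) D63389 F281540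
def n63390 : Q := act 2 n62770
theorem D63390 : act 2 n62770 = n63390 := rfl
theorem F283207 : act 1 n63390 = n63390 := d9_1 D63390 (iv D63390) F280260 F276285 (iv F280260)
theorem F283208 : act 4 n63390 = n62777 := d18_2 (iv F280261) D63390 (iv D62777)
theorem F283209 : act 6 n63390 = n63250 := d20_2 (iv F280262) D63390 (iv D63250)
theorem F283210 : act 9 n63390 = n63180 := d23_2 (iv F280263) D63390 (iv D63180)
def n63391 : Q := act 5 n62770
theorem D63391 : act 5 n62770 = n63391 := rfl
theorem F283211 : act 1 n63391 = n62772 := d12_1 D63391 (iv D62772) (iv F280260)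
theorem F283212 : act 3 n63391 = n62771 := d25_1 D63391 (iv D62771) D62770
theorem F283213 : act 9 n63391 = n62996 := d38_2 (iv F280263) D63391 F281498
def n63392 : Q := act 8 n62770
theorem D63392 : act 8 n62770 = n63392 := rfl
theorem F283214 : act 1 n63392 = n62773 := d15_1 D63392 (iv D62773) (iv F280260)
theorem F283215 : act 3 n63392 = n62917 := d28_1 D63392 F281140 (iv F279802) F279805 D62770
theorem F283216 : act 4 n63392 = n62778 := d33_1 D63392 (iv D62778) (iv F280261)
theorem F283217 : act 6 n63392 = n62998 := d40_1 D63392 F281510 (iv F280262)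
theorem F283218 : act 7 n63392 = n62925 := d42_1 D63392 (iv F283081) F283080
theorem F283219 : act 9 n63392 = n62919 := d44_2 (iv F280263) D63392 F281151 F279211 (iv F278963)
def n63393 : Q := act 8 n62772
theorem D63393 : act 8 n62772 = n63393 := rfl
theorem F283220 : act 0 n63393 = n62915 := d7_1 D63393 F281127 (iv F280268)
theorem F283221 : act 2 n63393 = n63393 := d22_1 D63393 (iv D63393) F280269
theorem F283222 : act 3 n63393 = n62876 := d28_1 D63393 F280938 F277312 (iv F276292) (iv F280270)
theorem F283223 : act 5 n63393 = n62773 := d37_1 D63393 (iv D62773) D62772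
theorem F283224 : act 6 n63393 = n63170 := d40_1 D63393 (iv F282621) F282619
theorem F283225 : act 7 n63393 = n62927 := d42_1 D63393 (iv F283094) F283093
theorem F283226 : act 9 n63393 = n62867 := d44_2 (iv F280271) D63393 (iv D62867) F277158 D62243
def n63394 : Q := act 6 n62774
theorem D63394 : act 6 n62774 = n63394 := rfl
theorem F283227 : act 0 n63394 = n62775 := d5_1 D63394 (iv D62775) (iv F280279)
theorem F283228 : act 1 n63394 = n63112 := d13_1 D63394 F281975 (iv F280280)
theorem F283229 : act 2 n63394 = n63270 := d20_1 D63394 (iv F283166) F283165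
theorem F283230 : act 5 n63394 = n63012 := d35_1 D63394 F281577 F278099 (iv F276296) D62774
theorem F283231 : act 9 n63394 = n63155 := d41_2 (iv F280281) D63394 F282119
def n63395 : Q := act 2 n62776
theorem D63395 : act 2 n62776 = n63395 := rfl
theorem F283232 : act 0 n63395 = n62777 := d1_1 D63395 (iv D62777) (iv F280286)
theorem F283233 : act 3 n63395 = n63065 := d17_2 D62776 D63395 (iv D63065) (iv D62331) (iv F276305)
theorem F283234 : act 6 n63395 = n63251 := d20_2 (iv F280287) D63395 (iv D63251)
theorem F283235 : act 9 n63395 = n63266 := d23_2 (iv F280288) D63395 (iv D63266)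
def n63396 : Q := act 8 n62776
theorem D63396 : act 8 n62776 = n63396 := rfl
theorem F283236 : act 0 n63396 = n62778 := d7_1 D63396 (iv D62778) (iv F280286)
theorem F283237 : act 1 n63396 = n63194 := d15_1 D63396 (iv F282973) F282968
theorem F283238 : act 3 n63396 = n62805 := d28_1 D63396 (iv D62805) (iv D61976) (iv F276307) D62776
theorem F283239 : act 6 n63396 = n63126 := d40_1 D63396 F282026 (iv F280287)
def n63397 : Q := act 8 n62777
theorem D63397 : act 8 n62777 = n63397 := rfl
theorem F283240 : act 1 n63397 = n63397 := d15_1 D63397 (iv D63397) F280289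
theorem F283241 : act 2 n63397 = n62778 := d22_1 D63397 (iv D62778) D62777
theorem F283242 : act 6 n63397 = n63127 := d40_1 D63397 F282030 (iv F280291)
theorem F283243 : act 3 n63138 = n63397 := d26_3 F283242 F282028 (iv F282062)
def n63398 : Q := act 9 n62778
theorem D63398 : act 9 n62778 = n63398 := rfl
theorem F283244 : act 1 n63398 = n62779 := d16_1 D63398 (iv D62779) (iv F280293)
theorem F283245 : act 3 n63398 = n62806 := d29_1 D63398 (iv D62806) (iv F280294)
theorem F283246 : act 4 n63398 = n62919 := d34_1 D63398 (iv F283219) F283216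
theorem F283247 : act 6 n63398 = n63007 := d41_1 D63398 F281553 (iv F280295)
theorem F283248 : act 7 n63398 = n62899 := d43_1 D63398 F283152 F283151
theorem F283249 : act 8 n63398 = n63227 := d44_1 D63398 F282339 F279170 (iv F276311) D62778
def n63399 : Q := act 4 n62780
theorem D63399 : act 4 n62780 = n63399 := rfl
theorem F283250 : act 0 n63399 = n62781 := d3_1 D63399 (iv D62781) D62780
theorem F283251 : act 1 n63399 = n62947 := d11_1 D63399 (iv D62947) (iv F280303)
theorem F283252 : act 2 n63399 = n63069 := d18_1 D63399 (iv D63069) (iv F280304)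
theorem F283253 : act 6 n63399 = n62784 := d31_2 (iv F280307) D63399 (iv D62784)
theorem F283254 : act 7 n63399 = n63027 := d32_2 (iv F280308) D63399 (iv D63027)
theorem F283255 : act 8 n63399 = n63074 := d33_2 (iv F280309) D63399 (iv D63074)
theorem F283256 : act 9 n63399 = n62810 := d34_2 (iv F280310) D63399 (iv D62810)
def n63400 : Q := act 3 n62781
theorem D63400 : act 3 n62781 = n63400 := rfl
theorem F283257 : act 1 n63400 = n62782 := d10_1 D63400 (iv D62782) (iv F280311)
theorem F283258 : act 4 n63400 = n63018 := d24_2 D62781 D63400 (iv D63018) (iv D62276) (iv F276317)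
theorem F283259 : act 6 n63400 = n62785 := d26_2 (iv F280313) D63400 (iv D62785)
theorem F283260 : act 7 n63400 = n63028 := d27_2 (iv F280314) D63400 (iv D63028)
theorem F283261 : act 9 n63400 = n62811 := d29_2 (iv F280316) D63400 (iv D62811)
def n63401 : Q := act 5 n62781
theorem D63401 : act 5 n62781 = n63401 := rfl
theorem F283262 : act 1 n63401 = n62783 := d12_1 D63401 (iv D62783) (iv F280311)
theorem F283263 : act 2 n63401 = n62934 := d19_1 D63401 F281209 (iv F280312)
theorem F283264 : act 4 n63401 = n62792 := d30_1 D63401 (iv D62792) (iv D61955) (iv F276318) D62781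
theorem F283265 : act 6 n63401 = n62926 := d35_2 (iv F280313) D63401 (iv D62926) F277536 (iv F276344)
theorem F283266 : act 7 n63401 = n62969 := d36_2 (iv F280314) D63401 F281363
theorem F283267 : act 8 n63401 = n62962 := d37_2 (iv F280315) D63401 F281329
theorem F283268 : act 9 n63401 = n62812 := d38_2 (iv F280316) D63401 (iv D62812)
def n63402 : Q := act 5 n62782
theorem D63402 : act 5 n62782 = n63402 := rfl
theorem F283269 : act 0 n63402 = n62950 := d4_1 D63402 (iv D62950) (iv F280317)
theorem F283270 : act 2 n63402 = n63402 := d19_1 D63402 (iv D63402) F280318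
theorem F283271 : act 3 n63402 = n62783 := d25_1 D63402 (iv D62783) D62782
theorem F283272 : act 4 n63402 = n63108 := d30_1 D63402 F281958 F279028 (iv F278140) (iv F280319)
theorem F283273 : act 6 n63402 = n62927 := d35_2 (iv F280320) D63402 (iv D62927) F277540 (iv F276349)
theorem F283274 : act 7 n63402 = n62958 := d36_2 (iv F280321) D63402 F281313
theorem F283275 : act 9 n63402 = n62813 := d38_2 (iv F280322) D63402 (iv D62813)
def n63403 : Q := act 8 n62782
theorem D63403 : act 8 n62782 = n63403 := rfl
theorem F283276 : act 0 n63403 = n62951 := d7_1 D63403 (iv D62951) (iv F280317)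
theorem F283277 : act 2 n63403 = n63403 := d22_1 D63403 (iv D63403) F280318
theorem F283278 : act 3 n63403 = n63046 := d28_1 D63403 F281716 (iv D62344) (iv F276327) D62782
theorem F283279 : act 4 n63403 = n63019 := d33_1 D63403 (iv D63019) (iv F280319)
theorem F283280 : act 6 n63403 = n62786 := d40_1 D63403 (iv D62786) (iv F280320)
theorem F283281 : act 7 n63403 = n63029 := d42_1 D63403 (iv D63029) (iv F280321)
def n63404 : Q := act 3 n62784
theorem D63404 : act 3 n62784 = n63404 := rfl
theorem F283282 : act 0 n63404 = n62785 := d2_1 D63404 (iv D62785) (iv F280330)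
theorem F283283 : act 5 n63404 = n63235 := d25_2 (iv F280332) D63404 (iv D63235)
theorem F283284 : act 7 n63404 = n63061 := d27_2 (iv F280333) D63404 (iv D63061)
theorem F283285 : act 9 n63404 = n62815 := d29_2 (iv F280335) D63404 (iv D62815)
def n63405 : Q := act 2 n62785
theorem D63405 : act 2 n62785 = n63405 := rfl
theorem F283286 : act 1 n63405 = n63405 := d9_1 D63405 (iv D63405) F280336 F276348 (iv F280336)
theorem F283287 : act 3 n63405 = n63072 := d17_2 D62785 D63405 (iv D63072) (iv D62339) (iv F276343)
theorem F283288 : act 5 n63405 = n63236 := d19_2 (iv F280337) D63405 (iv D63236)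
theorem F283289 : act 7 n63405 = n63062 := d21_2 (iv F280338) D63405 (iv D63062)
theorem F283290 : act 9 n63405 = n62816 := d23_2 (iv F280339) D63405 (iv D62816)
def n63406 : Q := act 8 n62785
theorem D63406 : act 8 n62785 = n63406 := rfl
theorem F283291 : act 1 n63406 = n62786 := d15_1 D63406 (iv D62786) (iv F280336)
theorem F283292 : act 3 n63406 = n63085 := d28_1 D63406 (iv D63085) (iv D62355) (iv F276346) D62785
theorem F283293 : act 5 n63406 = n63189 := d37_1 D63406 F282246 (iv F280337)
theorem F283294 : act 7 n63406 = n63063 := d42_1 D63406 (iv D63063) (iv F280338)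
def n63407 : Q := act 9 n62786
theorem D63407 : act 9 n62786 = n63407 := rfl
theorem F283295 : act 0 n63407 = n62901 := d8_1 D63407 F282486 F282479
theorem F283296 : act 2 n63407 = n63407 := d23_1 D63407 (iv D63407) F280340
theorem F283297 : act 3 n63407 = n62855 := d29_1 D63407 F280804 (iv F280341)
theorem F283298 : act 5 n63407 = n62854 := d38_1 D63407 F280798 (iv F280342)
theorem F283299 : act 7 n63407 = n63064 := d43_1 D63407 (iv D63064) (iv F280343)
theorem F283300 : act 8 n63407 = n62818 := d44_1 D63407 (iv D62818) (iv D61987) (iv F276351) D62786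
def n63408 : Q := act 3 n62788
theorem D63408 : act 3 n62788 = n63408 := rfl
theorem F283301 : act 0 n63408 = n62789 := d2_1 D63408 (iv D62789) (iv F280352)
theorem F283302 : act 1 n63408 = n63262 := d10_1 D63408 (iv D63262) (iv F280353)
theorem F283303 : act 5 n63408 = n63140 := d25_2 (iv F280355) D63408 (iv D63140)
theorem F283304 : act 7 n63408 = n62799 := d27_2 (iv F280356) D63408 (iv D62799)
theorem F283305 : act 9 n63408 = n63145 := d29_2 (iv F280358) D63408 F282078
def n63409 : Q := act 2 n62789
theorem D63409 : act 2 n62789 = n63409 := rfl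
theorem F283306 : act 1 n63409 = n63409 := d9_1 D63409 (iv D63409) F280359 F276379 (iv F280359)
theorem F283307 : act 3 n63409 = n63250 := d17_2 D62789 D63409 (iv D63250) (iv D62595) (iv F276373)
theorem F283308 : act 5 n63409 = n63141 := d19_2 (iv F280360) D63409 (iv D63141)
theorem F283309 : act 7 n63409 = n62801 := d21_2 (iv F280361) D63409 (iv D62801)
theorem F283310 : act 9 n63409 = n63147 := d23_2 (iv F280362) D63409 F282084
def n63410 : Q := act 5 n62791
theorem D63410 : act 5 n62791 = n63410 := rfl
theorem F283311 : act 0 n63410 = n62792 := d4_1 D63410 (iv D62792) (iv F280370)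
theorem F283312 : act 1 n63410 = n62960 := d12_1 D63410 (iv D62960) (iv F280371)
theorem F283313 : act 2 n63410 = n63077 := d19_1 D63410 (iv D63077) (iv F280372)
theorem F283314 : act 3 n63410 = n63125 := d25_1 D63410 F282022 (iv F280373)
theorem F283315 : act 7 n63410 = n62970 := d36_2 (iv F280375) D63410 F281367
theorem F283316 : act 9 n63410 = n62823 := d38_2 (iv F280376) D63410 (iv D62823)
def n63411 : Q := act 8 n62793
theorem D63411 : act 8 n62793 = n63411 := rfl
theorem F283317 : act 0 n63411 = n62794 := d7_1 D63411 (iv D62794) (iv F280382)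
theorem F283318 : act 1 n63411 = n63188 := d15_1 D63411 F282243 (iv F280383)
theorem F283319 : act 2 n63411 = n63128 := d22_1 D63411 F282034 (iv F280388)
theorem F283320 : act 4 n63411 = n62897 := d33_1 D63411 F281063 (iv F280384)
theorem F283321 : act 6 n63411 = n63206 := d40_1 D63411 F282283 (iv F280385)
theorem F283322 : act 7 n63411 = n62805 := d42_1 D63411 (iv D62805) (iv F280386)
theorem F283323 : act 9 n63411 = n62898 := d44_2 (iv F280387) D63411 F281067 F277430 F276667
def n63412 : Q := act 3 n62795
theorem D63412 : act 3 n62795 = n63412 := rfl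
theorem F283324 : act 0 n63412 = n62796 := d2_1 D63412 (iv D62796) (iv F280395)
theorem F283325 : act 1 n63412 = n63126 := d10_1 D63412 (iv D63126) (iv F280396)
theorem F283326 : act 4 n63412 = n63071 := d24_2 D62795 D63412 (iv D63071) (iv D62338) (iv F276429)
theorem F283327 : act 5 n63412 = n63215 := d25_2 (iv F280398) D63412 (iv D63215)
theorem F283328 : act 6 n63412 = n63194 := d26_2 (iv F280399) D63412 (iv D63194)
theorem F283329 : act 7 n63412 = n63249 := d27_2 (iv F280400) D63412 (iv D63249)
theorem F283330 : act 8 n63412 = n63245 := d28_2 (iv F280401) D63412 (iv D63245) F279227 (iv F276453)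
theorem F283331 : act 9 n63412 = n63095 := d29_2 (iv F280402) D63412 (iv D63095)
def n63413 : Q := act 2 n62796
theorem D63413 : act 2 n62796 = n63413 := rfl
theorem F283332 : act 1 n63413 = n63413 := d9_1 D63413 (iv D63413) F280403 F276443 (iv F280403)
theorem F283333 : act 3 n63413 = n62801 := d17_2 D62796 D63413 (iv D62801) (iv D61969) (iv F276436)
theorem F283334 : act 4 n63413 = n63072 := d18_2 (iv F280404) D63413 (iv D63072)
theorem F283335 : act 5 n63413 = n63216 := d19_2 (iv F280405) D63413 (iv D63216)
theorem F283336 : act 6 n63413 = n63195 := d20_2 (iv F280406) D63413 (iv D63195)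
theorem F283337 : act 7 n63413 = n63250 := d21_2 (iv F280407) D63413 (iv D63250)
theorem F283338 : act 8 n63413 = n63246 := d22_2 (iv F280408) D63413 (iv D63246)
theorem F283339 : act 9 n63413 = n63097 := d23_2 (iv F280409) D63413 (iv D63097)
def n63414 : Q := act 3 n62797
theorem D63414 : act 3 n62797 = n63414 := rfl
theorem F283340 : act 0 n63414 = n62798 := d2_1 D63414 (iv D62798) (iv F280410)
theorem F283341 : act 1 n63414 = n63182 := d10_1 D63414 (iv D63182) (iv F280411)
theorem F283342 : act 4 n63414 = n63163 := d24_2 D62797 D63414 (iv D63163) (iv D62463) (iv F276467)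
theorem F283343 : act 5 n63414 = n63105 := d25_2 (iv F280413) D63414 (iv D63105)
theorem F283344 : act 6 n63414 = n63196 := d26_2 (iv F280414) D63414 (iv D63196)
theorem F283345 : act 7 n63414 = n63145 := d27_2 (iv F280415) D63414 F282078
theorem F283346 : act 8 n63414 = n63192 := d28_2 (iv F280416) D63414 (iv D63192) F279033 (iv F276722)
theorem F283347 : act 9 n63414 = n62799 := d29_2 (iv F280417) D63414 (iv D62799)
def n63415 : Q := act 2 n62798
theorem D63415 : act 2 n62798 = n63415 := rfl
theorem F283348 : act 1 n63415 = n63415 := d9_1 D63415 (iv D63415) F280418 F276481 (iv F280418)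
theorem F283349 : act 3 n63415 = n63097 := d17_2 D62798 D63415 (iv D63097) (iv D62372) (iv F276474)
theorem F283350 : act 4 n63415 = n63164 := d18_2 (iv F280419) D63415 (iv D63164)
theorem F283351 : act 5 n63415 = n63106 := d19_2 (iv F280420) D63415 (iv D63106)
theorem F283352 : act 6 n63415 = n63197 := d20_2 (iv F280421) D63415 (iv D63197)
theorem F283353 : act 7 n63415 = n63147 := d21_2 (iv F280422) D63415 F282084
theorem F283354 : act 8 n63415 = n63193 := d22_2 (iv F280423) D63415 (iv D63193)
theorem F283355 : act 9 n63415 = n62801 := d23_2 (iv F280424) D63415 (iv D62801)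
def n63416 : Q := act 2 n62799
theorem D63416 : act 2 n62799 = n63416 := rfl
theorem F283356 : act 0 n63416 = n62801 := d1_1 D63416 (iv D62801) (iv F280425)
theorem F283357 : act 6 n63416 = n63198 := d20_2 (iv F280426) D63416 (iv D63198)
def n63417 : Q := act 5 n62799
theorem D63417 : act 5 n62799 = n63417 := rfl
theorem F283358 : act 0 n63417 = n62802 := d4_1 D63417 (iv D62802) (iv F280425)
theorem F283359 : act 1 n63417 = n63252 := d12_1 D63417 (iv F282986) F282984
theorem F283360 : act 3 n63417 = n62800 := d25_1 D63417 (iv D62800) D62799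
theorem F283361 : act 7 n63417 = n63140 := d36_2 F283304 D63417 (iv F283303)
theorem F283362 : act 9 n63417 = n63105 := d38_2 F283347 D63417 (iv F283343)
theorem F283363 : act 6 n63213 = n63417 := d26_0 F283360 (iv F280434) D63213
def n63418 : Q := act 5 n62801
theorem D63418 : act 5 n62801 = n63418 := rfl
theorem F283364 : act 1 n63418 = n63418 := d12_1 D63418 (iv D63418) F280435
theorem F283365 : act 2 n63418 = n62802 := d19_1 D63418 (iv D62802) D62801
theorem F283366 : act 3 n63418 = n63216 := d25_1 D63418 (iv F283335) F283333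
theorem F283367 : act 7 n63418 = n63141 := d36_2 F283309 D63418 (iv F283308)
theorem F283368 : act 9 n63418 = n63106 := d38_2 F283355 D63418 (iv F283351)
theorem F283369 : act 6 n63214 = n63418 := d26_0 F283366 F282311 (iv F282304)
def n63419 : Q := act 4 n62802
theorem D63419 : act 4 n62802 = n63419 := rfl
theorem F283370 : act 1 n63419 = n62803 := d11_1 D63419 (iv D62803) (iv F280437)
theorem F283371 : act 3 n63419 = n62936 := d24_1 D63419 (iv D62936) F277584 (iv F276495) (iv F280438)
theorem F283372 : act 6 n63419 = n62984 := d31_2 F280441 D63419 F281440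
theorem F283373 : act 7 n63419 = n62948 := d32_2 (iv F280439) D63419 F281282
theorem F283374 : act 9 n63419 = n62938 := d34_2 (iv F280440) D63419 F281230
def n63420 : Q := act 9 n62805
theorem D63420 : act 9 n62805 = n63420 := rfl
theorem F283375 : act 0 n63420 = n62806 := d8_1 D63420 (iv D62806) (iv F280457)
theorem F283376 : act 1 n63420 = n63093 := d16_1 D63420 F281906 (iv F280458)
theorem F283377 : act 2 n63420 = n63131 := d23_1 D63420 F282044 (iv F280459)
theorem F283378 : act 4 n63420 = n62885 := d34_1 D63420 F281003 (iv F280460)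
theorem F283379 : act 6 n63420 = n63006 := d41_1 D63420 F281547 (iv F280461)
theorem F283380 : act 7 n63420 = n62898 := d43_1 D63420 (iv F283323) F283322
theorem F283381 : act 8 n63420 = n62827 := d44_1 D63420 (iv D62827) (iv D62013) (iv F276540) D62805
def n63421 : Q := act 4 n62807
theorem D63421 : act 4 n62807 = n63421 := rfl
theorem F283382 : act 0 n63421 = n62808 := d3_1 D63421 (iv D62808) D62807
theorem F283383 : act 1 n63421 = n62937 := d11_1 D63421 (iv D62937) (iv F280468)
theorem F283384 : act 2 n63421 = n62869 := d18_1 D63421 (iv D62869) (iv F280469)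
theorem F283385 : act 5 n63421 = n62968 := d30_2 (iv F280471) D63421 F281360 F280566 (iv D62822)
theorem F283386 : act 6 n63421 = n62889 := d31_2 (iv F280472) D63421 (iv D62889)
theorem F283387 : act 7 n63421 = n62810 := d32_2 (iv F280473) D63421 (iv D62810)
theorem F283388 : act 8 n63421 = n62868 := d33_2 (iv F280474) D63421 (iv D62868)
theorem F283389 : act 9 n63421 = n63027 := d34_2 (iv F280475) D63421 (iv D63027)
def n63422 : Q := act 3 n62808
theorem D63422 : act 3 n62808 = n63422 := rfl
theorem F283390 : act 1 n63422 = n62809 := d10_1 D63422 (iv D62809) (iv F280476)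
theorem F283391 : act 4 n63422 = n63011 := d24_2 D62808 D63422 (iv D63011) (iv D62263) (iv F276553)
theorem F283392 : act 5 n63422 = n62956 := d25_2 (iv F280478) D63422 F281302
theorem F283393 : act 6 n63422 = n62890 := d26_2 (iv F280479) D63422 (iv D62890)
theorem F283394 : act 7 n63422 = n62811 := d27_2 (iv F280480) D63422 (iv D62811)
theorem F283395 : act 8 n63422 = n62955 := d28_2 (iv F280481) D63422 F281300 F277717 (iv F277176)
theorem F283396 : act 9 n63422 = n63028 := d29_2 (iv F280482) D63422 (iv D63028)
def n63423 : Q := act 3 n62810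
theorem D63423 : act 3 n62810 = n63423 := rfl
theorem F283397 : act 0 n63423 = n62811 := d2_1 D63423 (iv D62811) (iv F280491)
theorem F283398 : act 1 n63423 = n62952 := d10_1 D63423 (iv D62952) (iv F280492)
theorem F283399 : act 4 n63423 = n63020 := d24_2 D62810 D63423 (iv D63020) (iv D62278) (iv F276568)
theorem F283400 : act 6 n63423 = n62815 := d26_2 (iv F280494) D63423 (iv D62815)
def n63424 : Q := act 5 n62810
theorem D63424 : act 5 n62810 = n63424 := rfl
theorem F283401 : act 0 n63424 = n62812 := d4_1 D63424 (iv D62812) (iv F280491)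
theorem F283402 : act 1 n63424 = n62953 := d12_1 D63424 (iv D62953) (iv F280492)
theorem F283403 : act 2 n63424 = n62933 := d19_1 D63424 F281206 (iv F280493)
theorem F283404 : act 4 n63424 = n62823 := d30_1 D63424 (iv D62823) (iv D61996) (iv F276569) D62810
theorem F283405 : act 6 n63424 = n62929 := d35_2 (iv F280494) D63424 (iv D62929) F277546 (iv F276588)
theorem F283406 : act 7 n63424 = n62968 := d36_2 F283387 D63424 (iv F283385)
theorem F283407 : act 8 n63424 = n62880 := d37_2 (iv F280495) D63424 (iv D62880)
def n63425 : Q := act 2 n62811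
theorem D63425 : act 2 n62811 = n63425 := rfl
theorem F283408 : act 1 n63425 = n63425 := d9_1 D63425 (iv D63425) F280496 F276577 (iv F280496)
theorem F283409 : act 3 n63425 = n63099 := d17_2 D62811 D63425 (iv D63099) (iv D62376) (iv F276573)
theorem F283410 : act 4 n63425 = n63021 := d18_2 (iv F280497) D63425 (iv D63021)
theorem F283411 : act 6 n63425 = n62816 := d20_2 (iv F280498) D63425 (iv D62816)
def n63426 : Q := act 5 n62811
theorem D63426 : act 5 n62811 = n63426 := rfl
theorem F283412 : act 1 n63426 = n62813 := d12_1 D63426 (iv D62813) (iv F280496)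
theorem F283413 : act 3 n63426 = n62812 := d25_1 D63426 (iv D62812) D62811
theorem F283414 : act 4 n63426 = n63107 := d30_1 D63426 F281954 F279035 (iv F278148) (iv F280497)
theorem F283415 : act 6 n63426 = n62931 := d35_2 (iv F280498) D63426 (iv D62931) F277549 (iv F276592)
theorem F283416 : act 7 n63426 = n62956 := d36_2 F283394 D63426 (iv F283392)
theorem F283417 : act 8 n62938 = n63426 := d42_0 F283416 (iv D62956) (iv F281231)
def n63427 : Q := act 8 n62811
theorem D63427 : act 8 n62811 = n63427 := rfl
theorem F283418 : act 1 n63427 = n62814 := d15_1 D63427 (iv D62814) (iv F280496)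
theorem F283419 : act 3 n63427 = n62881 := d28_1 D63427 (iv D62881) (iv D62091) (iv F276575) D62811
theorem F283420 : act 4 n63427 = n63022 := d33_1 D63427 (iv D63022) (iv F280497)
theorem F283421 : act 5 n63427 = n62938 := d37_1 D63427 F283417 (iv D63426)
theorem F283422 : act 6 n63427 = n62817 := d40_1 D63427 (iv D62817) (iv F280498)
theorem F283423 : act 7 n63427 = n62955 := d42_1 D63427 (iv F283395) F283394
def n63428 : Q := act 2 n62815
theorem D63428 : act 2 n62815 = n63428 := rfl
theorem F283424 : act 0 n63428 = n62816 := d1_1 D63428 (iv D62816) (iv F280519)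
theorem F283425 : act 3 n63428 = n63100 := d17_2 D62815 D63428 (iv D63100) (iv D62377) (iv F276587)
theorem F283426 : act 5 n63428 = n63237 := d19_2 (iv F280520) D63428 (iv D63237)
theorem F283427 : act 7 n63428 = n63202 := d21_2 (iv F280521) D63428 (iv D63202)
def n63429 : Q := act 8 n62815
theorem D63429 : act 8 n62815 = n63429 := rfl
theorem F283428 : act 0 n63429 = n62817 := d7_1 D63429 (iv D62817) (iv F280519)
theorem F283429 : act 3 n63429 = n63224 := d28_1 D63429 F282330 F279149 (iv F276590) D62815
theorem F283430 : act 5 n63429 = n63223 := d37_1 D63429 F282328 (iv F280520)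
theorem F283431 : act 7 n63429 = n63203 := d42_1 D63429 (iv D63203) (iv F280521)
def n63430 : Q := act 8 n62816
theorem D63430 : act 8 n62816 = n63430 := rfl
theorem F283432 : act 1 n63430 = n63430 := d15_1 D63430 (iv D63430) F280522
theorem F283433 : act 2 n63430 = n62817 := d22_1 D63430 (iv D62817) D62816
theorem F283434 : act 5 n63430 = n63225 := d37_1 D63430 F282332 (iv F280524)
theorem F283435 : act 7 n63430 = n63204 := d42_1 D63430 (iv D63204) (iv F280525)
def n63431 : Q := act 9 n62817
theorem D63431 : act 9 n62817 = n63431 := rfl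
theorem F283436 : act 1 n63431 = n62818 := d16_1 D63431 (iv D62818) (iv F280526)
theorem F283437 : act 3 n63431 = n63222 := d29_1 D63431 F282326 (iv F280527)
theorem F283438 : act 5 n63431 = n63221 := d38_1 D63431 F282323 (iv F280528)
theorem F283439 : act 7 n63431 = n63205 := d43_1 D63431 (iv D63205) (iv F280529)
def n63432 : Q := act 4 n62830
theorem D63432 : act 4 n62830 = n63432 := rfl
theorem F283440 : act 0 n63432 = n62831 := d3_1 D63432 (iv D62831) D62830
theorem F283441 : act 1 n63432 = n63220 := d11_1 D63432 (iv D63220) (iv F280622)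
theorem F283442 : act 2 n63432 = n62947 := d18_1 D63432 (iv D62947) (iv F280623)
theorem F283443 : act 6 n63432 = n62971 := d31_2 (iv F280626) D63432 (iv D62971)
theorem F283444 : act 7 n63432 = n63226 := d32_2 (iv F280627) D63432 (iv D63226)
theorem F283445 : act 8 n63432 = n62838 := d33_2 (iv F280628) D63432 (iv D62838)
theorem F283446 : act 9 n63432 = n62940 := d34_2 (iv F280629) D63432 (iv D62940)
def n63433 : Q := act 3 n62831
theorem D63433 : act 3 n62831 = n63433 := rfl
theorem F283447 : act 1 n63433 = n62832 := d10_1 D63433 (iv D62832) (iv F280630)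
theorem F283448 : act 4 n63433 = n62844 := d24_2 D62831 D63433 (iv D62844) (iv D62039) (iv F276851)
theorem F283449 : act 6 n63433 = n62972 := d26_2 (iv F280632) D63433 (iv D62972)
theorem F283450 : act 7 n63433 = n63227 := d27_2 (iv F280633) D63433 (iv D63227)
theorem F283451 : act 8 n63433 = n62899 := d28_2 (iv F280634) D63433 (iv D62899) F277401 (iv F276897)
theorem F283452 : act 9 n63433 = n62941 := d29_2 (iv F280635) D63433 (iv D62941)
def n63434 : Q := act 5 n62831
theorem D63434 : act 5 n62831 = n63434 := rfl
theorem F283453 : act 1 n63434 = n62833 := d12_1 D63434 (iv D62833) (iv F280630)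
theorem F283454 : act 2 n63434 = n62949 := d19_1 D63434 (iv D62949) (iv F280631)
theorem F283455 : act 4 n63434 = n62944 := d30_1 D63434 (iv D62944) (iv D62174) (iv F276852) D62831
theorem F283456 : act 6 n63434 = n62969 := d35_2 (iv F280632) D63434 F281363 F278192 (iv F277814)
theorem F283457 : act 7 n63434 = n63228 := d36_2 (iv F280633) D63434 (iv D63228)
theorem F283458 : act 8 n63434 = n62839 := d37_2 (iv F280634) D63434 (iv D62839)
theorem F283459 : act 9 n63434 = n62942 := d38_2 (iv F280635) D63434 (iv D62942)
def n63435 : Q := act 4 n62834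
theorem D63435 : act 4 n62834 = n63435 := rfl
theorem F283460 : act 0 n63435 = n62835 := d3_1 D63435 (iv D62835) D62834
theorem F283461 : act 1 n63435 = n63226 := d11_1 D63435 (iv D63226) (iv F280650)
theorem F283462 : act 2 n63435 = n62924 := d18_1 D63435 (iv D62924) (iv F280651)
theorem F283463 : act 6 n63435 = n62976 := d31_2 (iv F280654) D63435 (iv D62976)
theorem F283464 : act 7 n63435 = n63220 := d32_2 (iv F280655) D63435 (iv D63220)
theorem F283465 : act 8 n63435 = n62943 := d33_2 (iv F280656) D63435 (iv D62943)
theorem F283466 : act 9 n63435 = n62920 := d34_2 (iv F280657) D63435 (iv D62920)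
def n63436 : Q := act 3 n62835
theorem D63436 : act 3 n62835 = n63436 := rfl
theorem F283467 : act 1 n63436 = n62836 := d10_1 D63436 (iv D62836) (iv F280658)
theorem F283468 : act 4 n63436 = n62841 := d24_2 D62835 D63436 (iv D62841) (iv D62034) (iv F276872)
theorem F283469 : act 6 n63436 = n62977 := d26_2 (iv F280660) D63436 (iv D62977)
theorem F283470 : act 7 n63436 = n63221 := d27_2 (iv F280661) D63436 (iv D63221)
theorem F283471 : act 8 n63436 = n63094 := d28_2 (iv F280662) D63436 (iv D63094) F278523 (iv F277661)
theorem F283472 : act 9 n63436 = n62921 := d29_2 (iv F280663) D63436 (iv D62921)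
theorem F283473 : act 5 n63205 = n63436 := d38_3 F283472 (iv F281163) D63205
def n63437 : Q := act 5 n62835
theorem D63437 : act 5 n62835 = n63437 := rfl
theorem F283474 : act 1 n63437 = n62837 := d12_1 D63437 (iv D62837) (iv F280658)
theorem F283475 : act 2 n63437 = n62926 := d19_1 D63437 (iv D62926) (iv F280659)
theorem F283476 : act 3 n63437 = n63205 := d25_1 D63437 F283473 (iv D63436)
theorem F283477 : act 4 n63437 = n62839 := d30_1 D63437 (iv D62839) (iv D62031) (iv F276873) D62835
theorem F283478 : act 6 n63437 = n62934 := d35_2 (iv F280660) D63437 F281209 F278364 (iv F277848)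
theorem F283479 : act 7 n63437 = n63222 := d36_2 (iv F280661) D63437 (iv D63222)
theorem F283480 : act 8 n63437 = n62944 := d37_2 (iv F280662) D63437 (iv D62944)
theorem F283481 : act 9 n63437 = n62922 := d38_2 (iv F280663) D63437 (iv D62922)
def n63438 : Q := act 5 n62838
theorem D63438 : act 5 n62838 = n63438 := rfl
theorem F283482 : act 0 n63438 = n62839 := d4_1 D63438 (iv D62839) (iv F280680)
theorem F283483 : act 1 n63438 = n63232 := d12_1 D63438 (iv D63232) (iv F280681)
theorem F283484 : act 3 n63438 = n62909 := d25_1 D63438 (iv D62909) (iv F280682)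
theorem F283485 : act 6 n63438 = n63077 := d35_2 (iv F280683) D63438 (iv D63077) F278410 (iv F277862)
theorem F283486 : act 9 n63438 = n62973 := d38_2 (iv F280684) D63438 (iv D62973)
def n63439 : Q := act 3 n62840
theorem D63439 : act 3 n62840 = n63439 := rfl
theorem F283487 : act 0 n63439 = n62841 := d2_1 D63439 (iv D62841) (iv F280689)
theorem F283488 : act 1 n63439 = n63240 := d10_1 D63439 (iv D63240) (iv F280690)
theorem F283489 : act 5 n63439 = n62912 := d25_2 (iv F280692) D63439 (iv D62912)
theorem F283490 : act 6 n63439 = n63101 := d26_2 (iv F280693) D63439 F281933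
theorem F283491 : act 8 n63439 = n63098 := d28_2 (iv F280694) D63439 (iv D63098) F280761 (iv D62849)
theorem F283492 : act 9 n63439 = n62974 := d29_2 (iv F280695) D63439 (iv D62974)
def n63440 : Q := act 2 n62841
theorem D63440 : act 2 n62841 = n63440 := rfl
theorem F283493 : act 1 n63440 = n63440 := d9_1 D63440 (iv D63440) F280696 F276918 (iv F280696)
theorem F283494 : act 3 n63440 = n63168 := d17_2 D62841 D63440 (iv D63168) (iv D62470) (iv F276912)
theorem F283495 : act 5 n63440 = n62913 := d19_2 (iv F280697) D63440 (iv D62913)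
theorem F283496 : act 6 n63440 = n63102 := d20_2 (iv F280698) D63440 F281937
theorem F283497 : act 8 n63440 = n63099 := d22_2 (iv F280699) D63440 (iv D63099)
theorem F283498 : act 9 n63440 = n62975 := d23_2 (iv F280700) D63440 (iv D62975)
def n63441 : Q := act 3 n62843
theorem D63441 : act 3 n62843 = n63441 := rfl
theorem F283499 : act 0 n63441 = n62844 := d2_1 D63441 (iv D62844) (iv F280710)
theorem F283500 : act 6 n63441 = n63223 := d26_2 (iv F280712) D63441 (iv D63223)
theorem F283501 : act 7 n63441 = n63240 := d27_2 (iv F280713) D63441 (iv D63240)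
theorem F283502 : act 8 n63441 = n62928 := d28_2 (iv F280714) D63441 (iv D62928) F277547 (iv F276964)
theorem F283503 : act 9 n63441 = n63243 := d29_2 (iv F280715) D63441 (iv D63243)
def n63442 : Q := act 5 n62843
theorem D63442 : act 5 n62843 = n63442 := rfl
theorem F283504 : act 0 n63442 = n62845 := d4_1 D63442 (iv D62845) (iv F280710)
theorem F283505 : act 1 n63442 = n62889 := d12_1 D63442 (iv F282939) F282937
theorem F283506 : act 2 n63442 = n62851 := d19_1 D63442 F280772 (iv F280711)
theorem F283507 : act 4 n63442 = n62850 := d30_1 D63442 F280765 F277074 (iv F276940) D62843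
theorem F283508 : act 7 n63442 = n62865 := d36_2 (iv F280713) D63442 F280868
theorem F283509 : act 8 n63442 = n62847 := d37_2 (iv F280714) D63442 (iv D62847)
theorem F283510 : act 9 n63442 = n62983 := d38_2 (iv F280715) D63442 F281436
theorem F283511 : act 6 n62937 = n63442 := d40_3 F283509 (iv F280743) (iv F281228)
def n63443 : Q := act 2 n62844
theorem D63443 : act 2 n62844 = n63443 := rfl
theorem F283512 : act 1 n63443 = n63443 := d9_1 D63443 (iv D63443) F280716 F276951 (iv F280716)
theorem F283513 : act 3 n63443 = n63009 := d17_2 D62844 D63443 (iv D63009) (iv D62261) (iv F276946)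
theorem F283514 : act 6 n63443 = n63225 := d20_2 (iv F280717) D63443 (iv D63225)
theorem F283515 : act 7 n63443 = n63241 := d21_2 (iv F280718) D63443 (iv D63241)
theorem F283516 : act 8 n63443 = n62930 := d22_2 (iv F280719) D63443 (iv D62930)
theorem F283517 : act 9 n63443 = n63244 := d23_2 (iv F280720) D63443 (iv D63244)
theorem F283518 : act 5 n63269 = n63443 := d25_0 F283513 F281560 D63269
def n63444 : Q := act 5 n62844
theorem D63444 : act 5 n62844 = n63444 := rfl
theorem F283519 : act 1 n63444 = n62846 := d12_1 D63444 (iv D62846) (iv F280716)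
theorem F283520 : act 2 n63444 = n63269 := d19_1 D63444 F283518 (iv D63443)
theorem F283521 : act 3 n63444 = n62845 := d25_1 D63444 (iv D62845) D62844
theorem F283522 : act 6 n63444 = n62938 := d35_2 (iv F280717) D63444 (iv F283421) F283422 F280528
theorem F283523 : act 7 n63444 = n62866 := d36_2 (iv F280718) D63444 F280873
theorem F283524 : act 8 n63444 = n62931 := d37_2 (iv F280719) D63444 (iv D62931)
theorem F283525 : act 9 n63444 = n62984 := d38_2 (iv F280720) D63444 F281441
theorem F283526 : act 4 n63444 = n63104 := d45_4 (iv F272301) (iv F276949) D62844 D63444 (iv D63104) F278569 F274141 F269106 F269109 F264960 F260235 (iv F259318) (iv D57806) F254375 (iv F248689) F248348 (iv D55325) F240993 (iv D51949) F223311 F223312 F213101 F179811 (iv F179953) F179954 (iv F176806) (iv D42306) F123255 F123253 (iv F125432) D43109 D47676 F213366 F204676 (iv F205872) D47386 D49611 F222216 F215216 F215215 D48070 (iv F225211) (iv F228909) D53009 F237398 (iv F244929) (iv D54671) F237351 F228860 F219413 (iv F225110) (iv F234399) D54102 (iv F245506) F245505 F238098 (iv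 F241854) (iv F245627) (iv F252136) F252135 F249084 F242579 F242581 (iv F249616) (iv F254334) F254335 F248326 (iv D54086) (iv F242459) F242460 D54412 (iv F250188) F250187 (iv D55843) (iv F249338) (iv F255160) D58002 F260038 D58006 F260055 F255182 (iv F254814) (iv F256105) F256107 D58155 (iv F263082) (iv F268021) F268022 (iv F267381)
def n63445 : Q := act 4 n62852
theorem D63445 : act 4 n62852 = n63445 := rfl
theorem F283527 : act 0 n63445 = n62853 := d3_1 D63445 (iv D62853) D62852
theorem F283528 : act 1 n63445 = n62898 := d11_1 D63445 (iv D62898) (iv F280778)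
theorem F283529 : act 2 n63445 = n63190 := d18_1 D63445 (iv D63190) (iv F280779)
theorem F283530 : act 6 n63445 = n63172 := d31_2 (iv F280782) D63445 (iv D63172)
theorem F283531 : act 7 n63445 = n63093 := d32_2 (iv F280783) D63445 (iv D63093)
theorem F283532 : act 8 n63445 = n62862 := d33_2 (iv F280784) D63445 (iv D62862)
theorem F283533 : act 9 n63445 = n63188 := d34_2 (iv F280785) D63445 (iv D63188)
def n63446 : Q := act 3 n62853
theorem D63446 : act 3 n62853 = n63446 := rfl
theorem F283534 : act 1 n63446 = n62854 := d10_1 D63446 (iv D62854) (iv F280786)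
theorem F283535 : act 4 n63446 = n62870 := d24_2 D62853 D63446 (iv D62870) (iv D62076) (iv F277080)
theorem F283536 : act 6 n63446 = n63173 := d26_2 (iv F280788) D63446 (iv D63173)
theorem F283537 : act 7 n63446 = n63094 := d27_2 (iv F280789) D63446 (iv D63094)
theorem F283538 : act 8 n63446 = n63221 := d28_2 (iv F280790) D63446 (iv D63221) F279134 (iv F277127)
theorem F283539 : act 9 n63446 = n63189 := d29_2 (iv F280791) D63446 (iv D63189)
def n63447 : Q := act 5 n62853
theorem D63447 : act 5 n62853 = n63447 := rfl
theorem F283540 : act 1 n63447 = n62855 := d12_1 D63447 (iv D62855) (iv F280786)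
theorem F283541 : act 2 n63447 = n63118 := d19_1 D63447 F281997 (iv F280787)
theorem F283542 : act 4 n63447 = n63110 := d30_1 D63447 (iv D63110) (iv D62389) (iv F277081) D62853
theorem F283543 : act 7 n63447 = n63087 := d36_2 (iv F280789) D63447 F281876
theorem F283544 : act 8 n63447 = n62863 := d37_2 (iv F280790) D63447 (iv D62863)
theorem F283545 : act 9 n63447 = n63085 := d38_2 (iv F280791) D63447 F281866
def n63448 : Q := act 6 n62855
theorem D63448 : act 6 n62855 = n63448 := rfl
theorem F283546 : act 0 n63448 = n62902 := d5_1 D63448 (iv D62902) (iv F280799)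
theorem F283547 : act 2 n63448 = n62856 := d20_1 D63448 (iv D62856) (iv F280800)
theorem F283548 : act 4 n63448 = n62894 := d31_1 D63448 F281045 (iv F280801)
theorem F283549 : act 5 n63448 = n63002 := d35_1 D63448 F281526 F278024 (iv F277088) D62855
theorem F283550 : act 7 n63448 = n63080 := d39_2 (iv F280802) D63448 F281840 F278439 (iv F278476)
theorem F283551 : act 8 n63448 = n62864 := d40_2 (iv F280803) D63448 (iv D62864)
theorem F283552 : act 9 n63448 = n63046 := d41_2 (iv F280804) D63448 F281714
def n63449 : Q := act 4 n62857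
theorem D63449 : act 4 n62857 = n63449 := rfl
theorem F283553 : act 0 n63449 = n62858 := d3_1 D63449 (iv D62858) D62857
theorem F283554 : act 1 n63449 = n62903 := d11_1 D63449 (iv D62903) (iv F280813)
theorem F283555 : act 2 n63449 = n63206 := d18_1 D63449 (iv D63206) (iv F280814)
theorem F283556 : act 6 n63449 = n63128 := d31_2 (iv F280817) D63449 (iv D63128)
theorem F283557 : act 7 n63449 = n63103 := d32_2 (iv F280818) D63449 (iv D63103)
theorem F283558 : act 8 n63449 = n63109 := d33_2 (iv F280819) D63449 (iv D63109)
theorem F283559 : act 9 n63449 = n62986 := d34_2 (iv F280820) D63449 (iv D62986)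
def n63450 : Q := act 3 n62858
theorem D63450 : act 3 n62858 = n63450 := rfl
theorem F283560 : act 1 n63450 = n62859 := d10_1 D63450 (iv D62859) (iv F280821)
theorem F283561 : act 4 n63450 = n62866 := d24_2 D62858 D63450 (iv D62866) (iv D62070) (iv F277100)
theorem F283562 : act 6 n63450 = n63129 := d26_2 (iv F280823) D63450 (iv D63129)
theorem F283563 : act 7 n63450 = n63104 := d27_2 (iv F280824) D63450 (iv D63104)
theorem F283564 : act 9 n63450 = n62987 := d29_2 (iv F280826) D63450 (iv D62987)
def n63451 : Q := act 5 n62858
theorem D63451 : act 5 n62858 = n63451 := rfl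
theorem F283565 : act 1 n63451 = n62860 := d12_1 D63451 (iv D62860) (iv F280821)
theorem F283566 : act 2 n63451 = n63083 := d19_1 D63451 F281854 (iv F280822)
theorem F283567 : act 4 n63451 = n62863 := d30_1 D63451 (iv D62863) (iv D62066) (iv F277101) D62858
theorem F283568 : act 7 n63451 = n63091 := d36_2 (iv F280824) D63451 F281895
theorem F283569 : act 8 n63451 = n63110 := d37_2 (iv F280825) D63451 (iv D63110)
theorem F283570 : act 9 n63451 = n62988 := d38_2 (iv F280826) D63451 (iv D62988)
def n63452 : Q := act 5 n62859
theorem D63452 : act 5 n62859 = n63452 := rfl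
theorem F283571 : act 0 n63452 = n62906 := d4_1 D63452 (iv D62906) (iv F280827)
theorem F283572 : act 2 n63452 = n63452 := d19_1 D63452 (iv D63452) F280828
theorem F283573 : act 3 n63452 = n62860 := d25_1 D63452 (iv D62860) D62859
theorem F283574 : act 4 n63452 = n63170 := d30_1 D63452 F282176 F279159 (iv F277156) (iv F280829)
theorem F283575 : act 7 n63452 = n63092 := d36_2 (iv F280831) D63452 F281900
theorem F283576 : act 9 n63452 = n62989 := d38_2 (iv F280832) D63452 (iv D62989)
def n63453 : Q := act 8 n62859
theorem D63453 : act 8 n62859 = n63453 := rfl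
theorem F283577 : act 0 n63453 = n62907 := d7_1 D63453 (iv D62907) (iv F280827)
theorem F283578 : act 2 n63453 = n63453 := d22_1 D63453 (iv D63453) F280828
theorem F283579 : act 3 n63453 = n62991 := d28_1 D63453 F281478 F278496 (iv F277110) D62859
theorem F283580 : act 4 n63453 = n62867 := d33_1 D63453 (iv D62867) (iv F280829)
theorem F283581 : act 6 n63453 = n62989 := d40_1 D63453 (iv F281467) (iv F280830)
theorem F283582 : act 7 n63453 = n62932 := d42_1 D63453 F281203 (iv F280831)
def n63454 : Q := act 6 n62860
theorem D63454 : act 6 n62860 = n63454 := rfl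
theorem F283583 : act 0 n63454 = n62908 := d5_1 D63454 (iv D62908) (iv F280833)
theorem F283584 : act 2 n63454 = n62861 := d20_1 D63454 (iv D62861) (iv F280834)
theorem F283585 : act 4 n63454 = n62864 := d31_1 D63454 (iv D62864) (iv F280835)
theorem F283586 : act 5 n63454 = n62895 := d35_1 D63454 F281051 (iv D62416) (iv F277108) D62860
theorem F283587 : act 7 n63454 = n63116 := d39_2 (iv F280836) D63454 F281989 F278635 (iv F278512)
theorem F283588 : act 8 n63454 = n62894 := d40_2 (iv F280837) D63454 F281045
theorem F283589 : act 9 n63454 = n62991 := d41_2 (iv F280838) D63454 (iv D62991)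
def n63455 : Q := act 5 n62862
theorem D63455 : act 5 n62862 = n63455 := rfl
theorem F283590 : act 0 n63455 = n62863 := d4_1 D63455 (iv D62863) (iv F280847)
theorem F283591 : act 1 n63455 = n62909 := d12_1 D63455 (iv D62909) (iv F280848)
theorem F283592 : act 2 n63455 = n63210 := d19_1 D63455 (iv D63210) (iv F280849)
theorem F283593 : act 3 n63455 = n63232 := d25_1 D63455 (iv D63232) (iv F280850)
theorem F283594 : act 7 n63455 = n63154 := d36_2 (iv F280852) D63455 F282113
theorem F283595 : act 9 n63455 = n62992 := d38_2 (iv F280853) D63455 (iv D62992)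
def n63456 : Q := act 6 n62863
theorem D63456 : act 6 n62863 = n63456 := rfl
theorem F283596 : act 1 n63456 = n62864 := d13_1 D63456 (iv D62864) (iv F280854)
theorem F283597 : act 2 n63456 = n63211 := d20_1 D63456 (iv D63211) (iv F280855)
theorem F283598 : act 3 n63456 = n63001 := d26_1 D63456 F281521 (iv F280856)
theorem F283599 : act 5 n63456 = n63000 := d35_1 D63456 F281518 F278018 (iv F277128) D62863
theorem F283600 : act 7 n63456 = n63122 := d39_2 (iv F280857) D63456 F282011 F278668 (iv F278790)
theorem F283601 : act 9 n63456 = n62993 := d41_2 (iv F280858) D63456 (iv D62993)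
def n63457 : Q := act 3 n62865
theorem D63457 : act 3 n62865 = n63457 := rfl
theorem F283602 : act 0 n63457 = n62866 := d2_1 D63457 (iv D62866) (iv F280865)
theorem F283603 : act 1 n63457 = n62912 := d10_1 D63457 (iv D62912) (iv F280866)
theorem F283604 : act 5 n63457 = n63240 := d25_2 (iv F280868) D63457 (iv D63240)
theorem F283605 : act 6 n63457 = n63167 := d26_2 (iv F280869) D63457 (iv D63167)
theorem F283606 : act 9 n63457 = n62994 := d29_2 (iv F280871) D63457 (iv D62994)
def n63458 : Q := act 2 n62866
theorem D63458 : act 2 n62866 = n63458 := rfl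
theorem F283607 : act 1 n63458 = n63458 := d9_1 D63458 (iv D63458) F280872 F277155 (iv F280872)
theorem F283608 : act 3 n63458 = n63102 := d17_2 D62866 D63458 F281937 F278558 (iv F277149)
theorem F283609 : act 5 n63458 = n63241 := d19_2 (iv F280873) D63458 (iv D63241)
theorem F283610 : act 6 n63458 = n63168 := d20_2 (iv F280874) D63458 (iv D63168)
theorem F283611 : act 7 n63458 = n63269 := d21_2 F283523 D63458 (iv F283520)
theorem F283612 : act 9 n63458 = n62995 := d23_2 (iv F280875) D63458 (iv D62995)
def n63459 : Q := act 8 n62866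
theorem D63459 : act 8 n62866 = n63459 := rfl
theorem F283613 : act 1 n63459 = n62867 := d15_1 D63459 (iv D62867) (iv F280872)
theorem F283614 : act 3 n63459 = n62875 := d28_1 D63459 (iv D62875) (iv D62083) (iv F277152) D62866
theorem F283615 : act 5 n63459 = n62919 := d37_1 D63459 F281151 (iv F280873)
theorem F283616 : act 6 n63459 = n63169 := d40_1 D63459 (iv D63169) (iv F280874)
theorem F283617 : act 7 n63459 = n62931 := d42_1 D63459 (iv F283524) F283523
def n63460 : Q := act 3 n62869
theorem D63460 : act 3 n62869 = n63460 := rfl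
theorem F283618 : act 0 n63460 = n62870 := d2_1 D63460 (iv D62870) (iv F280890)
theorem F283619 : act 1 n63460 = n62928 := d10_1 D63460 (iv D62928) (iv F280891)
theorem F283620 : act 6 n63460 = n63233 := d26_2 (iv F280892) D63460 (iv D63233)
theorem F283621 : act 7 n63460 = n63098 := d27_2 (iv F280893) D63460 (iv D63098)
def n63461 : Q := act 5 n62869
theorem D63461 : act 5 n62869 = n63461 := rfl
theorem F283622 : act 0 n63461 = n62871 := d4_1 D63461 (iv D62871) (iv F280890)
theorem F283623 : act 1 n63461 = n62929 := d12_1 D63461 (iv D62929) (iv F280891)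
theorem F283624 : act 2 n63461 = n62968 := d19_1 D63461 (iv F283385) F283384
theorem F283625 : act 4 n63461 = n62964 := d30_1 D63461 F281340 (iv D62399) (iv F277182) D62869
theorem F283626 : act 6 n63461 = n62953 := d35_2 (iv F280892) D63461 (iv D62953) (iv F280036) F280035
theorem F283627 : act 7 n63461 = n62933 := d36_2 (iv F280893) D63461 F281206
theorem F283628 : act 8 n63461 = n62873 := d37_2 (iv F280894) D63461 (iv D62873)
def n63462 : Q := act 2 n62870
theorem D63462 : act 2 n62870 = n63462 := rfl
theorem F283629 : act 1 n63462 = n63462 := d9_1 D63462 (iv D63462) F280895 F277191 (iv F280895)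
theorem F283630 : act 6 n63462 = n63234 := d20_2 (iv F280896) D63462 (iv D63234)
theorem F283631 : act 7 n63462 = n63099 := d21_2 (iv F280897) D63462 (iv D63099)
def n63463 : Q := act 5 n62870
theorem D63463 : act 5 n62870 = n63463 := rfl
theorem F283632 : act 1 n63463 = n62872 := d12_1 D63463 (iv D62872) (iv F280895)
theorem F283633 : act 3 n63463 = n62871 := d25_1 D63463 (iv D62871) D62870
theorem F283634 : act 6 n63463 = n62955 := d35_2 (iv F280896) D63463 (iv D62955) (iv F280042) F280041
theorem F283635 : act 7 n63463 = n62914 := d36_2 (iv F280897) D63463 F281121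
theorem F283636 : act 8 n63463 = n62890 := d37_2 F282949 D63463 (iv F282946)
def n63464 : Q := act 4 n62872
theorem D63464 : act 4 n62872 = n63464 := rfl
theorem F283637 : act 0 n63464 = n62932 := d3_1 D63464 (iv D62932) (iv F280904)
theorem F283638 : act 2 n63464 = n63464 := d18_1 D63464 (iv D63464) F280905
theorem F283639 : act 3 n63464 = n62967 := d24_1 D63464 F281356 F277767 (iv F277196) (iv F280906)
theorem F283640 : act 6 n63464 = n62957 := d31_2 (iv F280907) D63464 (iv D62957)
theorem F283641 : act 7 n63464 = n62907 := d32_2 (iv F280908) D63464 F281094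
theorem F283642 : act 8 n63464 = n62888 := d33_2 (iv F280909) D63464 F281020
def n63465 : Q := act 8 n62874
theorem D63465 : act 8 n62874 = n63465 := rfl
theorem F283643 : act 0 n63465 = n62875 := d7_1 D63465 (iv D62875) (iv F280918)
theorem F283644 : act 1 n63465 = n62933 := d15_1 D63465 (iv D62933) (iv F280919)
theorem F283645 : act 2 n63465 = n63224 := d22_1 D63465 F282330 (iv F280920)
theorem F283646 : act 4 n63465 = n63016 := d33_1 D63465 F281595 (iv F280921)
theorem F283647 : act 5 n63465 = n62918 := d37_1 D63465 F281147 (iv F280922)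
theorem F283648 : act 6 n63465 = n63230 := d40_1 D63465 F282349 (iv F280923)
theorem F283649 : act 7 n63465 = n62929 := d42_1 D63465 F281195 (iv F280924)
def n63466 : Q := act 9 n62875
theorem D63466 : act 9 n62875 = n63466 := rfl
theorem F283650 : act 1 n63466 = n62876 := d16_1 D63466 (iv D62876) (iv F280926)
theorem F283651 : act 2 n63466 = n63222 := d23_1 D63466 F282326 (iv F280927)
theorem F283652 : act 4 n63466 = n63001 := d34_1 D63466 F281522 (iv F280928)
theorem F283653 : act 5 n63466 = n62917 := d38_1 D63466 F281141 (iv F280929)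
theorem F283654 : act 6 n63466 = n63228 := d41_1 D63466 F282342 (iv F280930)
theorem F283655 : act 7 n63466 = n62926 := d43_1 D63466 F281188 (iv F280931)
theorem F283656 : act 8 n63466 = n62884 := d44_1 D63466 (iv D62884) (iv D62096) (iv F277229) D62875
def n63467 : Q := act 8 n62879
theorem D63467 : act 8 n62879 = n63467 := rfl
theorem F283657 : act 0 n63467 = n62881 := d7_1 D63467 (iv D62881) (iv F280956)
theorem F283658 : act 1 n63467 = n62968 := d15_1 D63467 (iv D62968) (iv F280957)
theorem F283659 : act 2 n63467 = n63230 := d22_1 D63467 F282349 (iv F280958)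
theorem F283660 : act 4 n63467 = n62883 := d33_1 D63467 (iv D62883) (iv F280959)
theorem F283661 : act 5 n63467 = n62937 := d37_1 D63467 F281228 F280963
theorem F283662 : act 6 n63467 = n63224 := d40_1 D63467 F282330 (iv F280960)
theorem F283663 : act 7 n63467 = n62953 := d42_1 D63467 F281296 (iv F280961)
def n63468 : Q := act 9 n62881
theorem D63468 : act 9 n62881 = n63468 := rfl
theorem F283664 : act 1 n63468 = n62882 := d16_1 D63468 (iv D62882) (iv F280972)
theorem F283665 : act 2 n63468 = n63228 := d23_1 D63468 F282342 (iv F280973)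
theorem F283666 : act 4 n63468 = n62884 := d34_1 D63468 (iv D62884) (iv F280974)
theorem F283667 : act 5 n63468 = n62936 := d38_1 D63468 F281224 (iv F280975)
theorem F283668 : act 6 n63468 = n63222 := d41_1 D63468 F282326 (iv F280976)
theorem F283669 : act 7 n63468 = n62949 := d43_1 D63468 F281286 (iv F280977)
theorem F283670 : act 8 n63468 = n63001 := d44_1 D63468 F281522 F278114 (iv F277281) D62881
def n63469 : Q := act 9 n62883
theorem D63469 : act 9 n62883 = n63469 := rfl
theorem F283671 : act 0 n63469 = n62884 := d8_1 D63469 (iv D62884) (iv F280985)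
theorem F283672 : act 1 n63469 = n62970 := d16_1 D63469 (iv D62970) (iv F280986)
theorem F283673 : act 2 n63469 = n63232 := d23_1 D63469 F282355 (iv F280987)
theorem F283674 : act 3 n63469 = n63024 := d29_1 D63469 (iv D63024) (iv F280988)
theorem F283675 : act 5 n63469 = n62939 := d38_1 D63469 F281237 (iv F280989)
theorem F283676 : act 7 n63469 = n62960 := d43_1 D63469 F281321 (iv F280990)
def n63470 : Q := act 4 n62886
theorem D63470 : act 4 n62886 = n63470 := rfl
theorem F283677 : act 0 n63470 = n62887 := d3_1 D63470 (iv D62887) D62886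
theorem F283678 : act 1 n63470 = n63103 := d11_1 D63470 (iv D63103) (iv F281004)
theorem F283679 : act 2 n63470 = n63258 := d18_1 D63470 (iv D63258) (iv F281005)
theorem F283680 : act 6 n63470 = n63010 := d31_2 (iv F281008) D63470 (iv D63010)
theorem F283681 : act 7 n63470 = n62903 := d32_2 (iv F281009) D63470 (iv D62903)
theorem F283682 : act 8 n63470 = n63012 := d33_2 (iv F281010) D63470 (iv D63012)
theorem F283683 : act 9 n63470 = n63025 := d34_2 (iv F281011) D63470 (iv D63025)
def n63471 : Q := act 3 n62887
theorem D63471 : act 3 n62887 = n63471 := rfl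
theorem F283684 : act 1 n63471 = n62888 := d10_1 D63471 (iv D62888) (iv F281012)
theorem F283685 : act 4 n63471 = n62890 := d24_2 D62887 D63471 (iv D62890) (iv D62104) (iv F277331)
theorem F283686 : act 6 n63471 = n63011 := d26_2 (iv F281014) D63471 (iv D63011)
theorem F283687 : act 7 n63471 = n62904 := d27_2 (iv F281015) D63471 (iv D62904)
theorem F283688 : act 9 n63471 = n63026 := d29_2 (iv F281017) D63471 (iv D63026)
def n63472 : Q := act 3 n62889
theorem D63472 : act 3 n62889 = n63472 := rfl
theorem F283689 : act 0 n63472 = n62890 := d2_1 D63472 (iv D62890) (iv F281024)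
theorem F283690 : act 7 n63472 = n62912 := d27_2 (iv F281026) D63472 (iv D62912)
theorem F283691 : act 9 n63472 = n63030 := d29_2 (iv F281028) D63472 (iv D63030)
def n63473 : Q := act 2 n62890
theorem D63473 : act 2 n62890 = n63473 := rfl
theorem F283692 : act 1 n63473 = n63473 := d9_1 D63473 (iv D63473) F281029 F277358 (iv F281029)
theorem F283693 : act 3 n63473 = n63234 := d17_2 D62890 D63473 (iv D63234) (iv D62569) (iv F277354)
theorem F283694 : act 7 n63473 = n62913 := d21_2 (iv F281030) D63473 (iv D62913)
theorem F283695 : act 9 n63473 = n63031 := d23_2 (iv F281031) D63473 (iv D63031)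
def n63474 : Q := act 3 n62891
theorem D63474 : act 3 n62891 = n63474 := rfl
theorem F283696 : act 0 n63474 = n62892 := d2_1 D63474 (iv D62892) (iv F281032)
theorem F283697 : act 4 n63474 = n63177 := d24_2 D62891 D63474 (iv D63177) (iv D62483) (iv F277362)
theorem F283698 : act 6 n63474 = n63152 := d26_2 (iv F281034) D63474 F282103
theorem F283699 : act 9 n63474 = n63042 := d29_2 (iv F281035) D63474 (iv D63042)
def n63475 : Q := act 5 n62891
theorem D63475 : act 5 n62891 = n63475 := rfl
theorem F283700 : act 0 n63475 = n62893 := d4_1 D63475 (iv D62893) (iv F281032)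
theorem F283701 : act 2 n63475 = n62909 := d19_1 D63475 (iv D62909) (iv F281033)
theorem F283702 : act 9 n63475 = n63043 := d38_2 (iv F281035) D63475 (iv D63043)
def n63476 : Q := act 5 n62892
theorem D63476 : act 5 n62892 = n63476 := rfl
theorem F283703 : act 1 n63476 = n62894 := d12_1 D63476 (iv D62894) (iv F281036)
theorem F283704 : act 2 n63476 = n63122 := d19_1 D63476 F282678 F282673
theorem F283705 : act 3 n63476 = n62893 := d25_1 D63476 (iv D62893) D62892
theorem F283706 : act 6 n63476 = n63110 := d35_2 (iv F281038) D63476 (iv D63110) F278600 D62439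
theorem F283707 : act 7 n63476 = n63211 := d36_2 F282663 D63476 (iv F282662)
theorem F283708 : act 9 n63476 = n63044 := d38_2 (iv F281039) D63476 (iv D63044)
def n63477 : Q := act 8 n62892
theorem D63477 : act 8 n62892 = n63477 := rfl
theorem F283709 : act 1 n63477 = n62895 := d15_1 D63477 (iv D62895) (iv F281036)
theorem F283710 : act 4 n63477 = n63160 := d33_1 D63477 F282136 (iv F281037)
theorem F283711 : act 6 n63477 = n63130 := d40_1 D63477 F282041 (iv F281038)
def n63478 : Q := act 6 n62893
theorem D63478 : act 6 n62893 = n63478 := rfl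
theorem F283712 : act 1 n63478 = n62896 := d13_1 D63478 (iv D62896) (iv F281040)
theorem F283713 : act 2 n63478 = n62910 := d20_1 D63478 (iv D62910) (iv F281041)
theorem F283714 : act 3 n63478 = n63110 := d26_1 D63478 (iv F283706) F283705
theorem F283715 : act 5 n63478 = n63078 := d35_1 D63478 F281832 F278429 (iv F277367) D62893
theorem F283716 : act 7 n63478 = n63113 := d39_2 (iv F282908) D63478 F281979 (iv F279882) D63341
theorem F283717 : act 9 n63478 = n63045 := d41_2 (iv F281042) D63478 F281711
def n63479 : Q := act 3 n62898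
theorem D63479 : act 3 n62898 = n63479 := rfl
theorem F283718 : act 0 n63479 = n62899 := d2_1 D63479 (iv D62899) (iv F281065)
theorem F283719 : act 4 n63479 = n62928 := d24_2 D62898 D63479 (iv D62928) (iv D62148) (iv F277396)
theorem F283720 : act 6 n63479 = n63208 := d26_2 (iv F281066) D63479 (iv D63208)
def n63480 : Q := act 5 n62898
theorem D63480 : act 5 n62898 = n63480 := rfl
theorem F283721 : act 0 n63480 = n62900 := d4_1 D63480 (iv D62900) (iv F281065)
theorem F283722 : act 8 n63480 = n62909 := d37_2 (iv F281067) D63480 (iv D62909)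
def n63481 : Q := act 2 n62899
theorem D63481 : act 2 n62899 = n63481 := rfl
theorem F283723 : act 1 n63481 = n63481 := d9_1 D63481 (iv D63481) F281068 F277402 (iv F281068)
theorem F283724 : act 4 n63481 = n62930 := d18_2 (iv F281069) D63481 (iv D62930)
theorem F283725 : act 6 n63481 = n63209 := d20_2 (iv F281070) D63481 (iv D63209)
def n63482 : Q := act 5 n62899
theorem D63482 : act 5 n62899 = n63482 := rfl
theorem F283726 : act 1 n63482 = n62901 := d12_1 D63482 (iv D62901) (iv F281068)
theorem F283727 : act 3 n63482 = n62900 := d25_1 D63482 (iv D62900) D62899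
def n63483 : Q := act 6 n62900
theorem D63483 : act 6 n62900 = n63483 := rfl
theorem F283728 : act 1 n63483 = n62902 := d13_1 D63483 (iv D62902) (iv F281071)
theorem F283729 : act 5 n63483 = n63079 := d35_1 D63483 F281837 F278434 (iv F277400) D62900
theorem F283730 : act 8 n63483 = n62910 := d40_2 (iv F281072) D63483 (iv D62910)
def n63484 : Q := act 4 n62901
theorem D63484 : act 4 n62901 = n63484 := rfl
theorem F283731 : act 2 n63484 = n63484 := d18_1 D63484 (iv D63484) F281073
theorem F283732 : act 3 n63484 = n63115 := d24_1 D63484 (iv F282510) F282509 F279423 (iv F281074)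
theorem F283733 : act 5 n63484 = n62932 := d30_2 D62901 D63484 (iv D62932) (iv D62151) (iv F277403)
theorem F283734 : act 8 n63484 = n63092 := d33_2 F283023 D63484 (iv F283019)
theorem F283735 : act 9 n63484 = n63135 := d34_2 (iv F282486) D63484 (iv F282482)
theorem F283736 : act 6 n63143 = n63484 := d41_3 F283735 F282055 D63143
def n63485 : Q := act 6 n62901
theorem D63485 : act 6 n62901 = n63485 := rfl
theorem F283737 : act 2 n63485 = n63485 := d20_1 D63485 (iv D63485) F281073
theorem F283738 : act 3 n63485 = n62902 := d26_1 D63485 (iv D62902) (iv F281074)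
theorem F283739 : act 4 n63485 = n63143 := d31_1 D63485 F283736 (iv D63484)
theorem F283740 : act 5 n63485 = n63029 := d35_1 D63485 F281645 F278204 (iv F277404) D62901
theorem F283741 : act 8 n63485 = n62958 := d40_2 F283023 D63485 (iv F283021)
theorem F283742 : act 9 n63485 = n62951 := d41_2 (iv F282486) D63485 (iv F282484)
def n63486 : Q := act 3 n62903
theorem D63486 : act 3 n62903 = n63486 := rfl
theorem F283743 : act 0 n63486 = n62904 := d2_1 D63486 (iv D62904) (iv F281078)
theorem F283744 : act 4 n63486 = n62912 := d24_2 D62903 D63486 (iv D62912) (iv D62128) (iv F277410)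
theorem F283745 : act 6 n63486 = n63199 := d26_2 (iv F281079) D63486 (iv D63199)
theorem F283746 : act 9 n63486 = n63054 := d29_2 (iv F281080) D63486 (iv D63054)
def n63487 : Q := act 5 n62903
theorem D63487 : act 5 n62903 = n63487 := rfl
theorem F283747 : act 0 n63487 = n62905 := d4_1 D63487 (iv D62905) (iv F281078)
theorem F283748 : act 4 n63487 = n62909 := d30_1 D63487 (iv D62909) (iv D62124) (iv F277411) D62903
theorem F283749 : act 9 n63487 = n63055 := d38_2 (iv F281080) D63487 (iv D63055)
def n63488 : Q := act 2 n62904
theorem D63488 : act 2 n62904 = n63488 := rfl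
theorem F283750 : act 1 n63488 = n63488 := d9_1 D63488 (iv D63488) F281081 F277417 (iv F281081)
theorem F283751 : act 4 n63488 = n62913 := d18_2 (iv F281082) D63488 (iv D62913)
theorem F283752 : act 6 n63488 = n63201 := d20_2 (iv F281083) D63488 (iv D63201)
theorem F283753 : act 9 n63488 = n63056 := d23_2 (iv F281084) D63488 (iv D63056)
def n63489 : Q := act 5 n62904
theorem D63489 : act 5 n62904 = n63489 := rfl
theorem F283754 : act 1 n63489 = n62906 := d12_1 D63489 (iv D62906) (iv F281081)
theorem F283755 : act 3 n63489 = n62905 := d25_1 D63489 (iv D62905) D62904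
theorem F283756 : act 4 n63489 = n63205 := d30_1 D63489 F283473 F283468 F280697 (iv F281082)
theorem F283757 : act 9 n63489 = n63057 := d38_2 (iv F281084) D63489 (iv D63057)
def n63490 : Q := act 8 n62904
theorem D63490 : act 8 n62904 = n63490 := rfl
theorem F283758 : act 1 n63490 = n62907 := d15_1 D63490 (iv D62907) (iv F281081)
theorem F283759 : act 3 n63490 = n63059 := d28_1 D63490 F282500 (iv D63278) F279412 D62904
theorem F283760 : act 4 n63490 = n62914 := d33_1 D63490 (iv D62914) (iv F281082)
theorem F283761 : act 6 n63490 = n63057 := d40_1 D63490 (iv F281754) (iv F281083)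
def n63491 : Q := act 6 n62905
theorem D63491 : act 6 n62905 = n63491 := rfl
theorem F283762 : act 1 n63491 = n62908 := d13_1 D63491 (iv D62908) (iv F281085)
theorem F283763 : act 4 n63491 = n62910 := d31_1 D63491 (iv D62910) (iv F281086)
theorem F283764 : act 5 n63491 = n63157 := d35_1 D63491 F282124 (iv D62517) (iv F277415) D62905
theorem F283765 : act 9 n63491 = n63059 := d41_2 (iv F281087) D63491 (iv D63059)
def n63492 : Q := act 6 n62906
theorem D63492 : act 6 n62906 = n63492 := rfl
theorem F283766 : act 2 n63492 = n63492 := d20_1 D63492 (iv D63492) F281088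
theorem F283767 : act 3 n63492 = n62908 := d26_1 D63492 (iv D62908) (iv F281089)
theorem F283768 : act 4 n63492 = n62915 := d31_1 D63492 F281126 (iv F281090)
theorem F283769 : act 5 n63492 = n63052 := d35_1 D63492 F281740 F278331 (iv F277419) D62906
theorem F283770 : act 9 n63492 = n62907 := d41_2 (iv F281091) D63492 F281095
theorem F283771 : act 8 n63051 = n63492 := d44_5 F283770 (iv D62907) F277420 D62324 (iv F281736)
def n63493 : Q := act 8 n62906
theorem D63493 : act 8 n62906 = n63493 := rfl
theorem F283772 : act 2 n63493 = n63493 := d22_1 D63493 (iv D63493) F281088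
theorem F283773 : act 3 n63493 = n63053 := d28_1 D63493 (iv F282513) F282509 F279425 (iv F281089)
theorem F283774 : act 4 n63493 = n63064 := d33_1 D63493 F281779 (iv F281090)
theorem F283775 : act 5 n63493 = n62907 := d37_1 D63493 (iv D62907) D62906
theorem F283776 : act 6 n63493 = n63051 := d40_1 D63493 F283771 (iv D63492)
theorem F283777 : act 9 n63493 = n63052 := d44_2 (iv F281091) D63493 (iv D63052) F278311 F278327
def n63494 : Q := act 6 n62909
theorem D63494 : act 6 n62909 = n63494 := rfl
theorem F283778 : act 0 n63494 = n62910 := d5_1 D63494 (iv D62910) (iv F281100)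
theorem F283779 : act 3 n63494 = n63077 := d26_1 D63494 (iv F283485) F283484
theorem F283780 : act 5 n63494 = n63076 := d35_1 D63494 F281825 F278423 (iv F277429) D62909
theorem F283781 : act 9 n63494 = n63060 := d41_2 (iv F281101) D63494 (iv D63060)
def n63495 : Q := act 7 n62910
theorem D63495 : act 7 n62910 = n63495 := rfl
theorem F283782 : act 1 n63495 = n62911 := d14_1 D63495 (iv D62911) (iv F281102)
theorem F283783 : act 2 n63495 = n63113 := d21_1 D63495 (iv F283716) F283713
theorem F283784 : act 3 n63495 = n62962 := d27_1 D63495 (iv F281331) (iv F281103)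
theorem F283785 : act 5 n63495 = n63075 := d36_1 D63495 F281821 (iv F281104)
theorem F283786 : act 6 n63495 = n62961 := d39_1 D63495 F281325 (iv F279947) F279948 D62910
theorem F283787 : act 9 n63495 = n62966 := d43_2 (iv F281105) D63495 F281352
def n63496 : Q := act 2 n62912
theorem D63496 : act 2 n62912 = n63496 := rfl
theorem F283788 : act 0 n63496 = n62913 := d1_1 D63496 (iv D62913) (iv F281112)
theorem F283789 : act 3 n63496 = n63266 := d17_2 D62912 D63496 (iv D63266) (iv D62617) (iv F277444)
theorem F283790 : act 6 n63496 = n63202 := d20_2 (iv F281113) D63496 (iv D63202)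
theorem F283791 : act 9 n63496 = n63065 := d23_2 (iv F281114) D63496 (iv D63065)
def n63497 : Q := act 8 n62912
theorem D63497 : act 8 n62912 = n63497 := rfl
theorem F283792 : act 0 n63497 = n62914 := d7_1 D63497 (iv D62914) (iv F281112)
theorem F283793 : act 3 n63497 = n62933 := d28_1 D63497 (iv D62933) (iv D62155) (iv F277446) D62912
theorem F283794 : act 5 n63497 = n63098 := d37_1 D63497 (iv F283491) F283489
theorem F283795 : act 6 n63497 = n63203 := d40_1 D63497 (iv D63203) (iv F281113)
def n63498 : Q := act 8 n62913
theorem D63498 : act 8 n62913 = n63498 := rfl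
theorem F283796 : act 1 n63498 = n63498 := d15_1 D63498 (iv D63498) F281115
theorem F283797 : act 2 n63498 = n62914 := d22_1 D63498 (iv D62914) D62913
theorem F283798 : act 5 n63498 = n63099 := d37_1 D63498 (iv F283497) F283495
theorem F283799 : act 6 n63498 = n63204 := d40_1 D63498 (iv D63204) (iv F281117)
def n63499 : Q := act 9 n62914
theorem D63499 : act 9 n62914 = n63499 := rfl
theorem F283800 : act 1 n63499 = n62915 := d16_1 D63499 (iv D62915) (iv F281119)
theorem F283801 : act 3 n63499 = n62934 := d29_1 D63499 (iv D62934) (iv F281120)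
theorem F283802 : act 5 n63499 = n63070 := d38_1 D63499 F281798 (iv F281121)
theorem F283803 : act 6 n63499 = n63205 := d41_1 D63499 (iv D63205) (iv F281122)
theorem F283804 : act 8 n63499 = n63068 := d44_1 D63499 (iv D63068) (iv D62333) (iv F277450) D62914
def n63500 : Q := act 4 n62916
theorem D63500 : act 4 n62916 = n63500 := rfl
theorem F283805 : act 0 n63500 = n62917 := d3_1 D63500 (iv D62917) D62916
theorem F283806 : act 1 n63500 = n63069 := d11_1 D63500 (iv D63069) (iv F281128)
theorem F283807 : act 2 n63500 = n63220 := d18_1 D63500 (iv D63220) (iv F281129)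
theorem F283808 : act 6 n63500 = n62997 := d31_2 (iv F281132) D63500 (iv D62997)
theorem F283809 : act 7 n63500 = n62924 := d32_2 (iv F281133) D63500 (iv D62924)
theorem F283810 : act 8 n63500 = n62939 := d33_2 (iv F281134) D63500 (iv D62939)
theorem F283811 : act 9 n63500 = n62918 := d34_2 (iv F281135) D63500 (iv D62918)
def n63501 : Q := act 3 n62918
theorem D63501 : act 3 n62918 = n63501 := rfl
theorem F283812 : act 0 n63501 = n62919 := d2_1 D63501 (iv D62919) (iv F281142)
theorem F283813 : act 1 n63501 = n63098 := d10_1 D63501 (iv D63098) (iv F281143)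
theorem F283814 : act 6 n63501 = n63008 := d26_2 (iv F281145) D63501 (iv D63008)
theorem F283815 : act 7 n63501 = n62928 := d27_2 (iv F281146) D63501 (iv D62928)
theorem F283816 : act 8 n63501 = n63240 := d28_2 (iv F281147) D63501 (iv D63240) (iv F280620) F280616
def n63502 : Q := act 2 n62919
theorem D63502 : act 2 n62919 = n63502 := rfl
theorem F283817 : act 1 n63502 = n63502 := d9_1 D63502 (iv D63502) F281148 F277480 (iv F281148)
theorem F283818 : act 3 n63502 = n63225 := d17_2 D62919 D63502 (iv D63225) (iv D62553) (iv F277475)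
theorem F283819 : act 6 n63502 = n63009 := d20_2 (iv F281149) D63502 (iv D63009)
theorem F283820 : act 7 n63502 = n62930 := d21_2 (iv F281150) D63502 (iv D62930)
theorem F283821 : act 8 n63502 = n63241 := d22_2 (iv F281151) D63502 (iv D63241)
def n63503 : Q := act 3 n62920
theorem D63503 : act 3 n62920 = n63503 := rfl
theorem F283822 : act 0 n63503 = n62921 := d2_1 D63503 (iv D62921) (iv F281152)
theorem F283823 : act 1 n63503 = n63229 := d10_1 D63503 (iv D63229) (iv F281153)
theorem F283824 : act 4 n63503 = n62974 := d24_2 D62920 D63503 (iv D62974) (iv D62216) (iv F277494)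
theorem F283825 : act 6 n63503 = n62978 := d26_2 (iv F281155) D63503 (iv D62978)
theorem F283826 : act 7 n63503 = n63223 := d27_2 (iv F281156) D63503 (iv D63223)
theorem F283827 : act 8 n63503 = n63161 := d28_2 (iv F281157) D63503 (iv D63161) F278845 (iv F277521)
theorem F283828 : act 5 n63203 = n63503 := d37_3 F283827 F282140 D63203
def n63504 : Q := act 5 n62920
theorem D63504 : act 5 n62920 = n63504 := rfl
theorem F283829 : act 0 n63504 = n62922 := d4_1 D63504 (iv D62922) (iv F281152)
theorem F283830 : act 1 n63504 = n63230 := d12_1 D63504 (iv D63230) (iv F281153)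
theorem F283831 : act 2 n63504 = n62929 := d19_1 D63504 (iv D62929) (iv F281154)
theorem F283832 : act 3 n63504 = n63203 := d25_1 D63504 F283828 (iv D63503)
theorem F283833 : act 4 n63504 = n62973 := d30_1 D63504 (iv D62973) (iv D62214) (iv F277495) D62920
theorem F283834 : act 6 n63504 = n62933 := d35_2 (iv F281155) D63504 F281206 F278550 (iv F277867)
theorem F283835 : act 7 n63504 = n63224 := d36_2 (iv F281156) D63504 (iv D63224)
theorem F283836 : act 8 n63504 = n62923 := d37_2 (iv F281157) D63504 (iv D62923)
def n63505 : Q := act 2 n62921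
theorem D63505 : act 2 n62921 = n63505 := rfl
theorem F283837 : act 1 n63505 = n63505 := d9_1 D63505 (iv D63505) F281158 F277505 (iv F281158)
theorem F283838 : act 3 n63505 = n62930 := d17_2 D62921 D63505 (iv D62930) (iv D62149) (iv F277500)
theorem F283839 : act 4 n63505 = n62975 := d18_2 (iv F281159) D63505 (iv D62975)
theorem F283840 : act 5 n63505 = n63204 := d19_2 F281163 D63505 F282279
theorem F283841 : act 6 n63505 = n62979 := d20_2 (iv F281160) D63505 (iv D62979)
theorem F283842 : act 7 n63505 = n63225 := d21_2 (iv F281161) D63505 (iv D63225)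
theorem F283843 : act 8 n63505 = n63162 := d22_2 (iv F281162) D63505 (iv D63162)
def n63506 : Q := act 3 n62924
theorem D63506 : act 3 n62924 = n63506 := rfl
theorem F283844 : act 0 n63506 = n62925 := d2_1 D63506 (iv D62925) (iv F281179)
theorem F283845 : act 6 n63506 = n63235 := d26_2 (iv F281180) D63506 (iv D63235)
theorem F283846 : act 9 n63506 = n62928 := d29_2 (iv F281182) D63506 (iv D62928)
def n63507 : Q := act 5 n62924
theorem D63507 : act 5 n62924 = n63507 := rfl
theorem F283847 : act 0 n63507 = n62926 := d4_1 D63507 (iv D62926) (iv F281179)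
theorem F283848 : act 8 n63507 = n62960 := d37_2 (iv F281181) D63507 (iv D62960)
theorem F283849 : act 9 n63507 = n62929 := d38_2 (iv F281182) D63507 (iv D62929)
def n63508 : Q := act 2 n62925
theorem D63508 : act 2 n62925 = n63508 := rfl
theorem F283850 : act 1 n63508 = n63508 := d9_1 D63508 (iv D63508) F281183 F277539 (iv F281183)
theorem F283851 : act 6 n63508 = n63236 := d20_2 (iv F281184) D63508 (iv D63236)
theorem F283852 : act 9 n63508 = n62930 := d23_2 (iv F281185) D63508 (iv D62930)
def n63509 : Q := act 5 n62925
theorem D63509 : act 5 n62925 = n63509 := rfl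
theorem F283853 : act 1 n63509 = n62927 := d12_1 D63509 (iv D62927) (iv F281183)
theorem F283854 : act 3 n63509 = n62926 := d25_1 D63509 (iv D62926) D62925
theorem F283855 : act 9 n63509 = n62931 := d38_2 (iv F281185) D63509 (iv D62931)
def n63510 : Q := act 4 n62927
theorem D63510 : act 4 n62927 = n63510 := rfl
theorem F283856 : act 2 n63510 = n63510 := d18_1 D63510 (iv D63510) F281189
theorem F283857 : act 3 n63510 = n63116 := d24_1 D63510 F281988 (iv F279623) F279624 (iv F281190)
theorem F283858 : act 5 n63510 = n63135 := d30_2 D62927 D63510 (iv F282482) F282483 F280205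
theorem F283859 : act 6 n63510 = n63108 := d31_2 F283273 D63510 (iv F283272)
theorem F283860 : act 8 n63510 = n63134 := d33_2 F283094 D63510 (iv F283092)
theorem F283861 : act 9 n63510 = n62932 := d34_2 (iv F281191) D63510 (iv D62932)
def n63511 : Q := act 2 n62928
theorem D63511 : act 2 n62928 = n63511 := rfl
theorem F283862 : act 0 n63511 = n62930 := d1_1 D63511 (iv D62930) (iv F281192)
theorem F283863 : act 6 n63511 = n63237 := d20_2 (iv F281193) D63511 (iv D63237)
def n63512 : Q := act 5 n62928
theorem D63512 : act 5 n62928 = n63512 := rfl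
theorem F283864 : act 0 n63512 = n62931 := d4_1 D63512 (iv D62931) (iv F281192)
theorem F283865 : act 3 n63512 = n62929 := d25_1 D63512 (iv D62929) D62928
def n63513 : Q := act 5 n62930
theorem D63513 : act 5 n62930 = n63513 := rfl
theorem F283866 : act 1 n63513 = n63513 := d12_1 D63513 (iv D63513) F281196
theorem F283867 : act 2 n63513 = n62931 := d19_1 D63513 (iv D62931) D62930
theorem F283868 : act 3 n63513 = n63204 := d25_1 D63513 (iv F283840) F283838
theorem F283869 : act 8 n63513 = n63269 := d37_2 F283516 D63513 F283518
def n63514 : Q := act 4 n62931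
theorem D63514 : act 4 n62931 = n63514 := rfl
theorem F283870 : act 1 n63514 = n62932 := d11_1 D63514 (iv D62932) (iv F281198)
theorem F283871 : act 3 n63514 = n63114 := d24_1 D63514 F281982 (iv F279781) F279782 (iv F281199)
theorem F283872 : act 6 n63514 = n63107 := d31_2 F283415 D63514 (iv F283414)
theorem F283873 : act 8 n63514 = n63104 := d33_2 F283524 D63514 (iv F283526)
def n63515 : Q := act 9 n62933
theorem D63515 : act 9 n62933 = n63515 := rfl
theorem F283874 : act 0 n63515 = n62934 := d8_1 D63515 (iv D62934) (iv F281204)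
theorem F283875 : act 4 n63515 = n63077 := d34_1 D63515 F281828 (iv F281205)
theorem F283876 : act 5 n63515 = n63069 := d38_1 D63515 F281793 (iv F281206)
theorem F283877 : act 8 n63515 = n62970 := d44_1 D63515 (iv D62970) (iv D62207) (iv F277569) D62933
def n63516 : Q := act 4 n62935
theorem D63516 : act 4 n62935 = n63516 := rfl
theorem F283878 : act 0 n63516 = n62936 := d3_1 D63516 (iv D62936) D62935
theorem F283879 : act 1 n63516 = n63027 := d11_1 D63516 (iv D63027) (iv F281211)
theorem F283880 : act 2 n63516 = n63226 := d18_1 D63516 (iv D63226) (iv F281212)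
theorem F283881 : act 6 n63516 = n62983 := d31_2 (iv F281215) D63516 (iv D62983)
theorem F283882 : act 7 n63516 = n62947 := d32_2 (iv F281216) D63516 (iv D62947)
theorem F283883 : act 8 n63516 = n62999 := d33_2 (iv F281217) D63516 (iv D62999)
theorem F283884 : act 9 n63516 = n62937 := d34_2 (iv F281218) D63516 (iv D62937)
def n63517 : Q := act 3 n62937
theorem D63517 : act 3 n62937 = n63517 := rfl
theorem F283885 : act 0 n63517 = n62938 := d2_1 D63517 (iv D62938) (iv F281225)
theorem F283886 : act 4 n63517 = n63105 := d24_2 D62937 D63517 (iv D63105) (iv D62385) (iv F277597)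
theorem F283887 : act 7 n63517 = n62952 := d27_2 (iv F281227) D63517 (iv D62952)
def n63518 : Q := act 2 n62938
theorem D63518 : act 2 n62938 = n63518 := rfl
theorem F283888 : act 1 n63518 = n63518 := d9_1 D63518 (iv D63518) F281229 F277605 (iv F281229)
theorem F283889 : act 3 n63518 = n63231 := d17_2 D62938 D63518 (iv D63231) (iv D62561) (iv F277602)
theorem F283890 : act 4 n63518 = n63106 := d18_2 (iv F281230) D63518 (iv D63106)
theorem F283891 : act 6 n63518 = n63269 := d20_2 F283522 D63518 (iv F283520)
theorem F283892 : act 7 n63518 = n62954 := d21_2 (iv F281231) D63518 (iv D62954)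
def n63519 : Q := act 3 n62940
theorem D63519 : act 3 n62940 = n63519 := rfl
theorem F283893 : act 0 n63519 = n62941 := d2_1 D63519 (iv D62941) (iv F281238)
theorem F283894 : act 1 n63519 = n63223 := d10_1 D63519 (iv D63223) (iv F281239)
theorem F283895 : act 4 n63519 = n63243 := d24_2 D62940 D63519 (iv D63243) (iv D62582) (iv F277635)
theorem F283896 : act 7 n63519 = n63229 := d27_2 (iv F281241) D63519 (iv D63229)
theorem F283897 : act 8 n63519 = n63233 := d28_2 (iv F281242) D63519 (iv D63233) F279188 (iv F277685)
def n63520 : Q := act 5 n62940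
theorem D63520 : act 5 n62940 = n63520 := rfl
theorem F283898 : act 0 n63520 = n62942 := d4_1 D63520 (iv D62942) (iv F281238)
theorem F283899 : act 1 n63520 = n63224 := d12_1 D63520 (iv D63224) (iv F281239)
theorem F283900 : act 2 n63520 = n62953 := d19_1 D63520 (iv D62953) (iv F281240)
theorem F283901 : act 4 n63520 = n62945 := d30_1 D63520 (iv D62945) (iv D62176) (iv F277636) D62940
theorem F283902 : act 6 n63520 = n62968 := d35_2 F282940 D63520 (iv F283385) F283386 (iv F282939)
theorem F283903 : act 7 n63520 = n63230 := d36_2 (iv F281241) D63520 (iv D63230)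
theorem F283904 : act 8 n63520 = n62946 := d37_2 (iv F281242) D63520 (iv D62946)
def n63521 : Q := act 2 n62941
theorem D63521 : act 2 n62941 = n63521 := rfl
theorem F283905 : act 1 n63521 = n63521 := d9_1 D63521 (iv D63521) F281243 F277644 (iv F281243)
theorem F283906 : act 3 n63521 = n62954 := d17_2 D62941 D63521 (iv D62954) (iv D62186) (iv F277640)
theorem F283907 : act 4 n63521 = n63244 := d18_2 (iv F281244) D63521 (iv D63244)
theorem F283908 : act 7 n63521 = n63231 := d21_2 (iv F281245) D63521 (iv D63231)
theorem F283909 : act 8 n63521 = n63234 := d22_2 (iv F281246) D63521 (iv D63234)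
def n63522 : Q := act 5 n62943
theorem D63522 : act 5 n62943 = n63522 := rfl
theorem F283910 : act 0 n63522 = n62944 := d4_1 D63522 (iv D62944) (iv F281253)
theorem F283911 : act 2 n63522 = n62960 := d19_1 D63522 (iv D62960) (iv F281254)
theorem F283912 : act 3 n63522 = n63154 := d25_1 D63522 F282113 (iv F281255)
theorem F283913 : act 6 n63522 = n62970 := d35_2 (iv F281256) D63522 F281367 (iv F280453) F280452
theorem F283914 : act 7 n63522 = n63232 := d36_2 (iv F281257) D63522 (iv D63232)
theorem F283915 : act 9 n63522 = n62945 := d38_2 (iv F281258) D63522 (iv D62945)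
def n63523 : Q := act 3 n62947
theorem D63523 : act 3 n62947 = n63523 := rfl
theorem F283916 : act 0 n63523 = n62948 := d2_1 D63523 (iv D62948) (iv F281279)
theorem F283917 : act 4 n63523 = n63140 := d24_2 D62947 D63523 (iv D63140) (iv D62425) (iv F277700)
theorem F283918 : act 9 n63523 = n62952 := d29_2 (iv F281280) D63523 (iv D62952)
def n63524 : Q := act 5 n62947
theorem D63524 : act 5 n62947 = n63524 := rfl
theorem F283919 : act 0 n63524 = n62949 := d4_1 D63524 (iv D62949) (iv F281279)
theorem F283920 : act 4 n63524 = n62960 := d30_1 D63524 (iv D62960) (iv D62190) (iv F277701) D62947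
theorem F283921 : act 9 n63524 = n62953 := d38_2 (iv F281280) D63524 (iv D62953)
def n63525 : Q := act 2 n62948
theorem D63525 : act 2 n62948 = n63525 := rfl
theorem F283922 : act 1 n63525 = n63525 := d9_1 D63525 (iv D63525) F281281 F277705 (iv F281281)
theorem F283923 : act 4 n63525 = n63141 := d18_2 (iv F281282) D63525 (iv D63141)
theorem F283924 : act 9 n63525 = n62954 := d23_2 (iv F281283) D63525 (iv D62954)
def n63526 : Q := act 5 n62948
theorem D63526 : act 5 n62948 = n63526 := rfl
theorem F283925 : act 1 n63526 = n62950 := d12_1 D63526 (iv D62950) (iv F281281)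
theorem F283926 : act 3 n63526 = n62949 := d25_1 D63526 (iv D62949) D62948
theorem F283927 : act 9 n63526 = n62955 := d38_2 (iv F281283) D63526 (iv D62955)
def n63527 : Q := act 8 n62948
theorem D63527 : act 8 n62948 = n63527 := rfl
theorem F283928 : act 1 n63527 = n62951 := d15_1 D63527 (iv D62951) (iv F281281)
theorem F283929 : act 4 n63527 = n63142 := d33_1 D63527 (iv D63142) (iv F281282)
def n63528 : Q := act 8 n62950
theorem D63528 : act 8 n62950 = n63528 := rfl
theorem F283930 : act 2 n63528 = n63528 := d22_1 D63528 (iv D63528) F281287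
theorem F283931 : act 3 n63528 = n63080 := d28_1 D63528 F281841 (iv F279623) F279627 (iv F281288)
theorem F283932 : act 4 n63528 = n63255 := d33_1 D63528 (iv F283061) F283059
theorem F283933 : act 5 n63528 = n62951 := d37_1 D63528 (iv D62951) D62950
theorem F283934 : act 6 n63528 = n63033 := d40_1 D63528 (iv F283137) F283135
theorem F283935 : act 9 n63528 = n63029 := d44_2 (iv F281289) D63528 (iv D63029) (iv F280490) F280489
def n63529 : Q := act 2 n62952
theorem D63529 : act 2 n62952 = n63529 := rfl
theorem F283936 : act 0 n63529 = n62954 := d1_1 D63529 (iv D62954) (iv F281292)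
theorem F283937 : act 4 n63529 = n63144 := d18_2 (iv F281293) D63529 (iv D63144)
def n63530 : Q := act 5 n62952
theorem D63530 : act 5 n62952 = n63530 := rfl
theorem F283938 : act 0 n63530 = n62955 := d4_1 D63530 (iv D62955) (iv F281292)
theorem F283939 : act 3 n63530 = n62953 := d25_1 D63530 (iv D62953) D62952
def n63531 : Q := act 8 n62952
theorem D63531 : act 8 n62952 = n63531 := rfl
theorem F283940 : act 0 n63531 = n62956 := d7_1 D63531 (iv D62956) (iv F281292)
theorem F283941 : act 3 n63531 = n62968 := d28_1 D63531 (iv D62968) (iv D62202) (iv F277712) D62952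
theorem F283942 : act 4 n63531 = n63146 := d33_1 D63531 (iv D63146) (iv F281293)
def n63532 : Q := act 5 n62954
theorem D63532 : act 5 n62954 = n63532 := rfl
theorem F283943 : act 1 n63532 = n63532 := d12_1 D63532 (iv D63532) F281297
theorem F283944 : act 2 n63532 = n62955 := d19_1 D63532 (iv D62955) D62954
def n63533 : Q := act 8 n62954
theorem D63533 : act 8 n62954 = n63533 := rfl
theorem F283945 : act 1 n63533 = n63533 := d15_1 D63533 (iv D63533) F281297
theorem F283946 : act 2 n63533 = n62956 := d22_1 D63533 (iv D62956) D62954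
theorem F283947 : act 4 n63533 = n63148 := d33_1 D63533 (iv D63148) (iv F281298)
def n63534 : Q := act 4 n62955
theorem D63534 : act 4 n62955 = n63534 := rfl
theorem F283948 : act 1 n63534 = n62957 := d11_1 D63534 (iv D62957) (iv F281299)
theorem F283949 : act 3 n63534 = n62965 := d24_1 D63534 (iv D62965) F277752 (iv F277716) (iv F281300)
theorem F283950 : act 5 n63534 = n63149 := d30_2 D62955 D63534 (iv D63149) (iv D62431) (iv F277714)
theorem F283951 : act 7 n63534 = n63022 := d32_2 F283423 D63534 (iv F283420)
theorem F283952 : act 8 n63534 = n63011 := d33_2 F283395 D63534 (iv F283391)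
def n63535 : Q := act 9 n62956
theorem D63535 : act 9 n62956 = n63535 := rfl
theorem F283953 : act 1 n63535 = n62958 := d16_1 D63535 (iv D62958) (iv F281301)
theorem F283954 : act 3 n63535 = n62969 := d29_1 D63535 (iv D62969) (iv F281302)
theorem F283955 : act 4 n63535 = n63150 := d34_1 D63535 (iv D63150) (iv F281303)
theorem F283956 : act 5 n63535 = n63028 := d38_1 D63535 (iv F283396) F283392
def n63536 : Q := act 5 n62959
theorem D63536 : act 5 n62959 = n63536 := rfl
theorem F283957 : act 0 n63536 = n62961 := d4_1 D63536 (iv D62961) (iv F281314)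
theorem F283958 : act 1 n63536 = n63125 := d12_1 D63536 F282022 (iv F281315)
theorem F283959 : act 2 n63536 = n63187 := d19_1 D63536 (iv D63187) (iv F281316)
theorem F283960 : act 3 n63536 = n62960 := d25_1 D63536 (iv D62960) D62959
theorem F283961 : act 7 n63536 = n63024 := d36_2 F282823 D63536 F282826
theorem F283962 : act 9 n63536 = n62963 := d38_2 (iv F281319) D63536 (iv D62963)
def n63537 : Q := act 6 n62960
theorem D63537 : act 6 n62960 = n63537 := rfl
theorem F283963 : act 0 n63537 = n62962 := d5_1 D63537 (iv D62962) (iv F281320)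
theorem F283964 : act 2 n63537 = n62970 := d20_1 D63537 (iv F283913) F283911
theorem F283965 : act 5 n63537 = n63074 := d35_1 D63537 F281814 F278449 (iv F277724) D62960
theorem F283966 : act 9 n63537 = n62964 := d41_2 (iv F281321) D63537 (iv D62964)
theorem F283967 : act 7 n63077 = n63537 := d43_3 F283966 (iv F281342) (iv F281828)
def n63538 : Q := act 4 n62963
theorem D63538 : act 4 n62963 = n63538 := rfl
theorem F283968 : act 0 n63538 = n62965 := d3_1 D63538 (iv D62965) (iv F281332)
theorem F283969 : act 1 n63538 = n63117 := d11_1 D63538 F281992 (iv F281333)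
theorem F283970 : act 2 n63538 = n63200 := d18_1 D63538 F282272 (iv F281334)
theorem F283971 : act 5 n63538 = n63151 := d30_2 D62963 D63538 (iv D63151) (iv D62436) (iv F277745)
theorem F283972 : act 7 n63538 = n63023 := d32_2 (iv F281336) D63538 F281622
theorem F283973 : act 8 n63538 = n63014 := d33_2 (iv F281337) D63538 F281585
def n63539 : Q := act 6 n62963
theorem D63539 : act 6 n62963 = n63539 := rfl
theorem F283974 : act 0 n63539 = n62966 := d5_1 D63539 (iv D62966) (iv F281332)
theorem F283975 : act 1 n63539 = n63121 := d13_1 D63539 F282009 (iv F281333)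
theorem F283976 : act 2 n63539 = n63156 := d20_1 D63539 F282122 (iv F281334)
theorem F283977 : act 3 n63539 = n62964 := d26_1 D63539 (iv D62964) (iv F281335)
theorem F283978 : act 5 n63539 = n63119 := d35_1 D63539 F282002 F278780 (iv F277746) D62963
theorem F283979 : act 7 n63539 = n63060 := d39_2 (iv F281336) D63539 (iv D63060) (iv F279944) F279943
theorem F283980 : act 8 n63539 = n63015 := d40_2 (iv F281337) D63539 F281591
def n63540 : Q := act 6 n62965
theorem D63540 : act 6 n62965 = n63540 := rfl
theorem F283981 : act 1 n63540 = n62967 := d13_1 D63540 (iv D62967) (iv F281343)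
theorem F283982 : act 2 n63540 = n63157 := d20_1 D63540 F282124 (iv F281344)
theorem F283983 : act 4 n63540 = n62966 := d31_1 D63540 (iv D62966) D62965
theorem F283984 : act 7 n63540 = n63059 := d39_2 (iv F281346) D63540 (iv D63059) (iv F279924) F279923
theorem F283985 : act 8 n63540 = n63013 := d40_2 (iv F281347) D63540 F281581
def n63541 : Q := act 9 n62968
theorem D63541 : act 9 n62968 = n63541 := rfl
theorem F283986 : act 0 n63541 = n62969 := d8_1 D63541 (iv D62969) (iv F281359)
theorem F283987 : act 4 n63541 = n62970 := d34_1 D63541 (iv D62970) (iv F281360)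
theorem F283988 : act 5 n63541 = n63027 := d38_1 D63541 (iv F283389) F283385
theorem F283989 : act 8 n63541 = n63077 := d44_1 D63541 F281828 (iv F280954) F280955 D62968
def n63542 : Q := act 3 n62971
theorem D63542 : act 3 n62971 = n63542 := rfl
theorem F283990 : act 0 n63542 = n62972 := d2_1 D63542 (iv D62972) (iv F281368)
theorem F283991 : act 1 n63542 = n63243 := d10_1 D63542 (iv D63243) (iv F281369)
theorem F283992 : act 4 n63542 = n63223 := d24_2 D62971 D63542 (iv D63223) (iv D62552) (iv F277809)
theorem F283993 : act 5 n63542 = n63030 := d25_2 (iv F281370) D63542 (iv D63030)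
theorem F283994 : act 7 n63542 = n62974 := d27_2 (iv F281371) D63542 (iv D62974)
theorem F283995 : act 8 n63542 = n63208 := d28_2 (iv F281372) D63542 (iv D63208) F279079 (iv F277861)
def n63543 : Q := act 2 n62972
theorem D63543 : act 2 n62972 = n63543 := rfl
theorem F283996 : act 1 n63543 = n63543 := d9_1 D63543 (iv D63543) F281373 F277818 (iv F281373)
theorem F283997 : act 4 n63543 = n63225 := d18_2 (iv F281374) D63543 (iv D63225)
theorem F283998 : act 5 n63543 = n63031 := d19_2 (iv F281375) D63543 (iv D63031)
theorem F283999 : act 7 n63543 = n62975 := d21_2 (iv F281376) D63543 (iv D62975)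
theorem F284000 : act 8 n63543 = n63209 := d22_2 (iv F281377) D63543 (iv D63209)
def n63544 : Q := act 2 n62974
theorem D63544 : act 2 n62974 = n63544 := rfl
theorem F284001 : act 0 n63544 = n62975 := d1_1 D63544 (iv D62975) (iv F281383)
theorem F284002 : act 5 n63544 = n63065 := d19_2 (iv F281385) D63544 (iv D63065)
theorem F284003 : act 8 n63544 = n63219 := d22_2 (iv F281386) D63544 (iv D63219)
def n63545 : Q := act 3 n62976
theorem D63545 : act 3 n62976 = n63545 := rfl
theorem F284004 : act 0 n63545 = n62977 := d2_1 D63545 (iv D62977) (iv F281390)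
theorem F284005 : act 1 n63545 = n63238 := d10_1 D63545 (iv D63238) (iv F281391)
theorem F284006 : act 4 n63545 = n63101 := d24_2 D62976 D63545 F281933 (iv D62574) (iv F277841)
theorem F284007 : act 5 n63545 = n63071 := d25_2 (iv F281393) D63545 (iv D63071)
theorem F284008 : act 7 n63545 = n62981 := d27_2 (iv F281394) D63545 (iv D62981)
theorem F284009 : act 8 n63545 = n63095 := d28_2 (iv F281395) D63545 (iv D63095) (iv F280589) F280585
theorem F284010 : act 9 n63545 = n62978 := d29_2 (iv F281396) D63545 (iv D62978)
def n63546 : Q := act 2 n62977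
theorem D63546 : act 2 n62977 = n63546 := rfl
theorem F284011 : act 1 n63546 = n63546 := d9_1 D63546 (iv D63546) F281397 F277853 (iv F281397)
theorem F284012 : act 3 n63546 = n63236 := d17_2 D62977 D63546 (iv D63236) (iv D62571) (iv F277847)
theorem F284013 : act 4 n63546 = n63102 := d18_2 (iv F281398) D63546 F281937
theorem F284014 : act 5 n63546 = n63072 := d19_2 (iv F281399) D63546 (iv D63072)
theorem F284015 : act 7 n63546 = n62982 := d21_2 (iv F281400) D63546 (iv D62982)
theorem F284016 : act 8 n63546 = n63097 := d22_2 (iv F281401) D63546 (iv D63097)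
theorem F284017 : act 9 n63546 = n62979 := d23_2 (iv F281402) D63546 (iv D62979)
def n63547 : Q := act 2 n62978
theorem D63547 : act 2 n62978 = n63547 := rfl
theorem F284018 : act 0 n63547 = n62979 := d1_1 D63547 (iv D62979) (iv F281403)
theorem F284019 : act 3 n63547 = n63237 := d17_2 D62978 D63547 (iv D63237) (iv D62572) (iv F277866)
theorem F284020 : act 5 n63547 = n63100 := d19_2 (iv F281405) D63547 (iv D63100)
theorem F284021 : act 7 n63547 = n63242 := d21_2 (iv F281406) D63547 (iv D63242)
theorem F284022 : act 8 n63547 = n63248 := d22_2 (iv F281407) D63547 (iv D63248)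
def n63548 : Q := act 2 n62981
theorem D63548 : act 2 n62981 = n63548 := rfl
theorem F284023 : act 0 n63548 = n62982 := d1_1 D63548 (iv D62982) (iv F281421)
theorem F284024 : act 4 n63548 = n63268 := d18_2 (iv F281422) D63548 F282437
theorem F284025 : act 5 n63548 = n63251 := d19_2 (iv F281423) D63548 (iv D63251)
theorem F284026 : act 6 n63548 = n63247 := d20_2 (iv F281424) D63548 (iv D63247)
theorem F284027 : act 8 n63548 = n63265 := d22_2 (iv F281425) D63548 (iv D63265)
theorem F284028 : act 9 n63548 = n63242 := d23_2 (iv F281426) D63548 (iv D63242)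
def n63549 : Q := act 3 n62983
theorem D63549 : act 3 n62983 = n63549 := rfl
theorem F284029 : act 0 n63549 = n62984 := d2_1 D63549 (iv D62984) (iv F281433)
theorem F284030 : act 1 n63549 = n63030 := d10_1 D63549 (iv D63030) (iv F281434)
theorem F284031 : act 4 n63549 = n63213 := d24_2 D62983 D63549 (iv D63213) (iv D62536) (iv F277908)
theorem F284032 : act 5 n63549 = n63243 := d25_2 (iv F281436) D63549 (iv D63243)
theorem F284033 : act 7 n63549 = n62994 := d27_2 (iv F281437) D63549 (iv D62994)
def n63550 : Q := act 2 n62984
theorem D63550 : act 2 n62984 = n63550 := rfl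
theorem F284034 : act 1 n63550 = n63550 := d9_1 D63550 (iv D63550) F281439 F277918 (iv F281439)
theorem F284035 : act 3 n63550 = n63239 := d17_2 D62984 D63550 (iv D63239) (iv D62576) (iv F277913)
theorem F284036 : act 4 n63550 = n63214 := d18_2 (iv F281440) D63550 (iv D63214)
theorem F284037 : act 5 n63550 = n63244 := d19_2 (iv F281441) D63550 (iv D63244)
theorem F284038 : act 7 n63550 = n62995 := d21_2 (iv F281442) D63550 (iv D62995)
theorem F284039 : act 9 n63550 = n63269 := d23_2 F283525 D63550 (iv F283520)
def n63551 : Q := act 8 n62984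
theorem D63551 : act 8 n62984 = n63551 := rfl
theorem F284040 : act 1 n63551 = n62985 := d15_1 D63551 (iv D62985) (iv F281439)
theorem F284041 : act 3 n63551 = n63004 := d28_1 D63551 (iv D63004) (iv D62252) (iv F277916) D62984
theorem F284042 : act 4 n63551 = n63139 := d33_1 D63551 F282065 (iv F281440)
theorem F284043 : act 5 n63551 = n63173 := d37_1 D63551 F282189 (iv F281441)
theorem F284044 : act 7 n63551 = n62996 := d42_1 D63551 (iv D62996) (iv F281442)
def n63552 : Q := act 3 n62986
theorem D63552 : act 3 n62986 = n63552 := rfl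
theorem F284045 : act 0 n63552 = n62987 := d2_1 D63552 (iv D62987) (iv F281449)
theorem F284046 : act 1 n63552 = n63054 := d10_1 D63552 (iv D63054) (iv F281450)
theorem F284047 : act 4 n63552 = n62994 := d24_2 D62986 D63552 (iv D62994) (iv D62241) (iv F277924)
theorem F284048 : act 7 n63552 = n63213 := d27_2 (iv F281452) D63552 (iv D63213)
def n63553 : Q := act 5 n62986
theorem D63553 : act 5 n62986 = n63553 := rfl
theorem F284049 : act 0 n63553 = n62988 := d4_1 D63553 (iv D62988) (iv F281449)
theorem F284050 : act 1 n63553 = n63055 := d12_1 D63553 (iv D63055) (iv F281450)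
theorem F284051 : act 2 n63553 = n63082 := d19_1 D63553 F281850 (iv F281451)
theorem F284052 : act 4 n63553 = n62992 := d30_1 D63553 (iv D62992) (iv D62238) (iv F277925) D62986
theorem F284053 : act 7 n63553 = n63088 := d36_2 (iv F281452) D63553 F281882
theorem F284054 : act 8 n63553 = n63081 := d37_2 (iv F281453) D63553 F281845
def n63554 : Q := act 2 n62987
theorem D63554 : act 2 n62987 = n63554 := rfl
theorem F284055 : act 1 n63554 = n63554 := d9_1 D63554 (iv D63554) F281454 F277933 (iv F281454)
theorem F284056 : act 3 n63554 = n63209 := d17_2 D62987 D63554 (iv D63209) (iv D62528) (iv F277929)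
theorem F284057 : act 4 n63554 = n62995 := d18_2 (iv F281455) D63554 (iv D62995)
theorem F284058 : act 7 n63554 = n63214 := d21_2 (iv F281456) D63554 (iv D63214)
def n63555 : Q := act 5 n62987
theorem D63555 : act 5 n62987 = n63555 := rfl
theorem F284059 : act 1 n63555 = n62989 := d12_1 D63555 (iv D62989) (iv F281454)
theorem F284060 : act 3 n63555 = n62988 := d25_1 D63555 (iv D62988) D62987
theorem F284061 : act 4 n63555 = n63169 := d30_1 D63555 F282172 F279168 (iv F277970) (iv F281455)
theorem F284062 : act 7 n63555 = n63090 := d36_2 (iv F281456) D63555 F281889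
theorem F284063 : act 8 n63129 = n63555 := d42_0 F284062 F281891 (iv F282037)
def n63556 : Q := act 8 n62987
theorem D63556 : act 8 n62987 = n63556 := rfl
theorem F284064 : act 1 n63556 = n62990 := d15_1 D63556 (iv D62990) (iv F281454)
theorem F284065 : act 3 n63556 = n63130 := d28_1 D63556 F282041 F278765 (iv F277931) D62987
theorem F284066 : act 4 n63556 = n62996 := d33_1 D63556 (iv D62996) (iv F281455)
theorem F284067 : act 5 n63556 = n63129 := d37_1 D63556 F284063 (iv D63555)
theorem F284068 : act 7 n63556 = n63139 := d42_1 D63556 F282065 (iv F281456)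
def n63557 : Q := act 6 n62988
theorem D63557 : act 6 n62988 = n63557 := rfl
theorem F284069 : act 1 n63557 = n62991 := d13_1 D63557 (iv D62991) (iv F281457)
theorem F284070 : act 2 n63557 = n63079 := d20_1 D63557 F281837 (iv F281458)
theorem F284071 : act 4 n63557 = n62993 := d31_1 D63557 (iv D62993) (iv F281459)
theorem F284072 : act 7 n63557 = n63114 := d39_2 (iv F281460) D63557 F281983 F278631 (iv F278491)
theorem F284073 : act 8 n63557 = n63078 := d40_2 (iv F281461) D63557 F281832
def n63558 : Q := act 6 n62992
theorem D63558 : act 6 n62992 = n63558 := rfl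
theorem F284074 : act 0 n63558 = n62993 := d5_1 D63558 (iv D62993) (iv F281479)
theorem F284075 : act 1 n63558 = n63060 := d13_1 D63558 (iv D63060) (iv F281480)
theorem F284076 : act 2 n63558 = n63212 := d20_1 D63558 (iv D63212) (iv F281481)
theorem F284077 : act 3 n63558 = n63016 := d26_1 D63558 F281594 (iv F281482)
theorem F284078 : act 5 n63558 = n63015 := d35_1 D63558 F281591 F278117 (iv F277951) D62992
theorem F284079 : act 7 n63558 = n63121 := d39_2 (iv F281483) D63558 F282009 F278661 (iv F278786)
theorem F284080 : act 8 n63558 = n63119 := d40_2 (iv F281484) D63558 F282002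
def n63559 : Q := act 2 n62994
theorem D63559 : act 2 n62994 = n63559 := rfl
theorem F284081 : act 0 n63559 = n62995 := d1_1 D63559 (iv D62995) (iv F281491)
theorem F284082 : act 5 n63559 = n63247 := d19_2 (iv F281493) D63559 (iv D63247)
def n63560 : Q := act 8 n62994
theorem D63560 : act 8 n62994 = n63560 := rfl
theorem F284083 : act 0 n63560 = n62996 := d7_1 D63560 (iv D62996) (iv F281491)
theorem F284084 : act 1 n63560 = n63066 := d15_1 D63560 (iv D63066) (iv F281492)
theorem F284085 : act 3 n63560 = n63005 := d28_1 D63560 (iv D63005) (iv D62254) (iv F277968) D62994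
theorem F284086 : act 5 n63560 = n63179 := d37_1 D63560 F282212 (iv F281493)
def n63561 : Q := act 8 n62995
theorem D63561 : act 8 n62995 = n63561 := rfl
theorem F284087 : act 1 n63561 = n63561 := d15_1 D63561 (iv D63561) F281494
theorem F284088 : act 2 n63561 = n62996 := d22_1 D63561 (iv D62996) D62995
theorem F284089 : act 5 n63561 = n63180 := d37_1 D63561 F282216 (iv F281495)
def n63562 : Q := act 3 n62997
theorem D63562 : act 3 n62997 = n63562 := rfl
theorem F284090 : act 0 n63562 = n62998 := d2_1 D63562 (iv D62998) (iv F281499)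
theorem F284091 : act 1 n63562 = n63071 := d10_1 D63562 (iv D63071) (iv F281500)
theorem F284092 : act 4 n63562 = n63126 := d24_2 D62997 D63562 (iv D63126) (iv D62411) (iv F277977)
theorem F284093 : act 5 n63562 = n63238 := d25_2 (iv F281502) D63562 (iv D63238)
theorem F284094 : act 7 n63562 = n63245 := d27_2 (iv F281503) D63562 (iv D63245)
theorem F284095 : act 8 n63562 = n63249 := d28_2 (iv F281504) D63562 (iv D63249) (iv F280350) F280347
theorem F284096 : act 9 n63562 = n63008 := d29_2 (iv F281505) D63562 (iv D63008)
def n63563 : Q := act 2 n62998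
theorem D63563 : act 2 n62998 = n63563 := rfl
theorem F284097 : act 1 n63563 = n63563 := d9_1 D63563 (iv D63563) F281506 F277989 (iv F281506)
theorem F284098 : act 3 n63563 = n63244 := d17_2 D62998 D63563 (iv D63244) (iv D62583) (iv F277983)
theorem F284099 : act 4 n63563 = n63127 := d18_2 (iv F281507) D63563 (iv D63127)
theorem F284100 : act 5 n63563 = n63239 := d19_2 (iv F281508) D63563 (iv D63239)
theorem F284101 : act 7 n63563 = n63246 := d21_2 (iv F281509) D63563 (iv D63246)
theorem F284102 : act 8 n63563 = n63250 := d22_2 (iv F281510) D63563 (iv D63250)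
theorem F284103 : act 9 n63563 = n63009 := d23_2 (iv F281511) D63563 (iv D63009)
def n63564 : Q := act 3 n62999
theorem D63564 : act 3 n62999 = n63564 := rfl
theorem F284104 : act 0 n63564 = n63000 := d2_1 D63564 (iv D63000) (iv F281512)
theorem F284105 : act 1 n63564 = n63076 := d10_1 D63564 (iv D63076) (iv F281513)
theorem F284106 : act 4 n63564 = n63176 := d24_2 D62999 D63564 F282201 F279314 (iv F277996)
theorem F284107 : act 6 n63564 = n63003 := d26_2 (iv F281514) D63564 (iv D63003)
theorem F284108 : act 9 n63564 = n63015 := d29_2 (iv F281515) D63564 (iv D63015)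
def n63565 : Q := act 5 n62999
theorem D63565 : act 5 n62999 = n63565 := rfl
theorem F284109 : act 0 n63565 = n63001 := d4_1 D63565 (iv D63001) (iv F281512)
theorem F284110 : act 1 n63565 = n63077 := d12_1 D63565 (iv D63077) (iv F281513)
theorem F284111 : act 6 n63565 = n63232 := d35_2 (iv F281514) D63565 (iv D63232) F279175 (iv F278013)
theorem F284112 : act 9 n63565 = n63016 := d38_2 (iv F281515) D63565 (iv D63016)
def n63566 : Q := act 8 n63000
theorem D63566 : act 8 n63000 = n63566 := rfl
theorem F284113 : act 1 n63566 = n63002 := d15_1 D63566 (iv D63002) (iv F281516)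
theorem F284114 : act 4 n63566 = n63175 := d33_1 D63566 F282198 (iv F281517)
theorem F284115 : act 6 n63566 = n63004 := d40_1 D63566 (iv D63004) (iv F281518)
def n63567 : Q := act 8 n63003
theorem D63567 : act 8 n63003 = n63567 := rfl
theorem F284116 : act 0 n63567 = n63004 := d7_1 D63567 (iv D63004) (iv F281527)
theorem F284117 : act 1 n63567 = n63082 := d15_1 D63567 (iv D63082) (iv F281528)
theorem F284118 : act 4 n63567 = n63174 := d33_1 D63567 F282194 (iv F281529)
theorem F284119 : act 5 n63567 = n63172 := d37_1 D63567 F282185 (iv F281530)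
theorem F284120 : act 7 n63567 = n63005 := d42_1 D63567 (iv D63005) (iv F281531)
def n63568 : Q := act 3 n63006
theorem D63568 : act 3 n63006 = n63568 := rfl
theorem F284121 : act 0 n63568 = n63007 := d2_1 D63568 (iv D63007) (iv F281541)
theorem F284122 : act 1 n63568 = n63095 := d10_1 D63568 (iv D63095) (iv F281542)
theorem F284123 : act 4 n63568 = n63008 := d24_2 D63006 D63568 (iv D63008) (iv D62260) (iv F278040)
theorem F284124 : act 5 n63568 = n63249 := d25_2 (iv F281544) D63568 (iv D63249)
theorem F284125 : act 7 n63568 = n63215 := d27_2 (iv F281545) D63568 (iv D63215)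
theorem F284126 : act 8 n63568 = n63238 := d28_2 (iv F281546) D63568 (iv D63238) (iv F279986) F279983
theorem F284127 : act 9 n63568 = n63126 := d29_2 (iv F281547) D63568 (iv D63126)
def n63569 : Q := act 2 n63007
theorem D63569 : act 2 n63007 = n63569 := rfl
theorem F284128 : act 1 n63569 = n63569 := d9_1 D63569 (iv D63569) F281548 F278052 (iv F281548)
theorem F284129 : act 3 n63569 = n63141 := d17_2 D63007 D63569 (iv D63141) (iv D62426) (iv F278046)
theorem F284130 : act 4 n63569 = n63009 := d18_2 (iv F281549) D63569 (iv D63009)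
theorem F284131 : act 5 n63569 = n63250 := d19_2 (iv F281550) D63569 (iv D63250)
theorem F284132 : act 7 n63569 = n63216 := d21_2 (iv F281551) D63569 (iv D63216)
theorem F284133 : act 8 n63569 = n63239 := d22_2 (iv F281552) D63569 (iv D63239)
theorem F284134 : act 9 n63569 = n63127 := d23_2 (iv F281553) D63569 (iv D63127)
def n63570 : Q := act 2 n63008
theorem D63570 : act 2 n63008 = n63570 := rfl
theorem F284135 : act 0 n63570 = n63009 := d1_1 D63570 (iv D63009) (iv F281554)
theorem F284136 : act 5 n63570 = n63268 := d19_2 (iv F281556) D63570 F282437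
theorem F284137 : act 7 n63570 = n63248 := d21_2 (iv F281557) D63570 (iv D63248)
theorem F284138 : act 8 n63570 = n63242 := d22_2 (iv F281558) D63570 (iv D63242)
def n63571 : Q := act 3 n63010
theorem D63571 : act 3 n63010 = n63571 := rfl
theorem F284139 : act 0 n63571 = n63011 := d2_1 D63571 (iv D63011) (iv F281563)
theorem F284140 : act 1 n63571 = n63105 := d10_1 D63571 (iv D63105) (iv F281564)
theorem F284141 : act 5 n63571 = n63182 := d25_2 (iv F281566) D63571 (iv D63182)
theorem F284142 : act 7 n63571 = n63020 := d27_2 (iv F281567) D63571 (iv D63020)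
theorem F284143 : act 9 n63571 = n63252 := d29_2 (iv F281569) D63571 (iv D63252)
def n63572 : Q := act 2 n63011
theorem D63572 : act 2 n63011 = n63572 := rfl
theorem F284144 : act 1 n63572 = n63572 := d9_1 D63572 (iv D63572) F281570 F278078 (iv F281570)
theorem F284145 : act 3 n63572 = n63263 := d17_2 D63011 D63572 (iv D63263) (iv D62611) (iv F278072)
theorem F284146 : act 5 n63572 = n63183 := d19_2 (iv F281571) D63572 (iv D63183)
theorem F284147 : act 7 n63572 = n63021 := d21_2 (iv F281572) D63572 (iv D63021)
theorem F284148 : act 9 n63572 = n63253 := d23_2 (iv F281573) D63572 (iv D63253)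
def n63573 : Q := act 3 n63012
theorem D63573 : act 3 n63012 = n63573 := rfl
theorem F284149 : act 0 n63573 = n63013 := d2_1 D63573 (iv D63013) (iv F281574)
theorem F284150 : act 1 n63573 = n63111 := d10_1 D63573 (iv D63111) (iv F281575)
theorem F284151 : act 4 n63573 = n63015 := d24_2 D63012 D63573 (iv D63015) (iv D62270) (iv F278084)
theorem F284152 : act 6 n63573 = n63014 := d26_2 (iv F281577) D63573 (iv D63014)
theorem F284153 : act 9 n63573 = n63176 := d29_2 (iv F281578) D63573 F282201
def n63574 : Q := act 3 n63017
theorem D63574 : act 3 n63017 = n63574 := rfl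
theorem F284154 : act 0 n63574 = n63018 := d2_1 D63574 (iv D63018) (iv F281596)
theorem F284155 : act 1 n63574 = n63140 := d10_1 D63574 (iv D63140) (iv F281597)
theorem F284156 : act 5 n63574 = n63262 := d25_2 (iv F281599) D63574 (iv D63262)
theorem F284157 : act 7 n63574 = n63252 := d27_2 (iv F281600) D63574 (iv D63252)
theorem F284158 : act 9 n63574 = n63020 := d29_2 (iv F281602) D63574 (iv D63020)
def n63575 : Q := act 2 n63018
theorem D63575 : act 2 n63018 = n63575 := rfl
theorem F284159 : act 1 n63575 = n63575 := d9_1 D63575 (iv D63575) F281603 F278139 (iv F281603)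
theorem F284160 : act 3 n63575 = n63183 := d17_2 D63018 D63575 (iv D63183) (iv D62493) (iv F278133)
theorem F284161 : act 5 n63575 = n63263 := d19_2 (iv F281604) D63575 (iv D63263)
theorem F284162 : act 7 n63575 = n63253 := d21_2 (iv F281605) D63575 (iv D63253)
theorem F284163 : act 9 n63575 = n63021 := d23_2 (iv F281606) D63575 (iv D63021)
def n63576 : Q := act 8 n63018
theorem D63576 : act 8 n63018 = n63576 := rfl
theorem F284164 : act 1 n63576 = n63019 := d15_1 D63576 (iv D63019) (iv F281603)
theorem F284165 : act 3 n63576 = n63041 := d28_1 D63576 F281695 (iv D62491) (iv F278136) D63018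
theorem F284166 : act 5 n63576 = n63040 := d37_1 D63576 F281690 (iv F281604)
theorem F284167 : act 7 n63576 = n63254 := d42_1 D63576 (iv D63254) (iv F281605)
def n63577 : Q := act 2 n63020
theorem D63577 : act 2 n63020 = n63577 := rfl
theorem F284168 : act 0 n63577 = n63021 := d1_1 D63577 (iv D63021) (iv F281612)
theorem F284169 : act 5 n63577 = n63264 := d19_2 (iv F281614) D63577 (iv D63264)
def n63578 : Q := act 8 n63020
theorem D63578 : act 8 n63020 = n63578 := rfl
theorem F284170 : act 0 n63578 = n63022 := d7_1 D63578 (iv D63022) (iv F281612)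
theorem F284171 : act 1 n63578 = n63146 := d15_1 D63578 (iv D63146) (iv F281613)
theorem F284172 : act 3 n63578 = n63023 := d28_1 D63578 (iv D63023) (iv D62281) (iv F278146) D63020
theorem F284173 : act 5 n63578 = n63163 := d37_1 D63578 F282151 (iv F281614)
def n63579 : Q := act 8 n63021
theorem D63579 : act 8 n63021 = n63579 := rfl
theorem F284174 : act 1 n63579 = n63579 := d15_1 D63579 (iv D63579) F281615
theorem F284175 : act 2 n63579 = n63022 := d22_1 D63579 (iv D63022) D63021
theorem F284176 : act 5 n63579 = n63164 := d37_1 D63579 F282153 (iv F281616)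
def n63580 : Q := act 3 n63025
theorem D63580 : act 3 n63025 = n63580 := rfl
theorem F284177 : act 0 n63580 = n63026 := d2_1 D63580 (iv D63026) (iv F281626)
theorem F284178 : act 1 n63580 = n63213 := d10_1 D63580 (iv D63213) (iv F281627)
theorem F284179 : act 4 n63580 = n63030 := d24_2 D63025 D63580 (iv D63030) (iv D62292) (iv F278172)
theorem F284180 : act 6 n63580 = n63252 := d26_2 (iv F281629) D63580 (iv D63252)
theorem F284181 : act 7 n63580 = n63054 := d27_2 (iv F281630) D63580 (iv D63054)
def n63581 : Q := act 2 n63026
theorem D63581 : act 2 n63026 = n63581 := rfl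
theorem F284182 : act 1 n63581 = n63581 := d9_1 D63581 (iv D63581) F281632 F278183 (iv F281632)
theorem F284183 : act 3 n63581 = n63261 := d17_2 D63026 D63581 (iv D63261) (iv D62609) (iv F278178)
theorem F284184 : act 4 n63581 = n63031 := d18_2 (iv F281633) D63581 (iv D63031)
theorem F284185 : act 6 n63581 = n63253 := d20_2 (iv F281634) D63581 (iv D63253)
theorem F284186 : act 7 n63581 = n63056 := d21_2 (iv F281635) D63581 (iv D63056)
def n63582 : Q := act 3 n63027
theorem D63582 : act 3 n63027 = n63582 := rfl
theorem F284187 : act 0 n63582 = n63028 := d2_1 D63582 (iv D63028) (iv F281636)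
theorem F284188 : act 4 n63582 = n63252 := d24_2 D63027 D63582 (iv D63252) (iv D62599) (iv F278187)
theorem F284189 : act 6 n63582 = n63030 := d26_2 (iv F281637) D63582 (iv D63030)
def n63583 : Q := act 2 n63028
theorem D63583 : act 2 n63028 = n63583 := rfl
theorem F284190 : act 1 n63583 = n63583 := d9_1 D63583 (iv D63583) F281639 F278194 (iv F281639)
theorem F284191 : act 4 n63583 = n63253 := d18_2 (iv F281640) D63583 (iv D63253)
theorem F284192 : act 6 n63583 = n63031 := d20_2 (iv F281641) D63583 (iv D63031)
def n63584 : Q := act 8 n63028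
theorem D63584 : act 8 n63028 = n63584 := rfl
theorem F284193 : act 1 n63584 = n63029 := d15_1 D63584 (iv D63029) (iv F281639)
theorem F284194 : act 3 n63584 = n63079 := d28_1 D63584 (iv D63079) (iv D62346) (iv F278193) D63028
theorem F284195 : act 4 n63584 = n63254 := d33_1 D63584 (iv D63254) (iv F281640)
theorem F284196 : act 6 n63584 = n63032 := d40_1 D63584 (iv D63032) (iv F281641)
def n63585 : Q := act 2 n63030
theorem D63585 : act 2 n63030 = n63585 := rfl
theorem F284197 : act 0 n63585 = n63031 := d1_1 D63585 (iv D63031) (iv F281646)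
theorem F284198 : act 7 n63585 = n63065 := d21_2 (iv F281647) D63585 (iv D63065)
def n63586 : Q := act 8 n63030
theorem D63586 : act 8 n63030 = n63586 := rfl
theorem F284199 : act 0 n63586 = n63032 := d7_1 D63586 (iv D63032) (iv F281646)
theorem F284200 : act 3 n63586 = n63082 := d28_1 D63586 (iv D63082) (iv D62349) (iv F278199) D63030
theorem F284201 : act 5 n63586 = n63208 := d37_1 D63586 (iv F283995) F283993
theorem F284202 : act 7 n63586 = n63066 := d42_1 D63586 (iv D63066) (iv F281647)
def n63587 : Q := act 8 n63031
theorem D63587 : act 8 n63031 = n63587 := rfl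
theorem F284203 : act 1 n63587 = n63587 := d15_1 D63587 (iv D63587) F281648
theorem F284204 : act 2 n63587 = n63032 := d22_1 D63587 (iv D63032) D63031
theorem F284205 : act 5 n63587 = n63209 := d37_1 D63587 (iv F284000) F283998
theorem F284206 : act 7 n63587 = n63067 := d42_1 D63587 (iv D63067) (iv F281649)
def n63588 : Q := act 9 n63032
theorem D63588 : act 9 n63032 = n63588 := rfl
theorem F284207 : act 1 n63588 = n63033 := d16_1 D63588 (iv D63033) (iv F281650)
theorem F284208 : act 3 n63588 = n63083 := d29_1 D63588 (iv D63083) (iv F281651)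
theorem F284209 : act 5 n63588 = n63207 := d38_1 D63588 F282288 (iv F281652)
theorem F284210 : act 7 n63588 = n63068 := d43_1 D63588 (iv D63068) (iv F281653)
def n63589 : Q := act 3 n63034
theorem D63589 : act 3 n63034 = n63589 := rfl
theorem F284211 : act 0 n63589 = n63035 := d2_1 D63589 (iv D63035) (iv F281658)
theorem F284212 : act 1 n63589 = n63042 := d10_1 D63589 (iv D63042) (iv F281659)
theorem F284213 : act 2 n63589 = n63176 := d17_1 D63589 F282201 F279313 (iv F278918) (iv F281660)
theorem F284214 : act 6 n63589 = n63171 := d26_2 (iv F281661) D63589 F282180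
theorem F284215 : act 7 n63589 = n63177 := d27_2 (iv F281662) D63589 (iv D63177)
def n63590 : Q := act 5 n63034
theorem D63590 : act 5 n63034 = n63590 := rfl
theorem F284216 : act 0 n63590 = n63036 := d4_1 D63590 (iv D63036) (iv F281658)
theorem F284217 : act 1 n63590 = n63043 := d12_1 D63590 (iv D63043) (iv F281659)
theorem F284218 : act 2 n63590 = n63174 := d19_1 D63590 (iv D63174) (iv F281660)
theorem F284219 : act 7 n63590 = n63178 := d36_2 (iv F281662) D63590 (iv D63178)
theorem F284220 : act 8 n63590 = n63171 := d37_2 (iv F281663) D63590 (iv D63171)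
def n63591 : Q := act 5 n63035
theorem D63591 : act 5 n63035 = n63591 := rfl
theorem F284221 : act 1 n63591 = n63037 := d12_1 D63591 (iv D63037) (iv F281664)
theorem F284222 : act 2 n63591 = n63160 := d19_1 D63591 F282134 (iv F281665)
theorem F284223 : act 3 n63591 = n63036 := d25_1 D63591 (iv D63036) D63035
theorem F284224 : act 6 n63591 = n63159 := d35_2 (iv F281666) D63591 F282131 F278874 D62473
theorem F284225 : act 7 n63591 = n63175 := d36_2 (iv F281667) D63591 F282197
theorem F284226 : act 8 n63158 = n63591 := d42_0 F284225 F282198 (iv F282128)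
def n63592 : Q := act 8 n63035
theorem D63592 : act 8 n63035 = n63592 := rfl
theorem F284227 : act 1 n63592 = n63038 := d15_1 D63592 (iv D63038) (iv F281664)
theorem F284228 : act 2 n63592 = n63175 := d22_1 D63592 F282198 (iv F281665)
theorem F284229 : act 3 n63592 = n63159 := d28_1 D63592 (iv D63159) F278815 (iv F278215) D63035
theorem F284230 : act 5 n63592 = n63158 := d37_1 D63592 F284226 (iv D63591)
theorem F284231 : act 6 n63592 = n63036 := d40_1 D63592 F281671 (iv F281666)
theorem F284232 : act 7 n63592 = n63160 := d42_1 D63592 F282136 (iv F281667)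
def n63593 : Q := act 3 n63039
theorem D63593 : act 3 n63039 = n63593 := rfl
theorem F284233 : act 0 n63593 = n63040 := d2_1 D63593 (iv D63040) (iv F281684)
theorem F284234 : act 7 n63593 = n63260 := d27_2 (iv F281686) D63593 (iv D63260)
theorem F284235 : act 8 n63593 = n63262 := d28_2 (iv F281687) D63593 (iv D63262) F279287 (iv F279294)
def n63594 : Q := act 5 n63039
theorem D63594 : act 5 n63039 = n63594 := rfl
theorem F284236 : act 0 n63594 = n63041 := d4_1 D63594 (iv D63041) (iv F281684)
theorem F284237 : act 2 n63594 = n63055 := d19_1 D63594 (iv D63055) (iv F281685)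
theorem F284238 : act 4 n63594 = n63043 := d30_1 D63594 (iv D63043) (iv D62306) (iv F278245) D63039
theorem F284239 : act 7 n63594 = n63256 := d36_2 (iv F281686) D63594 F282411
theorem F284240 : act 8 n63594 = n63181 := d37_2 (iv F281687) D63594 F282219
def n63595 : Q := act 2 n63040
theorem D63595 : act 2 n63040 = n63595 := rfl
theorem F284241 : act 1 n63595 = n63595 := d9_1 D63595 (iv D63595) F281688 F278252 (iv F281688)
theorem F284242 : act 3 n63595 = n63056 := d17_2 D63040 D63595 (iv D63056) (iv D62321) (iv F278249)
theorem F284243 : act 7 n63595 = n63261 := d21_2 (iv F281689) D63595 (iv D63261)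
theorem F284244 : act 8 n63595 = n63263 := d22_2 (iv F281690) D63595 (iv D63263)
def n63596 : Q := act 5 n63042
theorem D63596 : act 5 n63042 = n63596 := rfl
theorem F284245 : act 0 n63596 = n63044 := d4_1 D63596 (iv D63044) (iv F281696)
theorem F284246 : act 2 n63596 = n63121 := d19_1 D63596 F282809 F282805
theorem F284247 : act 3 n63596 = n63043 := d25_1 D63596 (iv D63043) D63042
theorem F284248 : act 6 n63596 = n63124 := d35_2 (iv F281697) D63596 F282019 (iv F280578) F280577
theorem F284249 : act 7 n63596 = n63212 := d36_2 F282801 D63596 (iv F282800)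
theorem F284250 : act 8 n63120 = n63596 := d46_0 (iv D63596) (iv F283161) (iv D63380) F280224 F276295 F274881 (iv F274748) (iv F278777) F278776 (iv F277792) (iv F281328) F281327 (iv F279621) F279627 (iv D62184) (iv D61168) F268030 (iv D59042) (iv F263562) F263561 (iv F262109) F262106 F259332 (iv D56651) (iv F251885) F251884 F245320 (iv D54396) F235473 F226409 F216742 F190746 F132797 F92700 F204685 F132861 (iv F204747) F66510 (iv F204813) (iv F66445) (iv F94779) D32192 F204899 (iv F132910) (iv F187563) (iv F215148) (iv F224765) F224764 D50163 (iv F233977) (iv F242111) D55543 D56824 (iv F259618) (iv D57898) (iv F259566) F259563 D59078 D60322 D61491 (iv F278648) (iv F282004)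
def n63597 : Q := act 8 n63042
theorem D63597 : act 8 n63042 = n63597 := rfl
theorem F284251 : act 0 n63597 = n63045 := d7_1 D63597 (iv D63045) (iv F281696)
theorem F284252 : act 2 n63597 = n63060 := d22_1 D63597 (iv F282808) F282805
theorem F284253 : act 3 n63597 = n63124 := d28_1 D63597 (iv D63124) (iv F280575) F280580 D63042
theorem F284254 : act 5 n63597 = n63120 := d37_1 D63597 F284250 (iv D63596)
theorem F284255 : act 6 n63597 = n63043 := d40_1 D63597 F281700 (iv F281697)
theorem F284256 : act 7 n63597 = n63156 := d42_1 D63597 (iv F282802) F282801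
def n63598 : Q := act 4 n63044
theorem D63598 : act 4 n63044 = n63598 := rfl
theorem F284257 : act 1 n63598 = n63046 := d11_1 D63598 (iv D63046) (iv F281701)
theorem F284258 : act 2 n63598 = n63114 := d18_1 D63598 F281982 (iv F281702)
theorem F284259 : act 6 n63598 = n63085 := d31_2 (iv F281704) D63598 F281865
theorem F284260 : act 7 n63598 = n63079 := d32_2 (iv F281705) D63598 F281836
theorem F284261 : act 8 n63598 = n63075 := d33_2 F281706 D63598 F281819
def n63599 : Q := act 3 n63048
theorem D63599 : act 3 n63048 = n63599 := rfl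
theorem F284262 : act 0 n63599 = n63049 := d2_1 D63599 (iv D63049) (iv F281723)
theorem F284263 : act 4 n63599 = n63061 := d24_2 D63048 D63599 (iv D63061) (iv D62328) (iv F278301)
theorem F284264 : act 6 n63599 = n63054 := d26_2 (iv F281724) D63599 (iv D63054)
theorem F284265 : act 9 n63599 = n63199 := d29_2 (iv F281725) D63599 (iv D63199)
def n63600 : Q := act 5 n63048
theorem D63600 : act 5 n63048 = n63600 := rfl
theorem F284266 : act 0 n63600 = n63050 := d4_1 D63600 (iv D63050) (iv F281723)
theorem F284267 : act 4 n63600 = n63187 := d30_1 D63600 (iv D63187) (iv D62498) (iv F278302) D63048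
theorem F284268 : act 9 n63600 = n63200 := d38_2 (iv F281725) D63600 (iv D63200)
def n63601 : Q := act 2 n63049
theorem D63601 : act 2 n63049 = n63601 := rfl
theorem F284269 : act 1 n63601 = n63601 := d9_1 D63601 (iv D63601) F281726 F278308 (iv F281726)
theorem F284270 : act 4 n63601 = n63062 := d18_2 (iv F281727) D63601 (iv D63062)
theorem F284271 : act 6 n63601 = n63056 := d20_2 (iv F281728) D63601 (iv D63056)
theorem F284272 : act 9 n63601 = n63201 := d23_2 (iv F281729) D63601 (iv D63201)
def n63602 : Q := act 5 n63049
theorem D63602 : act 5 n63049 = n63602 := rfl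
theorem F284273 : act 1 n63602 = n63051 := d12_1 D63602 (iv D63051) (iv F281726)
theorem F284274 : act 3 n63602 = n63050 := d25_1 D63602 (iv D63050) D63049
theorem F284275 : act 4 n63602 = n63068 := d30_1 D63602 F281789 (iv F280012) F280013 (iv F281727)
theorem F284276 : act 9 n63602 = n63058 := d38_2 (iv F281729) D63602 F281758
def n63603 : Q := act 8 n63049
theorem D63603 : act 8 n63049 = n63603 := rfl
theorem F284277 : act 1 n63603 = n63052 := d15_1 D63603 (iv D63052) (iv F281726)
theorem F284278 : act 3 n63603 = n63157 := d28_1 D63603 (iv F282794) F282791 F280072 D63049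
theorem F284279 : act 4 n63603 = n63063 := d33_1 D63603 (iv D63063) (iv F281727)
theorem F284280 : act 6 n63603 = n63058 := d40_1 D63603 (iv D63058) (iv F281728)
def n63604 : Q := act 6 n63050
theorem D63604 : act 6 n63050 = n63604 := rfl
theorem F284281 : act 1 n63604 = n63053 := d13_1 D63604 (iv D63053) (iv F281730)
theorem F284282 : act 4 n63604 = n63113 := d31_1 D63604 F281979 (iv F281731)
theorem F284283 : act 5 n63604 = n63059 := d35_1 D63604 (iv D63059) (iv D62322) (iv F278306) D63050
theorem F284284 : act 9 n63604 = n63157 := d41_2 (iv F281732) D63604 F282124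
def n63605 : Q := act 2 n63054
theorem D63605 : act 2 n63054 = n63605 := rfl
theorem F284285 : act 0 n63605 = n63056 := d1_1 D63605 (iv D63056) (iv F281745)
theorem F284286 : act 4 n63605 = n63065 := d18_2 (iv F281746) D63605 (iv D63065)
def n63606 : Q := act 5 n63054
theorem D63606 : act 5 n63054 = n63606 := rfl
theorem F284287 : act 0 n63606 = n63057 := d4_1 D63606 (iv D63057) (iv F281745)
theorem F284288 : act 3 n63606 = n63055 := d25_1 D63606 (iv D63055) D63054
theorem F284289 : act 4 n63606 = n63203 := d30_1 D63606 F283828 F283824 F281385 (iv F281746)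
theorem F284290 : act 8 n63199 = n63606 := d33_0 F284289 (iv D63203) (iv F282270)
def n63607 : Q := act 8 n63054
theorem D63607 : act 8 n63054 = n63607 := rfl
theorem F284291 : act 0 n63607 = n63058 := d7_1 D63607 (iv D63058) (iv F281745)
theorem F284292 : act 3 n63607 = n63200 := d28_1 D63607 (iv F282787) F282784 F281721 D63054
theorem F284293 : act 4 n63607 = n63066 := d33_1 D63607 (iv D63066) (iv F281746)
theorem F284294 : act 5 n63607 = n63199 := d37_1 D63607 F284290 (iv D63606)
def n63608 : Q := act 6 n63055
theorem D63608 : act 6 n63055 = n63608 := rfl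
theorem F284295 : act 0 n63608 = n63059 := d5_1 D63608 (iv D63059) (iv F281747)
theorem F284296 : act 4 n63608 = n63060 := d31_1 D63608 (iv D63060) (iv F281748)
def n63609 : Q := act 5 n63056
theorem D63609 : act 5 n63056 = n63609 := rfl
theorem F284297 : act 1 n63609 = n63609 := d12_1 D63609 (iv D63609) F281749
theorem F284298 : act 2 n63609 = n63057 := d19_1 D63609 (iv D63057) D63056
theorem F284299 : act 4 n63609 = n63204 := d30_1 D63609 (iv F283840) F283839 F281388 (iv F281750)
theorem F284300 : act 8 n63201 = n63609 := d33_0 F284299 (iv D63204) (iv F282274)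
def n63610 : Q := act 8 n63056
theorem D63610 : act 8 n63056 = n63610 := rfl
theorem F284301 : act 1 n63610 = n63610 := d15_1 D63610 (iv D63610) F281749
theorem F284302 : act 2 n63610 = n63058 := d22_1 D63610 (iv D63058) D63056
theorem F284303 : act 4 n63610 = n63067 := d33_1 D63610 (iv D63067) (iv F281750)
theorem F284304 : act 5 n63610 = n63201 := d37_1 D63610 F284300 (iv D63609)
def n63611 : Q := act 2 n63061
theorem D63611 : act 2 n63061 = n63611 := rfl
theorem F284305 : act 0 n63611 = n63062 := d1_1 D63611 (iv D63062) (iv F281764)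
theorem F284306 : act 3 n63611 = n63251 := d17_2 D63061 D63611 (iv D63251) (iv D62596) (iv F278339)
theorem F284307 : act 6 n63611 = n63065 := d20_2 (iv F281765) D63611 (iv D63065)
theorem F284308 : act 9 n63611 = n63202 := d23_2 (iv F281766) D63611 (iv D63202)
def n63612 : Q := act 8 n63061
theorem D63612 : act 8 n63061 = n63612 := rfl
theorem F284309 : act 0 n63612 = n63063 := d7_1 D63612 (iv D63063) (iv F281764)
theorem F284310 : act 3 n63612 = n63086 := d28_1 D63612 (iv D63086) (iv D62357) (iv F278341) D63061
theorem F284311 : act 5 n63612 = n63194 := d37_1 D63612 (iv F282973) F282970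
theorem F284312 : act 6 n63612 = n63066 := d40_1 D63612 (iv D63066) (iv F281765)
def n63613 : Q := act 8 n63062
theorem D63613 : act 8 n63062 = n63613 := rfl
theorem F284313 : act 1 n63613 = n63613 := d15_1 D63613 (iv D63613) F281767
theorem F284314 : act 2 n63613 = n63063 := d22_1 D63613 (iv D63063) D63062
theorem F284315 : act 3 n63613 = n63148 := d28_1 D63613 (iv D63148) (iv F282028) F282030 (iv F281768)
theorem F284316 : act 5 n63613 = n63195 := d37_1 D63613 (iv F282981) F282978
theorem F284317 : act 6 n63613 = n63067 := d40_1 D63613 (iv D63067) (iv F281769)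
def n63614 : Q := act 9 n63063
theorem D63614 : act 9 n63063 = n63614 := rfl
theorem F284318 : act 1 n63614 = n63064 := d16_1 D63614 (iv D63064) (iv F281771)
theorem F284319 : act 3 n63614 = n63087 := d29_1 D63614 (iv D63087) (iv F281772)
theorem F284320 : act 5 n63614 = n63094 := d38_1 D63614 F281910 (iv F281773)
theorem F284321 : act 6 n63614 = n63068 := d41_1 D63614 (iv D63068) (iv F281774)
theorem F284322 : act 8 n63614 = n63205 := d44_1 D63614 (iv D63205) (iv D62521) (iv F278345) D63063
def n63615 : Q := act 1 n63065
theorem D63615 : act 1 n63065 = n63615 := rfl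
theorem F284323 : act 0 n63615 = n63615 := d0_1 D63615 (iv D63615) F281780 F278351 (iv F281780)
def n63616 : Q := act 8 n63065
theorem D63616 : act 8 n63065 = n63616 := rfl
theorem F284324 : act 0 n63616 = n63067 := d7_1 D63616 (iv D63067) (iv F281780)
theorem F284325 : act 2 n63616 = n63066 := d22_1 D63616 (iv D63066) D63065
theorem F284326 : act 5 n63616 = n63219 := d37_1 D63616 (iv F284003) F284002
def n63617 : Q := act 9 n63066
theorem D63617 : act 9 n63066 = n63617 := rfl
theorem F284327 : act 0 n63617 = n63068 := d8_1 D63617 (iv D63068) (iv F281781)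
theorem F284328 : act 3 n63617 = n63089 := d29_1 D63617 (iv D63089) (iv F281782)
theorem F284329 : act 5 n63617 = n63217 := d38_1 D63617 F282313 (iv F281783)
def n63618 : Q := act 3 n63067
theorem D63618 : act 3 n63067 = n63618 := rfl
theorem F284330 : act 1 n63618 = n63618 := d10_1 D63618 (iv D63618) F281784
theorem F284331 : act 2 n63618 = n63090 := d17_1 D63618 (iv D63090) F278488 (iv F278353) (iv F281785)
theorem F284332 : act 5 n63618 = n63214 := d25_2 (iv F281786) D63618 F282304
theorem F284333 : act 6 n63618 = n63148 := d26_2 F284317 D63618 (iv F284315)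
theorem F284334 : act 8 n63618 = n63138 := d28_2 D63067 D63618 F283243 (iv D63397) F280290
def n63619 : Q := act 9 n63067
theorem D63619 : act 9 n63067 = n63619 := rfl
theorem F284335 : act 1 n63619 = n63619 := d16_1 D63619 (iv D63619) F281784
theorem F284336 : act 2 n63619 = n63068 := d23_1 D63619 (iv D63068) (iv F281785)
theorem F284337 : act 5 n63619 = n63218 := d38_1 D63619 F282315 (iv F281786)
def n63620 : Q := act 3 n63069
theorem D63620 : act 3 n63069 = n63620 := rfl
theorem F284338 : act 0 n63620 = n63070 := d2_1 D63620 (iv D63070) (iv F281790)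
theorem F284339 : act 4 n63620 = n63194 := d24_2 D63069 D63620 (iv D63194) (iv D62509) (iv F278358)
theorem F284340 : act 6 n63620 = n63071 := d26_2 (iv F281791) D63620 (iv D63071)
theorem F284341 : act 8 n63620 = n63217 := d28_2 (iv F281792) D63620 (iv D63217) (iv F281420) F281415
theorem F284342 : act 9 n63620 = n63098 := d29_2 (iv F281793) D63620 (iv D63098)
def n63621 : Q := act 2 n63070
theorem D63621 : act 2 n63070 = n63621 := rfl
theorem F284343 : act 1 n63621 = n63621 := d9_1 D63621 (iv D63621) F281794 F278367 (iv F281794)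
theorem F284344 : act 4 n63621 = n63195 := d18_2 (iv F281795) D63621 (iv D63195)
theorem F284345 : act 6 n63621 = n63072 := d20_2 (iv F281796) D63621 (iv D63072)
theorem F284346 : act 8 n63621 = n63218 := d22_2 (iv F281797) D63621 (iv D63218)
theorem F284347 : act 9 n63621 = n63099 := d23_2 (iv F281798) D63621 (iv D63099)
def n63622 : Q := act 2 n63071
theorem D63622 : act 2 n63071 = n63622 := rfl
theorem F284348 : act 0 n63622 = n63072 := d1_1 D63622 (iv D63072) (iv F281799)
theorem F284349 : act 7 n63622 = n63251 := d21_2 (iv F281800) D63622 (iv D63251)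
theorem F284350 : act 9 n63622 = n63100 := d23_2 (iv F281801) D63622 (iv D63100)
def n63623 : Q := act 8 n63071
theorem D63623 : act 8 n63071 = n63623 := rfl
theorem F284351 : act 0 n63623 = n63073 := d7_1 D63623 (iv D63073) (iv F281799)
theorem F284352 : act 1 n63623 = n63249 := d15_1 D63623 (iv F284095) F284091
theorem F284353 : act 3 n63623 = n63096 := d28_1 D63623 F281919 (iv F280451) F280455 D63071
theorem F284354 : act 4 n63623 = n63245 := d33_1 D63623 (iv F283330) F283326
theorem F284355 : act 5 n63623 = n63095 := d37_1 D63623 (iv F284009) F284007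
theorem F284356 : act 6 n63623 = n63217 := d40_1 D63623 (iv F284341) F284340
theorem F284357 : act 7 n63623 = n63126 := d42_1 D63623 F282026 (iv F281800)
theorem F284358 : act 9 n63623 = n63215 := d44_2 (iv F281801) D63623 (iv F282957) F282958 (iv D63101)
def n63624 : Q := act 8 n63072
theorem D63624 : act 8 n63072 = n63624 := rfl
theorem F284359 : act 1 n63624 = n63624 := d15_1 D63624 (iv D63624) F281802
theorem F284360 : act 2 n63624 = n63073 := d22_1 D63624 (iv D63073) D63072
theorem F284361 : act 4 n63624 = n63246 := d33_1 D63624 (iv F283338) F283334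
theorem F284362 : act 5 n63624 = n63097 := d37_1 D63624 (iv F284016) F284014
theorem F284363 : act 6 n63624 = n63218 := d40_1 D63624 (iv F284346) F284345
theorem F284364 : act 7 n63624 = n63127 := d42_1 D63624 F282030 (iv F281803)
theorem F284365 : act 9 n63624 = n63216 := d44_2 (iv F281804) D63624 (iv F282965) F282966 (iv D63102)
theorem F284366 : act 3 n63106 = n63624 := d29_3 F284365 (iv F283366) F283368
def n63625 : Q := act 3 n63074
theorem D63625 : act 3 n63074 = n63625 := rfl
theorem F284367 : act 0 n63625 = n63075 := d2_1 D63625 (iv D63075) (iv F281812)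
theorem F284368 : act 2 n63625 = n63111 := d17_1 D63625 (iv D63111) (iv F281414) F281415 (iv F281813)
theorem F284369 : act 4 n63625 = n63120 := d24_2 D63074 D63625 F282005 (iv D62591) (iv F278395)
theorem F284370 : act 6 n63625 = n63084 := d26_2 (iv F281814) D63625 (iv D63084)
theorem F284371 : act 7 n63625 = n63076 := d27_2 (iv F281815) D63625 (iv D63076)
theorem F284372 : act 9 n63625 = n63119 := d29_2 (iv F281816) D63625 (iv D63119)
def n63626 : Q := act 2 n63076
theorem D63626 : act 2 n63076 = n63626 := rfl
theorem F284373 : act 0 n63626 = n63078 := d1_1 D63626 (iv D63078) (iv F281823)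
theorem F284374 : act 3 n63626 = n63109 := d17_2 D63076 D63626 F281961 (iv F280373) F280372
theorem F284375 : act 4 n63626 = n63119 := d18_2 (iv F281824) D63626 F282001
theorem F284376 : act 6 n63626 = n63081 := d20_2 (iv F281825) D63626 (iv D63081)
theorem F284377 : act 7 n63626 = n63111 := d21_2 F284371 D63626 (iv F284368)
theorem F284378 : act 9 n63626 = n63120 := d23_2 (iv F281826) D63626 (iv D63120)
def n63627 : Q := act 8 n63076
theorem D63627 : act 8 n63076 = n63627 := rfl
theorem F284379 : act 0 n63627 = n63079 := d7_1 D63627 (iv D63079) (iv F281823)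
theorem F284380 : act 4 n63627 = n63212 := d33_1 D63627 F282301 (iv F281824)
theorem F284381 : act 6 n63627 = n63082 := d40_1 D63627 (iv D63082) (iv F281825)
def n63628 : Q := act 9 n63079
theorem D63628 : act 9 n63079 = n63628 := rfl
theorem F284382 : act 1 n63628 = n63080 := d16_1 D63628 (iv D63080) (iv F281835)
theorem F284383 : act 4 n63628 = n63211 := d34_1 D63628 F282299 (iv F281836)
theorem F284384 : act 6 n63628 = n63083 := d41_1 D63628 (iv D63083) (iv F281837)
theorem F284385 : act 8 n63628 = n63122 := d44_1 D63628 (iv D63122) (iv D62404) (iv F278415) D63079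
def n63629 : Q := act 9 n63082
theorem D63629 : act 9 n63082 = n63629 := rfl
theorem F284386 : act 0 n63629 = n63083 := d8_1 D63629 (iv D63083) (iv F281848)
theorem F284387 : act 4 n63629 = n63210 := d34_1 D63629 F282297 (iv F281849)
theorem F284388 : act 5 n63629 = n63206 := d38_1 D63629 F282284 (iv F281850)
theorem F284389 : act 7 n63629 = n63089 := d43_1 D63629 (iv D63089) (iv F281851)
theorem F284390 : act 8 n63629 = n63125 := d44_1 D63629 (iv D63125) (iv D62407) (iv F278425) D63082
def n63630 : Q := act 8 n63084
theorem D63630 : act 8 n63084 = n63630 := rfl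
theorem F284391 : act 0 n63630 = n63085 := d7_1 D63630 (iv D63085) (iv F281857)
theorem F284392 : act 2 n63630 = n63117 := d22_1 D63630 (iv D63117) (iv F281858)
theorem F284393 : act 4 n63630 = n63124 := d33_1 D63630 (iv D63124) (iv F281859)
theorem F284394 : act 5 n63630 = n63188 := d37_1 D63630 F282243 (iv F281860)
theorem F284395 : act 7 n63630 = n63086 := d42_1 D63630 (iv D63086) (iv F281861)
def n63631 : Q := act 9 n63086
theorem D63631 : act 9 n63086 = n63631 := rfl
theorem F284396 : act 0 n63631 = n63087 := d8_1 D63631 (iv D63087) (iv F281868)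
theorem F284397 : act 2 n63631 = n63153 := d23_1 D63631 (iv D63153) (iv F281869)
theorem F284398 : act 4 n63631 = n63112 := d34_1 D63631 F281976 (iv F281870)
theorem F284399 : act 5 n63631 = n63093 := d38_1 D63631 F281906 (iv F281871)
theorem F284400 : act 6 n63631 = n63089 := d41_1 D63631 (iv D63089) (iv F281872)
theorem F284401 : act 8 n63631 = n63154 := d44_1 D63631 (iv D63154) (iv D62444) (iv F278467) D63086
def n63632 : Q := act 3 n63088
theorem D63632 : act 3 n63088 = n63632 := rfl
theorem F284402 : act 0 n63632 = n63090 := d2_1 D63632 (iv D63090) (iv F281879)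
theorem F284403 : act 5 n63632 = n63213 := d25_2 (iv F281882) D63632 (iv D63213)
theorem F284404 : act 6 n63632 = n63146 := d26_2 (iv F281883) D63632 F282081
theorem F284405 : act 8 n63632 = n63136 := d28_2 D63088 D63632 (iv D63136) F278712 (iv F278479)
def n63633 : Q := act 9 n63088
theorem D63633 : act 9 n63088 = n63633 := rfl
theorem F284406 : act 0 n63633 = n63091 := d8_1 D63633 (iv D63091) (iv F281879)
theorem F284407 : act 2 n63633 = n63089 := d23_1 D63633 (iv D63089) (iv F281880)
theorem F284408 : act 4 n63633 = n63154 := d34_1 D63633 (iv D63154) (iv F281881)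
theorem F284409 : act 5 n63633 = n63103 := d38_1 D63633 F281944 (iv F281882)
theorem F284410 : act 6 n63633 = n63153 := d41_1 D63633 (iv D63153) (iv F281883)
theorem F284411 : act 8 n63633 = n63112 := d44_1 D63633 F281976 (iv D62447) (iv F278483) D63088
def n63634 : Q := act 9 n63090
theorem D63634 : act 9 n63090 = n63634 := rfl
theorem F284412 : act 1 n63634 = n63092 := d16_1 D63634 (iv D63092) (iv F281888)
theorem F284413 : act 3 n63634 = n63091 := d29_1 D63634 (iv D63091) D63090
theorem F284414 : act 5 n63634 = n63104 := d38_1 D63634 F281947 (iv F281889)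
theorem F284415 : act 6 n63634 = n63150 := d41_1 D63634 (iv D63150) (iv F281890)
def n63635 : Q := act 3 n63093
theorem D63635 : act 3 n63093 = n63635 := rfl
theorem F284416 : act 0 n63635 = n63094 := d2_1 D63635 (iv D63094) (iv F281902)
theorem F284417 : act 4 n63635 = n63098 := d24_2 D63093 D63635 (iv D63098) (iv D62375) (iv F278515)
theorem F284418 : act 6 n63635 = n63095 := d26_2 (iv F281904) D63635 (iv D63095)
theorem F284419 : act 9 n63635 = n63194 := d29_2 (iv F281906) D63635 (iv D63194)
def n63636 : Q := act 2 n63094
theorem D63636 : act 2 n63094 = n63636 := rfl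
theorem F284420 : act 1 n63636 = n63636 := d9_1 D63636 (iv D63636) F281907 F278525 (iv F281907)
theorem F284421 : act 3 n63636 = n63197 := d17_2 D63094 D63636 (iv D63197) (iv D62512) (iv F278521)
theorem F284422 : act 4 n63636 = n63099 := d18_2 (iv F281908) D63636 (iv D63099)
theorem F284423 : act 6 n63636 = n63097 := d20_2 (iv F281909) D63636 (iv D63097)
theorem F284424 : act 9 n63636 = n63195 := d23_2 (iv F281910) D63636 (iv D63195)
def n63637 : Q := act 2 n63095
theorem D63637 : act 2 n63095 = n63637 := rfl
theorem F284425 : act 0 n63637 = n63097 := d1_1 D63637 (iv D63097) (iv F281911)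
theorem F284426 : act 4 n63637 = n63100 := d18_2 (iv F281912) D63637 (iv D63100)
theorem F284427 : act 7 n63637 = n63265 := d21_2 (iv F281913) D63637 (iv D63265)
def n63638 : Q := act 2 n63098
theorem D63638 : act 2 n63098 = n63638 := rfl
theorem F284428 : act 0 n63638 = n63099 := d1_1 D63638 (iv D63099) (iv F281925)
theorem F284429 : act 6 n63638 = n63100 := d20_2 (iv F281926) D63638 (iv D63100)
def n63639 : Q := act 1 n63100
theorem D63639 : act 1 n63100 = n63639 := rfl
theorem F284430 : act 0 n63639 = n63639 := d0_1 D63639 (iv D63639) F281929 F278555 (iv F281929)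
theorem F284431 : act 7 n63639 = n63267 := d14_2 (iv F281930) D63639 (iv D63267)
def n63640 : Q := act 8 n63100
theorem D63640 : act 8 n63100 = n63640 := rfl
theorem F284432 : act 0 n63640 = n63102 := d7_1 D63640 (iv D63102) (iv F281929)
theorem F284433 : act 2 n63640 = n63101 := d22_1 D63640 (iv D63101) D63100
theorem F284434 : act 5 n63640 = n63248 := d37_1 D63640 (iv F284022) F284020
theorem F284435 : act 7 n63640 = n63268 := d42_1 D63640 (iv D63268) (iv F281930)
def n63641 : Q := act 3 n63103
theorem D63641 : act 3 n63103 = n63641 := rfl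
theorem F284436 : act 0 n63641 = n63104 := d2_1 D63641 (iv D63104) (iv F281940)
theorem F284437 : act 6 n63641 = n63105 := d26_2 (iv F281942) D63641 (iv D63105)
theorem F284438 : act 9 n63641 = n63213 := d29_2 (iv F281944) D63641 (iv D63213)
def n63642 : Q := act 2 n63104
theorem D63642 : act 2 n63104 = n63642 := rfl
theorem F284439 : act 1 n63642 = n63642 := d9_1 D63642 (iv D63642) F281945 F278574 (iv F281945)
theorem F284440 : act 3 n63642 = n63218 := d17_2 D63104 D63642 (iv D63218) (iv D62542) (iv F278570)
theorem F284441 : act 4 n63642 = n63269 := d18_2 F283526 D63642 (iv F283520)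
theorem F284442 : act 6 n63642 = n63106 := d20_2 (iv F281946) D63642 (iv D63106)
theorem F284443 : act 9 n63642 = n63214 := d23_2 (iv F281947) D63642 (iv D63214)
def n63643 : Q := act 2 n63105
theorem D63643 : act 2 n63105 = n63643 := rfl
theorem F284444 : act 0 n63643 = n63106 := d1_1 D63643 (iv D63106) (iv F281948)
theorem F284445 : act 7 n63643 = n63144 := d21_2 (iv F281949) D63643 (iv D63144)
def n63644 : Q := act 8 n63105
theorem D63644 : act 8 n63105 = n63644 := rfl
theorem F284446 : act 0 n63644 = n63107 := d7_1 D63644 (iv D63107) (iv F281948)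
theorem F284447 : act 3 n63644 = n63117 := d28_1 D63644 (iv D63117) (iv D62396) (iv F278586) D63105
theorem F284448 : act 5 n63644 = n63192 := d37_1 D63644 (iv F283346) F283343
theorem F284449 : act 7 n63644 = n63146 := d42_1 D63644 (iv D63146) (iv F281949)
def n63645 : Q := act 8 n63106
theorem D63645 : act 8 n63106 = n63645 := rfl
theorem F284450 : act 1 n63645 = n63645 := d15_1 D63645 (iv D63645) F281950
theorem F284451 : act 2 n63645 = n63107 := d22_1 D63645 (iv D63107) D63106
theorem F284452 : act 5 n63645 = n63193 := d37_1 D63645 (iv F283354) F283351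
theorem F284453 : act 7 n63645 = n63148 := d42_1 D63645 (iv D63148) (iv F281951)
def n63646 : Q := act 9 n63107
theorem D63646 : act 9 n63107 = n63646 := rfl
theorem F284454 : act 1 n63646 = n63108 := d16_1 D63646 (iv D63108) (iv F281952)
theorem F284455 : act 3 n63646 = n63118 := d29_1 D63646 (iv D63118) (iv F281953)
theorem F284456 : act 5 n63646 = n63191 := d38_1 D63646 F282254 (iv F281954)
theorem F284457 : act 7 n63646 = n63150 := d43_1 D63646 (iv D63150) (iv F281955)
def n63647 : Q := act 5 n63109
theorem D63647 : act 5 n63109 = n63647 := rfl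
theorem F284458 : act 0 n63647 = n63110 := d4_1 D63647 (iv D63110) (iv F281960)
theorem F284459 : act 2 n63647 = n63125 := d19_1 D63647 F282022 (iv F281961)
theorem F284460 : act 7 n63647 = n63112 := d36_2 (iv F281963) D63647 (iv D63112)
theorem F284461 : act 9 n63647 = n63124 := d38_2 (iv F281964) D63647 F282019
def n63648 : Q := act 5 n63111
theorem D63648 : act 5 n63111 = n63648 := rfl
theorem F284462 : act 0 n63648 = n63113 := d4_1 D63648 (iv D63113) (iv F281969)
theorem F284463 : act 3 n63648 = n63112 := d25_1 D63648 (iv D63112) D63111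
theorem F284464 : act 6 n63648 = n63187 := d35_2 (iv F281971) D63648 (iv D63187) F278997 (iv F278625)
theorem F284465 : act 9 n63648 = n63156 := d38_2 (iv F281972) D63648 F282121
def n63649 : Q := act 8 n63111
theorem D63649 : act 8 n63111 = n63649 := rfl
theorem F284466 : act 0 n63649 = n63114 := d7_1 D63649 (iv D63114) (iv F281969)
theorem F284467 : act 4 n63649 = n63121 := d33_1 D63649 (iv D63121) (iv F281970)
theorem F284468 : act 6 n63649 = n63117 := d40_1 D63649 (iv D63117) (iv F281971)
def n63650 : Q := act 8 n63113
theorem D63650 : act 8 n63113 = n63650 := rfl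
theorem F284469 : act 1 n63650 = n63115 := d15_1 D63650 (iv D63115) (iv F281977)
theorem F284470 : act 5 n63650 = n63114 := d37_1 D63650 (iv D63114) D63113
theorem F284471 : act 6 n63650 = n63186 := d40_1 D63650 F282236 (iv F281979)
def n63651 : Q := act 9 n63114
theorem D63651 : act 9 n63114 = n63651 := rfl
theorem F284472 : act 1 n63651 = n63116 := d16_1 D63651 (iv D63116) (iv F281981)
theorem F284473 : act 4 n63651 = n63122 := d34_1 D63651 (iv D63122) (iv F281982)
theorem F284474 : act 6 n63651 = n63118 := d41_1 D63651 (iv D63118) (iv F281983)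
theorem F284475 : act 8 n63651 = n63211 := d44_1 D63651 F282299 F279095 (iv F278611) D63114
def n63652 : Q := act 9 n63117
theorem D63652 : act 9 n63117 = n63652 := rfl
theorem F284476 : act 0 n63652 = n63118 := d8_1 D63652 (iv D63118) (iv F281991)
theorem F284477 : act 4 n63652 = n63125 := d34_1 D63652 (iv D63125) (iv F281992)
theorem F284478 : act 5 n63652 = n63190 := d38_1 D63652 F282250 (iv F281993)
theorem F284479 : act 7 n63652 = n63153 := d43_1 D63652 (iv D63153) (iv F281994)
theorem F284480 : act 8 n63652 = n63210 := d44_1 D63652 F282297 F279093 (iv F278627) D63117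
def n63653 : Q := act 1 n63120
theorem D63653 : act 1 n63120 = n63653 := rfl
theorem F284481 : act 0 n63653 = n63158 := d0_1 D63653 (iv D63158) F278810 (iv F278648) (iv F282004)
theorem F284482 : act 2 n63653 = n63177 := d9_2 D63120 D63653 (iv F282797) F282798 F281590
theorem F284483 : act 3 n63653 = n63165 := d10_2 (iv F282005) D63653 F282155
theorem F284484 : act 6 n63653 = n63123 := d13_2 (iv F282006) D63653 (iv D63123)
theorem F284485 : act 7 n63653 = n63176 := d14_2 (iv F282007) D63653 F282200
def n63654 : Q := act 9 n63121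
theorem D63654 : act 9 n63121 = n63654 := rfl
theorem F284486 : act 0 n63654 = n63122 := d8_1 D63654 (iv D63122) (iv F282008)
theorem F284487 : act 6 n63654 = n63125 := d41_1 D63654 (iv D63125) (iv F282009)
def n63655 : Q := act 8 n63123
theorem D63655 : act 8 n63123 = n63655 := rfl
theorem F284488 : act 0 n63655 = n63159 := d7_1 D63655 (iv D63159) (iv F282012)
theorem F284489 : act 1 n63655 = n63124 := d15_1 D63655 (iv D63124) D63123
theorem F284490 : act 2 n63655 = n63166 := d22_1 D63655 F282164 (iv F282013)
theorem F284491 : act 5 n63655 = n63165 := d37_1 D63655 F282159 (iv F282015)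
theorem F284492 : act 7 n63655 = n63155 := d42_1 D63655 (iv D63155) (iv F282016)
def n63656 : Q := act 2 n63126
theorem D63656 : act 2 n63126 = n63656 := rfl
theorem F284493 : act 0 n63656 = n63127 := d1_1 D63656 (iv D63127) (iv F282024)
theorem F284494 : act 3 n63656 = n63144 := d17_2 D63126 D63656 (iv D63144) (iv D62428) (iv F278675)
theorem F284495 : act 5 n63656 = n63265 := d19_2 (iv F282025) D63656 (iv D63265)
theorem F284496 : act 8 n63656 = n63251 := d22_2 (iv F282026) D63656 (iv D63251)
def n63657 : Q := act 3 n63128
theorem D63657 : act 3 n63128 = n63657 := rfl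
theorem F284497 : act 0 n63657 = n63129 := d2_1 D63657 (iv D63129) (iv F282031)
theorem F284498 : act 1 n63657 = n63199 := d10_1 D63657 (iv D63199) (iv F282032)
theorem F284499 : act 4 n63657 = n63167 := d24_2 D63128 D63657 (iv D63167) (iv D62469) (iv F278682)
theorem F284500 : act 7 n63657 = n63136 := d27_2 (iv F282033) D63657 (iv D63136)
def n63658 : Q := act 5 n63128
theorem D63658 : act 5 n63128 = n63658 := rfl
theorem F284501 : act 0 n63658 = n63130 := d4_1 D63658 (iv D63130) (iv F282031)
theorem F284502 : act 1 n63658 = n63200 := d12_1 D63658 (iv D63200) (iv F282032)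
theorem F284503 : act 4 n63658 = n63166 := d30_1 D63658 (iv D63166) (iv D62467) (iv F278683) D63128
theorem F284504 : act 7 n63658 = n63137 := d36_2 (iv F282033) D63658 (iv D63137)
theorem F284505 : act 8 n63658 = n63152 := d37_2 (iv F282034) D63658 (iv D63152)
def n63659 : Q := act 2 n63129
theorem D63659 : act 2 n63129 = n63659 := rfl
theorem F284506 : act 1 n63659 = n63659 := d9_1 D63659 (iv D63659) F282035 F278690 (iv F282035)
theorem F284507 : act 4 n63659 = n63168 := d18_2 (iv F282036) D63659 (iv D63168)
theorem F284508 : act 7 n63659 = n63138 := d21_2 (iv F282037) D63659 (iv D63138)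
def n63660 : Q := act 3 n63131
theorem D63660 : act 3 n63131 = n63660 := rfl
theorem F284509 : act 0 n63660 = n63132 := d2_1 D63660 (iv D63132) (iv F282042)
theorem F284510 : act 6 n63660 = n63140 := d26_2 (iv F282043) D63660 (iv D63140)
theorem F284511 : act 9 n63660 = n63136 := d29_2 (iv F282044) D63660 (iv D63136)
def n63661 : Q := act 5 n63131
theorem D63661 : act 5 n63131 = n63661 := rfl
theorem F284512 : act 0 n63661 = n63133 := d4_1 D63661 (iv D63133) (iv F282042)
theorem F284513 : act 4 n63661 = n63270 := d30_1 D63661 F282440 (iv D62626) (iv F278698) D63131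
theorem F284514 : act 9 n63661 = n63137 := d38_2 (iv F282044) D63661 (iv D63137)
def n63662 : Q := act 2 n63132
theorem D63662 : act 2 n63132 = n63662 := rfl
theorem F284515 : act 1 n63662 = n63662 := d9_1 D63662 (iv D63662) F282045 F278704 (iv F282045)
theorem F284516 : act 6 n63662 = n63141 := d20_2 (iv F282046) D63662 (iv D63141)
theorem F284517 : act 9 n63662 = n63138 := d23_2 (iv F282047) D63662 (iv D63138)
def n63663 : Q := act 5 n63132
theorem D63663 : act 5 n63132 = n63663 := rfl
theorem F284518 : act 1 n63663 = n63134 := d12_1 D63663 (iv D63134) (iv F282045)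
theorem F284519 : act 3 n63663 = n63133 := d25_1 D63663 (iv D63133) D63132
theorem F284520 : act 9 n63663 = n63139 := d38_2 (iv F282047) D63663 (iv D63139)
def n63664 : Q := act 8 n63132
theorem D63664 : act 8 n63132 = n63664 := rfl
theorem F284521 : act 1 n63664 = n63135 := d15_1 D63664 (iv D63135) (iv F282045)
theorem F284522 : act 6 n63664 = n63142 := d40_1 D63664 (iv D63142) (iv F282046)
def n63665 : Q := act 2 n63136
theorem D63665 : act 2 n63136 = n63665 := rfl
theorem F284523 : act 0 n63665 = n63138 := d1_1 D63665 (iv D63138) (iv F282056)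
theorem F284524 : act 6 n63665 = n63144 := d20_2 (iv F282057) D63665 (iv D63144)
def n63666 : Q := act 5 n63136
theorem D63666 : act 5 n63136 = n63666 := rfl
theorem F284525 : act 0 n63666 = n63139 := d4_1 D63666 (iv D63139) (iv F282056)
theorem F284526 : act 3 n63666 = n63137 := d25_1 D63666 (iv D63137) D63136
theorem F284527 : act 8 n63666 = n63213 := d37_2 F284405 D63666 (iv F284403)
def n63667 : Q := act 5 n63138
theorem D63667 : act 5 n63138 = n63667 := rfl
theorem F284528 : act 1 n63667 = n63667 := d12_1 D63667 (iv D63667) F282061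
theorem F284529 : act 2 n63667 = n63139 := d19_1 D63667 (iv D63139) D63138
theorem F284530 : act 8 n63667 = n63214 := d37_2 F284334 D63667 (iv F284332)
def n63668 : Q := act 2 n63140
theorem D63668 : act 2 n63140 = n63668 := rfl
theorem F284531 : act 0 n63668 = n63141 := d1_1 D63668 (iv D63141) (iv F282066)
theorem F284532 : act 9 n63668 = n63144 := d23_2 (iv F282067) D63668 (iv D63144)
def n63669 : Q := act 8 n63140
theorem D63669 : act 8 n63140 = n63669 := rfl
theorem F284533 : act 0 n63669 = n63142 := d7_1 D63669 (iv D63142) (iv F282066)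
def n63670 : Q := act 8 n63141
theorem D63670 : act 8 n63141 = n63670 := rfl
theorem F284534 : act 1 n63670 = n63670 := d15_1 D63670 (iv D63670) F282068
theorem F284535 : act 2 n63670 = n63142 := d22_1 D63670 (iv D63142) D63141
def n63671 : Q := act 9 n63142
theorem D63671 : act 9 n63142 = n63671 := rfl
theorem F284536 : act 1 n63671 = n63143 := d16_1 D63671 (iv D63143) (iv F282070)
theorem F284537 : act 3 n63671 = n63186 := d29_1 D63671 (iv F282642) F282638
theorem F284538 : act 5 n63671 = n63185 := d38_1 D63671 (iv F282634) (iv F282635)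
theorem F284539 : act 8 n63671 = n63150 := d44_1 D63671 (iv D63150) (iv D62432) (iv F278724) D63142
def n63672 : Q := act 1 n63144
theorem D63672 : act 1 n63144 = n63672 := rfl
theorem F284540 : act 0 n63672 = n63672 := d0_1 D63672 (iv D63672) F282075 F278732 (iv F282075)
def n63673 : Q := act 5 n63144
theorem D63673 : act 5 n63144 = n63673 := rfl
theorem F284541 : act 0 n63673 = n63147 := d4_1 D63673 (iv D63147) (iv F282075)
theorem F284542 : act 2 n63673 = n63145 := d19_1 D63673 (iv D63145) D63144
theorem F284543 : act 3 n63673 = n63265 := d25_1 D63673 (iv F284495) F284494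
theorem F284544 : act 8 n63198 = n63673 := d22_0 F284542 (iv F282079) D63198
def n63674 : Q := act 8 n63144
theorem D63674 : act 8 n63144 = n63674 := rfl
theorem F284545 : act 0 n63674 = n63148 := d7_1 D63674 (iv D63148) (iv F282075)
theorem F284546 : act 2 n63674 = n63146 := d22_1 D63674 (iv D63146) D63144
theorem F284547 : act 5 n63674 = n63198 := d37_1 D63674 F284544 (iv D63673)
def n63675 : Q := act 4 n63145
theorem D63675 : act 4 n63145 = n63675 := rfl
theorem F284548 : act 0 n63675 = n63149 := d3_1 D63675 (iv D63149) (iv F282076)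
theorem F284549 : act 1 n63675 = n63192 := d11_1 D63675 F282256 (iv F282077)
theorem F284550 : act 3 n63675 = n63151 := d24_1 D63675 (iv D63151) F278755 (iv F278730) (iv F282078)
theorem F284551 : act 7 n63675 = n63163 := d32_2 F283345 D63675 (iv F283342)
theorem F284552 : act 8 n63675 = n63182 := d33_2 F282079 D63675 F282223
def n63676 : Q := act 9 n63146
theorem D63676 : act 9 n63146 = n63676 := rfl
theorem F284553 : act 0 n63676 = n63150 := d8_1 D63676 (iv D63150) (iv F282080)
theorem F284554 : act 3 n63676 = n63153 := d29_1 D63676 (iv D63153) (iv F282081)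
theorem F284555 : act 5 n63676 = n63196 := d38_1 D63676 F282265 (iv F282082)
def n63677 : Q := act 4 n63147
theorem D63677 : act 4 n63147 = n63677 := rfl
theorem F284556 : act 1 n63677 = n63677 := d11_1 D63677 (iv D63677) F282083
theorem F284557 : act 2 n63677 = n63149 := d18_1 D63677 (iv D63149) (iv F282084)
theorem F284558 : act 3 n63677 = n63201 := d24_1 D63677 F282274 F279057 (iv F279300) (iv F282085)
theorem F284559 : act 7 n63677 = n63164 := d32_2 F283353 D63677 (iv F283350)
theorem F284560 : act 8 n63677 = n63183 := d33_2 F282086 D63677 F282226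
def n63678 : Q := act 9 n63148
theorem D63678 : act 9 n63148 = n63678 := rfl
theorem F284561 : act 1 n63678 = n63678 := d16_1 D63678 (iv D63678) F282087
theorem F284562 : act 2 n63678 = n63150 := d23_1 D63678 (iv D63150) (iv F282088)
theorem F284563 : act 5 n63678 = n63197 := d38_1 D63678 F282267 (iv F282089)
def n63679 : Q := act 3 n63155
theorem D63679 : act 3 n63155 = n63679 := rfl
theorem F284564 : act 0 n63679 = n63160 := d2_1 D63679 (iv D63160) (iv F282115)
theorem F284565 : act 1 n63679 = n63156 := d10_1 D63679 (iv D63156) (iv F282116)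
theorem F284566 : act 5 n63679 = n63176 := d25_2 (iv F282118) D63679 F282201
theorem F284567 : act 6 n63679 = n63166 := d26_2 (iv F282119) D63679 F282162
theorem F284568 : act 8 n63679 = n63177 := d28_2 D63155 D63679 (iv D63177) F278945 (iv F278793)
def n63680 : Q := act 4 n63156
theorem D63680 : act 4 n63156 = n63680 := rfl
theorem F284569 : act 0 n63680 = n63157 := d3_1 D63680 (iv D63157) (iv F282120)
theorem F284570 : act 6 n63680 = n63200 := d31_2 (iv F282122) D63680 F282272
def n63681 : Q := act 2 n63161
theorem D63681 : act 2 n63161 = n63681 := rfl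
theorem F284571 : act 0 n63681 = n63162 := d1_1 D63681 (iv D63162) (iv F282137)
theorem F284572 : act 3 n63681 = n63242 := d17_2 D63161 D63681 (iv D63242) (iv D62579) (iv F278841)
theorem F284573 : act 4 n63681 = n63219 := d18_2 (iv F282139) D63681 (iv D63219)
theorem F284574 : act 5 n63681 = n63202 := d19_2 (iv F282140) D63681 (iv D63202)
theorem F284575 : act 6 n63681 = n63248 := d20_2 (iv F282141) D63681 (iv D63248)
theorem F284576 : act 7 n63681 = n63237 := d21_2 (iv F282142) D63681 (iv D63237)
def n63682 : Q := act 2 n63163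
theorem D63682 : act 2 n63163 = n63682 := rfl
theorem F284577 : act 0 n63682 = n63164 := d1_1 D63682 (iv D63164) (iv F282149)
theorem F284578 : act 8 n63682 = n63264 := d22_2 (iv F282151) D63682 (iv D63264)
def n63683 : Q := act 2 n63167
theorem D63683 : act 2 n63167 = n63683 := rfl
theorem F284579 : act 0 n63683 = n63168 := d1_1 D63683 (iv D63168) (iv F282165)
theorem F284580 : act 5 n63683 = n63266 := d19_2 (iv F282167) D63683 (iv D63266)
def n63684 : Q := act 8 n63167
theorem D63684 : act 8 n63167 = n63684 := rfl
theorem F284581 : act 0 n63684 = n63169 := d7_1 D63684 (iv D63169) (iv F282165)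
theorem F284582 : act 1 n63684 = n63203 := d15_1 D63684 (iv D63203) (iv F282166)
theorem F284583 : act 3 n63684 = n63230 := d28_1 D63684 F282349 (iv F279326) F279330 D63167
theorem F284584 : act 5 n63684 = n63229 := d37_1 D63684 F282346 (iv F282167)
def n63685 : Q := act 8 n63168
theorem D63685 : act 8 n63168 = n63685 := rfl
theorem F284585 : act 1 n63685 = n63685 := d15_1 D63685 (iv D63685) F282168
theorem F284586 : act 2 n63685 = n63169 := d22_1 D63685 (iv D63169) D63168
theorem F284587 : act 5 n63685 = n63231 := d37_1 D63685 F282353 (iv F282169)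
def n63686 : Q := act 9 n63169
theorem D63686 : act 9 n63169 = n63686 := rfl
theorem F284588 : act 1 n63686 = n63170 := d16_1 D63686 (iv D63170) (iv F282170)
theorem F284589 : act 3 n63686 = n63228 := d29_1 D63686 F282342 (iv F282171)
theorem F284590 : act 5 n63686 = n63227 := d38_1 D63686 F282339 (iv F282172)
def n63687 : Q := act 3 n63172
theorem D63687 : act 3 n63172 = n63687 := rfl
theorem F284591 : act 0 n63687 = n63173 := d2_1 D63687 (iv D63173) (iv F282182)
theorem F284592 : act 1 n63687 = n63208 := d10_1 D63687 (iv D63208) (iv F282183)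
theorem F284593 : act 4 n63687 = n63233 := d24_2 D63172 D63687 (iv D63233) (iv D62568) (iv F278904)
theorem F284594 : act 7 n63687 = n63179 := d27_2 (iv F282184) D63687 (iv D63179)
theorem F284595 : act 8 n63687 = n63243 := d28_2 (iv F282185) D63687 (iv D63243) F279221 (iv F278933)
def n63688 : Q := act 2 n63173
theorem D63688 : act 2 n63173 = n63688 := rfl
theorem F284596 : act 1 n63688 = n63688 := d9_1 D63688 (iv D63688) F282186 F278912 (iv F282186)
theorem F284597 : act 4 n63688 = n63234 := d18_2 (iv F282187) D63688 (iv D63234)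
theorem F284598 : act 7 n63688 = n63180 := d21_2 (iv F282188) D63688 (iv D63180)
theorem F284599 : act 8 n63688 = n63244 := d22_2 (iv F282189) D63688 (iv D63244)
def n63689 : Q := act 6 n63174
theorem D63689 : act 6 n63174 = n63689 := rfl
theorem F284600 : act 0 n63689 = n63175 := d5_1 D63689 (iv D63175) (iv F282190)
theorem F284601 : act 1 n63689 = n63212 := d13_1 D63689 (iv D63212) (iv F282191)
theorem F284602 : act 3 n63689 = n63178 := d26_1 D63689 F282206 (iv F282192)
theorem F284603 : act 5 n63689 = n63177 := d35_1 D63689 F282203 F279310 (iv F278919) D63174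
theorem F284604 : act 8 n63689 = n63176 := d40_2 (iv F282194) D63689 (iv D63176)
def n63690 : Q := act 2 n63179
theorem D63690 : act 2 n63179 = n63690 := rfl
theorem F284605 : act 0 n63690 = n63180 := d1_1 D63690 (iv D63180) (iv F282208)
theorem F284606 : act 4 n63690 = n63266 := d18_2 (iv F282210) D63690 (iv D63266)
theorem F284607 : act 6 n63690 = n63265 := d20_2 (iv F282211) D63690 (iv D63265)
theorem F284608 : act 8 n63690 = n63247 := d22_2 (iv F282212) D63690 (iv D63247)
def n63691 : Q := act 2 n63182
theorem D63691 : act 2 n63182 = n63691 := rfl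
theorem F284609 : act 0 n63691 = n63183 := d1_1 D63691 (iv D63183) (iv F282222)
theorem F284610 : act 4 n63691 = n63198 := d18_2 (iv F282223) D63691 (iv D63198)
theorem F284611 : act 7 n63691 = n63264 := d21_2 (iv F282224) D63691 (iv D63264)
def n63692 : Q := act 3 n63184
theorem D63692 : act 3 n63184 = n63692 := rfl
theorem F284612 : act 0 n63692 = n63185 := d2_1 D63692 (iv D63185) (iv F282228)
theorem F284613 : act 4 n63692 = n63260 := d24_2 D63184 D63692 (iv D63260) (iv D62608) (iv F278983)
theorem F284614 : act 6 n63692 = n63192 := d26_2 (iv F282229) D63692 (iv D63192)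
theorem F284615 : act 8 n63692 = n63196 := d28_2 (iv F282230) D63692 (iv D63196) F279042 (iv F278996)
def n63693 : Q := act 5 n63184
theorem D63693 : act 5 n63184 = n63693 := rfl
theorem F284616 : act 0 n63693 = n63186 := d4_1 D63693 (iv D63186) (iv F282228)
theorem F284617 : act 8 n63693 = n63187 := d37_2 (iv F282230) D63693 (iv D63187)
def n63694 : Q := act 2 n63185
theorem D63694 : act 2 n63185 = n63694 := rfl
theorem F284618 : act 1 n63694 = n63694 := d9_1 D63694 (iv D63694) F282231 F278989 (iv F282231)
theorem F284619 : act 4 n63694 = n63261 := d18_2 (iv F282232) D63694 (iv D63261)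
theorem F284620 : act 6 n63694 = n63193 := d20_2 (iv F282233) D63694 (iv D63193)
theorem F284621 : act 8 n63694 = n63197 := d22_2 (iv F282234) D63694 (iv D63197)
def n63695 : Q := act 3 n63188
theorem D63695 : act 3 n63188 = n63695 := rfl
theorem F284622 : act 0 n63695 = n63189 := d2_1 D63695 (iv D63189) (iv F282240)
theorem F284623 : act 7 n63695 = n63194 := d27_2 (iv F282242) D63695 (iv D63194)
theorem F284624 : act 8 n63695 = n63235 := d28_2 (iv F282243) D63695 (iv D63235) F279192 (iv F279015)
def n63696 : Q := act 2 n63189
theorem D63696 : act 2 n63189 = n63696 := rfl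
theorem F284625 : act 1 n63696 = n63696 := d9_1 D63696 (iv D63696) F282244 F279010 (iv F282244)
theorem F284626 : act 3 n63696 = n63193 := d17_2 D63189 D63696 (iv D63193) (iv D62508) (iv F279007)
theorem F284627 : act 7 n63696 = n63195 := d21_2 (iv F282245) D63696 (iv D63195)
theorem F284628 : act 8 n63696 = n63236 := d22_2 (iv F282246) D63696 (iv D63236)
def n63697 : Q := act 3 n63190
theorem D63697 : act 3 n63190 = n63697 := rfl
theorem F284629 : act 0 n63697 = n63191 := d2_1 D63697 (iv D63191) (iv F282247)
theorem F284630 : act 4 n63697 = n63262 := d24_2 D63190 D63697 (iv D63262) (iv D62610) (iv F279018)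
theorem F284631 : act 7 n63697 = n63196 := d27_2 (iv F282248) D63697 (iv D63196)
theorem F284632 : act 9 n63697 = n63192 := d29_2 (iv F282250) D63697 (iv D63192)
def n63698 : Q := act 2 n63191
theorem D63698 : act 2 n63191 = n63698 := rfl
theorem F284633 : act 1 n63698 = n63698 := d9_1 D63698 (iv D63698) F282251 F279027 (iv F282251)
theorem F284634 : act 4 n63698 = n63263 := d18_2 (iv F282252) D63698 (iv D63263)
theorem F284635 : act 7 n63698 = n63197 := d21_2 (iv F282253) D63698 (iv D63197)
theorem F284636 : act 9 n63698 = n63193 := d23_2 (iv F282254) D63698 (iv D63193)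
def n63699 : Q := act 2 n63192
theorem D63699 : act 2 n63192 = n63699 := rfl
theorem F284637 : act 0 n63699 = n63193 := d1_1 D63699 (iv D63193) (iv F282255)
theorem F284638 : act 4 n63699 = n63264 := d18_2 (iv F282256) D63699 (iv D63264)
theorem F284639 : act 7 n63699 = n63198 := d21_2 (iv F282257) D63699 (iv D63198)
def n63700 : Q := act 2 n63194
theorem D63700 : act 2 n63194 = n63700 := rfl
theorem F284640 : act 0 n63700 = n63195 := d1_1 D63700 (iv D63195) (iv F282261)
theorem F284641 : act 3 n63700 = n63198 := d17_2 D63194 D63700 (iv D63198) (iv D62513) (iv F279038)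
def n63701 : Q := act 2 n63196
theorem D63701 : act 2 n63196 = n63701 := rfl
theorem F284642 : act 0 n63701 = n63197 := d1_1 D63701 (iv D63197) (iv F282264)
theorem F284643 : act 9 n63701 = n63198 := d23_2 (iv F282265) D63701 (iv D63198)
def n63702 : Q := act 1 n63198
theorem D63702 : act 1 n63198 = n63702 := rfl
theorem F284644 : act 0 n63702 = n63702 := d0_1 D63702 (iv D63702) F282268 F279047 (iv F282268)
def n63703 : Q := act 2 n63199
theorem D63703 : act 2 n63199 = n63703 := rfl
theorem F284645 : act 0 n63703 = n63201 := d1_1 D63703 (iv D63201) (iv F282269)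
theorem F284646 : act 4 n63703 = n63202 := d18_2 (iv F282270) D63703 (iv D63202)
def n63704 : Q := act 1 n63202
theorem D63704 : act 1 n63202 = n63704 := rfl
theorem F284647 : act 0 n63704 = n63704 := d0_1 D63704 (iv D63704) F282275 F279056 (iv F282275)
theorem F284648 : act 3 n63704 = n63267 := d10_2 (iv F282276) D63704 (iv D63267)
def n63705 : Q := act 8 n63202
theorem D63705 : act 8 n63202 = n63705 := rfl
theorem F284649 : act 0 n63705 = n63204 := d7_1 D63705 (iv D63204) (iv F282275)
theorem F284650 : act 2 n63705 = n63203 := d22_1 D63705 (iv D63203) D63202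
def n63706 : Q := act 9 n63203
theorem D63706 : act 9 n63203 = n63706 := rfl
theorem F284651 : act 0 n63706 = n63205 := d8_1 D63706 (iv D63205) (iv F282277)
def n63707 : Q := act 9 n63204
theorem D63707 : act 9 n63204 = n63707 := rfl
theorem F284652 : act 1 n63707 = n63707 := d16_1 D63707 (iv D63707) F282278
theorem F284653 : act 2 n63707 = n63205 := d23_1 D63707 (iv D63205) (iv F282279)
def n63708 : Q := act 3 n63206
theorem D63708 : act 3 n63206 = n63708 := rfl
theorem F284654 : act 0 n63708 = n63207 := d2_1 D63708 (iv D63207) (iv F282281)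
theorem F284655 : act 4 n63708 = n63235 := d24_2 D63206 D63708 (iv D63235) (iv D62570) (iv F279064)
theorem F284656 : act 7 n63708 = n63217 := d27_2 (iv F282282) D63708 (iv D63217)
theorem F284657 : act 9 n63708 = n63208 := d29_2 (iv F282284) D63708 (iv D63208)
def n63709 : Q := act 2 n63207
theorem D63709 : act 2 n63207 = n63709 := rfl
theorem F284658 : act 1 n63709 = n63709 := d9_1 D63709 (iv D63709) F282285 F279073 (iv F282285)
theorem F284659 : act 4 n63709 = n63236 := d18_2 (iv F282286) D63709 (iv D63236)
theorem F284660 : act 7 n63709 = n63218 := d21_2 (iv F282287) D63709 (iv D63218)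
theorem F284661 : act 9 n63709 = n63209 := d23_2 (iv F282288) D63709 (iv D63209)
def n63710 : Q := act 2 n63208
theorem D63710 : act 2 n63208 = n63710 := rfl
theorem F284662 : act 0 n63710 = n63209 := d1_1 D63710 (iv D63209) (iv F282289)
theorem F284663 : act 4 n63710 = n63237 := d18_2 (iv F282290) D63710 (iv D63237)
theorem F284664 : act 7 n63710 = n63219 := d21_2 (iv F282291) D63710 (iv D63219)
def n63711 : Q := act 6 n63210
theorem D63711 : act 6 n63210 = n63711 := rfl
theorem F284665 : act 0 n63711 = n63211 := d5_1 D63711 (iv D63211) (iv F282295)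
theorem F284666 : act 9 n63711 = n63212 := d41_2 (iv F282297) D63711 (iv D63212)
def n63712 : Q := act 2 n63213
theorem D63712 : act 2 n63213 = n63712 := rfl
theorem F284667 : act 0 n63712 = n63214 := d1_1 D63712 (iv D63214) (iv F282302)
theorem F284668 : act 3 n63712 = n63219 := d17_2 D63213 D63712 (iv D63219) (iv D62543) (iv F279103)
def n63713 : Q := act 2 n63215
theorem D63713 : act 2 n63215 = n63713 := rfl
theorem F284669 : act 0 n63713 = n63216 := d1_1 D63713 (iv D63216) (iv F282305)
theorem F284670 : act 4 n63713 = n63248 := d18_2 (iv F282307) D63713 (iv D63248)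
theorem F284671 : act 6 n63713 = n63219 := d20_2 (iv F282308) D63713 (iv D63219)
def n63714 : Q := act 2 n63217
theorem D63714 : act 2 n63217 = n63714 := rfl
theorem F284672 : act 0 n63714 = n63218 := d1_1 D63714 (iv D63218) (iv F282312)
theorem F284673 : act 9 n63714 = n63219 := d23_2 (iv F282313) D63714 (iv D63219)
def n63715 : Q := act 1 n63219
theorem D63715 : act 1 n63219 = n63715 := rfl
theorem F284674 : act 0 n63715 = n63715 := d0_1 D63715 (iv D63715) F282316 F279121 (iv F282316)
def n63716 : Q := act 3 n63220
theorem D63716 : act 3 n63220 = n63716 := rfl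
theorem F284675 : act 0 n63716 = n63221 := d2_1 D63716 (iv D63221) (iv F282317)
theorem F284676 : act 6 n63716 = n63243 := d26_2 (iv F282318) D63716 (iv D63243)
theorem F284677 : act 9 n63716 = n63223 := d29_2 (iv F282320) D63716 (iv D63223)
def n63717 : Q := act 5 n63220
theorem D63717 : act 5 n63220 = n63717 := rfl
theorem F284678 : act 0 n63717 = n63222 := d4_1 D63717 (iv D63222) (iv F282317)
theorem F284679 : act 8 n63717 = n63232 := d37_2 (iv F282319) D63717 (iv D63232)
theorem F284680 : act 9 n63717 = n63224 := d38_2 (iv F282320) D63717 (iv D63224)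
def n63718 : Q := act 2 n63221
theorem D63718 : act 2 n63221 = n63718 := rfl
theorem F284681 : act 1 n63718 = n63718 := d9_1 D63718 (iv D63718) F282321 F279136 (iv F282321)
theorem F284682 : act 6 n63718 = n63244 := d20_2 (iv F282322) D63718 (iv D63244)
theorem F284683 : act 9 n63718 = n63225 := d23_2 (iv F282323) D63718 (iv D63225)
def n63719 : Q := act 2 n63223
theorem D63719 : act 2 n63223 = n63719 := rfl
theorem F284684 : act 0 n63719 = n63225 := d1_1 D63719 (iv D63225) (iv F282327)
theorem F284685 : act 8 n63719 = n63237 := d22_2 (iv F282328) D63719 (iv D63237)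
def n63720 : Q := act 3 n63226
theorem D63720 : act 3 n63226 = n63720 := rfl
theorem F284686 : act 0 n63720 = n63227 := d2_1 D63720 (iv D63227) (iv F282333)
theorem F284687 : act 4 n63720 = n63240 := d24_2 D63226 D63720 (iv D63240) (iv D62577) (iv F279151)
theorem F284688 : act 6 n63720 = n63238 := d26_2 (iv F282334) D63720 (iv D63238)
theorem F284689 : act 9 n63720 = n63229 := d29_2 (iv F282335) D63720 (iv D63229)
def n63721 : Q := act 5 n63226
theorem D63721 : act 5 n63226 = n63721 := rfl
theorem F284690 : act 0 n63721 = n63228 := d4_1 D63721 (iv D63228) (iv F282333)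
theorem F284691 : act 4 n63721 = n63232 := d30_1 D63721 (iv D63232) (iv D62563) (iv F279152) D63226
theorem F284692 : act 9 n63721 = n63230 := d38_2 (iv F282335) D63721 (iv D63230)
def n63722 : Q := act 2 n63227
theorem D63722 : act 2 n63227 = n63722 := rfl
theorem F284693 : act 1 n63722 = n63722 := d9_1 D63722 (iv D63722) F282336 F279158 (iv F282336)
theorem F284694 : act 4 n63722 = n63241 := d18_2 (iv F282337) D63722 (iv D63241)
theorem F284695 : act 6 n63722 = n63239 := d20_2 (iv F282338) D63722 (iv D63239)
theorem F284696 : act 9 n63722 = n63231 := d23_2 (iv F282339) D63722 (iv D63231)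
def n63723 : Q := act 2 n63229
theorem D63723 : act 2 n63229 = n63723 := rfl
theorem F284697 : act 0 n63723 = n63231 := d1_1 D63723 (iv D63231) (iv F282343)
theorem F284698 : act 4 n63723 = n63247 := d18_2 (iv F282344) D63723 (iv D63247)
theorem F284699 : act 6 n63723 = n63268 := d20_2 (iv F282345) D63723 F282437
theorem F284700 : act 8 n63723 = n63266 := d22_2 (iv F282346) D63723 (iv D63266)
def n63724 : Q := act 2 n63233
theorem D63724 : act 2 n63233 = n63724 := rfl
theorem F284701 : act 0 n63724 = n63234 := d1_1 D63724 (iv D63234) (iv F282356)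
theorem F284702 : act 7 n63724 = n63266 := d21_2 (iv F282358) D63724 (iv D63266)
def n63725 : Q := act 2 n63235
theorem D63725 : act 2 n63235 = n63725 := rfl
theorem F284703 : act 0 n63725 = n63236 := d1_1 D63725 (iv D63236) (iv F282361)
theorem F284704 : act 9 n63725 = n63237 := d23_2 (iv F282362) D63725 (iv D63237)
def n63726 : Q := act 1 n63237
theorem D63726 : act 1 n63237 = n63726 := rfl
theorem F284705 : act 0 n63726 = n63726 := d0_1 D63726 (iv D63726) F282365 F279197 (iv F282365)
def n63727 : Q := act 2 n63238
theorem D63727 : act 2 n63238 = n63727 := rfl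
theorem F284706 : act 0 n63727 = n63239 := d1_1 D63727 (iv D63239) (iv F282366)
theorem F284707 : act 4 n63727 = n63242 := d18_2 (iv F282367) D63727 (iv D63242)
theorem F284708 : act 9 n63727 = n63268 := d23_2 (iv F282368) D63727 F282437
def n63728 : Q := act 2 n63240
theorem D63728 : act 2 n63240 = n63728 := rfl
theorem F284709 : act 0 n63728 = n63241 := d1_1 D63728 (iv D63241) (iv F282372)
theorem F284710 : act 3 n63728 = n63248 := d17_2 D63240 D63728 (iv D63248) (iv D62588) (iv F279206)
theorem F284711 : act 6 n63728 = n63242 := d20_2 (iv F282373) D63728 (iv D63242)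
theorem F284712 : act 9 n63728 = n63247 := d23_2 (iv F282374) D63728 (iv D63247)
def n63729 : Q := act 1 n63242
theorem D63729 : act 1 n63242 = n63729 := rfl
theorem F284713 : act 0 n63729 = n63729 := d0_1 D63729 (iv D63729) F282379 F279214 (iv F282379)
theorem F284714 : act 5 n63729 = n63267 := d12_2 (iv F282380) D63729 (iv D63267)
def n63730 : Q := act 2 n63243
theorem D63730 : act 2 n63243 = n63730 := rfl
theorem F284715 : act 0 n63730 = n63244 := d1_1 D63730 (iv D63244) (iv F282381)
theorem F284716 : act 7 n63730 = n63247 := d21_2 (iv F282382) D63730 (iv D63247)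
def n63731 : Q := act 2 n63245
theorem D63731 : act 2 n63245 = n63731 := rfl
theorem F284717 : act 0 n63731 = n63246 := d1_1 D63731 (iv D63246) (iv F282385)
theorem F284718 : act 3 n63731 = n63247 := d17_2 D63245 D63731 (iv D63247) (iv D62586) (iv F279226)
theorem F284719 : act 9 n63731 = n63248 := d23_2 (iv F282387) D63731 (iv D63248)
def n63732 : Q := act 1 n63247
theorem D63732 : act 1 n63247 = n63732 := rfl
theorem F284720 : act 0 n63732 = n63732 := d0_1 D63732 (iv D63732) F282391 F279232 (iv F282391)
def n63733 : Q := act 1 n63248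
theorem D63733 : act 1 n63248 = n63733 := rfl
theorem F284721 : act 0 n63733 = n63733 := d0_1 D63733 (iv D63733) F282392 F279235 (iv F282392)
theorem F284722 : act 2 n63733 = n63267 := d9_2 D63248 D63733 (iv D63267) (iv D62619) (iv F279234)
def n63734 : Q := act 2 n63249
theorem D63734 : act 2 n63249 = n63734 := rfl
theorem F284723 : act 0 n63734 = n63250 := d1_1 D63734 (iv D63250) (iv F282393)
theorem F284724 : act 4 n63734 = n63251 := d18_2 (iv F282394) D63734 (iv D63251)
theorem F284725 : act 9 n63734 = n63265 := d23_2 (iv F282395) D63734 (iv D63265)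
def n63735 : Q := act 1 n63251
theorem D63735 : act 1 n63251 = n63735 := rfl
theorem F284726 : act 0 n63735 = n63735 := d0_1 D63735 (iv D63735) F282399 F279253 (iv F282399)
theorem F284727 : act 9 n63735 = n63267 := d16_2 (iv F282400) D63735 (iv D63267)
def n63736 : Q := act 2 n63252
theorem D63736 : act 2 n63252 = n63736 := rfl
theorem F284728 : act 0 n63736 = n63253 := d1_1 D63736 (iv D63253) (iv F282401)
theorem F284729 : act 3 n63736 = n63264 := d17_2 D63252 D63736 (iv D63264) (iv D62612) (iv F279257)
def n63737 : Q := act 8 n63252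
theorem D63737 : act 8 n63252 = n63737 := rfl
theorem F284730 : act 0 n63737 = n63254 := d7_1 D63737 (iv D63254) (iv F282401)
theorem F284731 : act 3 n63737 = n63256 := d28_1 D63737 (iv D63256) (iv D62602) (iv F279258) D63252
theorem F284732 : act 5 n63737 = n63260 := d37_1 D63737 (iv F282989) F282986
def n63738 : Q := act 8 n63253
theorem D63738 : act 8 n63253 = n63738 := rfl
theorem F284733 : act 1 n63738 = n63738 := d15_1 D63738 (iv D63738) F282402
theorem F284734 : act 2 n63738 = n63254 := d22_1 D63738 (iv D63254) D63253
theorem F284735 : act 5 n63738 = n63261 := d37_1 D63738 (iv F282997) F282994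
def n63739 : Q := act 9 n63254
theorem D63739 : act 9 n63254 = n63739 := rfl
theorem F284736 : act 1 n63739 = n63255 := d16_1 D63739 (iv D63255) (iv F282404)
theorem F284737 : act 3 n63739 = n63257 := d29_1 D63739 (iv D63257) (iv F282405)
theorem F284738 : act 5 n63739 = n63259 := d38_1 D63739 F282421 (iv F282406)
def n63740 : Q := act 9 n63256
theorem D63740 : act 9 n63256 = n63740 := rfl
theorem F284739 : act 0 n63740 = n63257 := d8_1 D63740 (iv D63257) (iv F282410)
theorem F284740 : act 5 n63740 = n63258 := d38_1 D63740 F282418 (iv F282411)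
theorem F284741 : act 8 n63740 = n63270 := d44_1 D63740 (iv D63270) (iv D62624) (iv F279265) D63256
def n63741 : Q := act 3 n63258
theorem D63741 : act 3 n63258 = n63741 := rfl
theorem F284742 : act 0 n63741 = n63259 := d2_1 D63741 (iv D63259) (iv F282415)
theorem F284743 : act 6 n63741 = n63262 := d26_2 (iv F282416) D63741 (iv D63262)
theorem F284744 : act 9 n63741 = n63260 := d29_2 (iv F282418) D63741 (iv D63260)
def n63742 : Q := act 2 n63259
theorem D63742 : act 2 n63259 = n63742 := rfl
theorem F284745 : act 1 n63742 = n63742 := d9_1 D63742 (iv D63742) F282419 F279278 (iv F282419)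
theorem F284746 : act 6 n63742 = n63263 := d20_2 (iv F282420) D63742 (iv D63263)
theorem F284747 : act 9 n63742 = n63261 := d23_2 (iv F282421) D63742 (iv D63261)
def n63743 : Q := act 2 n63260
theorem D63743 : act 2 n63260 = n63743 := rfl
theorem F284748 : act 0 n63743 = n63261 := d1_1 D63743 (iv D63261) (iv F282422)
theorem F284749 : act 6 n63743 = n63264 := d20_2 (iv F282423) D63743 (iv D63264)
def n63744 : Q := act 2 n63262
theorem D63744 : act 2 n63262 = n63744 := rfl
theorem F284750 : act 0 n63744 = n63263 := d1_1 D63744 (iv D63263) (iv F282426)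
theorem F284751 : act 9 n63744 = n63264 := d23_2 (iv F282427) D63744 (iv D63264)
def n63745 : Q := act 1 n63264
theorem D63745 : act 1 n63264 = n63745 := rfl
theorem F284752 : act 0 n63745 = n63745 := d0_1 D63745 (iv D63745) F282430 F279292 (iv F282430)
def n63746 : Q := act 1 n63265
theorem D63746 : act 1 n63265 = n63746 := rfl
theorem F284753 : act 0 n63746 = n63746 := d0_1 D63746 (iv D63746) F282431 F279299 (iv F282431)
theorem F284754 : act 4 n63746 = n63267 := d11_2 (iv F282432) D63746 (iv D63267)
def n63747 : Q := act 1 n63266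
theorem D63747 : act 1 n63266 = n63747 := rfl
theorem F284755 : act 0 n63747 = n63747 := d0_1 D63747 (iv D63747) F282433 F279303 (iv F282433)
theorem F284756 : act 6 n63747 = n63267 := d13_2 (iv F282434) D63747 (iv D63267)
def n63748 : Q := act 8 n63267
theorem D63748 : act 8 n63267 = n63748 := rfl
theorem F284757 : act 0 n63748 = n63748 := d7_1 D63748 (iv D63748) F282435
theorem F284758 : act 1 n63748 = n63268 := d15_1 D63748 (iv D63268) D63267
def n63749 : Q := act 3 n63268
theorem D63749 : act 3 n63268 = n63749 := rfl
theorem F284759 : act 0 n63749 = n63269 := d2_1 D63749 (iv D63269) (iv F282436)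
def n63750 : Q := act 9 n63271
theorem D63750 : act 9 n63271 = n63750 := rfl
theorem F284760 : act 0 n63750 = n63272 := d8_1 D63750 (iv D63272) (iv F282441)
theorem F284761 : act 1 n63750 = n63522 := d16_1 D63750 F283915 (iv F282442)
theorem F284762 : act 2 n63750 = n63565 := d23_1 D63750 F284112 (iv F282443)
theorem F284763 : act 3 n63750 = n63345 := d29_1 D63750 (iv D63345) (iv F282444)
theorem F284764 : act 4 n63750 = n63717 := d34_1 D63750 F284680 (iv F282445)
theorem F284765 : act 5 n63750 = n63273 := d38_1 D63750 (iv D63273) (iv F282446)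
theorem F284766 : act 6 n63750 = n63469 := d41_1 D63750 (iv D63469) (iv F282447)
theorem F284767 : act 7 n63750 = n63438 := d43_1 D63750 F283486 (iv F282448)
theorem F284768 : act 8 n63750 = n63721 := d44_1 D63750 F284692 F282349 (iv F279339) D63271
def n63751 : Q := act 3 n63274
theorem D63751 : act 3 n63274 = n63751 := rfl
theorem F284769 : act 0 n63751 = n63275 := d2_1 D63751 (iv D63275) (iv F282465)
theorem F284770 : act 1 n63751 = n63404 := d10_1 D63751 (iv D63404) (iv F282466)
theorem F284771 : act 4 n63751 = n63660 := d24_2 D63274 D63751 (iv D63660) (iv D63131) (iv F279380)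
theorem F284772 : act 5 n63751 = n63376 := d25_2 (iv F282468) D63751 (iv D63376)
theorem F284773 : act 6 n63751 = n63523 := d26_2 (iv F282469) D63751 (iv D63523)
theorem F284774 : act 7 n63751 = n63295 := d27_2 (iv F282470) D63751 (iv D63295)
theorem F284775 : act 9 n63751 = n63354 := d29_2 (iv F282472) D63751 (iv D63354)
def n63752 : Q := act 2 n63275
theorem D63752 : act 2 n63275 = n63752 := rfl
theorem F284776 : act 1 n63752 = n63752 := d9_1 D63752 (iv D63752) F282473 F279394 (iv F282473)
theorem F284777 : act 3 n63752 = n63543 := d17_2 D63275 D63752 (iv D63543) (iv D62972) (iv F279387)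
theorem F284778 : act 4 n63752 = n63662 := d18_2 (iv F282474) D63752 (iv D63662)
theorem F284779 : act 5 n63752 = n63377 := d19_2 (iv F282475) D63752 (iv D63377)
theorem F284780 : act 6 n63752 = n63525 := d20_2 (iv F282476) D63752 (iv D63525)
theorem F284781 : act 7 n63752 = n63296 := d21_2 (iv F282477) D63752 (iv D63296)
theorem F284782 : act 9 n63752 = n63355 := d23_2 (iv F282478) D63752 (iv D63355)
def n63753 : Q := act 8 n63275
theorem D63753 : act 8 n63275 = n63753 := rfl
theorem F284783 : act 1 n63753 = n63276 := d15_1 D63753 (iv D63276) (iv F282473)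
theorem F284784 : act 3 n63753 = n63310 := d28_1 D63753 (iv D63310) (iv D62672) (iv F279391) D63275
theorem F284785 : act 4 n63753 = n63664 := d33_1 D63753 (iv D63664) (iv F282474)
theorem F284786 : act 5 n63753 = n63378 := d37_1 D63753 (iv D63378) (iv F282475)
theorem F284787 : act 6 n63753 = n63527 := d40_1 D63753 (iv D63527) (iv F282476)
theorem F284788 : act 7 n63753 = n63297 := d42_1 D63753 (iv D63297) (iv F282477)
theorem F284789 : act 9 n63482 = n63753 := d45_0 (iv D63753) (iv D63275) F279388 (iv D61918) (iv F276150) (iv D61907) (iv D60853) (iv D59672) F261718 (iv D57966) F255001 F249167 F241967 F233811 (iv F233934) F233935 (iv F241952) (iv D53956) (iv F236808) F236806 (iv D52915) (iv D51026) F218862 F209234 (iv D46558) (iv D34888) D34889 (iv F207709) (iv F217533) (iv F221425) F221424 F211394 F178046 (iv F175657) (iv F208620) (iv D46697) F205492 (iv F205789) F174822 F121926 F85265 (iv F121905) (iv F205769) F103148 (iv D16587) (iv D11413) F35644 F25186 F25185 (iv F23029) F23027 F23028 F16325 F11603 (iv F15940) (iv F22479) F22480 (iv F22618) F22617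 F16189 F11519 (iv F16043) (iv F22556) D6993 D10147 (iv F64535) D21464 (iv F131446) (iv F188686) (iv F215633) D50370 D52389 D54171 D55688 F249801 D56954 (iv F260355) (iv F263013) (iv F267932) (iv F270996) (iv F275752) F275751 D61933 D62772 (iv F282576) F282575 (iv F282567) F282568 (iv F283727)
def n63754 : Q := act 3 n63277
theorem D63754 : act 3 n63277 = n63754 := rfl
theorem F284790 : act 0 n63754 = n63278 := d2_1 D63754 (iv D63278) (iv F282487)
theorem F284791 : act 1 n63754 = n63626 := d10_1 D63754 F284374 (iv F282488)
theorem F284792 : act 2 n63754 = n63380 := d17_1 D63754 (iv D63380) F280224 (iv F279514) (iv F282489)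
theorem F284793 : act 4 n63754 = n63326 := d24_2 D63277 D63754 (iv D63326) (iv D62693) (iv F279402)
theorem F284794 : act 6 n63754 = n63322 := d26_2 (iv F282490) D63754 (iv D63322)
theorem F284795 : act 7 n63754 = n63573 := d27_2 (iv F282491) D63754 (iv D63573)
theorem F284796 : act 9 n63754 = n63653 := d29_2 (iv F282493) D63754 F284483
theorem F284797 : act 8 n63608 = n63754 := d40_0 F284794 F282780 D63608
def n63755 : Q := act 5 n63277
theorem D63755 : act 5 n63277 = n63755 := rfl
theorem F284798 : act 0 n63755 = n63279 := d4_1 D63755 (iv D63279) (iv F282487)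
theorem F284799 : act 1 n63755 = n63647 := d12_1 D63755 (iv D63647) (iv F282488)
theorem F284800 : act 2 n63755 = n63293 := d19_1 D63755 (iv D63293) (iv F282489)
theorem F284801 : act 4 n63755 = n63480 := d30_1 D63755 (iv D63480) (iv D62898) (iv F279403) D63277
theorem F284802 : act 7 n63755 = n63394 := d36_2 (iv F282491) D63755 F283230
theorem F284803 : act 8 n63755 = n63487 := d37_2 (iv F282492) D63755 (iv D63487)
theorem F284804 : act 9 n63755 = n63655 := d38_2 (iv F282493) D63755 F284491
def n63756 : Q := act 5 n63278
theorem D63756 : act 5 n63278 = n63756 := rfl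
theorem F284805 : act 1 n63756 = n63280 := d12_1 D63756 (iv D63280) (iv F282494)
theorem F284806 : act 2 n63756 = n63371 := d19_1 D63756 F283110 (iv F282495)
theorem F284807 : act 3 n63756 = n63279 := d25_1 D63756 (iv D63279) D63278
theorem F284808 : act 4 n63756 = n63650 := d30_1 D63756 F284470 F281982 F279778 (iv F282496)
theorem F284809 : act 6 n63756 = n63359 := d35_2 (iv F282497) D63756 (iv D63359) F280070 F279739
theorem F284810 : act 7 n63756 = n63294 := d36_2 (iv F282498) D63756 F282599
theorem F284811 : act 8 n63756 = n63604 := d37_2 F282500 D63756 F284283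
theorem F284812 : act 9 n63756 = n63592 := d38_2 (iv F282499) D63756 F284230
def n63757 : Q := act 6 n63279
theorem D63757 : act 6 n63279 = n63757 := rfl
theorem F284813 : act 1 n63757 = n63281 := d13_1 D63757 (iv D63281) (iv F282501)
theorem F284814 : act 2 n63757 = n63294 := d20_1 D63757 (iv D63294) (iv F282502)
theorem F284815 : act 3 n63757 = n63359 := d26_1 D63757 (iv F284809) F284807
theorem F284816 : act 4 n63757 = n63483 := d31_1 D63757 (iv D63483) (iv F282503)
theorem F284817 : act 5 n63757 = n63324 := d35_1 D63757 (iv D63324) (iv D62689) (iv F279410) D63279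
theorem F284818 : act 7 n63757 = n63371 := d39_2 (iv F282504) D63757 (iv D63371) F280158 D62775
theorem F284819 : act 8 n63757 = n63491 := d40_2 (iv F282505) D63757 (iv D63491)
theorem F284820 : act 9 n63757 = n63591 := d41_2 (iv F282506) D63757 F284224
def n63758 : Q := act 3 n63282
theorem D63758 : act 3 n63282 = n63758 := rfl
theorem F284821 : act 0 n63758 = n63283 := d2_1 D63758 (iv D63283) (iv F282523)
theorem F284822 : act 1 n63758 = n63692 := d10_1 D63758 (iv D63692) (iv F282524)
theorem F284823 : act 4 n63758 = n63315 := d24_2 D63282 D63758 (iv D63315) (iv D62678) (iv F279445)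
theorem F284824 : act 6 n63758 = n63675 := d26_2 (iv F282526) D63758 F284550
theorem F284825 : act 7 n63758 = n63741 := d27_2 (iv F282527) D63758 (iv D63741)
theorem F284826 : act 8 n63758 = n63383 := d28_2 (iv F282528) D63758 (iv D63383) F280242 (iv F279514)
theorem F284827 : act 9 n63758 = n63593 := d29_2 (iv F282529) D63758 (iv D63593)
def n63759 : Q := act 5 n63282
theorem D63759 : act 5 n63282 = n63759 := rfl
theorem F284828 : act 0 n63759 = n63284 := d4_1 D63759 (iv D63284) (iv F282523)
theorem F284829 : act 1 n63759 = n63693 := d12_1 D63759 (iv D63693) (iv F282524)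
theorem F284830 : act 2 n63759 = n63487 := d19_1 D63759 (iv D63487) (iv F282525)
theorem F284831 : act 4 n63759 = n63475 := d30_1 D63759 (iv D63475) (iv D62891) (iv F279446) D63282
theorem F284832 : act 7 n63759 = n63740 := d36_2 (iv F282527) D63759 F284740
theorem F284833 : act 8 n63759 = n63293 := d37_2 (iv F282528) D63759 (iv D63293)
theorem F284834 : act 9 n63759 = n63594 := d38_2 (iv F282529) D63759 (iv D63594)
def n63760 : Q := act 2 n63283
theorem D63760 : act 2 n63283 = n63760 := rfl
theorem F284835 : act 1 n63760 = n63760 := d9_1 D63760 (iv D63760) F282530 F279458 (iv F282530)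
theorem F284836 : act 3 n63760 = n63488 := d17_2 D63283 D63760 (iv D63488) (iv D62904) (iv F279452)
theorem F284837 : act 4 n63760 = n63317 := d18_2 (iv F282531) D63760 (iv D63317)
theorem F284838 : act 6 n63760 = n63677 := d20_2 (iv F282532) D63760 F284557
theorem F284839 : act 7 n63760 = n63742 := d21_2 (iv F282533) D63760 (iv D63742)
theorem F284840 : act 8 n63760 = n63385 := d22_2 (iv F282534) D63760 (iv D63385)
theorem F284841 : act 9 n63760 = n63595 := d23_2 (iv F282535) D63760 (iv D63595)
def n63761 : Q := act 5 n63283
theorem D63761 : act 5 n63283 = n63761 := rfl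
theorem F284842 : act 1 n63761 = n63285 := d12_1 D63761 (iv D63285) (iv F282530)
theorem F284843 : act 3 n63761 = n63284 := d25_1 D63761 (iv D63284) D63283
theorem F284844 : act 7 n63761 = n63739 := d36_2 (iv F282533) D63761 F284738
theorem F284845 : act 8 n63761 = n63386 := d37_2 (iv F282534) D63761 (iv D63386)
theorem F284846 : act 9 n63761 = n63576 := d38_2 (iv F282535) D63761 F284166
def n63762 : Q := act 6 n63284
theorem D63762 : act 6 n63284 = n63762 := rfl
theorem F284847 : act 1 n63762 = n63286 := d13_1 D63762 (iv D63286) (iv F282536)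
theorem F284848 : act 2 n63762 = n63491 := d20_1 D63762 (iv D63491) (iv F282537)
theorem F284849 : act 4 n63762 = n63478 := d31_1 D63762 (iv D63478) (iv F282538)
theorem F284850 : act 5 n63762 = n63540 := d35_1 D63762 (iv D63540) F281345 (iv F279453) D63284
theorem F284851 : act 7 n63762 = n63604 := d39_2 (iv F282539) D63762 (iv D63604) (iv F282843) F282842
theorem F284852 : act 8 n63762 = n63294 := d40_2 (iv F282540) D63762 (iv D63294)
theorem F284853 : act 9 n63762 = n63382 := d41_2 (iv F282541) D63762 F283171
def n63763 : Q := act 4 n63285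
theorem D63763 : act 4 n63285 = n63763 := rfl
theorem F284854 : act 0 n63763 = n63485 := d3_1 D63763 F283739 (iv F282542)
theorem F284855 : act 2 n63763 = n63763 := d18_1 D63763 (iv D63763) F282543
theorem F284856 : act 3 n63763 = n63448 := d24_1 D63763 F283548 F281044 (iv F279466) (iv F282544)
theorem F284857 : act 5 n63763 = n63319 := d30_2 D63285 D63763 (iv D63319) (iv D62681) (iv F279459)
theorem F284858 : act 7 n63763 = n63528 := d32_2 (iv F282545) D63763 F283932
theorem F284859 : act 8 n63763 = n63387 := d33_2 (iv F282546) D63763 (iv D63387)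
theorem F284860 : act 9 n63763 = n63403 := d34_2 (iv F282547) D63763 F283279
theorem F284861 : act 6 n63407 = n63763 := d41_3 F284860 F283280 D63407
def n63764 : Q := act 6 n63285
theorem D63764 : act 6 n63285 = n63764 := rfl
theorem F284862 : act 0 n63764 = n63484 := d5_1 D63764 (iv F283736) (iv F282542)
theorem F284863 : act 2 n63764 = n63764 := d20_1 D63764 (iv D63764) F282543
theorem F284864 : act 3 n63764 = n63286 := d26_1 D63764 (iv D63286) (iv F282544)
theorem F284865 : act 4 n63764 = n63407 := d31_1 D63764 F284861 (iv D63763)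
theorem F284866 : act 5 n63764 = n63464 := d35_1 D63764 F283640 F281307 (iv F279460) D63285
theorem F284867 : act 7 n63764 = n63493 := d39_2 (iv F282545) D63764 F283776 (iv F282851) F282850
theorem F284868 : act 8 n63764 = n63339 := d40_2 (iv F282546) D63764 F282893
theorem F284869 : act 9 n63764 = n63333 := d41_2 (iv F282547) D63764 F282857
def n63765 : Q := act 3 n63287
theorem D63765 : act 3 n63287 = n63765 := rfl
theorem F284870 : act 0 n63765 = n63288 := d2_1 D63765 (iv D63288) (iv F282555)
theorem F284871 : act 1 n63765 = n63599 := d10_1 D63765 (iv D63599) (iv F282556)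
theorem F284872 : act 4 n63765 = n63295 := d24_2 D63287 D63765 (iv D63295) (iv D62656) (iv F279480)
theorem F284873 : act 6 n63765 = n63552 := d26_2 (iv F282558) D63765 (iv D63552)
theorem F284874 : act 7 n63765 = n63660 := d27_2 (iv F282559) D63765 (iv D63660)
theorem F284875 : act 9 n63765 = n63657 := d29_2 (iv F282561) D63765 (iv D63657)
def n63766 : Q := act 5 n63287
theorem D63766 : act 5 n63287 = n63766 := rfl
theorem F284876 : act 0 n63766 = n63289 := d4_1 D63766 (iv D63289) (iv F282555)
theorem F284877 : act 1 n63766 = n63600 := d12_1 D63766 (iv D63600) (iv F282556)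
theorem F284878 : act 2 n63766 = n63480 := d19_1 D63766 (iv D63480) (iv F282557)
theorem F284879 : act 4 n63766 = n63293 := d30_1 D63766 (iv D63293) (iv D62653) (iv F279481) D63287
theorem F284880 : act 7 n63766 = n63661 := d36_2 (iv F282559) D63766 (iv D63661)
theorem F284881 : act 8 n63766 = n63475 := d37_2 (iv F282560) D63766 (iv D63475)
theorem F284882 : act 9 n63766 = n63658 := d38_2 (iv F282561) D63766 (iv D63658)
def n63767 : Q := act 2 n63288
theorem D63767 : act 2 n63288 = n63767 := rfl
theorem F284883 : act 1 n63767 = n63767 := d9_1 D63767 (iv D63767) F282562 F279493 (iv F282562)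
theorem F284884 : act 3 n63767 = n63481 := d17_2 D63288 D63767 (iv D63481) (iv D62899) (iv F279487)
theorem F284885 : act 4 n63767 = n63296 := d18_2 (iv F282563) D63767 (iv D63296)
theorem F284886 : act 6 n63767 = n63554 := d20_2 (iv F282564) D63767 (iv D63554)
theorem F284887 : act 7 n63767 = n63662 := d21_2 (iv F282565) D63767 (iv D63662)
theorem F284888 : act 9 n63767 = n63659 := d23_2 (iv F282566) D63767 (iv D63659)
def n63768 : Q := act 5 n63288
theorem D63768 : act 5 n63288 = n63768 := rfl
theorem F284889 : act 1 n63768 = n63290 := d12_1 D63768 (iv D63290) (iv F282562)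
theorem F284890 : act 3 n63768 = n63289 := d25_1 D63768 (iv D63289) D63288
theorem F284891 : act 4 n63768 = n63391 := d30_1 D63768 (iv D63391) F280261 (iv F279535) (iv F282563)
theorem F284892 : act 7 n63768 = n63663 := d36_2 (iv F282565) D63768 (iv D63663)
theorem F284893 : act 9 n63768 = n63556 := d38_2 (iv F282566) D63768 F284067
def n63769 : Q := act 8 n63288
theorem D63769 : act 8 n63288 = n63769 := rfl
theorem F284894 : act 1 n63769 = n63291 := d15_1 D63769 (iv D63291) (iv F282562)
theorem F284895 : act 3 n63769 = n63477 := d28_1 D63769 (iv D63477) (iv D62892) (iv F279490) D63288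
theorem F284896 : act 4 n63769 = n63297 := d33_1 D63769 (iv D63297) (iv F282563)
theorem F284897 : act 6 n63769 = n63556 := d40_1 D63769 (iv D63556) (iv F282564)
theorem F284898 : act 7 n63769 = n63664 := d42_1 D63769 (iv D63664) (iv F282565)
def n63770 : Q := act 6 n63289
theorem D63770 : act 6 n63289 = n63770 := rfl
theorem F284899 : act 1 n63770 = n63292 := d13_1 D63770 (iv D63292) (iv F282567)
theorem F284900 : act 2 n63770 = n63483 := d20_1 D63770 (iv D63483) (iv F282568)
theorem F284901 : act 4 n63770 = n63294 := d31_1 D63770 (iv D63294) (iv F282569)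
theorem F284902 : act 5 n63770 = n63557 := d35_1 D63770 (iv D63557) (iv D62988) (iv F279488) D63289
theorem F284903 : act 7 n63770 = n63650 := d39_2 (iv F282570) D63770 F284471 (iv F282725) F282724
theorem F284904 : act 8 n63770 = n63478 := d40_2 (iv F282571) D63770 (iv D63478)
theorem F284905 : act 9 n63770 = n63477 := d41_2 (iv F282572) D63770 F283711
def n63771 : Q := act 6 n63290
theorem D63771 : act 6 n63290 = n63771 := rfl
theorem F284906 : act 0 n63771 = n63493 := d5_1 D63771 F283776 (iv F282573)
theorem F284907 : act 2 n63771 = n63771 := d20_1 D63771 (iv D63771) F282574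
theorem F284908 : act 3 n63771 = n63292 := d26_1 D63771 (iv D63292) (iv F282575)
theorem F284909 : act 4 n63771 = n63298 := d31_1 D63771 F282619 (iv F282576)
theorem F284910 : act 5 n63771 = n63453 := d35_1 D63771 F283581 (iv D62989) (iv F279495) D63290
theorem F284911 : act 7 n63771 = n63484 := d39_2 (iv F282577) D63771 (iv F283736) (iv F282732) F282731
theorem F284912 : act 9 n63771 = n63291 := d41_2 (iv F282578) D63771 F282583
theorem F284913 : act 8 n63452 = n63771 := d44_5 F284912 (iv D63291) F279497 F281467 (iv F283576)
def n63772 : Q := act 8 n63290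
theorem D63772 : act 8 n63290 = n63772 := rfl
theorem F284914 : act 0 n63772 = n63492 := d7_1 D63772 (iv F283771) (iv F282573)
theorem F284915 : act 2 n63772 = n63772 := d22_1 D63772 (iv D63772) F282574
theorem F284916 : act 3 n63772 = n63454 := d28_1 D63772 F283588 F281044 (iv F279502) (iv F282575)
theorem F284917 : act 4 n63772 = n63393 := d33_1 D63772 (iv D63393) (iv F282576)
theorem F284918 : act 5 n63772 = n63291 := d37_1 D63772 (iv D63291) D63290
theorem F284919 : act 6 n63772 = n63452 := d40_1 D63772 F284913 (iv D63771)
theorem F284920 : act 7 n63772 = n63510 := d42_1 D63772 F283860 (iv F282577)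
theorem F284921 : act 9 n63772 = n63453 := d44_2 (iv F282578) D63772 (iv D63453) F280832 D62990
def n63773 : Q := act 6 n63293
theorem D63773 : act 6 n63293 = n63773 := rfl
theorem F284922 : act 0 n63773 = n63294 := d5_1 D63773 (iv D63294) (iv F282592)
theorem F284923 : act 1 n63773 = n63648 := d13_1 D63773 F284464 (iv F282593)
theorem F284924 : act 3 n63773 = n63394 := d26_1 D63773 (iv D63394) (iv F282594)
theorem F284925 : act 5 n63773 = n63573 := d35_1 D63773 F284152 F281586 (iv F279515) D63293
theorem F284926 : act 9 n63773 = n63679 := d41_2 (iv F282596) D63773 F284567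
def n63774 : Q := act 2 n63295
theorem D63774 : act 2 n63295 = n63774 := rfl
theorem F284927 : act 0 n63774 = n63296 := d1_1 D63774 (iv D63296) (iv F282601)
theorem F284928 : act 3 n63774 = n63544 := d17_2 D63295 D63774 (iv D63544) (iv D62974) (iv F279529)
theorem F284929 : act 5 n63774 = n63395 := d19_2 (iv F282603) D63774 (iv D63395)
theorem F284930 : act 6 n63774 = n63559 := d20_2 (iv F282604) D63774 (iv D63559)
theorem F284931 : act 9 n63774 = n63683 := d23_2 (iv F282605) D63774 (iv D63683)
def n63775 : Q := act 8 n63295
theorem D63775 : act 8 n63295 = n63775 := rfl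
theorem F284932 : act 0 n63775 = n63297 := d7_1 D63775 (iv D63297) (iv F282601)
theorem F284933 : act 1 n63775 = n63612 := d15_1 D63775 (iv D63612) (iv F282602)
theorem F284934 : act 3 n63775 = n63320 := d28_1 D63775 (iv D63320) (iv D62683) (iv F279532) D63295
theorem F284935 : act 5 n63775 = n63396 := d37_1 D63775 (iv D63396) (iv F282603)
theorem F284936 : act 6 n63775 = n63560 := d40_1 D63775 (iv D63560) (iv F282604)
def n63776 : Q := act 8 n63296
theorem D63776 : act 8 n63296 = n63776 := rfl
theorem F284937 : act 1 n63776 = n63776 := d15_1 D63776 (iv D63776) F282606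
theorem F284938 : act 2 n63776 = n63297 := d22_1 D63776 (iv D63297) D63296
theorem F284939 : act 3 n63776 = n63667 := d28_1 D63776 F284530 F282304 (iv F281389) (iv F282607)
theorem F284940 : act 5 n63776 = n63397 := d37_1 D63776 (iv D63397) (iv F282608)
theorem F284941 : act 6 n63776 = n63561 := d40_1 D63776 (iv D63561) (iv F282609)
def n63777 : Q := act 9 n63297
theorem D63777 : act 9 n63297 = n63777 := rfl
theorem F284942 : act 1 n63777 = n63298 := d16_1 D63777 (iv D63298) (iv F282611)
theorem F284943 : act 3 n63777 = n63321 := d29_1 D63777 (iv D63321) (iv F282612)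
theorem F284944 : act 5 n63777 = n63398 := d38_1 D63777 (iv D63398) (iv F282613)
theorem F284945 : act 6 n63777 = n63391 := d41_1 D63777 F283213 (iv F282614)
theorem F284946 : act 7 n63777 = n63482 := d43_1 D63777 F284789 F284788
theorem F284947 : act 8 n63777 = n63686 := d44_1 D63777 (iv D63686) (iv D63169) (iv F279537) D63297
def n63778 : Q := act 3 n63299
theorem D63778 : act 3 n63299 = n63778 := rfl
theorem F284948 : act 0 n63778 = n63300 := d2_1 D63778 (iv D63300) (iv F282622)
theorem F284949 : act 1 n63778 = n63593 := d10_1 D63778 (iv D63593) (iv F282623)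
theorem F284950 : act 4 n63778 = n63741 := d24_2 D63299 D63778 (iv D63741) (iv D63258) (iv F279545)
theorem F284951 : act 6 n63778 = n63697 := d26_2 (iv F282625) D63778 (iv D63697)
theorem F284952 : act 7 n63778 = n63315 := d27_2 (iv F282626) D63778 (iv D63315)
theorem F284953 : act 8 n63778 = n63408 := d28_2 (iv F282627) D63778 (iv D63408) F280357 (iv F279583)
theorem F284954 : act 9 n63778 = n63692 := d29_2 (iv F282628) D63778 (iv D63692)
theorem F284955 : act 5 n63669 = n63778 := d37_3 F284953 F283303 D63669
def n63779 : Q := act 5 n63299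
theorem D63779 : act 5 n63299 = n63779 := rfl
theorem F284956 : act 0 n63779 = n63301 := d4_1 D63779 (iv D63301) (iv F282622)
theorem F284957 : act 1 n63779 = n63594 := d12_1 D63779 (iv D63594) (iv F282623)
theorem F284958 : act 2 n63779 = n63567 := d19_1 D63779 F284119 (iv F282624)
theorem F284959 : act 3 n63779 = n63669 := d25_1 D63779 F284955 (iv D63778)
theorem F284960 : act 4 n63779 = n63590 := d30_1 D63779 (iv D63590) (iv D63034) (iv F279546) D63299
theorem F284961 : act 7 n63779 = n63316 := d36_2 (iv F282626) D63779 (iv D63316)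
theorem F284962 : act 8 n63779 = n63303 := d37_2 (iv F282627) D63779 (iv D63303)
theorem F284963 : act 9 n63779 = n63693 := d38_2 (iv F282628) D63779 (iv D63693)
def n63780 : Q := act 2 n63300
theorem D63780 : act 2 n63300 = n63780 := rfl
theorem F284964 : act 1 n63780 = n63780 := d9_1 D63780 (iv D63780) F282629 F279558 (iv F282629)
theorem F284965 : act 3 n63780 = n63688 := d17_2 D63300 D63780 (iv D63688) (iv D63173) (iv F279552)
theorem F284966 : act 4 n63780 = n63742 := d18_2 (iv F282630) D63780 (iv D63742)
theorem F284967 : act 5 n63780 = n63670 := d19_2 F282635 D63780 F284535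
theorem F284968 : act 6 n63780 = n63698 := d20_2 (iv F282631) D63780 (iv D63698)
theorem F284969 : act 7 n63780 = n63317 := d21_2 (iv F282632) D63780 (iv D63317)
theorem F284970 : act 8 n63780 = n63409 := d22_2 (iv F282633) D63780 (iv D63409)
theorem F284971 : act 9 n63780 = n63694 := d23_2 (iv F282634) D63780 (iv D63694)
def n63781 : Q := act 6 n63301
theorem D63781 : act 6 n63301 = n63781 := rfl
theorem F284972 : act 1 n63781 = n63302 := d13_1 D63781 (iv D63302) (iv F282636)
theorem F284973 : act 2 n63781 = n63566 := d20_1 D63781 F284115 (iv F282637)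
theorem F284974 : act 3 n63781 = n63664 := d26_1 D63781 F284522 (iv F282638)
theorem F284975 : act 4 n63781 = n63592 := d31_1 D63781 F284231 (iv F282639)
theorem F284976 : act 5 n63781 = n63651 := d35_1 D63781 F284474 F281997 (iv F279553) D63301
theorem F284977 : act 7 n63781 = n63477 := d39_2 (iv F282640) D63781 F283711 F282040 (iv F279686)
theorem F284978 : act 8 n63781 = n63304 := d40_2 (iv F282641) D63781 (iv D63304)
theorem F284979 : act 9 n63781 = n63650 := d41_2 (iv F282642) D63781 F284471
def n63782 : Q := act 6 n63303
theorem D63782 : act 6 n63303 = n63782 := rfl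
theorem F284980 : act 0 n63782 = n63304 := d5_1 D63782 (iv D63304) (iv F282651)
theorem F284981 : act 1 n63782 = n63380 := d13_1 D63782 F283162 (iv F282652)
theorem F284982 : act 2 n63782 = n63564 := d20_1 D63782 F284107 (iv F282653)
theorem F284983 : act 3 n63782 = n63379 := d26_1 D63782 F283156 (iv F282654)
theorem F284984 : act 4 n63782 = n63589 := d31_1 D63782 F284214 (iv F282655)
theorem F284985 : act 5 n63782 = n63711 := d35_1 D63782 (iv D63711) (iv D63210) (iv F279584) D63303
theorem F284986 : act 7 n63782 = n63474 := d39_2 (iv F282656) D63782 F283698 F282105 (iv F279699)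
theorem F284987 : act 9 n63782 = n63325 := d41_2 (iv F282657) D63782 (iv D63325)
def n63783 : Q := act 3 n63305
theorem D63783 : act 3 n63305 = n63783 := rfl
theorem F284988 : act 0 n63783 = n63306 := d2_1 D63783 (iv D63306) (iv F282665)
theorem F284989 : act 1 n63783 = n63625 := d10_1 D63783 (iv D63625) (iv F282666)
theorem F284990 : act 2 n63783 = n63474 := d17_1 D63783 (iv D63474) F281033 (iv F280682) (iv F282667)
theorem F284991 : act 4 n63783 = n63653 := d24_2 D63305 D63783 F284483 (iv D63165) (iv F279602)
theorem F284992 : act 6 n63783 = n63309 := d26_2 (iv F282668) D63783 (iv D63309)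
theorem F284993 : act 7 n63783 = n63564 := d27_2 (iv F282669) D63783 (iv D63564)
theorem F284994 : act 9 n63783 = n63326 := d29_2 (iv F282671) D63783 (iv D63326)
theorem F284995 : act 5 n63654 = n63783 := d38_3 F284994 (iv F282809) D63654
def n63784 : Q := act 5 n63305
theorem D63784 : act 5 n63305 = n63784 := rfl
theorem F284996 : act 0 n63784 = n63307 := d4_1 D63784 (iv D63307) (iv F282665)
theorem F284997 : act 1 n63784 = n63537 := d12_1 D63784 F283965 (iv F282666)
theorem F284998 : act 2 n63784 = n63438 := d19_1 D63784 (iv D63438) (iv F282667)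
theorem F284999 : act 3 n63784 = n63654 := d25_1 D63784 F284995 (iv D63783)
theorem F285000 : act 4 n63784 = n63507 := d30_1 D63784 (iv D63507) (iv D62924) (iv F279603) D63305
theorem F285001 : act 6 n63784 = n63410 := d35_2 (iv F282668) D63784 (iv D63410) F280374 (iv F279632)
theorem F285002 : act 7 n63784 = n63565 := d36_2 (iv F282669) D63784 (iv D63565)
theorem F285003 : act 8 n63784 = n63524 := d37_2 (iv F282670) D63784 (iv D63524)
theorem F285004 : act 9 n63784 = n63327 := d38_2 (iv F282671) D63784 (iv D63327)
def n63785 : Q := act 8 n63306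
theorem D63785 : act 8 n63306 = n63785 := rfl
theorem F285005 : act 1 n63785 = n63308 := d15_1 D63785 (iv D63308) (iv F282672)
theorem F285006 : act 2 n63785 = n63477 := d22_1 D63785 (iv D63477) (iv F282673)
theorem F285007 : act 3 n63785 = n63527 := d28_1 D63785 (iv D63527) (iv D62948) (iv F279612) D63306
theorem F285008 : act 4 n63785 = n63591 := d33_1 D63785 (iv F284226) (iv F282674)
theorem F285009 : act 5 n63785 = n63628 := d37_1 D63785 F284385 F282678
theorem F285010 : act 6 n63785 = n63310 := d40_1 D63785 (iv D63310) (iv F282675)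
theorem F285011 : act 7 n63785 = n63566 := d42_1 D63785 (iv D63566) (iv F282676)
theorem F285012 : act 9 n63785 = n63483 := d44_2 (iv F282677) D63785 F283730 F281105 (iv F279777)
def n63786 : Q := act 8 n63309
theorem D63786 : act 8 n63309 = n63786 := rfl
theorem F285013 : act 0 n63786 = n63310 := d7_1 D63786 (iv D63310) (iv F282695)
theorem F285014 : act 1 n63786 = n63630 := d15_1 D63786 (iv D63630) (iv F282696)
theorem F285015 : act 2 n63786 = n63658 := d22_1 D63786 F284505 (iv F282697)
theorem F285016 : act 4 n63786 = n63655 := d33_1 D63786 (iv D63655) (iv F282698)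
theorem F285017 : act 5 n63786 = n63411 := d37_1 D63786 (iv D63411) (iv F282699)
theorem F285018 : act 7 n63786 = n63320 := d42_1 D63786 (iv D63320) (iv F282700)
theorem F285019 : act 9 n63786 = n63480 := d44_2 (iv F282701) D63786 F283722 F281101 F279791
def n63787 : Q := act 3 n63311
theorem D63787 : act 3 n63311 = n63787 := rfl
theorem F285020 : act 0 n63787 = n63312 := d2_1 D63787 (iv D63312) (iv F282708)
theorem F285021 : act 1 n63787 = n63741 := d10_1 D63787 (iv D63741) (iv F282709)
theorem F285022 : act 4 n63787 = n63593 := d24_2 D63311 D63787 (iv D63593) (iv D63039) (iv F279649)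
theorem F285023 : act 6 n63787 = n63408 := d26_2 (iv F282711) D63787 (iv D63408)
theorem F285024 : act 7 n63787 = n63692 := d27_2 (iv F282712) D63787 (iv D63692)
theorem F285025 : act 8 n63787 = n63697 := d28_2 (iv F282713) D63787 (iv D63697) F282249 (iv F279875)
theorem F285026 : act 9 n63787 = n63315 := d29_2 (iv F282714) D63787 (iv D63315)
def n63788 : Q := act 5 n63311
theorem D63788 : act 5 n63311 = n63788 := rfl
theorem F285027 : act 0 n63788 = n63313 := d4_1 D63788 (iv D63313) (iv F282708)
theorem F285028 : act 1 n63788 = n63740 := d12_1 D63788 F284740 (iv F282709)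
theorem F285029 : act 2 n63788 = n63389 := d19_1 D63788 (iv D63389) (iv F282710)
theorem F285030 : act 4 n63788 = n63381 := d30_1 D63788 (iv D63381) (iv D62761) (iv F279650) D63311
theorem F285031 : act 6 n63788 = n63661 := d35_2 (iv F282711) D63788 (iv D63661) F282043 (iv F280355)
theorem F285032 : act 7 n63788 = n63693 := d36_2 (iv F282712) D63788 (iv D63693)
theorem F285033 : act 8 n63788 = n63340 := d37_2 (iv F282713) D63788 (iv D63340)
theorem F285034 : act 9 n63788 = n63316 := d38_2 (iv F282714) D63788 (iv D63316)
def n63789 : Q := act 2 n63312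
theorem D63789 : act 2 n63312 = n63789 := rfl
theorem F285035 : act 1 n63789 = n63789 := d9_1 D63789 (iv D63789) F282715 F279662 (iv F282715)
theorem F285036 : act 3 n63789 = n63390 := d17_2 D63312 D63789 (iv D63390) (iv D62770) (iv F279656)
theorem F285037 : act 4 n63789 = n63595 := d18_2 (iv F282716) D63789 (iv D63595)
theorem F285038 : act 6 n63789 = n63409 := d20_2 (iv F282717) D63789 (iv D63409)
theorem F285039 : act 7 n63789 = n63694 := d21_2 (iv F282718) D63789 (iv D63694)
theorem F285040 : act 8 n63789 = n63698 := d22_2 (iv F282719) D63789 (iv D63698)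
theorem F285041 : act 9 n63789 = n63317 := d23_2 (iv F282720) D63789 (iv D63317)
def n63790 : Q := act 5 n63312
theorem D63790 : act 5 n63312 = n63790 := rfl
theorem F285042 : act 1 n63790 = n63314 := d12_1 D63790 (iv D63314) (iv F282715)
theorem F285043 : act 3 n63790 = n63313 := d25_1 D63790 (iv D63313) D63312
theorem F285044 : act 6 n63790 = n63663 := d35_2 (iv F282717) D63790 (iv D63663) F282046 (iv F280360)
theorem F285045 : act 7 n63790 = n63671 := d36_2 (iv F282718) D63790 F284538
theorem F285046 : act 8 n63790 = n63646 := d37_2 (iv F282719) D63790 F284456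
theorem F285047 : act 9 n63790 = n63318 := d38_2 (iv F282720) D63790 (iv D63318)
def n63791 : Q := act 4 n63314
theorem D63791 : act 4 n63314 = n63791 := rfl
theorem F285048 : act 0 n63791 = n63528 := d3_1 D63791 F283932 (iv F282728)
theorem F285049 : act 2 n63791 = n63791 := d18_1 D63791 (iv D63791) F282729
theorem F285050 : act 3 n63791 = n63369 := d24_1 D63791 F283098 F280162 (iv F279670) (iv F282730)
theorem F285051 : act 5 n63791 = n63403 := d30_2 D63314 D63791 F283279 F281610 (iv F279663)
theorem F285052 : act 6 n63791 = n63368 := d31_2 (iv F282731) D63791 F283092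
theorem F285053 : act 7 n63791 = n63485 := d32_2 (iv F282732) D63791 F283739
theorem F285054 : act 8 n63791 = n63402 := d33_2 (iv F282733) D63791 F283272
theorem F285055 : act 9 n63791 = n63319 := d34_2 (iv F282734) D63791 (iv D63319)
def n63792 : Q := act 2 n63315
theorem D63792 : act 2 n63315 = n63792 := rfl
theorem F285056 : act 0 n63792 = n63317 := d1_1 D63792 (iv D63317) (iv F282735)
theorem F285057 : act 3 n63792 = n63690 := d17_2 D63315 D63792 (iv D63690) (iv D63179) (iv F279677)
theorem F285058 : act 6 n63792 = n63673 := d20_2 (iv F282737) D63792 F284542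
theorem F285059 : act 8 n63792 = n63416 := d22_2 (iv F282738) D63792 (iv D63416)
def n63793 : Q := act 5 n63315
theorem D63793 : act 5 n63315 = n63793 := rfl
theorem F285060 : act 0 n63793 = n63318 := d4_1 D63793 (iv D63318) (iv F282735)
theorem F285061 : act 1 n63793 = n63737 := d12_1 D63793 F284732 (iv F282736)
theorem F285062 : act 3 n63793 = n63316 := d25_1 D63793 (iv D63316) D63315
theorem F285063 : act 6 n63793 = n63666 := d35_2 (iv F282737) D63793 (iv D63666) F282057 D63145
theorem F285064 : act 7 n63793 = n63669 := d36_2 F284952 D63793 F284955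
theorem F285065 : act 8 n63793 = n63417 := d37_2 (iv F282738) D63793 (iv D63417)
def n63794 : Q := act 5 n63317
theorem D63794 : act 5 n63317 = n63794 := rfl
theorem F285066 : act 1 n63794 = n63794 := d12_1 D63794 (iv D63794) F282745
theorem F285067 : act 2 n63794 = n63318 := d19_1 D63794 (iv D63318) D63317
theorem F285068 : act 3 n63794 = n63561 := d25_1 D63794 F284089 (iv F282746)
theorem F285069 : act 6 n63794 = n63667 := d35_2 (iv F282747) D63794 (iv D63667) F282062 D63147
theorem F285070 : act 7 n63794 = n63670 := d36_2 F284969 D63794 (iv F284967)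
theorem F285071 : act 8 n63794 = n63418 := d37_2 (iv F282748) D63794 (iv D63418)
def n63795 : Q := act 4 n63318
theorem D63795 : act 4 n63318 = n63795 := rfl
theorem F285072 : act 1 n63795 = n63319 := d11_1 D63795 (iv D63319) (iv F282749)
theorem F285073 : act 3 n63795 = n63566 := d24_1 D63795 F284114 F282196 (iv F279685) (iv F282750)
theorem F285074 : act 6 n63795 = n63551 := d31_2 (iv F282751) D63795 F284042
theorem F285075 : act 7 n63795 = n63527 := d32_2 (iv F282752) D63795 F283929
theorem F285076 : act 8 n63795 = n63419 := d33_2 (iv F282753) D63795 (iv D63419)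
def n63796 : Q := act 9 n63320
theorem D63796 : act 9 n63320 = n63796 := rfl
theorem F285077 : act 0 n63796 = n63321 := d8_1 D63796 (iv D63321) (iv F282760)
theorem F285078 : act 1 n63796 = n63631 := d16_1 D63796 (iv D63631) (iv F282761)
theorem F285079 : act 2 n63796 = n63661 := d23_1 D63796 F284514 (iv F282762)
theorem F285080 : act 4 n63796 = n63394 := d34_1 D63796 F283231 (iv F282763)
theorem F285081 : act 5 n63796 = n63420 := d38_1 D63796 (iv D63420) (iv F282764)
theorem F285082 : act 6 n63796 = n63389 := d41_1 D63796 F283206 (iv F282765)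
theorem F285083 : act 7 n63796 = n63480 := d43_1 D63796 (iv F285019) F285018
theorem F285084 : act 8 n63796 = n63345 := d44_1 D63796 (iv D63345) (iv D62719) (iv F279707) D63320
def n63797 : Q := act 6 n63323
theorem D63797 : act 6 n63323 = n63797 := rfl
theorem F285085 : act 0 n63797 = n63324 := d5_1 D63797 (iv D63324) (iv F282781)
theorem F285086 : act 1 n63797 = n63474 := d13_1 D63797 F283698 (iv F282782)
theorem F285087 : act 2 n63797 = n63573 := d20_1 D63797 F284152 (iv F282783)
theorem F285088 : act 3 n63797 = n63358 := d26_1 D63797 F283027 (iv F282784)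
theorem F285089 : act 4 n63797 = n63325 := d31_1 D63797 (iv D63325) (iv F282785)
theorem F285090 : act 7 n63797 = n63380 := d39_2 (iv F282786) D63797 F283162 F282220 (iv F279917)
theorem F285091 : act 8 n63797 = n63680 := d40_2 (iv F282787) D63797 F284570
theorem F285092 : act 9 n63797 = n63589 := d41_2 (iv F282788) D63797 F284214
def n63798 : Q := act 3 n63329
theorem D63798 : act 3 n63329 = n63798 := rfl
theorem F285093 : act 0 n63798 = n63330 := d2_1 D63798 (iv D63330) (iv F282827)
theorem F285094 : act 1 n63798 = n63660 := d10_1 D63798 (iv D63660) (iv F282828)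
theorem F285095 : act 4 n63798 = n63404 := d24_2 D63329 D63798 (iv D63404) (iv D62784) (iv F279818)
theorem F285096 : act 6 n63798 = n63574 := d26_2 (iv F282830) D63798 (iv D63574)
theorem F285097 : act 7 n63798 = n63599 := d27_2 (iv F282831) D63798 (iv D63599)
theorem F285098 : act 9 n63798 = n63334 := d29_2 (iv F282833) D63798 (iv D63334)
def n63799 : Q := act 5 n63329
theorem D63799 : act 5 n63329 = n63799 := rfl
theorem F285099 : act 0 n63799 = n63331 := d4_1 D63799 (iv D63331) (iv F282827)
theorem F285100 : act 1 n63799 = n63661 := d12_1 D63799 (iv D63661) (iv F282828)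
theorem F285101 : act 2 n63799 = n63384 := d19_1 D63799 (iv D63384) (iv F282829)
theorem F285102 : act 4 n63799 = n63340 := d30_1 D63799 (iv D63340) (iv D62709) (iv F279819) D63329
theorem F285103 : act 6 n63799 = n63740 := d35_2 (iv F282830) D63799 F284740 F282416 (iv F281599)
theorem F285104 : act 7 n63799 = n63600 := d36_2 (iv F282831) D63799 (iv D63600)
theorem F285105 : act 8 n63799 = n63381 := d37_2 (iv F282832) D63799 (iv D63381)
theorem F285106 : act 9 n63799 = n63335 := d38_2 (iv F282833) D63799 (iv D63335)
def n63800 : Q := act 2 n63330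
theorem D63800 : act 2 n63330 = n63800 := rfl
theorem F285107 : act 1 n63800 = n63800 := d9_1 D63800 (iv D63800) F282834 F279831 (iv F282834)
theorem F285108 : act 3 n63800 = n63385 := d17_2 D63330 D63800 (iv D63385) (iv D62766) (iv F279825)
theorem F285109 : act 4 n63800 = n63405 := d18_2 (iv F282835) D63800 (iv D63405)
theorem F285110 : act 6 n63800 = n63575 := d20_2 (iv F282836) D63800 (iv D63575)
theorem F285111 : act 7 n63800 = n63601 := d21_2 (iv F282837) D63800 (iv D63601)
theorem F285112 : act 9 n63800 = n63336 := d23_2 (iv F282838) D63800 (iv D63336)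
def n63801 : Q := act 5 n63330
theorem D63801 : act 5 n63330 = n63801 := rfl
theorem F285113 : act 1 n63801 = n63332 := d12_1 D63801 (iv D63332) (iv F282834)
theorem F285114 : act 3 n63801 = n63331 := d25_1 D63801 (iv D63331) D63330
theorem F285115 : act 4 n63801 = n63588 := d30_1 D63801 F284209 F282286 (iv F280337) (iv F282835)
theorem F285116 : act 6 n63801 = n63739 := d35_2 (iv F282836) D63801 F284738 F282420 (iv F281604)
theorem F285117 : act 7 n63801 = n63602 := d36_2 (iv F282837) D63801 (iv D63602)
theorem F285118 : act 9 n63801 = n63337 := d38_2 (iv F282838) D63801 (iv D63337)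
def n63802 : Q := act 8 n63330
theorem D63802 : act 8 n63330 = n63802 := rfl
theorem F285119 : act 1 n63802 = n63333 := d15_1 D63802 (iv D63333) (iv F282834)
theorem F285120 : act 3 n63802 = n63382 := d28_1 D63802 (iv D63382) (iv D62762) (iv F279828) D63330
theorem F285121 : act 4 n63802 = n63406 := d33_1 D63802 (iv D63406) (iv F282835)
theorem F285122 : act 6 n63802 = n63576 := d40_1 D63802 (iv D63576) (iv F282836)
theorem F285123 : act 7 n63802 = n63603 := d42_1 D63802 (iv D63603) (iv F282837)
def n63803 : Q := act 8 n63332
theorem D63803 : act 8 n63332 = n63803 := rfl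
theorem F285124 : act 0 n63803 = n63510 := d7_1 D63803 F283860 (iv F282846)
theorem F285125 : act 2 n63803 = n63803 := d22_1 D63803 (iv D63803) F282847
theorem F285126 : act 3 n63803 = n63364 := d28_1 D63803 F283068 F280162 (iv F279841) (iv F282848)
theorem F285127 : act 4 n63803 = n63375 := d33_1 D63803 F283137 (iv F282849)
theorem F285128 : act 5 n63803 = n63333 := d37_1 D63803 (iv D63333) D63332
theorem F285129 : act 6 n63803 = n63363 := d40_1 D63803 F283061 (iv F282850)
theorem F285130 : act 7 n63803 = n63492 := d42_1 D63803 (iv F283771) (iv F282851)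
theorem F285131 : act 9 n63803 = n63464 := d44_2 (iv F282852) D63803 F283642 F281023 F279865
def n63804 : Q := act 2 n63334
theorem D63804 : act 2 n63334 = n63804 := rfl
theorem F285132 : act 0 n63804 = n63336 := d1_1 D63804 (iv D63336) (iv F282859)
theorem F285133 : act 3 n63804 = n63682 := d17_2 D63334 D63804 (iv D63682) (iv D63163) (iv F279845)
theorem F285134 : act 4 n63804 = n63428 := d18_2 (iv F282861) D63804 (iv D63428)
theorem F285135 : act 6 n63804 = n63577 := d20_2 (iv F282862) D63804 (iv D63577)
theorem F285136 : act 7 n63804 = n63703 := d21_2 (iv F282863) D63804 (iv D63703)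
def n63805 : Q := act 5 n63334
theorem D63805 : act 5 n63334 = n63805 := rfl
theorem F285137 : act 0 n63805 = n63337 := d4_1 D63805 (iv D63337) (iv F282859)
theorem F285138 : act 1 n63805 = n63666 := d12_1 D63805 (iv D63666) (iv F282860)
theorem F285139 : act 3 n63805 = n63335 := d25_1 D63805 (iv D63335) D63334
theorem F285140 : act 4 n63805 = n63586 := d30_1 D63805 F284201 F282290 (iv F280520) (iv F282861)
theorem F285141 : act 6 n63805 = n63737 := d35_2 (iv F282862) D63805 F284732 F282423 (iv F281614)
theorem F285142 : act 7 n63805 = n63607 := d36_2 (iv F282863) D63805 F284294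
theorem F285143 : act 8 n63580 = n63805 := d46_0 (iv D63805) F282861 (iv D62815) F276587 (iv F278059) F278058 (iv F276937) F276934 (iv D61030) F267449 F262592 (iv D57523) F253023 F247221 (iv F248600) D56694 D57874 F259532 (iv F259605) (iv F264331) D60331 F269391 F265472 F260738 (iv F258832) (iv F261479) F261478 (iv D57587) (iv F257686) F257685 F257684 F252547 F246235 F241942 D54043 (iv F249482) F249481 D56866 D58039 D59230 D60452 (iv F272937) F272935 F269453 F264514 F259796 (iv F260400) (iv D58136) F255557 (iv F254935) F254934 (iv F255377) (iv F260236) (iv D58067) (iv F260216) (iv F263744) (iv F268699) D61305 D62288 F278183 (iv F281632) (iv F284177)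
def n63806 : Q := act 8 n63334
theorem D63806 : act 8 n63334 = n63806 := rfl
theorem F285144 : act 0 n63806 = n63338 := d7_1 D63806 (iv D63338) (iv F282859)
theorem F285145 : act 1 n63806 = n63632 := d15_1 D63806 F284405 (iv F282860)
theorem F285146 : act 3 n63806 = n63343 := d28_1 D63806 (iv D63343) (iv D62714) (iv F279848) D63334
theorem F285147 : act 4 n63806 = n63429 := d33_1 D63806 (iv D63429) (iv F282861)
theorem F285148 : act 5 n63806 = n63580 := d37_1 D63806 F285143 (iv D63805)
theorem F285149 : act 6 n63806 = n63578 := d40_1 D63806 (iv D63578) (iv F282862)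
theorem F285150 : act 7 n63806 = n63606 := d42_1 D63806 (iv F284290) (iv F282863)
def n63807 : Q := act 5 n63336
theorem D63807 : act 5 n63336 = n63807 := rfl
theorem F285151 : act 1 n63807 = n63807 := d12_1 D63807 (iv D63807) F282871
theorem F285152 : act 2 n63807 = n63337 := d19_1 D63807 (iv D63337) D63336
theorem F285153 : act 3 n63807 = n63579 := d25_1 D63807 F284176 (iv F282872)
theorem F285154 : act 4 n63807 = n63587 := d30_1 D63807 F284205 F282293 (iv F280524) (iv F282873)
theorem F285155 : act 6 n63807 = n63738 := d35_2 (iv F282874) D63807 F284735 F282425 (iv F281616)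
theorem F285156 : act 7 n63807 = n63610 := d36_2 (iv F282875) D63807 F284304
theorem F285157 : act 8 n63581 = n63807 := d42_0 F285156 (iv D63610) (iv F284186)
def n63808 : Q := act 8 n63336
theorem D63808 : act 8 n63336 = n63808 := rfl
theorem F285158 : act 1 n63808 = n63808 := d15_1 D63808 (iv D63808) F282871
theorem F285159 : act 2 n63808 = n63338 := d22_1 D63808 (iv D63338) D63336
theorem F285160 : act 3 n63808 = n63738 := d28_1 D63808 (iv D63738) F282403 (iv F282153) (iv F282872)
theorem F285161 : act 4 n63808 = n63430 := d33_1 D63808 (iv D63430) (iv F282873)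
theorem F285162 : act 5 n63808 = n63581 := d37_1 D63808 F285157 (iv D63807)
theorem F285163 : act 6 n63808 = n63579 := d40_1 D63808 (iv D63579) (iv F282874)
theorem F285164 : act 7 n63808 = n63609 := d42_1 D63808 (iv F284300) (iv F282875)
def n63809 : Q := act 9 n63338
theorem D63809 : act 9 n63338 = n63809 := rfl
theorem F285165 : act 1 n63809 = n63339 := d16_1 D63809 (iv D63339) (iv F282882)
theorem F285166 : act 3 n63809 = n63344 := d29_1 D63809 (iv D63344) (iv F282883)
theorem F285167 : act 4 n63809 = n63431 := d34_1 D63809 (iv D63431) (iv F282884)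
theorem F285168 : act 5 n63809 = n63471 := d38_1 D63809 F283688 (iv F282885)
theorem F285169 : act 6 n63809 = n63386 := d41_1 D63809 F283189 (iv F282886)
theorem F285170 : act 7 n63809 = n63489 := d43_1 D63809 F283757 (iv F282887)
def n63810 : Q := act 6 n63340
theorem D63810 : act 6 n63340 = n63810 := rfl
theorem F285171 : act 0 n63810 = n63341 := d5_1 D63810 (iv D63341) (iv F282895)
theorem F285172 : act 1 n63810 = n63381 := d13_1 D63810 F283166 (iv F282896)
theorem F285173 : act 2 n63810 = n63345 := d20_1 D63810 F282934 (iv F282897)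
theorem F285174 : act 3 n63810 = n63711 := d26_1 D63810 (iv D63711) (iv F282898)
theorem F285175 : act 4 n63810 = n63740 := d31_1 D63810 (iv F285103) F285102
theorem F285176 : act 5 n63810 = n63379 := d35_1 D63810 F283156 (iv D62790) (iv F279876) D63340
theorem F285177 : act 8 n63810 = n63661 := d40_2 F285033 D63810 (iv F285031)
theorem F285178 : act 9 n63810 = n63342 := d41_2 (iv F282900) D63810 (iv D63342)
theorem F285179 : act 7 n63475 = n63810 := d43_3 F285178 (iv F282916) (iv F283702)
def n63811 : Q := act 9 n63343
theorem D63811 : act 9 n63343 = n63811 := rfl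
theorem F285180 : act 0 n63811 = n63344 := d8_1 D63811 (iv D63344) (iv F282917)
theorem F285181 : act 1 n63811 = n63633 := d16_1 D63811 (iv D63633) (iv F282918)
theorem F285182 : act 2 n63811 = n63740 := d23_1 D63811 (iv D63740) (iv F282919)
theorem F285183 : act 4 n63811 = n63345 := d34_1 D63811 (iv D63345) (iv F282920)
theorem F285184 : act 5 n63811 = n63470 := d38_1 D63811 F283683 (iv F282921)
theorem F285185 : act 6 n63811 = n63384 := d41_1 D63811 F283182 (iv F282922)
theorem F285186 : act 7 n63811 = n63487 := d43_1 D63811 F283749 (iv F282923)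
theorem F285187 : act 8 n63811 = n63394 := d44_1 D63811 F283231 (iv D63155) (iv F279910) D63343
def n63812 : Q := act 3 n63346
theorem D63812 : act 3 n63346 = n63812 := rfl
theorem F285188 : act 0 n63812 = n63347 := d2_1 D63812 (iv D63347) (iv F282936)
theorem F285189 : act 1 n63812 = n63441 := d10_1 D63812 (iv D63441) (iv F282937)
theorem F285190 : act 4 n63812 = n63716 := d24_2 D63346 D63812 (iv D63716) (iv D63220) (iv F279959)
theorem F285191 : act 5 n63812 = n63472 := d25_2 (iv F282939) D63812 (iv D63472)
theorem F285192 : act 6 n63812 = n63519 := d26_2 (iv F282940) D63812 (iv D63519)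
theorem F285193 : act 7 n63812 = n63439 := d27_2 (iv F282941) D63812 (iv D63439)
theorem F285194 : act 8 n63812 = n63460 := d28_2 (iv F282942) D63812 (iv D63460) F280894 (iv F280608)
theorem F285195 : act 9 n63812 = n63542 := d29_2 (iv F282943) D63812 (iv D63542)
def n63813 : Q := act 2 n63347
theorem D63813 : act 2 n63347 = n63813 := rfl
theorem F285196 : act 1 n63813 = n63813 := d9_1 D63813 (iv D63813) F282944 F279973 (iv F282944)
theorem F285197 : act 3 n63813 = n63355 := d17_2 D63347 D63813 (iv D63355) (iv D62733) (iv F279966)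
theorem F285198 : act 4 n63813 = n63718 := d18_2 (iv F282945) D63813 (iv D63718)
theorem F285199 : act 5 n63813 = n63473 := d19_2 (iv F282946) D63813 (iv D63473)
theorem F285200 : act 6 n63813 = n63521 := d20_2 (iv F282947) D63813 (iv D63521)
theorem F285201 : act 7 n63813 = n63440 := d21_2 (iv F282948) D63813 (iv D63440)
theorem F285202 : act 8 n63813 = n63462 := d22_2 (iv F282949) D63813 (iv D63462)
theorem F285203 : act 9 n63813 = n63543 := d23_2 (iv F282950) D63813 (iv D63543)
def n63814 : Q := act 2 n63348
theorem D63814 : act 2 n63348 = n63814 := rfl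
theorem F285204 : act 0 n63814 = n63349 := d1_1 D63814 (iv D63349) (iv F282951)
theorem F285205 : act 3 n63814 = n63559 := d17_2 D63348 D63814 (iv D63559) (iv D62994) (iv F279990)
theorem F285206 : act 4 n63814 = n63547 := d18_2 (iv F282953) D63814 (iv D63547)
theorem F285207 : act 5 n63814 = n63731 := d19_2 (iv F282954) D63814 (iv D63731)
theorem F285208 : act 6 n63814 = n63544 := d20_2 (iv F282955) D63814 (iv D63544)
theorem F285209 : act 7 n63814 = n63727 := d21_2 (iv F282956) D63814 (iv D63727)
theorem F285210 : act 8 n63814 = n63713 := d22_2 (iv F282957) D63814 (iv D63713)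
theorem F285211 : act 9 n63814 = n63640 := d23_2 (iv F282958) D63814 F284433
def n63815 : Q := act 2 n63350
theorem D63815 : act 2 n63350 = n63815 := rfl
theorem F285212 : act 0 n63815 = n63351 := d1_1 D63815 (iv D63351) (iv F282967)
theorem F285213 : act 3 n63815 = n63548 := d17_2 D63350 D63815 (iv D63548) (iv D62981) (iv F280005)
theorem F285214 : act 4 n63815 = n63714 := d18_2 (iv F282969) D63815 (iv D63714)
theorem F285215 : act 5 n63815 = n63611 := d19_2 (iv F282970) D63815 (iv D63611)
theorem F285216 : act 6 n63815 = n63731 := d20_2 (iv F282971) D63815 (iv D63731)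
theorem F285217 : act 7 n63815 = n63725 := d21_2 (iv F282972) D63815 (iv D63725)
theorem F285218 : act 8 n63815 = n63700 := d22_2 (iv F282973) D63815 (iv D63700)
theorem F285219 : act 9 n63815 = n63681 := d23_2 (iv F282974) D63815 (iv D63681)
def n63816 : Q := act 2 n63352
theorem D63816 : act 2 n63352 = n63816 := rfl
theorem F285220 : act 0 n63816 = n63353 := d1_1 D63816 (iv D63353) (iv F282983)
theorem F285221 : act 3 n63816 = n63577 := d17_2 D63352 D63816 (iv D63577) (iv D63020) (iv F280020)
theorem F285222 : act 4 n63816 = n63701 := d18_2 (iv F282985) D63816 (iv D63701)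
theorem F285223 : act 5 n63816 = n63736 := d19_2 (iv F282986) D63816 (iv D63736)
theorem F285224 : act 6 n63816 = n63682 := d20_2 (iv F282987) D63816 (iv D63682)
theorem F285225 : act 7 n63816 = n63744 := d21_2 (iv F282988) D63816 (iv D63744)
theorem F285226 : act 8 n63816 = n63743 := d22_2 (iv F282989) D63816 (iv D63743)
theorem F285227 : act 9 n63816 = n63691 := d23_2 (iv F282990) D63816 (iv D63691)
def n63817 : Q := act 2 n63354
theorem D63817 : act 2 n63354 = n63817 := rfl
theorem F285228 : act 0 n63817 = n63355 := d1_1 D63817 (iv D63355) (iv F282999)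
theorem F285229 : act 4 n63817 = n63665 := d18_2 (iv F283001) D63817 (iv D63665)
theorem F285230 : act 5 n63817 = n63724 := d19_2 (iv F283002) D63817 (iv D63724)
theorem F285231 : act 6 n63817 = n63529 := d20_2 (iv F283003) D63817 (iv D63529)
theorem F285232 : act 7 n63817 = n63683 := d21_2 (iv F283004) D63817 (iv D63683)
def n63818 : Q := act 8 n63354
theorem D63818 : act 8 n63354 = n63818 := rfl
theorem F285233 : act 0 n63818 = n63356 := d7_1 D63818 (iv D63356) (iv F282999)
theorem F285234 : act 1 n63818 = n63429 := d15_1 D63818 (iv D63429) (iv F283000)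
theorem F285235 : act 3 n63818 = n63520 := d28_1 D63818 F283904 F281274 (iv F280038) D63354
theorem F285236 : act 4 n63818 = n63632 := d33_1 D63818 F284405 (iv F283001)
theorem F285237 : act 5 n63818 = n63519 := d37_1 D63818 F283897 (iv F283002)
theorem F285238 : act 6 n63818 = n63531 := d40_1 D63818 (iv D63531) (iv F283003)
theorem F285239 : act 7 n63818 = n63684 := d42_1 D63818 (iv D63684) (iv F283004)
def n63819 : Q := act 8 n63355
theorem D63819 : act 8 n63355 = n63819 := rfl
theorem F285240 : act 1 n63819 = n63819 := d15_1 D63819 (iv D63819) F283005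
theorem F285241 : act 2 n63819 = n63356 := d22_1 D63819 (iv D63356) D63355
theorem F285242 : act 4 n63819 = n63618 := d33_1 D63819 F284334 (iv F283006)
theorem F285243 : act 5 n63819 = n63521 := d37_1 D63819 F283909 (iv F283007)
theorem F285244 : act 6 n63819 = n63533 := d40_1 D63819 (iv D63533) (iv F283008)
theorem F285245 : act 7 n63819 = n63685 := d42_1 D63819 (iv D63685) (iv F283009)
theorem F285246 : act 3 n63819 = n63532 := d45_2 F284782 D63819 (iv D63532) F281298 (iv F282028) F282027 (iv D63127) (iv D62412) (iv F278050) F278049 (iv F275962) F275963 (iv D61695) F270180 (iv D59415) (iv D58225) (iv D57052) (iv F254400) (iv D56640) F248399 (iv F248411) F248410 (iv F251943) F251941 F245402 F241774 (iv D52140) F224541 (iv F224004) D52053 F233372 F224010 F214047 F188465 D45212 D48153 D50338 F225433 F215751 F189057 F135073 F135072 (iv F206998) D48603 F217003 F218278 F218274 F208511 (iv F209118) (iv F218872) F218871 (iv F222542) F222543 (iv D47491) F179290 F203186 (iv F131961) (iv F188461) F197904 F131489 F91798 F64232 (iv F91617) D30993 D45212 F188540 F131305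 (iv D30995) F91624 (iv F131248) D45195 D48148 D50334 F225421 (iv F225592) (iv F234768) D54187 (iv F249783) D56948 (iv F260357) (iv F263048) (iv F267960) F267956 (iv F268188) D61207 D62213 (iv F281373) D63543 (iv F284777)
def n63820 : Q := act 9 n63356
theorem D63820 : act 9 n63356 = n63820 := rfl
theorem F285247 : act 1 n63820 = n63357 := d16_1 D63820 (iv D63357) (iv F283010)
theorem F285248 : act 3 n63820 = n63434 := d29_1 D63820 F283459 (iv F283011)
theorem F285249 : act 4 n63820 = n63634 := d34_1 D63820 (iv D63634) (iv F283012)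
theorem F285250 : act 5 n63820 = n63433 := d38_1 D63820 F283452 (iv F283013)
theorem F285251 : act 6 n63820 = n63535 := d41_1 D63820 (iv D63535) (iv F283014)
theorem F285252 : act 7 n63820 = n63686 := d43_1 D63820 (iv D63686) (iv F283015)
theorem F285253 : act 8 n63820 = n63482 := d44_1 D63820 F284789 (iv D63753) F282478 D63356
def n63821 : Q := act 5 n63358
theorem D63821 : act 5 n63358 = n63821 := rfl
theorem F285254 : act 0 n63821 = n63359 := d4_1 D63821 (iv D63359) (iv F283024)
theorem F285255 : act 1 n63821 = n63475 := d12_1 D63821 (iv D63475) (iv F283025)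
theorem F285256 : act 2 n63821 = n63370 := d19_1 D63821 (iv D63370) (iv F283026)
theorem F285257 : act 4 n63821 = n63693 := d30_1 D63821 (iv D63693) (iv D63184) (iv F280063) D63358
theorem F285258 : act 7 n63821 = n63381 := d36_2 (iv F283028) D63821 (iv D63381)
theorem F285259 : act 8 n63821 = n63600 := d37_2 (iv F283029) D63821 (iv D63600)
theorem F285260 : act 9 n63821 = n63590 := d38_2 (iv F283030) D63821 (iv D63590)
def n63822 : Q := act 3 n63360
theorem D63822 : act 3 n63360 = n63822 := rfl
theorem F285261 : act 0 n63822 = n63361 := d2_1 D63822 (iv D63361) (iv F283037)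
theorem F285262 : act 1 n63822 = n63697 := d10_1 D63822 (iv D63697) (iv F283038)
theorem F285263 : act 4 n63822 = n63408 := d24_2 D63360 D63822 (iv D63408) (iv D62788) (iv F280082)
theorem F285264 : act 6 n63822 = n63593 := d26_2 (iv F283040) D63822 (iv D63593)
theorem F285265 : act 7 n63822 = n63383 := d27_2 (iv F283041) D63822 (iv D63383)
theorem F285266 : act 8 n63822 = n63741 := d28_2 (iv F283042) D63822 (iv D63741) F282417 (iv F280152)
theorem F285267 : act 9 n63822 = n63675 := d29_2 (iv F283043) D63822 F284550
def n63823 : Q := act 5 n63360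
theorem D63823 : act 5 n63360 = n63823 := rfl
theorem F285268 : act 0 n63823 = n63362 := d4_1 D63823 (iv D63362) (iv F283037)
theorem F285269 : act 1 n63823 = n63652 := d12_1 D63823 F284478 (iv F283038)
theorem F285270 : act 2 n63823 = n63600 := d19_1 D63823 (iv D63600) (iv F283039)
theorem F285271 : act 4 n63823 = n63536 := d30_1 D63823 (iv D63536) F281317 (iv F280083) D63360
theorem F285272 : act 7 n63823 = n63384 := d36_2 (iv F283041) D63823 (iv D63384)
theorem F285273 : act 8 n63823 = n63370 := d37_2 (iv F283042) D63823 (iv D63370)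
theorem F285274 : act 9 n63823 = n63538 := d38_2 (iv F283043) D63823 F283971
def n63824 : Q := act 2 n63361
theorem D63824 : act 2 n63361 = n63824 := rfl
theorem F285275 : act 1 n63824 = n63824 := d9_1 D63824 (iv D63824) F283044 F280095 (iv F283044)
theorem F285276 : act 3 n63824 = n63601 := d17_2 D63361 D63824 (iv D63601) (iv D63049) (iv F280089)
theorem F285277 : act 4 n63824 = n63409 := d18_2 (iv F283045) D63824 (iv D63409)
theorem F285278 : act 6 n63824 = n63595 := d20_2 (iv F283046) D63824 (iv D63595)
theorem F285279 : act 7 n63824 = n63385 := d21_2 (iv F283047) D63824 (iv D63385)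
theorem F285280 : act 8 n63824 = n63742 := d22_2 (iv F283048) D63824 (iv D63742)
theorem F285281 : act 9 n63824 = n63677 := d23_2 (iv F283049) D63824 F284557
def n63825 : Q := act 5 n63361
theorem D63825 : act 5 n63361 = n63825 := rfl
theorem F285282 : act 1 n63825 = n63363 := d12_1 D63825 (iv D63363) (iv F283044)
theorem F285283 : act 3 n63825 = n63362 := d25_1 D63825 (iv D63362) D63361
theorem F285284 : act 4 n63825 = n63526 := d30_1 D63825 (iv D63526) F281282 (iv F280360) (iv F283045)
theorem F285285 : act 7 n63825 = n63386 := d36_2 (iv F283047) D63825 (iv D63386)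
theorem F285286 : act 8 n63825 = n63739 := d37_2 (iv F283048) D63825 F284738
theorem F285287 : act 9 n63825 = n63534 := d38_2 (iv F283049) D63825 F283950
def n63826 : Q := act 6 n63362
theorem D63826 : act 6 n63362 = n63826 := rfl
theorem F285288 : act 1 n63826 = n63364 := d13_1 D63826 (iv D63364) (iv F283050)
theorem F285289 : act 2 n63826 = n63604 := d20_1 D63826 (iv D63604) (iv F283051)
theorem F285290 : act 4 n63826 = n63495 := d31_1 D63826 F283786 (iv F283052)
theorem F285291 : act 5 n63826 = n63382 := d35_1 D63826 F283171 (iv D63041) (iv F280090) D63362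
theorem F285292 : act 7 n63826 = n63491 := d39_2 (iv F283053) D63826 (iv D63491) (iv F282929) F282928
theorem F285293 : act 8 n63826 = n63371 := d40_2 (iv F283054) D63826 (iv D63371)
theorem F285294 : act 9 n63826 = n63540 := d41_2 (iv F283055) D63826 (iv D63540)
def n63827 : Q := act 3 n63365
theorem D63827 : act 3 n63365 = n63827 := rfl
theorem F285295 : act 0 n63827 = n63366 := d2_1 D63827 (iv D63366) (iv F283070)
theorem F285296 : act 1 n63827 = n63708 := d10_1 D63827 (iv D63708) (iv F283071)
theorem F285297 : act 4 n63827 = n63376 := d24_2 D63365 D63827 (iv D63376) (iv D62756) (iv F280117)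
theorem F285298 : act 6 n63827 = n63695 := d26_2 (iv F283073) D63827 (iv D63695)
theorem F285299 : act 7 n63827 = n63388 := d27_2 (iv F283074) D63827 (iv D63388)
theorem F285300 : act 8 n63827 = n63506 := d28_2 (iv F283075) D63827 (iv D63506) F281181 D62959
theorem F285301 : act 9 n63827 = n63687 := d29_2 (iv F283076) D63827 (iv D63687)
def n63828 : Q := act 5 n63365
theorem D63828 : act 5 n63365 = n63828 := rfl
theorem F285302 : act 0 n63828 = n63367 := d4_1 D63828 (iv D63367) (iv F283070)
theorem F285303 : act 1 n63828 = n63629 := d12_1 D63828 F284388 (iv F283071)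
theorem F285304 : act 2 n63828 = n63693 := d19_1 D63828 (iv D63693) (iv F283072)
theorem F285305 : act 4 n63828 = n63370 := d30_1 D63828 (iv D63370) (iv D62749) (iv F280118) D63365
theorem F285306 : act 7 n63828 = n63389 := d36_2 (iv F283074) D63828 (iv D63389)
theorem F285307 : act 8 n63828 = n63536 := d37_2 (iv F283075) D63828 (iv D63536)
theorem F285308 : act 9 n63828 = n63567 := d38_2 (iv F283076) D63828 F284119
def n63829 : Q := act 2 n63366
theorem D63829 : act 2 n63366 = n63829 := rfl
theorem F285309 : act 1 n63829 = n63829 := d9_1 D63829 (iv D63829) F283077 F280130 (iv F283077)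
theorem F285310 : act 3 n63829 = n63694 := d17_2 D63366 D63829 (iv D63694) (iv D63185) (iv F280124)
theorem F285311 : act 4 n63829 = n63377 := d18_2 (iv F283078) D63829 (iv D63377)
theorem F285312 : act 6 n63829 = n63696 := d20_2 (iv F283079) D63829 (iv D63696)
theorem F285313 : act 7 n63829 = n63390 := d21_2 (iv F283080) D63829 (iv D63390)
theorem F285314 : act 8 n63829 = n63508 := d22_2 (iv F283081) D63829 (iv D63508)
theorem F285315 : act 9 n63829 = n63688 := d23_2 (iv F283082) D63829 (iv D63688)
def n63830 : Q := act 5 n63366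
theorem D63830 : act 5 n63366 = n63830 := rfl
theorem F285316 : act 1 n63830 = n63368 := d12_1 D63830 (iv D63368) (iv F283077)
theorem F285317 : act 3 n63830 = n63367 := d25_1 D63830 (iv D63367) D63366
theorem F285318 : act 4 n63830 = n63663 := d30_1 D63830 (iv D63663) (iv F282474) F282475 (iv F283078)
theorem F285319 : act 7 n63830 = n63391 := d36_2 (iv F283080) D63830 (iv D63391)
theorem F285320 : act 8 n63830 = n63509 := d37_2 (iv F283081) D63830 (iv D63509)
theorem F285321 : act 9 n63830 = n63551 := d38_2 (iv F283082) D63830 F284043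
def n63831 : Q := act 6 n63367
theorem D63831 : act 6 n63367 = n63831 := rfl
theorem F285322 : act 1 n63831 = n63369 := d13_1 D63831 (iv D63369) (iv F283083)
theorem F285323 : act 2 n63831 = n63650 := d20_1 D63831 F284471 (iv F283084)
theorem F285324 : act 4 n63831 = n63371 := d31_1 D63831 (iv D63371) (iv F283085)
theorem F285325 : act 5 n63831 = n63598 := d35_1 D63831 F284259 F281866 (iv F280125) D63367
theorem F285326 : act 7 n63831 = n63483 := d39_2 (iv F283086) D63831 (iv D63483) (iv F282771) F282770
theorem F285327 : act 8 n63831 = n63495 := d40_2 (iv F283087) D63831 F283786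
theorem F285328 : act 9 n63831 = n63566 := d41_2 (iv F283088) D63831 F284115
def n63832 : Q := act 6 n63370
theorem D63832 : act 6 n63370 = n63832 := rfl
theorem F285329 : act 0 n63832 = n63371 := d5_1 D63832 (iv D63371) (iv F283103)
theorem F285330 : act 1 n63832 = n63711 := d13_1 D63832 (iv D63711) (iv F283104)
theorem F285331 : act 3 n63832 = n63381 := d26_1 D63832 F283166 (iv F283105)
theorem F285332 : act 5 n63832 = n63380 := d35_1 D63832 F283162 F282219 (iv F280153) D63370
theorem F285333 : act 9 n63832 = n63689 := d41_2 (iv F283107) D63832 (iv D63689)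
def n63833 : Q := act 3 n63372
theorem D63833 : act 3 n63372 = n63833 := rfl
theorem F285334 : act 0 n63833 = n63373 := d2_1 D63833 (iv D63373) (iv F283112)
theorem F285335 : act 1 n63833 = n63506 := d10_1 D63833 (iv D63506) (iv F283113)
theorem F285336 : act 4 n63833 = n63695 := d24_2 D63372 D63833 (iv D63695) (iv D63188) (iv F280167)
theorem F285337 : act 6 n63833 = n63376 := d26_2 (iv F283115) D63833 (iv D63376)
theorem F285338 : act 7 n63833 = n63620 := d27_2 (iv F283116) D63833 (iv D63620)
theorem F285339 : act 8 n63833 = n63708 := d28_2 (iv F283117) D63833 (iv D63708) F282283 (iv F280373)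
theorem F285340 : act 9 n63833 = n63460 := d29_2 (iv F283118) D63833 (iv D63460)
def n63834 : Q := act 5 n63372
theorem D63834 : act 5 n63372 = n63834 := rfl
theorem F285341 : act 0 n63834 = n63374 := d4_1 D63834 (iv D63374) (iv F283112)
theorem F285342 : act 1 n63834 = n63507 := d12_1 D63834 (iv D63507) (iv F283113)
theorem F285343 : act 2 n63834 = n63541 := d19_1 D63834 F283988 (iv F283114)
theorem F285344 : act 4 n63834 = n63537 := d30_1 D63834 F283965 (iv D63074) (iv F280168) D63372
theorem F285345 : act 6 n63834 = n63524 := d35_2 (iv F283115) D63834 (iv D63524) (iv F282469) F282468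
theorem F285346 : act 7 n63834 = n63515 := d36_2 (iv F283116) D63834 F283876
theorem F285347 : act 8 n63834 = n63410 := d37_2 (iv F283117) D63834 (iv D63410)
theorem F285348 : act 9 n63834 = n63461 := d38_2 (iv F283118) D63834 (iv D63461)
def n63835 : Q := act 2 n63373
theorem D63835 : act 2 n63373 = n63835 := rfl
theorem F285349 : act 1 n63835 = n63835 := d9_1 D63835 (iv D63835) F283119 F280180 (iv F283119)
theorem F285350 : act 3 n63835 = n63583 := d17_2 D63373 D63835 (iv D63583) (iv D63028) (iv F280174)
theorem F285351 : act 4 n63835 = n63696 := d18_2 (iv F283120) D63835 (iv D63696)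
theorem F285352 : act 6 n63835 = n63377 := d20_2 (iv F283121) D63835 (iv D63377)
theorem F285353 : act 7 n63835 = n63621 := d21_2 (iv F283122) D63835 (iv D63621)
theorem F285354 : act 8 n63835 = n63709 := d22_2 (iv F283123) D63835 (iv D63709)
theorem F285355 : act 9 n63835 = n63462 := d23_2 (iv F283124) D63835 (iv D63462)
def n63836 : Q := act 5 n63373
theorem D63836 : act 5 n63373 = n63836 := rfl
theorem F285356 : act 1 n63836 = n63375 := d12_1 D63836 (iv D63375) (iv F283119)
theorem F285357 : act 3 n63836 = n63374 := d25_1 D63836 (iv D63374) D63373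
theorem F285358 : act 6 n63836 = n63526 := d35_2 (iv F283121) D63836 (iv D63526) (iv F282476) F282475
theorem F285359 : act 7 n63836 = n63499 := d36_2 (iv F283122) D63836 F283802
theorem F285360 : act 8 n63836 = n63588 := d37_2 (iv F283123) D63836 F284209
theorem F285361 : act 9 n63836 = n63463 := d38_2 (iv F283124) D63836 (iv D63463)
def n63837 : Q := act 2 n63376
theorem D63837 : act 2 n63376 = n63837 := rfl
theorem F285362 : act 0 n63837 = n63377 := d1_1 D63837 (iv D63377) (iv F283139)
theorem F285363 : act 3 n63837 = n63585 := d17_2 D63376 D63837 (iv D63585) (iv D63030) (iv F280195)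
theorem F285364 : act 7 n63837 = n63395 := d21_2 (iv F283141) D63837 (iv D63395)
theorem F285365 : act 9 n63837 = n63724 := d23_2 (iv F283142) D63837 (iv D63724)
def n63838 : Q := act 8 n63376
theorem D63838 : act 8 n63376 = n63838 := rfl
theorem F285366 : act 0 n63838 = n63378 := d7_1 D63838 (iv D63378) (iv F283139)
theorem F285367 : act 1 n63838 = n63695 := d15_1 D63838 F284624 (iv F283140)
theorem F285368 : act 3 n63838 = n63411 := d28_1 D63838 (iv D63411) (iv D62793) (iv F280197) D63376
theorem F285369 : act 4 n63838 = n63506 := d33_1 D63838 (iv F285300) F285297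
theorem F285370 : act 6 n63838 = n63708 := d40_1 D63838 (iv F285339) F285337
theorem F285371 : act 7 n63838 = n63396 := d42_1 D63838 (iv D63396) (iv F283141)
theorem F285372 : act 9 n63479 = n63838 := d41_0 F285370 F284657 (iv F283720)
def n63839 : Q := act 8 n63377
theorem D63839 : act 8 n63377 = n63839 := rfl
theorem F285373 : act 1 n63839 = n63839 := d15_1 D63839 (iv D63839) F283143
theorem F285374 : act 2 n63839 = n63378 := d22_1 D63839 (iv D63378) D63377
theorem F285375 : act 4 n63839 = n63508 := d33_1 D63839 (iv F285314) F285311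
theorem F285376 : act 6 n63839 = n63709 := d40_1 D63839 (iv F285354) F285352
theorem F285377 : act 7 n63839 = n63397 := d42_1 D63839 (iv D63397) (iv F283145)
theorem F285378 : act 9 n63481 = n63839 := d45_0 (iv D63839) F283144 (iv F283998) F283997 (iv F283818) F283817 (iv D63502) (iv D62919) (iv F281141) F281140 (iv F279802) (iv F279807) (iv F280249) (iv F283188) F283187 F280253 F280254 F276275 (iv D61297) (iv D60127) F263667 (iv D58273) F255827 D57100 (iv F260145) (iv F264857) F264860 (iv F264996) (iv F269478) F269479 F264493 (iv F264877) (iv D59227) (iv D58036) (iv D56864) (iv F255190) (iv D56839) (iv F255184) (iv F256954) F256953 F251535 F251533 F244992 F237431 (iv D51137) (iv D49057) F209707 F207701 (iv F208844) F208843 F175829 F124306 F86896 (iv F124098) D42595 D47225 F211375 (iv F210890) (iv D47119) F199417 F123935 D42531 D47147 D49325 F220972 (iv F228548) (iv D51068) (iv D48989) (iv F219113) (iv F228458) D52946 F236992 (iv F244458) (iv D54598) (iv F244372) (iv F251005) D57243 F256481 D57250 F256525 (iv F256377) (iv F261072) (iv F265788) (iv F270677)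 D61794 D62650 (iv F282562) D63767 F284884
theorem F285379 : act 3 n63839 = n63659 := d29_1 F285378 (iv F284888) F284884
def n63840 : Q := act 8 n63380
theorem D63840 : act 8 n63380 = n63840 := rfl
theorem F285380 : act 0 n63840 = n63382 := d7_1 D63840 (iv D63382) (iv F283160)
theorem F285381 : act 2 n63840 = n63608 := d22_1 D63840 F284797 F284792
theorem F285382 : act 4 n63840 = n63597 := d33_1 D63840 (iv D63597) (iv F283161)
theorem F285383 : act 6 n63840 = n63594 := d40_1 D63840 F284240 (iv F283162)
theorem F285384 : act 7 n63840 = n63680 := d42_1 D63840 (iv F285091) F285090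
def n63841 : Q := act 2 n63383
theorem D63841 : act 2 n63383 = n63841 := rfl
theorem F285385 : act 0 n63841 = n63385 := d1_1 D63841 (iv D63385) (iv F283173)
theorem F285386 : act 4 n63841 = n63416 := d18_2 (iv F283175) D63841 (iv D63416)
theorem F285387 : act 6 n63841 = n63691 := d20_2 (iv F283176) D63841 (iv D63691)
theorem F285388 : act 9 n63841 = n63682 := d23_2 (iv F283177) D63841 (iv D63682)
def n63842 : Q := act 5 n63383
theorem D63842 : act 5 n63383 = n63842 := rfl
theorem F285389 : act 0 n63842 = n63386 := d4_1 D63842 (iv D63386) (iv F283173)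
theorem F285390 : act 1 n63842 = n63676 := d12_1 D63842 F284555 (iv F283174)
theorem F285391 : act 3 n63842 = n63384 := d25_1 D63842 (iv D63384) D63383
theorem F285392 : act 9 n63842 = n63578 := d38_2 (iv F283177) D63842 F284173
def n63843 : Q := act 5 n63385
theorem D63843 : act 5 n63385 = n63843 := rfl
theorem F285393 : act 1 n63843 = n63843 := d12_1 D63843 (iv D63843) F283183
theorem F285394 : act 2 n63843 = n63386 := d19_1 D63843 (iv D63386) D63385
theorem F285395 : act 9 n63843 = n63579 := d38_2 (iv F283186) D63843 F284176
def n63844 : Q := act 4 n63386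
theorem D63844 : act 4 n63386 = n63844 := rfl
theorem F285396 : act 1 n63844 = n63387 := d11_1 D63844 (iv D63387) (iv F283187)
theorem F285397 : act 3 n63844 = n63468 := d24_1 D63844 F283666 F280993 (iv F280249) (iv F283188)
theorem F285398 : act 5 n63844 = n63419 := d30_2 D63386 D63844 (iv D63419) (iv D62802) (iv F280245)
theorem F285399 : act 6 n63844 = n63431 := d31_2 F285169 D63844 (iv F285167)
theorem F285400 : act 7 n63844 = n63526 := d32_2 F285285 D63844 (iv F285284)
theorem F285401 : act 9 n63844 = n63427 := d34_2 (iv F283189) D63844 F283420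
def n63845 : Q := act 2 n63388
theorem D63845 : act 2 n63388 = n63845 := rfl
theorem F285402 : act 0 n63845 = n63390 := d1_1 D63845 (iv D63390) (iv F283197)
theorem F285403 : act 4 n63845 = n63395 := d18_2 (iv F283199) D63845 (iv D63395)
theorem F285404 : act 6 n63845 = n63734 := d20_2 (iv F283200) D63845 (iv D63734)
theorem F285405 : act 9 n63845 = n63690 := d23_2 (iv F283201) D63845 (iv D63690)
def n63846 : Q := act 5 n63388
theorem D63846 : act 5 n63388 = n63846 := rfl
theorem F285406 : act 0 n63846 = n63391 := d4_1 D63846 (iv D63391) (iv F283197)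
theorem F285407 : act 1 n63846 = n63617 := d12_1 D63846 F284329 (iv F283198)
theorem F285408 : act 3 n63846 = n63389 := d25_1 D63846 (iv D63389) D63388
theorem F285409 : act 9 n63846 = n63560 := d38_2 (iv F283201) D63846 F284086
def n63847 : Q := act 8 n63388
theorem D63847 : act 8 n63388 = n63847 := rfl
theorem F285410 : act 0 n63847 = n63392 := d7_1 D63847 (iv D63392) (iv F283197)
theorem F285411 : act 1 n63847 = n63620 := d15_1 D63847 F284341 (iv F283198)
theorem F285412 : act 3 n63847 = n63500 := d28_1 D63847 F283810 (iv F282821) F282824 D63388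
theorem F285413 : act 4 n63847 = n63396 := d33_1 D63847 (iv D63396) (iv F283199)
theorem F285414 : act 6 n63847 = n63562 := d40_1 D63847 F284095 (iv F283200)
theorem F285415 : act 7 n63847 = n63506 := d42_1 D63847 (iv F285300) F285299
theorem F285416 : act 9 n63847 = n63501 := d44_2 (iv F283201) D63847 F283816 F282374 (iv F282212)
def n63848 : Q := act 5 n63390
theorem D63848 : act 5 n63390 = n63848 := rfl
theorem F285417 : act 1 n63848 = n63848 := d12_1 D63848 (iv D63848) F283207
theorem F285418 : act 2 n63848 = n63391 := d19_1 D63848 (iv D63391) D63390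
theorem F285419 : act 9 n63848 = n63561 := d38_2 (iv F283210) D63848 F284089
def n63849 : Q := act 8 n63390
theorem D63849 : act 8 n63390 = n63849 := rfl
theorem F285420 : act 1 n63849 = n63849 := d15_1 D63849 (iv D63849) F283207
theorem F285421 : act 2 n63849 = n63392 := d22_1 D63849 (iv D63392) D63390
theorem F285422 : act 4 n63849 = n63397 := d33_1 D63849 (iv D63397) (iv F283208)
theorem F285423 : act 6 n63849 = n63563 := d40_1 D63849 F284102 (iv F283209)
theorem F285424 : act 7 n63849 = n63508 := d42_1 D63849 (iv F285314) F285313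
theorem F285425 : act 9 n63849 = n63502 := d44_2 (iv F283210) D63849 F283821 F282378 (iv F282216)
theorem F285426 : act 3 n63718 = n63849 := d29_3 F285425 F283818 (iv F284683)
def n63850 : Q := act 8 n63391
theorem D63850 : act 8 n63391 = n63850 := rfl
theorem F285427 : act 1 n63850 = n63393 := d15_1 D63850 (iv D63393) (iv F283211)
theorem F285428 : act 3 n63850 = n63466 := d28_1 D63850 F283656 F280993 (iv F280266) (iv F283212)
theorem F285429 : act 5 n63850 = n63392 := d37_1 D63850 (iv D63392) D63391
theorem F285430 : act 6 n63850 = n63686 := d40_1 D63850 (iv F284947) F284945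
theorem F285431 : act 7 n63850 = n63509 := d42_1 D63850 (iv F285320) F285319
theorem F285432 : act 9 n63850 = n63459 := d44_2 (iv F283213) D63850 (iv D63459) F280875 D62996
def n63851 : Q := act 1 n63395
theorem D63851 : act 1 n63395 = n63851 := rfl
theorem F285433 : act 0 n63851 = n63851 := d0_1 D63851 (iv D63851) F283232 F280289 (iv F283232)
theorem F285434 : act 3 n63851 = n63615 := d10_2 (iv F283233) D63851 (iv D63615)
theorem F285435 : act 6 n63851 = n63735 := d13_2 (iv F283234) D63851 (iv D63735)
theorem F285436 : act 9 n63851 = n63747 := d16_2 (iv F283235) D63851 (iv D63747)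
def n63852 : Q := act 8 n63395
theorem D63852 : act 8 n63395 = n63852 := rfl
theorem F285437 : act 0 n63852 = n63397 := d7_1 D63852 (iv D63397) (iv F283232)
theorem F285438 : act 2 n63852 = n63396 := d22_1 D63852 (iv D63396) D63395
theorem F285439 : act 6 n63852 = n63656 := d40_1 D63852 F284496 (iv F283234)
theorem F285440 : act 3 n63665 = n63852 := d26_3 F285439 F284494 (iv F284524)
def n63853 : Q := act 9 n63396
theorem D63853 : act 9 n63396 = n63853 := rfl
theorem F285441 : act 0 n63853 = n63398 := d8_1 D63853 (iv D63398) (iv F283236)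
theorem F285442 : act 1 n63853 = n63635 := d16_1 D63853 F284419 (iv F283237)
theorem F285443 : act 3 n63853 = n63420 := d29_1 D63853 (iv D63420) (iv F283238)
theorem F285444 : act 4 n63853 = n63501 := d34_1 D63853 (iv F285416) F285413
theorem F285445 : act 6 n63853 = n63568 := d41_1 D63853 F284127 (iv F283239)
theorem F285446 : act 7 n63853 = n63479 := d43_1 D63853 F285372 F285371
theorem F285447 : act 8 n63853 = n63720 := d44_1 D63853 F284689 F282346 (iv F280288) D63396
def n63854 : Q := act 9 n63397
theorem D63854 : act 9 n63397 = n63854 := rfl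
theorem F285448 : act 1 n63854 = n63854 := d16_1 D63854 (iv D63854) F283240
theorem F285449 : act 2 n63854 = n63398 := d23_1 D63854 (iv D63398) (iv F283241)
theorem F285450 : act 3 n63854 = n63662 := d29_1 D63854 F284517 F283243
theorem F285451 : act 4 n63854 = n63502 := d34_1 D63854 (iv F285425) F285422
theorem F285452 : act 6 n63854 = n63569 := d41_1 D63854 F284134 (iv F283242)
theorem F285453 : act 7 n63854 = n63481 := d43_1 D63854 F285378 F285377
theorem F285454 : act 8 n63854 = n63722 := d44_1 D63854 F284696 F282353 (iv F280292) D63397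
def n63855 : Q := act 3 n63399
theorem D63855 : act 3 n63399 = n63855 := rfl
theorem F285455 : act 0 n63855 = n63400 := d2_1 D63855 (iv D63400) (iv F283250)
theorem F285456 : act 1 n63855 = n63523 := d10_1 D63855 (iv D63523) (iv F283251)
theorem F285457 : act 4 n63855 = n63574 := d24_2 D63399 D63855 (iv D63574) (iv D63017) (iv F280305)
theorem F285458 : act 6 n63855 = n63404 := d26_2 (iv F283253) D63855 (iv D63404)
theorem F285459 : act 7 n63855 = n63582 := d27_2 (iv F283254) D63855 (iv D63582)
theorem F285460 : act 9 n63855 = n63423 := d29_2 (iv F283256) D63855 (iv D63423)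
def n63856 : Q := act 5 n63399
theorem D63856 : act 5 n63399 = n63856 := rfl
theorem F285461 : act 0 n63856 = n63401 := d4_1 D63856 (iv D63401) (iv F283250)
theorem F285462 : act 1 n63856 = n63524 := d12_1 D63856 (iv D63524) (iv F283251)
theorem F285463 : act 2 n63856 = n63515 := d19_1 D63856 F283876 (iv F283252)
theorem F285464 : act 4 n63856 = n63410 := d30_1 D63856 (iv D63410) (iv D62791) (iv F280306) D63399
theorem F285465 : act 6 n63856 = n63507 := d35_2 (iv F283253) D63856 (iv D63507) F281180 (iv F280332)
theorem F285466 : act 7 n63856 = n63541 := d36_2 (iv F283254) D63856 F283988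
theorem F285467 : act 8 n63856 = n63537 := d37_2 (iv F283255) D63856 F283965
theorem F285468 : act 9 n63856 = n63424 := d38_2 (iv F283256) D63856 (iv D63424)
def n63857 : Q := act 2 n63400
theorem D63857 : act 2 n63400 = n63857 := rfl
theorem F285469 : act 1 n63857 = n63857 := d9_1 D63857 (iv D63857) F283257 F280318 (iv F283257)
theorem F285470 : act 3 n63857 = n63621 := d17_2 D63400 D63857 (iv D63621) (iv D63070) (iv F280312)
theorem F285471 : act 4 n63857 = n63575 := d18_2 (iv F283258) D63857 (iv D63575)
theorem F285472 : act 6 n63857 = n63405 := d20_2 (iv F283259) D63857 (iv D63405)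
theorem F285473 : act 7 n63857 = n63583 := d21_2 (iv F283260) D63857 (iv D63583)
theorem F285474 : act 9 n63857 = n63425 := d23_2 (iv F283261) D63857 (iv D63425)
def n63858 : Q := act 5 n63400
theorem D63858 : act 5 n63400 = n63858 := rfl
theorem F285475 : act 1 n63858 = n63402 := d12_1 D63858 (iv D63402) (iv F283257)
theorem F285476 : act 3 n63858 = n63401 := d25_1 D63858 (iv D63401) D63400
theorem F285477 : act 4 n63858 = n63646 := d30_1 D63858 F284456 F282252 (iv F281604) (iv F283258)
theorem F285478 : act 6 n63858 = n63509 := d35_2 (iv F283259) D63858 (iv D63509) F281184 (iv F280337)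
theorem F285479 : act 7 n63858 = n63535 := d36_2 (iv F283260) D63858 F283956
theorem F285480 : act 9 n63858 = n63426 := d38_2 (iv F283261) D63858 (iv D63426)
def n63859 : Q := act 8 n63400
theorem D63859 : act 8 n63400 = n63859 := rfl
theorem F285481 : act 1 n63859 = n63403 := d15_1 D63859 (iv D63403) (iv F283257)
theorem F285482 : act 3 n63859 = n63598 := d28_1 D63859 F284261 (iv D63075) (iv F280315) D63400
theorem F285483 : act 4 n63859 = n63576 := d33_1 D63859 (iv D63576) (iv F283258)
theorem F285484 : act 6 n63859 = n63406 := d40_1 D63859 (iv D63406) (iv F283259)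
theorem F285485 : act 7 n63859 = n63584 := d42_1 D63859 (iv D63584) (iv F283260)
def n63860 : Q := act 2 n63404
theorem D63860 : act 2 n63404 = n63860 := rfl
theorem F285486 : act 0 n63860 = n63405 := d1_1 D63860 (iv D63405) (iv F283282)
theorem F285487 : act 3 n63860 = n63622 := d17_2 D63404 D63860 (iv D63622) (iv D63071) (iv F280331)
theorem F285488 : act 5 n63860 = n63725 := d19_2 (iv F283283) D63860 (iv D63725)
theorem F285489 : act 7 n63860 = n63611 := d21_2 (iv F283284) D63860 (iv D63611)
theorem F285490 : act 9 n63860 = n63428 := d23_2 (iv F283285) D63860 (iv D63428)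
def n63861 : Q := act 8 n63404
theorem D63861 : act 8 n63404 = n63861 := rfl
theorem F285491 : act 0 n63861 = n63406 := d7_1 D63861 (iv D63406) (iv F283282)
theorem F285492 : act 3 n63861 = n63630 := d28_1 D63861 (iv D63630) (iv D63084) (iv F280334) D63404
theorem F285493 : act 5 n63861 = n63695 := d37_1 D63861 F284624 (iv F283283)
theorem F285494 : act 7 n63861 = n63612 := d42_1 D63861 (iv D63612) (iv F283284)
def n63862 : Q := act 8 n63405
theorem D63862 : act 8 n63405 = n63862 := rfl
theorem F285495 : act 1 n63862 = n63862 := d15_1 D63862 (iv D63862) F283286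
theorem F285496 : act 2 n63862 = n63406 := d22_1 D63862 (iv D63406) D63405
theorem F285497 : act 3 n63862 = n63645 := d28_1 D63862 (iv D63645) F284366 (iv D63624) (iv F283287)
theorem F285498 : act 5 n63862 = n63696 := d37_1 D63862 F284628 (iv F283288)
theorem F285499 : act 7 n63862 = n63613 := d42_1 D63862 (iv D63613) (iv F283289)
def n63863 : Q := act 9 n63406
theorem D63863 : act 9 n63406 = n63863 := rfl
theorem F285500 : act 1 n63863 = n63407 := d16_1 D63863 (iv D63407) (iv F283291)
theorem F285501 : act 3 n63863 = n63447 := d29_1 D63863 F283545 (iv F283292)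
theorem F285502 : act 5 n63863 = n63446 := d38_1 D63863 F283539 (iv F283293)
theorem F285503 : act 7 n63863 = n63614 := d43_1 D63863 (iv D63614) (iv F283294)
theorem F285504 : act 8 n63863 = n63431 := d44_1 D63863 (iv D63431) (iv D62817) (iv F280339) D63406
def n63864 : Q := act 2 n63408
theorem D63864 : act 2 n63408 = n63864 := rfl
theorem F285505 : act 0 n63864 = n63409 := d1_1 D63864 (iv D63409) (iv F283301)
theorem F285506 : act 3 n63864 = n63734 := d17_2 D63408 D63864 (iv D63734) (iv D63249) (iv F280354)
theorem F285507 : act 5 n63864 = n63668 := d19_2 (iv F283303) D63864 (iv D63668)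
theorem F285508 : act 7 n63864 = n63416 := d21_2 (iv F283304) D63864 (iv D63416)
theorem F285509 : act 9 n63864 = n63673 := d23_2 (iv F283305) D63864 F284542
def n63865 : Q := act 2 n63412
theorem D63865 : act 2 n63412 = n63865 := rfl
theorem F285510 : act 0 n63865 = n63413 := d1_1 D63865 (iv D63413) (iv F283324)
theorem F285511 : act 3 n63865 = n63416 := d17_2 D63412 D63865 (iv D63416) (iv D62799) (iv F280397)
theorem F285512 : act 4 n63865 = n63622 := d18_2 (iv F283326) D63865 (iv D63622)
theorem F285513 : act 5 n63865 = n63713 := d19_2 (iv F283327) D63865 (iv D63713)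
theorem F285514 : act 6 n63865 = n63700 := d20_2 (iv F283328) D63865 (iv D63700)
theorem F285515 : act 7 n63865 = n63734 := d21_2 (iv F283329) D63865 (iv D63734)
theorem F285516 : act 8 n63865 = n63731 := d22_2 (iv F283330) D63865 (iv D63731)
theorem F285517 : act 9 n63865 = n63637 := d23_2 (iv F283331) D63865 (iv D63637)
def n63866 : Q := act 2 n63414
theorem D63866 : act 2 n63414 = n63866 := rfl
theorem F285518 : act 0 n63866 = n63415 := d1_1 D63866 (iv D63415) (iv F283340)
theorem F285519 : act 3 n63866 = n63637 := d17_2 D63414 D63866 (iv D63637) (iv D63095) (iv F280412)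
theorem F285520 : act 4 n63866 = n63682 := d18_2 (iv F283342) D63866 (iv D63682)
theorem F285521 : act 5 n63866 = n63643 := d19_2 (iv F283343) D63866 (iv D63643)
theorem F285522 : act 6 n63866 = n63701 := d20_2 (iv F283344) D63866 (iv D63701)
theorem F285523 : act 7 n63866 = n63673 := d21_2 (iv F283345) D63866 F284542
theorem F285524 : act 8 n63866 = n63699 := d22_2 (iv F283346) D63866 (iv D63699)
theorem F285525 : act 9 n63866 = n63416 := d23_2 (iv F283347) D63866 (iv D63416)
def n63867 : Q := act 1 n63416
theorem D63867 : act 1 n63416 = n63867 := rfl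
theorem F285526 : act 0 n63867 = n63867 := d0_1 D63867 (iv D63867) F283356 F280435 (iv F283356)
theorem F285527 : act 6 n63867 = n63702 := d13_2 (iv F283357) D63867 (iv D63702)
def n63868 : Q := act 5 n63416
theorem D63868 : act 5 n63416 = n63868 := rfl
theorem F285528 : act 0 n63868 = n63418 := d4_1 D63868 (iv D63418) (iv F283356)
theorem F285529 : act 2 n63868 = n63417 := d19_1 D63868 (iv D63417) D63416
theorem F285530 : act 3 n63868 = n63713 := d25_1 D63868 (iv F285513) F285511
theorem F285531 : act 7 n63868 = n63668 := d36_2 F285508 D63868 (iv F285507)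
theorem F285532 : act 9 n63868 = n63643 := d38_2 F285525 D63868 (iv F285521)
theorem F285533 : act 6 n63712 = n63868 := d26_0 F285530 F284671 (iv F284668)
def n63869 : Q := act 4 n63417
theorem D63869 : act 4 n63417 = n63869 := rfl
theorem F285534 : act 0 n63869 = n63419 := d3_1 D63869 (iv D63419) (iv F283358)
theorem F285535 : act 1 n63869 = n63582 := d11_1 D63869 F284188 (iv F283359)
theorem F285536 : act 3 n63869 = n63516 := d24_1 D63869 (iv D63516) F281213 (iv F280430) (iv F283360)
theorem F285537 : act 6 n63869 = n63549 := d31_2 F283363 D63869 F284031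
theorem F285538 : act 7 n63869 = n63523 := d32_2 (iv F283361) D63869 F283917
theorem F285539 : act 9 n63869 = n63517 := d34_2 (iv F283362) D63869 F283886
def n63870 : Q := act 4 n63418
theorem D63870 : act 4 n63418 = n63870 := rfl
theorem F285540 : act 1 n63870 = n63870 := d11_1 D63870 (iv D63870) F283364
theorem F285541 : act 2 n63870 = n63419 := d18_1 D63870 (iv D63419) (iv F283365)
theorem F285542 : act 3 n63870 = n63722 := d24_1 D63870 F284694 F282376 (iv F282310) (iv F283366)
theorem F285543 : act 6 n63870 = n63550 := d31_2 F283369 D63870 F284036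
theorem F285544 : act 7 n63870 = n63525 := d32_2 (iv F283367) D63870 F283923
theorem F285545 : act 9 n63870 = n63518 := d34_2 (iv F283368) D63870 F283890
def n63871 : Q := act 3 n63421
theorem D63871 : act 3 n63421 = n63871 := rfl
theorem F285546 : act 0 n63871 = n63422 := d2_1 D63871 (iv D63422) (iv F283382)
theorem F285547 : act 1 n63871 = n63517 := d10_1 D63871 (iv D63517) (iv F283383)
theorem F285548 : act 4 n63871 = n63571 := d24_2 D63421 D63871 (iv D63571) (iv D63010) (iv F280470)
theorem F285549 : act 5 n63871 = n63531 := d25_2 (iv F283385) D63871 F283941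
theorem F285550 : act 6 n63871 = n63472 := d26_2 (iv F283386) D63871 (iv D63472)
theorem F285551 : act 7 n63871 = n63423 := d27_2 (iv F283387) D63871 (iv D63423)
theorem F285552 : act 8 n63871 = n63530 := d28_2 (iv F283388) D63871 F283939 F281296 (iv F280885)
theorem F285553 : act 9 n63871 = n63582 := d29_2 (iv F283389) D63871 (iv D63582)
def n63872 : Q := act 2 n63422
theorem D63872 : act 2 n63422 = n63872 := rfl
theorem F285554 : act 1 n63872 = n63872 := d9_1 D63872 (iv D63872) F283390 F280484 (iv F283390)
theorem F285555 : act 3 n63872 = n63462 := d17_2 D63422 D63872 (iv D63462) (iv D62870) (iv F280477)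
theorem F285556 : act 4 n63872 = n63572 := d18_2 (iv F283391) D63872 (iv D63572)
theorem F285557 : act 5 n63872 = n63533 := d19_2 (iv F283392) D63872 F283946
theorem F285558 : act 6 n63872 = n63473 := d20_2 (iv F283393) D63872 (iv D63473)
theorem F285559 : act 7 n63872 = n63425 := d21_2 (iv F283394) D63872 (iv D63425)
theorem F285560 : act 8 n63872 = n63532 := d22_2 (iv F283395) D63872 F283944
theorem F285561 : act 9 n63872 = n63583 := d23_2 (iv F283396) D63872 (iv D63583)
def n63873 : Q := act 2 n63423
theorem D63873 : act 2 n63423 = n63873 := rfl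
theorem F285562 : act 0 n63873 = n63425 := d1_1 D63873 (iv D63425) (iv F283397)
theorem F285563 : act 3 n63873 = n63638 := d17_2 D63423 D63873 (iv D63638) (iv D63098) (iv F280493)
theorem F285564 : act 4 n63873 = n63577 := d18_2 (iv F283399) D63873 (iv D63577)
theorem F285565 : act 6 n63873 = n63428 := d20_2 (iv F283400) D63873 (iv D63428)
def n63874 : Q := act 5 n63423
theorem D63874 : act 5 n63423 = n63874 := rfl
theorem F285566 : act 0 n63874 = n63426 := d4_1 D63874 (iv D63426) (iv F283397)
theorem F285567 : act 1 n63874 = n63530 := d12_1 D63874 (iv D63530) (iv F283398)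
theorem F285568 : act 3 n63874 = n63424 := d25_1 D63874 (iv D63424) D63423
theorem F285569 : act 4 n63874 = n63644 := d30_1 D63874 F284448 F282256 (iv F281614) (iv F283399)
theorem F285570 : act 6 n63874 = n63512 := d35_2 (iv F283400) D63874 (iv D63512) F281193 (iv F280520)
theorem F285571 : act 7 n63874 = n63531 := d36_2 F285551 D63874 (iv F285549)
theorem F285572 : act 8 n63517 = n63874 := d42_0 F285571 (iv D63531) (iv F283887)
def n63875 : Q := act 8 n63423
theorem D63875 : act 8 n63423 = n63875 := rfl
theorem F285573 : act 0 n63875 = n63427 := d7_1 D63875 (iv D63427) (iv F283397)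
theorem F285574 : act 1 n63875 = n63531 := d15_1 D63875 (iv D63531) (iv F283398)
theorem F285575 : act 3 n63875 = n63467 := d28_1 D63875 (iv D63467) (iv D62879) (iv F280495) D63423
theorem F285576 : act 4 n63875 = n63578 := d33_1 D63875 (iv D63578) (iv F283399)
theorem F285577 : act 5 n63875 = n63517 := d37_1 D63875 F285572 (iv D63874)
theorem F285578 : act 6 n63875 = n63429 := d40_1 D63875 (iv D63429) (iv F283400)
theorem F285579 : act 7 n63875 = n63530 := d42_1 D63875 (iv F285552) F285551
def n63876 : Q := act 5 n63425
theorem D63876 : act 5 n63425 = n63876 := rfl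
theorem F285580 : act 1 n63876 = n63876 := d12_1 D63876 (iv D63876) F283408
theorem F285581 : act 2 n63876 = n63426 := d19_1 D63876 (iv D63426) D63425
theorem F285582 : act 3 n63876 = n63498 := d25_1 D63876 F283798 (iv F283409)
theorem F285583 : act 4 n63876 = n63645 := d30_1 D63876 F284452 F282259 (iv F281616) (iv F283410)
theorem F285584 : act 6 n63876 = n63513 := d35_2 (iv F283411) D63876 (iv D63513) F281197 (iv F280524)
theorem F285585 : act 7 n63876 = n63533 := d36_2 F285559 D63876 (iv F285557)
theorem F285586 : act 8 n63518 = n63876 := d42_0 F285585 (iv D63533) (iv F283892)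
def n63877 : Q := act 8 n63425
theorem D63877 : act 8 n63425 = n63877 := rfl
theorem F285587 : act 1 n63877 = n63877 := d15_1 D63877 (iv D63877) F283408
theorem F285588 : act 2 n63877 = n63427 := d22_1 D63877 (iv D63427) D63425
theorem F285589 : act 3 n63877 = n63685 := d28_1 D63877 (iv D63685) (iv F283494) F283497 (iv F283409)
theorem F285590 : act 4 n63877 = n63579 := d33_1 D63877 (iv D63579) (iv F283410)
theorem F285591 : act 5 n63877 = n63518 := d37_1 D63877 F285586 (iv D63876)
theorem F285592 : act 6 n63877 = n63430 := d40_1 D63877 (iv D63430) (iv F283411)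
theorem F285593 : act 7 n63877 = n63532 := d42_1 D63877 (iv F285560) F285559
def n63878 : Q := act 1 n63428
theorem D63878 : act 1 n63428 = n63878 := rfl
theorem F285594 : act 0 n63878 = n63878 := d0_1 D63878 (iv D63878) F283424 F280522 (iv F283424)
theorem F285595 : act 3 n63878 = n63639 := d10_2 (iv F283425) D63878 (iv D63639)
theorem F285596 : act 5 n63878 = n63726 := d12_2 (iv F283426) D63878 (iv D63726)
theorem F285597 : act 7 n63878 = n63704 := d14_2 (iv F283427) D63878 (iv D63704)
def n63879 : Q := act 8 n63428
theorem D63879 : act 8 n63428 = n63879 := rfl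
theorem F285598 : act 0 n63879 = n63430 := d7_1 D63879 (iv D63430) (iv F283424)
theorem F285599 : act 2 n63879 = n63429 := d22_1 D63879 (iv D63429) D63428
theorem F285600 : act 5 n63879 = n63719 := d37_1 D63879 F284685 (iv F283426)
theorem F285601 : act 7 n63879 = n63705 := d42_1 D63879 (iv D63705) (iv F283427)
def n63880 : Q := act 9 n63429
theorem D63880 : act 9 n63429 = n63880 := rfl
theorem F285602 : act 0 n63880 = n63431 := d8_1 D63880 (iv D63431) (iv F283428)
theorem F285603 : act 3 n63880 = n63717 := d29_1 D63880 F284680 (iv F283429)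
theorem F285604 : act 5 n63880 = n63716 := d38_1 D63880 F284677 (iv F283430)
theorem F285605 : act 7 n63880 = n63706 := d43_1 D63880 (iv D63706) (iv F283431)
def n63881 : Q := act 3 n63430
theorem D63881 : act 3 n63430 = n63881 := rfl
theorem F285606 : act 1 n63881 = n63881 := d10_1 D63881 (iv D63881) F283432
theorem F285607 : act 2 n63881 = n63459 := d17_1 D63881 F283614 F280927 (iv F280527) (iv F283433)
theorem F285608 : act 5 n63881 = n63502 := d25_2 (iv F283434) D63881 F283818
theorem F285609 : act 6 n63881 = n63685 := d26_2 F285592 D63881 (iv F285589)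
theorem F285610 : act 7 n63881 = n63513 := d27_2 (iv F283435) D63881 F283868
theorem F285611 : act 8 n63881 = n63458 := d28_2 D63430 D63881 F283608 (iv D63102) (iv F280523)
def n63882 : Q := act 9 n63430
theorem D63882 : act 9 n63430 = n63882 := rfl
theorem F285612 : act 1 n63882 = n63882 := d16_1 D63882 (iv D63882) F283432
theorem F285613 : act 2 n63882 = n63431 := d23_1 D63882 (iv D63431) (iv F283433)
theorem F285614 : act 5 n63882 = n63718 := d38_1 D63882 F284683 (iv F283434)
theorem F285615 : act 7 n63882 = n63707 := d43_1 D63882 (iv D63707) (iv F283435)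
def n63883 : Q := act 3 n63432
theorem D63883 : act 3 n63432 = n63883 := rfl
theorem F285616 : act 0 n63883 = n63433 := d2_1 D63883 (iv D63433) (iv F283440)
theorem F285617 : act 1 n63883 = n63716 := d10_1 D63883 (iv D63716) (iv F283441)
theorem F285618 : act 4 n63883 = n63441 := d24_2 D63432 D63883 (iv D63441) (iv D62843) (iv F280624)
theorem F285619 : act 6 n63883 = n63542 := d26_2 (iv F283443) D63883 (iv D63542)
theorem F285620 : act 7 n63883 = n63720 := d27_2 (iv F283444) D63883 (iv D63720)
theorem F285621 : act 8 n63883 = n63479 := d28_2 (iv F283445) D63883 (iv D63479) F281067 (iv F280682)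
theorem F285622 : act 9 n63883 = n63519 := d29_2 (iv F283446) D63883 (iv D63519)
def n63884 : Q := act 5 n63432
theorem D63884 : act 5 n63432 = n63884 := rfl
theorem F285623 : act 0 n63884 = n63434 := d4_1 D63884 (iv D63434) (iv F283440)
theorem F285624 : act 1 n63884 = n63717 := d12_1 D63884 (iv D63717) (iv F283441)
theorem F285625 : act 2 n63884 = n63524 := d19_1 D63884 (iv D63524) (iv F283442)
theorem F285626 : act 4 n63884 = n63522 := d30_1 D63884 (iv D63522) (iv D62943) (iv F280625) D63432
theorem F285627 : act 6 n63884 = n63541 := d35_2 (iv F283443) D63884 F283988 F281637 (iv F281370)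
theorem F285628 : act 7 n63884 = n63721 := d36_2 (iv F283444) D63884 (iv D63721)
theorem F285629 : act 8 n63884 = n63438 := d37_2 (iv F283445) D63884 (iv D63438)
theorem F285630 : act 9 n63884 = n63520 := d38_2 (iv F283446) D63884 (iv D63520)
def n63885 : Q := act 2 n63433
theorem D63885 : act 2 n63433 = n63885 := rfl
theorem F285631 : act 1 n63885 = n63885 := d9_1 D63885 (iv D63885) F283447 F280637 (iv F283447)
theorem F285632 : act 3 n63885 = n63525 := d17_2 D63433 D63885 (iv D63525) (iv D62948) (iv F280631)
theorem F285633 : act 4 n63885 = n63443 := d18_2 (iv F283448) D63885 (iv D63443)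
theorem F285634 : act 6 n63885 = n63543 := d20_2 (iv F283449) D63885 (iv D63543)
theorem F285635 : act 7 n63885 = n63722 := d21_2 (iv F283450) D63885 (iv D63722)
theorem F285636 : act 8 n63885 = n63481 := d22_2 (iv F283451) D63885 (iv D63481)
theorem F285637 : act 9 n63885 = n63521 := d23_2 (iv F283452) D63885 (iv D63521)
def n63886 : Q := act 3 n63435
theorem D63886 : act 3 n63435 = n63886 := rfl
theorem F285638 : act 0 n63886 = n63436 := d2_1 D63886 (iv D63436) (iv F283460)
theorem F285639 : act 1 n63886 = n63720 := d10_1 D63886 (iv D63720) (iv F283461)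
theorem F285640 : act 4 n63886 = n63439 := d24_2 D63435 D63886 (iv D63439) (iv D62840) (iv F280652)
theorem F285641 : act 6 n63886 = n63545 := d26_2 (iv F283463) D63886 (iv D63545)
theorem F285642 : act 7 n63886 = n63716 := d27_2 (iv F283464) D63886 (iv D63716)
theorem F285643 : act 8 n63886 = n63635 := d28_2 (iv F283465) D63886 (iv D63635) F281905 (iv F281255)
theorem F285644 : act 9 n63886 = n63503 := d29_2 (iv F283466) D63886 (iv D63503)
theorem F285645 : act 5 n63706 = n63886 := d38_3 F285644 (iv F283828) D63706
def n63887 : Q := act 5 n63435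
theorem D63887 : act 5 n63435 = n63887 := rfl
theorem F285646 : act 0 n63887 = n63437 := d4_1 D63887 (iv D63437) (iv F283460)
theorem F285647 : act 1 n63887 = n63721 := d12_1 D63887 (iv D63721) (iv F283461)
theorem F285648 : act 2 n63887 = n63507 := d19_1 D63887 (iv D63507) (iv F283462)
theorem F285649 : act 3 n63887 = n63706 := d25_1 D63887 F285645 (iv D63886)
theorem F285650 : act 4 n63887 = n63438 := d30_1 D63887 (iv D63438) (iv D62838) (iv F280653) D63435
theorem F285651 : act 6 n63887 = n63515 := d35_2 (iv F283463) D63887 F283876 F281791 (iv F281393)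
theorem F285652 : act 7 n63887 = n63717 := d36_2 (iv F283464) D63887 (iv D63717)
theorem F285653 : act 8 n63887 = n63522 := d37_2 (iv F283465) D63887 (iv D63522)
theorem F285654 : act 9 n63887 = n63504 := d38_2 (iv F283466) D63887 (iv D63504)
def n63888 : Q := act 2 n63436
theorem D63888 : act 2 n63436 = n63888 := rfl
theorem F285655 : act 1 n63888 = n63888 := d9_1 D63888 (iv D63888) F283467 F280665 (iv F283467)
theorem F285656 : act 3 n63888 = n63508 := d17_2 D63436 D63888 (iv D63508) (iv D62925) (iv F280659)
theorem F285657 : act 4 n63888 = n63440 := d18_2 (iv F283468) D63888 (iv D63440)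
theorem F285658 : act 5 n63888 = n63707 := d19_2 F283473 D63888 F284653
theorem F285659 : act 6 n63888 = n63546 := d20_2 (iv F283469) D63888 (iv D63546)
theorem F285660 : act 7 n63888 = n63718 := d21_2 (iv F283470) D63888 (iv D63718)
theorem F285661 : act 8 n63888 = n63636 := d22_2 (iv F283471) D63888 (iv D63636)
theorem F285662 : act 9 n63888 = n63505 := d23_2 (iv F283472) D63888 (iv D63505)
def n63889 : Q := act 2 n63439
theorem D63889 : act 2 n63439 = n63889 := rfl
theorem F285663 : act 0 n63889 = n63440 := d1_1 D63889 (iv D63440) (iv F283487)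
theorem F285664 : act 3 n63889 = n63683 := d17_2 D63439 D63889 (iv D63683) (iv D63167) (iv F280691)
theorem F285665 : act 5 n63889 = n63496 := d19_2 (iv F283489) D63889 (iv D63496)
theorem F285666 : act 6 n63889 = n63640 := d20_2 (iv F283490) D63889 F284433
theorem F285667 : act 8 n63889 = n63638 := d22_2 (iv F283491) D63889 (iv D63638)
theorem F285668 : act 9 n63889 = n63544 := d23_2 (iv F283492) D63889 (iv D63544)
def n63890 : Q := act 2 n63441
theorem D63890 : act 2 n63441 = n63890 := rfl
theorem F285669 : act 0 n63890 = n63443 := d1_1 D63890 (iv D63443) (iv F283499)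
theorem F285670 : act 3 n63890 = n63570 := d17_2 D63441 D63890 (iv D63570) (iv D63008) (iv F280711)
theorem F285671 : act 6 n63890 = n63719 := d20_2 (iv F283500) D63890 (iv D63719)
theorem F285672 : act 7 n63890 = n63728 := d21_2 (iv F283501) D63890 (iv D63728)
theorem F285673 : act 8 n63890 = n63511 := d22_2 (iv F283502) D63890 (iv D63511)
theorem F285674 : act 9 n63890 = n63730 := d23_2 (iv F283503) D63890 (iv D63730)
theorem F285675 : act 5 n63749 = n63890 := d25_0 F285670 F284136 D63749
def n63891 : Q := act 5 n63441
theorem D63891 : act 5 n63441 = n63891 := rfl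
theorem F285676 : act 0 n63891 = n63444 := d4_1 D63891 (iv D63444) (iv F283499)
theorem F285677 : act 1 n63891 = n63472 := d12_1 D63891 (iv F285191) F285189
theorem F285678 : act 2 n63891 = n63749 := d19_1 D63891 F285675 (iv D63890)
theorem F285679 : act 3 n63891 = n63442 := d25_1 D63891 (iv D63442) D63441
theorem F285680 : act 6 n63891 = n63517 := d35_2 (iv F283500) D63891 (iv F285577) F285578 F283430
theorem F285681 : act 7 n63891 = n63457 := d36_2 (iv F283501) D63891 F283604
theorem F285682 : act 8 n63891 = n63512 := d37_2 (iv F283502) D63891 (iv D63512)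
theorem F285683 : act 9 n63891 = n63549 := d38_2 (iv F283503) D63891 F284032
theorem F285684 : act 4 n63641 = n63891 := d34_3 F285683 F284031 (iv F284438)
def n63892 : Q := act 3 n63445
theorem D63892 : act 3 n63445 = n63892 := rfl
theorem F285685 : act 0 n63892 = n63446 := d2_1 D63892 (iv D63446) (iv F283527)
theorem F285686 : act 1 n63892 = n63479 := d10_1 D63892 (iv D63479) (iv F283528)
theorem F285687 : act 4 n63892 = n63460 := d24_2 D63445 D63892 (iv D63460) (iv D62869) (iv F280780)
theorem F285688 : act 6 n63892 = n63687 := d26_2 (iv F283530) D63892 (iv D63687)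
theorem F285689 : act 7 n63892 = n63635 := d27_2 (iv F283531) D63892 (iv D63635)
theorem F285690 : act 8 n63892 = n63716 := d28_2 (iv F283532) D63892 (iv D63716) F282319 (iv F280850)
theorem F285691 : act 9 n63892 = n63695 := d29_2 (iv F283533) D63892 (iv D63695)
def n63893 : Q := act 5 n63445
theorem D63893 : act 5 n63445 = n63893 := rfl
theorem F285692 : act 0 n63893 = n63447 := d4_1 D63893 (iv D63447) (iv F283527)
theorem F285693 : act 1 n63893 = n63480 := d12_1 D63893 (iv D63480) (iv F283528)
theorem F285694 : act 2 n63893 = n63652 := d19_1 D63893 F284478 (iv F283529)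
theorem F285695 : act 4 n63893 = n63647 := d30_1 D63893 (iv D63647) (iv D63109) (iv F280781) D63445
theorem F285696 : act 7 n63893 = n63631 := d36_2 (iv F283531) D63893 F284399
theorem F285697 : act 8 n63893 = n63455 := d37_2 (iv F283532) D63893 (iv D63455)
theorem F285698 : act 9 n63893 = n63630 := d38_2 (iv F283533) D63893 F284394
def n63894 : Q := act 2 n63446
theorem D63894 : act 2 n63446 = n63894 := rfl
theorem F285699 : act 1 n63894 = n63894 := d9_1 D63894 (iv D63894) F283534 F280793 (iv F283534)
theorem F285700 : act 3 n63894 = n63698 := d17_2 D63446 D63894 (iv D63698) (iv D63191) (iv F280787)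
theorem F285701 : act 4 n63894 = n63462 := d18_2 (iv F283535) D63894 (iv D63462)
theorem F285702 : act 6 n63894 = n63688 := d20_2 (iv F283536) D63894 (iv D63688)
theorem F285703 : act 7 n63894 = n63636 := d21_2 (iv F283537) D63894 (iv D63636)
theorem F285704 : act 8 n63894 = n63718 := d22_2 (iv F283538) D63894 (iv D63718)
theorem F285705 : act 9 n63894 = n63696 := d23_2 (iv F283539) D63894 (iv D63696)
def n63895 : Q := act 6 n63447
theorem D63895 : act 6 n63447 = n63895 := rfl
theorem F285706 : act 1 n63895 = n63448 := d13_1 D63895 (iv D63448) (iv F283540)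
theorem F285707 : act 2 n63895 = n63651 := d20_1 D63895 F284474 (iv F283541)
theorem F285708 : act 4 n63895 = n63476 := d31_1 D63895 F283706 (iv F283542)
theorem F285709 : act 5 n63895 = n63566 := d35_1 D63895 F284115 F281535 (iv F280788) D63447
theorem F285710 : act 7 n63895 = n63628 := d39_2 (iv F283543) D63895 F284384 F281855 (iv F281877)
theorem F285711 : act 8 n63895 = n63456 := d40_2 (iv F283544) D63895 (iv D63456)
theorem F285712 : act 9 n63895 = n63598 := d41_2 (iv F283545) D63895 F284259
def n63896 : Q := act 3 n63449
theorem D63896 : act 3 n63449 = n63896 := rfl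
theorem F285713 : act 0 n63896 = n63450 := d2_1 D63896 (iv D63450) (iv F283553)
theorem F285714 : act 1 n63896 = n63486 := d10_1 D63896 (iv D63486) (iv F283554)
theorem F285715 : act 4 n63896 = n63457 := d24_2 D63449 D63896 (iv D63457) (iv D62865) (iv F280815)
theorem F285716 : act 6 n63896 = n63657 := d26_2 (iv F283556) D63896 (iv D63657)
theorem F285717 : act 7 n63896 = n63641 := d27_2 (iv F283557) D63896 (iv D63641)
theorem F285718 : act 9 n63896 = n63552 := d29_2 (iv F283559) D63896 (iv D63552)
def n63897 : Q := act 5 n63449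
theorem D63897 : act 5 n63449 = n63897 := rfl
theorem F285719 : act 0 n63897 = n63451 := d4_1 D63897 (iv D63451) (iv F283553)
theorem F285720 : act 1 n63897 = n63487 := d12_1 D63897 (iv D63487) (iv F283554)
theorem F285721 : act 2 n63897 = n63629 := d19_1 D63897 F284388 (iv F283555)
theorem F285722 : act 4 n63897 = n63455 := d30_1 D63897 (iv D63455) (iv D62862) (iv F280816) D63449
theorem F285723 : act 7 n63897 = n63633 := d36_2 (iv F283557) D63897 F284409
theorem F285724 : act 8 n63897 = n63647 := d37_2 (iv F283558) D63897 (iv D63647)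
theorem F285725 : act 9 n63897 = n63553 := d38_2 (iv F283559) D63897 (iv D63553)
def n63898 : Q := act 2 n63450
theorem D63898 : act 2 n63450 = n63898 := rfl
theorem F285726 : act 1 n63898 = n63898 := d9_1 D63898 (iv D63898) F283560 F280828 (iv F283560)
theorem F285727 : act 3 n63898 = n63709 := d17_2 D63450 D63898 (iv D63709) (iv D63207) (iv F280822)
theorem F285728 : act 4 n63898 = n63458 := d18_2 (iv F283561) D63898 (iv D63458)
theorem F285729 : act 6 n63898 = n63659 := d20_2 (iv F283562) D63898 (iv D63659)
theorem F285730 : act 7 n63898 = n63642 := d21_2 (iv F283563) D63898 (iv D63642)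
theorem F285731 : act 9 n63898 = n63554 := d23_2 (iv F283564) D63898 (iv D63554)
def n63899 : Q := act 5 n63450
theorem D63899 : act 5 n63450 = n63899 := rfl
theorem F285732 : act 1 n63899 = n63452 := d12_1 D63899 (iv D63452) (iv F283560)
theorem F285733 : act 3 n63899 = n63451 := d25_1 D63899 (iv D63451) D63450
theorem F285734 : act 4 n63899 = n63686 := d30_1 D63899 F284590 F282337 (iv F280873) (iv F283561)
theorem F285735 : act 7 n63899 = n63634 := d36_2 (iv F283563) D63899 F284414
theorem F285736 : act 9 n63899 = n63555 := d38_2 (iv F283564) D63899 (iv D63555)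
def n63900 : Q := act 8 n63450
theorem D63900 : act 8 n63450 = n63900 := rfl
theorem F285737 : act 1 n63900 = n63453 := d15_1 D63900 (iv D63453) (iv F283560)
theorem F285738 : act 3 n63900 = n63557 := d28_1 D63900 F284073 F281830 (iv F280825) D63450
theorem F285739 : act 4 n63900 = n63459 := d33_1 D63900 (iv D63459) (iv F283561)
theorem F285740 : act 6 n63900 = n63555 := d40_1 D63900 (iv F284063) (iv F283562)
theorem F285741 : act 7 n63900 = n63514 := d42_1 D63900 F283873 (iv F283563)
def n63901 : Q := act 6 n63451
theorem D63901 : act 6 n63451 = n63901 := rfl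
theorem F285742 : act 1 n63901 = n63454 := d13_1 D63901 (iv D63454) (iv F283565)
theorem F285743 : act 2 n63901 = n63628 := d20_1 D63901 F284384 (iv F283566)
theorem F285744 : act 4 n63901 = n63456 := d31_1 D63901 (iv D63456) (iv F283567)
theorem F285745 : act 5 n63901 = n63477 := d35_1 D63901 F283711 (iv D63130) (iv F280823) D63451
theorem F285746 : act 7 n63901 = n63651 := d39_2 (iv F283568) D63901 F284474 F281998 (iv F281896)
theorem F285747 : act 8 n63901 = n63476 := d40_2 (iv F283569) D63901 F283706
theorem F285748 : act 9 n63901 = n63557 := d41_2 (iv F283570) D63901 (iv D63557)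
def n63902 : Q := act 6 n63455
theorem D63902 : act 6 n63455 = n63902 := rfl
theorem F285749 : act 0 n63902 = n63456 := d5_1 D63902 (iv D63456) (iv F283590)
theorem F285750 : act 1 n63902 = n63494 := d13_1 D63902 (iv D63494) (iv F283591)
theorem F285751 : act 2 n63902 = n63711 := d20_1 D63902 (iv D63711) (iv F283592)
theorem F285752 : act 3 n63902 = n63565 := d26_1 D63902 F284111 (iv F283593)
theorem F285753 : act 5 n63902 = n63564 := d35_1 D63902 F284107 F281530 (iv F280851) D63455
theorem F285754 : act 7 n63902 = n63654 := d39_2 (iv F283594) D63902 F284487 F282023 (iv F282114)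
theorem F285755 : act 9 n63902 = n63558 := d41_2 (iv F283595) D63902 (iv D63558)
def n63903 : Q := act 2 n63457
theorem D63903 : act 2 n63457 = n63903 := rfl
theorem F285756 : act 0 n63903 = n63458 := d1_1 D63903 (iv D63458) (iv F283602)
theorem F285757 : act 3 n63903 = n63640 := d17_2 D63457 D63903 F284433 F281933 (iv F280867)
theorem F285758 : act 5 n63903 = n63728 := d19_2 (iv F283604) D63903 (iv D63728)
theorem F285759 : act 6 n63903 = n63683 := d20_2 (iv F283605) D63903 (iv D63683)
theorem F285760 : act 7 n63903 = n63749 := d21_2 F285681 D63903 (iv F285678)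
theorem F285761 : act 9 n63903 = n63559 := d23_2 (iv F283606) D63903 (iv D63559)
def n63904 : Q := act 8 n63457
theorem D63904 : act 8 n63457 = n63904 := rfl
theorem F285762 : act 0 n63904 = n63459 := d7_1 D63904 (iv D63459) (iv F283602)
theorem F285763 : act 1 n63904 = n63497 := d15_1 D63904 (iv D63497) (iv F283603)
theorem F285764 : act 3 n63904 = n63465 := d28_1 D63904 (iv D63465) (iv D62874) (iv F280870) D63457
theorem F285765 : act 5 n63904 = n63501 := d37_1 D63904 F283816 (iv F283604)
theorem F285766 : act 6 n63904 = n63684 := d40_1 D63904 (iv D63684) (iv F283605)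
theorem F285767 : act 7 n63904 = n63512 := d42_1 D63904 (iv F285682) F285681
def n63905 : Q := act 2 n63460
theorem D63905 : act 2 n63460 = n63905 := rfl
theorem F285768 : act 0 n63905 = n63462 := d1_1 D63905 (iv D63462) (iv F283618)
theorem F285769 : act 6 n63905 = n63724 := d20_2 (iv F283620) D63905 (iv D63724)
theorem F285770 : act 7 n63905 = n63638 := d21_2 (iv F283621) D63905 (iv D63638)
def n63906 : Q := act 5 n63460
theorem D63906 : act 5 n63460 = n63906 := rfl
theorem F285771 : act 0 n63906 = n63463 := d4_1 D63906 (iv D63463) (iv F283618)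
theorem F285772 : act 1 n63906 = n63512 := d12_1 D63906 (iv D63512) (iv F283619)
theorem F285773 : act 3 n63906 = n63461 := d25_1 D63906 (iv D63461) D63460
theorem F285774 : act 6 n63906 = n63530 := d35_2 (iv F283620) D63906 (iv D63530) (iv F283003) F283002
theorem F285775 : act 7 n63906 = n63497 := d36_2 (iv F283621) D63906 F283794
theorem F285776 : act 8 n63906 = n63472 := d37_2 F285194 D63906 (iv F285191)
def n63907 : Q := act 5 n63462
theorem D63907 : act 5 n63462 = n63907 := rfl
theorem F285777 : act 1 n63907 = n63907 := d12_1 D63907 (iv D63907) F283629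
theorem F285778 : act 2 n63907 = n63463 := d19_1 D63907 (iv D63463) D63462
theorem F285779 : act 3 n63907 = n63533 := d25_1 D63907 (iv F285557) F285555
theorem F285780 : act 6 n63907 = n63532 := d35_2 (iv F283630) D63907 (iv D63532) (iv F283008) F283007
theorem F285781 : act 7 n63907 = n63498 := d36_2 (iv F283631) D63907 F283798
theorem F285782 : act 8 n63907 = n63473 := d37_2 F285202 D63907 (iv F285199)
def n63908 : Q := act 4 n63463
theorem D63908 : act 4 n63463 = n63908 := rfl
theorem F285783 : act 1 n63908 = n63464 := d11_1 D63908 (iv D63464) (iv F283632)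
theorem F285784 : act 3 n63908 = n63540 := d24_1 D63908 F283983 F281350 (iv F280900) (iv F283633)
theorem F285785 : act 6 n63908 = n63534 := d31_2 (iv F283634) D63908 (iv D63534)
theorem F285786 : act 7 n63908 = n63490 := d32_2 (iv F283635) D63908 F283760
theorem F285787 : act 8 n63908 = n63471 := d33_2 (iv F283636) D63908 F283685
def n63909 : Q := act 9 n63465
theorem D63909 : act 9 n63465 = n63909 := rfl
theorem F285788 : act 0 n63909 = n63466 := d8_1 D63909 (iv D63466) (iv F283643)
theorem F285789 : act 1 n63909 = n63515 := d16_1 D63909 (iv D63515) (iv F283644)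
theorem F285790 : act 2 n63909 = n63717 := d23_1 D63909 F284680 (iv F283645)
theorem F285791 : act 4 n63909 = n63565 := d34_1 D63909 F284112 (iv F283646)
theorem F285792 : act 5 n63909 = n63500 := d38_1 D63909 F283811 (iv F283647)
theorem F285793 : act 6 n63909 = n63721 := d41_1 D63909 F284692 (iv F283648)
theorem F285794 : act 7 n63909 = n63507 := d43_1 D63909 F283849 (iv F283649)
theorem F285795 : act 8 n63909 = n63469 := d44_1 D63909 (iv D63469) (iv D62883) (iv F280925) D63465
def n63910 : Q := act 9 n63467
theorem D63910 : act 9 n63467 = n63910 := rfl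
theorem F285796 : act 0 n63910 = n63468 := d8_1 D63910 (iv D63468) (iv F283657)
theorem F285797 : act 1 n63910 = n63541 := d16_1 D63910 (iv D63541) (iv F283658)
theorem F285798 : act 2 n63910 = n63721 := d23_1 D63910 F284692 (iv F283659)
theorem F285799 : act 4 n63910 = n63469 := d34_1 D63910 (iv D63469) (iv F283660)
theorem F285800 : act 5 n63910 = n63516 := d38_1 D63910 F283884 (iv F283661)
theorem F285801 : act 6 n63910 = n63717 := d41_1 D63910 F284680 (iv F283662)
theorem F285802 : act 7 n63910 = n63524 := d43_1 D63910 F283921 (iv F283663)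
theorem F285803 : act 8 n63910 = n63565 := d44_1 D63910 F284112 F281595 (iv F280962) D63467
def n63911 : Q := act 3 n63470
theorem D63911 : act 3 n63470 = n63911 := rfl
theorem F285804 : act 0 n63911 = n63471 := d2_1 D63911 (iv D63471) (iv F283677)
theorem F285805 : act 1 n63911 = n63641 := d10_1 D63911 (iv D63641) (iv F283678)
theorem F285806 : act 4 n63911 = n63472 := d24_2 D63470 D63911 (iv D63472) (iv D62889) (iv F281006)
theorem F285807 : act 6 n63911 = n63571 := d26_2 (iv F283680) D63911 (iv D63571)
theorem F285808 : act 7 n63911 = n63486 := d27_2 (iv F283681) D63911 (iv D63486)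
theorem F285809 : act 9 n63911 = n63580 := d29_2 (iv F283683) D63911 (iv D63580)
def n63912 : Q := act 2 n63471
theorem D63912 : act 2 n63471 = n63912 := rfl
theorem F285810 : act 1 n63912 = n63912 := d9_1 D63912 (iv D63912) F283684 F281019 (iv F283684)
theorem F285811 : act 3 n63912 = n63742 := d17_2 D63471 D63912 (iv D63742) (iv D63259) (iv F281013)
theorem F285812 : act 4 n63912 = n63473 := d18_2 (iv F283685) D63912 (iv D63473)
theorem F285813 : act 6 n63912 = n63572 := d20_2 (iv F283686) D63912 (iv D63572)
theorem F285814 : act 7 n63912 = n63488 := d21_2 (iv F283687) D63912 (iv D63488)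
theorem F285815 : act 9 n63912 = n63581 := d23_2 (iv F283688) D63912 (iv D63581)
def n63913 : Q := act 2 n63472
theorem D63913 : act 2 n63472 = n63913 := rfl
theorem F285816 : act 0 n63913 = n63473 := d1_1 D63913 (iv D63473) (iv F283689)
theorem F285817 : act 3 n63913 = n63724 := d17_2 D63472 D63913 (iv D63724) (iv D63233) (iv F281025)
theorem F285818 : act 7 n63913 = n63496 := d21_2 (iv F283690) D63913 (iv D63496)
theorem F285819 : act 9 n63913 = n63585 := d23_2 (iv F283691) D63913 (iv D63585)
def n63914 : Q := act 5 n63474
theorem D63914 : act 5 n63474 = n63914 := rfl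
theorem F285820 : act 0 n63914 = n63476 := d4_1 D63914 (iv D63476) (iv F283696)
theorem F285821 : act 2 n63914 = n63654 := d19_1 D63914 F284995 F284990
theorem F285822 : act 3 n63914 = n63475 := d25_1 D63914 (iv D63475) D63474
theorem F285823 : act 6 n63914 = n63647 := d35_2 (iv F283698) D63914 (iv D63647) F281962 D63152
theorem F285824 : act 7 n63914 = n63711 := d36_2 F284986 D63914 (iv F284985)
theorem F285825 : act 9 n63914 = n63596 := d38_2 (iv F283699) D63914 (iv D63596)
def n63915 : Q := act 8 n63474
theorem D63915 : act 8 n63474 = n63915 := rfl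
theorem F285826 : act 0 n63915 = n63477 := d7_1 D63915 (iv D63477) (iv F283696)
theorem F285827 : act 1 n63915 = n63680 := d15_1 D63915 (iv F285091) F285086
theorem F285828 : act 4 n63915 = n63679 := d33_1 D63915 F284568 (iv F283697)
theorem F285829 : act 6 n63915 = n63658 := d40_1 D63915 F284505 (iv F283698)
def n63916 : Q := act 6 n63475
theorem D63916 : act 6 n63475 = n63916 := rfl
theorem F285830 : act 0 n63916 = n63478 := d5_1 D63916 (iv D63478) (iv F283700)
theorem F285831 : act 2 n63916 = n63494 := d20_1 D63916 (iv D63494) (iv F283701)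
theorem F285832 : act 3 n63916 = n63647 := d26_1 D63916 (iv F285823) F285822
theorem F285833 : act 5 n63916 = n63626 := d35_1 D63916 F284376 F281845 (iv F281034) D63475
theorem F285834 : act 7 n63916 = n63648 := d39_2 (iv F285179) D63916 F284464 (iv F282899) D63810
theorem F285835 : act 9 n63916 = n63597 := d41_2 (iv F283702) D63916 F284255
def n63917 : Q := act 2 n63479
theorem D63917 : act 2 n63479 = n63917 := rfl
theorem F285836 : act 0 n63917 = n63481 := d1_1 D63917 (iv D63481) (iv F283718)
theorem F285837 : act 4 n63917 = n63511 := d18_2 (iv F283719) D63917 (iv D63511)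
theorem F285838 : act 6 n63917 = n63710 := d20_2 (iv F283720) D63917 (iv D63710)
def n63918 : Q := act 5 n63479
theorem D63918 : act 5 n63479 = n63918 := rfl
theorem F285839 : act 0 n63918 = n63482 := d4_1 D63918 (iv D63482) (iv F283718)
theorem F285840 : act 3 n63918 = n63480 := d25_1 D63918 (iv D63480) D63479
def n63919 : Q := act 6 n63480
theorem D63919 : act 6 n63480 = n63919 := rfl
theorem F285841 : act 0 n63919 = n63483 := d5_1 D63919 (iv D63483) (iv F283721)
theorem F285842 : act 5 n63919 = n63627 := d35_1 D63919 F284381 F281850 (iv F281066) D63480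
theorem F285843 : act 8 n63919 = n63494 := d40_2 (iv F283722) D63919 (iv D63494)
def n63920 : Q := act 5 n63481
theorem D63920 : act 5 n63481 = n63920 := rfl
theorem F285844 : act 1 n63920 = n63920 := d12_1 D63920 (iv D63920) F283723
theorem F285845 : act 2 n63920 = n63482 := d19_1 D63920 (iv D63482) D63481
def n63921 : Q := act 4 n63482
theorem D63921 : act 4 n63482 = n63921 := rfl
theorem F285846 : act 1 n63921 = n63484 := d11_1 D63921 (iv D63484) (iv F283726)
theorem F285847 : act 3 n63921 = n63650 := d24_1 D63921 (iv F284808) F284807 F282503 (iv F283727)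
theorem F285848 : act 5 n63921 = n63514 := d30_2 D63482 D63921 (iv D63514) (iv D62931) (iv F281069)
theorem F285849 : act 8 n63921 = n63634 := d33_2 F285253 D63921 (iv F285249)
theorem F285850 : act 9 n63921 = n63664 := d34_2 (iv F284789) D63921 (iv F284785)
theorem F285851 : act 6 n63671 = n63921 := d41_3 F285850 F284522 D63671
def n63922 : Q := act 6 n63482
theorem D63922 : act 6 n63482 = n63922 := rfl
theorem F285852 : act 1 n63922 = n63485 := d13_1 D63922 (iv D63485) (iv F283726)
theorem F285853 : act 3 n63922 = n63483 := d26_1 D63922 (iv D63483) (iv F283727)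
theorem F285854 : act 4 n63922 = n63671 := d31_1 D63922 F285851 (iv D63921)
theorem F285855 : act 5 n63922 = n63584 := d35_1 D63922 F284196 F281652 (iv F281070) D63482
theorem F285856 : act 8 n63922 = n63535 := d40_2 F285253 D63922 (iv F285251)
theorem F285857 : act 9 n63922 = n63527 := d41_2 (iv F284789) D63922 (iv F284787)
def n63923 : Q := act 2 n63486
theorem D63923 : act 2 n63486 = n63923 := rfl
theorem F285858 : act 0 n63923 = n63488 := d1_1 D63923 (iv D63488) (iv F283743)
theorem F285859 : act 4 n63923 = n63496 := d18_2 (iv F283744) D63923 (iv D63496)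
theorem F285860 : act 6 n63923 = n63703 := d20_2 (iv F283745) D63923 (iv D63703)
theorem F285861 : act 9 n63923 = n63605 := d23_2 (iv F283746) D63923 (iv D63605)
def n63924 : Q := act 5 n63486
theorem D63924 : act 5 n63486 = n63924 := rfl
theorem F285862 : act 0 n63924 = n63489 := d4_1 D63924 (iv D63489) (iv F283743)
theorem F285863 : act 3 n63924 = n63487 := d25_1 D63924 (iv D63487) D63486
theorem F285864 : act 4 n63924 = n63706 := d30_1 D63924 F285645 F285640 F283489 (iv F283744)
theorem F285865 : act 9 n63924 = n63606 := d38_2 (iv F283746) D63924 (iv D63606)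
def n63925 : Q := act 8 n63486
theorem D63925 : act 8 n63486 = n63925 := rfl
theorem F285866 : act 0 n63925 = n63490 := d7_1 D63925 (iv D63490) (iv F283743)
theorem F285867 : act 3 n63925 = n63608 := d28_1 D63925 F284797 (iv D63754) F282492 D63486
theorem F285868 : act 4 n63925 = n63497 := d33_1 D63925 (iv D63497) (iv F283744)
theorem F285869 : act 6 n63925 = n63606 := d40_1 D63925 (iv F284290) (iv F283745)
def n63926 : Q := act 6 n63487
theorem D63926 : act 6 n63487 = n63926 := rfl
theorem F285870 : act 0 n63926 = n63491 := d5_1 D63926 (iv D63491) (iv F283747)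
theorem F285871 : act 4 n63926 = n63494 := d31_1 D63926 (iv D63494) (iv F283748)
theorem F285872 : act 5 n63926 = n63680 := d35_1 D63926 F284570 (iv D63200) (iv F281079) D63487
theorem F285873 : act 9 n63926 = n63608 := d41_2 (iv F283749) D63926 (iv D63608)
def n63927 : Q := act 5 n63488
theorem D63927 : act 5 n63488 = n63927 := rfl
theorem F285874 : act 1 n63927 = n63927 := d12_1 D63927 (iv D63927) F283750
theorem F285875 : act 2 n63927 = n63489 := d19_1 D63927 (iv D63489) D63488
theorem F285876 : act 4 n63927 = n63707 := d30_1 D63927 (iv F285658) F285657 F283495 (iv F283751)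
theorem F285877 : act 9 n63927 = n63609 := d38_2 (iv F283753) D63927 (iv D63609)
def n63928 : Q := act 8 n63488
theorem D63928 : act 8 n63488 = n63928 := rfl
theorem F285878 : act 1 n63928 = n63928 := d15_1 D63928 (iv D63928) F283750
theorem F285879 : act 2 n63928 = n63490 := d22_1 D63928 (iv D63490) D63488
theorem F285880 : act 4 n63928 = n63498 := d33_1 D63928 (iv D63498) (iv F283751)
theorem F285881 : act 6 n63928 = n63609 := d40_1 D63928 (iv F284300) (iv F283752)
def n63929 : Q := act 6 n63489
theorem D63929 : act 6 n63489 = n63929 := rfl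
theorem F285882 : act 1 n63929 = n63492 := d13_1 D63929 (iv D63492) (iv F283754)
theorem F285883 : act 3 n63929 = n63491 := d26_1 D63929 (iv D63491) (iv F283755)
theorem F285884 : act 4 n63929 = n63499 := d31_1 D63929 F283803 (iv F283756)
theorem F285885 : act 5 n63929 = n63603 := d35_1 D63929 F284280 F281758 (iv F281083) D63489
theorem F285886 : act 9 n63929 = n63490 := d41_2 (iv F283757) D63929 F283761
theorem F285887 : act 8 n63602 = n63929 := d44_5 F285886 (iv D63490) F281084 D63058 (iv F284276)
def n63930 : Q := act 8 n63489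
theorem D63930 : act 8 n63489 = n63930 := rfl
theorem F285888 : act 1 n63930 = n63493 := d15_1 D63930 (iv D63493) (iv F283754)
theorem F285889 : act 3 n63930 = n63604 := d28_1 D63930 (iv F284811) F284807 F282505 (iv F283755)
theorem F285890 : act 4 n63930 = n63614 := d33_1 D63930 F284322 (iv F283756)
theorem F285891 : act 5 n63930 = n63490 := d37_1 D63930 (iv D63490) D63489
theorem F285892 : act 6 n63930 = n63602 := d40_1 D63930 F285887 (iv D63929)
theorem F285893 : act 9 n63930 = n63603 := d44_2 (iv F283757) D63930 (iv D63603) F281729 F281754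
def n63931 : Q := act 7 n63494
theorem D63931 : act 7 n63494 = n63931 := rfl
theorem F285894 : act 0 n63931 = n63495 := d6_1 D63931 (iv D63495) (iv F283778)
theorem F285895 : act 1 n63931 = n63654 := d14_1 D63931 (iv F285754) F285750
theorem F285896 : act 2 n63931 = n63648 := d21_1 D63931 (iv F285834) F285831
theorem F285897 : act 3 n63931 = n63537 := d27_1 D63931 (iv F283967) (iv F283779)
theorem F285898 : act 5 n63931 = n63625 := d36_1 D63931 F284371 (iv F283780)
theorem F285899 : act 6 n63931 = n63536 := d39_1 D63931 F283961 (iv F282934) F282935 D63494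
theorem F285900 : act 9 n63931 = n63539 := d43_2 (iv F283781) D63931 F283979
def n63932 : Q := act 1 n63496
theorem D63932 : act 1 n63496 = n63932 := rfl
theorem F285901 : act 0 n63932 = n63932 := d0_1 D63932 (iv D63932) F283788 F281115 (iv F283788)
theorem F285902 : act 3 n63932 = n63747 := d10_2 (iv F283789) D63932 (iv D63747)
theorem F285903 : act 6 n63932 = n63704 := d13_2 (iv F283790) D63932 (iv D63704)
theorem F285904 : act 9 n63932 = n63615 := d16_2 (iv F283791) D63932 (iv D63615)
def n63933 : Q := act 8 n63496
theorem D63933 : act 8 n63496 = n63933 := rfl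
theorem F285905 : act 0 n63933 = n63498 := d7_1 D63933 (iv D63498) (iv F283788)
theorem F285906 : act 2 n63933 = n63497 := d22_1 D63933 (iv D63497) D63496
theorem F285907 : act 5 n63933 = n63638 := d37_1 D63933 (iv F285667) F285665
theorem F285908 : act 6 n63933 = n63705 := d40_1 D63933 (iv D63705) (iv F283790)
def n63934 : Q := act 9 n63497
theorem D63934 : act 9 n63497 = n63934 := rfl
theorem F285909 : act 0 n63934 = n63499 := d8_1 D63934 (iv D63499) (iv F283792)
theorem F285910 : act 3 n63934 = n63515 := d29_1 D63934 (iv D63515) (iv F283793)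
theorem F285911 : act 5 n63934 = n63620 := d38_1 D63934 F284342 (iv F283794)
theorem F285912 : act 6 n63934 = n63706 := d41_1 D63934 (iv D63706) (iv F283795)
theorem F285913 : act 8 n63934 = n63617 := d44_1 D63934 (iv D63617) (iv D63066) (iv F281114) D63497
def n63935 : Q := act 9 n63498
theorem D63935 : act 9 n63498 = n63935 := rfl
theorem F285914 : act 1 n63935 = n63935 := d16_1 D63935 (iv D63935) F283796
theorem F285915 : act 2 n63935 = n63499 := d23_1 D63935 (iv D63499) (iv F283797)
theorem F285916 : act 5 n63935 = n63621 := d38_1 D63935 F284347 (iv F283798)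
theorem F285917 : act 6 n63935 = n63707 := d41_1 D63935 (iv D63707) (iv F283799)
theorem F285918 : act 8 n63935 = n63619 := d44_1 D63935 (iv D63619) (iv D63067) (iv F281118) D63498
def n63936 : Q := act 2 n63501
theorem D63936 : act 2 n63501 = n63936 := rfl
theorem F285919 : act 0 n63936 = n63502 := d1_1 D63936 (iv D63502) (iv F283812)
theorem F285920 : act 3 n63936 = n63719 := d17_2 D63501 D63936 (iv D63719) (iv D63223) (iv F281144)
theorem F285921 : act 6 n63936 = n63570 := d20_2 (iv F283814) D63936 (iv D63570)
theorem F285922 : act 7 n63936 = n63511 := d21_2 (iv F283815) D63936 (iv D63511)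
theorem F285923 : act 8 n63936 = n63728 := d22_2 (iv F283816) D63936 (iv D63728)
def n63937 : Q := act 2 n63503
theorem D63937 : act 2 n63503 = n63937 := rfl
theorem F285924 : act 0 n63937 = n63505 := d1_1 D63937 (iv D63505) (iv F283822)
theorem F285925 : act 3 n63937 = n63511 := d17_2 D63503 D63937 (iv D63511) (iv D62928) (iv F281154)
theorem F285926 : act 4 n63937 = n63544 := d18_2 (iv F283824) D63937 (iv D63544)
theorem F285927 : act 5 n63937 = n63705 := d19_2 F283828 D63937 F284650
theorem F285928 : act 6 n63937 = n63547 := d20_2 (iv F283825) D63937 (iv D63547)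
theorem F285929 : act 7 n63937 = n63719 := d21_2 (iv F283826) D63937 (iv D63719)
theorem F285930 : act 8 n63937 = n63681 := d22_2 (iv F283827) D63937 (iv D63681)
def n63938 : Q := act 2 n63506
theorem D63938 : act 2 n63506 = n63938 := rfl
theorem F285931 : act 0 n63938 = n63508 := d1_1 D63938 (iv D63508) (iv F283844)
theorem F285932 : act 6 n63938 = n63725 := d20_2 (iv F283845) D63938 (iv D63725)
theorem F285933 : act 9 n63938 = n63511 := d23_2 (iv F283846) D63938 (iv D63511)
def n63939 : Q := act 5 n63506
theorem D63939 : act 5 n63506 = n63939 := rfl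
theorem F285934 : act 0 n63939 = n63509 := d4_1 D63939 (iv D63509) (iv F283844)
theorem F285935 : act 3 n63939 = n63507 := d25_1 D63939 (iv D63507) D63506
theorem F285936 : act 9 n63939 = n63512 := d38_2 (iv F283846) D63939 (iv D63512)
def n63940 : Q := act 5 n63508
theorem D63940 : act 5 n63508 = n63940 := rfl
theorem F285937 : act 1 n63940 = n63940 := d12_1 D63940 (iv D63940) F283850
theorem F285938 : act 2 n63940 = n63509 := d19_1 D63940 (iv D63509) D63508
theorem F285939 : act 3 n63940 = n63707 := d25_1 D63940 (iv F285658) F285656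
theorem F285940 : act 9 n63940 = n63513 := d38_2 (iv F283852) D63940 (iv D63513)
def n63941 : Q := act 4 n63509
theorem D63941 : act 4 n63509 = n63941 := rfl
theorem F285941 : act 1 n63941 = n63510 := d11_1 D63941 (iv D63510) (iv F283853)
theorem F285942 : act 3 n63941 = n63651 := d24_1 D63941 F284473 (iv F282681) F282682 (iv F283854)
theorem F285943 : act 5 n63941 = n63664 := d30_2 D63509 D63941 (iv F284785) F284786 F283149
theorem F285944 : act 6 n63941 = n63646 := d31_2 F285478 D63941 (iv F285477)
theorem F285945 : act 8 n63941 = n63663 := d33_2 F285320 D63941 (iv F285318)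
theorem F285946 : act 9 n63941 = n63514 := d34_2 (iv F283855) D63941 (iv D63514)
def n63942 : Q := act 1 n63511
theorem D63942 : act 1 n63511 = n63942 := rfl
theorem F285947 : act 0 n63942 = n63942 := d0_1 D63942 (iv D63942) F283862 F281196 (iv F283862)
theorem F285948 : act 6 n63942 = n63726 := d13_2 (iv F283863) D63942 (iv D63726)
def n63943 : Q := act 5 n63511
theorem D63943 : act 5 n63511 = n63943 := rfl
theorem F285949 : act 0 n63943 = n63513 := d4_1 D63943 (iv D63513) (iv F283862)
theorem F285950 : act 2 n63943 = n63512 := d19_1 D63943 (iv D63512) D63511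
theorem F285951 : act 3 n63943 = n63705 := d25_1 D63943 (iv F285927) F285925
theorem F285952 : act 8 n63943 = n63749 := d37_2 F285673 D63943 F285675
def n63944 : Q := act 4 n63512
theorem D63944 : act 4 n63512 = n63944 := rfl
theorem F285953 : act 0 n63944 = n63514 := d3_1 D63944 (iv D63514) (iv F283864)
theorem F285954 : act 3 n63944 = n63649 := d24_1 D63944 F284467 (iv F282813) F282814 (iv F283865)
theorem F285955 : act 6 n63944 = n63644 := d31_2 F285570 D63944 (iv F285569)
theorem F285956 : act 8 n63944 = n63641 := d33_2 F285682 D63944 F285684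
def n63945 : Q := act 4 n63513
theorem D63945 : act 4 n63513 = n63945 := rfl
theorem F285957 : act 1 n63945 = n63945 := d11_1 D63945 (iv D63945) F283866
theorem F285958 : act 2 n63945 = n63514 := d18_1 D63945 (iv D63514) (iv F283867)
theorem F285959 : act 6 n63945 = n63645 := d31_2 F285584 D63945 (iv F285583)
theorem F285960 : act 8 n63945 = n63642 := d33_2 (iv F283869) D63945 F284441
def n63946 : Q := act 2 n63517
theorem D63946 : act 2 n63517 = n63946 := rfl
theorem F285961 : act 0 n63946 = n63518 := d1_1 D63946 (iv D63518) (iv F283885)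
theorem F285962 : act 3 n63946 = n63723 := d17_2 D63517 D63946 (iv D63723) (iv D63229) (iv F281226)
theorem F285963 : act 4 n63946 = n63643 := d18_2 (iv F283886) D63946 (iv D63643)
theorem F285964 : act 6 n63946 = n63749 := d20_2 F285680 D63946 (iv F285678)
theorem F285965 : act 7 n63946 = n63529 := d21_2 (iv F283887) D63946 (iv D63529)
def n63947 : Q := act 2 n63519
theorem D63947 : act 2 n63519 = n63947 := rfl
theorem F285966 : act 0 n63947 = n63521 := d1_1 D63947 (iv D63521) (iv F283893)
theorem F285967 : act 3 n63947 = n63529 := d17_2 D63519 D63947 (iv D63529) (iv D62952) (iv F281240)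
theorem F285968 : act 4 n63947 = n63730 := d18_2 (iv F283895) D63947 (iv D63730)
theorem F285969 : act 7 n63947 = n63723 := d21_2 (iv F283896) D63947 (iv D63723)
theorem F285970 : act 8 n63947 = n63724 := d22_2 (iv F283897) D63947 (iv D63724)
def n63948 : Q := act 2 n63523
theorem D63948 : act 2 n63523 = n63948 := rfl
theorem F285971 : act 0 n63948 = n63525 := d1_1 D63948 (iv D63525) (iv F283916)
theorem F285972 : act 4 n63948 = n63668 := d18_2 (iv F283917) D63948 (iv D63668)
theorem F285973 : act 9 n63948 = n63529 := d23_2 (iv F283918) D63948 (iv D63529)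
def n63949 : Q := act 5 n63523
theorem D63949 : act 5 n63523 = n63949 := rfl
theorem F285974 : act 0 n63949 = n63526 := d4_1 D63949 (iv D63526) (iv F283916)
theorem F285975 : act 3 n63949 = n63524 := d25_1 D63949 (iv D63524) D63523
theorem F285976 : act 9 n63949 = n63530 := d38_2 (iv F283918) D63949 (iv D63530)
def n63950 : Q := act 8 n63523
theorem D63950 : act 8 n63523 = n63950 := rfl
theorem F285977 : act 0 n63950 = n63527 := d7_1 D63950 (iv D63527) (iv F283916)
theorem F285978 : act 4 n63950 = n63669 := d33_1 D63950 (iv D63669) (iv F283917)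
def n63951 : Q := act 5 n63525
theorem D63951 : act 5 n63525 = n63951 := rfl
theorem F285979 : act 1 n63951 = n63951 := d12_1 D63951 (iv D63951) F283922
theorem F285980 : act 2 n63951 = n63526 := d19_1 D63951 (iv D63526) D63525
theorem F285981 : act 9 n63951 = n63532 := d38_2 (iv F283924) D63951 (iv D63532)
def n63952 : Q := act 8 n63525
theorem D63952 : act 8 n63525 = n63952 := rfl
theorem F285982 : act 1 n63952 = n63952 := d15_1 D63952 (iv D63952) F283922
theorem F285983 : act 2 n63952 = n63527 := d22_1 D63952 (iv D63527) D63525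
theorem F285984 : act 4 n63952 = n63670 := d33_1 D63952 (iv D63670) (iv F283923)
def n63953 : Q := act 8 n63526
theorem D63953 : act 8 n63526 = n63953 := rfl
theorem F285985 : act 1 n63953 = n63528 := d15_1 D63953 (iv D63528) (iv F283925)
theorem F285986 : act 3 n63953 = n63628 := d28_1 D63953 F284385 (iv F282681) F282685 (iv F283926)
theorem F285987 : act 4 n63953 = n63739 := d33_1 D63953 (iv F285286) F285284
theorem F285988 : act 5 n63953 = n63527 := d37_1 D63953 (iv D63527) D63526
theorem F285989 : act 6 n63953 = n63588 := d40_1 D63953 (iv F285360) F285358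
theorem F285990 : act 9 n63953 = n63584 := d44_2 (iv F283927) D63953 (iv D63584) (iv F283396) F283395
def n63954 : Q := act 1 n63529
theorem D63954 : act 1 n63529 = n63954 := rfl
theorem F285991 : act 0 n63954 = n63954 := d0_1 D63954 (iv D63954) F283936 F281297 (iv F283936)
theorem F285992 : act 4 n63954 = n63672 := d11_2 (iv F283937) D63954 (iv D63672)
def n63955 : Q := act 5 n63529
theorem D63955 : act 5 n63529 = n63955 := rfl
theorem F285993 : act 0 n63955 = n63532 := d4_1 D63955 (iv D63532) (iv F283936)
theorem F285994 : act 2 n63955 = n63530 := d19_1 D63955 (iv D63530) D63529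
def n63956 : Q := act 8 n63529
theorem D63956 : act 8 n63529 = n63956 := rfl
theorem F285995 : act 0 n63956 = n63533 := d7_1 D63956 (iv D63533) (iv F283936)
theorem F285996 : act 2 n63956 = n63531 := d22_1 D63956 (iv D63531) D63529
theorem F285997 : act 4 n63956 = n63674 := d33_1 D63956 (iv D63674) (iv F283937)
def n63957 : Q := act 4 n63530
theorem D63957 : act 4 n63530 = n63957 := rfl
theorem F285998 : act 0 n63957 = n63534 := d3_1 D63957 (iv D63534) (iv F283938)
theorem F285999 : act 1 n63957 = n63644 := d11_1 D63957 (iv F285569) F285567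
theorem F286000 : act 3 n63957 = n63538 := d24_1 D63957 (iv D63538) F281335 (iv F281295) (iv F283939)
theorem F286001 : act 5 n63957 = n63675 := d30_2 D63530 D63957 (iv D63675) (iv D63145) (iv F281293)
theorem F286002 : act 7 n63957 = n63578 := d32_2 F285579 D63957 (iv F285576)
theorem F286003 : act 8 n63957 = n63571 := d33_2 F285552 D63957 (iv F285548)
def n63958 : Q := act 9 n63531
theorem D63958 : act 9 n63531 = n63958 := rfl
theorem F286004 : act 0 n63958 = n63535 := d8_1 D63958 (iv D63535) (iv F283940)
theorem F286005 : act 3 n63958 = n63541 := d29_1 D63958 (iv D63541) (iv F283941)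
theorem F286006 : act 4 n63958 = n63676 := d34_1 D63958 (iv D63676) (iv F283942)
theorem F286007 : act 5 n63958 = n63582 := d38_1 D63958 (iv F285553) F285549
def n63959 : Q := act 4 n63532
theorem D63959 : act 4 n63532 = n63959 := rfl
theorem F286008 : act 1 n63959 = n63959 := d11_1 D63959 (iv D63959) F283943
theorem F286009 : act 2 n63959 = n63534 := d18_1 D63959 (iv D63534) (iv F283944)
theorem F286010 : act 3 n63959 = n63610 := d24_1 D63959 F284303 D63618 (iv F285242) F285246
theorem F286011 : act 5 n63959 = n63677 := d30_2 D63532 D63959 (iv D63677) (iv D63147) (iv F281298)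
theorem F286012 : act 7 n63959 = n63579 := d32_2 F285593 D63959 (iv F285590)
theorem F286013 : act 8 n63959 = n63572 := d33_2 F285560 D63959 (iv F285556)
def n63960 : Q := act 9 n63533
theorem D63960 : act 9 n63533 = n63960 := rfl
theorem F286014 : act 1 n63960 = n63960 := d16_1 D63960 (iv D63960) F283945
theorem F286015 : act 2 n63960 = n63535 := d23_1 D63960 (iv D63535) (iv F283946)
theorem F286016 : act 4 n63960 = n63678 := d34_1 D63960 (iv D63678) (iv F283947)
theorem F286017 : act 5 n63960 = n63583 := d38_1 D63960 (iv F285561) F285557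
def n63961 : Q := act 6 n63538
theorem D63961 : act 6 n63538 = n63961 := rfl
theorem F286018 : act 0 n63961 = n63540 := d5_1 D63961 (iv D63540) (iv F283968)
theorem F286019 : act 1 n63961 = n63649 := d13_1 D63961 F284468 (iv F283969)
theorem F286020 : act 2 n63961 = n63680 := d20_1 D63961 F284570 (iv F283970)
theorem F286021 : act 4 n63961 = n63539 := d31_1 D63961 (iv D63539) D63538
theorem F286022 : act 7 n63961 = n63608 := d39_2 (iv F283972) D63961 (iv D63608) (iv F282923) F282922
theorem F286023 : act 8 n63961 = n63573 := d40_2 (iv F283973) D63961 F284152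
def n63962 : Q := act 2 n63542
theorem D63962 : act 2 n63542 = n63962 := rfl
theorem F286024 : act 0 n63962 = n63543 := d1_1 D63962 (iv D63543) (iv F283990)
theorem F286025 : act 4 n63962 = n63719 := d18_2 (iv F283992) D63962 (iv D63719)
theorem F286026 : act 5 n63962 = n63585 := d19_2 (iv F283993) D63962 (iv D63585)
theorem F286027 : act 7 n63962 = n63544 := d21_2 (iv F283994) D63962 (iv D63544)
theorem F286028 : act 8 n63962 = n63710 := d22_2 (iv F283995) D63962 (iv D63710)
def n63963 : Q := act 1 n63544
theorem D63963 : act 1 n63544 = n63963 := rfl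
theorem F286029 : act 0 n63963 = n63963 := d0_1 D63963 (iv D63963) F284001 F281387 (iv F284001)
theorem F286030 : act 2 n63963 = n63732 := d9_2 D63544 D63963 (iv D63732) (iv D63247) (iv F281384)
theorem F286031 : act 5 n63963 = n63615 := d12_2 (iv F284002) D63963 (iv D63615)
theorem F286032 : act 8 n63963 = n63715 := d15_2 (iv F284003) D63963 (iv D63715)
def n63964 : Q := act 2 n63545
theorem D63964 : act 2 n63545 = n63964 := rfl
theorem F286033 : act 0 n63964 = n63546 := d1_1 D63964 (iv D63546) (iv F284004)
theorem F286034 : act 3 n63964 = n63725 := d17_2 D63545 D63964 (iv D63725) (iv D63235) (iv F281392)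
theorem F286035 : act 4 n63964 = n63640 := d18_2 (iv F284006) D63964 F284433
theorem F286036 : act 5 n63964 = n63622 := d19_2 (iv F284007) D63964 (iv D63622)
theorem F286037 : act 7 n63964 = n63548 := d21_2 (iv F284008) D63964 (iv D63548)
theorem F286038 : act 8 n63964 = n63637 := d22_2 (iv F284009) D63964 (iv D63637)
theorem F286039 : act 9 n63964 = n63547 := d23_2 (iv F284010) D63964 (iv D63547)
def n63965 : Q := act 1 n63547
theorem D63965 : act 1 n63547 = n63965 := rfl
theorem F286040 : act 0 n63965 = n63965 := d0_1 D63965 (iv D63965) F284018 F281408 (iv F284018)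
theorem F286041 : act 2 n63965 = n63748 := d9_2 D63547 D63965 F284758 F282437 (iv F281404)
theorem F286042 : act 3 n63965 = n63726 := d10_2 (iv F284019) D63965 (iv D63726)
theorem F286043 : act 5 n63965 = n63639 := d12_2 (iv F284020) D63965 (iv D63639)
theorem F286044 : act 7 n63965 = n63729 := d14_2 (iv F284021) D63965 (iv D63729)
theorem F286045 : act 8 n63965 = n63733 := d15_2 (iv F284022) D63965 (iv D63733)
def n63966 : Q := act 1 n63548
theorem D63966 : act 1 n63548 = n63966 := rfl
theorem F286046 : act 0 n63966 = n63966 := d0_1 D63966 (iv D63966) F284023 F281427 (iv F284023)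
theorem F286047 : act 4 n63966 = n63748 := d11_2 (iv F284024) D63966 F284758
theorem F286048 : act 5 n63966 = n63735 := d12_2 (iv F284025) D63966 (iv D63735)
theorem F286049 : act 6 n63966 = n63732 := d13_2 (iv F284026) D63966 (iv D63732)
theorem F286050 : act 8 n63966 = n63746 := d15_2 (iv F284027) D63966 (iv D63746)
theorem F286051 : act 9 n63966 = n63729 := d16_2 (iv F284028) D63966 (iv D63729)
def n63967 : Q := act 2 n63549
theorem D63967 : act 2 n63549 = n63967 := rfl
theorem F286052 : act 0 n63967 = n63550 := d1_1 D63967 (iv D63550) (iv F284029)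
theorem F286053 : act 3 n63967 = n63727 := d17_2 D63549 D63967 (iv D63727) (iv D63238) (iv F281435)
theorem F286054 : act 4 n63967 = n63712 := d18_2 (iv F284031) D63967 (iv D63712)
theorem F286055 : act 5 n63967 = n63730 := d19_2 (iv F284032) D63967 (iv D63730)
theorem F286056 : act 7 n63967 = n63559 := d21_2 (iv F284033) D63967 (iv D63559)
theorem F286057 : act 9 n63967 = n63749 := d23_2 F285683 D63967 (iv F285678)
def n63968 : Q := act 8 n63549
theorem D63968 : act 8 n63549 = n63968 := rfl
theorem F286058 : act 0 n63968 = n63551 := d7_1 D63968 (iv D63551) (iv F284029)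
theorem F286059 : act 1 n63968 = n63586 := d15_1 D63968 (iv D63586) (iv F284030)
theorem F286060 : act 3 n63968 = n63567 := d28_1 D63968 (iv D63567) (iv D63003) (iv F281438) D63549
theorem F286061 : act 4 n63968 = n63666 := d33_1 D63968 F284527 (iv F284031)
theorem F286062 : act 5 n63968 = n63687 := d37_1 D63968 F284595 (iv F284032)
theorem F286063 : act 7 n63968 = n63560 := d42_1 D63968 (iv D63560) (iv F284033)
def n63969 : Q := act 8 n63550
theorem D63969 : act 8 n63550 = n63969 := rfl
theorem F286064 : act 1 n63969 = n63969 := d15_1 D63969 (iv D63969) F284034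
theorem F286065 : act 2 n63969 = n63551 := d22_1 D63969 (iv D63551) D63550
theorem F286066 : act 3 n63969 = n63670 := d28_1 D63969 (iv D63670) (iv F284129) F284133 (iv F284035)
theorem F286067 : act 4 n63969 = n63667 := d33_1 D63969 F284530 (iv F284036)
theorem F286068 : act 5 n63969 = n63688 := d37_1 D63969 F284599 (iv F284037)
theorem F286069 : act 7 n63969 = n63561 := d42_1 D63969 (iv D63561) (iv F284038)
def n63970 : Q := act 2 n63552
theorem D63970 : act 2 n63552 = n63970 := rfl
theorem F286070 : act 0 n63970 = n63554 := d1_1 D63970 (iv D63554) (iv F284045)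
theorem F286071 : act 3 n63970 = n63710 := d17_2 D63552 D63970 (iv D63710) (iv D63208) (iv F281451)
theorem F286072 : act 4 n63970 = n63559 := d18_2 (iv F284047) D63970 (iv D63559)
theorem F286073 : act 7 n63970 = n63712 := d21_2 (iv F284048) D63970 (iv D63712)
def n63971 : Q := act 5 n63552
theorem D63971 : act 5 n63552 = n63971 := rfl
theorem F286074 : act 0 n63971 = n63555 := d4_1 D63971 (iv D63555) (iv F284045)
theorem F286075 : act 1 n63971 = n63606 := d12_1 D63971 (iv D63606) (iv F284046)
theorem F286076 : act 3 n63971 = n63553 := d25_1 D63971 (iv D63553) D63552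
theorem F286077 : act 4 n63971 = n63684 := d30_1 D63971 F284584 F282344 (iv F281493) (iv F284047)
theorem F286078 : act 7 n63971 = n63632 := d36_2 (iv F284048) D63971 F284403
theorem F286079 : act 8 n63657 = n63971 := d46_0 (iv D63971) F284047 (iv D62994) (iv F279990) F279989 F277895 F273394 (iv F271788) (iv D60918) F266790 F265320 (iv D58303) F255904 (iv F255888) D58297 (iv F265467) (iv F269649) F269648 (iv F269606) F269605 (iv F268768) (iv D60155) (iv D58929) (iv D57753) (iv F257028) F257027 F251619 (iv D55614) (iv F249564) F249563 (iv F253967) F253966 F247913 F240621 D53785 (iv F248569) F248568 D56679 D57852 D59044 D60284 F269240 F264234 D59062 F264247 (iv F265225) (iv F268311) (iv D60050) F263379 (iv F263369) F263368 (iv F265300) (iv F265977) (iv D59587) F261212 (iv F264607) (iv F269213) D61446 D62415 F278690 (iv F282035) (iv F284497)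
def n63972 : Q := act 8 n63552
theorem D63972 : act 8 n63552 = n63972 := rfl
theorem F286080 : act 0 n63972 = n63556 := d7_1 D63972 (iv D63556) (iv F284045)
theorem F286081 : act 1 n63972 = n63607 := d15_1 D63972 (iv D63607) (iv F284046)
theorem F286082 : act 3 n63972 = n63658 := d28_1 D63972 F284505 F282103 (iv F281453) D63552
theorem F286083 : act 4 n63972 = n63560 := d33_1 D63972 (iv D63560) (iv F284047)
theorem F286084 : act 5 n63972 = n63657 := d37_1 D63972 F286079 (iv D63971)
theorem F286085 : act 7 n63972 = n63666 := d42_1 D63972 F284527 (iv F284048)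
def n63973 : Q := act 6 n63553
theorem D63973 : act 6 n63553 = n63973 := rfl
theorem F286086 : act 0 n63973 = n63557 := d5_1 D63973 (iv D63557) (iv F284049)
theorem F286087 : act 1 n63973 = n63608 := d13_1 D63973 (iv D63608) (iv F284050)
theorem F286088 : act 2 n63973 = n63627 := d20_1 D63973 F284381 (iv F284051)
theorem F286089 : act 4 n63973 = n63558 := d31_1 D63973 (iv D63558) (iv F284052)
theorem F286090 : act 7 n63973 = n63649 := d39_2 (iv F284053) D63973 F284468 F281994 (iv F281883)
theorem F286091 : act 8 n63973 = n63626 := d40_2 (iv F284054) D63973 F284376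
def n63974 : Q := act 5 n63554
theorem D63974 : act 5 n63554 = n63974 := rfl
theorem F286092 : act 1 n63974 = n63974 := d12_1 D63974 (iv D63974) F284055
theorem F286093 : act 2 n63974 = n63555 := d19_1 D63974 (iv D63555) D63554
theorem F286094 : act 3 n63974 = n63587 := d25_1 D63974 F284205 (iv F284056)
theorem F286095 : act 4 n63974 = n63685 := d30_1 D63974 F284587 F282351 (iv F281495) (iv F284057)
theorem F286096 : act 7 n63974 = n63618 := d36_2 (iv F284058) D63974 F284332
theorem F286097 : act 8 n63659 = n63974 := d42_0 F286096 F284334 (iv F284508)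
def n63975 : Q := act 8 n63554
theorem D63975 : act 8 n63554 = n63975 := rfl
theorem F286098 : act 1 n63975 = n63975 := d15_1 D63975 (iv D63975) F284055
theorem F286099 : act 2 n63975 = n63556 := d22_1 D63975 (iv D63556) D63554
theorem F286100 : act 4 n63975 = n63561 := d33_1 D63975 (iv D63561) (iv F284057)
theorem F286101 : act 5 n63975 = n63659 := d37_1 D63975 F286097 (iv D63974)
theorem F286102 : act 7 n63975 = n63667 := d42_1 D63975 F284530 (iv F284058)
def n63976 : Q := act 1 n63559
theorem D63976 : act 1 n63559 = n63976 := rfl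
theorem F286103 : act 0 n63976 = n63976 := d0_1 D63976 (iv D63976) F284081 F281494 (iv F284081)
theorem F286104 : act 2 n63976 = n63615 := d9_2 D63559 D63976 (iv D63615) (iv D63065) (iv F281492)
theorem F286105 : act 5 n63976 = n63732 := d12_2 (iv F284082) D63976 (iv D63732)
def n63977 : Q := act 8 n63559
theorem D63977 : act 8 n63559 = n63977 := rfl
theorem F286106 : act 0 n63977 = n63561 := d7_1 D63977 (iv D63561) (iv F284081)
theorem F286107 : act 2 n63977 = n63560 := d22_1 D63977 (iv D63560) D63559
theorem F286108 : act 5 n63977 = n63690 := d37_1 D63977 F284608 (iv F284082)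
def n63978 : Q := act 2 n63562
theorem D63978 : act 2 n63562 = n63978 := rfl
theorem F286109 : act 0 n63978 = n63563 := d1_1 D63978 (iv D63563) (iv F284090)
theorem F286110 : act 3 n63978 = n63730 := d17_2 D63562 D63978 (iv D63730) (iv D63243) (iv F281501)
theorem F286111 : act 4 n63978 = n63656 := d18_2 (iv F284092) D63978 (iv D63656)
theorem F286112 : act 5 n63978 = n63727 := d19_2 (iv F284093) D63978 (iv D63727)
theorem F286113 : act 7 n63978 = n63731 := d21_2 (iv F284094) D63978 (iv D63731)
theorem F286114 : act 8 n63978 = n63734 := d22_2 (iv F284095) D63978 (iv D63734)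
theorem F286115 : act 9 n63978 = n63570 := d23_2 (iv F284096) D63978 (iv D63570)
def n63979 : Q := act 8 n63564
theorem D63979 : act 8 n63564 = n63979 := rfl
theorem F286116 : act 0 n63979 = n63566 := d7_1 D63979 (iv D63566) (iv F284104)
theorem F286117 : act 1 n63979 = n63627 := d15_1 D63979 (iv D63627) (iv F284105)
theorem F286118 : act 4 n63979 = n63689 := d33_1 D63979 F284604 (iv F284106)
theorem F286119 : act 6 n63979 = n63567 := d40_1 D63979 (iv D63567) (iv F284107)
def n63980 : Q := act 2 n63568
theorem D63980 : act 2 n63568 = n63980 := rfl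
theorem F286120 : act 0 n63980 = n63569 := d1_1 D63980 (iv D63569) (iv F284121)
theorem F286121 : act 3 n63980 = n63668 := d17_2 D63568 D63980 (iv D63668) (iv D63140) (iv F281543)
theorem F286122 : act 4 n63980 = n63570 := d18_2 (iv F284123) D63980 (iv D63570)
theorem F286123 : act 5 n63980 = n63734 := d19_2 (iv F284124) D63980 (iv D63734)
theorem F286124 : act 7 n63980 = n63713 := d21_2 (iv F284125) D63980 (iv D63713)
theorem F286125 : act 8 n63980 = n63727 := d22_2 (iv F284126) D63980 (iv D63727)
theorem F286126 : act 9 n63980 = n63656 := d23_2 (iv F284127) D63980 (iv D63656)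
def n63981 : Q := act 1 n63570
theorem D63981 : act 1 n63570 = n63981 := rfl
theorem F286127 : act 0 n63981 = n63981 := d0_1 D63981 (iv D63981) F284135 F281559 (iv F284135)
theorem F286128 : act 2 n63981 = n63639 := d9_2 D63570 D63981 (iv D63639) (iv D63100) (iv F281555)
theorem F286129 : act 5 n63981 = n63748 := d12_2 (iv F284136) D63981 F284758
theorem F286130 : act 7 n63981 = n63733 := d14_2 (iv F284137) D63981 (iv D63733)
theorem F286131 : act 8 n63981 = n63729 := d15_2 (iv F284138) D63981 (iv D63729)
def n63982 : Q := act 2 n63571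
theorem D63982 : act 2 n63571 = n63982 := rfl
theorem F286132 : act 0 n63982 = n63572 := d1_1 D63982 (iv D63572) (iv F284139)
theorem F286133 : act 3 n63982 = n63744 := d17_2 D63571 D63982 (iv D63744) (iv D63262) (iv F281565)
theorem F286134 : act 5 n63982 = n63691 := d19_2 (iv F284141) D63982 (iv D63691)
theorem F286135 : act 7 n63982 = n63577 := d21_2 (iv F284142) D63982 (iv D63577)
theorem F286136 : act 9 n63982 = n63736 := d23_2 (iv F284143) D63982 (iv D63736)
def n63983 : Q := act 2 n63574
theorem D63983 : act 2 n63574 = n63983 := rfl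
theorem F286137 : act 0 n63983 = n63575 := d1_1 D63983 (iv D63575) (iv F284154)
theorem F286138 : act 3 n63983 = n63691 := d17_2 D63574 D63983 (iv D63691) (iv D63182) (iv F281598)
theorem F286139 : act 5 n63983 = n63744 := d19_2 (iv F284156) D63983 (iv D63744)
theorem F286140 : act 7 n63983 = n63736 := d21_2 (iv F284157) D63983 (iv D63736)
theorem F286141 : act 9 n63983 = n63577 := d23_2 (iv F284158) D63983 (iv D63577)
def n63984 : Q := act 8 n63574
theorem D63984 : act 8 n63574 = n63984 := rfl
theorem F286142 : act 0 n63984 = n63576 := d7_1 D63984 (iv D63576) (iv F284154)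
theorem F286143 : act 1 n63984 = n63669 := d15_1 D63984 (iv D63669) (iv F284155)
theorem F286144 : act 3 n63984 = n63594 := d28_1 D63984 F284240 (iv D63181) (iv F281601) D63574
theorem F286145 : act 5 n63984 = n63593 := d37_1 D63984 F284235 (iv F284156)
theorem F286146 : act 7 n63984 = n63737 := d42_1 D63984 (iv D63737) (iv F284157)
def n63985 : Q := act 8 n63575
theorem D63985 : act 8 n63575 = n63985 := rfl
theorem F286147 : act 1 n63985 = n63985 := d15_1 D63985 (iv D63985) F284159
theorem F286148 : act 2 n63985 = n63576 := d22_1 D63985 (iv D63576) D63575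
theorem F286149 : act 3 n63985 = n63609 := d28_1 D63985 (iv F284300) (iv F284558) F284560 (iv F284160)
theorem F286150 : act 5 n63985 = n63595 := d37_1 D63985 F284244 (iv F284161)
theorem F286151 : act 7 n63985 = n63738 := d42_1 D63985 (iv D63738) (iv F284162)
def n63986 : Q := act 1 n63577
theorem D63986 : act 1 n63577 = n63986 := rfl
theorem F286152 : act 0 n63986 = n63986 := d0_1 D63986 (iv D63986) F284168 F281615 (iv F284168)
theorem F286153 : act 2 n63986 = n63672 := d9_2 D63577 D63986 (iv D63672) (iv D63144) (iv F281613)
theorem F286154 : act 5 n63986 = n63745 := d12_2 (iv F284169) D63986 (iv D63745)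
def n63987 : Q := act 8 n63577
theorem D63987 : act 8 n63577 = n63987 := rfl
theorem F286155 : act 0 n63987 = n63579 := d7_1 D63987 (iv D63579) (iv F284168)
theorem F286156 : act 2 n63987 = n63578 := d22_1 D63987 (iv D63578) D63577
theorem F286157 : act 5 n63987 = n63682 := d37_1 D63987 F284578 (iv F284169)
def n63988 : Q := act 2 n63580
theorem D63988 : act 2 n63580 = n63988 := rfl
theorem F286158 : act 0 n63988 = n63581 := d1_1 D63988 (iv D63581) (iv F284177)
theorem F286159 : act 3 n63988 = n63743 := d17_2 D63580 D63988 (iv D63743) (iv D63260) (iv F281628)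
theorem F286160 : act 4 n63988 = n63585 := d18_2 (iv F284179) D63988 (iv D63585)
theorem F286161 : act 6 n63988 = n63736 := d20_2 (iv F284180) D63988 (iv D63736)
theorem F286162 : act 7 n63988 = n63605 := d21_2 (iv F284181) D63988 (iv D63605)
def n63989 : Q := act 2 n63582
theorem D63989 : act 2 n63582 = n63989 := rfl
theorem F286163 : act 0 n63989 = n63583 := d1_1 D63989 (iv D63583) (iv F284187)
theorem F286164 : act 4 n63989 = n63736 := d18_2 (iv F284188) D63989 (iv D63736)
theorem F286165 : act 6 n63989 = n63585 := d20_2 (iv F284189) D63989 (iv D63585)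
def n63990 : Q := act 8 n63582
theorem D63990 : act 8 n63582 = n63990 := rfl
theorem F286166 : act 0 n63990 = n63584 := d7_1 D63990 (iv D63584) (iv F284187)
theorem F286167 : act 3 n63990 = n63627 := d28_1 D63990 (iv D63627) (iv D63076) (iv F281638) D63582
theorem F286168 : act 4 n63990 = n63737 := d33_1 D63990 (iv D63737) (iv F284188)
theorem F286169 : act 6 n63990 = n63586 := d40_1 D63990 (iv D63586) (iv F284189)
def n63991 : Q := act 8 n63583
theorem D63991 : act 8 n63583 = n63991 := rfl
theorem F286170 : act 1 n63991 = n63991 := d15_1 D63991 (iv D63991) F284190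
theorem F286171 : act 2 n63991 = n63584 := d22_1 D63991 (iv D63584) D63583
theorem F286172 : act 4 n63991 = n63738 := d33_1 D63991 (iv D63738) (iv F284191)
theorem F286173 : act 6 n63991 = n63587 := d40_1 D63991 (iv D63587) (iv F284192)
def n63992 : Q := act 1 n63585
theorem D63992 : act 1 n63585 = n63992 := rfl
theorem F286174 : act 0 n63992 = n63992 := d0_1 D63992 (iv D63992) F284197 F281648 (iv F284197)
theorem F286175 : act 7 n63992 = n63615 := d14_2 (iv F284198) D63992 (iv D63615)
def n63993 : Q := act 8 n63585
theorem D63993 : act 8 n63585 = n63993 := rfl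
theorem F286176 : act 0 n63993 = n63587 := d7_1 D63993 (iv D63587) (iv F284197)
theorem F286177 : act 2 n63993 = n63586 := d22_1 D63993 (iv D63586) D63585
theorem F286178 : act 5 n63993 = n63710 := d37_1 D63993 (iv F286028) F286026
theorem F286179 : act 7 n63993 = n63616 := d42_1 D63993 (iv D63616) (iv F284198)
def n63994 : Q := act 9 n63586
theorem D63994 : act 9 n63586 = n63994 := rfl
theorem F286180 : act 0 n63994 = n63588 := d8_1 D63994 (iv D63588) (iv F284199)
theorem F286181 : act 3 n63994 = n63629 := d29_1 D63994 (iv D63629) (iv F284200)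
theorem F286182 : act 5 n63994 = n63708 := d38_1 D63994 F284657 (iv F284201)
theorem F286183 : act 7 n63994 = n63617 := d43_1 D63994 (iv D63617) (iv F284202)
def n63995 : Q := act 9 n63587
theorem D63995 : act 9 n63587 = n63995 := rfl
theorem F286184 : act 1 n63995 = n63995 := d16_1 D63995 (iv D63995) F284203
theorem F286185 : act 2 n63995 = n63588 := d23_1 D63995 (iv D63588) (iv F284204)
theorem F286186 : act 5 n63995 = n63709 := d38_1 D63995 F284661 (iv F284205)
theorem F286187 : act 7 n63995 = n63619 := d43_1 D63995 (iv D63619) (iv F284206)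
def n63996 : Q := act 5 n63589
theorem D63996 : act 5 n63589 = n63996 := rfl
theorem F286188 : act 0 n63996 = n63591 := d4_1 D63996 (iv D63591) (iv F284211)
theorem F286189 : act 1 n63996 = n63596 := d12_1 D63996 (iv D63596) (iv F284212)
theorem F286190 : act 2 n63996 = n63679 := d19_1 D63996 F284566 (iv F284213)
theorem F286191 : act 3 n63996 = n63590 := d25_1 D63996 (iv D63590) D63589
theorem F286192 : act 6 n63996 = n63655 := d35_2 (iv F284214) D63996 F284491 F282157 D63171
theorem F286193 : act 7 n63996 = n63689 := d36_2 (iv F284215) D63996 F284603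
theorem F286194 : act 8 n63653 = n63996 := d46_0 (iv D63996) (iv F284984) F284983 F283155 F280601 F279106 (iv F278523) (iv F281876) F281875 (iv F281978) (iv F283783) F283782 F281106 (iv F281841) (iv F282691) F282690 F281674 F278221 F273735 F269628 F264925 (iv D58054) (iv D56877) (iv D55598) F242359 F234227 (iv F235196) (iv D52562) (iv F233597) F233596 F224339 F214406 F186776 F130129 F130133 F91143 F63776 F44802 F44801 (iv F45468) (iv F64691) (iv F92156) (iv F131323) (iv F188554) (iv F212058) (iv F222161) (iv F231162) F231161 D51561 (iv F239474) F239473 D53832 D55422 D56723 D57898 (iv F264297) F264294 D60321 D61490 D62452 D63158 (iv F284481)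
def n63997 : Q := act 8 n63589
theorem D63997 : act 8 n63589 = n63997 := rfl
theorem F286195 : act 0 n63997 = n63592 := d7_1 D63997 (iv D63592) (iv F284211)
theorem F286196 : act 1 n63997 = n63597 := d15_1 D63997 (iv D63597) (iv F284212)
theorem F286197 : act 2 n63997 = n63689 := d22_1 D63997 F284604 (iv F284213)
theorem F286198 : act 3 n63997 = n63655 := d28_1 D63997 (iv D63655) F282014 (iv F281663) D63589
theorem F286199 : act 5 n63997 = n63653 := d37_1 D63997 F286194 (iv D63996)
theorem F286200 : act 6 n63997 = n63590 := d40_1 D63997 F284220 (iv F284214)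
theorem F286201 : act 7 n63997 = n63679 := d42_1 D63997 F284568 (iv F284215)
def n63998 : Q := act 2 n63593
theorem D63998 : act 2 n63593 = n63998 := rfl
theorem F286202 : act 0 n63998 = n63595 := d1_1 D63998 (iv D63595) (iv F284233)
theorem F286203 : act 3 n63998 = n63605 := d17_2 D63593 D63998 (iv D63605) (iv D63054) (iv F281685)
theorem F286204 : act 7 n63998 = n63743 := d21_2 (iv F284234) D63998 (iv D63743)
theorem F286205 : act 8 n63998 = n63744 := d22_2 (iv F284235) D63998 (iv D63744)
def n63999 : Q := act 4 n63596
theorem D63999 : act 4 n63596 = n63999 := rfl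
theorem F286206 : act 0 n63999 = n63598 := d3_1 D63999 (iv D63598) (iv F284245)
theorem F286207 : act 2 n63999 = n63649 := d18_1 D63999 F284467 (iv F284246)
theorem F286208 : act 6 n63999 = n63630 := d31_2 (iv F284248) D63999 F284393
theorem F286209 : act 7 n63999 = n63627 := d32_2 (iv F284249) D63999 F284380
theorem F286210 : act 8 n63999 = n63625 := d33_2 F284250 D63999 F284369
def n64000 : Q := act 2 n63599
theorem D64000 : act 2 n63599 = n64000 := rfl
theorem F286211 : act 0 n64000 = n63601 := d1_1 D64000 (iv D63601) (iv F284262)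
theorem F286212 : act 4 n64000 = n63611 := d18_2 (iv F284263) D64000 (iv D63611)
theorem F286213 : act 6 n64000 = n63605 := d20_2 (iv F284264) D64000 (iv D63605)
theorem F286214 : act 9 n64000 = n63703 := d23_2 (iv F284265) D64000 (iv D63703)
def n64001 : Q := act 5 n63599
theorem D64001 : act 5 n63599 = n64001 := rfl
theorem F286215 : act 0 n64001 = n63602 := d4_1 D64001 (iv D63602) (iv F284262)
theorem F286216 : act 3 n64001 = n63600 := d25_1 D64001 (iv D63600) D63599
theorem F286217 : act 4 n64001 = n63617 := d30_1 D64001 F284329 (iv F282969) F282970 (iv F284263)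
theorem F286218 : act 9 n64001 = n63607 := d38_2 (iv F284265) D64001 F284294
def n64002 : Q := act 8 n63599
theorem D64002 : act 8 n63599 = n64002 := rfl
theorem F286219 : act 0 n64002 = n63603 := d7_1 D64002 (iv D63603) (iv F284262)
theorem F286220 : act 3 n64002 = n63680 := d28_1 D64002 (iv F285091) F285088 F283029 D63599
theorem F286221 : act 4 n64002 = n63612 := d33_1 D64002 (iv D63612) (iv F284263)
theorem F286222 : act 6 n64002 = n63607 := d40_1 D64002 (iv D63607) (iv F284264)
def n64003 : Q := act 6 n63600
theorem D64003 : act 6 n63600 = n64003 := rfl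
theorem F286223 : act 0 n64003 = n63604 := d5_1 D64003 (iv D63604) (iv F284266)
theorem F286224 : act 4 n64003 = n63648 := d31_1 D64003 F284464 (iv F284267)
theorem F286225 : act 5 n64003 = n63608 := d35_1 D64003 (iv D63608) (iv D63055) (iv F281724) D63600
theorem F286226 : act 9 n64003 = n63680 := d41_2 (iv F284268) D64003 F284570
def n64004 : Q := act 5 n63601
theorem D64004 : act 5 n63601 = n64004 := rfl
theorem F286227 : act 1 n64004 = n64004 := d12_1 D64004 (iv D64004) F284269
theorem F286228 : act 2 n64004 = n63602 := d19_1 D64004 (iv D63602) D63601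
theorem F286229 : act 4 n64004 = n63619 := d30_1 D64004 F284337 (iv F282977) F282978 (iv F284270)
theorem F286230 : act 9 n64004 = n63610 := d38_2 (iv F284272) D64004 F284304
def n64005 : Q := act 8 n63601
theorem D64005 : act 8 n63601 = n64005 := rfl
theorem F286231 : act 1 n64005 = n64005 := d15_1 D64005 (iv D64005) F284269
theorem F286232 : act 2 n64005 = n63603 := d22_1 D64005 (iv D63603) D63601
theorem F286233 : act 4 n64005 = n63613 := d33_1 D64005 (iv D63613) (iv F284270)
theorem F286234 : act 6 n64005 = n63610 := d40_1 D64005 (iv D63610) (iv F284271)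
def n64006 : Q := act 1 n63605
theorem D64006 : act 1 n63605 = n64006 := rfl
theorem F286235 : act 0 n64006 = n64006 := d0_1 D64006 (iv D64006) F284285 F281749 (iv F284285)
theorem F286236 : act 4 n64006 = n63615 := d11_2 (iv F284286) D64006 (iv D63615)
def n64007 : Q := act 5 n63605
theorem D64007 : act 5 n63605 = n64007 := rfl
theorem F286237 : act 0 n64007 = n63609 := d4_1 D64007 (iv D63609) (iv F284285)
theorem F286238 : act 2 n64007 = n63606 := d19_1 D64007 (iv D63606) D63605
theorem F286239 : act 4 n64007 = n63705 := d30_1 D64007 (iv F285927) F285926 F284002 (iv F284286)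
theorem F286240 : act 8 n63703 = n64007 := d33_0 F286239 (iv D63705) (iv F284646)
def n64008 : Q := act 8 n63605
theorem D64008 : act 8 n63605 = n64008 := rfl
theorem F286241 : act 0 n64008 = n63610 := d7_1 D64008 (iv D63610) (iv F284285)
theorem F286242 : act 2 n64008 = n63607 := d22_1 D64008 (iv D63607) D63605
theorem F286243 : act 4 n64008 = n63616 := d33_1 D64008 (iv D63616) (iv F284286)
theorem F286244 : act 5 n64008 = n63703 := d37_1 D64008 F286240 (iv D64007)
def n64009 : Q := act 1 n63611
theorem D64009 : act 1 n63611 = n64009 := rfl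
theorem F286245 : act 0 n64009 = n64009 := d0_1 D64009 (iv D64009) F284305 F281767 (iv F284305)
theorem F286246 : act 3 n64009 = n63735 := d10_2 (iv F284306) D64009 (iv D63735)
theorem F286247 : act 6 n64009 = n63615 := d13_2 (iv F284307) D64009 (iv D63615)
theorem F286248 : act 9 n64009 = n63704 := d16_2 (iv F284308) D64009 (iv D63704)
def n64010 : Q := act 8 n63611
theorem D64010 : act 8 n63611 = n64010 := rfl
theorem F286249 : act 0 n64010 = n63613 := d7_1 D64010 (iv D63613) (iv F284305)
theorem F286250 : act 2 n64010 = n63612 := d22_1 D64010 (iv D63612) D63611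
theorem F286251 : act 3 n64010 = n63674 := d28_1 D64010 (iv D63674) (iv F284494) F284496 (iv F284306)
theorem F286252 : act 5 n64010 = n63700 := d37_1 D64010 (iv F285218) F285215
theorem F286253 : act 6 n64010 = n63616 := d40_1 D64010 (iv D63616) (iv F284307)
def n64011 : Q := act 9 n63612
theorem D64011 : act 9 n63612 = n64011 := rfl
theorem F286254 : act 0 n64011 = n63614 := d8_1 D64011 (iv D63614) (iv F284309)
theorem F286255 : act 3 n64011 = n63631 := d29_1 D64011 (iv D63631) (iv F284310)
theorem F286256 : act 5 n64011 = n63635 := d38_1 D64011 F284419 (iv F284311)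
theorem F286257 : act 6 n64011 = n63617 := d41_1 D64011 (iv D63617) (iv F284312)
theorem F286258 : act 8 n64011 = n63706 := d44_1 D64011 (iv D63706) (iv D63203) (iv F281766) D63612
def n64012 : Q := act 9 n63613
theorem D64012 : act 9 n63613 = n64012 := rfl
theorem F286259 : act 1 n64012 = n64012 := d16_1 D64012 (iv D64012) F284313
theorem F286260 : act 2 n64012 = n63614 := d23_1 D64012 (iv D63614) (iv F284314)
theorem F286261 : act 3 n64012 = n63678 := d29_1 D64012 (iv D63678) (iv F284315)
theorem F286262 : act 5 n64012 = n63636 := d38_1 D64012 F284424 (iv F284316)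
theorem F286263 : act 6 n64012 = n63619 := d41_1 D64012 (iv D63619) (iv F284317)
theorem F286264 : act 8 n64012 = n63707 := d44_1 D64012 (iv D63707) (iv D63204) (iv F281770) D63613
def n64013 : Q := act 8 n63615
theorem D64013 : act 8 n63615 = n64013 := rfl
theorem F286265 : act 0 n64013 = n64013 := d7_1 D64013 (iv D64013) F284323
theorem F286266 : act 1 n64013 = n63616 := d15_1 D64013 (iv D63616) D63615
theorem F286267 : act 5 n64013 = n63715 := d37_1 D64013 (iv F286032) F286031
def n64014 : Q := act 3 n63616
theorem D64014 : act 3 n63616 = n64014 := rfl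
theorem F286268 : act 0 n64014 = n63618 := d2_1 D64014 (iv D63618) (iv F284324)
theorem F286269 : act 2 n64014 = n63632 := d17_1 D64014 (iv D63632) F281880 (iv F281782) (iv F284325)
theorem F286270 : act 5 n64014 = n63712 := d25_2 (iv F284326) D64014 F284668
theorem F286271 : act 6 n64014 = n63674 := d26_2 F286253 D64014 (iv F286251)
theorem F286272 : act 8 n64014 = n63665 := d28_2 D63616 D64014 F285440 (iv D63852) F283233
def n64015 : Q := act 9 n63616
theorem D64015 : act 9 n63616 = n64015 := rfl
theorem F286273 : act 0 n64015 = n63619 := d8_1 D64015 (iv D63619) (iv F284324)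
theorem F286274 : act 2 n64015 = n63617 := d23_1 D64015 (iv D63617) (iv F284325)
theorem F286275 : act 5 n64015 = n63714 := d38_1 D64015 F284673 (iv F284326)
def n64016 : Q := act 9 n63618
theorem D64016 : act 9 n63618 = n64016 := rfl
theorem F286276 : act 1 n64016 = n64016 := d16_1 D64016 (iv D64016) F284330
theorem F286277 : act 2 n64016 = n63634 := d23_1 D64016 (iv D63634) (iv F284331)
theorem F286278 : act 3 n64016 = n63619 := d29_1 D64016 (iv D63619) D63618
theorem F286279 : act 5 n64016 = n63642 := d38_1 D64016 F284443 (iv F284332)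
theorem F286280 : act 6 n64016 = n63678 := d41_1 D64016 (iv D63678) (iv F284333)
def n64017 : Q := act 2 n63620
theorem D64017 : act 2 n63620 = n64017 := rfl
theorem F286281 : act 0 n64017 = n63621 := d1_1 D64017 (iv D63621) (iv F284338)
theorem F286282 : act 4 n64017 = n63700 := d18_2 (iv F284339) D64017 (iv D63700)
theorem F286283 : act 6 n64017 = n63622 := d20_2 (iv F284340) D64017 (iv D63622)
theorem F286284 : act 8 n64017 = n63714 := d22_2 (iv F284341) D64017 (iv D63714)
theorem F286285 : act 9 n64017 = n63638 := d23_2 (iv F284342) D64017 (iv D63638)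
def n64018 : Q := act 1 n63622
theorem D64018 : act 1 n63622 = n64018 := rfl
theorem F286286 : act 0 n64018 = n64018 := d0_1 D64018 (iv D64018) F284348 F281802 (iv F284348)
theorem F286287 : act 7 n64018 = n63735 := d14_2 (iv F284349) D64018 (iv D63735)
theorem F286288 : act 9 n64018 = n63639 := d16_2 (iv F284350) D64018 (iv D63639)
def n64019 : Q := act 8 n63622
theorem D64019 : act 8 n63622 = n64019 := rfl
theorem F286289 : act 0 n64019 = n63624 := d7_1 D64019 (iv D63624) (iv F284348)
theorem F286290 : act 2 n64019 = n63623 := d22_1 D64019 (iv D63623) D63622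
theorem F286291 : act 4 n64019 = n63731 := d33_1 D64019 (iv F285516) F285512
theorem F286292 : act 5 n64019 = n63637 := d37_1 D64019 (iv F286038) F286036
theorem F286293 : act 6 n64019 = n63714 := d40_1 D64019 (iv F286284) F286283
theorem F286294 : act 7 n64019 = n63656 := d42_1 D64019 F284496 (iv F284349)
theorem F286295 : act 9 n64019 = n63713 := d44_2 (iv F284350) D64019 (iv F285210) F285211 (iv D63640)
theorem F286296 : act 3 n63643 = n64019 := d29_3 F286295 (iv F285530) F285532
def n64020 : Q := act 9 n63627
theorem D64020 : act 9 n63627 = n64020 := rfl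
theorem F286297 : act 0 n64020 = n63628 := d8_1 D64020 (iv D63628) (iv F284379)
theorem F286298 : act 4 n64020 = n63711 := d34_1 D64020 F284666 (iv F284380)
theorem F286299 : act 6 n64020 = n63629 := d41_1 D64020 (iv D63629) (iv F284381)
theorem F286300 : act 8 n64020 = n63654 := d44_1 D64020 (iv D63654) (iv D63121) (iv F281826) D63627
def n64021 : Q := act 9 n63632
theorem D64021 : act 9 n63632 = n64021 := rfl
theorem F286301 : act 0 n64021 = n63634 := d8_1 D64021 (iv D63634) (iv F284402)
theorem F286302 : act 3 n64021 = n63633 := d29_1 D64021 (iv D63633) D63632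
theorem F286303 : act 5 n64021 = n63641 := d38_1 D64021 F284438 (iv F284403)
theorem F286304 : act 6 n64021 = n63676 := d41_1 D64021 (iv D63676) (iv F284404)
def n64022 : Q := act 2 n63635
theorem D64022 : act 2 n63635 = n64022 := rfl
theorem F286305 : act 0 n64022 = n63636 := d1_1 D64022 (iv D63636) (iv F284416)
theorem F286306 : act 3 n64022 = n63701 := d17_2 D63635 D64022 (iv D63701) (iv D63196) (iv F281903)
theorem F286307 : act 4 n64022 = n63638 := d18_2 (iv F284417) D64022 (iv D63638)
theorem F286308 : act 6 n64022 = n63637 := d20_2 (iv F284418) D64022 (iv D63637)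
theorem F286309 : act 9 n64022 = n63700 := d23_2 (iv F284419) D64022 (iv D63700)
def n64023 : Q := act 1 n63637
theorem D64023 : act 1 n63637 = n64023 := rfl
theorem F286310 : act 0 n64023 = n64023 := d0_1 D64023 (iv D64023) F284425 F281922 (iv F284425)
theorem F286311 : act 4 n64023 = n63639 := d11_2 (iv F284426) D64023 (iv D63639)
theorem F286312 : act 7 n64023 = n63746 := d14_2 (iv F284427) D64023 (iv D63746)
def n64024 : Q := act 1 n63638
theorem D64024 : act 1 n63638 = n64024 := rfl
theorem F286313 : act 0 n64024 = n64024 := d0_1 D64024 (iv D64024) F284428 F281927 (iv F284428)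
theorem F286314 : act 6 n64024 = n63639 := d13_2 (iv F284429) D64024 (iv D63639)
def n64025 : Q := act 8 n63639
theorem D64025 : act 8 n63639 = n64025 := rfl
theorem F286315 : act 0 n64025 = n64025 := d7_1 D64025 (iv D64025) F284430
theorem F286316 : act 1 n64025 = n63640 := d15_1 D64025 (iv D63640) D63639
theorem F286317 : act 2 n64025 = n63729 := d22_1 D64025 (iv F286131) F286128
theorem F286318 : act 5 n64025 = n63733 := d37_1 D64025 (iv F286045) F286043
theorem F286319 : act 7 n64025 = n63748 := d42_1 D64025 (iv D63748) (iv F284431)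
def n64026 : Q := act 2 n63641
theorem D64026 : act 2 n63641 = n64026 := rfl
theorem F286320 : act 0 n64026 = n63642 := d1_1 D64026 (iv D63642) (iv F284436)
theorem F286321 : act 3 n64026 = n63714 := d17_2 D63641 D64026 (iv D63714) (iv D63217) (iv F281941)
theorem F286322 : act 4 n64026 = n63749 := d18_2 (iv F285684) D64026 (iv F285678)
theorem F286323 : act 6 n64026 = n63643 := d20_2 (iv F284437) D64026 (iv D63643)
theorem F286324 : act 9 n64026 = n63712 := d23_2 (iv F284438) D64026 (iv D63712)
def n64027 : Q := act 1 n63643
theorem D64027 : act 1 n63643 = n64027 := rfl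
theorem F286325 : act 0 n64027 = n64027 := d0_1 D64027 (iv D64027) F284444 F281950 (iv F284444)
theorem F286326 : act 7 n64027 = n63672 := d14_2 (iv F284445) D64027 (iv D63672)
def n64028 : Q := act 8 n63643
theorem D64028 : act 8 n63643 = n64028 := rfl
theorem F286327 : act 0 n64028 = n63645 := d7_1 D64028 (iv D63645) (iv F284444)
theorem F286328 : act 2 n64028 = n63644 := d22_1 D64028 (iv D63644) D63643
theorem F286329 : act 5 n64028 = n63699 := d37_1 D64028 (iv F285524) F285521
theorem F286330 : act 7 n64028 = n63674 := d42_1 D64028 (iv D63674) (iv F284445)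
def n64029 : Q := act 9 n63644
theorem D64029 : act 9 n63644 = n64029 := rfl
theorem F286331 : act 0 n64029 = n63646 := d8_1 D64029 (iv D63646) (iv F284446)
theorem F286332 : act 3 n64029 = n63652 := d29_1 D64029 (iv D63652) (iv F284447)
theorem F286333 : act 5 n64029 = n63697 := d38_1 D64029 F284632 (iv F284448)
theorem F286334 : act 7 n64029 = n63676 := d43_1 D64029 (iv D63676) (iv F284449)
def n64030 : Q := act 9 n63645
theorem D64030 : act 9 n63645 = n64030 := rfl
theorem F286335 : act 1 n64030 = n64030 := d16_1 D64030 (iv D64030) F284450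
theorem F286336 : act 2 n64030 = n63646 := d23_1 D64030 (iv D63646) (iv F284451)
theorem F286337 : act 5 n64030 = n63698 := d38_1 D64030 F284636 (iv F284452)
theorem F286338 : act 7 n64030 = n63678 := d43_1 D64030 (iv D63678) (iv F284453)
def n64031 : Q := act 8 n63648
theorem D64031 : act 8 n63648 = n64031 := rfl
theorem F286339 : act 0 n64031 = n63650 := d7_1 D64031 (iv D63650) (iv F284462)
theorem F286340 : act 5 n64031 = n63649 := d37_1 D64031 (iv D63649) D63648
theorem F286341 : act 6 n64031 = n63693 := d40_1 D64031 F284617 (iv F284464)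
def n64032 : Q := act 9 n63649
theorem D64032 : act 9 n63649 = n64032 := rfl
theorem F286342 : act 0 n64032 = n63651 := d8_1 D64032 (iv D63651) (iv F284466)
theorem F286343 : act 4 n64032 = n63654 := d34_1 D64032 (iv D63654) (iv F284467)
theorem F286344 : act 6 n64032 = n63652 := d41_1 D64032 (iv D63652) (iv F284468)
theorem F286345 : act 8 n64032 = n63711 := d44_1 D64032 F284666 F282301 (iv F281972) D63649
def n64033 : Q := act 1 n63656
theorem D64033 : act 1 n63656 = n64033 := rfl
theorem F286346 : act 0 n64033 = n64033 := d0_1 D64033 (iv D64033) F284493 F282027 (iv F284493)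
theorem F286347 : act 3 n64033 = n63672 := d10_2 (iv F284494) D64033 (iv D63672)
theorem F286348 : act 5 n64033 = n63746 := d12_2 (iv F284495) D64033 (iv D63746)
theorem F286349 : act 8 n64033 = n63735 := d15_2 (iv F284496) D64033 (iv D63735)
def n64034 : Q := act 2 n63657
theorem D64034 : act 2 n63657 = n64034 := rfl
theorem F286350 : act 0 n64034 = n63659 := d1_1 D64034 (iv D63659) (iv F284497)
theorem F286351 : act 4 n64034 = n63683 := d18_2 (iv F284499) D64034 (iv D63683)
theorem F286352 : act 7 n64034 = n63665 := d21_2 (iv F284500) D64034 (iv D63665)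
def n64035 : Q := act 2 n63660
theorem D64035 : act 2 n63660 = n64035 := rfl
theorem F286353 : act 0 n64035 = n63662 := d1_1 D64035 (iv D63662) (iv F284509)
theorem F286354 : act 6 n64035 = n63668 := d20_2 (iv F284510) D64035 (iv D63668)
theorem F286355 : act 9 n64035 = n63665 := d23_2 (iv F284511) D64035 (iv D63665)
def n64036 : Q := act 5 n63660
theorem D64036 : act 5 n63660 = n64036 := rfl
theorem F286356 : act 0 n64036 = n63663 := d4_1 D64036 (iv D63663) (iv F284509)
theorem F286357 : act 3 n64036 = n63661 := d25_1 D64036 (iv D63661) D63660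
theorem F286358 : act 9 n64036 = n63666 := d38_2 (iv F284511) D64036 (iv D63666)
def n64037 : Q := act 8 n63660
theorem D64037 : act 8 n63660 = n64037 := rfl
theorem F286359 : act 0 n64037 = n63664 := d7_1 D64037 (iv D63664) (iv F284509)
theorem F286360 : act 6 n64037 = n63669 := d40_1 D64037 (iv D63669) (iv F284510)
def n64038 : Q := act 5 n63662
theorem D64038 : act 5 n63662 = n64038 := rfl
theorem F286361 : act 1 n64038 = n64038 := d12_1 D64038 (iv D64038) F284515
theorem F286362 : act 2 n64038 = n63663 := d19_1 D64038 (iv D63663) D63662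
theorem F286363 : act 9 n64038 = n63667 := d38_2 (iv F284517) D64038 (iv D63667)
def n64039 : Q := act 8 n63662
theorem D64039 : act 8 n63662 = n64039 := rfl
theorem F286364 : act 1 n64039 = n64039 := d15_1 D64039 (iv D64039) F284515
theorem F286365 : act 2 n64039 = n63664 := d22_1 D64039 (iv D63664) D63662
theorem F286366 : act 6 n64039 = n63670 := d40_1 D64039 (iv D63670) (iv F284516)
def n64040 : Q := act 1 n63665
theorem D64040 : act 1 n63665 = n64040 := rfl
theorem F286367 : act 0 n64040 = n64040 := d0_1 D64040 (iv D64040) F284523 F282061 (iv F284523)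
theorem F286368 : act 6 n64040 = n63672 := d13_2 (iv F284524) D64040 (iv D63672)
def n64041 : Q := act 5 n63665
theorem D64041 : act 5 n63665 = n64041 := rfl
theorem F286369 : act 0 n64041 = n63667 := d4_1 D64041 (iv D63667) (iv F284523)
theorem F286370 : act 2 n64041 = n63666 := d19_1 D64041 (iv D63666) D63665
theorem F286371 : act 8 n64041 = n63712 := d37_2 F286272 D64041 (iv F286270)
def n64042 : Q := act 1 n63668
theorem D64042 : act 1 n63668 = n64042 := rfl
theorem F286372 : act 0 n64042 = n64042 := d0_1 D64042 (iv D64042) F284531 F282068 (iv F284531)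
theorem F286373 : act 9 n64042 = n63672 := d16_2 (iv F284532) D64042 (iv D63672)
def n64043 : Q := act 8 n63668
theorem D64043 : act 8 n63668 = n64043 := rfl
theorem F286374 : act 0 n64043 = n63670 := d7_1 D64043 (iv D63670) (iv F284531)
theorem F286375 : act 2 n64043 = n63669 := d22_1 D64043 (iv D63669) D63668
def n64044 : Q := act 9 n63669
theorem D64044 : act 9 n63669 = n64044 := rfl
theorem F286376 : act 0 n64044 = n63671 := d8_1 D64044 (iv D63671) (iv F284533)
theorem F286377 : act 3 n64044 = n63693 := d29_1 D64044 (iv F284963) F284959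
theorem F286378 : act 5 n64044 = n63692 := d38_1 D64044 (iv F284954) (iv F284955)
theorem F286379 : act 8 n64044 = n63676 := d44_1 D64044 (iv D63676) (iv D63146) (iv F282067) D63669
def n64045 : Q := act 9 n63670
theorem D64045 : act 9 n63670 = n64045 := rfl
theorem F286380 : act 1 n64045 = n64045 := d16_1 D64045 (iv D64045) F284534
theorem F286381 : act 2 n64045 = n63671 := d23_1 D64045 (iv D63671) (iv F284535)
theorem F286382 : act 5 n64045 = n63694 := d38_1 D64045 (iv F284971) F284967
theorem F286383 : act 8 n64045 = n63678 := d44_1 D64045 (iv D63678) (iv D63148) (iv F282069) D63670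
def n64046 : Q := act 5 n63672
theorem D64046 : act 5 n63672 = n64046 := rfl
theorem F286384 : act 0 n64046 = n64046 := d4_1 D64046 (iv D64046) F284540
theorem F286385 : act 1 n64046 = n63673 := d12_1 D64046 (iv D63673) D63672
theorem F286386 : act 2 n64046 = n63745 := d19_1 D64046 (iv F286154) F286153
theorem F286387 : act 3 n64046 = n63746 := d25_1 D64046 (iv F286348) F286347
theorem F286388 : act 8 n63702 = n64046 := d15_0 F286385 (iv F284544) D63702
def n64047 : Q := act 8 n63672
theorem D64047 : act 8 n63672 = n64047 := rfl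
theorem F286389 : act 0 n64047 = n64047 := d7_1 D64047 (iv D64047) F284540
theorem F286390 : act 1 n64047 = n63674 := d15_1 D64047 (iv D63674) D63672
theorem F286391 : act 5 n64047 = n63702 := d37_1 D64047 F286388 (iv D64046)
def n64048 : Q := act 4 n63673
theorem D64048 : act 4 n63673 = n64048 := rfl
theorem F286392 : act 0 n64048 = n63677 := d3_1 D64048 (iv D63677) (iv F284541)
theorem F286393 : act 2 n64048 = n63675 := d18_1 D64048 (iv D63675) (iv F284542)
theorem F286394 : act 3 n64048 = n63703 := d24_1 D64048 F284646 F282276 (iv F282432) (iv F284543)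
theorem F286395 : act 7 n64048 = n63682 := d32_2 F285523 D64048 (iv F285520)
theorem F286396 : act 8 n64048 = n63691 := d33_2 F284544 D64048 F284610
def n64049 : Q := act 9 n63674
theorem D64049 : act 9 n63674 = n64049 := rfl
theorem F286397 : act 0 n64049 = n63678 := d8_1 D64049 (iv D63678) (iv F284545)
theorem F286398 : act 2 n64049 = n63676 := d23_1 D64049 (iv D63676) (iv F284546)
theorem F286399 : act 5 n64049 = n63701 := d38_1 D64049 F284643 (iv F284547)
def n64050 : Q := act 1 n63681
theorem D64050 : act 1 n63681 = n64050 := rfl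
theorem F286400 : act 0 n64050 = n64050 := d0_1 D64050 (iv D64050) F284571 F282143 (iv F284571)
theorem F286401 : act 2 n64050 = n63747 := d9_2 D63681 D64050 (iv D63747) (iv D63266) (iv F282138)
theorem F286402 : act 3 n64050 = n63729 := d10_2 (iv F284572) D64050 (iv D63729)
theorem F286403 : act 4 n64050 = n63715 := d11_2 (iv F284573) D64050 (iv D63715)
theorem F286404 : act 5 n64050 = n63704 := d12_2 (iv F284574) D64050 (iv D63704)
theorem F286405 : act 6 n64050 = n63733 := d13_2 (iv F284575) D64050 (iv D63733)
theorem F286406 : act 7 n64050 = n63726 := d14_2 (iv F284576) D64050 (iv D63726)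
def n64051 : Q := act 1 n63682
theorem D64051 : act 1 n63682 = n64051 := rfl
theorem F286407 : act 0 n64051 = n64051 := d0_1 D64051 (iv D64051) F284577 F282152 (iv F284577)
theorem F286408 : act 2 n64051 = n63702 := d9_2 D63682 D64051 (iv D63702) (iv D63198) (iv F282150)
theorem F286409 : act 8 n64051 = n63745 := d15_2 (iv F284578) D64051 (iv D63745)
def n64052 : Q := act 1 n63683
theorem D64052 : act 1 n63683 = n64052 := rfl
theorem F286410 : act 0 n64052 = n64052 := d0_1 D64052 (iv D64052) F284579 F282168 (iv F284579)
theorem F286411 : act 2 n64052 = n63704 := d9_2 D63683 D64052 (iv D63704) (iv D63202) (iv F282166)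
theorem F286412 : act 5 n64052 = n63747 := d12_2 (iv F284580) D64052 (iv D63747)
def n64053 : Q := act 8 n63683
theorem D64053 : act 8 n63683 = n64053 := rfl
theorem F286413 : act 0 n64053 = n63685 := d7_1 D64053 (iv D63685) (iv F284579)
theorem F286414 : act 2 n64053 = n63684 := d22_1 D64053 (iv D63684) D63683
theorem F286415 : act 5 n64053 = n63723 := d37_1 D64053 F284700 (iv F284580)
def n64054 : Q := act 9 n63684
theorem D64054 : act 9 n63684 = n64054 := rfl
theorem F286416 : act 0 n64054 = n63686 := d8_1 D64054 (iv D63686) (iv F284581)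
theorem F286417 : act 1 n64054 = n63706 := d16_1 D64054 (iv D63706) (iv F284582)
theorem F286418 : act 3 n64054 = n63721 := d29_1 D64054 F284692 (iv F284583)
theorem F286419 : act 5 n64054 = n63720 := d38_1 D64054 F284689 (iv F284584)
def n64055 : Q := act 9 n63685
theorem D64055 : act 9 n63685 = n64055 := rfl
theorem F286420 : act 1 n64055 = n64055 := d16_1 D64055 (iv D64055) F284585
theorem F286421 : act 2 n64055 = n63686 := d23_1 D64055 (iv D63686) (iv F284586)
theorem F286422 : act 5 n64055 = n63722 := d38_1 D64055 F284696 (iv F284587)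
def n64056 : Q := act 2 n63687
theorem D64056 : act 2 n63687 = n64056 := rfl
theorem F286423 : act 0 n64056 = n63688 := d1_1 D64056 (iv D63688) (iv F284591)
theorem F286424 : act 4 n64056 = n63724 := d18_2 (iv F284593) D64056 (iv D63724)
theorem F286425 : act 7 n64056 = n63690 := d21_2 (iv F284594) D64056 (iv D63690)
theorem F286426 : act 8 n64056 = n63730 := d22_2 (iv F284595) D64056 (iv D63730)
def n64057 : Q := act 1 n63690
theorem D64057 : act 1 n63690 = n64057 := rfl
theorem F286427 : act 0 n64057 = n64057 := d0_1 D64057 (iv D64057) F284605 F282213 (iv F284605)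
theorem F286428 : act 2 n64057 = n63715 := d9_2 D63690 D64057 (iv D63715) (iv D63219) (iv F282209)
theorem F286429 : act 4 n64057 = n63747 := d11_2 (iv F284606) D64057 (iv D63747)
theorem F286430 : act 6 n64057 = n63746 := d13_2 (iv F284607) D64057 (iv D63746)
theorem F286431 : act 8 n64057 = n63732 := d15_2 (iv F284608) D64057 (iv D63732)
def n64058 : Q := act 1 n63691
theorem D64058 : act 1 n63691 = n64058 := rfl
theorem F286432 : act 0 n64058 = n64058 := d0_1 D64058 (iv D64058) F284609 F282225 (iv F284609)
theorem F286433 : act 4 n64058 = n63702 := d11_2 (iv F284610) D64058 (iv D63702)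
theorem F286434 : act 7 n64058 = n63745 := d14_2 (iv F284611) D64058 (iv D63745)
def n64059 : Q := act 2 n63692
theorem D64059 : act 2 n63692 = n64059 := rfl
theorem F286435 : act 0 n64059 = n63694 := d1_1 D64059 (iv D63694) (iv F284612)
theorem F286436 : act 4 n64059 = n63743 := d18_2 (iv F284613) D64059 (iv D63743)
theorem F286437 : act 6 n64059 = n63699 := d20_2 (iv F284614) D64059 (iv D63699)
theorem F286438 : act 8 n64059 = n63701 := d22_2 (iv F284615) D64059 (iv D63701)
def n64060 : Q := act 2 n63695
theorem D64060 : act 2 n63695 = n64060 := rfl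
theorem F286439 : act 0 n64060 = n63696 := d1_1 D64060 (iv D63696) (iv F284622)
theorem F286440 : act 3 n64060 = n63699 := d17_2 D63695 D64060 (iv D63699) (iv D63192) (iv F282241)
theorem F286441 : act 7 n64060 = n63700 := d21_2 (iv F284623) D64060 (iv D63700)
theorem F286442 : act 8 n64060 = n63725 := d22_2 (iv F284624) D64060 (iv D63725)
def n64061 : Q := act 2 n63697
theorem D64061 : act 2 n63697 = n64061 := rfl
theorem F286443 : act 0 n64061 = n63698 := d1_1 D64061 (iv D63698) (iv F284629)
theorem F286444 : act 4 n64061 = n63744 := d18_2 (iv F284630) D64061 (iv D63744)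
theorem F286445 : act 7 n64061 = n63701 := d21_2 (iv F284631) D64061 (iv D63701)
theorem F286446 : act 9 n64061 = n63699 := d23_2 (iv F284632) D64061 (iv D63699)
def n64062 : Q := act 1 n63699
theorem D64062 : act 1 n63699 = n64062 := rfl
theorem F286447 : act 0 n64062 = n64062 := d0_1 D64062 (iv D64062) F284637 F282258 (iv F284637)
theorem F286448 : act 4 n64062 = n63745 := d11_2 (iv F284638) D64062 (iv D63745)
theorem F286449 : act 7 n64062 = n63702 := d14_2 (iv F284639) D64062 (iv D63702)
def n64063 : Q := act 1 n63700
theorem D64063 : act 1 n63700 = n64063 := rfl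
theorem F286450 : act 0 n64063 = n64063 := d0_1 D64063 (iv D64063) F284640 F282262 (iv F284640)
theorem F286451 : act 3 n64063 = n63702 := d10_2 (iv F284641) D64063 (iv D63702)
def n64064 : Q := act 1 n63701
theorem D64064 : act 1 n63701 = n64064 := rfl
theorem F286452 : act 0 n64064 = n64064 := d0_1 D64064 (iv D64064) F284642 F282266 (iv F284642)
theorem F286453 : act 9 n64064 = n63702 := d16_2 (iv F284643) D64064 (iv D63702)
def n64065 : Q := act 1 n63703
theorem D64065 : act 1 n63703 = n64065 := rfl
theorem F286454 : act 0 n64065 = n64065 := d0_1 D64065 (iv D64065) F284645 F282273 (iv F284645)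
theorem F286455 : act 4 n64065 = n63704 := d11_2 (iv F284646) D64065 (iv D63704)
def n64066 : Q := act 8 n63704
theorem D64066 : act 8 n63704 = n64066 := rfl
theorem F286456 : act 0 n64066 = n64066 := d7_1 D64066 (iv D64066) F284647
theorem F286457 : act 1 n64066 = n63705 := d15_1 D64066 (iv D63705) D63704
def n64067 : Q := act 9 n63705
theorem D64067 : act 9 n63705 = n64067 := rfl
theorem F286458 : act 0 n64067 = n63707 := d8_1 D64067 (iv D63707) (iv F284649)
theorem F286459 : act 2 n64067 = n63706 := d23_1 D64067 (iv D63706) (iv F284650)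
def n64068 : Q := act 2 n63708
theorem D64068 : act 2 n63708 = n64068 := rfl
theorem F286460 : act 0 n64068 = n63709 := d1_1 D64068 (iv D63709) (iv F284654)
theorem F286461 : act 4 n64068 = n63725 := d18_2 (iv F284655) D64068 (iv D63725)
theorem F286462 : act 7 n64068 = n63714 := d21_2 (iv F284656) D64068 (iv D63714)
theorem F286463 : act 9 n64068 = n63710 := d23_2 (iv F284657) D64068 (iv D63710)
def n64069 : Q := act 1 n63710
theorem D64069 : act 1 n63710 = n64069 := rfl
theorem F286464 : act 0 n64069 = n64069 := d0_1 D64069 (iv D64069) F284662 F282292 (iv F284662)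
theorem F286465 : act 4 n64069 = n63726 := d11_2 (iv F284663) D64069 (iv D63726)
theorem F286466 : act 7 n64069 = n63715 := d14_2 (iv F284664) D64069 (iv D63715)
def n64070 : Q := act 1 n63712
theorem D64070 : act 1 n63712 = n64070 := rfl
theorem F286467 : act 0 n64070 = n64070 := d0_1 D64070 (iv D64070) F284667 F282303 (iv F284667)
theorem F286468 : act 3 n64070 = n63715 := d10_2 (iv F284668) D64070 (iv D63715)
def n64071 : Q := act 1 n63713
theorem D64071 : act 1 n63713 = n64071 := rfl
theorem F286469 : act 0 n64071 = n64071 := d0_1 D64071 (iv D64071) F284669 F282309 (iv F284669)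
theorem F286470 : act 2 n64071 = n63746 := d9_2 D63713 D64071 (iv D63746) (iv D63265) (iv F282306)
theorem F286471 : act 4 n64071 = n63733 := d11_2 (iv F284670) D64071 (iv D63733)
theorem F286472 : act 6 n64071 = n63715 := d13_2 (iv F284671) D64071 (iv D63715)
def n64072 : Q := act 1 n63714
theorem D64072 : act 1 n63714 = n64072 := rfl
theorem F286473 : act 0 n64072 = n64072 := d0_1 D64072 (iv D64072) F284672 F282314 (iv F284672)
theorem F286474 : act 9 n64072 = n63715 := d16_2 (iv F284673) D64072 (iv D63715)
def n64073 : Q := act 2 n63716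
theorem D64073 : act 2 n63716 = n64073 := rfl
theorem F286475 : act 0 n64073 = n63718 := d1_1 D64073 (iv D63718) (iv F284675)
theorem F286476 : act 6 n64073 = n63730 := d20_2 (iv F284676) D64073 (iv D63730)
theorem F286477 : act 9 n64073 = n63719 := d23_2 (iv F284677) D64073 (iv D63719)
def n64074 : Q := act 1 n63719
theorem D64074 : act 1 n63719 = n64074 := rfl
theorem F286478 : act 0 n64074 = n64074 := d0_1 D64074 (iv D64074) F284684 F282331 (iv F284684)
theorem F286479 : act 8 n64074 = n63726 := d15_2 (iv F284685) D64074 (iv D63726)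
def n64075 : Q := act 2 n63720
theorem D64075 : act 2 n63720 = n64075 := rfl
theorem F286480 : act 0 n64075 = n63722 := d1_1 D64075 (iv D63722) (iv F284686)
theorem F286481 : act 4 n64075 = n63728 := d18_2 (iv F284687) D64075 (iv D63728)
theorem F286482 : act 6 n64075 = n63727 := d20_2 (iv F284688) D64075 (iv D63727)
theorem F286483 : act 9 n64075 = n63723 := d23_2 (iv F284689) D64075 (iv D63723)
def n64076 : Q := act 1 n63723
theorem D64076 : act 1 n63723 = n64076 := rfl
theorem F286484 : act 0 n64076 = n64076 := d0_1 D64076 (iv D64076) F284697 F282350 (iv F284697)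
theorem F286485 : act 4 n64076 = n63732 := d11_2 (iv F284698) D64076 (iv D63732)
theorem F286486 : act 6 n64076 = n63748 := d13_2 (iv F284699) D64076 F284758
theorem F286487 : act 8 n64076 = n63747 := d15_2 (iv F284700) D64076 (iv D63747)
def n64077 : Q := act 1 n63724
theorem D64077 : act 1 n63724 = n64077 := rfl
theorem F286488 : act 0 n64077 = n64077 := d0_1 D64077 (iv D64077) F284701 F282359 (iv F284701)
theorem F286489 : act 2 n64077 = n63726 := d9_2 D63724 D64077 (iv D63726) (iv D63237) (iv F282357)
theorem F286490 : act 7 n64077 = n63747 := d14_2 (iv F284702) D64077 (iv D63747)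
def n64078 : Q := act 1 n63725
theorem D64078 : act 1 n63725 = n64078 := rfl
theorem F286491 : act 0 n64078 = n64078 := d0_1 D64078 (iv D64078) F284703 F282363 (iv F284703)
theorem F286492 : act 9 n64078 = n63726 := d16_2 (iv F284704) D64078 (iv D63726)
def n64079 : Q := act 1 n63727
theorem D64079 : act 1 n63727 = n64079 := rfl
theorem F286493 : act 0 n64079 = n64079 := d0_1 D64079 (iv D64079) F284706 F282369 (iv F284706)
theorem F286494 : act 4 n64079 = n63729 := d11_2 (iv F284707) D64079 (iv D63729)
theorem F286495 : act 9 n64079 = n63748 := d16_2 (iv F284708) D64079 F284758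
def n64080 : Q := act 1 n63728
theorem D64080 : act 1 n63728 = n64080 := rfl
theorem F286496 : act 0 n64080 = n64080 := d0_1 D64080 (iv D64080) F284709 F282375 (iv F284709)
theorem F286497 : act 3 n64080 = n63733 := d10_2 (iv F284710) D64080 (iv D63733)
theorem F286498 : act 6 n64080 = n63729 := d13_2 (iv F284711) D64080 (iv D63729)
theorem F286499 : act 9 n64080 = n63732 := d16_2 (iv F284712) D64080 (iv D63732)
def n64081 : Q := act 1 n63730
theorem D64081 : act 1 n63730 = n64081 := rfl
theorem F286500 : act 0 n64081 = n64081 := d0_1 D64081 (iv D64081) F284715 F282383 (iv F284715)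
theorem F286501 : act 7 n64081 = n63732 := d14_2 (iv F284716) D64081 (iv D63732)
def n64082 : Q := act 1 n63731
theorem D64082 : act 1 n63731 = n64082 := rfl
theorem F286502 : act 0 n64082 = n64082 := d0_1 D64082 (iv D64082) F284717 F282388 (iv F284717)
theorem F286503 : act 2 n64082 = n63735 := d9_2 D63731 D64082 (iv D63735) (iv D63251) (iv F282386)
theorem F286504 : act 3 n64082 = n63732 := d10_2 (iv F284718) D64082 (iv D63732)
theorem F286505 : act 9 n64082 = n63733 := d16_2 (iv F284719) D64082 (iv D63733)
def n64083 : Q := act 1 n63734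
theorem D64083 : act 1 n63734 = n64083 := rfl
theorem F286506 : act 0 n64083 = n64083 := d0_1 D64083 (iv D64083) F284723 F282396 (iv F284723)
theorem F286507 : act 4 n64083 = n63735 := d11_2 (iv F284724) D64083 (iv D63735)
theorem F286508 : act 9 n64083 = n63746 := d16_2 (iv F284725) D64083 (iv D63746)
def n64084 : Q := act 1 n63736
theorem D64084 : act 1 n63736 = n64084 := rfl
theorem F286509 : act 0 n64084 = n64084 := d0_1 D64084 (iv D64084) F284728 F282402 (iv F284728)
theorem F286510 : act 3 n64084 = n63745 := d10_2 (iv F284729) D64084 (iv D63745)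
def n64085 : Q := act 8 n63736
theorem D64085 : act 8 n63736 = n64085 := rfl
theorem F286511 : act 0 n64085 = n63738 := d7_1 D64085 (iv D63738) (iv F284728)
theorem F286512 : act 2 n64085 = n63737 := d22_1 D64085 (iv D63737) D63736
theorem F286513 : act 5 n64085 = n63743 := d37_1 D64085 (iv F285226) F285223
def n64086 : Q := act 9 n63737
theorem D64086 : act 9 n63737 = n64086 := rfl
theorem F286514 : act 0 n64086 = n63739 := d8_1 D64086 (iv D63739) (iv F284730)
theorem F286515 : act 3 n64086 = n63740 := d29_1 D64086 (iv D63740) (iv F284731)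
theorem F286516 : act 5 n64086 = n63741 := d38_1 D64086 F284744 (iv F284732)
def n64087 : Q := act 9 n63738
theorem D64087 : act 9 n63738 = n64087 := rfl
theorem F286517 : act 1 n64087 = n64087 := d16_1 D64087 (iv D64087) F284733
theorem F286518 : act 2 n64087 = n63739 := d23_1 D64087 (iv D63739) (iv F284734)
theorem F286519 : act 5 n64087 = n63742 := d38_1 D64087 F284747 (iv F284735)
def n64088 : Q := act 2 n63741
theorem D64088 : act 2 n63741 = n64088 := rfl
theorem F286520 : act 0 n64088 = n63742 := d1_1 D64088 (iv D63742) (iv F284742)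
theorem F286521 : act 6 n64088 = n63744 := d20_2 (iv F284743) D64088 (iv D63744)
theorem F286522 : act 9 n64088 = n63743 := d23_2 (iv F284744) D64088 (iv D63743)
def n64089 : Q := act 1 n63743
theorem D64089 : act 1 n63743 = n64089 := rfl
theorem F286523 : act 0 n64089 = n64089 := d0_1 D64089 (iv D64089) F284748 F282424 (iv F284748)
theorem F286524 : act 6 n64089 = n63745 := d13_2 (iv F284749) D64089 (iv D63745)
def n64090 : Q := act 1 n63744
theorem D64090 : act 1 n63744 = n64090 := rfl
theorem F286525 : act 0 n64090 = n64090 := d0_1 D64090 (iv D64090) F284750 F282428 (iv F284750)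
theorem F286526 : act 9 n64090 = n63745 := d16_2 (iv F284751) D64090 (iv D63745)
def n64091 : Q := act 3 n63748
theorem D64091 : act 3 n63748 = n64091 := rfl
theorem F286527 : act 0 n64091 = n64091 := d2_1 D64091 (iv D64091) F284757
theorem F286528 : act 1 n64091 = n63749 := d10_1 D64091 (iv D63749) (iv F284758)
def n64092 : Q := act 2 n63751
theorem D64092 : act 2 n63751 = n64092 := rfl
theorem F286529 : act 0 n64092 = n63752 := d1_1 D64092 (iv D63752) (iv F284769)
theorem F286530 : act 3 n64092 = n63962 := d17_2 D63751 D64092 (iv D63962) (iv D63542) (iv F282467)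
theorem F286531 : act 4 n64092 = n64035 := d18_2 (iv F284771) D64092 (iv D64035)
theorem F286532 : act 5 n64092 = n63837 := d19_2 (iv F284772) D64092 (iv D63837)
theorem F286533 : act 6 n64092 = n63948 := d20_2 (iv F284773) D64092 (iv D63948)
theorem F286534 : act 7 n64092 = n63774 := d21_2 (iv F284774) D64092 (iv D63774)
theorem F286535 : act 9 n64092 = n63817 := d23_2 (iv F284775) D64092 (iv D63817)
def n64093 : Q := act 8 n63751
theorem D64093 : act 8 n63751 = n64093 := rfl
theorem F286536 : act 0 n64093 = n63753 := d7_1 D64093 (iv D63753) (iv F284769)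
theorem F286537 : act 1 n64093 = n63861 := d15_1 D64093 (iv D63861) (iv F284770)
theorem F286538 : act 3 n64093 = n63786 := d28_1 D64093 (iv D63786) (iv D63309) (iv F282471) D63751
theorem F286539 : act 4 n64093 = n64037 := d33_1 D64093 (iv D64037) (iv F284771)
theorem F286540 : act 5 n64093 = n63838 := d37_1 D64093 (iv D63838) (iv F284772)
theorem F286541 : act 6 n64093 = n63950 := d40_1 D64093 (iv D63950) (iv F284773)
theorem F286542 : act 7 n64093 = n63775 := d42_1 D64093 (iv D63775) (iv F284774)
theorem F286543 : act 9 n63918 = n64093 := d38_0 F286540 (iv F285372) D63918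
def n64094 : Q := act 8 n63752
theorem D64094 : act 8 n63752 = n64094 := rfl
theorem F286544 : act 1 n64094 = n64094 := d15_1 D64094 (iv D64094) F284776
theorem F286545 : act 2 n64094 = n63753 := d22_1 D64094 (iv D63753) D63752
theorem F286546 : act 3 n64094 = n63975 := d28_1 D64094 (iv D63975) F284056 (iv F284000) (iv F284777)
theorem F286547 : act 4 n64094 = n64039 := d33_1 D64094 (iv D64039) (iv F284778)
theorem F286548 : act 5 n64094 = n63839 := d37_1 D64094 (iv D63839) (iv F284779)
theorem F286549 : act 6 n64094 = n63952 := d40_1 D64094 (iv D63952) (iv F284780)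
theorem F286550 : act 7 n64094 = n63776 := d42_1 D64094 (iv D63776) (iv F284781)
theorem F286551 : act 9 n63920 = n64094 := d38_0 F286548 (iv F285378) D63920
def n64095 : Q := act 5 n63754
theorem D64095 : act 5 n63754 = n64095 := rfl
theorem F286552 : act 0 n64095 = n63756 := d4_1 D64095 (iv D63756) (iv F284790)
theorem F286553 : act 1 n64095 = n63916 := d12_1 D64095 F285833 (iv F284791)
theorem F286554 : act 2 n64095 = n63832 := d19_1 D64095 F285332 (iv F284792)
theorem F286555 : act 3 n64095 = n63755 := d25_1 D64095 (iv D63755) D63754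
theorem F286556 : act 4 n64095 = n64031 := d30_1 D64095 F286340 F284467 F282809 (iv F284793)
theorem F286557 : act 6 n64095 = n63821 := d35_2 (iv F284794) D64095 (iv D63821) F283027 F282779
theorem F286558 : act 7 n64095 = n63773 := d36_2 (iv F284795) D64095 F284925
theorem F286559 : act 8 n64095 = n64003 := d37_2 F284797 D64095 F286225
theorem F286560 : act 9 n64095 = n63997 := d38_2 (iv F284796) D64095 F286199
def n64096 : Q := act 6 n63755
theorem D64096 : act 6 n63755 = n64096 := rfl
theorem F286561 : act 0 n64096 = n63757 := d5_1 D64096 (iv D63757) (iv F284798)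
theorem F286562 : act 1 n64096 = n63914 := d13_1 D64096 F285823 (iv F284799)
theorem F286563 : act 2 n64096 = n63773 := d20_1 D64096 (iv D63773) (iv F284800)
theorem F286564 : act 3 n64096 = n63821 := d26_1 D64096 (iv F286557) F286555
theorem F286565 : act 4 n64096 = n63919 := d31_1 D64096 (iv D63919) (iv F284801)
theorem F286566 : act 5 n64096 = n63797 := d35_1 D64096 (iv D63797) (iv D63323) (iv F282490) D63755
theorem F286567 : act 7 n64096 = n63832 := d39_2 (iv F284802) D64096 (iv D63832) F283106 D63394
theorem F286568 : act 8 n64096 = n63926 := d40_2 (iv F284803) D64096 (iv D63926)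
theorem F286569 : act 9 n64096 = n63996 := d41_2 (iv F284804) D64096 F286192
def n64097 : Q := act 2 n63758
theorem D64097 : act 2 n63758 = n64097 := rfl
theorem F286570 : act 0 n64097 = n63760 := d1_1 D64097 (iv D63760) (iv F284821)
theorem F286571 : act 3 n64097 = n63923 := d17_2 D63758 D64097 (iv D63923) (iv D63486) (iv F282525)
theorem F286572 : act 4 n64097 = n63792 := d18_2 (iv F284823) D64097 (iv D63792)
theorem F286573 : act 6 n64097 = n64048 := d20_2 (iv F284824) D64097 F286393
theorem F286574 : act 7 n64097 = n64088 := d21_2 (iv F284825) D64097 (iv D64088)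
theorem F286575 : act 8 n64097 = n63841 := d22_2 (iv F284826) D64097 (iv D63841)
theorem F286576 : act 9 n64097 = n63998 := d23_2 (iv F284827) D64097 (iv D63998)
def n64098 : Q := act 5 n63758
theorem D64098 : act 5 n63758 = n64098 := rfl
theorem F286577 : act 0 n64098 = n63761 := d4_1 D64098 (iv D63761) (iv F284821)
theorem F286578 : act 1 n64098 = n64044 := d12_1 D64098 F286378 (iv F284822)
theorem F286579 : act 3 n64098 = n63759 := d25_1 D64098 (iv D63759) D63758
theorem F286580 : act 7 n64098 = n64086 := d36_2 (iv F284825) D64098 F286516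
theorem F286581 : act 8 n64098 = n63842 := d37_2 (iv F284826) D64098 (iv D63842)
theorem F286582 : act 9 n64098 = n63984 := d38_2 (iv F284827) D64098 F286145
def n64099 : Q := act 6 n63759
theorem D64099 : act 6 n63759 = n64099 := rfl
theorem F286583 : act 0 n64099 = n63762 := d5_1 D64099 (iv D63762) (iv F284828)
theorem F286584 : act 1 n64099 = n64031 := d13_1 D64099 F286341 (iv F284829)
theorem F286585 : act 2 n64099 = n63926 := d20_1 D64099 (iv D63926) (iv F284830)
theorem F286586 : act 4 n64099 = n63916 := d31_1 D64099 (iv D63916) (iv F284831)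
theorem F286587 : act 5 n64099 = n63961 := d35_1 D64099 (iv D63961) F283971 (iv F282526) D63759
theorem F286588 : act 7 n64099 = n64003 := d39_2 (iv F284832) D64099 (iv D64003) (iv F285104) F285103
theorem F286589 : act 8 n64099 = n63773 := d40_2 (iv F284833) D64099 (iv D63773)
theorem F286590 : act 9 n64099 = n63840 := d41_2 (iv F284834) D64099 F285383
def n64100 : Q := act 5 n63760
theorem D64100 : act 5 n63760 = n64100 := rfl
theorem F286591 : act 1 n64100 = n64100 := d12_1 D64100 (iv D64100) F284835
theorem F286592 : act 2 n64100 = n63761 := d19_1 D64100 (iv D63761) D63760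
theorem F286593 : act 3 n64100 = n63927 := d25_1 D64100 (iv D63927) (iv F284836)
theorem F286594 : act 7 n64100 = n64087 := d36_2 (iv F284839) D64100 F286519
theorem F286595 : act 8 n64100 = n63843 := d37_2 (iv F284840) D64100 (iv D63843)
theorem F286596 : act 9 n64100 = n63985 := d38_2 (iv F284841) D64100 F286150
def n64101 : Q := act 4 n63761
theorem D64101 : act 4 n63761 = n64101 := rfl
theorem F286597 : act 1 n64101 = n63763 := d11_1 D64101 (iv D63763) (iv F284842)
theorem F286598 : act 3 n64101 = n63895 := d24_1 D64101 F285708 F283705 (iv F282538) (iv F284843)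
theorem F286599 : act 5 n64101 = n63795 := d30_2 D63761 D64101 (iv D63795) (iv D63318) (iv F282531)
theorem F286600 : act 7 n64101 = n63953 := d32_2 (iv F284844) D64101 F285987
theorem F286601 : act 8 n64101 = n63844 := d33_2 (iv F284845) D64101 (iv D63844)
theorem F286602 : act 9 n64101 = n63859 := d34_2 (iv F284846) D64101 F285483
theorem F286603 : act 6 n63863 = n64101 := d41_3 F286602 F285484 D63863
def n64102 : Q := act 6 n63761
theorem D64102 : act 6 n63761 = n64102 := rfl
theorem F286604 : act 1 n64102 = n63764 := d13_1 D64102 (iv D63764) (iv F284842)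
theorem F286605 : act 3 n64102 = n63762 := d26_1 D64102 (iv D63762) (iv F284843)
theorem F286606 : act 4 n64102 = n63863 := d31_1 D64102 F286603 (iv D64101)
theorem F286607 : act 5 n64102 = n63908 := d35_1 D64102 F285785 F283950 (iv F282532) D63761
theorem F286608 : act 7 n64102 = n63930 := d39_2 (iv F284844) D64102 F285892 (iv F285117) F285116
theorem F286609 : act 8 n64102 = n63809 := d40_2 (iv F284845) D64102 F285169
theorem F286610 : act 9 n64102 = n63802 := d41_2 (iv F284846) D64102 F285122
def n64103 : Q := act 2 n63765
theorem D64103 : act 2 n63765 = n64103 := rfl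
theorem F286611 : act 0 n64103 = n63767 := d1_1 D64103 (iv D63767) (iv F284870)
theorem F286612 : act 3 n64103 = n63917 := d17_2 D63765 D64103 (iv D63917) (iv D63479) (iv F282557)
theorem F286613 : act 4 n64103 = n63774 := d18_2 (iv F284872) D64103 (iv D63774)
theorem F286614 : act 6 n64103 = n63970 := d20_2 (iv F284873) D64103 (iv D63970)
theorem F286615 : act 7 n64103 = n64035 := d21_2 (iv F284874) D64103 (iv D64035)
theorem F286616 : act 9 n64103 = n64034 := d23_2 (iv F284875) D64103 (iv D64034)
def n64104 : Q := act 5 n63765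
theorem D64104 : act 5 n63765 = n64104 := rfl
theorem F286617 : act 0 n64104 = n63768 := d4_1 D64104 (iv D63768) (iv F284870)
theorem F286618 : act 1 n64104 = n64001 := d12_1 D64104 (iv D64001) (iv F284871)
theorem F286619 : act 3 n64104 = n63766 := d25_1 D64104 (iv D63766) D63765
theorem F286620 : act 4 n64104 = n63846 := d30_1 D64104 (iv D63846) F283199 (iv F282603) (iv F284872)
theorem F286621 : act 7 n64104 = n64036 := d36_2 (iv F284874) D64104 (iv D64036)
theorem F286622 : act 9 n64104 = n63972 := d38_2 (iv F284875) D64104 F286084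
def n64105 : Q := act 8 n63765
theorem D64105 : act 8 n63765 = n64105 := rfl
theorem F286623 : act 0 n64105 = n63769 := d7_1 D64105 (iv D63769) (iv F284870)
theorem F286624 : act 1 n64105 = n64002 := d15_1 D64105 (iv D64002) (iv F284871)
theorem F286625 : act 3 n64105 = n63915 := d28_1 D64105 (iv D63915) (iv D63474) (iv F282560) D63765
theorem F286626 : act 4 n64105 = n63775 := d33_1 D64105 (iv D63775) (iv F284872)
theorem F286627 : act 6 n64105 = n63972 := d40_1 D64105 (iv D63972) (iv F284873)
theorem F286628 : act 7 n64105 = n64037 := d42_1 D64105 (iv D64037) (iv F284874)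
def n64106 : Q := act 6 n63766
theorem D64106 : act 6 n63766 = n64106 := rfl
theorem F286629 : act 0 n64106 = n63770 := d5_1 D64106 (iv D63770) (iv F284876)
theorem F286630 : act 1 n64106 = n64003 := d13_1 D64106 (iv D64003) (iv F284877)
theorem F286631 : act 2 n64106 = n63919 := d20_1 D64106 (iv D63919) (iv F284878)
theorem F286632 : act 4 n64106 = n63773 := d31_1 D64106 (iv D63773) (iv F284879)
theorem F286633 : act 5 n64106 = n63973 := d35_1 D64106 (iv D63973) (iv D63553) (iv F282558) D63766
theorem F286634 : act 7 n64106 = n64031 := d39_2 (iv F284880) D64106 F286341 (iv F285032) F285031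
theorem F286635 : act 8 n64106 = n63916 := d40_2 (iv F284881) D64106 (iv D63916)
theorem F286636 : act 9 n64106 = n63915 := d41_2 (iv F284882) D64106 F285829
def n64107 : Q := act 5 n63767
theorem D64107 : act 5 n63767 = n64107 := rfl
theorem F286637 : act 1 n64107 = n64107 := d12_1 D64107 (iv D64107) F284883
theorem F286638 : act 2 n64107 = n63768 := d19_1 D64107 (iv D63768) D63767
theorem F286639 : act 3 n64107 = n63920 := d25_1 D64107 (iv D63920) (iv F284884)
theorem F286640 : act 4 n64107 = n63848 := d30_1 D64107 (iv D63848) F283208 (iv F282608) (iv F284885)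
theorem F286641 : act 7 n64107 = n64038 := d36_2 (iv F284887) D64107 (iv D64038)
theorem F286642 : act 9 n64107 = n63975 := d38_2 (iv F284888) D64107 F286101
def n64108 : Q := act 8 n63767
theorem D64108 : act 8 n63767 = n64108 := rfl
theorem F286643 : act 1 n64108 = n64108 := d15_1 D64108 (iv D64108) F284883
theorem F286644 : act 2 n64108 = n63769 := d22_1 D64108 (iv D63769) D63767
theorem F286645 : act 3 n64108 = n63952 := d28_1 D64108 (iv D63952) (iv F285632) F285636 (iv F284884)
theorem F286646 : act 4 n64108 = n63776 := d33_1 D64108 (iv D63776) (iv F284885)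
theorem F286647 : act 6 n64108 = n63975 := d40_1 D64108 (iv D63975) (iv F284886)
theorem F286648 : act 7 n64108 = n64039 := d42_1 D64108 (iv D64039) (iv F284887)
def n64109 : Q := act 6 n63768
theorem D64109 : act 6 n63768 = n64109 := rfl
theorem F286649 : act 1 n64109 = n63771 := d13_1 D64109 (iv D63771) (iv F284889)
theorem F286650 : act 3 n64109 = n63770 := d26_1 D64109 (iv D63770) (iv F284890)
theorem F286651 : act 4 n64109 = n63777 := d31_1 D64109 F284945 (iv F284891)
theorem F286652 : act 5 n64109 = n63900 := d35_1 D64109 F285740 (iv D63555) (iv F282564) D63768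
theorem F286653 : act 7 n64109 = n63921 := d39_2 (iv F284892) D64109 (iv F285851) (iv F285045) F285044
theorem F286654 : act 9 n64109 = n63769 := d41_2 (iv F284893) D64109 F284897
theorem F286655 : act 8 n63899 = n64109 := d44_5 F286654 (iv D63769) F282566 F284063 (iv F285736)
def n64110 : Q := act 8 n63768
theorem D64110 : act 8 n63768 = n64110 := rfl
theorem F286656 : act 1 n64110 = n63772 := d15_1 D64110 (iv D63772) (iv F284889)
theorem F286657 : act 3 n64110 = n63901 := d28_1 D64110 F285747 F283705 (iv F282571) (iv F284890)
theorem F286658 : act 4 n64110 = n63850 := d33_1 D64110 (iv D63850) (iv F284891)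
theorem F286659 : act 5 n64110 = n63769 := d37_1 D64110 (iv D63769) D63768
theorem F286660 : act 6 n64110 = n63899 := d40_1 D64110 F286655 (iv D64109)
theorem F286661 : act 7 n64110 = n63941 := d42_1 D64110 F285945 (iv F284892)
theorem F286662 : act 9 n64110 = n63900 := d44_2 (iv F284893) D64110 (iv D63900) F283564 D63556
def n64111 : Q := act 1 n63774
theorem D64111 : act 1 n63774 = n64111 := rfl
theorem F286663 : act 0 n64111 = n64111 := d0_1 D64111 (iv D64111) F284927 F282606 (iv F284927)
theorem F286664 : act 2 n64111 = n64009 := d9_2 D63774 D64111 (iv D64009) (iv D63611) (iv F282602)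
theorem F286665 : act 3 n64111 = n63963 := d10_2 (iv F284928) D64111 (iv D63963)
theorem F286666 : act 5 n64111 = n63851 := d12_2 (iv F284929) D64111 (iv D63851)
theorem F286667 : act 6 n64111 = n63976 := d13_2 (iv F284930) D64111 (iv D63976)
theorem F286668 : act 9 n64111 = n64052 := d16_2 (iv F284931) D64111 (iv D64052)
def n64112 : Q := act 8 n63774
theorem D64112 : act 8 n63774 = n64112 := rfl
theorem F286669 : act 0 n64112 = n63776 := d7_1 D64112 (iv D63776) (iv F284927)
theorem F286670 : act 2 n64112 = n63775 := d22_1 D64112 (iv D63775) D63774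
theorem F286671 : act 3 n64112 = n64041 := d28_1 D64112 F286371 F284668 (iv F284003) (iv F284928)
theorem F286672 : act 5 n64112 = n63852 := d37_1 D64112 (iv D63852) (iv F284929)
theorem F286673 : act 6 n64112 = n63977 := d40_1 D64112 (iv D63977) (iv F284930)
def n64113 : Q := act 9 n63775
theorem D64113 : act 9 n63775 = n64113 := rfl
theorem F286674 : act 0 n64113 = n63777 := d8_1 D64113 (iv D63777) (iv F284932)
theorem F286675 : act 1 n64113 = n64011 := d16_1 D64113 (iv D64011) (iv F284933)
theorem F286676 : act 3 n64113 = n63796 := d29_1 D64113 (iv D63796) (iv F284934)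
theorem F286677 : act 5 n64113 = n63853 := d38_1 D64113 (iv D63853) (iv F284935)
theorem F286678 : act 6 n64113 = n63846 := d41_1 D64113 F285409 (iv F284936)
theorem F286679 : act 7 n64113 = n63918 := d43_1 D64113 F286543 F286542
theorem F286680 : act 8 n64113 = n64054 := d44_1 D64113 (iv D64054) (iv D63684) (iv F282605) D63775
def n64114 : Q := act 9 n63776
theorem D64114 : act 9 n63776 = n64114 := rfl
theorem F286681 : act 1 n64114 = n64114 := d16_1 D64114 (iv D64114) F284937
theorem F286682 : act 2 n64114 = n63777 := d23_1 D64114 (iv D63777) (iv F284938)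
theorem F286683 : act 3 n64114 = n64038 := d29_1 D64114 F286363 (iv F284939)
theorem F286684 : act 5 n64114 = n63854 := d38_1 D64114 (iv D63854) (iv F284940)
theorem F286685 : act 6 n64114 = n63848 := d41_1 D64114 F285419 (iv F284941)
theorem F286686 : act 7 n64114 = n63920 := d43_1 D64114 F286551 F286550
theorem F286687 : act 8 n64114 = n64055 := d44_1 D64114 (iv D64055) (iv D63685) (iv F282610) D63776
def n64115 : Q := act 2 n63778
theorem D64115 : act 2 n63778 = n64115 := rfl
theorem F286688 : act 0 n64115 = n63780 := d1_1 D64115 (iv D63780) (iv F284948)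
theorem F286689 : act 3 n64115 = n64056 := d17_2 D63778 D64115 (iv D64056) (iv D63687) (iv F282624)
theorem F286690 : act 4 n64115 = n64088 := d18_2 (iv F284950) D64115 (iv D64088)
theorem F286691 : act 5 n64115 = n64043 := d19_2 F284955 D64115 F286375
theorem F286692 : act 6 n64115 = n64061 := d20_2 (iv F284951) D64115 (iv D64061)
theorem F286693 : act 7 n64115 = n63792 := d21_2 (iv F284952) D64115 (iv D63792)
theorem F286694 : act 8 n64115 = n63864 := d22_2 (iv F284953) D64115 (iv D63864)
theorem F286695 : act 9 n64115 = n64059 := d23_2 (iv F284954) D64115 (iv D64059)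
def n64116 : Q := act 6 n63779
theorem D64116 : act 6 n63779 = n64116 := rfl
theorem F286696 : act 0 n64116 = n63781 := d5_1 D64116 (iv D63781) (iv F284956)
theorem F286697 : act 1 n64116 = n63840 := d13_1 D64116 F285383 (iv F284957)
theorem F286698 : act 2 n64116 = n63979 := d20_1 D64116 F286119 (iv F284958)
theorem F286699 : act 3 n64116 = n64037 := d26_1 D64116 F286360 (iv F284959)
theorem F286700 : act 4 n64116 = n63997 := d31_1 D64116 F286200 (iv F284960)
theorem F286701 : act 5 n64116 = n64032 := d35_1 D64116 F286344 F284478 (iv F282625) D63779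
theorem F286702 : act 7 n64116 = n63915 := d39_2 (iv F284961) D64116 F285829 F284504 (iv F282743)
theorem F286703 : act 8 n64116 = n63782 := d40_2 (iv F284962) D64116 (iv D63782)
theorem F286704 : act 9 n64116 = n64031 := d41_2 (iv F284963) D64116 F286341
def n64117 : Q := act 8 n63783
theorem D64117 : act 8 n63783 = n64117 := rfl
theorem F286705 : act 0 n64117 = n63785 := d7_1 D64117 (iv D63785) (iv F284988)
theorem F286706 : act 1 n64117 = n63999 := d15_1 D64117 F286210 (iv F284989)
theorem F286707 : act 2 n64117 = n63915 := d22_1 D64117 (iv D63915) (iv F284990)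
theorem F286708 : act 3 n64117 = n63950 := d28_1 D64117 (iv D63950) (iv D63523) (iv F282670) D63783
theorem F286709 : act 4 n64117 = n63996 := d33_1 D64117 (iv F286194) (iv F284991)
theorem F286710 : act 5 n64117 = n64020 := d37_1 D64117 F286300 F284995
theorem F286711 : act 6 n64117 = n63786 := d40_1 D64117 (iv D63786) (iv F284992)
theorem F286712 : act 7 n64117 = n63979 := d42_1 D64117 (iv D63979) (iv F284993)
theorem F286713 : act 9 n64117 = n63919 := d44_2 (iv F284994) D64117 F285843 F283781 (iv F282808)
def n64118 : Q := act 2 n63787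
theorem D64118 : act 2 n63787 = n64118 := rfl
theorem F286714 : act 0 n64118 = n63789 := d1_1 D64118 (iv D63789) (iv F285020)
theorem F286715 : act 3 n64118 = n63845 := d17_2 D63787 D64118 (iv D63845) (iv D63388) (iv F282710)
theorem F286716 : act 4 n64118 = n63998 := d18_2 (iv F285022) D64118 (iv D63998)
theorem F286717 : act 6 n64118 = n63864 := d20_2 (iv F285023) D64118 (iv D63864)
theorem F286718 : act 7 n64118 = n64059 := d21_2 (iv F285024) D64118 (iv D64059)
theorem F286719 : act 8 n64118 = n64061 := d22_2 (iv F285025) D64118 (iv D64061)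
theorem F286720 : act 9 n64118 = n63792 := d23_2 (iv F285026) D64118 (iv D63792)
def n64119 : Q := act 5 n63787
theorem D64119 : act 5 n63787 = n64119 := rfl
theorem F286721 : act 0 n64119 = n63790 := d4_1 D64119 (iv D63790) (iv F285020)
theorem F286722 : act 1 n64119 = n64086 := d12_1 D64119 F286516 (iv F285021)
theorem F286723 : act 3 n64119 = n63788 := d25_1 D64119 (iv D63788) D63787
theorem F286724 : act 6 n64119 = n64036 := d35_2 (iv F285023) D64119 (iv D64036) F284510 (iv F283303)
theorem F286725 : act 7 n64119 = n64044 := d36_2 (iv F285024) D64119 F286378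
theorem F286726 : act 8 n64119 = n64029 := d37_2 (iv F285025) D64119 F286333
theorem F286727 : act 9 n64119 = n63793 := d38_2 (iv F285026) D64119 (iv D63793)
def n64120 : Q := act 5 n63789
theorem D64120 : act 5 n63789 = n64120 := rfl
theorem F286728 : act 1 n64120 = n64120 := d12_1 D64120 (iv D64120) F285035
theorem F286729 : act 2 n64120 = n63790 := d19_1 D64120 (iv D63790) D63789
theorem F286730 : act 3 n64120 = n63848 := d25_1 D64120 (iv D63848) (iv F285036)
theorem F286731 : act 6 n64120 = n64038 := d35_2 (iv F285038) D64120 (iv D64038) F284516 (iv F283308)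
theorem F286732 : act 7 n64120 = n64045 := d36_2 (iv F285039) D64120 F286382
theorem F286733 : act 8 n64120 = n64030 := d37_2 (iv F285040) D64120 F286337
theorem F286734 : act 9 n64120 = n63794 := d38_2 (iv F285041) D64120 (iv D63794)
def n64121 : Q := act 4 n63790
theorem D64121 : act 4 n63790 = n64121 := rfl
theorem F286735 : act 1 n64121 = n63791 := d11_1 D64121 (iv D63791) (iv F285042)
theorem F286736 : act 3 n64121 = n63831 := d24_1 D64121 F285324 F283109 (iv F282723) (iv F285043)
theorem F286737 : act 5 n64121 = n63859 := d30_2 D63790 D64121 F285483 F284166 (iv F282716)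
theorem F286738 : act 6 n64121 = n63830 := d31_2 (iv F285044) D64121 F285318
theorem F286739 : act 7 n64121 = n63922 := d32_2 (iv F285045) D64121 F285854
theorem F286740 : act 8 n64121 = n63858 := d33_2 (iv F285046) D64121 F285477
theorem F286741 : act 9 n64121 = n63795 := d34_2 (iv F285047) D64121 (iv D63795)
def n64122 : Q := act 1 n63792
theorem D64122 : act 1 n63792 = n64122 := rfl
theorem F286742 : act 0 n64122 = n64122 := d0_1 D64122 (iv D64122) F285056 F282745 (iv F285056)
theorem F286743 : act 2 n64122 = n64089 := d9_2 D63792 D64122 (iv D64089) (iv D63743) (iv F282736)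
theorem F286744 : act 3 n64122 = n64057 := d10_2 (iv F285057) D64122 (iv D64057)
theorem F286745 : act 6 n64122 = n64046 := d13_2 (iv F285058) D64122 F286385
theorem F286746 : act 8 n64122 = n63867 := d15_2 (iv F285059) D64122 (iv D63867)
def n64123 : Q := act 5 n63792
theorem D64123 : act 5 n63792 = n64123 := rfl
theorem F286747 : act 0 n64123 = n63794 := d4_1 D64123 (iv D63794) (iv F285056)
theorem F286748 : act 2 n64123 = n63793 := d19_1 D64123 (iv D63793) D63792
theorem F286749 : act 3 n64123 = n63977 := d25_1 D64123 F286108 (iv F285057)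
theorem F286750 : act 6 n64123 = n64041 := d35_2 (iv F285058) D64123 (iv D64041) F284524 D63673
theorem F286751 : act 7 n64123 = n64043 := d36_2 F286693 D64123 (iv F286691)
theorem F286752 : act 8 n64123 = n63868 := d37_2 (iv F285059) D64123 (iv D63868)
def n64124 : Q := act 4 n63793
theorem D64124 : act 4 n63793 = n64124 := rfl
theorem F286753 : act 0 n64124 = n63795 := d3_1 D64124 (iv D63795) (iv F285060)
theorem F286754 : act 1 n64124 = n63990 := d11_1 D64124 F286168 (iv F285061)
theorem F286755 : act 3 n64124 = n63979 := d24_1 D64124 F286118 F284602 (iv F282742) (iv F285062)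
theorem F286756 : act 6 n64124 = n63968 := d31_2 (iv F285063) D64124 F286061
theorem F286757 : act 7 n64124 = n63950 := d32_2 (iv F285064) D64124 F285978
theorem F286758 : act 8 n64124 = n63869 := d33_2 (iv F285065) D64124 (iv D63869)
def n64125 : Q := act 4 n63794
theorem D64125 : act 4 n63794 = n64125 := rfl
theorem F286759 : act 1 n64125 = n64125 := d11_1 D64125 (iv D64125) F285066
theorem F286760 : act 2 n64125 = n63795 := d18_1 D64125 (iv D63795) (iv F285067)
theorem F286761 : act 3 n64125 = n64039 := d24_1 D64125 (iv F286547) F286546 F286100 (iv F285068)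
theorem F286762 : act 6 n64125 = n63969 := d31_2 (iv F285069) D64125 F286067
theorem F286763 : act 7 n64125 = n63952 := d32_2 (iv F285070) D64125 F285984
theorem F286764 : act 8 n64125 = n63870 := d33_2 (iv F285071) D64125 (iv D63870)
def n64126 : Q := act 2 n63798
theorem D64126 : act 2 n63798 = n64126 := rfl
theorem F286765 : act 0 n64126 = n63800 := d1_1 D64126 (iv D63800) (iv F285093)
theorem F286766 : act 3 n64126 = n63841 := d17_2 D63798 D64126 (iv D63841) (iv D63383) (iv F282829)
theorem F286767 : act 4 n64126 = n63860 := d18_2 (iv F285095) D64126 (iv D63860)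
theorem F286768 : act 6 n64126 = n63983 := d20_2 (iv F285096) D64126 (iv D63983)
theorem F286769 : act 7 n64126 = n64000 := d21_2 (iv F285097) D64126 (iv D64000)
theorem F286770 : act 9 n64126 = n63804 := d23_2 (iv F285098) D64126 (iv D63804)
def n64127 : Q := act 5 n63798
theorem D64127 : act 5 n63798 = n64127 := rfl
theorem F286771 : act 0 n64127 = n63801 := d4_1 D64127 (iv D63801) (iv F285093)
theorem F286772 : act 1 n64127 = n64036 := d12_1 D64127 (iv D64036) (iv F285094)
theorem F286773 : act 3 n64127 = n63799 := d25_1 D64127 (iv D63799) D63798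
theorem F286774 : act 4 n64127 = n63994 := d30_1 D64127 F286182 F284655 (iv F283283) (iv F285095)
theorem F286775 : act 6 n64127 = n64086 := d35_2 (iv F285096) D64127 F286516 F284743 (iv F284156)
theorem F286776 : act 7 n64127 = n64001 := d36_2 (iv F285097) D64127 (iv D64001)
theorem F286777 : act 9 n64127 = n63805 := d38_2 (iv F285098) D64127 (iv D63805)
def n64128 : Q := act 8 n63798
theorem D64128 : act 8 n63798 = n64128 := rfl
theorem F286778 : act 0 n64128 = n63802 := d7_1 D64128 (iv D63802) (iv F285093)
theorem F286779 : act 1 n64128 = n64037 := d15_1 D64128 (iv D64037) (iv F285094)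
theorem F286780 : act 3 n64128 = n63840 := d28_1 D64128 (iv D63840) (iv D63380) (iv F282832) D63798
theorem F286781 : act 4 n64128 = n63861 := d33_1 D64128 (iv D63861) (iv F285095)
theorem F286782 : act 6 n64128 = n63984 := d40_1 D64128 (iv D63984) (iv F285096)
theorem F286783 : act 7 n64128 = n64002 := d42_1 D64128 (iv D64002) (iv F285097)
def n64129 : Q := act 5 n63800
theorem D64129 : act 5 n63800 = n64129 := rfl
theorem F286784 : act 1 n64129 = n64129 := d12_1 D64129 (iv D64129) F285107
theorem F286785 : act 2 n64129 = n63801 := d19_1 D64129 (iv D63801) D63800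
theorem F286786 : act 3 n64129 = n63843 := d25_1 D64129 (iv D63843) (iv F285108)
theorem F286787 : act 4 n64129 = n63995 := d30_1 D64129 F286186 F284659 (iv F283288) (iv F285109)
theorem F286788 : act 6 n64129 = n64087 := d35_2 (iv F285110) D64129 F286519 F284746 (iv F284161)
theorem F286789 : act 7 n64129 = n64004 := d36_2 (iv F285111) D64129 (iv D64004)
theorem F286790 : act 9 n64129 = n63807 := d38_2 (iv F285112) D64129 (iv D63807)
def n64130 : Q := act 8 n63800
theorem D64130 : act 8 n63800 = n64130 := rfl
theorem F286791 : act 1 n64130 = n64130 := d15_1 D64130 (iv D64130) F285107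
theorem F286792 : act 2 n64130 = n63802 := d22_1 D64130 (iv D63802) D63800
theorem F286793 : act 3 n64130 = n63928 := d28_1 D64130 (iv D63928) (iv F284836) F284840 (iv F285108)
theorem F286794 : act 4 n64130 = n63862 := d33_1 D64130 (iv D63862) (iv F285109)
theorem F286795 : act 6 n64130 = n63985 := d40_1 D64130 (iv D63985) (iv F285110)
theorem F286796 : act 7 n64130 = n64005 := d42_1 D64130 (iv D64005) (iv F285111)
def n64131 : Q := act 8 n63801
theorem D64131 : act 8 n63801 = n64131 := rfl
theorem F286797 : act 1 n64131 = n63803 := d15_1 D64131 (iv D63803) (iv F285113)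
theorem F286798 : act 3 n64131 = n63826 := d28_1 D64131 F285293 F283109 (iv F282844) (iv F285114)
theorem F286799 : act 4 n64131 = n63836 := d33_1 D64131 F285360 (iv F285115)
theorem F286800 : act 5 n64131 = n63802 := d37_1 D64131 (iv D63802) D63801
theorem F286801 : act 6 n64131 = n63825 := d40_1 D64131 F285286 (iv F285116)
theorem F286802 : act 7 n64131 = n63929 := d42_1 D64131 (iv F285887) (iv F285117)
theorem F286803 : act 9 n64131 = n63908 := d44_2 (iv F285118) D64131 F285787 F283688 F282881
def n64132 : Q := act 1 n63804
theorem D64132 : act 1 n63804 = n64132 := rfl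
theorem F286804 : act 0 n64132 = n64132 := d0_1 D64132 (iv D64132) F285132 F282871 (iv F285132)
theorem F286805 : act 2 n64132 = n64040 := d9_2 D63804 D64132 (iv D64040) (iv D63665) (iv F282860)
theorem F286806 : act 3 n64132 = n64051 := d10_2 (iv F285133) D64132 (iv D64051)
theorem F286807 : act 4 n64132 = n63878 := d11_2 (iv F285134) D64132 (iv D63878)
theorem F286808 : act 6 n64132 = n63986 := d13_2 (iv F285135) D64132 (iv D63986)
theorem F286809 : act 7 n64132 = n64065 := d14_2 (iv F285136) D64132 (iv D64065)
def n64133 : Q := act 5 n63804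
theorem D64133 : act 5 n63804 = n64133 := rfl
theorem F286810 : act 0 n64133 = n63807 := d4_1 D64133 (iv D63807) (iv F285132)
theorem F286811 : act 2 n64133 = n63805 := d19_1 D64133 (iv D63805) D63804
theorem F286812 : act 3 n64133 = n63987 := d25_1 D64133 F286157 (iv F285133)
theorem F286813 : act 4 n64133 = n63993 := d30_1 D64133 F286178 F284663 (iv F283426) (iv F285134)
theorem F286814 : act 6 n64133 = n64085 := d35_2 (iv F285135) D64133 F286513 F284749 (iv F284169)
theorem F286815 : act 7 n64133 = n64008 := d36_2 (iv F285136) D64133 F286244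
theorem F286816 : act 8 n63988 = n64133 := d46_0 (iv D64133) F285134 F283425 (iv D63100) (iv F281555) F281554 F278064 F275034 (iv F275163) (iv D61746) (iv F274293) F274292 F269244 F265406 (iv F263667) (iv D58900) F258972 (iv D56555) (iv F253732) (iv F256793) F256798 (iv F256099) F256098 (iv D56761) (iv F254851) (iv F257618) F257617 (iv D56271) F246291 F238849 F230537 F221248 (iv F227520) F227519 F224085 F214243 F185968 (iv F214164) F214163 F185877 (iv F188947) D48213 (iv F225592) (iv F234768) D54187 D55700 D56966 D58136 F260401 (iv F259852) F259851 (iv F260265) (iv F264978) (iv F269924) (iv D60477) (iv F268711) (iv F273697) D62287 D63026 D63581 F284182 (iv F286158)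
def n64134 : Q := act 8 n63804
theorem D64134 : act 8 n63804 = n64134 := rfl
theorem F286817 : act 0 n64134 = n63808 := d7_1 D64134 (iv D63808) (iv F285132)
theorem F286818 : act 2 n64134 = n63806 := d22_1 D64134 (iv D63806) D63804
theorem F286819 : act 3 n64134 = n64085 := d28_1 D64134 (iv D64085) F284729 (iv F284578) (iv F285133)
theorem F286820 : act 4 n64134 = n63879 := d33_1 D64134 (iv D63879) (iv F285134)
theorem F286821 : act 5 n64134 = n63988 := d37_1 D64134 F286816 (iv D64133)
theorem F286822 : act 6 n64134 = n63987 := d40_1 D64134 (iv D63987) (iv F285135)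
theorem F286823 : act 7 n64134 = n64007 := d42_1 D64134 (iv F286240) (iv F285136)
def n64135 : Q := act 9 n63806
theorem D64135 : act 9 n63806 = n64135 := rfl
theorem F286824 : act 0 n64135 = n63809 := d8_1 D64135 (iv D63809) (iv F285144)
theorem F286825 : act 1 n64135 = n64021 := d16_1 D64135 (iv D64021) (iv F285145)
theorem F286826 : act 3 n64135 = n63811 := d29_1 D64135 (iv D63811) (iv F285146)
theorem F286827 : act 4 n64135 = n63880 := d34_1 D64135 (iv D63880) (iv F285147)
theorem F286828 : act 5 n64135 = n63911 := d38_1 D64135 F285809 (iv F285148)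
theorem F286829 : act 6 n64135 = n63842 := d41_1 D64135 F285392 (iv F285149)
theorem F286830 : act 7 n64135 = n63924 := d43_1 D64135 F285865 (iv F285150)
def n64136 : Q := act 9 n63808
theorem D64136 : act 9 n63808 = n64136 := rfl
theorem F286831 : act 1 n64136 = n64136 := d16_1 D64136 (iv D64136) F285158
theorem F286832 : act 2 n64136 = n63809 := d23_1 D64136 (iv D63809) (iv F285159)
theorem F286833 : act 3 n64136 = n64087 := d29_1 D64136 (iv D64087) (iv F285160)
theorem F286834 : act 4 n64136 = n63882 := d34_1 D64136 (iv D63882) (iv F285161)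
theorem F286835 : act 5 n64136 = n63912 := d38_1 D64136 F285815 (iv F285162)
theorem F286836 : act 6 n64136 = n63843 := d41_1 D64136 F285395 (iv F285163)
theorem F286837 : act 7 n64136 = n63927 := d43_1 D64136 F285877 (iv F285164)
def n64137 : Q := act 2 n63812
theorem D64137 : act 2 n63812 = n64137 := rfl
theorem F286838 : act 0 n64137 = n63813 := d1_1 D64137 (iv D63813) (iv F285188)
theorem F286839 : act 3 n64137 = n63817 := d17_2 D63812 D64137 (iv D63817) (iv D63354) (iv F282938)
theorem F286840 : act 4 n64137 = n64073 := d18_2 (iv F285190) D64137 (iv D64073)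
theorem F286841 : act 5 n64137 = n63913 := d19_2 (iv F285191) D64137 (iv D63913)
theorem F286842 : act 6 n64137 = n63947 := d20_2 (iv F285192) D64137 (iv D63947)
theorem F286843 : act 7 n64137 = n63889 := d21_2 (iv F285193) D64137 (iv D63889)
theorem F286844 : act 8 n64137 = n63905 := d22_2 (iv F285194) D64137 (iv D63905)
theorem F286845 : act 9 n64137 = n63962 := d23_2 (iv F285195) D64137 (iv D63962)
def n64138 : Q := act 1 n63814
theorem D64138 : act 1 n63814 = n64138 := rfl
theorem F286846 : act 0 n64138 = n64138 := d0_1 D64138 (iv D64138) F285204 F282959 (iv F285204)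
theorem F286847 : act 2 n64138 = n63966 := d9_2 D63814 D64138 (iv D63966) (iv D63548) (iv F282952)
theorem F286848 : act 3 n64138 = n63976 := d10_2 (iv F285205) D64138 (iv D63976)
theorem F286849 : act 4 n64138 = n63965 := d11_2 (iv F285206) D64138 (iv D63965)
theorem F286850 : act 5 n64138 = n64082 := d12_2 (iv F285207) D64138 (iv D64082)
theorem F286851 : act 6 n64138 = n63963 := d13_2 (iv F285208) D64138 (iv D63963)
theorem F286852 : act 7 n64138 = n64079 := d14_2 (iv F285209) D64138 (iv D64079)
theorem F286853 : act 8 n64138 = n64071 := d15_2 (iv F285210) D64138 (iv D64071)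
theorem F286854 : act 9 n64138 = n64025 := d16_2 (iv F285211) D64138 F286316
def n64139 : Q := act 1 n63815
theorem D64139 : act 1 n63815 = n64139 := rfl
theorem F286855 : act 0 n64139 = n64139 := d0_1 D64139 (iv D64139) F285212 F282975 (iv F285212)
theorem F286856 : act 2 n64139 = n63851 := d9_2 D63815 D64139 (iv D63851) (iv D63395) (iv F282968)
theorem F286857 : act 3 n64139 = n63966 := d10_2 (iv F285213) D64139 (iv D63966)
theorem F286858 : act 4 n64139 = n64072 := d11_2 (iv F285214) D64139 (iv D64072)
theorem F286859 : act 5 n64139 = n64009 := d12_2 (iv F285215) D64139 (iv D64009)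
theorem F286860 : act 6 n64139 = n64082 := d13_2 (iv F285216) D64139 (iv D64082)
theorem F286861 : act 7 n64139 = n64078 := d14_2 (iv F285217) D64139 (iv D64078)
theorem F286862 : act 8 n64139 = n64063 := d15_2 (iv F285218) D64139 (iv D64063)
theorem F286863 : act 9 n64139 = n64050 := d16_2 (iv F285219) D64139 (iv D64050)
def n64140 : Q := act 1 n63816
theorem D64140 : act 1 n63816 = n64140 := rfl
theorem F286864 : act 0 n64140 = n64140 := d0_1 D64140 (iv D64140) F285220 F282991 (iv F285220)
theorem F286865 : act 2 n64140 = n63867 := d9_2 D63816 D64140 (iv D63867) (iv D63416) (iv F282984)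
theorem F286866 : act 3 n64140 = n63986 := d10_2 (iv F285221) D64140 (iv D63986)
theorem F286867 : act 4 n64140 = n64064 := d11_2 (iv F285222) D64140 (iv D64064)
theorem F286868 : act 5 n64140 = n64084 := d12_2 (iv F285223) D64140 (iv D64084)
theorem F286869 : act 6 n64140 = n64051 := d13_2 (iv F285224) D64140 (iv D64051)
theorem F286870 : act 7 n64140 = n64090 := d14_2 (iv F285225) D64140 (iv D64090)
theorem F286871 : act 8 n64140 = n64089 := d15_2 (iv F285226) D64140 (iv D64089)
theorem F286872 : act 9 n64140 = n64058 := d16_2 (iv F285227) D64140 (iv D64058)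
def n64141 : Q := act 1 n63817
theorem D64141 : act 1 n63817 = n64141 := rfl
theorem F286873 : act 0 n64141 = n64141 := d0_1 D64141 (iv D64141) F285228 F283005 (iv F285228)
theorem F286874 : act 2 n64141 = n63878 := d9_2 D63817 D64141 (iv D63878) (iv D63428) (iv F283000)
theorem F286875 : act 4 n64141 = n64040 := d11_2 (iv F285229) D64141 (iv D64040)
theorem F286876 : act 5 n64141 = n64077 := d12_2 (iv F285230) D64141 (iv D64077)
theorem F286877 : act 6 n64141 = n63954 := d13_2 (iv F285231) D64141 (iv D63954)
theorem F286878 : act 7 n64141 = n64052 := d14_2 (iv F285232) D64141 (iv D64052)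
def n64142 : Q := act 8 n63817
theorem D64142 : act 8 n63817 = n64142 := rfl
theorem F286879 : act 0 n64142 = n63819 := d7_1 D64142 (iv D63819) (iv F285228)
theorem F286880 : act 2 n64142 = n63818 := d22_1 D64142 (iv D63818) D63817
theorem F286881 : act 4 n64142 = n64014 := d33_1 D64142 F286272 (iv F285229)
theorem F286882 : act 5 n64142 = n63947 := d37_1 D64142 F285970 (iv F285230)
theorem F286883 : act 6 n64142 = n63956 := d40_1 D64142 (iv D63956) (iv F285231)
theorem F286884 : act 7 n64142 = n64053 := d42_1 D64142 (iv D64053) (iv F285232)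
theorem F286885 : act 3 n63955 = n64142 := d25_3 F286882 F285967 D63955
def n64143 : Q := act 9 n63818
theorem D64143 : act 9 n63818 = n64143 := rfl
theorem F286886 : act 0 n64143 = n63820 := d8_1 D64143 (iv D63820) (iv F285233)
theorem F286887 : act 1 n64143 = n63880 := d16_1 D64143 (iv D63880) (iv F285234)
theorem F286888 : act 3 n64143 = n63884 := d29_1 D64143 F285630 (iv F285235)
theorem F286889 : act 4 n64143 = n64021 := d34_1 D64143 (iv D64021) (iv F285236)
theorem F286890 : act 5 n64143 = n63883 := d38_1 D64143 F285622 (iv F285237)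
theorem F286891 : act 6 n64143 = n63958 := d41_1 D64143 (iv D63958) (iv F285238)
theorem F286892 : act 7 n64143 = n64054 := d43_1 D64143 (iv D64054) (iv F285239)
theorem F286893 : act 8 n64143 = n63918 := d44_1 D64143 F286543 (iv D64093) F284775 D63818
def n64144 : Q := act 9 n63819
theorem D64144 : act 9 n63819 = n64144 := rfl
theorem F286894 : act 1 n64144 = n64144 := d16_1 D64144 (iv D64144) F285240
theorem F286895 : act 2 n64144 = n63820 := d23_1 D64144 (iv D63820) (iv F285241)
theorem F286896 : act 3 n64144 = n63951 := d29_1 D64144 F285981 (iv F285246)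
theorem F286897 : act 4 n64144 = n64016 := d34_1 D64144 (iv D64016) (iv F285242)
theorem F286898 : act 5 n64144 = n63885 := d38_1 D64144 F285637 (iv F285243)
theorem F286899 : act 6 n64144 = n63960 := d41_1 D64144 (iv D63960) (iv F285244)
theorem F286900 : act 7 n64144 = n64055 := d43_1 D64144 (iv D64055) (iv F285245)
theorem F286901 : act 8 n64144 = n63920 := d44_1 D64144 F286551 (iv D64094) F284782 D63819
def n64145 : Q := act 2 n63822
theorem D64145 : act 2 n63822 = n64145 := rfl
theorem F286902 : act 0 n64145 = n63824 := d1_1 D64145 (iv D63824) (iv F285261)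
theorem F286903 : act 3 n64145 = n64000 := d17_2 D63822 D64145 (iv D64000) (iv D63599) (iv F283039)
theorem F286904 : act 4 n64145 = n63864 := d18_2 (iv F285263) D64145 (iv D63864)
theorem F286905 : act 6 n64145 = n63998 := d20_2 (iv F285264) D64145 (iv D63998)
theorem F286906 : act 7 n64145 = n63841 := d21_2 (iv F285265) D64145 (iv D63841)
theorem F286907 : act 8 n64145 = n64088 := d22_2 (iv F285266) D64145 (iv D64088)
theorem F286908 : act 9 n64145 = n64048 := d23_2 (iv F285267) D64145 F286393
def n64146 : Q := act 5 n63822
theorem D64146 : act 5 n63822 = n64146 := rfl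
theorem F286909 : act 0 n64146 = n63825 := d4_1 D64146 (iv D63825) (iv F285261)
theorem F286910 : act 1 n64146 = n64029 := d12_1 D64146 F286333 (iv F285262)
theorem F286911 : act 3 n64146 = n63823 := d25_1 D64146 (iv D63823) D63822
theorem F286912 : act 4 n64146 = n63949 := d30_1 D64146 (iv D63949) F283917 (iv F283303) (iv F285263)
theorem F286913 : act 7 n64146 = n63842 := d36_2 (iv F285265) D64146 (iv D63842)
theorem F286914 : act 8 n64146 = n64086 := d37_2 (iv F285266) D64146 F286516
theorem F286915 : act 9 n64146 = n63957 := d38_2 (iv F285267) D64146 F286001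
def n64147 : Q := act 6 n63823
theorem D64147 : act 6 n63823 = n64147 := rfl
theorem F286916 : act 0 n64147 = n63826 := d5_1 D64147 (iv D63826) (iv F285268)
theorem F286917 : act 1 n64147 = n64032 := d13_1 D64147 F286344 (iv F285269)
theorem F286918 : act 2 n64147 = n64003 := d20_1 D64147 (iv D64003) (iv F285270)
theorem F286919 : act 4 n64147 = n63931 := d31_1 D64147 F285899 (iv F285271)
theorem F286920 : act 5 n64147 = n63840 := d35_1 D64147 F285383 (iv D63594) (iv F283040) D63823
theorem F286921 : act 7 n64147 = n63926 := d39_2 (iv F285272) D64147 (iv D63926) (iv F285186) F285185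
theorem F286922 : act 8 n64147 = n63832 := d40_2 (iv F285273) D64147 (iv D63832)
theorem F286923 : act 9 n64147 = n63961 := d41_2 (iv F285274) D64147 (iv D63961)
def n64148 : Q := act 5 n63824
theorem D64148 : act 5 n63824 = n64148 := rfl
theorem F286924 : act 1 n64148 = n64148 := d12_1 D64148 (iv D64148) F285275
theorem F286925 : act 2 n64148 = n63825 := d19_1 D64148 (iv D63825) D63824
theorem F286926 : act 3 n64148 = n64004 := d25_1 D64148 (iv D64004) (iv F285276)
theorem F286927 : act 4 n64148 = n63951 := d30_1 D64148 (iv D63951) F283923 (iv F283308) (iv F285277)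
theorem F286928 : act 7 n64148 = n63843 := d36_2 (iv F285279) D64148 (iv D63843)
theorem F286929 : act 8 n64148 = n64087 := d37_2 (iv F285280) D64148 F286519
theorem F286930 : act 9 n64148 = n63959 := d38_2 (iv F285281) D64148 F286011
def n64149 : Q := act 2 n63827
theorem D64149 : act 2 n63827 = n64149 := rfl
theorem F286931 : act 0 n64149 = n63829 := d1_1 D64149 (iv D63829) (iv F285295)
theorem F286932 : act 3 n64149 = n64059 := d17_2 D63827 D64149 (iv D64059) (iv D63692) (iv F283072)
theorem F286933 : act 4 n64149 = n63837 := d18_2 (iv F285297) D64149 (iv D63837)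
theorem F286934 : act 6 n64149 = n64060 := d20_2 (iv F285298) D64149 (iv D64060)
theorem F286935 : act 7 n64149 = n63845 := d21_2 (iv F285299) D64149 (iv D63845)
theorem F286936 : act 8 n64149 = n63938 := d22_2 (iv F285300) D64149 (iv D63938)
theorem F286937 : act 9 n64149 = n64056 := d23_2 (iv F285301) D64149 (iv D64056)
def n64150 : Q := act 5 n63827
theorem D64150 : act 5 n63827 = n64150 := rfl
theorem F286938 : act 0 n64150 = n63830 := d4_1 D64150 (iv D63830) (iv F285295)
theorem F286939 : act 1 n64150 = n63994 := d12_1 D64150 F286182 (iv F285296)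
theorem F286940 : act 3 n64150 = n63828 := d25_1 D64150 (iv D63828) D63827
theorem F286941 : act 4 n64150 = n64036 := d30_1 D64150 (iv D64036) (iv F284771) F284772 (iv F285297)
theorem F286942 : act 7 n64150 = n63846 := d36_2 (iv F285299) D64150 (iv D63846)
theorem F286943 : act 8 n64150 = n63939 := d37_2 (iv F285300) D64150 (iv D63939)
theorem F286944 : act 9 n64150 = n63968 := d38_2 (iv F285301) D64150 F286062
def n64151 : Q := act 6 n63828
theorem D64151 : act 6 n63828 = n64151 := rfl
theorem F286945 : act 0 n64151 = n63831 := d5_1 D64151 (iv D63831) (iv F285302)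
theorem F286946 : act 1 n64151 = n64020 := d13_1 D64151 F286299 (iv F285303)
theorem F286947 : act 2 n64151 = n64031 := d20_1 D64151 F286341 (iv F285304)
theorem F286948 : act 4 n64151 = n63832 := d31_1 D64151 (iv D63832) (iv F285305)
theorem F286949 : act 5 n64151 = n63999 := d35_1 D64151 F286208 F284394 (iv F283073) D63828
theorem F286950 : act 7 n64151 = n63919 := d39_2 (iv F285306) D64151 (iv D63919) (iv F285083) F285082
theorem F286951 : act 8 n64151 = n63931 := d40_2 (iv F285307) D64151 F285899
theorem F286952 : act 9 n64151 = n63979 := d41_2 (iv F285308) D64151 F286119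
def n64152 : Q := act 5 n63829
theorem D64152 : act 5 n63829 = n64152 := rfl
theorem F286953 : act 1 n64152 = n64152 := d12_1 D64152 (iv D64152) F285309
theorem F286954 : act 2 n64152 = n63830 := d19_1 D64152 (iv D63830) D63829
theorem F286955 : act 3 n64152 = n64045 := d25_1 D64152 F286382 (iv F285310)
theorem F286956 : act 4 n64152 = n64038 := d30_1 D64152 (iv D64038) (iv F284778) F284779 (iv F285311)
theorem F286957 : act 7 n64152 = n63848 := d36_2 (iv F285313) D64152 (iv D63848)
theorem F286958 : act 8 n64152 = n63940 := d37_2 (iv F285314) D64152 (iv D63940)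
theorem F286959 : act 9 n64152 = n63969 := d38_2 (iv F285315) D64152 F286068
def n64153 : Q := act 2 n63833
theorem D64153 : act 2 n63833 = n64153 := rfl
theorem F286960 : act 0 n64153 = n63835 := d1_1 D64153 (iv D63835) (iv F285334)
theorem F286961 : act 3 n64153 = n63989 := d17_2 D63833 D64153 (iv D63989) (iv D63582) (iv F283114)
theorem F286962 : act 4 n64153 = n64060 := d18_2 (iv F285336) D64153 (iv D64060)
theorem F286963 : act 6 n64153 = n63837 := d20_2 (iv F285337) D64153 (iv D63837)
theorem F286964 : act 7 n64153 = n64017 := d21_2 (iv F285338) D64153 (iv D64017)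
theorem F286965 : act 8 n64153 = n64068 := d22_2 (iv F285339) D64153 (iv D64068)
theorem F286966 : act 9 n64153 = n63905 := d23_2 (iv F285340) D64153 (iv D63905)
def n64154 : Q := act 5 n63833
theorem D64154 : act 5 n63833 = n64154 := rfl
theorem F286967 : act 0 n64154 = n63836 := d4_1 D64154 (iv D63836) (iv F285334)
theorem F286968 : act 1 n64154 = n63939 := d12_1 D64154 (iv D63939) (iv F285335)
theorem F286969 : act 3 n64154 = n63834 := d25_1 D64154 (iv D63834) D63833
theorem F286970 : act 6 n64154 = n63949 := d35_2 (iv F285337) D64154 (iv D63949) (iv F284773) F284772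
theorem F286971 : act 7 n64154 = n63934 := d36_2 (iv F285338) D64154 F285911
theorem F286972 : act 8 n64154 = n63994 := d37_2 (iv F285339) D64154 F286182
theorem F286973 : act 9 n64154 = n63906 := d38_2 (iv F285340) D64154 (iv D63906)
def n64155 : Q := act 5 n63835
theorem D64155 : act 5 n63835 = n64155 := rfl
theorem F286974 : act 1 n64155 = n64155 := d12_1 D64155 (iv D64155) F285349
theorem F286975 : act 2 n64155 = n63836 := d19_1 D64155 (iv D63836) D63835
theorem F286976 : act 3 n64155 = n63960 := d25_1 D64155 F286017 (iv F285350)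
theorem F286977 : act 6 n64155 = n63951 := d35_2 (iv F285352) D64155 (iv D63951) (iv F284780) F284779
theorem F286978 : act 7 n64155 = n63935 := d36_2 (iv F285353) D64155 F285916
theorem F286979 : act 8 n64155 = n63995 := d37_2 (iv F285354) D64155 F286186
theorem F286980 : act 9 n64155 = n63907 := d38_2 (iv F285355) D64155 (iv D63907)
def n64156 : Q := act 1 n63837
theorem D64156 : act 1 n63837 = n64156 := rfl
theorem F286981 : act 0 n64156 = n64156 := d0_1 D64156 (iv D64156) F285362 F283143 (iv F285362)
theorem F286982 : act 2 n64156 = n64078 := d9_2 D63837 D64156 (iv D64078) (iv D63725) (iv F283140)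
theorem F286983 : act 3 n64156 = n63992 := d10_2 (iv F285363) D64156 (iv D63992)
theorem F286984 : act 7 n64156 = n63851 := d14_2 (iv F285364) D64156 (iv D63851)
theorem F286985 : act 9 n64156 = n64077 := d16_2 (iv F285365) D64156 (iv D64077)
def n64157 : Q := act 8 n63837
theorem D64157 : act 8 n63837 = n64157 := rfl
theorem F286986 : act 0 n64157 = n63839 := d7_1 D64157 (iv D63839) (iv F285362)
theorem F286987 : act 2 n64157 = n63838 := d22_1 D64157 (iv D63838) D63837
theorem F286988 : act 4 n64157 = n63938 := d33_1 D64157 (iv F286936) F286933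
theorem F286989 : act 6 n64157 = n64068 := d40_1 D64157 (iv F286965) F286963
theorem F286990 : act 7 n64157 = n63852 := d42_1 D64157 (iv D63852) (iv F285364)
theorem F286991 : act 3 n64034 = n64157 := d27_3 F286990 (iv F285440) (iv F286352)
theorem F286992 : act 9 n64157 = n63917 := d29_2 F286616 F286991 (iv F286612)
def n64158 : Q := act 1 n63841
theorem D64158 : act 1 n63841 = n64158 := rfl
theorem F286993 : act 0 n64158 = n64158 := d0_1 D64158 (iv D64158) F285385 F283183 (iv F285385)
theorem F286994 : act 2 n64158 = n64064 := d9_2 D63841 D64158 (iv D64064) (iv D63701) (iv F283174)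
theorem F286995 : act 4 n64158 = n63867 := d11_2 (iv F285386) D64158 (iv D63867)
theorem F286996 : act 6 n64158 = n64058 := d13_2 (iv F285387) D64158 (iv D64058)
theorem F286997 : act 9 n64158 = n64051 := d16_2 (iv F285388) D64158 (iv D64051)
def n64159 : Q := act 5 n63841
theorem D64159 : act 5 n63841 = n64159 := rfl
theorem F286998 : act 0 n64159 = n63843 := d4_1 D64159 (iv D63843) (iv F285385)
theorem F286999 : act 2 n64159 = n63842 := d19_1 D64159 (iv D63842) D63841
theorem F287000 : act 9 n64159 = n63987 := d38_2 (iv F285388) D64159 F286157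
def n64160 : Q := act 4 n63842
theorem D64160 : act 4 n63842 = n64160 := rfl
theorem F287001 : act 0 n64160 = n63844 := d3_1 D64160 (iv D63844) (iv F285389)
theorem F287002 : act 1 n64160 = n63958 := d11_1 D64160 F286006 (iv F285390)
theorem F287003 : act 3 n64160 = n63910 := d24_1 D64160 F285799 F283674 (iv F283180) (iv F285391)
theorem F287004 : act 5 n64160 = n63869 := d30_2 D63842 D64160 (iv D63869) (iv D63417) (iv F283175)
theorem F287005 : act 6 n64160 = n63880 := d31_2 F286829 D64160 (iv F286827)
theorem F287006 : act 7 n64160 = n63949 := d32_2 F286913 D64160 (iv F286912)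
theorem F287007 : act 9 n64160 = n63875 := d34_2 (iv F285392) D64160 F285576
def n64161 : Q := act 4 n63843
theorem D64161 : act 4 n63843 = n64161 := rfl
theorem F287008 : act 1 n64161 = n64161 := d11_1 D64161 (iv D64161) F285393
theorem F287009 : act 2 n64161 = n63844 := d18_1 D64161 (iv D63844) (iv F285394)
theorem F287010 : act 5 n64161 = n63870 := d30_2 D63843 D64161 (iv D63870) (iv D63418) (iv F283184)
theorem F287011 : act 6 n64161 = n63882 := d31_2 F286836 D64161 (iv F286834)
theorem F287012 : act 7 n64161 = n63951 := d32_2 F286928 D64161 (iv F286927)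
theorem F287013 : act 9 n64161 = n63877 := d34_2 (iv F285395) D64161 F285590
theorem F287014 : act 3 n64055 = n64161 := d29_3 F287013 F285589 D64055
def n64162 : Q := act 1 n63845
theorem D64162 : act 1 n63845 = n64162 := rfl
theorem F287015 : act 0 n64162 = n64162 := d0_1 D64162 (iv D64162) F285402 F283207 (iv F285402)
theorem F287016 : act 2 n64162 = n64072 := d9_2 D63845 D64162 (iv D64072) (iv D63714) (iv F283198)
theorem F287017 : act 4 n64162 = n63851 := d11_2 (iv F285403) D64162 (iv D63851)
theorem F287018 : act 6 n64162 = n64083 := d13_2 (iv F285404) D64162 (iv D64083)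
theorem F287019 : act 9 n64162 = n64057 := d16_2 (iv F285405) D64162 (iv D64057)
def n64163 : Q := act 5 n63845
theorem D64163 : act 5 n63845 = n64163 := rfl
theorem F287020 : act 0 n64163 = n63848 := d4_1 D64163 (iv D63848) (iv F285402)
theorem F287021 : act 2 n64163 = n63846 := d19_1 D64163 (iv D63846) D63845
theorem F287022 : act 9 n64163 = n63977 := d38_2 (iv F285405) D64163 F286108
def n64164 : Q := act 8 n63845
theorem D64164 : act 8 n63845 = n64164 := rfl
theorem F287023 : act 0 n64164 = n63849 := d7_1 D64164 (iv D63849) (iv F285402)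
theorem F287024 : act 2 n64164 = n63847 := d22_1 D64164 (iv D63847) D63845
theorem F287025 : act 4 n64164 = n63852 := d33_1 D64164 (iv D63852) (iv F285403)
theorem F287026 : act 6 n64164 = n63978 := d40_1 D64164 F286114 (iv F285404)
theorem F287027 : act 7 n64164 = n63938 := d42_1 D64164 (iv F286936) F286935
theorem F287028 : act 9 n64164 = n63936 := d44_2 (iv F285405) D64164 F285923 F284712 (iv F284608)
theorem F287029 : act 3 n64073 = n64164 := d29_3 F287028 F285920 (iv F286477)
def n64165 : Q := act 8 n63846
theorem D64165 : act 8 n63846 = n64165 := rfl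
theorem F287030 : act 0 n64165 = n63850 := d7_1 D64165 (iv D63850) (iv F285406)
theorem F287031 : act 1 n64165 = n63934 := d15_1 D64165 F285913 (iv F285407)
theorem F287032 : act 3 n64165 = n63909 := d28_1 D64165 F285795 F283674 (iv F283205) (iv F285408)
theorem F287033 : act 5 n64165 = n63847 := d37_1 D64165 (iv D63847) D63846
theorem F287034 : act 6 n64165 = n64054 := d40_1 D64165 (iv F286680) F286678
theorem F287035 : act 7 n64165 = n63939 := d42_1 D64165 (iv F286943) F286942
theorem F287036 : act 9 n64165 = n63904 := d44_2 (iv F285409) D64165 (iv D63904) F283606 D63560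
def n64166 : Q := act 8 n63848
theorem D64166 : act 8 n63848 = n64166 := rfl
theorem F287037 : act 1 n64166 = n64166 := d15_1 D64166 (iv D64166) F285417
theorem F287038 : act 2 n64166 = n63850 := d22_1 D64166 (iv D63850) (iv F285418)
theorem F287039 : act 5 n64166 = n63849 := d37_1 D64166 (iv D63849) D63848
theorem F287040 : act 6 n64166 = n64055 := d40_1 D64166 (iv F286687) F286685
theorem F287041 : act 7 n64166 = n63940 := d42_1 D64166 (iv F286958) F286957
theorem F287042 : act 9 n64166 = n63881 := d44_2 (iv F285419) D64166 F285611 F283612 D63561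
theorem F287043 : act 3 n64166 = n63882 := d45_2 (iv F285419) D64166 F285614 (iv F285198) F285197 F283005 (iv D63355) (iv D62733) (iv F279392) F279391 D62672 F279638 F276416 F273807 (iv D60199) (iv D58966) (iv D57785) F254277 (iv D55308) F240907 (iv F240920) F240919 F232604 (iv F229449) F229450 F219975 (iv D47675) F180012 F127211 F127212 F88883 F88882 F88881 (iv F127154) (iv F182327) F204530 (iv F190454) (iv F216374) (iv F226140) D52563 (iv F240851) F240850 F232510 (iv F232470) D53687 D55272 D56581 (iv F259068) D58921 F263751 (iv F266523) (iv F271495) D61919 F276223 (iv F277647) (iv D62171) D62172 F277650 F273075 (iv F274374) F274375 (iv F274766) (iv F279001) (iv F282236) (iv F284537) F284538 F282232 (iv D62609) F275135 F270317 F265394 (iv F270314) F270313 F265501 D59518 F265536 (iv F270415) (iv F271570) (iv F276301) (iv F279524) F279526 F278830 (iv D61541) D61542 (iv F275599) (iv F279690) (iv F282749) (iv F285067) F285068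
def n64167 : Q := act 8 n63851
theorem D64167 : act 8 n63851 = n64167 := rfl
theorem F287044 : act 0 n64167 = n64167 := d7_1 D64167 (iv D64167) F285433
theorem F287045 : act 1 n64167 = n63852 := d15_1 D64167 (iv D63852) D63851
theorem F287046 : act 2 n64167 = n64063 := d22_1 D64167 (iv F286862) F286856
theorem F287047 : act 6 n64167 = n64033 := d40_1 D64167 F286349 (iv F285435)
theorem F287048 : act 3 n64040 = n64167 := d26_3 F287047 F286347 (iv F286368)
def n64168 : Q := act 9 n63852
theorem D64168 : act 9 n63852 = n64168 := rfl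
theorem F287049 : act 0 n64168 = n63854 := d8_1 D64168 (iv D63854) (iv F285437)
theorem F287050 : act 2 n64168 = n63853 := d23_1 D64168 (iv D63853) (iv F285438)
theorem F287051 : act 3 n64168 = n64035 := d29_1 D64168 F286355 F285440
theorem F287052 : act 4 n64168 = n63936 := d34_1 D64168 (iv F287028) F287025
theorem F287053 : act 6 n64168 = n63980 := d41_1 D64168 F286126 (iv F285439)
theorem F287054 : act 7 n64168 = n63917 := d43_1 D64168 (iv F286992) F286990
theorem F287055 : act 8 n64168 = n64075 := d44_1 D64168 F286483 F284700 (iv F283235) D63852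
def n64169 : Q := act 2 n63855
theorem D64169 : act 2 n63855 = n64169 := rfl
theorem F287056 : act 0 n64169 = n63857 := d1_1 D64169 (iv D63857) (iv F285455)
theorem F287057 : act 3 n64169 = n64017 := d17_2 D63855 D64169 (iv D64017) (iv D63620) (iv F283252)
theorem F287058 : act 4 n64169 = n63983 := d18_2 (iv F285457) D64169 (iv D63983)
theorem F287059 : act 6 n64169 = n63860 := d20_2 (iv F285458) D64169 (iv D63860)
theorem F287060 : act 7 n64169 = n63989 := d21_2 (iv F285459) D64169 (iv D63989)
theorem F287061 : act 9 n64169 = n63873 := d23_2 (iv F285460) D64169 (iv D63873)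
def n64170 : Q := act 5 n63855
theorem D64170 : act 5 n63855 = n64170 := rfl
theorem F287062 : act 0 n64170 = n63858 := d4_1 D64170 (iv D63858) (iv F285455)
theorem F287063 : act 1 n64170 = n63949 := d12_1 D64170 (iv D63949) (iv F285456)
theorem F287064 : act 3 n64170 = n63856 := d25_1 D64170 (iv D63856) D63855
theorem F287065 : act 4 n64170 = n64029 := d30_1 D64170 F286333 F284630 (iv F284156) (iv F285457)
theorem F287066 : act 6 n64170 = n63939 := d35_2 (iv F285458) D64170 (iv D63939) F283845 (iv F283283)
theorem F287067 : act 7 n64170 = n63958 := d36_2 (iv F285459) D64170 F286007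
theorem F287068 : act 9 n64170 = n63874 := d38_2 (iv F285460) D64170 (iv D63874)
def n64171 : Q := act 8 n63855
theorem D64171 : act 8 n63855 = n64171 := rfl
theorem F287069 : act 0 n64171 = n63859 := d7_1 D64171 (iv D63859) (iv F285455)
theorem F287070 : act 1 n64171 = n63950 := d15_1 D64171 (iv D63950) (iv F285456)
theorem F287071 : act 3 n64171 = n63999 := d28_1 D64171 F286210 (iv D63625) (iv F283255) D63855
theorem F287072 : act 4 n64171 = n63984 := d33_1 D64171 (iv D63984) (iv F285457)
theorem F287073 : act 6 n64171 = n63861 := d40_1 D64171 (iv D63861) (iv F285458)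
theorem F287074 : act 7 n64171 = n63990 := d42_1 D64171 (iv D63990) (iv F285459)
def n64172 : Q := act 5 n63857
theorem D64172 : act 5 n63857 = n64172 := rfl
theorem F287075 : act 1 n64172 = n64172 := d12_1 D64172 (iv D64172) F285469
theorem F287076 : act 2 n64172 = n63858 := d19_1 D64172 (iv D63858) D63857
theorem F287077 : act 3 n64172 = n63935 := d25_1 D64172 F285916 (iv F285470)
theorem F287078 : act 4 n64172 = n64030 := d30_1 D64172 F286337 F284634 (iv F284161) (iv F285471)
theorem F287079 : act 6 n64172 = n63940 := d35_2 (iv F285472) D64172 (iv D63940) F283851 (iv F283288)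
theorem F287080 : act 7 n64172 = n63960 := d36_2 (iv F285473) D64172 F286017
theorem F287081 : act 9 n64172 = n63876 := d38_2 (iv F285474) D64172 (iv D63876)
def n64173 : Q := act 8 n63857
theorem D64173 : act 8 n63857 = n64173 := rfl
theorem F287082 : act 1 n64173 = n64173 := d15_1 D64173 (iv D64173) F285469
theorem F287083 : act 2 n64173 = n63859 := d22_1 D64173 (iv D63859) D63857
theorem F287084 : act 3 n64173 = n63945 := d28_1 D64173 F285960 F284440 (iv F284346) (iv F285470)
theorem F287085 : act 4 n64173 = n63985 := d33_1 D64173 (iv D63985) (iv F285471)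
theorem F287086 : act 6 n64173 = n63862 := d40_1 D64173 (iv D63862) (iv F285472)
theorem F287087 : act 7 n64173 = n63991 := d42_1 D64173 (iv D63991) (iv F285473)
def n64174 : Q := act 1 n63860
theorem D64174 : act 1 n63860 = n64174 := rfl
theorem F287088 : act 0 n64174 = n64174 := d0_1 D64174 (iv D64174) F285486 F283286 (iv F285486)
theorem F287089 : act 3 n64174 = n64018 := d10_2 (iv F285487) D64174 (iv D64018)
theorem F287090 : act 5 n64174 = n64078 := d12_2 (iv F285488) D64174 (iv D64078)
theorem F287091 : act 7 n64174 = n64009 := d14_2 (iv F285489) D64174 (iv D64009)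
theorem F287092 : act 9 n64174 = n63878 := d16_2 (iv F285490) D64174 (iv D63878)
def n64175 : Q := act 8 n63860
theorem D64175 : act 8 n63860 = n64175 := rfl
theorem F287093 : act 0 n64175 = n63862 := d7_1 D64175 (iv D63862) (iv F285486)
theorem F287094 : act 2 n64175 = n63861 := d22_1 D64175 (iv D63861) D63860
theorem F287095 : act 3 n64175 = n64028 := d28_1 D64175 (iv D64028) F286296 (iv D64019) (iv F285487)
theorem F287096 : act 5 n64175 = n64060 := d37_1 D64175 F286442 (iv F285488)
theorem F287097 : act 7 n64175 = n64010 := d42_1 D64175 (iv D64010) (iv F285489)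
def n64176 : Q := act 9 n63861
theorem D64176 : act 9 n63861 = n64176 := rfl
theorem F287098 : act 0 n64176 = n63863 := d8_1 D64176 (iv D63863) (iv F285491)
theorem F287099 : act 1 n64176 = n63918 := d16_1 D64176 F286543 F286537
theorem F287100 : act 3 n64176 = n63893 := d29_1 D64176 F285698 (iv F285492)
theorem F287101 : act 5 n64176 = n63892 := d38_1 D64176 F285691 (iv F285493)
theorem F287102 : act 7 n64176 = n64011 := d43_1 D64176 (iv D64011) (iv F285494)
theorem F287103 : act 8 n64176 = n63880 := d44_1 D64176 (iv D63880) (iv D63429) (iv F283285) D63861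
def n64177 : Q := act 9 n63862
theorem D64177 : act 9 n63862 = n64177 := rfl
theorem F287104 : act 1 n64177 = n64177 := d16_1 D64177 (iv D64177) F285495
theorem F287105 : act 2 n64177 = n63863 := d23_1 D64177 (iv D63863) (iv F285496)
theorem F287106 : act 3 n64177 = n64030 := d29_1 D64177 (iv D64030) (iv F285497)
theorem F287107 : act 5 n64177 = n63894 := d38_1 D64177 F285705 (iv F285498)
theorem F287108 : act 7 n64177 = n64012 := d43_1 D64177 (iv D64012) (iv F285499)
theorem F287109 : act 8 n64177 = n63882 := d44_1 D64177 (iv D63882) (iv D63430) (iv F283290) D63862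
def n64178 : Q := act 1 n63864
theorem D64178 : act 1 n63864 = n64178 := rfl
theorem F287110 : act 0 n64178 = n64178 := d0_1 D64178 (iv D64178) F285505 F283306 (iv F285505)
theorem F287111 : act 2 n64178 = n64090 := d9_2 D63864 D64178 (iv D64090) (iv D63744) (iv F283302)
theorem F287112 : act 3 n64178 = n64083 := d10_2 (iv F285506) D64178 (iv D64083)
theorem F287113 : act 5 n64178 = n64042 := d12_2 (iv F285507) D64178 (iv D64042)
theorem F287114 : act 7 n64178 = n63867 := d14_2 (iv F285508) D64178 (iv D63867)
theorem F287115 : act 9 n64178 = n64046 := d16_2 (iv F285509) D64178 F286385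
def n64179 : Q := act 1 n63865
theorem D64179 : act 1 n63865 = n64179 := rfl
theorem F287116 : act 0 n64179 = n64179 := d0_1 D64179 (iv D64179) F285510 F283332 (iv F285510)
theorem F287117 : act 2 n64179 = n64033 := d9_2 D63865 D64179 (iv D64033) (iv D63656) (iv F283325)
theorem F287118 : act 3 n64179 = n63867 := d10_2 (iv F285511) D64179 (iv D63867)
theorem F287119 : act 4 n64179 = n64018 := d11_2 (iv F285512) D64179 (iv D64018)
theorem F287120 : act 5 n64179 = n64071 := d12_2 (iv F285513) D64179 (iv D64071)
theorem F287121 : act 6 n64179 = n64063 := d13_2 (iv F285514) D64179 (iv D64063)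
theorem F287122 : act 7 n64179 = n64083 := d14_2 (iv F285515) D64179 (iv D64083)
theorem F287123 : act 8 n64179 = n64082 := d15_2 (iv F285516) D64179 (iv D64082)
theorem F287124 : act 9 n64179 = n64023 := d16_2 (iv F285517) D64179 (iv D64023)
def n64180 : Q := act 1 n63866
theorem D64180 : act 1 n63866 = n64180 := rfl
theorem F287125 : act 0 n64180 = n64180 := d0_1 D64180 (iv D64180) F285518 F283348 (iv F285518)
theorem F287126 : act 2 n64180 = n64058 := d9_2 D63866 D64180 (iv D64058) (iv D63691) (iv F283341)
theorem F287127 : act 3 n64180 = n64023 := d10_2 (iv F285519) D64180 (iv D64023)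
theorem F287128 : act 4 n64180 = n64051 := d11_2 (iv F285520) D64180 (iv D64051)
theorem F287129 : act 5 n64180 = n64027 := d12_2 (iv F285521) D64180 (iv D64027)
theorem F287130 : act 6 n64180 = n64064 := d13_2 (iv F285522) D64180 (iv D64064)
theorem F287131 : act 7 n64180 = n64046 := d14_2 (iv F285523) D64180 F286385
theorem F287132 : act 8 n64180 = n64062 := d15_2 (iv F285524) D64180 (iv D64062)
theorem F287133 : act 9 n64180 = n63867 := d16_2 (iv F285525) D64180 (iv D63867)
def n64181 : Q := act 5 n63867
theorem D64181 : act 5 n63867 = n64181 := rfl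
theorem F287134 : act 0 n64181 = n64181 := d4_1 D64181 (iv D64181) F285526
theorem F287135 : act 1 n64181 = n63868 := d12_1 D64181 (iv D63868) D63867
theorem F287136 : act 2 n64181 = n64084 := d19_1 D64181 (iv F286868) F286865
theorem F287137 : act 3 n64181 = n64071 := d25_1 D64181 (iv F287120) F287118
theorem F287138 : act 7 n64181 = n64042 := d36_2 F287114 D64181 (iv F287113)
theorem F287139 : act 9 n64181 = n64027 := d38_2 F287133 D64181 (iv F287129)
theorem F287140 : act 6 n64070 = n64181 := d26_0 F287137 F286472 (iv F286468)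
def n64182 : Q := act 4 n63868
theorem D64182 : act 4 n63868 = n64182 := rfl
theorem F287141 : act 0 n64182 = n63870 := d3_1 D64182 (iv D63870) (iv F285528)
theorem F287142 : act 2 n64182 = n63869 := d18_1 D64182 (iv D63869) (iv F285529)
theorem F287143 : act 3 n64182 = n64075 := d24_1 D64182 F286481 F284710 (iv F284670) (iv F285530)
theorem F287144 : act 6 n64182 = n63967 := d31_2 F285533 D64182 F286054
theorem F287145 : act 7 n64182 = n63948 := d32_2 (iv F285531) D64182 F285972
theorem F287146 : act 9 n64182 = n63946 := d34_2 (iv F285532) D64182 F285963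
def n64183 : Q := act 2 n63871
theorem D64183 : act 2 n63871 = n64183 := rfl
theorem F287147 : act 0 n64183 = n63872 := d1_1 D64183 (iv D63872) (iv F285546)
theorem F287148 : act 3 n64183 = n63905 := d17_2 D63871 D64183 (iv D63905) (iv D63460) (iv F283384)
theorem F287149 : act 4 n64183 = n63982 := d18_2 (iv F285548) D64183 (iv D63982)
theorem F287150 : act 5 n64183 = n63956 := d19_2 (iv F285549) D64183 F285996
theorem F287151 : act 6 n64183 = n63913 := d20_2 (iv F285550) D64183 (iv D63913)
theorem F287152 : act 7 n64183 = n63873 := d21_2 (iv F285551) D64183 (iv D63873)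
theorem F287153 : act 8 n64183 = n63955 := d22_2 (iv F285552) D64183 F285994
theorem F287154 : act 9 n64183 = n63989 := d23_2 (iv F285553) D64183 (iv D63989)
def n64184 : Q := act 1 n63873
theorem D64184 : act 1 n63873 = n64184 := rfl
theorem F287155 : act 0 n64184 = n64184 := d0_1 D64184 (iv D64184) F285562 F283408 (iv F285562)
theorem F287156 : act 2 n64184 = n63954 := d9_2 D63873 D64184 (iv D63954) (iv D63529) (iv F283398)
theorem F287157 : act 3 n64184 = n64024 := d10_2 (iv F285563) D64184 (iv D64024)
theorem F287158 : act 4 n64184 = n63986 := d11_2 (iv F285564) D64184 (iv D63986)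
theorem F287159 : act 6 n64184 = n63878 := d13_2 (iv F285565) D64184 (iv D63878)
def n64185 : Q := act 5 n63873
theorem D64185 : act 5 n63873 = n64185 := rfl
theorem F287160 : act 0 n64185 = n63876 := d4_1 D64185 (iv D63876) (iv F285562)
theorem F287161 : act 2 n64185 = n63874 := d19_1 D64185 (iv D63874) D63873
theorem F287162 : act 3 n64185 = n63933 := d25_1 D64185 F285907 (iv F285563)
theorem F287163 : act 4 n64185 = n64028 := d30_1 D64185 F286329 F284638 (iv F284169) (iv F285564)
theorem F287164 : act 6 n64185 = n63943 := d35_2 (iv F285565) D64185 (iv D63943) F283863 (iv F283426)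
theorem F287165 : act 7 n64185 = n63956 := d36_2 F287152 D64185 (iv F287150)
theorem F287166 : act 8 n63946 = n64185 := d42_0 F287165 (iv D63956) (iv F285965)
def n64186 : Q := act 8 n63873
theorem D64186 : act 8 n63873 = n64186 := rfl
theorem F287167 : act 0 n64186 = n63877 := d7_1 D64186 (iv D63877) (iv F285562)
theorem F287168 : act 2 n64186 = n63875 := d22_1 D64186 (iv D63875) D63873
theorem F287169 : act 3 n64186 = n64053 := d28_1 D64186 (iv D64053) (iv F285664) F285667 (iv F285563)
theorem F287170 : act 4 n64186 = n63987 := d33_1 D64186 (iv D63987) (iv F285564)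
theorem F287171 : act 5 n64186 = n63946 := d37_1 D64186 F287166 (iv D64185)
theorem F287172 : act 6 n64186 = n63879 := d40_1 D64186 (iv D63879) (iv F285565)
theorem F287173 : act 7 n64186 = n63955 := d42_1 D64186 (iv F287153) F287152
def n64187 : Q := act 8 n63878
theorem D64187 : act 8 n63878 = n64187 := rfl
theorem F287174 : act 0 n64187 = n64187 := d7_1 D64187 (iv D64187) F285594
theorem F287175 : act 1 n64187 = n63879 := d15_1 D64187 (iv D63879) D63878
theorem F287176 : act 5 n64187 = n64074 := d37_1 D64187 F286479 (iv F285596)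
theorem F287177 : act 7 n64187 = n64066 := d42_1 D64187 (iv D64066) (iv F285597)
def n64188 : Q := act 3 n63879
theorem D64188 : act 3 n63879 = n64188 := rfl
theorem F287178 : act 0 n64188 = n63881 := d2_1 D64188 (iv D63881) (iv F285598)
theorem F287179 : act 2 n64188 = n63904 := d17_1 D64188 F285764 F283645 (iv F283429) (iv F285599)
theorem F287180 : act 5 n64188 = n63936 := d25_2 (iv F285600) D64188 F285920
theorem F287181 : act 6 n64188 = n64053 := d26_2 F287172 D64188 (iv F287169)
theorem F287182 : act 7 n64188 = n63943 := d27_2 (iv F285601) D64188 F285951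
theorem F287183 : act 8 n64188 = n63903 := d28_2 D63879 D64188 F285757 (iv D63640) (iv F283425)
def n64189 : Q := act 9 n63879
theorem D64189 : act 9 n63879 = n64189 := rfl
theorem F287184 : act 0 n64189 = n63882 := d8_1 D64189 (iv D63882) (iv F285598)
theorem F287185 : act 2 n64189 = n63880 := d23_1 D64189 (iv D63880) (iv F285599)
theorem F287186 : act 5 n64189 = n64073 := d38_1 D64189 F286477 (iv F285600)
theorem F287187 : act 7 n64189 = n64067 := d43_1 D64189 (iv D64067) (iv F285601)
def n64190 : Q := act 4 n63881
theorem D64190 : act 4 n63881 = n64190 := rfl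
theorem F287188 : act 1 n64190 = n64190 := d11_1 D64190 (iv D64190) F285606
theorem F287189 : act 2 n64190 = n63900 := d18_1 D64190 F285739 (iv F285607)
theorem F287190 : act 3 n64190 = n63991 := d24_1 D64190 F286172 (iv F285160) F285161 D63881
theorem F287191 : act 6 n64190 = n63974 := d31_2 (iv F285609) D64190 F286095
theorem F287192 : act 7 n64190 = n63945 := d32_2 (iv F285610) D64190 (iv D63945)
theorem F287193 : act 8 n64190 = n63898 := d33_2 (iv F285611) D64190 F285728
def n64191 : Q := act 2 n63883
theorem D64191 : act 2 n63883 = n64191 := rfl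
theorem F287194 : act 0 n64191 = n63885 := d1_1 D64191 (iv D63885) (iv F285616)
theorem F287195 : act 3 n64191 = n63948 := d17_2 D63883 D64191 (iv D63948) (iv D63523) (iv F283442)
theorem F287196 : act 4 n64191 = n63890 := d18_2 (iv F285618) D64191 (iv D63890)
theorem F287197 : act 6 n64191 = n63962 := d20_2 (iv F285619) D64191 (iv D63962)
theorem F287198 : act 7 n64191 = n64075 := d21_2 (iv F285620) D64191 (iv D64075)
theorem F287199 : act 8 n64191 = n63917 := d22_2 (iv F285621) D64191 (iv D63917)
theorem F287200 : act 9 n64191 = n63947 := d23_2 (iv F285622) D64191 (iv D63947)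
def n64192 : Q := act 2 n63886
theorem D64192 : act 2 n63886 = n64192 := rfl
theorem F287201 : act 0 n64192 = n63888 := d1_1 D64192 (iv D63888) (iv F285638)
theorem F287202 : act 3 n64192 = n63938 := d17_2 D63886 D64192 (iv D63938) (iv D63506) (iv F283462)
theorem F287203 : act 4 n64192 = n63889 := d18_2 (iv F285640) D64192 (iv D63889)
theorem F287204 : act 5 n64192 = n64067 := d19_2 F285645 D64192 F286459
theorem F287205 : act 6 n64192 = n63964 := d20_2 (iv F285641) D64192 (iv D63964)
theorem F287206 : act 7 n64192 = n64073 := d21_2 (iv F285642) D64192 (iv D64073)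
theorem F287207 : act 8 n64192 = n64022 := d22_2 (iv F285643) D64192 (iv D64022)
theorem F287208 : act 9 n64192 = n63937 := d23_2 (iv F285644) D64192 (iv D63937)
def n64193 : Q := act 1 n63889
theorem D64193 : act 1 n63889 = n64193 := rfl
theorem F287209 : act 0 n64193 = n64193 := d0_1 D64193 (iv D64193) F285663 F283493 (iv F285663)
theorem F287210 : act 2 n64193 = n64080 := d9_2 D63889 D64193 (iv D64080) (iv D63728) (iv F283488)
theorem F287211 : act 3 n64193 = n64052 := d10_2 (iv F285664) D64193 (iv D64052)
theorem F287212 : act 5 n64193 = n63932 := d12_2 (iv F285665) D64193 (iv D63932)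
theorem F287213 : act 6 n64193 = n64025 := d13_2 (iv F285666) D64193 F286316
theorem F287214 : act 8 n64193 = n64024 := d15_2 (iv F285667) D64193 (iv D64024)
theorem F287215 : act 9 n64193 = n63963 := d16_2 (iv F285668) D64193 (iv D63963)
def n64194 : Q := act 1 n63890
theorem D64194 : act 1 n63890 = n64194 := rfl
theorem F287216 : act 0 n64194 = n64194 := d0_1 D64194 (iv D64194) F285669 F283512 (iv F285669)
theorem F287217 : act 3 n64194 = n63981 := d10_2 (iv F285670) D64194 (iv D63981)
theorem F287218 : act 5 n64194 = n64091 := d12_2 F285675 D64194 F286528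
theorem F287219 : act 6 n64194 = n64074 := d13_2 (iv F285671) D64194 (iv D64074)
theorem F287220 : act 7 n64194 = n64080 := d14_2 (iv F285672) D64194 (iv D64080)
theorem F287221 : act 8 n64194 = n63942 := d15_2 (iv F285673) D64194 (iv D63942)
theorem F287222 : act 9 n64194 = n64081 := d16_2 (iv F285674) D64194 (iv D64081)
def n64195 : Q := act 2 n63892
theorem D64195 : act 2 n63892 = n64195 := rfl
theorem F287223 : act 0 n64195 = n63894 := d1_1 D64195 (iv D63894) (iv F285685)
theorem F287224 : act 3 n64195 = n64061 := d17_2 D63892 D64195 (iv D64061) (iv D63697) (iv F283529)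
theorem F287225 : act 4 n64195 = n63905 := d18_2 (iv F285687) D64195 (iv D63905)
theorem F287226 : act 6 n64195 = n64056 := d20_2 (iv F285688) D64195 (iv D64056)
theorem F287227 : act 7 n64195 = n64022 := d21_2 (iv F285689) D64195 (iv D64022)
theorem F287228 : act 8 n64195 = n64073 := d22_2 (iv F285690) D64195 (iv D64073)
theorem F287229 : act 9 n64195 = n64060 := d23_2 (iv F285691) D64195 (iv D64060)
def n64196 : Q := act 6 n63893
theorem D64196 : act 6 n63893 = n64196 := rfl
theorem F287230 : act 0 n64196 = n63895 := d5_1 D64196 (iv D63895) (iv F285692)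
theorem F287231 : act 1 n64196 = n63919 := d13_1 D64196 (iv D63919) (iv F285693)
theorem F287232 : act 2 n64196 = n64032 := d20_1 D64196 F286344 (iv F285694)
theorem F287233 : act 4 n64196 = n63914 := d31_1 D64196 F285823 (iv F285695)
theorem F287234 : act 5 n64196 = n63979 := d35_1 D64196 F286119 F284119 (iv F283530) D63893
theorem F287235 : act 7 n64196 = n64020 := d39_2 (iv F285696) D64196 F286299 F284389 (iv F284400)
theorem F287236 : act 8 n64196 = n63902 := d40_2 (iv F285697) D64196 (iv D63902)
theorem F287237 : act 9 n64196 = n63999 := d41_2 (iv F285698) D64196 F286208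
def n64197 : Q := act 2 n63896
theorem D64197 : act 2 n63896 = n64197 := rfl
theorem F287238 : act 0 n64197 = n63898 := d1_1 D64197 (iv D63898) (iv F285713)
theorem F287239 : act 3 n64197 = n64068 := d17_2 D63896 D64197 (iv D64068) (iv D63708) (iv F283555)
theorem F287240 : act 4 n64197 = n63903 := d18_2 (iv F285715) D64197 (iv D63903)
theorem F287241 : act 6 n64197 = n64034 := d20_2 (iv F285716) D64197 (iv D64034)
theorem F287242 : act 7 n64197 = n64026 := d21_2 (iv F285717) D64197 (iv D64026)
theorem F287243 : act 9 n64197 = n63970 := d23_2 (iv F285718) D64197 (iv D63970)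
def n64198 : Q := act 5 n63896
theorem D64198 : act 5 n63896 = n64198 := rfl
theorem F287244 : act 0 n64198 = n63899 := d4_1 D64198 (iv D63899) (iv F285713)
theorem F287245 : act 1 n64198 = n63924 := d12_1 D64198 (iv D63924) (iv F285714)
theorem F287246 : act 3 n64198 = n63897 := d25_1 D64198 (iv D63897) D63896
theorem F287247 : act 4 n64198 = n64054 := d30_1 D64198 F286419 F284687 (iv F283604) (iv F285715)
theorem F287248 : act 7 n64198 = n64021 := d36_2 (iv F285717) D64198 F286303
theorem F287249 : act 9 n64198 = n63971 := d38_2 (iv F285718) D64198 (iv D63971)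
def n64199 : Q := act 8 n63896
theorem D64199 : act 8 n63896 = n64199 := rfl
theorem F287250 : act 0 n64199 = n63900 := d7_1 D64199 (iv D63900) (iv F285713)
theorem F287251 : act 1 n64199 = n63925 := d15_1 D64199 (iv D63925) (iv F285714)
theorem F287252 : act 3 n64199 = n63973 := d28_1 D64199 F286091 F284374 (iv F283558) D63896
theorem F287253 : act 4 n64199 = n63904 := d33_1 D64199 (iv D63904) (iv F285715)
theorem F287254 : act 6 n64199 = n63971 := d40_1 D64199 (iv F286079) (iv F285716)
theorem F287255 : act 7 n64199 = n63944 := d42_1 D64199 F285956 (iv F285717)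
def n64200 : Q := act 6 n63897
theorem D64200 : act 6 n63897 = n64200 := rfl
theorem F287256 : act 0 n64200 = n63901 := d5_1 D64200 (iv D63901) (iv F285719)
theorem F287257 : act 1 n64200 = n63926 := d13_1 D64200 (iv D63926) (iv F285720)
theorem F287258 : act 2 n64200 = n64020 := d20_1 D64200 F286299 (iv F285721)
theorem F287259 : act 4 n64200 = n63902 := d31_1 D64200 (iv D63902) (iv F285722)
theorem F287260 : act 5 n64200 = n63915 := d35_1 D64200 F285829 (iv D63658) (iv F283556) D63897
theorem F287261 : act 7 n64200 = n64032 := d39_2 (iv F285723) D64200 F286344 F284479 (iv F284410)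
theorem F287262 : act 8 n64200 = n63914 := d40_2 (iv F285724) D64200 F285823
theorem F287263 : act 9 n64200 = n63973 := d41_2 (iv F285725) D64200 (iv D63973)
def n64201 : Q := act 5 n63898
theorem D64201 : act 5 n63898 = n64201 := rfl
theorem F287264 : act 1 n64201 = n64201 := d12_1 D64201 (iv D64201) F285726
theorem F287265 : act 2 n64201 = n63899 := d19_1 D64201 (iv D63899) D63898
theorem F287266 : act 3 n64201 = n63995 := d25_1 D64201 F286186 (iv F285727)
theorem F287267 : act 4 n64201 = n64055 := d30_1 D64201 F286422 F284694 (iv F283609) (iv F285728)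
theorem F287268 : act 7 n64201 = n64016 := d36_2 (iv F285730) D64201 F286279
theorem F287269 : act 9 n64201 = n63974 := d38_2 (iv F285731) D64201 (iv D63974)
def n64202 : Q := act 1 n63903
theorem D64202 : act 1 n63903 = n64202 := rfl
theorem F287270 : act 0 n64202 = n64202 := d0_1 D64202 (iv D64202) F285756 F283607 (iv F285756)
theorem F287271 : act 2 n64202 = n63932 := d9_2 D63903 D64202 (iv D63932) (iv D63496) (iv F283603)
theorem F287272 : act 3 n64202 = n64025 := d10_2 (iv F285757) D64202 F286316
theorem F287273 : act 5 n64202 = n64080 := d12_2 (iv F285758) D64202 (iv D64080)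
theorem F287274 : act 6 n64202 = n64052 := d13_2 (iv F285759) D64202 (iv D64052)
theorem F287275 : act 7 n64202 = n64091 := d14_2 (iv F285760) D64202 F286528
theorem F287276 : act 9 n64202 = n63976 := d16_2 (iv F285761) D64202 (iv D63976)
def n64203 : Q := act 1 n63905
theorem D64203 : act 1 n63905 = n64203 := rfl
theorem F287277 : act 0 n64203 = n64203 := d0_1 D64203 (iv D64203) F285768 F283629 (iv F285768)
theorem F287278 : act 2 n64203 = n63942 := d9_2 D63905 D64203 (iv D63942) (iv D63511) (iv F283619)
theorem F287279 : act 6 n64203 = n64077 := d13_2 (iv F285769) D64203 (iv D64077)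
theorem F287280 : act 7 n64203 = n64024 := d14_2 (iv F285770) D64203 (iv D64024)
def n64204 : Q := act 5 n63905
theorem D64204 : act 5 n63905 = n64204 := rfl
theorem F287281 : act 0 n64204 = n63907 := d4_1 D64204 (iv D63907) (iv F285768)
theorem F287282 : act 2 n64204 = n63906 := d19_1 D64204 (iv D63906) D63905
theorem F287283 : act 3 n64204 = n63956 := d25_1 D64204 (iv F287150) F287148
theorem F287284 : act 6 n64204 = n63955 := d35_2 (iv F285769) D64204 (iv D63955) (iv F285231) F285230
theorem F287285 : act 7 n64204 = n63933 := d36_2 (iv F285770) D64204 F285907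
theorem F287286 : act 8 n64204 = n63913 := d37_2 F286844 D64204 (iv F286841)
def n64205 : Q := act 4 n63906
theorem D64205 : act 4 n63906 = n64205 := rfl
theorem F287287 : act 0 n64205 = n63908 := d3_1 D64205 (iv D63908) (iv F285771)
theorem F287288 : act 1 n64205 = n63944 := d11_1 D64205 (iv D63944) (iv F285772)
theorem F287289 : act 3 n64205 = n63961 := d24_1 D64205 F286021 F283977 (iv F283625) (iv F285773)
theorem F287290 : act 6 n64205 = n63957 := d31_2 (iv F285774) D64205 (iv D63957)
theorem F287291 : act 7 n64205 = n63925 := d32_2 (iv F285775) D64205 F285868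
theorem F287292 : act 8 n64205 = n63911 := d33_2 (iv F285776) D64205 F285806
def n64206 : Q := act 4 n63907
theorem D64206 : act 4 n63907 = n64206 := rfl
theorem F287293 : act 1 n64206 = n64206 := d11_1 D64206 (iv D64206) F285777
theorem F287294 : act 2 n64206 = n63908 := d18_1 D64206 (iv D63908) (iv F285778)
theorem F287295 : act 3 n64206 = n64005 := d24_1 D64206 F286233 F284315 (iv F283947) (iv F285779)
theorem F287296 : act 6 n64206 = n63959 := d31_2 (iv F285780) D64206 (iv D63959)
theorem F287297 : act 7 n64206 = n63928 := d32_2 (iv F285781) D64206 F285880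
theorem F287298 : act 8 n64206 = n63912 := d33_2 (iv F285782) D64206 F285812
def n64207 : Q := act 2 n63911
theorem D64207 : act 2 n63911 = n64207 := rfl
theorem F287299 : act 0 n64207 = n63912 := d1_1 D64207 (iv D63912) (iv F285804)
theorem F287300 : act 3 n64207 = n64088 := d17_2 D63911 D64207 (iv D64088) (iv D63741) (iv F283679)
theorem F287301 : act 4 n64207 = n63913 := d18_2 (iv F285806) D64207 (iv D63913)
theorem F287302 : act 6 n64207 = n63982 := d20_2 (iv F285807) D64207 (iv D63982)
theorem F287303 : act 7 n64207 = n63923 := d21_2 (iv F285808) D64207 (iv D63923)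
theorem F287304 : act 9 n64207 = n63988 := d23_2 (iv F285809) D64207 (iv D63988)
def n64208 : Q := act 1 n63913
theorem D64208 : act 1 n63913 = n64208 := rfl
theorem F287305 : act 0 n64208 = n64208 := d0_1 D64208 (iv D64208) F285816 F283692 (iv F285816)
theorem F287306 : act 2 n64208 = n64091 := d9_2 D63913 D64208 F286528 (iv F285678) F285677
theorem F287307 : act 3 n64208 = n64077 := d10_2 (iv F285817) D64208 (iv D64077)
theorem F287308 : act 7 n64208 = n63932 := d14_2 (iv F285818) D64208 (iv D63932)
theorem F287309 : act 9 n64208 = n63992 := d16_2 (iv F285819) D64208 (iv D63992)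
def n64209 : Q := act 1 n63917
theorem D64209 : act 1 n63917 = n64209 := rfl
theorem F287310 : act 0 n64209 = n64209 := d0_1 D64209 (iv D64209) F285836 F283723 (iv F285836)
theorem F287311 : act 4 n64209 = n63942 := d11_2 (iv F285837) D64209 (iv D63942)
theorem F287312 : act 6 n64209 = n64069 := d13_2 (iv F285838) D64209 (iv D64069)
def n64210 : Q := act 5 n63917
theorem D64210 : act 5 n63917 = n64210 := rfl
theorem F287313 : act 0 n64210 = n63920 := d4_1 D64210 (iv D63920) (iv F285836)
theorem F287314 : act 2 n64210 = n63918 := d19_1 D64210 (iv D63918) D63917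
def n64211 : Q := act 4 n63918
theorem D64211 : act 4 n63918 = n64211 := rfl
theorem F287315 : act 0 n64211 = n63921 := d3_1 D64211 (iv D63921) (iv F285839)
theorem F287316 : act 3 n64211 = n64031 := d24_1 D64211 (iv F286556) F286555 F284801 (iv F285840)
theorem F287317 : act 5 n64211 = n63944 := d30_2 D63918 D64211 (iv D63944) (iv D63512) (iv F283719)
theorem F287318 : act 8 n64211 = n64021 := d33_2 F286893 D64211 (iv F286889)
theorem F287319 : act 9 n64211 = n64037 := d34_2 (iv F286543) D64211 (iv F286539)
theorem F287320 : act 6 n64044 = n64211 := d41_3 F287319 F286360 D64044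
def n64212 : Q := act 6 n63918
theorem D64212 : act 6 n63918 = n64212 := rfl
theorem F287321 : act 0 n64212 = n63922 := d5_1 D64212 (iv D63922) (iv F285839)
theorem F287322 : act 3 n64212 = n63919 := d26_1 D64212 (iv D63919) (iv F285840)
theorem F287323 : act 4 n64212 = n64044 := d31_1 D64212 F287320 (iv D64211)
theorem F287324 : act 5 n64212 = n63990 := d35_1 D64212 F286169 F284201 (iv F283720) D63918
theorem F287325 : act 8 n64212 = n63958 := d40_2 F286893 D64212 (iv F286891)
theorem F287326 : act 9 n64212 = n63950 := d41_2 (iv F286543) D64212 (iv F286541)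
def n64213 : Q := act 4 n63920
theorem D64213 : act 4 n63920 = n64213 := rfl
theorem F287327 : act 1 n64213 = n64213 := d11_1 D64213 (iv D64213) F285844
theorem F287328 : act 2 n64213 = n63921 := d18_1 D64213 (iv D63921) (iv F285845)
theorem F287329 : act 5 n64213 = n63945 := d30_2 D63920 D64213 (iv D63945) (iv D63513) (iv F283724)
theorem F287330 : act 8 n64213 = n64016 := d33_2 F286901 D64213 (iv F286897)
theorem F287331 : act 9 n64213 = n64039 := d34_2 (iv F286551) D64213 (iv F286547)
theorem F287332 : act 6 n64045 = n64213 := d41_3 F287331 F286366 D64045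
def n64214 : Q := act 6 n63920
theorem D64214 : act 6 n63920 = n64214 := rfl
theorem F287333 : act 1 n64214 = n64214 := d13_1 D64214 (iv D64214) F285844
theorem F287334 : act 2 n64214 = n63922 := d20_1 D64214 (iv D63922) (iv F285845)
theorem F287335 : act 4 n64214 = n64045 := d31_1 D64214 F287332 (iv D64213)
theorem F287336 : act 5 n64214 = n63991 := d35_1 D64214 F286173 F284205 (iv F283725) D63920
theorem F287337 : act 8 n64214 = n63960 := d40_2 F286901 D64214 (iv F286899)
theorem F287338 : act 9 n64214 = n63952 := d41_2 (iv F286551) D64214 (iv F286549)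
def n64215 : Q := act 1 n63923
theorem D64215 : act 1 n63923 = n64215 := rfl
theorem F287339 : act 0 n64215 = n64215 := d0_1 D64215 (iv D64215) F285858 F283750 (iv F285858)
theorem F287340 : act 4 n64215 = n63932 := d11_2 (iv F285859) D64215 (iv D63932)
theorem F287341 : act 6 n64215 = n64065 := d13_2 (iv F285860) D64215 (iv D64065)
theorem F287342 : act 9 n64215 = n64006 := d16_2 (iv F285861) D64215 (iv D64006)
def n64216 : Q := act 5 n63923
theorem D64216 : act 5 n63923 = n64216 := rfl
theorem F287343 : act 0 n64216 = n63927 := d4_1 D64216 (iv D63927) (iv F285858)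
theorem F287344 : act 2 n64216 = n63924 := d19_1 D64216 (iv D63924) D63923
theorem F287345 : act 4 n64216 = n64067 := d30_1 D64216 (iv F287204) F287203 F285665 (iv F285859)
theorem F287346 : act 9 n64216 = n64007 := d38_2 (iv F285861) D64216 (iv D64007)
def n64217 : Q := act 8 n63923
theorem D64217 : act 8 n63923 = n64217 := rfl
theorem F287347 : act 0 n64217 = n63928 := d7_1 D64217 (iv D63928) (iv F285858)
theorem F287348 : act 2 n64217 = n63925 := d22_1 D64217 (iv D63925) D63923
theorem F287349 : act 4 n64217 = n63933 := d33_1 D64217 (iv D63933) (iv F285859)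
theorem F287350 : act 6 n64217 = n64007 := d40_1 D64217 (iv F286240) (iv F285860)
def n64218 : Q := act 6 n63924
theorem D64218 : act 6 n63924 = n64218 := rfl
theorem F287351 : act 0 n64218 = n63929 := d5_1 D64218 (iv D63929) (iv F285862)
theorem F287352 : act 3 n64218 = n63926 := d26_1 D64218 (iv D63926) (iv F285863)
theorem F287353 : act 4 n64218 = n63934 := d31_1 D64218 F285912 (iv F285864)
theorem F287354 : act 5 n64218 = n64002 := d35_1 D64218 F286222 F284294 (iv F283745) D63924
theorem F287355 : act 9 n64218 = n63925 := d41_2 (iv F285865) D64218 F285869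
theorem F287356 : act 8 n64001 = n64218 := d44_5 F287355 (iv D63925) F283746 D63607 (iv F286218)
def n64219 : Q := act 8 n63924
theorem D64219 : act 8 n63924 = n64219 := rfl
theorem F287357 : act 0 n64219 = n63930 := d7_1 D64219 (iv D63930) (iv F285862)
theorem F287358 : act 3 n64219 = n64003 := d28_1 D64219 (iv F286559) F286555 F284803 (iv F285863)
theorem F287359 : act 4 n64219 = n64011 := d33_1 D64219 F286258 (iv F285864)
theorem F287360 : act 5 n64219 = n63925 := d37_1 D64219 (iv D63925) D63924
theorem F287361 : act 6 n64219 = n64001 := d40_1 D64219 F287356 (iv D64218)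
theorem F287362 : act 9 n64219 = n64002 := d44_2 (iv F285865) D64219 (iv D64002) F284265 F284290
def n64220 : Q := act 6 n63927
theorem D64220 : act 6 n63927 = n64220 := rfl
theorem F287363 : act 1 n64220 = n64220 := d13_1 D64220 (iv D64220) F285874
theorem F287364 : act 2 n64220 = n63929 := d20_1 D64220 (iv D63929) (iv F285875)
theorem F287365 : act 4 n64220 = n63935 := d31_1 D64220 F285917 (iv F285876)
theorem F287366 : act 5 n64220 = n64005 := d35_1 D64220 F286234 F284304 (iv F283752) D63927
theorem F287367 : act 9 n64220 = n63928 := d41_2 (iv F285877) D64220 F285881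
theorem F287368 : act 8 n64004 = n64220 := d44_5 F287367 (iv D63928) F283753 D63610 (iv F286230)
def n64221 : Q := act 8 n63927
theorem D64221 : act 8 n63927 = n64221 := rfl
theorem F287369 : act 1 n64221 = n64221 := d15_1 D64221 (iv D64221) F285874
theorem F287370 : act 2 n64221 = n63930 := d22_1 D64221 (iv D63930) (iv F285875)
theorem F287371 : act 4 n64221 = n64012 := d33_1 D64221 F286264 (iv F285876)
theorem F287372 : act 5 n64221 = n63928 := d37_1 D64221 (iv D63928) D63927
theorem F287373 : act 6 n64221 = n64004 := d40_1 D64221 F287368 (iv D64220)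
theorem F287374 : act 9 n64221 = n64005 := d44_2 (iv F285877) D64221 (iv D64005) F284272 F284300
def n64222 : Q := act 8 n63932
theorem D64222 : act 8 n63932 = n64222 := rfl
theorem F287375 : act 0 n64222 = n64222 := d7_1 D64222 (iv D64222) F285901
theorem F287376 : act 1 n64222 = n63933 := d15_1 D64222 (iv D63933) D63932
theorem F287377 : act 5 n64222 = n64024 := d37_1 D64222 (iv F287214) F287212
theorem F287378 : act 6 n64222 = n64066 := d40_1 D64222 (iv D64066) (iv F285903)
def n64223 : Q := act 9 n63933
theorem D64223 : act 9 n63933 = n64223 := rfl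
theorem F287379 : act 0 n64223 = n63935 := d8_1 D64223 (iv D63935) (iv F285905)
theorem F287380 : act 2 n64223 = n63934 := d23_1 D64223 (iv D63934) (iv F285906)
theorem F287381 : act 5 n64223 = n64017 := d38_1 D64223 F286285 (iv F285907)
theorem F287382 : act 6 n64223 = n64067 := d41_1 D64223 (iv D64067) (iv F285908)
theorem F287383 : act 8 n64223 = n64015 := d44_1 D64223 (iv D64015) (iv D63616) (iv F283791) D63933
def n64224 : Q := act 1 n63936
theorem D64224 : act 1 n63936 = n64224 := rfl
theorem F287384 : act 0 n64224 = n64224 := d0_1 D64224 (iv D64224) F285919 F283817 (iv F285919)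
theorem F287385 : act 2 n64224 = n64024 := d9_2 D63936 D64224 (iv D64024) (iv D63638) (iv F283813)
theorem F287386 : act 3 n64224 = n64074 := d10_2 (iv F285920) D64224 (iv D64074)
theorem F287387 : act 6 n64224 = n63981 := d13_2 (iv F285921) D64224 (iv D63981)
theorem F287388 : act 7 n64224 = n63942 := d14_2 (iv F285922) D64224 (iv D63942)
theorem F287389 : act 8 n64224 = n64080 := d15_2 (iv F285923) D64224 (iv D64080)
def n64225 : Q := act 1 n63937
theorem D64225 : act 1 n63937 = n64225 := rfl
theorem F287390 : act 0 n64225 = n64225 := d0_1 D64225 (iv D64225) F285924 F283837 (iv F285924)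
theorem F287391 : act 2 n64225 = n64076 := d9_2 D63937 D64225 (iv D64076) (iv D63723) (iv F283823)
theorem F287392 : act 3 n64225 = n63942 := d10_2 (iv F285925) D64225 (iv D63942)
theorem F287393 : act 4 n64225 = n63963 := d11_2 (iv F285926) D64225 (iv D63963)
theorem F287394 : act 5 n64225 = n64066 := d12_2 (iv F285927) D64225 F286457
theorem F287395 : act 6 n64225 = n63965 := d13_2 (iv F285928) D64225 (iv D63965)
theorem F287396 : act 7 n64225 = n64074 := d14_2 (iv F285929) D64225 (iv D64074)
theorem F287397 : act 8 n64225 = n64050 := d15_2 (iv F285930) D64225 (iv D64050)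
def n64226 : Q := act 1 n63938
theorem D64226 : act 1 n63938 = n64226 := rfl
theorem F287398 : act 0 n64226 = n64226 := d0_1 D64226 (iv D64226) F285931 F283850 (iv F285931)
theorem F287399 : act 6 n64226 = n64078 := d13_2 (iv F285932) D64226 (iv D64078)
theorem F287400 : act 9 n64226 = n63942 := d16_2 (iv F285933) D64226 (iv D63942)
def n64227 : Q := act 5 n63938
theorem D64227 : act 5 n63938 = n64227 := rfl
theorem F287401 : act 0 n64227 = n63940 := d4_1 D64227 (iv D63940) (iv F285931)
theorem F287402 : act 2 n64227 = n63939 := d19_1 D64227 (iv D63939) D63938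
theorem F287403 : act 3 n64227 = n64067 := d25_1 D64227 (iv F287204) F287202
theorem F287404 : act 9 n64227 = n63943 := d38_2 (iv F285933) D64227 (iv D63943)
def n64228 : Q := act 4 n63939
theorem D64228 : act 4 n63939 = n64228 := rfl
theorem F287405 : act 0 n64228 = n63941 := d3_1 D64228 (iv D63941) (iv F285934)
theorem F287406 : act 3 n64228 = n64032 := d24_1 D64228 F286343 (iv F284999) F285000 (iv F285935)
theorem F287407 : act 5 n64228 = n64037 := d30_2 D63939 D64228 (iv F286539) F286540 F285369
theorem F287408 : act 6 n64228 = n64029 := d31_2 F287066 D64228 (iv F287065)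
theorem F287409 : act 8 n64228 = n64036 := d33_2 F286943 D64228 (iv F286941)
theorem F287410 : act 9 n64228 = n63944 := d34_2 (iv F285936) D64228 (iv D63944)
def n64229 : Q := act 4 n63940
theorem D64229 : act 4 n63940 = n64229 := rfl
theorem F287411 : act 1 n64229 = n64229 := d11_1 D64229 (iv D64229) F285937
theorem F287412 : act 2 n64229 = n63941 := d18_1 D64229 (iv D63941) (iv F285938)
theorem F287413 : act 5 n64229 = n64039 := d30_2 D63940 D64229 (iv F286547) F286548 F285375
theorem F287414 : act 6 n64229 = n64030 := d31_2 F287079 D64229 (iv F287078)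
theorem F287415 : act 8 n64229 = n64038 := d33_2 F286958 D64229 (iv F286956)
theorem F287416 : act 9 n64229 = n63945 := d34_2 (iv F285940) D64229 (iv D63945)
def n64230 : Q := act 5 n63942
theorem D64230 : act 5 n63942 = n64230 := rfl
theorem F287417 : act 0 n64230 = n64230 := d4_1 D64230 (iv D64230) F285947
theorem F287418 : act 1 n64230 = n63943 := d12_1 D64230 (iv D63943) D63942
theorem F287419 : act 3 n64230 = n64066 := d25_1 D64230 (iv F287394) F287392
theorem F287420 : act 8 n64230 = n64091 := d37_2 F287221 D64230 (iv F287218)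
def n64231 : Q := act 4 n63943
theorem D64231 : act 4 n63943 = n64231 := rfl
theorem F287421 : act 0 n64231 = n63945 := d3_1 D64231 (iv D63945) (iv F285949)
theorem F287422 : act 2 n64231 = n63944 := d18_1 D64231 (iv D63944) (iv F285950)
theorem F287423 : act 6 n64231 = n64028 := d31_2 F287164 D64231 (iv F287163)
theorem F287424 : act 8 n64231 = n64026 := d33_2 (iv F285952) D64231 F286322
def n64232 : Q := act 1 n63946
theorem D64232 : act 1 n63946 = n64232 := rfl
theorem F287425 : act 0 n64232 = n64232 := d0_1 D64232 (iv D64232) F285961 F283888 (iv F285961)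
theorem F287426 : act 3 n64232 = n64076 := d10_2 (iv F285962) D64232 (iv D64076)
theorem F287427 : act 4 n64232 = n64027 := d11_2 (iv F285963) D64232 (iv D64027)
theorem F287428 : act 6 n64232 = n64091 := d13_2 (iv F285964) D64232 F286528
theorem F287429 : act 7 n64232 = n63954 := d14_2 (iv F285965) D64232 (iv D63954)
def n64233 : Q := act 1 n63947
theorem D64233 : act 1 n63947 = n64233 := rfl
theorem F287430 : act 0 n64233 = n64233 := d0_1 D64233 (iv D64233) F285966 F283905 (iv F285966)
theorem F287431 : act 2 n64233 = n64074 := d9_2 D63947 D64233 (iv D64074) (iv D63719) (iv F283894)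
theorem F287432 : act 3 n64233 = n63954 := d10_2 (iv F285967) D64233 (iv D63954)
theorem F287433 : act 4 n64233 = n64081 := d11_2 (iv F285968) D64233 (iv D64081)
theorem F287434 : act 7 n64233 = n64076 := d14_2 (iv F285969) D64233 (iv D64076)
theorem F287435 : act 8 n64233 = n64077 := d15_2 (iv F285970) D64233 (iv D64077)
def n64234 : Q := act 1 n63948
theorem D64234 : act 1 n63948 = n64234 := rfl
theorem F287436 : act 0 n64234 = n64234 := d0_1 D64234 (iv D64234) F285971 F283922 (iv F285971)
theorem F287437 : act 4 n64234 = n64042 := d11_2 (iv F285972) D64234 (iv D64042)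
theorem F287438 : act 9 n64234 = n63954 := d16_2 (iv F285973) D64234 (iv D63954)
def n64235 : Q := act 5 n63948
theorem D64235 : act 5 n63948 = n64235 := rfl
theorem F287439 : act 0 n64235 = n63951 := d4_1 D64235 (iv D63951) (iv F285971)
theorem F287440 : act 2 n64235 = n63949 := d19_1 D64235 (iv D63949) D63948
theorem F287441 : act 9 n64235 = n63955 := d38_2 (iv F285973) D64235 (iv D63955)
def n64236 : Q := act 8 n63948
theorem D64236 : act 8 n63948 = n64236 := rfl
theorem F287442 : act 0 n64236 = n63952 := d7_1 D64236 (iv D63952) (iv F285971)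
theorem F287443 : act 2 n64236 = n63950 := d22_1 D64236 (iv D63950) D63948
theorem F287444 : act 4 n64236 = n64043 := d33_1 D64236 (iv D64043) (iv F285972)
def n64237 : Q := act 8 n63949
theorem D64237 : act 8 n63949 = n64237 := rfl
theorem F287445 : act 0 n64237 = n63953 := d7_1 D64237 (iv D63953) (iv F285974)
theorem F287446 : act 3 n64237 = n64020 := d28_1 D64237 F286300 (iv F284999) F285003 (iv F285975)
theorem F287447 : act 4 n64237 = n64086 := d33_1 D64237 (iv F286914) F286912
theorem F287448 : act 5 n64237 = n63950 := d37_1 D64237 (iv D63950) D63949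
theorem F287449 : act 6 n64237 = n63994 := d40_1 D64237 (iv F286972) F286970
theorem F287450 : act 9 n64237 = n63990 := d44_2 (iv F285976) D64237 (iv D63990) (iv F285553) F285552
def n64238 : Q := act 8 n63951
theorem D64238 : act 8 n63951 = n64238 := rfl
theorem F287451 : act 1 n64238 = n64238 := d15_1 D64238 (iv D64238) F285979
theorem F287452 : act 2 n64238 = n63953 := d22_1 D64238 (iv D63953) (iv F285980)
theorem F287453 : act 4 n64238 = n64087 := d33_1 D64238 (iv F286929) F286927
theorem F287454 : act 5 n64238 = n63952 := d37_1 D64238 (iv D63952) D63951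
theorem F287455 : act 6 n64238 = n63995 := d40_1 D64238 (iv F286979) F286977
theorem F287456 : act 9 n64238 = n63991 := d44_2 (iv F285981) D64238 (iv D63991) (iv F285561) F285560
def n64239 : Q := act 5 n63954
theorem D64239 : act 5 n63954 = n64239 := rfl
theorem F287457 : act 0 n64239 = n64239 := d4_1 D64239 (iv D64239) F285991
theorem F287458 : act 1 n64239 = n63955 := d12_1 D64239 (iv D63955) D63954
def n64240 : Q := act 8 n63954
theorem D64240 : act 8 n63954 = n64240 := rfl
theorem F287459 : act 0 n64240 = n64240 := d7_1 D64240 (iv D64240) F285991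
theorem F287460 : act 1 n64240 = n63956 := d15_1 D64240 (iv D63956) D63954
theorem F287461 : act 4 n64240 = n64047 := d33_1 D64240 (iv D64047) (iv F285992)
def n64241 : Q := act 4 n63955
theorem D64241 : act 4 n63955 = n64241 := rfl
theorem F287462 : act 0 n64241 = n63959 := d3_1 D64241 (iv D63959) (iv F285993)
theorem F287463 : act 2 n64241 = n63957 := d18_1 D64241 (iv D63957) (iv F285994)
theorem F287464 : act 3 n64241 = n64008 := d24_1 D64241 F286243 D64014 (iv F286881) (iv F286885)
theorem F287465 : act 5 n64241 = n64048 := d30_2 D63955 D64241 (iv D64048) (iv D63673) (iv F283937)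
theorem F287466 : act 7 n64241 = n63987 := d32_2 F287173 D64241 (iv F287170)
theorem F287467 : act 8 n64241 = n63982 := d33_2 F287153 D64241 (iv F287149)
def n64242 : Q := act 9 n63956
theorem D64242 : act 9 n63956 = n64242 := rfl
theorem F287468 : act 0 n64242 = n63960 := d8_1 D64242 (iv D63960) (iv F285995)
theorem F287469 : act 2 n64242 = n63958 := d23_1 D64242 (iv D63958) (iv F285996)
theorem F287470 : act 4 n64242 = n64049 := d34_1 D64242 (iv D64049) (iv F285997)
theorem F287471 : act 5 n64242 = n63989 := d38_1 D64242 (iv F287154) F287150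
def n64243 : Q := act 1 n63962
theorem D64243 : act 1 n63962 = n64243 := rfl
theorem F287472 : act 0 n64243 = n64243 := d0_1 D64243 (iv D64243) F286024 F283996 (iv F286024)
theorem F287473 : act 2 n64243 = n64081 := d9_2 D63962 D64243 (iv D64081) (iv D63730) (iv F283991)
theorem F287474 : act 4 n64243 = n64074 := d11_2 (iv F286025) D64243 (iv D64074)
theorem F287475 : act 5 n64243 = n63992 := d12_2 (iv F286026) D64243 (iv D63992)
theorem F287476 : act 7 n64243 = n63963 := d14_2 (iv F286027) D64243 (iv D63963)
theorem F287477 : act 8 n64243 = n64069 := d15_2 (iv F286028) D64243 (iv D64069)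
def n64244 : Q := act 1 n63964
theorem D64244 : act 1 n63964 = n64244 := rfl
theorem F287478 : act 0 n64244 = n64244 := d0_1 D64244 (iv D64244) F286033 F284011 (iv F286033)
theorem F287479 : act 2 n64244 = n64079 := d9_2 D63964 D64244 (iv D64079) (iv D63727) (iv F284005)
theorem F287480 : act 3 n64244 = n64078 := d10_2 (iv F286034) D64244 (iv D64078)
theorem F287481 : act 4 n64244 = n64025 := d11_2 (iv F286035) D64244 F286316
theorem F287482 : act 5 n64244 = n64018 := d12_2 (iv F286036) D64244 (iv D64018)
theorem F287483 : act 7 n64244 = n63966 := d14_2 (iv F286037) D64244 (iv D63966)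
theorem F287484 : act 8 n64244 = n64023 := d15_2 (iv F286038) D64244 (iv D64023)
theorem F287485 : act 9 n64244 = n63965 := d16_2 (iv F286039) D64244 (iv D63965)
def n64245 : Q := act 1 n63967
theorem D64245 : act 1 n63967 = n64245 := rfl
theorem F287486 : act 0 n64245 = n64245 := d0_1 D64245 (iv D64245) F286052 F284034 (iv F286052)
theorem F287487 : act 2 n64245 = n63992 := d9_2 D63967 D64245 (iv D63992) (iv D63585) (iv F284030)
theorem F287488 : act 3 n64245 = n64079 := d10_2 (iv F286053) D64245 (iv D64079)
theorem F287489 : act 4 n64245 = n64070 := d11_2 (iv F286054) D64245 (iv D64070)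
theorem F287490 : act 5 n64245 = n64081 := d12_2 (iv F286055) D64245 (iv D64081)
theorem F287491 : act 7 n64245 = n63976 := d14_2 (iv F286056) D64245 (iv D63976)
theorem F287492 : act 9 n64245 = n64091 := d16_2 (iv F286057) D64245 F286528
def n64246 : Q := act 8 n63967
theorem D64246 : act 8 n63967 = n64246 := rfl
theorem F287493 : act 0 n64246 = n63969 := d7_1 D64246 (iv D63969) (iv F286052)
theorem F287494 : act 2 n64246 = n63968 := d22_1 D64246 (iv D63968) D63967
theorem F287495 : act 3 n64246 = n64043 := d28_1 D64246 (iv D64043) (iv F286121) F286125 (iv F286053)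
theorem F287496 : act 4 n64246 = n64041 := d33_1 D64246 F286371 (iv F286054)
theorem F287497 : act 5 n64246 = n64056 := d37_1 D64246 F286426 (iv F286055)
theorem F287498 : act 7 n64246 = n63977 := d42_1 D64246 (iv D63977) (iv F286056)
def n64247 : Q := act 1 n63970
theorem D64247 : act 1 n63970 = n64247 := rfl
theorem F287499 : act 0 n64247 = n64247 := d0_1 D64247 (iv D64247) F286070 F284055 (iv F286070)
theorem F287500 : act 2 n64247 = n64006 := d9_2 D63970 D64247 (iv D64006) (iv D63605) (iv F284046)
theorem F287501 : act 3 n64247 = n64069 := d10_2 (iv F286071) D64247 (iv D64069)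
theorem F287502 : act 4 n64247 = n63976 := d11_2 (iv F286072) D64247 (iv D63976)
theorem F287503 : act 7 n64247 = n64070 := d14_2 (iv F286073) D64247 (iv D64070)
def n64248 : Q := act 5 n63970
theorem D64248 : act 5 n63970 = n64248 := rfl
theorem F287504 : act 0 n64248 = n63974 := d4_1 D64248 (iv D63974) (iv F286070)
theorem F287505 : act 2 n64248 = n63971 := d19_1 D64248 (iv D63971) D63970
theorem F287506 : act 3 n64248 = n63993 := d25_1 D64248 F286178 (iv F286071)
theorem F287507 : act 4 n64248 = n64053 := d30_1 D64248 F286415 F284698 (iv F284082) (iv F286072)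
theorem F287508 : act 7 n64248 = n64014 := d36_2 (iv F286073) D64248 F286270
theorem F287509 : act 8 n64034 = n64248 := d46_0 (iv D64248) F286072 (iv F285205) (iv D63814) F282952 F281421 F277904 (iv F278679) (iv F281507) (iv D62998) F277983 F275045 (iv F273249) F273253 F268246 (iv D58960) (iv F263873) (iv D58954) (iv F262012) F262011 F257287 F254925 (iv F254259) (iv D56611) (iv F251712) F251711 (iv F251395) (iv D56075) F244808 F240603 F232279 F223045 F223044 F212905 D47656 F213255 F179958 D47663 F213291 (iv F216108) (iv F222570) D51743 (iv F240299) (iv F247602) D56491 D57663 D58831 D60050 F268317 (iv F268306) F268305 (iv F270228) (iv F270920) F270919 (iv D60694) (iv F269583) (iv F274251) D62414 D63129 D63659 F284506 (iv F286350)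
def n64249 : Q := act 8 n63970
theorem D64249 : act 8 n63970 = n64249 := rfl
theorem F287510 : act 0 n64249 = n63975 := d7_1 D64249 (iv D63975) (iv F286070)
theorem F287511 : act 2 n64249 = n63972 := d22_1 D64249 (iv D63972) D63970
theorem F287512 : act 4 n64249 = n63977 := d33_1 D64249 (iv D63977) (iv F286072)
theorem F287513 : act 5 n64249 = n64034 := d37_1 D64249 F287509 (iv D64248)
theorem F287514 : act 7 n64249 = n64041 := d42_1 D64249 F286371 (iv F286073)
def n64250 : Q := act 8 n63976
theorem D64250 : act 8 n63976 = n64250 := rfl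
theorem F287515 : act 0 n64250 = n64250 := d7_1 D64250 (iv D64250) F286103
theorem F287516 : act 1 n64250 = n63977 := d15_1 D64250 (iv D63977) D63976
theorem F287517 : act 2 n64250 = n64013 := d22_1 D64250 (iv D64013) (iv F286104)
theorem F287518 : act 5 n64250 = n64057 := d37_1 D64250 F286431 (iv F286105)
def n64251 : Q := act 1 n63978
theorem D64251 : act 1 n63978 = n64251 := rfl
theorem F287519 : act 0 n64251 = n64251 := d0_1 D64251 (iv D64251) F286109 F284097 (iv F286109)
theorem F287520 : act 2 n64251 = n64018 := d9_2 D63978 D64251 (iv D64018) (iv D63622) (iv F284091)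
theorem F287521 : act 3 n64251 = n64081 := d10_2 (iv F286110) D64251 (iv D64081)
theorem F287522 : act 4 n64251 = n64033 := d11_2 (iv F286111) D64251 (iv D64033)
theorem F287523 : act 5 n64251 = n64079 := d12_2 (iv F286112) D64251 (iv D64079)
theorem F287524 : act 7 n64251 = n64082 := d14_2 (iv F286113) D64251 (iv D64082)
theorem F287525 : act 8 n64251 = n64083 := d15_2 (iv F286114) D64251 (iv D64083)
theorem F287526 : act 9 n64251 = n63981 := d16_2 (iv F286115) D64251 (iv D63981)
def n64252 : Q := act 1 n63980
theorem D64252 : act 1 n63980 = n64252 := rfl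
theorem F287527 : act 0 n64252 = n64252 := d0_1 D64252 (iv D64252) F286120 F284128 (iv F286120)
theorem F287528 : act 2 n64252 = n64023 := d9_2 D63980 D64252 (iv D64023) (iv D63637) (iv F284122)
theorem F287529 : act 3 n64252 = n64042 := d10_2 (iv F286121) D64252 (iv D64042)
theorem F287530 : act 4 n64252 = n63981 := d11_2 (iv F286122) D64252 (iv D63981)
theorem F287531 : act 5 n64252 = n64083 := d12_2 (iv F286123) D64252 (iv D64083)
theorem F287532 : act 7 n64252 = n64071 := d14_2 (iv F286124) D64252 (iv D64071)
theorem F287533 : act 8 n64252 = n64079 := d15_2 (iv F286125) D64252 (iv D64079)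
theorem F287534 : act 9 n64252 = n64033 := d16_2 (iv F286126) D64252 (iv D64033)
def n64253 : Q := act 1 n63982
theorem D64253 : act 1 n63982 = n64253 := rfl
theorem F287535 : act 0 n64253 = n64253 := d0_1 D64253 (iv D64253) F286132 F284144 (iv F286132)
theorem F287536 : act 2 n64253 = n64027 := d9_2 D63982 D64253 (iv D64027) (iv D63643) (iv F284140)
theorem F287537 : act 3 n64253 = n64090 := d10_2 (iv F286133) D64253 (iv D64090)
theorem F287538 : act 5 n64253 = n64058 := d12_2 (iv F286134) D64253 (iv D64058)
theorem F287539 : act 7 n64253 = n63986 := d14_2 (iv F286135) D64253 (iv D63986)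
theorem F287540 : act 9 n64253 = n64084 := d16_2 (iv F286136) D64253 (iv D64084)
def n64254 : Q := act 1 n63983
theorem D64254 : act 1 n63983 = n64254 := rfl
theorem F287541 : act 0 n64254 = n64254 := d0_1 D64254 (iv D64254) F286137 F284159 (iv F286137)
theorem F287542 : act 2 n64254 = n64042 := d9_2 D63983 D64254 (iv D64042) (iv D63668) (iv F284155)
theorem F287543 : act 3 n64254 = n64058 := d10_2 (iv F286138) D64254 (iv D64058)
theorem F287544 : act 5 n64254 = n64090 := d12_2 (iv F286139) D64254 (iv D64090)
theorem F287545 : act 7 n64254 = n64084 := d14_2 (iv F286140) D64254 (iv D64084)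
theorem F287546 : act 9 n64254 = n63986 := d16_2 (iv F286141) D64254 (iv D63986)
def n64255 : Q := act 8 n63983
theorem D64255 : act 8 n63983 = n64255 := rfl
theorem F287547 : act 0 n64255 = n63985 := d7_1 D64255 (iv D63985) (iv F286137)
theorem F287548 : act 2 n64255 = n63984 := d22_1 D64255 (iv D63984) D63983
theorem F287549 : act 3 n64255 = n64007 := d28_1 D64255 (iv F286240) (iv F286394) F286396 (iv F286138)
theorem F287550 : act 5 n64255 = n63998 := d37_1 D64255 F286205 (iv F286139)
theorem F287551 : act 7 n64255 = n64085 := d42_1 D64255 (iv D64085) (iv F286140)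
def n64256 : Q := act 8 n63986
theorem D64256 : act 8 n63986 = n64256 := rfl
theorem F287552 : act 0 n64256 = n64256 := d7_1 D64256 (iv D64256) F286152
theorem F287553 : act 1 n64256 = n63987 := d15_1 D64256 (iv D63987) D63986
theorem F287554 : act 2 n64256 = n64047 := d22_1 D64256 (iv D64047) (iv F286153)
theorem F287555 : act 5 n64256 = n64051 := d37_1 D64256 F286409 (iv F286154)
def n64257 : Q := act 1 n63988
theorem D64257 : act 1 n63988 = n64257 := rfl
theorem F287556 : act 0 n64257 = n64257 := d0_1 D64257 (iv D64257) F286158 F284182 (iv F286158)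
theorem F287557 : act 2 n64257 = n64070 := d9_2 D63988 D64257 (iv D64070) (iv D63712) (iv F284178)
theorem F287558 : act 3 n64257 = n64089 := d10_2 (iv F286159) D64257 (iv D64089)
theorem F287559 : act 4 n64257 = n63992 := d11_2 (iv F286160) D64257 (iv D63992)
theorem F287560 : act 6 n64257 = n64084 := d13_2 (iv F286161) D64257 (iv D64084)
theorem F287561 : act 7 n64257 = n64006 := d14_2 (iv F286162) D64257 (iv D64006)
def n64258 : Q := act 1 n63989
theorem D64258 : act 1 n63989 = n64258 := rfl
theorem F287562 : act 0 n64258 = n64258 := d0_1 D64258 (iv D64258) F286163 F284190 (iv F286163)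
theorem F287563 : act 4 n64258 = n64084 := d11_2 (iv F286164) D64258 (iv D64084)
theorem F287564 : act 6 n64258 = n63992 := d13_2 (iv F286165) D64258 (iv D63992)
def n64259 : Q := act 8 n63989
theorem D64259 : act 8 n63989 = n64259 := rfl
theorem F287565 : act 0 n64259 = n63991 := d7_1 D64259 (iv D63991) (iv F286163)
theorem F287566 : act 2 n64259 = n63990 := d22_1 D64259 (iv D63990) D63989
theorem F287567 : act 4 n64259 = n64085 := d33_1 D64259 (iv D64085) (iv F286164)
theorem F287568 : act 6 n64259 = n63993 := d40_1 D64259 (iv D63993) (iv F286165)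
def n64260 : Q := act 8 n63992
theorem D64260 : act 8 n63992 = n64260 := rfl
theorem F287569 : act 0 n64260 = n64260 := d7_1 D64260 (iv D64260) F286174
theorem F287570 : act 1 n64260 = n63993 := d15_1 D64260 (iv D63993) D63992
theorem F287571 : act 5 n64260 = n64069 := d37_1 D64260 (iv F287477) F287475
theorem F287572 : act 7 n64260 = n64013 := d42_1 D64260 (iv D64013) (iv F286175)
def n64261 : Q := act 9 n63993
theorem D64261 : act 9 n63993 = n64261 := rfl
theorem F287573 : act 0 n64261 = n63995 := d8_1 D64261 (iv D63995) (iv F286176)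
theorem F287574 : act 2 n64261 = n63994 := d23_1 D64261 (iv D63994) (iv F286177)
theorem F287575 : act 5 n64261 = n64068 := d38_1 D64261 F286463 (iv F286178)
theorem F287576 : act 7 n64261 = n64015 := d43_1 D64261 (iv D64015) (iv F286179)
def n64262 : Q := act 1 n63998
theorem D64262 : act 1 n63998 = n64262 := rfl
theorem F287577 : act 0 n64262 = n64262 := d0_1 D64262 (iv D64262) F286202 F284241 (iv F286202)
theorem F287578 : act 3 n64262 = n64006 := d10_2 (iv F286203) D64262 (iv D64006)
theorem F287579 : act 7 n64262 = n64089 := d14_2 (iv F286204) D64262 (iv D64089)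
theorem F287580 : act 8 n64262 = n64090 := d15_2 (iv F286205) D64262 (iv D64090)
def n64263 : Q := act 1 n64000
theorem D64263 : act 1 n64000 = n64263 := rfl
theorem F287581 : act 0 n64263 = n64263 := d0_1 D64263 (iv D64263) F286211 F284269 (iv F286211)
theorem F287582 : act 4 n64263 = n64009 := d11_2 (iv F286212) D64263 (iv D64009)
theorem F287583 : act 6 n64263 = n64006 := d13_2 (iv F286213) D64263 (iv D64006)
theorem F287584 : act 9 n64263 = n64065 := d16_2 (iv F286214) D64263 (iv D64065)
def n64264 : Q := act 5 n64000
theorem D64264 : act 5 n64000 = n64264 := rfl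
theorem F287585 : act 0 n64264 = n64004 := d4_1 D64264 (iv D64004) (iv F286211)
theorem F287586 : act 2 n64264 = n64001 := d19_1 D64264 (iv D64001) D64000
theorem F287587 : act 4 n64264 = n64015 := d30_1 D64264 F286275 (iv F285214) F285215 (iv F286212)
theorem F287588 : act 9 n64264 = n64008 := d38_2 (iv F286214) D64264 F286244
def n64265 : Q := act 8 n64000
theorem D64265 : act 8 n64000 = n64265 := rfl
theorem F287589 : act 0 n64265 = n64005 := d7_1 D64265 (iv D64005) (iv F286211)
theorem F287590 : act 2 n64265 = n64002 := d22_1 D64265 (iv D64002) D64000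
theorem F287591 : act 4 n64265 = n64010 := d33_1 D64265 (iv D64010) (iv F286212)
theorem F287592 : act 6 n64265 = n64008 := d40_1 D64265 (iv D64008) (iv F286213)
def n64266 : Q := act 5 n64006
theorem D64266 : act 5 n64006 = n64266 := rfl
theorem F287593 : act 0 n64266 = n64266 := d4_1 D64266 (iv D64266) F286235
theorem F287594 : act 1 n64266 = n64007 := d12_1 D64266 (iv D64007) D64006
theorem F287595 : act 4 n64266 = n64066 := d30_1 D64266 (iv F287394) F287393 F286031 (iv F286236)
theorem F287596 : act 8 n64065 = n64266 := d46_0 (iv D64266) F286236 (iv F285434) (iv F286856) (iv D64139) F285212 F282981 (iv F284316) (iv F286233) (iv F287295) F287294 F285783 F283637 F281203 (iv F281900) (iv F283019) F283018 F280644 F276864 (iv F276329) F276335 F273140 (iv D60188) (iv D58956) F259189 F255760 (iv F254741) F254745 D56738 F254754 F254753 F249007 F241761 (iv F240255) D55168 F247595 F242974 F235011 (iv F235280) (iv F243201) (iv F248855) (iv D55448) F241524 (iv F242528) F242527 F242526 F235557 (iv F228284) D52917 (iv F244337) (iv F250960) D57236 D58399 D59587 D60770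 F270924 (iv F274756) D62515 D63199 D63703 D64065 F286454
def n64267 : Q := act 8 n64006
theorem D64267 : act 8 n64006 = n64267 := rfl
theorem F287597 : act 0 n64267 = n64267 := d7_1 D64267 (iv D64267) F286235
theorem F287598 : act 1 n64267 = n64008 := d15_1 D64267 (iv D64008) D64006
theorem F287599 : act 4 n64267 = n64013 := d33_1 D64267 (iv D64013) (iv F286236)
theorem F287600 : act 5 n64267 = n64065 := d37_1 D64267 F287596 (iv D64266)
def n64268 : Q := act 8 n64009
theorem D64268 : act 8 n64009 = n64268 := rfl
theorem F287601 : act 0 n64268 = n64268 := d7_1 D64268 (iv D64268) F286245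
theorem F287602 : act 1 n64268 = n64010 := d15_1 D64268 (iv D64010) D64009
theorem F287603 : act 3 n64268 = n64047 := d28_1 D64268 (iv D64047) (iv F286347) F286349 (iv F286246)
theorem F287604 : act 5 n64268 = n64063 := d37_1 D64268 (iv F286862) F286859
theorem F287605 : act 6 n64268 = n64013 := d40_1 D64268 (iv D64013) (iv F286247)
def n64269 : Q := act 9 n64010
theorem D64269 : act 9 n64010 = n64269 := rfl
theorem F287606 : act 0 n64269 = n64012 := d8_1 D64269 (iv D64012) (iv F286249)
theorem F287607 : act 2 n64269 = n64011 := d23_1 D64269 (iv D64011) (iv F286250)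
theorem F287608 : act 3 n64269 = n64049 := d29_1 D64269 (iv D64049) (iv F286251)
theorem F287609 : act 5 n64269 = n64022 := d38_1 D64269 F286309 (iv F286252)
theorem F287610 : act 6 n64269 = n64015 := d41_1 D64269 (iv D64015) (iv F286253)
theorem F287611 : act 8 n64269 = n64067 := d44_1 D64269 (iv D64067) (iv D63705) (iv F284308) D64010
def n64270 : Q := act 3 n64013
theorem D64270 : act 3 n64013 = n64270 := rfl
theorem F287612 : act 0 n64270 = n64270 := d2_1 D64270 (iv D64270) F286265
theorem F287613 : act 1 n64270 = n64014 := d10_1 D64270 (iv D64014) (iv F286266)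
theorem F287614 : act 5 n64270 = n64070 := d25_2 (iv F286267) D64270 F286468
theorem F287615 : act 6 n64270 = n64047 := d26_2 F287605 D64270 (iv F287603)
theorem F287616 : act 8 n64270 = n64040 := d28_2 D64013 D64270 F287048 (iv D64167) F285434
def n64271 : Q := act 9 n64013
theorem D64271 : act 9 n64013 = n64271 := rfl
theorem F287617 : act 0 n64271 = n64271 := d8_1 D64271 (iv D64271) F286265
theorem F287618 : act 1 n64271 = n64015 := d16_1 D64271 (iv D64015) (iv F286266)
theorem F287619 : act 5 n64271 = n64072 := d38_1 D64271 F286474 (iv F286267)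
def n64272 : Q := act 9 n64014
theorem D64272 : act 9 n64014 = n64272 := rfl
theorem F287620 : act 0 n64272 = n64016 := d8_1 D64272 (iv D64016) (iv F286268)
theorem F287621 : act 2 n64272 = n64021 := d23_1 D64272 (iv D64021) (iv F286269)
theorem F287622 : act 3 n64272 = n64015 := d29_1 D64272 (iv D64015) D64014
theorem F287623 : act 5 n64272 = n64026 := d38_1 D64272 F286324 (iv F286270)
theorem F287624 : act 6 n64272 = n64049 := d41_1 D64272 (iv D64049) (iv F286271)
def n64273 : Q := act 1 n64017
theorem D64273 : act 1 n64017 = n64273 := rfl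
theorem F287625 : act 0 n64273 = n64273 := d0_1 D64273 (iv D64273) F286281 F284343 (iv F286281)
theorem F287626 : act 4 n64273 = n64063 := d11_2 (iv F286282) D64273 (iv D64063)
theorem F287627 : act 6 n64273 = n64018 := d13_2 (iv F286283) D64273 (iv D64018)
theorem F287628 : act 8 n64273 = n64072 := d15_2 (iv F286284) D64273 (iv D64072)
theorem F287629 : act 9 n64273 = n64024 := d16_2 (iv F286285) D64273 (iv D64024)
def n64274 : Q := act 8 n64018
theorem D64274 : act 8 n64018 = n64274 := rfl
theorem F287630 : act 0 n64274 = n64274 := d7_1 D64274 (iv D64274) F286286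
theorem F287631 : act 1 n64274 = n64019 := d15_1 D64274 (iv D64019) D64018
theorem F287632 : act 2 n64274 = n64083 := d22_1 D64274 (iv F287525) F287520
theorem F287633 : act 4 n64274 = n64082 := d33_1 D64274 (iv F287123) F287119
theorem F287634 : act 5 n64274 = n64023 := d37_1 D64274 (iv F287484) F287482
theorem F287635 : act 6 n64274 = n64072 := d40_1 D64274 (iv F287628) F287627
theorem F287636 : act 7 n64274 = n64033 := d42_1 D64274 F286349 (iv F286287)
theorem F287637 : act 9 n64274 = n64071 := d44_2 (iv F286288) D64274 (iv F286853) F286854 (iv D64025)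
theorem F287638 : act 3 n64027 = n64274 := d29_3 F287637 (iv F287137) F287139
def n64275 : Q := act 1 n64022
theorem D64275 : act 1 n64022 = n64275 := rfl
theorem F287639 : act 0 n64275 = n64275 := d0_1 D64275 (iv D64275) F286305 F284420 (iv F286305)
theorem F287640 : act 3 n64275 = n64064 := d10_2 (iv F286306) D64275 (iv D64064)
theorem F287641 : act 4 n64275 = n64024 := d11_2 (iv F286307) D64275 (iv D64024)
theorem F287642 : act 6 n64275 = n64023 := d13_2 (iv F286308) D64275 (iv D64023)
theorem F287643 : act 9 n64275 = n64063 := d16_2 (iv F286309) D64275 (iv D64063)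
def n64276 : Q := act 1 n64026
theorem D64276 : act 1 n64026 = n64276 := rfl
theorem F287644 : act 0 n64276 = n64276 := d0_1 D64276 (iv D64276) F286320 F284439 (iv F286320)
theorem F287645 : act 3 n64276 = n64072 := d10_2 (iv F286321) D64276 (iv D64072)
theorem F287646 : act 4 n64276 = n64091 := d11_2 (iv F286322) D64276 F286528
theorem F287647 : act 6 n64276 = n64027 := d13_2 (iv F286323) D64276 (iv D64027)
theorem F287648 : act 9 n64276 = n64070 := d16_2 (iv F286324) D64276 (iv D64070)
def n64277 : Q := act 8 n64027
theorem D64277 : act 8 n64027 = n64277 := rfl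
theorem F287649 : act 0 n64277 = n64277 := d7_1 D64277 (iv D64277) F286325
theorem F287650 : act 1 n64277 = n64028 := d15_1 D64277 (iv D64028) D64027
theorem F287651 : act 5 n64277 = n64062 := d37_1 D64277 (iv F287132) F287129
theorem F287652 : act 7 n64277 = n64047 := d42_1 D64277 (iv D64047) (iv F286326)
def n64278 : Q := act 9 n64028
theorem D64278 : act 9 n64028 = n64278 := rfl
theorem F287653 : act 0 n64278 = n64030 := d8_1 D64278 (iv D64030) (iv F286327)
theorem F287654 : act 2 n64278 = n64029 := d23_1 D64278 (iv D64029) (iv F286328)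
theorem F287655 : act 5 n64278 = n64061 := d38_1 D64278 F286446 (iv F286329)
theorem F287656 : act 7 n64278 = n64049 := d43_1 D64278 (iv D64049) (iv F286330)
def n64279 : Q := act 1 n64034
theorem D64279 : act 1 n64034 = n64279 := rfl
theorem F287657 : act 0 n64279 = n64279 := d0_1 D64279 (iv D64279) F286350 F284506 (iv F286350)
theorem F287658 : act 2 n64279 = n64065 := d9_2 D64034 D64279 (iv D64065) (iv D63703) (iv F284498)
theorem F287659 : act 4 n64279 = n64052 := d11_2 (iv F286351) D64279 (iv D64052)
theorem F287660 : act 7 n64279 = n64040 := d14_2 (iv F286352) D64279 (iv D64040)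
def n64280 : Q := act 1 n64035
theorem D64280 : act 1 n64035 = n64280 := rfl
theorem F287661 : act 0 n64280 = n64280 := d0_1 D64280 (iv D64280) F286353 F284515 (iv F286353)
theorem F287662 : act 6 n64280 = n64042 := d13_2 (iv F286354) D64280 (iv D64042)
theorem F287663 : act 9 n64280 = n64040 := d16_2 (iv F286355) D64280 (iv D64040)
def n64281 : Q := act 5 n64035
theorem D64281 : act 5 n64035 = n64281 := rfl
theorem F287664 : act 0 n64281 = n64038 := d4_1 D64281 (iv D64038) (iv F286353)
theorem F287665 : act 2 n64281 = n64036 := d19_1 D64281 (iv D64036) D64035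
theorem F287666 : act 9 n64281 = n64041 := d38_2 (iv F286355) D64281 (iv D64041)
def n64282 : Q := act 8 n64035
theorem D64282 : act 8 n64035 = n64282 := rfl
theorem F287667 : act 0 n64282 = n64039 := d7_1 D64282 (iv D64039) (iv F286353)
theorem F287668 : act 2 n64282 = n64037 := d22_1 D64282 (iv D64037) D64035
theorem F287669 : act 6 n64282 = n64043 := d40_1 D64282 (iv D64043) (iv F286354)
def n64283 : Q := act 5 n64040
theorem D64283 : act 5 n64040 = n64283 := rfl
theorem F287670 : act 0 n64283 = n64283 := d4_1 D64283 (iv D64283) F286367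
theorem F287671 : act 1 n64283 = n64041 := d12_1 D64283 (iv D64041) D64040
theorem F287672 : act 8 n64283 = n64070 := d37_2 F287616 D64283 (iv F287614)
def n64284 : Q := act 8 n64042
theorem D64284 : act 8 n64042 = n64284 := rfl
theorem F287673 : act 0 n64284 = n64284 := d7_1 D64284 (iv D64284) F286372
theorem F287674 : act 1 n64284 = n64043 := d15_1 D64284 (iv D64043) D64042
def n64285 : Q := act 9 n64043
theorem D64285 : act 9 n64043 = n64285 := rfl
theorem F287675 : act 0 n64285 = n64045 := d8_1 D64285 (iv D64045) (iv F286374)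
theorem F287676 : act 2 n64285 = n64044 := d23_1 D64285 (iv D64044) (iv F286375)
theorem F287677 : act 5 n64285 = n64059 := d38_1 D64285 (iv F286695) F286691
theorem F287678 : act 8 n64285 = n64049 := d44_1 D64285 (iv D64049) (iv D63674) (iv F284532) D64043
def n64286 : Q := act 4 n64046
theorem D64286 : act 4 n64046 = n64286 := rfl
theorem F287679 : act 0 n64286 = n64286 := d3_1 D64286 (iv D64286) F286384
theorem F287680 : act 1 n64286 = n64048 := d11_1 D64286 (iv D64048) (iv F286385)
theorem F287681 : act 2 n64286 = n64062 := d18_1 D64286 F286448 (iv F286386)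
theorem F287682 : act 3 n64286 = n64065 := d24_1 D64286 F286455 F284648 (iv F284754) (iv F286387)
theorem F287683 : act 7 n64286 = n64051 := d32_2 F287131 D64286 (iv F287128)
theorem F287684 : act 8 n64286 = n64058 := d33_2 F286388 D64286 F286433
def n64287 : Q := act 9 n64047
theorem D64287 : act 9 n64047 = n64287 := rfl
theorem F287685 : act 0 n64287 = n64287 := d8_1 D64287 (iv D64287) F286389
theorem F287686 : act 1 n64287 = n64049 := d16_1 D64287 (iv D64049) (iv F286390)
theorem F287687 : act 5 n64287 = n64064 := d38_1 D64287 F286453 (iv F286391)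
def n64288 : Q := act 8 n64052
theorem D64288 : act 8 n64052 = n64288 := rfl
theorem F287688 : act 0 n64288 = n64288 := d7_1 D64288 (iv D64288) F286410
theorem F287689 : act 1 n64288 = n64053 := d15_1 D64288 (iv D64053) D64052
theorem F287690 : act 2 n64288 = n64066 := d22_1 D64288 (iv D64066) (iv F286411)
theorem F287691 : act 5 n64288 = n64076 := d37_1 D64288 F286487 (iv F286412)
def n64289 : Q := act 9 n64053
theorem D64289 : act 9 n64053 = n64289 := rfl
theorem F287692 : act 0 n64289 = n64055 := d8_1 D64289 (iv D64055) (iv F286413)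
theorem F287693 : act 2 n64289 = n64054 := d23_1 D64289 (iv D64054) (iv F286414)
theorem F287694 : act 5 n64289 = n64075 := d38_1 D64289 F286483 (iv F286415)
def n64290 : Q := act 1 n64056
theorem D64290 : act 1 n64056 = n64290 := rfl
theorem F287695 : act 0 n64290 = n64290 := d0_1 D64290 (iv D64290) F286423 F284596 (iv F286423)
theorem F287696 : act 2 n64290 = n64069 := d9_2 D64056 D64290 (iv D64069) (iv D63710) (iv F284592)
theorem F287697 : act 4 n64290 = n64077 := d11_2 (iv F286424) D64290 (iv D64077)
theorem F287698 : act 7 n64290 = n64057 := d14_2 (iv F286425) D64290 (iv D64057)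
theorem F287699 : act 8 n64290 = n64081 := d15_2 (iv F286426) D64290 (iv D64081)
def n64291 : Q := act 1 n64059
theorem D64291 : act 1 n64059 = n64291 := rfl
theorem F287700 : act 0 n64291 = n64291 := d0_1 D64291 (iv D64291) F286435 F284618 (iv F286435)
theorem F287701 : act 4 n64291 = n64089 := d11_2 (iv F286436) D64291 (iv D64089)
theorem F287702 : act 6 n64291 = n64062 := d13_2 (iv F286437) D64291 (iv D64062)
theorem F287703 : act 8 n64291 = n64064 := d15_2 (iv F286438) D64291 (iv D64064)
def n64292 : Q := act 1 n64060
theorem D64292 : act 1 n64060 = n64292 := rfl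
theorem F287704 : act 0 n64292 = n64292 := d0_1 D64292 (iv D64292) F286439 F284625 (iv F286439)
theorem F287705 : act 3 n64292 = n64062 := d10_2 (iv F286440) D64292 (iv D64062)
theorem F287706 : act 7 n64292 = n64063 := d14_2 (iv F286441) D64292 (iv D64063)
theorem F287707 : act 8 n64292 = n64078 := d15_2 (iv F286442) D64292 (iv D64078)
def n64293 : Q := act 1 n64061
theorem D64293 : act 1 n64061 = n64293 := rfl
theorem F287708 : act 0 n64293 = n64293 := d0_1 D64293 (iv D64293) F286443 F284633 (iv F286443)
theorem F287709 : act 4 n64293 = n64090 := d11_2 (iv F286444) D64293 (iv D64090)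
theorem F287710 : act 7 n64293 = n64064 := d14_2 (iv F286445) D64293 (iv D64064)
theorem F287711 : act 9 n64293 = n64062 := d16_2 (iv F286446) D64293 (iv D64062)
def n64294 : Q := act 9 n64066
theorem D64294 : act 9 n64066 = n64294 := rfl
theorem F287712 : act 0 n64294 = n64294 := d8_1 D64294 (iv D64294) F286456
theorem F287713 : act 1 n64294 = n64067 := d16_1 D64294 (iv D64067) (iv F286457)
def n64295 : Q := act 1 n64068
theorem D64295 : act 1 n64068 = n64295 := rfl
theorem F287714 : act 0 n64295 = n64295 := d0_1 D64295 (iv D64295) F286460 F284658 (iv F286460)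
theorem F287715 : act 4 n64295 = n64078 := d11_2 (iv F286461) D64295 (iv D64078)
theorem F287716 : act 7 n64295 = n64072 := d14_2 (iv F286462) D64295 (iv D64072)
theorem F287717 : act 9 n64295 = n64069 := d16_2 (iv F286463) D64295 (iv D64069)
def n64296 : Q := act 1 n64073
theorem D64296 : act 1 n64073 = n64296 := rfl
theorem F287718 : act 0 n64296 = n64296 := d0_1 D64296 (iv D64296) F286475 F284681 (iv F286475)
theorem F287719 : act 6 n64296 = n64081 := d13_2 (iv F286476) D64296 (iv D64081)
theorem F287720 : act 9 n64296 = n64074 := d16_2 (iv F286477) D64296 (iv D64074)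
def n64297 : Q := act 1 n64075
theorem D64297 : act 1 n64075 = n64297 := rfl
theorem F287721 : act 0 n64297 = n64297 := d0_1 D64297 (iv D64297) F286480 F284693 (iv F286480)
theorem F287722 : act 4 n64297 = n64080 := d11_2 (iv F286481) D64297 (iv D64080)
theorem F287723 : act 6 n64297 = n64079 := d13_2 (iv F286482) D64297 (iv D64079)
theorem F287724 : act 9 n64297 = n64076 := d16_2 (iv F286483) D64297 (iv D64076)
def n64298 : Q := act 8 n64084
theorem D64298 : act 8 n64084 = n64298 := rfl
theorem F287725 : act 0 n64298 = n64298 := d7_1 D64298 (iv D64298) F286509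
theorem F287726 : act 1 n64298 = n64085 := d15_1 D64298 (iv D64085) D64084
theorem F287727 : act 5 n64298 = n64089 := d37_1 D64298 (iv F286871) F286868
def n64299 : Q := act 9 n64085
theorem D64299 : act 9 n64085 = n64299 := rfl
theorem F287728 : act 0 n64299 = n64087 := d8_1 D64299 (iv D64087) (iv F286511)
theorem F287729 : act 2 n64299 = n64086 := d23_1 D64299 (iv D64086) (iv F286512)
theorem F287730 : act 5 n64299 = n64088 := d38_1 D64299 F286522 (iv F286513)
def n64300 : Q := act 1 n64088
theorem D64300 : act 1 n64088 = n64300 := rfl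
theorem F287731 : act 0 n64300 = n64300 := d0_1 D64300 (iv D64300) F286520 F284745 (iv F286520)
theorem F287732 : act 6 n64300 = n64090 := d13_2 (iv F286521) D64300 (iv D64090)
theorem F287733 : act 9 n64300 = n64089 := d16_2 (iv F286522) D64300 (iv D64089)
def n64301 : Q := act 1 n64092
theorem D64301 : act 1 n64092 = n64301 := rfl
theorem F287734 : act 0 n64301 = n64301 := d0_1 D64301 (iv D64301) F286529 F284776 (iv F286529)
theorem F287735 : act 2 n64301 = n64174 := d9_2 D64092 D64301 (iv D64174) (iv D63860) (iv F284770)
theorem F287736 : act 3 n64301 = n64243 := d10_2 (iv F286530) D64301 (iv D64243)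
theorem F287737 : act 4 n64301 = n64280 := d11_2 (iv F286531) D64301 (iv D64280)
theorem F287738 : act 5 n64301 = n64156 := d12_2 (iv F286532) D64301 (iv D64156)
theorem F287739 : act 6 n64301 = n64234 := d13_2 (iv F286533) D64301 (iv D64234)
theorem F287740 : act 7 n64301 = n64111 := d14_2 (iv F286534) D64301 (iv D64111)
theorem F287741 : act 9 n64301 = n64141 := d16_2 (iv F286535) D64301 (iv D64141)
def n64302 : Q := act 8 n64092
theorem D64302 : act 8 n64092 = n64302 := rfl
theorem F287742 : act 0 n64302 = n64094 := d7_1 D64302 (iv D64094) (iv F286529)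
theorem F287743 : act 2 n64302 = n64093 := d22_1 D64302 (iv D64093) D64092
theorem F287744 : act 3 n64302 = n64249 := d28_1 D64302 (iv D64249) F286071 (iv F286028) (iv F286530)
theorem F287745 : act 4 n64302 = n64282 := d33_1 D64302 (iv D64282) (iv F286531)
theorem F287746 : act 5 n64302 = n64157 := d37_1 D64302 (iv D64157) (iv F286532)
theorem F287747 : act 6 n64302 = n64236 := d40_1 D64302 (iv D64236) (iv F286533)
theorem F287748 : act 7 n64302 = n64112 := d42_1 D64302 (iv D64112) (iv F286534)
theorem F287749 : act 9 n64210 = n64302 := d38_0 F287746 F286992 D64210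
def n64303 : Q := act 1 n64097
theorem D64303 : act 1 n64097 = n64303 := rfl
theorem F287750 : act 0 n64303 = n64303 := d0_1 D64303 (iv D64303) F286570 F284835 (iv F286570)
theorem F287751 : act 2 n64303 = n64291 := d9_2 D64097 D64303 (iv D64291) (iv D64059) (iv F284822)
theorem F287752 : act 3 n64303 = n64215 := d10_2 (iv F286571) D64303 (iv D64215)
theorem F287753 : act 4 n64303 = n64122 := d11_2 (iv F286572) D64303 (iv D64122)
theorem F287754 : act 6 n64303 = n64286 := d13_2 (iv F286573) D64303 F287680
theorem F287755 : act 7 n64303 = n64300 := d14_2 (iv F286574) D64303 (iv D64300)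
theorem F287756 : act 8 n64303 = n64158 := d15_2 (iv F286575) D64303 (iv D64158)
theorem F287757 : act 9 n64303 = n64262 := d16_2 (iv F286576) D64303 (iv D64262)
def n64304 : Q := act 5 n64097
theorem D64304 : act 5 n64097 = n64304 := rfl
theorem F287758 : act 0 n64304 = n64100 := d4_1 D64304 (iv D64100) (iv F286570)
theorem F287759 : act 2 n64304 = n64098 := d19_1 D64304 (iv D64098) D64097
theorem F287760 : act 3 n64304 = n64216 := d25_1 D64304 (iv D64216) (iv F286571)
theorem F287761 : act 7 n64304 = n64299 := d36_2 (iv F286574) D64304 F287730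
theorem F287762 : act 8 n64304 = n64159 := d37_2 (iv F286575) D64304 (iv D64159)
theorem F287763 : act 9 n64304 = n64255 := d38_2 (iv F286576) D64304 F287550
def n64305 : Q := act 4 n64098
theorem D64305 : act 4 n64098 = n64305 := rfl
theorem F287764 : act 0 n64305 = n64101 := d3_1 D64305 (iv D64101) (iv F286577)
theorem F287765 : act 1 n64305 = n64212 := d11_1 D64305 F287323 (iv F286578)
theorem F287766 : act 3 n64305 = n64196 := d24_1 D64305 F287233 F285822 (iv F284831) (iv F286579)
theorem F287767 : act 5 n64305 = n64124 := d30_2 D64098 D64305 (iv D64124) (iv D63793) (iv F284823)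
theorem F287768 : act 7 n64305 = n64237 := d32_2 (iv F286580) D64305 F287447
theorem F287769 : act 8 n64305 = n64160 := d33_2 (iv F286581) D64305 (iv D64160)
theorem F287770 : act 9 n64305 = n64171 := d34_2 (iv F286582) D64305 F287072
theorem F287771 : act 6 n64176 = n64305 := d41_3 F287770 F287073 D64176
def n64306 : Q := act 6 n64098
theorem D64306 : act 6 n64098 = n64306 := rfl
theorem F287772 : act 0 n64306 = n64102 := d5_1 D64306 (iv D64102) (iv F286577)
theorem F287773 : act 1 n64306 = n64211 := d13_1 D64306 (iv F287320) (iv F286578)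
theorem F287774 : act 3 n64306 = n64099 := d26_1 D64306 (iv D64099) (iv F286579)
theorem F287775 : act 4 n64306 = n64176 := d31_1 D64306 F287771 (iv D64305)
theorem F287776 : act 5 n64306 = n64205 := d35_1 D64306 F287290 F286001 (iv F284824) D64098
theorem F287777 : act 7 n64306 = n64219 := d39_2 (iv F286580) D64306 F287361 (iv F286776) F286775
theorem F287778 : act 8 n64306 = n64135 := d40_2 (iv F286581) D64306 F286829
theorem F287779 : act 9 n64306 = n64128 := d41_2 (iv F286582) D64306 F286782
def n64307 : Q := act 4 n64100
theorem D64307 : act 4 n64100 = n64307 := rfl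
theorem F287780 : act 1 n64307 = n64307 := d11_1 D64307 (iv D64307) F286591
theorem F287781 : act 2 n64307 = n64101 := d18_1 D64307 (iv D64101) (iv F286592)
theorem F287782 : act 3 n64307 = n64229 := d24_1 D64307 (iv D64229) F285939 (iv F285876) (iv F286593)
theorem F287783 : act 5 n64307 = n64125 := d30_2 D64100 D64307 (iv D64125) (iv D63794) (iv F284837)
theorem F287784 : act 7 n64307 = n64238 := d32_2 (iv F286594) D64307 F287453
theorem F287785 : act 8 n64307 = n64161 := d33_2 (iv F286595) D64307 (iv D64161)
theorem F287786 : act 9 n64307 = n64173 := d34_2 (iv F286596) D64307 F287085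
theorem F287787 : act 6 n64177 = n64307 := d41_3 F287786 F287086 D64177
def n64308 : Q := act 6 n64100
theorem D64308 : act 6 n64100 = n64308 := rfl
theorem F287788 : act 1 n64308 = n64308 := d13_1 D64308 (iv D64308) F286591
theorem F287789 : act 2 n64308 = n64102 := d20_1 D64308 (iv D64102) (iv F286592)
theorem F287790 : act 3 n64308 = n64220 := d26_1 D64308 (iv D64220) (iv F286593)
theorem F287791 : act 4 n64308 = n64177 := d31_1 D64308 F287787 (iv D64307)
theorem F287792 : act 5 n64308 = n64206 := d35_1 D64308 F287296 F286011 (iv F284838) D64100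
theorem F287793 : act 7 n64308 = n64221 := d39_2 (iv F286594) D64308 F287373 (iv F286789) F286788
theorem F287794 : act 8 n64308 = n64136 := d40_2 (iv F286595) D64308 F286836
theorem F287795 : act 9 n64308 = n64130 := d41_2 (iv F286596) D64308 F286795
def n64309 : Q := act 1 n64103
theorem D64309 : act 1 n64103 = n64309 := rfl
theorem F287796 : act 0 n64309 = n64309 := d0_1 D64309 (iv D64309) F286611 F284883 (iv F286611)
theorem F287797 : act 2 n64309 = n64263 := d9_2 D64103 D64309 (iv D64263) (iv D64000) (iv F284871)
theorem F287798 : act 3 n64309 = n64209 := d10_2 (iv F286612) D64309 (iv D64209)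
theorem F287799 : act 4 n64309 = n64111 := d11_2 (iv F286613) D64309 (iv D64111)
theorem F287800 : act 6 n64309 = n64247 := d13_2 (iv F286614) D64309 (iv D64247)
theorem F287801 : act 7 n64309 = n64280 := d14_2 (iv F286615) D64309 (iv D64280)
theorem F287802 : act 9 n64309 = n64279 := d16_2 (iv F286616) D64309 (iv D64279)
def n64310 : Q := act 5 n64103
theorem D64310 : act 5 n64103 = n64310 := rfl
theorem F287803 : act 0 n64310 = n64107 := d4_1 D64310 (iv D64107) (iv F286611)
theorem F287804 : act 2 n64310 = n64104 := d19_1 D64310 (iv D64104) D64103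
theorem F287805 : act 3 n64310 = n64210 := d25_1 D64310 (iv D64210) (iv F286612)
theorem F287806 : act 4 n64310 = n64163 := d30_1 D64310 (iv D64163) F285403 (iv F284929) (iv F286613)
theorem F287807 : act 7 n64310 = n64281 := d36_2 (iv F286615) D64310 (iv D64281)
theorem F287808 : act 9 n64310 = n64249 := d38_2 (iv F286616) D64310 F287513
def n64311 : Q := act 8 n64103
theorem D64311 : act 8 n64103 = n64311 := rfl
theorem F287809 : act 0 n64311 = n64108 := d7_1 D64311 (iv D64108) (iv F286611)
theorem F287810 : act 2 n64311 = n64105 := d22_1 D64311 (iv D64105) D64103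
theorem F287811 : act 3 n64311 = n64236 := d28_1 D64311 (iv D64236) (iv F287195) F287199 (iv F286612)
theorem F287812 : act 4 n64311 = n64112 := d33_1 D64311 (iv D64112) (iv F286613)
theorem F287813 : act 6 n64311 = n64249 := d40_1 D64311 (iv D64249) (iv F286614)
theorem F287814 : act 7 n64311 = n64282 := d42_1 D64311 (iv D64282) (iv F286615)
def n64312 : Q := act 6 n64104
theorem D64312 : act 6 n64104 = n64312 := rfl
theorem F287815 : act 0 n64312 = n64109 := d5_1 D64312 (iv D64109) (iv F286617)
theorem F287816 : act 1 n64312 = n64219 := d13_1 D64312 F287361 (iv F286618)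
theorem F287817 : act 3 n64312 = n64106 := d26_1 D64312 (iv D64106) (iv F286619)
theorem F287818 : act 4 n64312 = n64113 := d31_1 D64312 F286678 (iv F286620)
theorem F287819 : act 5 n64312 = n64199 := d35_1 D64312 F287254 (iv D63971) (iv F284873) D64104
theorem F287820 : act 7 n64312 = n64211 := d39_2 (iv F286621) D64312 (iv F287320) (iv F286725) F286724
theorem F287821 : act 9 n64312 = n64105 := d41_2 (iv F286622) D64312 F286627
theorem F287822 : act 8 n64198 = n64312 := d44_5 F287821 (iv D64105) F284875 F286079 (iv F287249)
def n64313 : Q := act 8 n64104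
theorem D64313 : act 8 n64104 = n64313 := rfl
theorem F287823 : act 0 n64313 = n64110 := d7_1 D64313 (iv D64110) (iv F286617)
theorem F287824 : act 1 n64313 = n64218 := d15_1 D64313 (iv F287356) (iv F286618)
theorem F287825 : act 3 n64313 = n64200 := d28_1 D64313 F287262 F285822 (iv F284881) (iv F286619)
theorem F287826 : act 4 n64313 = n64165 := d33_1 D64313 (iv D64165) (iv F286620)
theorem F287827 : act 5 n64313 = n64105 := d37_1 D64313 (iv D64105) D64104
theorem F287828 : act 6 n64313 = n64198 := d40_1 D64313 F287822 (iv D64312)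
theorem F287829 : act 7 n64313 = n64228 := d42_1 D64313 F287409 (iv F286621)
theorem F287830 : act 9 n64313 = n64199 := d44_2 (iv F286622) D64313 (iv D64199) F285718 D63972
def n64314 : Q := act 6 n64107
theorem D64314 : act 6 n64107 = n64314 := rfl
theorem F287831 : act 1 n64314 = n64314 := d13_1 D64314 (iv D64314) F286637
theorem F287832 : act 2 n64314 = n64109 := d20_1 D64314 (iv D64109) (iv F286638)
theorem F287833 : act 3 n64314 = n64214 := d26_1 D64314 (iv D64214) (iv F286639)
theorem F287834 : act 4 n64314 = n64114 := d31_1 D64314 F286685 (iv F286640)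
theorem F287835 : act 5 n64314 = n64190 := d35_1 D64314 F287191 (iv D63974) (iv F284886) D64107
theorem F287836 : act 7 n64314 = n64213 := d39_2 (iv F286641) D64314 (iv F287332) (iv F286732) F286731
theorem F287837 : act 9 n64314 = n64108 := d41_2 (iv F286642) D64314 F286647
theorem F287838 : act 8 n64201 = n64314 := d44_5 F287837 (iv D64108) F284888 F286097 (iv F287269)
def n64315 : Q := act 8 n64107
theorem D64315 : act 8 n64107 = n64315 := rfl
theorem F287839 : act 1 n64315 = n64315 := d15_1 D64315 (iv D64315) F286637
theorem F287840 : act 2 n64315 = n64110 := d22_1 D64315 (iv D64110) (iv F286638)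
theorem F287841 : act 3 n64315 = n64238 := d28_1 D64315 (iv D64238) (iv F286896) F286901 (iv F286639)
theorem F287842 : act 4 n64315 = n64166 := d33_1 D64315 (iv D64166) (iv F286640)
theorem F287843 : act 5 n64315 = n64108 := d37_1 D64315 (iv D64108) D64107
theorem F287844 : act 6 n64315 = n64201 := d40_1 D64315 F287838 (iv D64314)
theorem F287845 : act 7 n64315 = n64229 := d42_1 D64315 F287415 (iv F286641)
theorem F287846 : act 9 n64315 = n64190 := d44_2 (iv F286642) D64315 F287193 F285731 D63975
def n64316 : Q := act 8 n64111
theorem D64316 : act 8 n64111 = n64316 := rfl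
theorem F287847 : act 0 n64316 = n64316 := d7_1 D64316 (iv D64316) F286663
theorem F287848 : act 1 n64316 = n64112 := d15_1 D64316 (iv D64112) D64111
theorem F287849 : act 2 n64316 = n64268 := d22_1 D64316 (iv D64268) (iv F286664)
theorem F287850 : act 3 n64316 = n64283 := d28_1 D64316 F287672 F286468 (iv F286032) (iv F286665)
theorem F287851 : act 5 n64316 = n64167 := d37_1 D64316 (iv D64167) (iv F286666)
theorem F287852 : act 6 n64316 = n64250 := d40_1 D64316 (iv D64250) (iv F286667)
def n64317 : Q := act 9 n64112
theorem D64317 : act 9 n64112 = n64317 := rfl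
theorem F287853 : act 0 n64317 = n64114 := d8_1 D64317 (iv D64114) (iv F286669)
theorem F287854 : act 2 n64317 = n64113 := d23_1 D64317 (iv D64113) (iv F286670)
theorem F287855 : act 3 n64317 = n64281 := d29_1 D64317 F287666 (iv F286671)
theorem F287856 : act 5 n64317 = n64168 := d38_1 D64317 (iv D64168) (iv F286672)
theorem F287857 : act 6 n64317 = n64163 := d41_1 D64317 F287022 (iv F286673)
theorem F287858 : act 7 n64317 = n64210 := d43_1 D64317 F287749 F287748
theorem F287859 : act 8 n64317 = n64289 := d44_1 D64317 (iv D64289) (iv D64053) (iv F284931) D64112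
def n64318 : Q := act 1 n64115
theorem D64318 : act 1 n64115 = n64318 := rfl
theorem F287860 : act 0 n64318 = n64318 := d0_1 D64318 (iv D64318) F286688 F284964 (iv F286688)
theorem F287861 : act 2 n64318 = n64262 := d9_2 D64115 D64318 (iv D64262) (iv D63998) (iv F284949)
theorem F287862 : act 3 n64318 = n64290 := d10_2 (iv F286689) D64318 (iv D64290)
theorem F287863 : act 4 n64318 = n64300 := d11_2 (iv F286690) D64318 (iv D64300)
theorem F287864 : act 5 n64318 = n64284 := d12_2 (iv F286691) D64318 F287674
theorem F287865 : act 6 n64318 = n64293 := d13_2 (iv F286692) D64318 (iv D64293)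
theorem F287866 : act 7 n64318 = n64122 := d14_2 (iv F286693) D64318 (iv D64122)
theorem F287867 : act 8 n64318 = n64178 := d15_2 (iv F286694) D64318 (iv D64178)
theorem F287868 : act 9 n64318 = n64291 := d16_2 (iv F286695) D64318 (iv D64291)
def n64319 : Q := act 1 n64118
theorem D64319 : act 1 n64118 = n64319 := rfl
theorem F287869 : act 0 n64319 = n64319 := d0_1 D64319 (iv D64319) F286714 F285035 (iv F286714)
theorem F287870 : act 2 n64319 = n64300 := d9_2 D64118 D64319 (iv D64300) (iv D64088) (iv F285021)
theorem F287871 : act 3 n64319 = n64162 := d10_2 (iv F286715) D64319 (iv D64162)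
theorem F287872 : act 4 n64319 = n64262 := d11_2 (iv F286716) D64319 (iv D64262)
theorem F287873 : act 6 n64319 = n64178 := d13_2 (iv F286717) D64319 (iv D64178)
theorem F287874 : act 7 n64319 = n64291 := d14_2 (iv F286718) D64319 (iv D64291)
theorem F287875 : act 8 n64319 = n64293 := d15_2 (iv F286719) D64319 (iv D64293)
theorem F287876 : act 9 n64319 = n64122 := d16_2 (iv F286720) D64319 (iv D64122)
def n64320 : Q := act 5 n64118
theorem D64320 : act 5 n64118 = n64320 := rfl
theorem F287877 : act 0 n64320 = n64120 := d4_1 D64320 (iv D64120) (iv F286714)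
theorem F287878 : act 2 n64320 = n64119 := d19_1 D64320 (iv D64119) D64118
theorem F287879 : act 3 n64320 = n64163 := d25_1 D64320 (iv D64163) (iv F286715)
theorem F287880 : act 6 n64320 = n64281 := d35_2 (iv F286717) D64320 (iv D64281) F286354 (iv F285507)
theorem F287881 : act 7 n64320 = n64285 := d36_2 (iv F286718) D64320 F287677
theorem F287882 : act 8 n64320 = n64278 := d37_2 (iv F286719) D64320 F287655
theorem F287883 : act 9 n64320 = n64123 := d38_2 (iv F286720) D64320 (iv D64123)
def n64321 : Q := act 4 n64119
theorem D64321 : act 4 n64119 = n64321 := rfl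
theorem F287884 : act 0 n64321 = n64121 := d3_1 D64321 (iv D64121) (iv F286721)
theorem F287885 : act 1 n64321 = n64237 := d11_1 D64321 F287447 (iv F286722)
theorem F287886 : act 3 n64321 = n64151 := d24_1 D64321 F286948 F285331 (iv F285030) (iv F286723)
theorem F287887 : act 5 n64321 = n64171 := d30_2 D64119 D64321 F287072 F286145 (iv F285022)
theorem F287888 : act 6 n64321 = n64150 := d31_2 (iv F286724) D64321 F286941
theorem F287889 : act 7 n64321 = n64212 := d32_2 (iv F286725) D64321 F287323
theorem F287890 : act 8 n64321 = n64170 := d33_2 (iv F286726) D64321 F287065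
theorem F287891 : act 9 n64321 = n64124 := d34_2 (iv F286727) D64321 (iv D64124)
def n64322 : Q := act 4 n64120
theorem D64322 : act 4 n64120 = n64322 := rfl
theorem F287892 : act 1 n64322 = n64322 := d11_1 D64322 (iv D64322) F286728
theorem F287893 : act 2 n64322 = n64121 := d18_1 D64322 (iv D64121) (iv F286729)
theorem F287894 : act 3 n64322 = n64213 := d24_1 D64322 (iv D64213) (iv F286639) F286640 (iv F286730)
theorem F287895 : act 5 n64322 = n64173 := d30_2 D64120 D64322 F287085 F286150 (iv F285037)
theorem F287896 : act 6 n64322 = n64152 := d31_2 (iv F286731) D64322 F286956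
theorem F287897 : act 7 n64322 = n64214 := d32_2 (iv F286732) D64322 F287335
theorem F287898 : act 8 n64322 = n64172 := d33_2 (iv F286733) D64322 F287078
theorem F287899 : act 9 n64322 = n64125 := d34_2 (iv F286734) D64322 (iv D64125)
def n64323 : Q := act 5 n64122
theorem D64323 : act 5 n64122 = n64323 := rfl
theorem F287900 : act 0 n64323 = n64323 := d4_1 D64323 (iv D64323) F286742
theorem F287901 : act 1 n64323 = n64123 := d12_1 D64323 (iv D64123) D64122
theorem F287902 : act 2 n64323 = n64298 := d19_1 D64323 F287727 (iv F286743)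
theorem F287903 : act 3 n64323 = n64250 := d25_1 D64323 F287518 (iv F286744)
theorem F287904 : act 6 n64323 = n64283 := d35_2 (iv F286745) D64323 (iv D64283) F286368 D64046
theorem F287905 : act 7 n64323 = n64284 := d36_2 F287866 D64323 (iv F287864)
theorem F287906 : act 8 n64323 = n64181 := d37_2 (iv F286746) D64323 (iv D64181)
def n64324 : Q := act 4 n64123
theorem D64324 : act 4 n64123 = n64324 := rfl
theorem F287907 : act 0 n64324 = n64125 := d3_1 D64324 (iv D64125) (iv F286747)
theorem F287908 : act 2 n64324 = n64124 := d18_1 D64324 (iv D64124) (iv F286748)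
theorem F287909 : act 3 n64324 = n64282 := d24_1 D64324 (iv F287745) F287744 F287512 (iv F286749)
theorem F287910 : act 6 n64324 = n64246 := d31_2 (iv F286750) D64324 F287496
theorem F287911 : act 7 n64324 = n64236 := d32_2 (iv F286751) D64324 F287444
theorem F287912 : act 8 n64324 = n64182 := d33_2 (iv F286752) D64324 (iv D64182)
def n64325 : Q := act 1 n64126
theorem D64325 : act 1 n64126 = n64325 := rfl
theorem F287913 : act 0 n64325 = n64325 := d0_1 D64325 (iv D64325) F286765 F285107 (iv F286765)
theorem F287914 : act 2 n64325 = n64280 := d9_2 D64126 D64325 (iv D64280) (iv D64035) (iv F285094)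
theorem F287915 : act 3 n64325 = n64158 := d10_2 (iv F286766) D64325 (iv D64158)
theorem F287916 : act 4 n64325 = n64174 := d11_2 (iv F286767) D64325 (iv D64174)
theorem F287917 : act 6 n64325 = n64254 := d13_2 (iv F286768) D64325 (iv D64254)
theorem F287918 : act 7 n64325 = n64263 := d14_2 (iv F286769) D64325 (iv D64263)
theorem F287919 : act 9 n64325 = n64132 := d16_2 (iv F286770) D64325 (iv D64132)
def n64326 : Q := act 5 n64126
theorem D64326 : act 5 n64126 = n64326 := rfl
theorem F287920 : act 0 n64326 = n64129 := d4_1 D64326 (iv D64129) (iv F286765)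
theorem F287921 : act 2 n64326 = n64127 := d19_1 D64326 (iv D64127) D64126
theorem F287922 : act 3 n64326 = n64159 := d25_1 D64326 (iv D64159) (iv F286766)
theorem F287923 : act 4 n64326 = n64261 := d30_1 D64326 F287575 F286461 (iv F285488) (iv F286767)
theorem F287924 : act 6 n64326 = n64299 := d35_2 (iv F286768) D64326 F287730 F286521 (iv F286139)
theorem F287925 : act 7 n64326 = n64264 := d36_2 (iv F286769) D64326 (iv D64264)
theorem F287926 : act 9 n64326 = n64133 := d38_2 (iv F286770) D64326 (iv D64133)
def n64327 : Q := act 8 n64126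
theorem D64327 : act 8 n64126 = n64327 := rfl
theorem F287927 : act 0 n64327 = n64130 := d7_1 D64327 (iv D64130) (iv F286765)
theorem F287928 : act 2 n64327 = n64128 := d22_1 D64327 (iv D64128) D64126
theorem F287929 : act 3 n64327 = n64217 := d28_1 D64327 (iv D64217) (iv F286571) F286575 (iv F286766)
theorem F287930 : act 4 n64327 = n64175 := d33_1 D64327 (iv D64175) (iv F286767)
theorem F287931 : act 6 n64327 = n64255 := d40_1 D64327 (iv D64255) (iv F286768)
theorem F287932 : act 7 n64327 = n64265 := d42_1 D64327 (iv D64265) (iv F286769)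
def n64328 : Q := act 8 n64127
theorem D64328 : act 8 n64127 = n64328 := rfl
theorem F287933 : act 0 n64328 = n64131 := d7_1 D64328 (iv D64131) (iv F286771)
theorem F287934 : act 1 n64328 = n64228 := d15_1 D64328 F287409 (iv F286772)
theorem F287935 : act 3 n64328 = n64147 := d28_1 D64328 F286922 F285331 (iv F285105) (iv F286773)
theorem F287936 : act 4 n64328 = n64154 := d33_1 D64328 F286972 (iv F286774)
theorem F287937 : act 5 n64328 = n64128 := d37_1 D64328 (iv D64128) D64127
theorem F287938 : act 6 n64328 = n64146 := d40_1 D64328 F286914 (iv F286775)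
theorem F287939 : act 7 n64328 = n64218 := d42_1 D64328 (iv F287356) (iv F286776)
theorem F287940 : act 9 n64328 = n64205 := d44_2 (iv F286777) D64328 F287292 F285809 F285143
def n64329 : Q := act 8 n64129
theorem D64329 : act 8 n64129 = n64329 := rfl
theorem F287941 : act 1 n64329 = n64329 := d15_1 D64329 (iv D64329) F286784
theorem F287942 : act 2 n64329 = n64131 := d22_1 D64329 (iv D64131) (iv F286785)
theorem F287943 : act 3 n64329 = n64221 := d28_1 D64329 (iv D64221) (iv F286593) F286595 (iv F286786)
theorem F287944 : act 4 n64329 = n64155 := d33_1 D64329 F286979 (iv F286787)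
theorem F287945 : act 5 n64329 = n64130 := d37_1 D64329 (iv D64130) D64129
theorem F287946 : act 6 n64329 = n64148 := d40_1 D64329 F286929 (iv F286788)
theorem F287947 : act 7 n64329 = n64220 := d42_1 D64329 (iv F287368) (iv F286789)
theorem F287948 : act 9 n64329 = n64206 := d44_2 (iv F286790) D64329 F287298 F285815 F285157
def n64330 : Q := act 5 n64132
theorem D64330 : act 5 n64132 = n64330 := rfl
theorem F287949 : act 0 n64330 = n64330 := d4_1 D64330 (iv D64330) F286804
theorem F287950 : act 1 n64330 = n64133 := d12_1 D64330 (iv D64133) D64132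
theorem F287951 : act 2 n64330 = n64283 := d19_1 D64330 (iv D64283) (iv F286805)
theorem F287952 : act 3 n64330 = n64256 := d25_1 D64330 F287555 (iv F286806)
theorem F287953 : act 4 n64330 = n64260 := d30_1 D64330 F287571 F286465 (iv F285596) (iv F286807)
theorem F287954 : act 6 n64330 = n64298 := d35_2 (iv F286808) D64330 F287727 F286524 (iv F286154)
theorem F287955 : act 7 n64330 = n64267 := d36_2 (iv F286809) D64330 F287600
theorem F287956 : act 8 n64257 = n64330 := d46_0 (iv D64330) F286807 F285595 (iv F286128) (iv D63981) F284135 F281562 F279215 (iv F279300) (iv F282085) F282084 F278733 F274296 (iv F274505) (iv F278152) (iv F280515) F280514 F277291 F272684 (iv F272875) F272881 (iv D59932) (iv D58718) (iv D57555) F253230 F248907 F241607 (iv D52076) (iv F233465) F233464 F224159 F214202 F214201 (iv F213979) F213984 F185865 F129474 (iv F129496) F129495 F129494 F202613 F129251 F90405 (iv F91042) (iv F130452) (iv F187317) (iv F215000) (iv F225028) D52276 (iv F242383) (iv F249535) D56882 D58059 D59254 D60477 (iv F273709) (iv F278173) D63025 D63580 D63988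 D64257 F287556
def n64331 : Q := act 8 n64132
theorem D64331 : act 8 n64132 = n64331 := rfl
theorem F287957 : act 0 n64331 = n64331 := d7_1 D64331 (iv D64331) F286804
theorem F287958 : act 1 n64331 = n64134 := d15_1 D64331 (iv D64134) D64132
theorem F287959 : act 2 n64331 = n64270 := d22_1 D64331 F287616 (iv F286805)
theorem F287960 : act 3 n64331 = n64298 := d28_1 D64331 (iv D64298) F286510 (iv F286409) (iv F286806)
theorem F287961 : act 4 n64331 = n64187 := d33_1 D64331 (iv D64187) (iv F286807)
theorem F287962 : act 5 n64331 = n64257 := d37_1 D64331 F287956 (iv D64330)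
theorem F287963 : act 6 n64331 = n64256 := d40_1 D64331 (iv D64256) (iv F286808)
theorem F287964 : act 7 n64331 = n64266 := d42_1 D64331 (iv F287596) (iv F286809)
def n64332 : Q := act 9 n64134
theorem D64332 : act 9 n64134 = n64332 := rfl
theorem F287965 : act 0 n64332 = n64136 := d8_1 D64332 (iv D64136) (iv F286817)
theorem F287966 : act 2 n64332 = n64135 := d23_1 D64332 (iv D64135) (iv F286818)
theorem F287967 : act 3 n64332 = n64299 := d29_1 D64332 (iv D64299) (iv F286819)
theorem F287968 : act 4 n64332 = n64189 := d34_1 D64332 (iv D64189) (iv F286820)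
theorem F287969 : act 5 n64332 = n64207 := d38_1 D64332 F287304 (iv F286821)
theorem F287970 : act 6 n64332 = n64159 := d41_1 D64332 F287000 (iv F286822)
theorem F287971 : act 7 n64332 = n64216 := d43_1 D64332 F287346 (iv F286823)
def n64333 : Q := act 1 n64137
theorem D64333 : act 1 n64137 = n64333 := rfl
theorem F287972 : act 0 n64333 = n64333 := d0_1 D64333 (iv D64333) F286838 F285196 (iv F286838)
theorem F287973 : act 2 n64333 = n64194 := d9_2 D64137 D64333 (iv D64194) (iv D63890) (iv F285189)
theorem F287974 : act 3 n64333 = n64141 := d10_2 (iv F286839) D64333 (iv D64141)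
theorem F287975 : act 4 n64333 = n64296 := d11_2 (iv F286840) D64333 (iv D64296)
theorem F287976 : act 5 n64333 = n64208 := d12_2 (iv F286841) D64333 (iv D64208)
theorem F287977 : act 6 n64333 = n64233 := d13_2 (iv F286842) D64333 (iv D64233)
theorem F287978 : act 7 n64333 = n64193 := d14_2 (iv F286843) D64333 (iv D64193)
theorem F287979 : act 8 n64333 = n64203 := d15_2 (iv F286844) D64333 (iv D64203)
theorem F287980 : act 9 n64333 = n64243 := d16_2 (iv F286845) D64333 (iv D64243)
def n64334 : Q := act 8 n64141
theorem D64334 : act 8 n64141 = n64334 := rfl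
theorem F287981 : act 0 n64334 = n64334 := d7_1 D64334 (iv D64334) F286873
theorem F287982 : act 1 n64334 = n64142 := d15_1 D64334 (iv D64142) D64141
theorem F287983 : act 2 n64334 = n64187 := d22_1 D64334 (iv D64187) (iv F286874)
theorem F287984 : act 4 n64334 = n64270 := d33_1 D64334 F287616 (iv F286875)
theorem F287985 : act 5 n64334 = n64233 := d37_1 D64334 F287435 (iv F286876)
theorem F287986 : act 6 n64334 = n64240 := d40_1 D64334 (iv D64240) (iv F286877)
theorem F287987 : act 7 n64334 = n64288 := d42_1 D64334 (iv D64288) (iv F286878)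
theorem F287988 : act 3 n64334 = n64239 := d45_2 F287741 D64334 (iv D64239) F285992 (iv F286347) (iv D64033) (iv D63656) (iv D63126) (iv F281547) F281546 (iv F279983) F279984 (iv D62581) F275036 (iv F273937) F273938 (iv F273813) (iv F278300) (iv F281063) F281059 (iv F279603) D63305 D63783 F284989 F284368 (iv D63111) (iv F280599) F280598 (iv F279935) F279937 F276766 F273961 (iv F270848) F270849 F268255 (iv F268318) F268317 (iv F268175) (iv F272357) D62049 F277010 F275070 (iv F275086) D62592 (iv F282106) (iv F284505) (iv F286082) F286084 F284499 (iv D63167) F278888 F274768 D61749 (iv F279252) (iv F282026) (iv D63126) F278676 (iv D61745) F270352 (iv F270233) (iv F275020) (iv F279151) F279154 F274933 F270063 F265108 F260370 (iv F260468) (iv F265133) (iv F267947) (iv F273007) (iv F277251) F277250 (iv F278084) (iv F280999) (iv F283378) (iv F285443) F285442 D64022 F286306 F284643 F284544 F284543 (iv F284495) (iv F286111) F286110 D64081 (iv F287473) (iv F287736)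
def n64335 : Q := act 9 n64142
theorem D64335 : act 9 n64142 = n64335 := rfl
theorem F287989 : act 0 n64335 = n64144 := d8_1 D64335 (iv D64144) (iv F286879)
theorem F287990 : act 2 n64335 = n64143 := d23_1 D64335 (iv D64143) (iv F286880)
theorem F287991 : act 3 n64335 = n64235 := d29_1 D64335 F287441 F286885
theorem F287992 : act 4 n64335 = n64272 := d34_1 D64335 (iv D64272) (iv F286881)
theorem F287993 : act 5 n64335 = n64191 := d38_1 D64335 F287200 (iv F286882)
theorem F287994 : act 6 n64335 = n64242 := d41_1 D64335 (iv D64242) (iv F286883)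
theorem F287995 : act 7 n64335 = n64289 := d43_1 D64335 (iv D64289) (iv F286884)
theorem F287996 : act 8 n64335 = n64210 := d44_1 D64335 F287749 (iv D64302) F286535 D64142
def n64336 : Q := act 1 n64145
theorem D64336 : act 1 n64145 = n64336 := rfl
theorem F287997 : act 0 n64336 = n64336 := d0_1 D64336 (iv D64336) F286902 F285275 (iv F286902)
theorem F287998 : act 2 n64336 = n64293 := d9_2 D64145 D64336 (iv D64293) (iv D64061) (iv F285262)
theorem F287999 : act 3 n64336 = n64263 := d10_2 (iv F286903) D64336 (iv D64263)
theorem F288000 : act 4 n64336 = n64178 := d11_2 (iv F286904) D64336 (iv D64178)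
theorem F288001 : act 6 n64336 = n64262 := d13_2 (iv F286905) D64336 (iv D64262)
theorem F288002 : act 7 n64336 = n64158 := d14_2 (iv F286906) D64336 (iv D64158)
theorem F288003 : act 8 n64336 = n64300 := d15_2 (iv F286907) D64336 (iv D64300)
theorem F288004 : act 9 n64336 = n64286 := d16_2 (iv F286908) D64336 F287680
def n64337 : Q := act 5 n64145
theorem D64337 : act 5 n64145 = n64337 := rfl
theorem F288005 : act 0 n64337 = n64148 := d4_1 D64337 (iv D64148) (iv F286902)
theorem F288006 : act 2 n64337 = n64146 := d19_1 D64337 (iv D64146) D64145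
theorem F288007 : act 3 n64337 = n64264 := d25_1 D64337 (iv D64264) (iv F286903)
theorem F288008 : act 4 n64337 = n64235 := d30_1 D64337 (iv D64235) F285972 (iv F285507) (iv F286904)
theorem F288009 : act 7 n64337 = n64159 := d36_2 (iv F286906) D64337 (iv D64159)
theorem F288010 : act 8 n64337 = n64299 := d37_2 (iv F286907) D64337 F287730
theorem F288011 : act 9 n64337 = n64241 := d38_2 (iv F286908) D64337 F287465
def n64338 : Q := act 1 n64149
theorem D64338 : act 1 n64149 = n64338 := rfl
theorem F288012 : act 0 n64338 = n64338 := d0_1 D64338 (iv D64338) F286931 F285309 (iv F286931)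
theorem F288013 : act 2 n64338 = n64295 := d9_2 D64149 D64338 (iv D64295) (iv D64068) (iv F285296)
theorem F288014 : act 3 n64338 = n64291 := d10_2 (iv F286932) D64338 (iv D64291)
theorem F288015 : act 4 n64338 = n64156 := d11_2 (iv F286933) D64338 (iv D64156)
theorem F288016 : act 6 n64338 = n64292 := d13_2 (iv F286934) D64338 (iv D64292)
theorem F288017 : act 7 n64338 = n64162 := d14_2 (iv F286935) D64338 (iv D64162)
theorem F288018 : act 8 n64338 = n64226 := d15_2 (iv F286936) D64338 (iv D64226)
theorem F288019 : act 9 n64338 = n64290 := d16_2 (iv F286937) D64338 (iv D64290)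
def n64339 : Q := act 5 n64149
theorem D64339 : act 5 n64149 = n64339 := rfl
theorem F288020 : act 0 n64339 = n64152 := d4_1 D64339 (iv D64152) (iv F286931)
theorem F288021 : act 2 n64339 = n64150 := d19_1 D64339 (iv D64150) D64149
theorem F288022 : act 3 n64339 = n64285 := d25_1 D64339 F287677 (iv F286932)
theorem F288023 : act 4 n64339 = n64281 := d30_1 D64339 (iv D64281) (iv F286531) F286532 (iv F286933)
theorem F288024 : act 7 n64339 = n64163 := d36_2 (iv F286935) D64339 (iv D64163)
theorem F288025 : act 8 n64339 = n64227 := d37_2 (iv F286936) D64339 (iv D64227)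
theorem F288026 : act 9 n64339 = n64246 := d38_2 (iv F286937) D64339 F287497
def n64340 : Q := act 1 n64153
theorem D64340 : act 1 n64153 = n64340 := rfl
theorem F288027 : act 0 n64340 = n64340 := d0_1 D64340 (iv D64340) F286960 F285349 (iv F286960)
theorem F288028 : act 2 n64340 = n64226 := d9_2 D64153 D64340 (iv D64226) (iv D63938) (iv F285335)
theorem F288029 : act 3 n64340 = n64258 := d10_2 (iv F286961) D64340 (iv D64258)
theorem F288030 : act 4 n64340 = n64292 := d11_2 (iv F286962) D64340 (iv D64292)
theorem F288031 : act 6 n64340 = n64156 := d13_2 (iv F286963) D64340 (iv D64156)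
theorem F288032 : act 7 n64340 = n64273 := d14_2 (iv F286964) D64340 (iv D64273)
theorem F288033 : act 8 n64340 = n64295 := d15_2 (iv F286965) D64340 (iv D64295)
theorem F288034 : act 9 n64340 = n64203 := d16_2 (iv F286966) D64340 (iv D64203)
def n64341 : Q := act 5 n64153
theorem D64341 : act 5 n64153 = n64341 := rfl
theorem F288035 : act 0 n64341 = n64155 := d4_1 D64341 (iv D64155) (iv F286960)
theorem F288036 : act 2 n64341 = n64154 := d19_1 D64341 (iv D64154) D64153
theorem F288037 : act 3 n64341 = n64242 := d25_1 D64341 F287471 (iv F286961)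
theorem F288038 : act 6 n64341 = n64235 := d35_2 (iv F286963) D64341 (iv D64235) (iv F286533) F286532
theorem F288039 : act 7 n64341 = n64223 := d36_2 (iv F286964) D64341 F287381
theorem F288040 : act 8 n64341 = n64261 := d37_2 (iv F286965) D64341 F287575
theorem F288041 : act 9 n64341 = n64204 := d38_2 (iv F286966) D64341 (iv D64204)
def n64342 : Q := act 8 n64156
theorem D64342 : act 8 n64156 = n64342 := rfl
theorem F288042 : act 0 n64342 = n64342 := d7_1 D64342 (iv D64342) F286981
theorem F288043 : act 1 n64342 = n64157 := d15_1 D64342 (iv D64157) D64156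
theorem F288044 : act 2 n64342 = n64292 := d22_1 D64342 F287707 (iv F286982)
theorem F288045 : act 4 n64342 = n64226 := d33_1 D64342 (iv F288018) F288015
theorem F288046 : act 6 n64342 = n64295 := d40_1 D64342 (iv F288033) F288031
theorem F288047 : act 7 n64342 = n64167 := d42_1 D64342 (iv D64167) (iv F286984)
theorem F288048 : act 3 n64279 = n64342 := d27_3 F288047 (iv F287048) (iv F287660)
theorem F288049 : act 9 n64342 = n64209 := d29_2 F287802 F288048 (iv F287798)
def n64343 : Q := act 5 n64158
theorem D64343 : act 5 n64158 = n64343 := rfl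
theorem F288050 : act 0 n64343 = n64343 := d4_1 D64343 (iv D64343) F286993
theorem F288051 : act 1 n64343 = n64159 := d12_1 D64343 (iv D64159) D64158
theorem F288052 : act 2 n64343 = n64287 := d19_1 D64343 F287687 (iv F286994)
theorem F288053 : act 9 n64343 = n64256 := d38_2 (iv F286997) D64343 F287555
def n64344 : Q := act 4 n64159
theorem D64344 : act 4 n64159 = n64344 := rfl
theorem F288054 : act 0 n64344 = n64161 := d3_1 D64344 (iv D64161) (iv F286998)
theorem F288055 : act 2 n64344 = n64160 := d18_1 D64344 (iv D64160) (iv F286999)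
theorem F288056 : act 5 n64344 = n64182 := d30_2 D64159 D64344 (iv D64182) (iv D63868) (iv F285386)
theorem F288057 : act 6 n64344 = n64189 := d31_2 F287970 D64344 (iv F287968)
theorem F288058 : act 7 n64344 = n64235 := d32_2 F288009 D64344 (iv F288008)
theorem F288059 : act 9 n64344 = n64186 := d34_2 (iv F287000) D64344 F287170
theorem F288060 : act 3 n64344 = n64289 := d46_3 F286575 D64159 D64344 F287693 F286417 F284651 (iv F284322) F284320 F281908 (iv D62376) (iv F276573) F276572 F271838 F268039 D59998 F268083 (iv F267385) F267384 F262523 F260442 (iv F260447) (iv F262207) (iv D58578) (iv D57405) (iv F257398) F257397 F254273 (iv D55819) (iv F249334) F249333 F242169 F242168 F235244 (iv F235147) D54296 F243097 (iv F241915) D55503 F249114 (iv F250183) (iv F251782) F251787 D57363 (iv F261854) (iv F266667) (iv F271649) (iv F276387) (iv F280363) F280368 (iv F280355) (iv D62788) (iv F280082) F280081 (iv F279478) (iv D62648) F275419 (iv F275396) D62644 D63283 D63760 F284835 (iv F286570)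
def n64345 : Q := act 5 n64162
theorem D64345 : act 5 n64162 = n64345 := rfl
theorem F288061 : act 0 n64345 = n64345 := d4_1 D64345 (iv D64345) F287015
theorem F288062 : act 1 n64345 = n64163 := d12_1 D64345 (iv D64163) D64162
theorem F288063 : act 2 n64345 = n64271 := d19_1 D64345 F287619 (iv F287016)
theorem F288064 : act 9 n64345 = n64250 := d38_2 (iv F287019) D64345 F287518
def n64346 : Q := act 8 n64162
theorem D64346 : act 8 n64162 = n64346 := rfl
theorem F288065 : act 0 n64346 = n64346 := d7_1 D64346 (iv D64346) F287015
theorem F288066 : act 1 n64346 = n64164 := d15_1 D64346 (iv D64164) D64162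
theorem F288067 : act 2 n64346 = n64273 := d22_1 D64346 F287628 (iv F287016)
theorem F288068 : act 4 n64346 = n64167 := d33_1 D64346 (iv D64167) (iv F287017)
theorem F288069 : act 6 n64346 = n64251 := d40_1 D64346 F287525 (iv F287018)
theorem F288070 : act 7 n64346 = n64226 := d42_1 D64346 (iv F288018) F288017
theorem F288071 : act 9 n64346 = n64224 := d44_2 (iv F287019) D64346 F287389 F286499 (iv F286431)
theorem F288072 : act 3 n64296 = n64346 := d29_3 F288071 F287386 (iv F287720)
def n64347 : Q := act 8 n64163
theorem D64347 : act 8 n64163 = n64347 := rfl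
theorem F288073 : act 0 n64347 = n64166 := d7_1 D64347 (iv D64166) (iv F287020)
theorem F288074 : act 2 n64347 = n64165 := d22_1 D64347 (iv D64165) (iv F287021)
theorem F288075 : act 5 n64347 = n64164 := d37_1 D64347 (iv D64164) D64163
theorem F288076 : act 6 n64347 = n64289 := d40_1 D64347 (iv F287859) F287857
theorem F288077 : act 7 n64347 = n64227 := d42_1 D64347 (iv F288025) F288024
theorem F288078 : act 9 n64347 = n64188 := d44_2 (iv F287022) D64347 F287183 F285761 D63977
theorem F288079 : act 3 n64189 = n64347 := d29_3 F288078 (iv D64188) D64189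
def n64348 : Q := act 9 n64167
theorem D64348 : act 9 n64167 = n64348 := rfl
theorem F288080 : act 0 n64348 = n64348 := d8_1 D64348 (iv D64348) F287044
theorem F288081 : act 1 n64348 = n64168 := d16_1 D64348 (iv D64168) (iv F287045)
theorem F288082 : act 2 n64348 = n64275 := d23_1 D64348 F287643 (iv F287046)
theorem F288083 : act 3 n64348 = n64280 := d29_1 D64348 F287663 F287048
theorem F288084 : act 4 n64348 = n64224 := d34_1 D64348 (iv F288071) F288068
theorem F288085 : act 6 n64348 = n64252 := d41_1 D64348 F287534 (iv F287047)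
theorem F288086 : act 7 n64348 = n64209 := d43_1 D64348 (iv F288049) F288047
theorem F288087 : act 8 n64348 = n64297 := d44_1 D64348 F287724 F286487 (iv F285436) D64167
def n64349 : Q := act 1 n64169
theorem D64349 : act 1 n64169 = n64349 := rfl
theorem F288088 : act 0 n64349 = n64349 := d0_1 D64349 (iv D64349) F287056 F285469 (iv F287056)
theorem F288089 : act 2 n64349 = n64234 := d9_2 D64169 D64349 (iv D64234) (iv D63948) (iv F285456)
theorem F288090 : act 3 n64349 = n64273 := d10_2 (iv F287057) D64349 (iv D64273)
theorem F288091 : act 4 n64349 = n64254 := d11_2 (iv F287058) D64349 (iv D64254)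
theorem F288092 : act 6 n64349 = n64174 := d13_2 (iv F287059) D64349 (iv D64174)
theorem F288093 : act 7 n64349 = n64258 := d14_2 (iv F287060) D64349 (iv D64258)
theorem F288094 : act 9 n64349 = n64184 := d16_2 (iv F287061) D64349 (iv D64184)
def n64350 : Q := act 5 n64169
theorem D64350 : act 5 n64169 = n64350 := rfl
theorem F288095 : act 0 n64350 = n64172 := d4_1 D64350 (iv D64172) (iv F287056)
theorem F288096 : act 2 n64350 = n64170 := d19_1 D64350 (iv D64170) D64169
theorem F288097 : act 3 n64350 = n64223 := d25_1 D64350 F287381 (iv F287057)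
theorem F288098 : act 4 n64350 = n64278 := d30_1 D64350 F287655 F286444 (iv F286139) (iv F287058)
theorem F288099 : act 6 n64350 = n64227 := d35_2 (iv F287059) D64350 (iv D64227) F285932 (iv F285488)
theorem F288100 : act 7 n64350 = n64242 := d36_2 (iv F287060) D64350 F287471
theorem F288101 : act 9 n64350 = n64185 := d38_2 (iv F287061) D64350 (iv D64185)
def n64351 : Q := act 8 n64169
theorem D64351 : act 8 n64169 = n64351 := rfl
theorem F288102 : act 0 n64351 = n64173 := d7_1 D64351 (iv D64173) (iv F287056)
theorem F288103 : act 2 n64351 = n64171 := d22_1 D64351 (iv D64171) D64169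
theorem F288104 : act 3 n64351 = n64231 := d28_1 D64351 F287424 F286321 (iv F286284) (iv F287057)
theorem F288105 : act 4 n64351 = n64255 := d33_1 D64351 (iv D64255) (iv F287058)
theorem F288106 : act 6 n64351 = n64175 := d40_1 D64351 (iv D64175) (iv F287059)
theorem F288107 : act 7 n64351 = n64259 := d42_1 D64351 (iv D64259) (iv F287060)
def n64352 : Q := act 8 n64174
theorem D64352 : act 8 n64174 = n64352 := rfl
theorem F288108 : act 0 n64352 = n64352 := d7_1 D64352 (iv D64352) F287088
theorem F288109 : act 1 n64352 = n64175 := d15_1 D64352 (iv D64175) D64174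
theorem F288110 : act 3 n64352 = n64277 := d28_1 D64352 (iv D64277) F287638 (iv D64274) (iv F287089)
theorem F288111 : act 5 n64352 = n64292 := d37_1 D64352 F287707 (iv F287090)
theorem F288112 : act 7 n64352 = n64268 := d42_1 D64352 (iv D64268) (iv F287091)
def n64353 : Q := act 9 n64175
theorem D64353 : act 9 n64175 = n64353 := rfl
theorem F288113 : act 0 n64353 = n64177 := d8_1 D64353 (iv D64177) (iv F287093)
theorem F288114 : act 2 n64353 = n64176 := d23_1 D64353 (iv D64176) (iv F287094)
theorem F288115 : act 3 n64353 = n64278 := d29_1 D64353 (iv D64278) (iv F287095)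
theorem F288116 : act 5 n64353 = n64195 := d38_1 D64353 F287229 (iv F287096)
theorem F288117 : act 7 n64353 = n64269 := d43_1 D64353 (iv D64269) (iv F287097)
theorem F288118 : act 8 n64353 = n64189 := d44_1 D64353 (iv D64189) (iv D63879) (iv F285490) D64175
def n64354 : Q := act 4 n64181
theorem D64354 : act 4 n64181 = n64354 := rfl
theorem F288119 : act 0 n64354 = n64354 := d3_1 D64354 (iv D64354) F287134
theorem F288120 : act 1 n64354 = n64182 := d11_1 D64354 (iv D64182) (iv F287135)
theorem F288121 : act 2 n64354 = n64258 := d18_1 D64354 F287563 (iv F287136)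
theorem F288122 : act 3 n64354 = n64297 := d24_1 D64354 F287722 F286497 (iv F286471) (iv F287137)
theorem F288123 : act 6 n64354 = n64245 := d31_2 F287140 D64354 F287489
theorem F288124 : act 7 n64354 = n64234 := d32_2 (iv F287138) D64354 F287437
theorem F288125 : act 9 n64354 = n64232 := d34_2 (iv F287139) D64354 F287427
def n64355 : Q := act 1 n64183
theorem D64355 : act 1 n64183 = n64355 := rfl
theorem F288126 : act 0 n64355 = n64355 := d0_1 D64355 (iv D64355) F287147 F285554 (iv F287147)
theorem F288127 : act 2 n64355 = n64232 := d9_2 D64183 D64355 (iv D64232) (iv D63946) (iv F285547)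
theorem F288128 : act 3 n64355 = n64203 := d10_2 (iv F287148) D64355 (iv D64203)
theorem F288129 : act 4 n64355 = n64253 := d11_2 (iv F287149) D64355 (iv D64253)
theorem F288130 : act 5 n64355 = n64240 := d12_2 (iv F287150) D64355 F287460
theorem F288131 : act 6 n64355 = n64208 := d13_2 (iv F287151) D64355 (iv D64208)
theorem F288132 : act 7 n64355 = n64184 := d14_2 (iv F287152) D64355 (iv D64184)
theorem F288133 : act 8 n64355 = n64239 := d15_2 (iv F287153) D64355 F287458
theorem F288134 : act 9 n64355 = n64258 := d16_2 (iv F287154) D64355 (iv D64258)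
def n64356 : Q := act 5 n64184
theorem D64356 : act 5 n64184 = n64356 := rfl
theorem F288135 : act 0 n64356 = n64356 := d4_1 D64356 (iv D64356) F287155
theorem F288136 : act 1 n64356 = n64185 := d12_1 D64356 (iv D64185) D64184
theorem F288137 : act 2 n64356 = n64239 := d19_1 D64356 (iv D64239) (iv F287156)
theorem F288138 : act 3 n64356 = n64222 := d25_1 D64356 F287377 (iv F287157)
theorem F288139 : act 4 n64356 = n64277 := d30_1 D64356 F287651 F286448 (iv F286154) (iv F287158)
theorem F288140 : act 6 n64356 = n64230 := d35_2 (iv F287159) D64356 (iv D64230) F285948 (iv F285596)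
theorem F288141 : act 7 n64356 = n64240 := d36_2 F288132 D64356 (iv F288130)
theorem F288142 : act 8 n64232 = n64356 := d46_0 (iv D64356) F287158 (iv F286866) F286865 (iv D63867) F283356 (iv F282748) D63794 D64125 F286761 F286365 F284521 (iv F282853) (iv D63333) D63332 F282849 F281655 F278436 (iv F277113) F277112 (iv F275369) (iv D61786) (iv D60725) (iv D59550) F261024 F256453 F253616 (iv D55677) (iv F249772) F249771 F249770 F242726 F234681 F225588 D50434 (iv F234874) F234873 (iv F233379) (iv F236383) F236382 (iv F239236) (iv D53348) F230912 (iv F230947) F230946 (iv F239266) F239265 F231011 D51618 (iv F239702) (iv F247123) D56405 D57579 D58744 D59961 (iv F273001) (iv F277598) D62937 D63517 D63946 D64232 F287425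
def n64357 : Q := act 8 n64184
theorem D64357 : act 8 n64184 = n64357 := rfl
theorem F288143 : act 0 n64357 = n64357 := d7_1 D64357 (iv D64357) F287155
theorem F288144 : act 1 n64357 = n64186 := d15_1 D64357 (iv D64186) D64184
theorem F288145 : act 2 n64357 = n64240 := d22_1 D64357 (iv D64240) (iv F287156)
theorem F288146 : act 3 n64357 = n64288 := d28_1 D64357 (iv D64288) (iv F287211) F287214 (iv F287157)
theorem F288147 : act 4 n64357 = n64256 := d33_1 D64357 (iv D64256) (iv F287158)
theorem F288148 : act 5 n64357 = n64232 := d37_1 D64357 F288142 (iv D64356)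
theorem F288149 : act 6 n64357 = n64187 := d40_1 D64357 (iv D64187) (iv F287159)
theorem F288150 : act 7 n64357 = n64239 := d42_1 D64357 (iv F288133) F288132
def n64358 : Q := act 3 n64187
theorem D64358 : act 3 n64187 = n64358 := rfl
theorem F288151 : act 0 n64358 = n64358 := d2_1 D64358 (iv D64358) F287174
theorem F288152 : act 1 n64358 = n64188 := d10_1 D64358 (iv D64188) (iv F287175)
theorem F288153 : act 2 n64358 = n64222 := d17_1 D64358 (iv F288138) F288137 (iv F287988) F287983
theorem F288154 : act 5 n64358 = n64224 := d25_2 (iv F287176) D64358 F287386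
theorem F288155 : act 6 n64358 = n64288 := d26_2 F288149 D64358 (iv F288146)
theorem F288156 : act 7 n64358 = n64230 := d27_2 (iv F287177) D64358 F287419
theorem F288157 : act 8 n64358 = n64202 := d28_2 D64187 D64358 F287272 (iv D64025) (iv F285595)
def n64359 : Q := act 9 n64187
theorem D64359 : act 9 n64187 = n64359 := rfl
theorem F288158 : act 0 n64359 = n64359 := d8_1 D64359 (iv D64359) F287174
theorem F288159 : act 1 n64359 = n64189 := d16_1 D64359 (iv D64189) (iv F287175)
theorem F288160 : act 5 n64359 = n64296 := d38_1 D64359 F287720 (iv F287176)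
theorem F288161 : act 7 n64359 = n64294 := d43_1 D64359 (iv D64294) (iv F287177)
def n64360 : Q := act 4 n64188
theorem D64360 : act 4 n64188 = n64360 := rfl
theorem F288162 : act 0 n64360 = n64190 := d3_1 D64360 (iv D64190) (iv F287178)
theorem F288163 : act 2 n64360 = n64199 := d18_1 D64360 F287253 (iv F287179)
theorem F288164 : act 3 n64360 = n64259 := d24_1 D64360 F287567 (iv F286819) F286820 D64188
theorem F288165 : act 6 n64360 = n64248 := d31_2 (iv F287181) D64360 F287507
theorem F288166 : act 7 n64360 = n64231 := d32_2 (iv F287182) D64360 (iv D64231)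
theorem F288167 : act 8 n64360 = n64197 := d33_2 (iv F287183) D64360 F287240
def n64361 : Q := act 1 n64191
theorem D64361 : act 1 n64191 = n64361 := rfl
theorem F288168 : act 0 n64361 = n64361 := d0_1 D64361 (iv D64361) F287194 F285631 (iv F287194)
theorem F288169 : act 2 n64361 = n64296 := d9_2 D64191 D64361 (iv D64296) (iv D64073) (iv F285617)
theorem F288170 : act 3 n64361 = n64234 := d10_2 (iv F287195) D64361 (iv D64234)
theorem F288171 : act 4 n64361 = n64194 := d11_2 (iv F287196) D64361 (iv D64194)
theorem F288172 : act 6 n64361 = n64243 := d13_2 (iv F287197) D64361 (iv D64243)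
theorem F288173 : act 7 n64361 = n64297 := d14_2 (iv F287198) D64361 (iv D64297)
theorem F288174 : act 8 n64361 = n64209 := d15_2 (iv F287199) D64361 (iv D64209)
theorem F288175 : act 9 n64361 = n64233 := d16_2 (iv F287200) D64361 (iv D64233)
def n64362 : Q := act 1 n64192
theorem D64362 : act 1 n64192 = n64362 := rfl
theorem F288176 : act 0 n64362 = n64362 := d0_1 D64362 (iv D64362) F287201 F285655 (iv F287201)
theorem F288177 : act 2 n64362 = n64297 := d9_2 D64192 D64362 (iv D64297) (iv D64075) (iv F285639)
theorem F288178 : act 3 n64362 = n64226 := d10_2 (iv F287202) D64362 (iv D64226)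
theorem F288179 : act 4 n64362 = n64193 := d11_2 (iv F287203) D64362 (iv D64193)
theorem F288180 : act 5 n64362 = n64294 := d12_2 (iv F287204) D64362 F287713
theorem F288181 : act 6 n64362 = n64244 := d13_2 (iv F287205) D64362 (iv D64244)
theorem F288182 : act 7 n64362 = n64296 := d14_2 (iv F287206) D64362 (iv D64296)
theorem F288183 : act 8 n64362 = n64275 := d15_2 (iv F287207) D64362 (iv D64275)
theorem F288184 : act 9 n64362 = n64225 := d16_2 (iv F287208) D64362 (iv D64225)
def n64363 : Q := act 1 n64195
theorem D64363 : act 1 n64195 = n64363 := rfl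
theorem F288185 : act 0 n64363 = n64363 := d0_1 D64363 (iv D64363) F287223 F285699 (iv F287223)
theorem F288186 : act 2 n64363 = n64209 := d9_2 D64195 D64363 (iv D64209) (iv D63917) (iv F285686)
theorem F288187 : act 3 n64363 = n64293 := d10_2 (iv F287224) D64363 (iv D64293)
theorem F288188 : act 4 n64363 = n64203 := d11_2 (iv F287225) D64363 (iv D64203)
theorem F288189 : act 6 n64363 = n64290 := d13_2 (iv F287226) D64363 (iv D64290)
theorem F288190 : act 7 n64363 = n64275 := d14_2 (iv F287227) D64363 (iv D64275)
theorem F288191 : act 8 n64363 = n64296 := d15_2 (iv F287228) D64363 (iv D64296)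
theorem F288192 : act 9 n64363 = n64292 := d16_2 (iv F287229) D64363 (iv D64292)
def n64364 : Q := act 1 n64197
theorem D64364 : act 1 n64197 = n64364 := rfl
theorem F288193 : act 0 n64364 = n64364 := d0_1 D64364 (iv D64364) F287238 F285726 (iv F287238)
theorem F288194 : act 2 n64364 = n64215 := d9_2 D64197 D64364 (iv D64215) (iv D63923) (iv F285714)
theorem F288195 : act 3 n64364 = n64295 := d10_2 (iv F287239) D64364 (iv D64295)
theorem F288196 : act 4 n64364 = n64202 := d11_2 (iv F287240) D64364 (iv D64202)
theorem F288197 : act 6 n64364 = n64279 := d13_2 (iv F287241) D64364 (iv D64279)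
theorem F288198 : act 7 n64364 = n64276 := d14_2 (iv F287242) D64364 (iv D64276)
theorem F288199 : act 9 n64364 = n64247 := d16_2 (iv F287243) D64364 (iv D64247)
def n64365 : Q := act 5 n64197
theorem D64365 : act 5 n64197 = n64365 := rfl
theorem F288200 : act 0 n64365 = n64201 := d4_1 D64365 (iv D64201) (iv F287238)
theorem F288201 : act 2 n64365 = n64198 := d19_1 D64365 (iv D64198) D64197
theorem F288202 : act 3 n64365 = n64261 := d25_1 D64365 F287575 (iv F287239)
theorem F288203 : act 4 n64365 = n64289 := d30_1 D64365 F287694 F286481 (iv F285758) (iv F287240)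
theorem F288204 : act 7 n64365 = n64272 := d36_2 (iv F287242) D64365 F287623
theorem F288205 : act 9 n64365 = n64248 := d38_2 (iv F287243) D64365 (iv D64248)
def n64366 : Q := act 5 n64203
theorem D64366 : act 5 n64203 = n64366 := rfl
theorem F288206 : act 0 n64366 = n64366 := d4_1 D64366 (iv D64366) F287277
theorem F288207 : act 1 n64366 = n64204 := d12_1 D64366 (iv D64204) D64203
theorem F288208 : act 2 n64366 = n64230 := d19_1 D64366 (iv D64230) (iv F287278)
theorem F288209 : act 3 n64366 = n64240 := d25_1 D64366 (iv F288130) F288128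
theorem F288210 : act 6 n64366 = n64239 := d35_2 (iv F287279) D64366 (iv D64239) (iv F286877) F286876
theorem F288211 : act 7 n64366 = n64222 := d36_2 (iv F287280) D64366 F287377
theorem F288212 : act 8 n64366 = n64208 := d37_2 F287979 D64366 (iv F287976)
def n64367 : Q := act 4 n64204
theorem D64367 : act 4 n64204 = n64367 := rfl
theorem F288213 : act 0 n64367 = n64206 := d3_1 D64367 (iv D64206) (iv F287281)
theorem F288214 : act 2 n64367 = n64205 := d18_1 D64367 (iv D64205) (iv F287282)
theorem F288215 : act 3 n64367 = n64265 := d24_1 D64367 F287591 F286251 (iv F285997) (iv F287283)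
theorem F288216 : act 6 n64367 = n64241 := d31_2 (iv F287284) D64367 (iv D64241)
theorem F288217 : act 7 n64367 = n64217 := d32_2 (iv F287285) D64367 F287349
theorem F288218 : act 8 n64367 = n64207 := d33_2 (iv F287286) D64367 F287301
def n64368 : Q := act 1 n64207
theorem D64368 : act 1 n64207 = n64368 := rfl
theorem F288219 : act 0 n64368 = n64368 := d0_1 D64368 (iv D64368) F287299 F285810 (iv F287299)
theorem F288220 : act 2 n64368 = n64276 := d9_2 D64207 D64368 (iv D64276) (iv D64026) (iv F285805)
theorem F288221 : act 3 n64368 = n64300 := d10_2 (iv F287300) D64368 (iv D64300)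
theorem F288222 : act 4 n64368 = n64208 := d11_2 (iv F287301) D64368 (iv D64208)
theorem F288223 : act 6 n64368 = n64253 := d13_2 (iv F287302) D64368 (iv D64253)
theorem F288224 : act 7 n64368 = n64215 := d14_2 (iv F287303) D64368 (iv D64215)
theorem F288225 : act 9 n64368 = n64257 := d16_2 (iv F287304) D64368 (iv D64257)
def n64369 : Q := act 5 n64209
theorem D64369 : act 5 n64209 = n64369 := rfl
theorem F288226 : act 0 n64369 = n64369 := d4_1 D64369 (iv D64369) F287310
theorem F288227 : act 1 n64369 = n64210 := d12_1 D64369 (iv D64210) D64209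
def n64370 : Q := act 4 n64210
theorem D64370 : act 4 n64210 = n64370 := rfl
theorem F288228 : act 0 n64370 = n64213 := d3_1 D64370 (iv D64213) (iv F287313)
theorem F288229 : act 2 n64370 = n64211 := d18_1 D64370 (iv D64211) (iv F287314)
theorem F288230 : act 5 n64370 = n64231 := d30_2 D64210 D64370 (iv D64231) (iv D63943) (iv F285837)
theorem F288231 : act 8 n64370 = n64272 := d33_2 F287996 D64370 (iv F287992)
theorem F288232 : act 9 n64370 = n64282 := d34_2 (iv F287749) D64370 (iv F287745)
theorem F288233 : act 6 n64285 = n64370 := d41_3 F288232 F287669 D64285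
def n64371 : Q := act 6 n64210
theorem D64371 : act 6 n64210 = n64371 := rfl
theorem F288234 : act 0 n64371 = n64214 := d5_1 D64371 (iv D64214) (iv F287313)
theorem F288235 : act 2 n64371 = n64212 := d20_1 D64371 (iv D64212) (iv F287314)
theorem F288236 : act 4 n64371 = n64285 := d31_1 D64371 F288233 (iv D64370)
theorem F288237 : act 5 n64371 = n64259 := d35_1 D64371 F287568 F286178 (iv F285838) D64210
theorem F288238 : act 8 n64371 = n64242 := d40_2 F287996 D64371 (iv F287994)
theorem F288239 : act 9 n64371 = n64236 := d41_2 (iv F287749) D64371 (iv F287747)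
def n64372 : Q := act 5 n64215
theorem D64372 : act 5 n64215 = n64372 := rfl
theorem F288240 : act 0 n64372 = n64372 := d4_1 D64372 (iv D64372) F287339
theorem F288241 : act 1 n64372 = n64216 := d12_1 D64372 (iv D64216) D64215
theorem F288242 : act 4 n64372 = n64294 := d30_1 D64372 (iv F288180) F288179 F287212 (iv F287340)
theorem F288243 : act 9 n64372 = n64266 := d38_2 (iv F287342) D64372 (iv D64266)
def n64373 : Q := act 8 n64215
theorem D64373 : act 8 n64215 = n64373 := rfl
theorem F288244 : act 0 n64373 = n64373 := d7_1 D64373 (iv D64373) F287339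
theorem F288245 : act 1 n64373 = n64217 := d15_1 D64373 (iv D64217) D64215
theorem F288246 : act 4 n64373 = n64222 := d33_1 D64373 (iv D64222) (iv F287340)
theorem F288247 : act 6 n64373 = n64266 := d40_1 D64373 (iv F287596) (iv F287341)
def n64374 : Q := act 6 n64216
theorem D64374 : act 6 n64216 = n64374 := rfl
theorem F288248 : act 0 n64374 = n64220 := d5_1 D64374 (iv D64220) (iv F287343)
theorem F288249 : act 2 n64374 = n64218 := d20_1 D64374 (iv D64218) (iv F287344)
theorem F288250 : act 4 n64374 = n64223 := d31_1 D64374 F287382 (iv F287345)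
theorem F288251 : act 5 n64374 = n64265 := d35_1 D64374 F287592 F286244 (iv F285860) D64216
theorem F288252 : act 9 n64374 = n64217 := d41_2 (iv F287346) D64374 F287350
theorem F288253 : act 8 n64264 = n64374 := d44_5 F288252 (iv D64217) F285861 D64008 (iv F287588)
def n64375 : Q := act 8 n64216
theorem D64375 : act 8 n64216 = n64375 := rfl
theorem F288254 : act 0 n64375 = n64221 := d7_1 D64375 (iv D64221) (iv F287343)
theorem F288255 : act 2 n64375 = n64219 := d22_1 D64375 (iv D64219) (iv F287344)
theorem F288256 : act 4 n64375 = n64269 := d33_1 D64375 F287611 (iv F287345)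
theorem F288257 : act 5 n64375 = n64217 := d37_1 D64375 (iv D64217) D64216
theorem F288258 : act 6 n64375 = n64264 := d40_1 D64375 F288253 (iv D64374)
theorem F288259 : act 9 n64375 = n64265 := d44_2 (iv F287346) D64375 (iv D64265) F286214 F286240
def n64376 : Q := act 9 n64222
theorem D64376 : act 9 n64222 = n64376 := rfl
theorem F288260 : act 0 n64376 = n64376 := d8_1 D64376 (iv D64376) F287375
theorem F288261 : act 1 n64376 = n64223 := d16_1 D64376 (iv D64223) (iv F287376)
theorem F288262 : act 5 n64376 = n64273 := d38_1 D64376 F287629 (iv F287377)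
theorem F288263 : act 6 n64376 = n64294 := d41_1 D64376 (iv D64294) (iv F287378)
theorem F288264 : act 8 n64376 = n64271 := d44_1 D64376 (iv D64271) (iv D64013) (iv F285904) D64222
def n64377 : Q := act 5 n64226
theorem D64377 : act 5 n64226 = n64377 := rfl
theorem F288265 : act 0 n64377 = n64377 := d4_1 D64377 (iv D64377) F287398
theorem F288266 : act 1 n64377 = n64227 := d12_1 D64377 (iv D64227) D64226
theorem F288267 : act 3 n64377 = n64294 := d25_1 D64377 (iv F288180) F288178
theorem F288268 : act 9 n64377 = n64230 := d38_2 (iv F287400) D64377 (iv D64230)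
def n64378 : Q := act 4 n64227
theorem D64378 : act 4 n64227 = n64378 := rfl
theorem F288269 : act 0 n64378 = n64229 := d3_1 D64378 (iv D64229) (iv F287401)
theorem F288270 : act 2 n64378 = n64228 := d18_1 D64378 (iv D64228) (iv F287402)
theorem F288271 : act 5 n64378 = n64282 := d30_2 D64227 D64378 (iv F287745) F287746 F286988
theorem F288272 : act 6 n64378 = n64278 := d31_2 F288099 D64378 (iv F288098)
theorem F288273 : act 8 n64378 = n64281 := d33_2 F288025 D64378 (iv F288023)
theorem F288274 : act 9 n64378 = n64231 := d34_2 (iv F287404) D64378 (iv D64231)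
def n64379 : Q := act 4 n64230
theorem D64379 : act 4 n64230 = n64379 := rfl
theorem F288275 : act 0 n64379 = n64379 := d3_1 D64379 (iv D64379) F287417
theorem F288276 : act 1 n64379 = n64231 := d11_1 D64379 (iv D64231) (iv F287418)
theorem F288277 : act 6 n64379 = n64277 := d31_2 F288140 D64379 (iv F288139)
theorem F288278 : act 8 n64379 = n64276 := d33_2 (iv F287420) D64379 F287646
def n64380 : Q := act 5 n64234
theorem D64380 : act 5 n64234 = n64380 := rfl
theorem F288279 : act 0 n64380 = n64380 := d4_1 D64380 (iv D64380) F287436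
theorem F288280 : act 1 n64380 = n64235 := d12_1 D64380 (iv D64235) D64234
theorem F288281 : act 9 n64380 = n64239 := d38_2 (iv F287438) D64380 (iv D64239)
def n64381 : Q := act 8 n64234
theorem D64381 : act 8 n64234 = n64381 := rfl
theorem F288282 : act 0 n64381 = n64381 := d7_1 D64381 (iv D64381) F287436
theorem F288283 : act 1 n64381 = n64236 := d15_1 D64381 (iv D64236) D64234
theorem F288284 : act 4 n64381 = n64284 := d33_1 D64381 (iv D64284) (iv F287437)
def n64382 : Q := act 8 n64235
theorem D64382 : act 8 n64235 = n64382 := rfl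
theorem F288285 : act 0 n64382 = n64238 := d7_1 D64382 (iv D64238) (iv F287439)
theorem F288286 : act 2 n64382 = n64237 := d22_1 D64382 (iv D64237) (iv F287440)
theorem F288287 : act 4 n64382 = n64299 := d33_1 D64382 (iv F288010) F288008
theorem F288288 : act 5 n64382 = n64236 := d37_1 D64382 (iv D64236) D64235
theorem F288289 : act 6 n64382 = n64261 := d40_1 D64382 (iv F288040) F288038
theorem F288290 : act 9 n64382 = n64259 := d44_2 (iv F287441) D64382 (iv D64259) (iv F287154) F287153
def n64383 : Q := act 4 n64239
theorem D64383 : act 4 n64239 = n64383 := rfl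
theorem F288291 : act 0 n64383 = n64383 := d3_1 D64383 (iv D64383) F287457
theorem F288292 : act 1 n64383 = n64241 := d11_1 D64383 (iv D64241) (iv F287458)
theorem F288293 : act 2 n64383 = n64277 := d18_1 D64383 (iv F288139) F288137
theorem F288294 : act 3 n64383 = n64267 := d24_1 D64383 F287599 D64270 (iv F287984) F287988
theorem F288295 : act 5 n64383 = n64286 := d30_2 D64239 D64383 (iv D64286) (iv D64046) (iv F285992)
theorem F288296 : act 7 n64383 = n64256 := d32_2 F288150 D64383 (iv F288147)
theorem F288297 : act 8 n64383 = n64253 := d33_2 F288133 D64383 (iv F288129)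
def n64384 : Q := act 9 n64240
theorem D64384 : act 9 n64240 = n64384 := rfl
theorem F288298 : act 0 n64384 = n64384 := d8_1 D64384 (iv D64384) F287459
theorem F288299 : act 1 n64384 = n64242 := d16_1 D64384 (iv D64242) (iv F287460)
theorem F288300 : act 4 n64384 = n64287 := d34_1 D64384 (iv D64287) (iv F287461)
theorem F288301 : act 5 n64384 = n64258 := d38_1 D64384 (iv F288134) F288130
def n64385 : Q := act 8 n64245
theorem D64385 : act 8 n64245 = n64385 := rfl
theorem F288302 : act 0 n64385 = n64385 := d7_1 D64385 (iv D64385) F287486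
theorem F288303 : act 1 n64385 = n64246 := d15_1 D64385 (iv D64246) D64245
theorem F288304 : act 2 n64385 = n64260 := d22_1 D64385 (iv D64260) (iv F287487)
theorem F288305 : act 3 n64385 = n64284 := d28_1 D64385 (iv D64284) (iv F287529) F287533 (iv F287488)
theorem F288306 : act 4 n64385 = n64283 := d33_1 D64385 F287672 (iv F287489)
theorem F288307 : act 5 n64385 = n64290 := d37_1 D64385 F287699 (iv F287490)
theorem F288308 : act 7 n64385 = n64250 := d42_1 D64385 (iv D64250) (iv F287491)
def n64386 : Q := act 5 n64247
theorem D64386 : act 5 n64247 = n64386 := rfl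
theorem F288309 : act 0 n64386 = n64386 := d4_1 D64386 (iv D64386) F287499
theorem F288310 : act 1 n64386 = n64248 := d12_1 D64386 (iv D64248) D64247
theorem F288311 : act 2 n64386 = n64266 := d19_1 D64386 (iv D64266) (iv F287500)
theorem F288312 : act 3 n64386 = n64260 := d25_1 D64386 F287571 (iv F287501)
theorem F288313 : act 4 n64386 = n64288 := d30_1 D64386 F287691 F286485 (iv F286105) (iv F287502)
theorem F288314 : act 7 n64386 = n64270 := d36_2 (iv F287503) D64386 F287614
theorem F288315 : act 8 n64279 = n64386 := d46_0 (iv D64386) F287502 (iv F286848) F286847 (iv D63966) F284023 F281431 (iv F282029) (iv F284099) F284098 (iv D63244) F279222 (iv F277817) F277822 (iv F278204) (iv F279862) F279861 F275815 F271041 F268681 (iv D59084) F259589 (iv D56859) (iv D55578) F242259 F234115 (iv F235163) (iv D52552) (iv F233581) F233580 F224319 F214373 F214372 (iv F212556) F212560 F190211 F132446 (iv F203178) F142203 F142202 (iv F144999) F145002 (iv F145690) (iv F207679) (iv F217514) (iv F227051) (iv F228285) F228284 D52695 (iv F243438) (iv F250277) D57139 D58318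 D59510 D60694 (iv F274523) (iv F278683) D63128 D63657 D64034 D64279 F287657
def n64387 : Q := act 8 n64247
theorem D64387 : act 8 n64247 = n64387 := rfl
theorem F288316 : act 0 n64387 = n64387 := d7_1 D64387 (iv D64387) F287499
theorem F288317 : act 1 n64387 = n64249 := d15_1 D64387 (iv D64249) D64247
theorem F288318 : act 2 n64387 = n64267 := d22_1 D64387 (iv D64267) (iv F287500)
theorem F288319 : act 4 n64387 = n64250 := d33_1 D64387 (iv D64250) (iv F287502)
theorem F288320 : act 5 n64387 = n64279 := d37_1 D64387 F288315 (iv D64386)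
theorem F288321 : act 7 n64387 = n64283 := d42_1 D64387 F287672 (iv F287503)
def n64388 : Q := act 8 n64254
theorem D64388 : act 8 n64254 = n64388 := rfl
theorem F288322 : act 0 n64388 = n64388 := d7_1 D64388 (iv D64388) F287541
theorem F288323 : act 1 n64388 = n64255 := d15_1 D64388 (iv D64255) D64254
theorem F288324 : act 2 n64388 = n64284 := d22_1 D64388 (iv D64284) (iv F287542)
theorem F288325 : act 3 n64388 = n64266 := d28_1 D64388 (iv F287596) (iv F287682) F287684 (iv F287543)
theorem F288326 : act 5 n64388 = n64262 := d37_1 D64388 F287580 (iv F287544)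
theorem F288327 : act 7 n64388 = n64298 := d42_1 D64388 (iv D64298) (iv F287545)
def n64389 : Q := act 8 n64258
theorem D64389 : act 8 n64258 = n64389 := rfl
theorem F288328 : act 0 n64389 = n64389 := d7_1 D64389 (iv D64389) F287562
theorem F288329 : act 1 n64389 = n64259 := d15_1 D64389 (iv D64259) D64258
theorem F288330 : act 4 n64389 = n64298 := d33_1 D64389 (iv D64298) (iv F287563)
theorem F288331 : act 6 n64389 = n64260 := d40_1 D64389 (iv D64260) (iv F287564)
def n64390 : Q := act 9 n64260
theorem D64390 : act 9 n64260 = n64390 := rfl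
theorem F288332 : act 0 n64390 = n64390 := d8_1 D64390 (iv D64390) F287569
theorem F288333 : act 1 n64390 = n64261 := d16_1 D64390 (iv D64261) (iv F287570)
theorem F288334 : act 5 n64390 = n64295 := d38_1 D64390 F287717 (iv F287571)
theorem F288335 : act 7 n64390 = n64271 := d43_1 D64390 (iv D64271) (iv F287572)
def n64391 : Q := act 5 n64263
theorem D64391 : act 5 n64263 = n64391 := rfl
theorem F288336 : act 0 n64391 = n64391 := d4_1 D64391 (iv D64391) F287581
theorem F288337 : act 1 n64391 = n64264 := d12_1 D64391 (iv D64264) D64263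
theorem F288338 : act 4 n64391 = n64271 := d30_1 D64391 F287619 (iv F286858) F286859 (iv F287582)
theorem F288339 : act 9 n64391 = n64267 := d38_2 (iv F287584) D64391 F287600
def n64392 : Q := act 8 n64263
theorem D64392 : act 8 n64263 = n64392 := rfl
theorem F288340 : act 0 n64392 = n64392 := d7_1 D64392 (iv D64392) F287581
theorem F288341 : act 1 n64392 = n64265 := d15_1 D64392 (iv D64265) D64263
theorem F288342 : act 4 n64392 = n64268 := d33_1 D64392 (iv D64268) (iv F287582)
theorem F288343 : act 6 n64392 = n64267 := d40_1 D64392 (iv D64267) (iv F287583)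
def n64393 : Q := act 9 n64268
theorem D64393 : act 9 n64268 = n64393 := rfl
theorem F288344 : act 0 n64393 = n64393 := d8_1 D64393 (iv D64393) F287601
theorem F288345 : act 1 n64393 = n64269 := d16_1 D64393 (iv D64269) (iv F287602)
theorem F288346 : act 3 n64393 = n64287 := d29_1 D64393 (iv D64287) (iv F287603)
theorem F288347 : act 5 n64393 = n64275 := d38_1 D64393 F287643 (iv F287604)
theorem F288348 : act 6 n64393 = n64271 := d41_1 D64393 (iv D64271) (iv F287605)
theorem F288349 : act 8 n64393 = n64294 := d44_1 D64393 (iv D64294) (iv D64066) (iv F286248) D64268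
def n64394 : Q := act 9 n64270
theorem D64394 : act 9 n64270 = n64394 := rfl
theorem F288350 : act 0 n64394 = n64394 := d8_1 D64394 (iv D64394) F287612
theorem F288351 : act 1 n64394 = n64272 := d16_1 D64394 (iv D64272) (iv F287613)
theorem F288352 : act 3 n64394 = n64271 := d29_1 D64394 (iv D64271) D64270
theorem F288353 : act 5 n64394 = n64276 := d38_1 D64394 F287648 (iv F287614)
theorem F288354 : act 6 n64394 = n64287 := d41_1 D64394 (iv D64287) (iv F287615)
def n64395 : Q := act 9 n64277
theorem D64395 : act 9 n64277 = n64395 := rfl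
theorem F288355 : act 0 n64395 = n64395 := d8_1 D64395 (iv D64395) F287649
theorem F288356 : act 1 n64395 = n64278 := d16_1 D64395 (iv D64278) (iv F287650)
theorem F288357 : act 5 n64395 = n64293 := d38_1 D64395 F287711 (iv F287651)
theorem F288358 : act 7 n64395 = n64287 := d43_1 D64395 (iv D64287) (iv F287652)
def n64396 : Q := act 5 n64280
theorem D64396 : act 5 n64280 = n64396 := rfl
theorem F288359 : act 0 n64396 = n64396 := d4_1 D64396 (iv D64396) F287661
theorem F288360 : act 1 n64396 = n64281 := d12_1 D64396 (iv D64281) D64280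
theorem F288361 : act 9 n64396 = n64283 := d38_2 (iv F287663) D64396 (iv D64283)
def n64397 : Q := act 8 n64280
theorem D64397 : act 8 n64280 = n64397 := rfl
theorem F288362 : act 0 n64397 = n64397 := d7_1 D64397 (iv D64397) F287661
theorem F288363 : act 1 n64397 = n64282 := d15_1 D64397 (iv D64282) D64280
theorem F288364 : act 6 n64397 = n64284 := d40_1 D64397 (iv D64284) (iv F287662)
def n64398 : Q := act 9 n64284
theorem D64398 : act 9 n64284 = n64398 := rfl
theorem F288365 : act 0 n64398 = n64398 := d8_1 D64398 (iv D64398) F287673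
theorem F288366 : act 1 n64398 = n64285 := d16_1 D64398 (iv D64285) (iv F287674)
theorem F288367 : act 5 n64398 = n64291 := d38_1 D64398 (iv F287868) F287864
theorem F288368 : act 8 n64398 = n64287 := d44_1 D64398 (iv D64287) (iv D64047) (iv F286373) D64284
def n64399 : Q := act 9 n64288
theorem D64399 : act 9 n64288 = n64399 := rfl
theorem F288369 : act 0 n64399 = n64399 := d8_1 D64399 (iv D64399) F287688
theorem F288370 : act 1 n64399 = n64289 := d16_1 D64399 (iv D64289) (iv F287689)
theorem F288371 : act 2 n64399 = n64294 := d23_1 D64399 (iv D64294) (iv F287690)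
theorem F288372 : act 5 n64399 = n64297 := d38_1 D64399 F287724 (iv F287691)
def n64400 : Q := act 9 n64298
theorem D64400 : act 9 n64298 = n64400 := rfl
theorem F288373 : act 0 n64400 = n64400 := d8_1 D64400 (iv D64400) F287725
theorem F288374 : act 1 n64400 = n64299 := d16_1 D64400 (iv D64299) (iv F287726)
theorem F288375 : act 5 n64400 = n64300 := d38_1 D64400 F287733 (iv F287727)
def n64401 : Q := act 8 n64301
theorem D64401 : act 8 n64301 = n64401 := rfl
theorem F288376 : act 0 n64401 = n64401 := d7_1 D64401 (iv D64401) F287734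
theorem F288377 : act 1 n64401 = n64302 := d15_1 D64401 (iv D64302) D64301
theorem F288378 : act 2 n64401 = n64352 := d22_1 D64401 (iv D64352) (iv F287735)
theorem F288379 : act 3 n64401 = n64387 := d28_1 D64401 (iv D64387) F287501 (iv F287477) (iv F287736)
theorem F288380 : act 4 n64401 = n64397 := d33_1 D64401 (iv D64397) (iv F287737)
theorem F288381 : act 5 n64401 = n64342 := d37_1 D64401 (iv D64342) (iv F287738)
theorem F288382 : act 6 n64401 = n64381 := d40_1 D64401 (iv D64381) (iv F287739)
theorem F288383 : act 7 n64401 = n64316 := d42_1 D64401 (iv D64316) (iv F287740)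
theorem F288384 : act 9 n64369 = n64401 := d38_0 F288381 F288049 D64369
def n64402 : Q := act 5 n64303
theorem D64402 : act 5 n64303 = n64402 := rfl
theorem F288385 : act 0 n64402 = n64402 := d4_1 D64402 (iv D64402) F287750
theorem F288386 : act 1 n64402 = n64304 := d12_1 D64402 (iv D64304) D64303
theorem F288387 : act 2 n64402 = n64398 := d19_1 D64402 F288367 (iv F287751)
theorem F288388 : act 3 n64402 = n64372 := d25_1 D64402 (iv D64372) (iv F287752)
theorem F288389 : act 7 n64402 = n64400 := d36_2 (iv F287755) D64402 F288375
theorem F288390 : act 8 n64402 = n64343 := d37_2 (iv F287756) D64402 (iv D64343)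
theorem F288391 : act 9 n64402 = n64388 := d38_2 (iv F287757) D64402 F288326
def n64403 : Q := act 4 n64304
theorem D64403 : act 4 n64304 = n64403 := rfl
theorem F288392 : act 0 n64403 = n64307 := d3_1 D64403 (iv D64307) (iv F287758)
theorem F288393 : act 2 n64403 = n64305 := d18_1 D64403 (iv D64305) (iv F287759)
theorem F288394 : act 3 n64403 = n64378 := d24_1 D64403 (iv D64378) F287403 (iv F287345) (iv F287760)
theorem F288395 : act 5 n64403 = n64324 := d30_2 D64304 D64403 (iv D64324) (iv D64123) (iv F286572)
theorem F288396 : act 7 n64403 = n64382 := d32_2 (iv F287761) D64403 F288287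
theorem F288397 : act 8 n64403 = n64344 := d33_2 (iv F287762) D64403 (iv D64344)
theorem F288398 : act 9 n64403 = n64351 := d34_2 (iv F287763) D64403 F288105
theorem F288399 : act 6 n64353 = n64403 := d41_3 F288398 F288106 D64353
def n64404 : Q := act 6 n64304
theorem D64404 : act 6 n64304 = n64404 := rfl
theorem F288400 : act 0 n64404 = n64308 := d5_1 D64404 (iv D64308) (iv F287758)
theorem F288401 : act 2 n64404 = n64306 := d20_1 D64404 (iv D64306) (iv F287759)
theorem F288402 : act 3 n64404 = n64374 := d26_1 D64404 (iv D64374) (iv F287760)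
theorem F288403 : act 4 n64404 = n64353 := d31_1 D64404 F288399 (iv D64403)
theorem F288404 : act 5 n64404 = n64367 := d35_1 D64404 F288216 F287465 (iv F286573) D64304
theorem F288405 : act 7 n64404 = n64375 := d39_2 (iv F287761) D64404 F288258 (iv F287925) F287924
theorem F288406 : act 8 n64404 = n64332 := d40_2 (iv F287762) D64404 F287970
theorem F288407 : act 9 n64404 = n64327 := d41_2 (iv F287763) D64404 F287931
def n64405 : Q := act 5 n64309
theorem D64405 : act 5 n64309 = n64405 := rfl
theorem F288408 : act 0 n64405 = n64405 := d4_1 D64405 (iv D64405) F287796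
theorem F288409 : act 1 n64405 = n64310 := d12_1 D64405 (iv D64310) D64309
theorem F288410 : act 2 n64405 = n64391 := d19_1 D64405 (iv D64391) (iv F287797)
theorem F288411 : act 3 n64405 = n64369 := d25_1 D64405 (iv D64369) (iv F287798)
theorem F288412 : act 4 n64405 = n64345 := d30_1 D64405 (iv D64345) F287017 (iv F286666) (iv F287799)
theorem F288413 : act 7 n64405 = n64396 := d36_2 (iv F287801) D64405 (iv D64396)
theorem F288414 : act 9 n64405 = n64387 := d38_2 (iv F287802) D64405 F288320
def n64406 : Q := act 8 n64309
theorem D64406 : act 8 n64309 = n64406 := rfl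
theorem F288415 : act 0 n64406 = n64406 := d7_1 D64406 (iv D64406) F287796
theorem F288416 : act 1 n64406 = n64311 := d15_1 D64406 (iv D64311) D64309
theorem F288417 : act 2 n64406 = n64392 := d22_1 D64406 (iv D64392) (iv F287797)
theorem F288418 : act 3 n64406 = n64381 := d28_1 D64406 (iv D64381) (iv F288170) F288174 (iv F287798)
theorem F288419 : act 4 n64406 = n64316 := d33_1 D64406 (iv D64316) (iv F287799)
theorem F288420 : act 6 n64406 = n64387 := d40_1 D64406 (iv D64387) (iv F287800)
theorem F288421 : act 7 n64406 = n64397 := d42_1 D64406 (iv D64397) (iv F287801)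
def n64407 : Q := act 6 n64310
theorem D64407 : act 6 n64310 = n64407 := rfl
theorem F288422 : act 0 n64407 = n64314 := d5_1 D64407 (iv D64314) (iv F287803)
theorem F288423 : act 2 n64407 = n64312 := d20_1 D64407 (iv D64312) (iv F287804)
theorem F288424 : act 3 n64407 = n64371 := d26_1 D64407 (iv D64371) (iv F287805)
theorem F288425 : act 4 n64407 = n64317 := d31_1 D64407 F287857 (iv F287806)
theorem F288426 : act 5 n64407 = n64360 := d35_1 D64407 F288165 (iv D64248) (iv F286614) D64310
theorem F288427 : act 7 n64407 = n64370 := d39_2 (iv F287807) D64407 (iv F288233) (iv F287881) F287880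
theorem F288428 : act 9 n64407 = n64311 := d41_2 (iv F287808) D64407 F287813
theorem F288429 : act 8 n64365 = n64407 := d44_5 F288428 (iv D64311) F286616 F287509 (iv F288205)
def n64408 : Q := act 8 n64310
theorem D64408 : act 8 n64310 = n64408 := rfl
theorem F288430 : act 0 n64408 = n64315 := d7_1 D64408 (iv D64315) (iv F287803)
theorem F288431 : act 2 n64408 = n64313 := d22_1 D64408 (iv D64313) (iv F287804)
theorem F288432 : act 3 n64408 = n64382 := d28_1 D64408 (iv D64382) (iv F287991) F287996 (iv F287805)
theorem F288433 : act 4 n64408 = n64347 := d33_1 D64408 (iv D64347) (iv F287806)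
theorem F288434 : act 5 n64408 = n64311 := d37_1 D64408 (iv D64311) D64310
theorem F288435 : act 6 n64408 = n64365 := d40_1 D64408 F288429 (iv D64407)
theorem F288436 : act 7 n64408 = n64378 := d42_1 D64408 F288273 (iv F287807)
theorem F288437 : act 9 n64408 = n64360 := d44_2 (iv F287808) D64408 F288167 F287243 D64249
def n64409 : Q := act 9 n64316
theorem D64409 : act 9 n64316 = n64409 := rfl
theorem F288438 : act 0 n64409 = n64409 := d8_1 D64409 (iv D64409) F287847
theorem F288439 : act 1 n64409 = n64317 := d16_1 D64409 (iv D64317) (iv F287848)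
theorem F288440 : act 2 n64409 = n64393 := d23_1 D64409 (iv D64393) (iv F287849)
theorem F288441 : act 3 n64409 = n64396 := d29_1 D64409 F288361 (iv F287850)
theorem F288442 : act 5 n64409 = n64348 := d38_1 D64409 (iv D64348) (iv F287851)
theorem F288443 : act 6 n64409 = n64345 := d41_1 D64409 F288064 (iv F287852)
theorem F288444 : act 7 n64409 = n64369 := d43_1 D64409 F288384 F288383
theorem F288445 : act 8 n64409 = n64399 := d44_1 D64409 (iv D64399) (iv D64288) (iv F286668) D64316
def n64410 : Q := act 5 n64319
theorem D64410 : act 5 n64319 = n64410 := rfl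
theorem F288446 : act 0 n64410 = n64410 := d4_1 D64410 (iv D64410) F287869
theorem F288447 : act 1 n64410 = n64320 := d12_1 D64410 (iv D64320) D64319
theorem F288448 : act 2 n64410 = n64400 := d19_1 D64410 F288375 (iv F287870)
theorem F288449 : act 3 n64410 = n64345 := d25_1 D64410 (iv D64345) (iv F287871)
theorem F288450 : act 6 n64410 = n64396 := d35_2 (iv F287873) D64410 (iv D64396) F287662 (iv F287113)
theorem F288451 : act 7 n64410 = n64398 := d36_2 (iv F287874) D64410 F288367
theorem F288452 : act 8 n64410 = n64395 := d37_2 (iv F287875) D64410 F288357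
theorem F288453 : act 9 n64410 = n64323 := d38_2 (iv F287876) D64410 (iv D64323)
def n64411 : Q := act 4 n64320
theorem D64411 : act 4 n64320 = n64411 := rfl
theorem F288454 : act 0 n64411 = n64322 := d3_1 D64411 (iv D64322) (iv F287877)
theorem F288455 : act 2 n64411 = n64321 := d18_1 D64411 (iv D64321) (iv F287878)
theorem F288456 : act 3 n64411 = n64370 := d24_1 D64411 (iv D64370) (iv F287805) F287806 (iv F287879)
theorem F288457 : act 5 n64411 = n64351 := d30_2 D64320 D64411 F288105 F287550 (iv F286716)
theorem F288458 : act 6 n64411 = n64339 := d31_2 (iv F287880) D64411 F288023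
theorem F288459 : act 7 n64411 = n64371 := d32_2 (iv F287881) D64411 F288236
theorem F288460 : act 8 n64411 = n64350 := d33_2 (iv F287882) D64411 F288098
theorem F288461 : act 9 n64411 = n64324 := d34_2 (iv F287883) D64411 (iv D64324)
def n64412 : Q := act 4 n64323
theorem D64412 : act 4 n64323 = n64412 := rfl
theorem F288462 : act 0 n64412 = n64412 := d3_1 D64412 (iv D64412) F287900
theorem F288463 : act 1 n64412 = n64324 := d11_1 D64412 (iv D64324) (iv F287901)
theorem F288464 : act 2 n64412 = n64389 := d18_1 D64412 F288330 (iv F287902)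
theorem F288465 : act 3 n64412 = n64397 := d24_1 D64412 (iv F288380) F288379 F288319 (iv F287903)
theorem F288466 : act 6 n64412 = n64385 := d31_2 (iv F287904) D64412 F288306
theorem F288467 : act 7 n64412 = n64381 := d32_2 (iv F287905) D64412 F288284
theorem F288468 : act 8 n64412 = n64354 := d33_2 (iv F287906) D64412 (iv D64354)
def n64413 : Q := act 5 n64325
theorem D64413 : act 5 n64325 = n64413 := rfl
theorem F288469 : act 0 n64413 = n64413 := d4_1 D64413 (iv D64413) F287913
theorem F288470 : act 1 n64413 = n64326 := d12_1 D64413 (iv D64326) D64325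
theorem F288471 : act 2 n64413 = n64396 := d19_1 D64413 (iv D64396) (iv F287914)
theorem F288472 : act 3 n64413 = n64343 := d25_1 D64413 (iv D64343) (iv F287915)
theorem F288473 : act 4 n64413 = n64390 := d30_1 D64413 F288334 F287715 (iv F287090) (iv F287916)
theorem F288474 : act 6 n64413 = n64400 := d35_2 (iv F287917) D64413 F288375 F287732 (iv F287544)
theorem F288475 : act 7 n64413 = n64391 := d36_2 (iv F287918) D64413 (iv D64391)
theorem F288476 : act 9 n64413 = n64330 := d38_2 (iv F287919) D64413 (iv D64330)
def n64414 : Q := act 8 n64325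
theorem D64414 : act 8 n64325 = n64414 := rfl
theorem F288477 : act 0 n64414 = n64414 := d7_1 D64414 (iv D64414) F287913
theorem F288478 : act 1 n64414 = n64327 := d15_1 D64414 (iv D64327) D64325
theorem F288479 : act 2 n64414 = n64397 := d22_1 D64414 (iv D64397) (iv F287914)
theorem F288480 : act 3 n64414 = n64373 := d28_1 D64414 (iv D64373) (iv F287752) F287756 (iv F287915)
theorem F288481 : act 4 n64414 = n64352 := d33_1 D64414 (iv D64352) (iv F287916)
theorem F288482 : act 6 n64414 = n64388 := d40_1 D64414 (iv D64388) (iv F287917)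
theorem F288483 : act 7 n64414 = n64392 := d42_1 D64414 (iv D64392) (iv F287918)
def n64415 : Q := act 8 n64326
theorem D64415 : act 8 n64326 = n64415 := rfl
theorem F288484 : act 0 n64415 = n64329 := d7_1 D64415 (iv D64329) (iv F287920)
theorem F288485 : act 2 n64415 = n64328 := d22_1 D64415 (iv D64328) (iv F287921)
theorem F288486 : act 3 n64415 = n64375 := d28_1 D64415 (iv D64375) (iv F287760) F287762 (iv F287922)
theorem F288487 : act 4 n64415 = n64341 := d33_1 D64415 F288040 (iv F287923)
theorem F288488 : act 5 n64415 = n64327 := d37_1 D64415 (iv D64327) D64326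
theorem F288489 : act 6 n64415 = n64337 := d40_1 D64415 F288010 (iv F287924)
theorem F288490 : act 7 n64415 = n64374 := d42_1 D64415 (iv F288253) (iv F287925)
theorem F288491 : act 9 n64415 = n64367 := d44_2 (iv F287926) D64415 F288218 F287304 F286816
def n64416 : Q := act 9 n64331
theorem D64416 : act 9 n64331 = n64416 := rfl
theorem F288492 : act 0 n64416 = n64416 := d8_1 D64416 (iv D64416) F287957
theorem F288493 : act 1 n64416 = n64332 := d16_1 D64416 (iv D64332) (iv F287958)
theorem F288494 : act 2 n64416 = n64394 := d23_1 D64416 (iv D64394) (iv F287959)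
theorem F288495 : act 3 n64416 = n64400 := d29_1 D64416 (iv D64400) (iv F287960)
theorem F288496 : act 4 n64416 = n64359 := d34_1 D64416 (iv D64359) (iv F287961)
theorem F288497 : act 5 n64416 = n64368 := d38_1 D64416 F288225 (iv F287962)
theorem F288498 : act 6 n64416 = n64343 := d41_1 D64416 F288053 (iv F287963)
theorem F288499 : act 7 n64416 = n64372 := d43_1 D64416 F288243 (iv F287964)
def n64417 : Q := act 9 n64334
theorem D64417 : act 9 n64334 = n64417 := rfl
theorem F288500 : act 0 n64417 = n64417 := d8_1 D64417 (iv D64417) F287981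
theorem F288501 : act 1 n64417 = n64335 := d16_1 D64417 (iv D64335) (iv F287982)
theorem F288502 : act 2 n64417 = n64359 := d23_1 D64417 (iv D64359) (iv F287983)
theorem F288503 : act 3 n64417 = n64380 := d29_1 D64417 F288281 (iv F287988)
theorem F288504 : act 4 n64417 = n64394 := d34_1 D64417 (iv D64394) (iv F287984)
theorem F288505 : act 5 n64417 = n64361 := d38_1 D64417 F288175 (iv F287985)
theorem F288506 : act 6 n64417 = n64384 := d41_1 D64417 (iv D64384) (iv F287986)
theorem F288507 : act 7 n64417 = n64399 := d43_1 D64417 (iv D64399) (iv F287987)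
theorem F288508 : act 8 n64417 = n64369 := d44_1 D64417 F288384 (iv D64401) F287741 D64334
def n64418 : Q := act 5 n64336
theorem D64418 : act 5 n64336 = n64418 := rfl
theorem F288509 : act 0 n64418 = n64418 := d4_1 D64418 (iv D64418) F287997
theorem F288510 : act 1 n64418 = n64337 := d12_1 D64418 (iv D64337) D64336
theorem F288511 : act 2 n64418 = n64395 := d19_1 D64418 F288357 (iv F287998)
theorem F288512 : act 3 n64418 = n64391 := d25_1 D64418 (iv D64391) (iv F287999)
theorem F288513 : act 4 n64418 = n64380 := d30_1 D64418 (iv D64380) F287437 (iv F287113) (iv F288000)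
theorem F288514 : act 7 n64418 = n64343 := d36_2 (iv F288002) D64418 (iv D64343)
theorem F288515 : act 8 n64418 = n64400 := d37_2 (iv F288003) D64418 F288375
theorem F288516 : act 9 n64418 = n64383 := d38_2 (iv F288004) D64418 F288295
def n64419 : Q := act 5 n64338
theorem D64419 : act 5 n64338 = n64419 := rfl
theorem F288517 : act 0 n64419 = n64419 := d4_1 D64419 (iv D64419) F288012
theorem F288518 : act 1 n64419 = n64339 := d12_1 D64419 (iv D64339) D64338
theorem F288519 : act 2 n64419 = n64390 := d19_1 D64419 F288334 (iv F288013)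
theorem F288520 : act 3 n64419 = n64398 := d25_1 D64419 F288367 (iv F288014)
theorem F288521 : act 4 n64419 = n64396 := d30_1 D64419 (iv D64396) (iv F287737) F287738 (iv F288015)
theorem F288522 : act 7 n64419 = n64345 := d36_2 (iv F288017) D64419 (iv D64345)
theorem F288523 : act 8 n64419 = n64377 := d37_2 (iv F288018) D64419 (iv D64377)
theorem F288524 : act 9 n64419 = n64385 := d38_2 (iv F288019) D64419 F288307
def n64420 : Q := act 5 n64340
theorem D64420 : act 5 n64340 = n64420 := rfl
theorem F288525 : act 0 n64420 = n64420 := d4_1 D64420 (iv D64420) F288027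
theorem F288526 : act 1 n64420 = n64341 := d12_1 D64420 (iv D64341) D64340
theorem F288527 : act 2 n64420 = n64377 := d19_1 D64420 (iv D64377) (iv F288028)
theorem F288528 : act 3 n64420 = n64384 := d25_1 D64420 F288301 (iv F288029)
theorem F288529 : act 6 n64420 = n64380 := d35_2 (iv F288031) D64420 (iv D64380) (iv F287739) F287738
theorem F288530 : act 7 n64420 = n64376 := d36_2 (iv F288032) D64420 F288262
theorem F288531 : act 8 n64420 = n64390 := d37_2 (iv F288033) D64420 F288334
theorem F288532 : act 9 n64420 = n64366 := d38_2 (iv F288034) D64420 (iv D64366)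
def n64421 : Q := act 4 n64343
theorem D64421 : act 4 n64343 = n64421 := rfl
theorem F288533 : act 0 n64421 = n64421 := d3_1 D64421 (iv D64421) F288050
theorem F288534 : act 1 n64421 = n64344 := d11_1 D64421 (iv D64344) (iv F288051)
theorem F288535 : act 2 n64421 = n64384 := d18_1 D64421 F288300 (iv F288052)
theorem F288536 : act 5 n64421 = n64354 := d30_2 D64343 D64421 (iv D64354) (iv D64181) (iv F286995)
theorem F288537 : act 6 n64421 = n64359 := d31_2 F288498 D64421 (iv F288496)
theorem F288538 : act 7 n64421 = n64380 := d32_2 F288514 D64421 (iv F288513)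
theorem F288539 : act 9 n64421 = n64357 := d34_2 (iv F288053) D64421 F288147
theorem F288540 : act 3 n64421 = n64399 := d46_3 F287756 D64343 D64421 F288371 F287713 F286458 (iv F286264) F286262 F284422 (iv F283409) (iv D63425) F280496 F276576 D62189 (iv F280486) F280485 (iv D62264) F273570 F268554 (iv F266650) F266655 D59707 F266668 (iv D58964) F259215 F255752 (iv F250957) (iv D56006) (iv F250955) F250954 F244421 F244420 F236827 (iv F239055) D54936 F246472 F240091 F231750 (iv F232321) F232320 (iv F235724) (iv D52737) (iv F235236) (iv F243144) (iv F248869) (iv F254781) F254780 (iv F250777) D57210 (iv F261049) F261048 D59554 D60730 D61793 D62648 F279484 (iv F279446) D63282 D63758 D64097 D64303 F287750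
def n64422 : Q := act 8 n64345
theorem D64422 : act 8 n64345 = n64422 := rfl
theorem F288541 : act 0 n64422 = n64422 := d7_1 D64422 (iv D64422) F288061
theorem F288542 : act 1 n64422 = n64347 := d15_1 D64422 (iv D64347) (iv F288062)
theorem F288543 : act 2 n64422 = n64376 := d22_1 D64422 F288264 (iv F288063)
theorem F288544 : act 5 n64422 = n64346 := d37_1 D64422 (iv D64346) D64345
theorem F288545 : act 6 n64422 = n64399 := d40_1 D64422 (iv F288445) F288443
theorem F288546 : act 7 n64422 = n64377 := d42_1 D64422 (iv F288523) F288522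
theorem F288547 : act 9 n64422 = n64358 := d44_2 (iv F288064) D64422 F288157 F287276 D64250
theorem F288548 : act 3 n64422 = n64359 := d45_2 (iv F288064) D64422 F288160 (iv F287975) F287974 (iv D64141) (iv D63817) (iv D63354) (iv F282472) F282471 D63309 F282699 F280384 F278296 F273953 F270282 F265369 F260632 (iv F260440) (iv F265171) (iv F265631) F265630 (iv F270145) (iv F270484) F270485 (iv F272346) (iv F276930) F276929 (iv F278040) F278041 F273550 F270273 (iv F270211) F270212 (iv F270057) (iv F274945) (iv F279130) (iv F279959) F279960 F275948 (iv F277344) F277343 F274844 (iv F271294) F271298 F269494 F264514 (iv F264520) (iv F269440) (iv F272884) F272882 (iv F273006) F273007 (iv F272859) (iv F277351) (iv F281006) F281007 (iv F280602) (iv F282460) F282458 F281254 D62959 F281319 F277747 (iv F277010) F277011 (iv D61285) (iv F273591) F273589 (iv F274129) F274130 (iv F274128) F274127 F270273 (iv F270276) D61721 D62596 (iv F282386) D63731 F284718 (iv F284712) (iv F285923) F285920 (iv F285600) (iv F286820) F286819 (iv F287726) (iv F287902) F287903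
def n64423 : Q := act 5 n64349
theorem D64423 : act 5 n64349 = n64423 := rfl
theorem F288549 : act 0 n64423 = n64423 := d4_1 D64423 (iv D64423) F288088
theorem F288550 : act 1 n64423 = n64350 := d12_1 D64423 (iv D64350) D64349
theorem F288551 : act 2 n64423 = n64380 := d19_1 D64423 (iv D64380) (iv F288089)
theorem F288552 : act 3 n64423 = n64376 := d25_1 D64423 F288262 (iv F288090)
theorem F288553 : act 4 n64423 = n64395 := d30_1 D64423 F288357 F287709 (iv F287544) (iv F288091)
theorem F288554 : act 6 n64423 = n64377 := d35_2 (iv F288092) D64423 (iv D64377) F287399 (iv F287090)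
theorem F288555 : act 7 n64423 = n64384 := d36_2 (iv F288093) D64423 F288301
theorem F288556 : act 9 n64423 = n64356 := d38_2 (iv F288094) D64423 (iv D64356)
def n64424 : Q := act 8 n64349
theorem D64424 : act 8 n64349 = n64424 := rfl
theorem F288557 : act 0 n64424 = n64424 := d7_1 D64424 (iv D64424) F288088
theorem F288558 : act 1 n64424 = n64351 := d15_1 D64424 (iv D64351) D64349
theorem F288559 : act 2 n64424 = n64381 := d22_1 D64424 (iv D64381) (iv F288089)
theorem F288560 : act 3 n64424 = n64379 := d28_1 D64424 F288278 F287645 (iv F287628) (iv F288090)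
theorem F288561 : act 4 n64424 = n64388 := d33_1 D64424 (iv D64388) (iv F288091)
theorem F288562 : act 6 n64424 = n64352 := d40_1 D64424 (iv D64352) (iv F288092)
theorem F288563 : act 7 n64424 = n64389 := d42_1 D64424 (iv D64389) (iv F288093)
def n64425 : Q := act 9 n64352
theorem D64425 : act 9 n64352 = n64425 := rfl
theorem F288564 : act 0 n64425 = n64425 := d8_1 D64425 (iv D64425) F288108
theorem F288565 : act 1 n64425 = n64353 := d16_1 D64425 (iv D64353) (iv F288109)
theorem F288566 : act 2 n64425 = n64369 := d23_1 D64425 F288384 F288378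
theorem F288567 : act 3 n64425 = n64395 := d29_1 D64425 (iv D64395) (iv F288110)
theorem F288568 : act 5 n64425 = n64363 := d38_1 D64425 F288192 (iv F288111)
theorem F288569 : act 7 n64425 = n64393 := d43_1 D64425 (iv D64393) (iv F288112)
theorem F288570 : act 8 n64425 = n64359 := d44_1 D64425 (iv D64359) (iv D64187) (iv F287092) D64352
def n64426 : Q := act 4 n64358
theorem D64426 : act 4 n64358 = n64426 := rfl
theorem F288571 : act 0 n64426 = n64426 := d3_1 D64426 (iv D64426) F288151
theorem F288572 : act 1 n64426 = n64360 := d11_1 D64426 (iv D64360) (iv F288152)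
theorem F288573 : act 2 n64426 = n64373 := d18_1 D64426 F288246 (iv F288153)
theorem F288574 : act 3 n64426 = n64389 := d24_1 D64426 F288330 (iv F287960) F287961 D64358
theorem F288575 : act 6 n64426 = n64386 := d31_2 (iv F288155) D64426 F288313
theorem F288576 : act 7 n64426 = n64379 := d32_2 (iv F288156) D64426 (iv D64379)
theorem F288577 : act 8 n64426 = n64364 := d33_2 (iv F288157) D64426 F288196
def n64427 : Q := act 5 n64364
theorem D64427 : act 5 n64364 = n64427 := rfl
theorem F288578 : act 0 n64427 = n64427 := d4_1 D64427 (iv D64427) F288193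
theorem F288579 : act 1 n64427 = n64365 := d12_1 D64427 (iv D64365) D64364
theorem F288580 : act 2 n64427 = n64372 := d19_1 D64427 (iv D64372) (iv F288194)
theorem F288581 : act 3 n64427 = n64390 := d25_1 D64427 F288334 (iv F288195)
theorem F288582 : act 4 n64427 = n64399 := d30_1 D64427 F288372 F287722 (iv F287273) (iv F288196)
theorem F288583 : act 7 n64427 = n64394 := d36_2 (iv F288198) D64427 F288353
theorem F288584 : act 9 n64427 = n64386 := d38_2 (iv F288199) D64427 (iv D64386)
def n64428 : Q := act 4 n64366
theorem D64428 : act 4 n64366 = n64428 := rfl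
theorem F288585 : act 0 n64428 = n64428 := d3_1 D64428 (iv D64428) F288206
theorem F288586 : act 1 n64428 = n64367 := d11_1 D64428 (iv D64367) (iv F288207)
theorem F288587 : act 2 n64428 = n64379 := d18_1 D64428 (iv D64379) (iv F288208)
theorem F288588 : act 3 n64428 = n64392 := d24_1 D64428 F288342 F287603 (iv F287461) (iv F288209)
theorem F288589 : act 6 n64428 = n64383 := d31_2 (iv F288210) D64428 (iv D64383)
theorem F288590 : act 7 n64428 = n64373 := d32_2 (iv F288211) D64428 F288246
theorem F288591 : act 8 n64428 = n64368 := d33_2 (iv F288212) D64428 F288222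
def n64429 : Q := act 4 n64369
theorem D64429 : act 4 n64369 = n64429 := rfl
theorem F288592 : act 0 n64429 = n64429 := d3_1 D64429 (iv D64429) F288226
theorem F288593 : act 1 n64429 = n64370 := d11_1 D64429 (iv D64370) (iv F288227)
theorem F288594 : act 5 n64429 = n64379 := d30_2 D64369 D64429 (iv D64379) (iv D64230) (iv F287311)
theorem F288595 : act 8 n64429 = n64394 := d33_2 F288508 D64429 (iv F288504)
theorem F288596 : act 9 n64429 = n64397 := d34_2 (iv F288384) D64429 (iv F288380)
theorem F288597 : act 6 n64398 = n64429 := d41_3 F288596 F288364 D64398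
def n64430 : Q := act 6 n64369
theorem D64430 : act 6 n64369 = n64430 := rfl
theorem F288598 : act 0 n64430 = n64430 := d5_1 D64430 (iv D64430) F288226
theorem F288599 : act 1 n64430 = n64371 := d13_1 D64430 (iv D64371) (iv F288227)
theorem F288600 : act 4 n64430 = n64398 := d31_1 D64430 F288597 (iv D64429)
theorem F288601 : act 5 n64430 = n64389 := d35_1 D64430 F288331 F287571 (iv F287312) D64369
theorem F288602 : act 8 n64430 = n64384 := d40_2 F288508 D64430 (iv F288506)
theorem F288603 : act 9 n64430 = n64381 := d41_2 (iv F288384) D64430 (iv F288382)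
def n64431 : Q := act 6 n64372
theorem D64431 : act 6 n64372 = n64431 := rfl
theorem F288604 : act 0 n64431 = n64431 := d5_1 D64431 (iv D64431) F288240
theorem F288605 : act 1 n64431 = n64374 := d13_1 D64431 (iv D64374) (iv F288241)
theorem F288606 : act 4 n64431 = n64376 := d31_1 D64431 F288263 (iv F288242)
theorem F288607 : act 5 n64431 = n64392 := d35_1 D64431 F288343 F287600 (iv F287341) D64372
theorem F288608 : act 9 n64431 = n64373 := d41_2 (iv F288243) D64431 F288247
theorem F288609 : act 8 n64391 = n64431 := d44_5 F288608 (iv D64373) F287342 D64267 (iv F288339)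
def n64432 : Q := act 8 n64372
theorem D64432 : act 8 n64372 = n64432 := rfl
theorem F288610 : act 0 n64432 = n64432 := d7_1 D64432 (iv D64432) F288240
theorem F288611 : act 1 n64432 = n64375 := d15_1 D64432 (iv D64375) (iv F288241)
theorem F288612 : act 4 n64432 = n64393 := d33_1 D64432 F288349 (iv F288242)
theorem F288613 : act 5 n64432 = n64373 := d37_1 D64432 (iv D64373) D64372
theorem F288614 : act 6 n64432 = n64391 := d40_1 D64432 F288609 (iv D64431)
theorem F288615 : act 9 n64432 = n64392 := d44_2 (iv F288243) D64432 (iv D64392) F287584 F287596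
def n64433 : Q := act 4 n64377
theorem D64433 : act 4 n64377 = n64433 := rfl
theorem F288616 : act 0 n64433 = n64433 := d3_1 D64433 (iv D64433) F288265
theorem F288617 : act 1 n64433 = n64378 := d11_1 D64433 (iv D64378) (iv F288266)
theorem F288618 : act 5 n64433 = n64397 := d30_2 D64377 D64433 (iv F288380) F288381 F288045
theorem F288619 : act 6 n64433 = n64395 := d31_2 F288554 D64433 (iv F288553)
theorem F288620 : act 8 n64433 = n64396 := d33_2 F288523 D64433 (iv F288521)
theorem F288621 : act 9 n64433 = n64379 := d34_2 (iv F288268) D64433 (iv D64379)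
def n64434 : Q := act 8 n64380
theorem D64434 : act 8 n64380 = n64434 := rfl
theorem F288622 : act 0 n64434 = n64434 := d7_1 D64434 (iv D64434) F288279
theorem F288623 : act 1 n64434 = n64382 := d15_1 D64434 (iv D64382) (iv F288280)
theorem F288624 : act 4 n64434 = n64400 := d33_1 D64434 (iv F288515) F288513
theorem F288625 : act 5 n64434 = n64381 := d37_1 D64434 (iv D64381) D64380
theorem F288626 : act 6 n64434 = n64390 := d40_1 D64434 (iv F288531) F288529
theorem F288627 : act 9 n64434 = n64389 := d44_2 (iv F288281) D64434 (iv D64389) (iv F288134) F288133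
def n64435 : Q := act 4 n64402
theorem D64435 : act 4 n64402 = n64435 := rfl
theorem F288628 : act 0 n64435 = n64435 := d3_1 D64435 (iv D64435) F288385
theorem F288629 : act 1 n64435 = n64403 := d11_1 D64435 (iv D64403) (iv F288386)
theorem F288630 : act 2 n64435 = n64430 := d18_1 D64435 F288600 (iv F288387)
theorem F288631 : act 3 n64435 = n64433 := d24_1 D64435 (iv D64433) F288267 (iv F288242) (iv F288388)
theorem F288632 : act 5 n64435 = n64412 := d30_2 D64402 D64435 (iv D64412) (iv D64323) (iv F287753)
theorem F288633 : act 7 n64435 = n64434 := d32_2 (iv F288389) D64435 F288624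
theorem F288634 : act 8 n64435 = n64421 := d33_2 (iv F288390) D64435 (iv D64421)
theorem F288635 : act 9 n64435 = n64424 := d34_2 (iv F288391) D64435 F288561
theorem F288636 : act 6 n64425 = n64435 := d41_3 F288635 F288562 D64425
def n64436 : Q := act 6 n64402
theorem D64436 : act 6 n64402 = n64436 := rfl
theorem F288637 : act 0 n64436 = n64436 := d5_1 D64436 (iv D64436) F288385
theorem F288638 : act 1 n64436 = n64404 := d13_1 D64436 (iv D64404) (iv F288386)
theorem F288639 : act 2 n64436 = n64429 := d20_1 D64436 (iv F288597) (iv F288387)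
theorem F288640 : act 3 n64436 = n64431 := d26_1 D64436 (iv D64431) (iv F288388)
theorem F288641 : act 4 n64436 = n64425 := d31_1 D64436 F288636 (iv D64435)
theorem F288642 : act 5 n64436 = n64428 := d35_1 D64436 F288589 F288295 (iv F287754) D64402
theorem F288643 : act 7 n64436 = n64432 := d39_2 (iv F288389) D64436 F288614 (iv F288475) F288474
theorem F288644 : act 8 n64436 = n64416 := d40_2 (iv F288390) D64436 F288498
theorem F288645 : act 9 n64436 = n64414 := d41_2 (iv F288391) D64436 F288482
def n64437 : Q := act 6 n64405
theorem D64437 : act 6 n64405 = n64437 := rfl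
theorem F288646 : act 0 n64437 = n64437 := d5_1 D64437 (iv D64437) F288408
theorem F288647 : act 1 n64437 = n64407 := d13_1 D64437 (iv D64407) (iv F288409)
theorem F288648 : act 2 n64437 = n64432 := d20_1 D64437 F288614 (iv F288410)
theorem F288649 : act 3 n64437 = n64430 := d26_1 D64437 (iv D64430) (iv F288411)
theorem F288650 : act 4 n64437 = n64409 := d31_1 D64437 F288443 (iv F288412)
theorem F288651 : act 5 n64437 = n64426 := d35_1 D64437 F288575 (iv D64386) (iv F287800) D64405
theorem F288652 : act 7 n64437 = n64429 := d39_2 (iv F288413) D64437 (iv F288597) (iv F288451) F288450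
theorem F288653 : act 9 n64437 = n64406 := d41_2 (iv F288414) D64437 F288420
theorem F288654 : act 8 n64427 = n64437 := d44_5 F288653 (iv D64406) F287802 F288315 (iv F288584)
def n64438 : Q := act 8 n64405
theorem D64438 : act 8 n64405 = n64438 := rfl
theorem F288655 : act 0 n64438 = n64438 := d7_1 D64438 (iv D64438) F288408
theorem F288656 : act 1 n64438 = n64408 := d15_1 D64438 (iv D64408) (iv F288409)
theorem F288657 : act 2 n64438 = n64431 := d22_1 D64438 (iv F288609) (iv F288410)
theorem F288658 : act 3 n64438 = n64434 := d28_1 D64438 (iv D64434) (iv F288503) F288508 (iv F288411)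
theorem F288659 : act 4 n64438 = n64422 := d33_1 D64438 (iv D64422) (iv F288412)
theorem F288660 : act 5 n64438 = n64406 := d37_1 D64438 (iv D64406) D64405
theorem F288661 : act 6 n64438 = n64427 := d40_1 D64438 F288654 (iv D64437)
theorem F288662 : act 7 n64438 = n64433 := d42_1 D64438 F288620 (iv F288413)
theorem F288663 : act 9 n64438 = n64426 := d44_2 (iv F288414) D64438 F288577 F288199 D64387
def n64439 : Q := act 4 n64410
theorem D64439 : act 4 n64410 = n64439 := rfl
theorem F288664 : act 0 n64439 = n64439 := d3_1 D64439 (iv D64439) F288446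
theorem F288665 : act 1 n64439 = n64411 := d11_1 D64439 (iv D64411) (iv F288447)
theorem F288666 : act 2 n64439 = n64434 := d18_1 D64439 F288624 (iv F288448)
theorem F288667 : act 3 n64439 = n64429 := d24_1 D64439 (iv D64429) (iv F288411) F288412 (iv F288449)
theorem F288668 : act 5 n64439 = n64424 := d30_2 D64410 D64439 F288561 F288326 (iv F287872)
theorem F288669 : act 6 n64439 = n64419 := d31_2 (iv F288450) D64439 F288521
theorem F288670 : act 7 n64439 = n64430 := d32_2 (iv F288451) D64439 F288600
theorem F288671 : act 8 n64439 = n64423 := d33_2 (iv F288452) D64439 F288553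
theorem F288672 : act 9 n64439 = n64412 := d34_2 (iv F288453) D64439 (iv D64412)
def n64440 : Q := act 8 n64413
theorem D64440 : act 8 n64413 = n64440 := rfl
theorem F288673 : act 0 n64440 = n64440 := d7_1 D64440 (iv D64440) F288469
theorem F288674 : act 1 n64440 = n64415 := d15_1 D64440 (iv D64415) (iv F288470)
theorem F288675 : act 2 n64440 = n64433 := d22_1 D64440 F288620 (iv F288471)
theorem F288676 : act 3 n64440 = n64432 := d28_1 D64440 (iv D64432) (iv F288388) F288390 (iv F288472)
theorem F288677 : act 4 n64440 = n64420 := d33_1 D64440 F288531 (iv F288473)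
theorem F288678 : act 5 n64440 = n64414 := d37_1 D64440 (iv D64414) D64413
theorem F288679 : act 6 n64440 = n64418 := d40_1 D64440 F288515 (iv F288474)
theorem F288680 : act 7 n64440 = n64431 := d42_1 D64440 (iv F288609) (iv F288475)
theorem F288681 : act 9 n64440 = n64428 := d44_2 (iv F288476) D64440 F288591 F288225 F287956

end Cfsg.Agent.Helper17.Fi23TC
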