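import Cfsg.Agent.Helper17.Fi23TC.Facts1

set_option autoImplicit false
set_option linter.all false

noncomputable section

namespace Cfsg.Agent.Helper17.Fi23TC

theorem F10888 : act 8 n2217 = n2217 := d42_2 F7772 D2217 (iv D2217)
def n2218 : Q := act 1 n1545
theorem D2218 : act 1 n1545 = n2218 := rfl
theorem F10889 : act 2 n2218 = n2218 := d9_2 D1545 D2218 (iv D2218) (iv D1545) F5568
theorem F10890 : act 3 n2218 = n2218 := d10_2 F7774 D2218 (iv D2218)
theorem F10891 : act 5 n2218 = n2218 := d12_2 F7775 D2218 (iv D2218)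
theorem F10892 : act 6 n2218 = n2218 := d13_2 F7776 D2218 (iv D2218)
theorem F10893 : act 7 n2218 = n2218 := d14_2 F7777 D2218 (iv D2218)
theorem F10894 : act 8 n2218 = n2218 := d15_2 F7778 D2218 (iv D2218)
theorem F10895 : act 9 n2218 = n2218 := d16_2 F7779 D2218 (iv D2218)
def n2219 : Q := act 4 n1545
theorem D2219 : act 4 n1545 = n2219 := rfl
theorem F10896 : act 0 n2219 = n2219 := d3_1 D2219 (iv D2219) F7773
theorem F10897 : act 2 n2219 = n1546 := d18_1 D2219 (iv D1546) D1545
theorem F10898 : act 6 n2219 = n2219 := d31_2 F7776 D2219 (iv D2219)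
theorem F10899 : act 7 n2219 = n2219 := d32_2 F7777 D2219 (iv D2219)
theorem F10900 : act 8 n2219 = n2219 := d33_2 F7778 D2219 (iv D2219)
theorem F10901 : act 9 n2219 = n2219 := d34_2 F7779 D2219 (iv D2219)
def n2220 : Q := act 5 n1546
theorem D2220 : act 5 n1546 = n2220 := rfl
theorem F10902 : act 0 n2220 = n2220 := d4_1 D2220 (iv D2220) F7780
theorem F10903 : act 1 n2220 = n2220 := d12_1 D2220 (iv D2220) F7781
theorem F10904 : act 3 n2220 = n1549 := d25_1 D2220 (iv D1549) (iv F7782)
theorem F10905 : act 4 n2220 = n2220 := d30_1 D2220 (iv D2220) (iv D1546) F5569 D1546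
theorem F10906 : act 7 n2220 = n2220 := d36_2 F7784 D2220 (iv D2220)
theorem F10907 : act 8 n2220 = n2220 := d37_2 F7785 D2220 (iv D2220)
theorem F10908 : act 9 n2220 = n2220 := d38_2 F7786 D2220 (iv D2220)
def n2221 : Q := act 0 n1547
theorem D2221 : act 0 n1547 = n2221 := rfl
theorem F10909 : act 1 n2221 = n2221 := d0_2 D1547 D2221 (iv D2221) (iv D1547) F5574
theorem F10910 : act 2 n2221 = n2221 := d1_2 F7787 D2221 (iv D2221)
theorem F10911 : act 3 n2221 = n2221 := d2_2 F7788 D2221 (iv D2221)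
theorem F10912 : act 6 n2221 = n2221 := d5_2 F7789 D2221 (iv D2221)
theorem F10913 : act 7 n2221 = n2221 := d6_2 F7790 D2221 (iv D2221)
theorem F10914 : act 8 n2221 = n1550 := d7_2 (iv F7791) D2221 (iv D1550)
theorem F10915 : act 9 n2221 = n2221 := d8_2 F7792 D2221 (iv D2221)
def n2222 : Q := act 4 n1547
theorem D2222 : act 4 n1547 = n2222 := rfl
theorem F10916 : act 1 n2222 = n1548 := d11_1 D2222 (iv D1548) D1547
theorem F10917 : act 2 n2222 = n2222 := d18_1 D2222 (iv D2222) F7787
theorem F10918 : act 6 n2222 = n2222 := d31_2 F7789 D2222 (iv D2222)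
theorem F10919 : act 7 n2222 = n2222 := d32_2 F7790 D2222 (iv D2222)
theorem F10920 : act 8 n2222 = n1551 := d33_2 (iv F7791) D2222 (iv D1551)
theorem F10921 : act 9 n2222 = n2222 := d34_2 F7792 D2222 (iv D2222)
def n2223 : Q := act 3 n1548
theorem D2223 : act 3 n1548 = n2223 := rfl
theorem F10922 : act 0 n2223 = n2223 := d2_1 D2223 (iv D2223) F7793
theorem F10923 : act 4 n2223 = n2223 := d24_2 D1548 D2223 (iv D2223) (iv D1548) F5575
theorem F10924 : act 6 n2223 = n2223 := d26_2 F7795 D2223 (iv D2223)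
theorem F10925 : act 7 n2223 = n2223 := d27_2 F7796 D2223 (iv D2223)
theorem F10926 : act 9 n2223 = n2223 := d29_2 F7798 D2223 (iv D2223)
def n2224 : Q := act 5 n1548
theorem D2224 : act 5 n1548 = n2224 := rfl
theorem F10927 : act 0 n2224 = n2224 := d4_1 D2224 (iv D2224) F7793
theorem F10928 : act 2 n2224 = n1549 := d19_1 D2224 (iv D1549) (iv F7794)
theorem F10929 : act 7 n2224 = n2224 := d36_2 F7796 D2224 (iv D2224)
theorem F10930 : act 8 n2224 = n1553 := d37_2 (iv F7797) D2224 (iv D1553)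
theorem F10931 : act 9 n2224 = n2224 := d38_2 F7798 D2224 (iv D2224)
def n2225 : Q := act 6 n1549
theorem D2225 : act 6 n1549 = n2225 := rfl
theorem F10932 : act 0 n2225 = n2225 := d5_1 D2225 (iv D2225) F7799
theorem F10933 : act 1 n2225 = n2225 := d13_1 D2225 (iv D2225) F7800
theorem F10934 : act 5 n2225 = n2225 := d35_1 D2225 (iv D2225) (iv D1549) F5582 D1549
theorem F10935 : act 8 n2225 = n1554 := d40_2 (iv F7802) D2225 (iv D1554)
theorem F10936 : act 9 n2225 = n2225 := d41_2 F7803 D2225 (iv D2225)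
def n2226 : Q := act 4 n1550
theorem D2226 : act 4 n1550 = n2226 := rfl
theorem F10937 : act 0 n2226 = n1551 := d3_1 D2226 (iv D1551) D1550
theorem F10938 : act 1 n2226 = n2226 := d11_1 D2226 (iv D2226) F7804
theorem F10939 : act 2 n2226 = n2226 := d18_1 D2226 (iv D2226) F7805
theorem F10940 : act 6 n2226 = n2226 := d31_2 F7807 D2226 (iv D2226)
theorem F10941 : act 7 n2226 = n2226 := d32_2 F7808 D2226 (iv D2226)
theorem F10942 : act 9 n2226 = n1555 := d34_2 (iv F7809) D2226 (iv D1555)
def n2227 : Q := act 3 n1551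
theorem D2227 : act 3 n1551 = n2227 := rfl
theorem F10943 : act 1 n2227 = n1552 := d10_1 D2227 (iv D1552) (iv F7810)
theorem F10944 : act 4 n2227 = n1620 := d24_2 D1551 D2227 (iv D1620) (iv D1129) (iv F5587)
theorem F10945 : act 6 n2227 = n2227 := d26_2 F7812 D2227 (iv D2227)
theorem F10946 : act 7 n2227 = n2227 := d27_2 F7813 D2227 (iv D2227)
theorem F10947 : act 9 n2227 = n1556 := d29_2 (iv F7814) D2227 (iv D1556)
def n2228 : Q := act 5 n1551
theorem D2228 : act 5 n1551 = n2228 := rfl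
theorem F10948 : act 1 n2228 = n1553 := d12_1 D2228 (iv D1553) (iv F7810)
theorem F10949 : act 2 n2228 = n2228 := d19_1 D2228 (iv D2228) F7811
theorem F10950 : act 7 n2228 = n2228 := d36_2 F7813 D2228 (iv D2228)
theorem F10951 : act 9 n2228 = n1557 := d38_2 (iv F7814) D2228 (iv D1557)
def n2229 : Q := act 5 n1552
theorem D2229 : act 5 n1552 = n2229 := rfl
theorem F10952 : act 0 n2229 = n2229 := d4_1 D2229 (iv D2229) F7815
theorem F10953 : act 2 n2229 = n2229 := d19_1 D2229 (iv D2229) F7816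
theorem F10954 : act 3 n2229 = n1553 := d25_1 D2229 (iv D1553) D1552
theorem F10955 : act 7 n2229 = n2229 := d36_2 F7819 D2229 (iv D2229)
theorem F10956 : act 9 n2229 = n1558 := d38_2 (iv F7820) D2229 (iv D1558)
def n2230 : Q := act 8 n1552
theorem D2230 : act 8 n1552 = n2230 := rfl
theorem F10957 : act 0 n2230 = n2230 := d7_1 D2230 (iv D2230) F7815
theorem F10958 : act 2 n2230 = n2230 := d22_1 D2230 (iv D2230) F7816
theorem F10959 : act 4 n2230 = n1623 := d33_1 D2230 (iv D1623) (iv F7817)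
theorem F10960 : act 6 n2230 = n2230 := d40_1 D2230 (iv D2230) F7818
theorem F10961 : act 7 n2230 = n2230 := d42_1 D2230 (iv D2230) F7819
def n2231 : Q := act 6 n1553
theorem D2231 : act 6 n1553 = n2231 := rfl
theorem F10962 : act 0 n2231 = n2231 := d5_1 D2231 (iv D2231) F7821
theorem F10963 : act 2 n2231 = n1554 := d20_1 D2231 (iv D1554) (iv F7822)
theorem F10964 : act 5 n2231 = n2231 := d35_1 D2231 (iv D2231) (iv D1553) F5593 D1553
theorem F10965 : act 9 n2231 = n1560 := d41_2 (iv F7824) D2231 (iv D1560)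
def n2232 : Q := act 7 n1554
theorem D2232 : act 7 n1554 = n2232 := rfl
theorem F10966 : act 0 n2232 = n2232 := d6_1 D2232 (iv D2232) F7825
theorem F10967 : act 1 n2232 = n2232 := d14_1 D2232 (iv D2232) F7826
theorem F10968 : act 3 n2232 = n2232 := d27_1 D2232 (iv D2232) F7827
theorem F10969 : act 5 n2232 = n2232 := d36_1 D2232 (iv D2232) F7828
theorem F10970 : act 6 n2232 = n2232 := d39_1 D2232 (iv D2232) (iv D1554) F5599 D1554
theorem F10971 : act 9 n2232 = n1561 := d43_2 (iv F7829) D2232 (iv D1561)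
def n2233 : Q := act 3 n1555
theorem D2233 : act 3 n1555 = n2233 := rfl
theorem F10972 : act 0 n2233 = n1556 := d2_1 D2233 (iv D1556) (iv F7830)
theorem F10973 : act 1 n2233 = n2233 := d10_1 D2233 (iv D2233) F7831
theorem F10974 : act 4 n2233 = n1626 := d24_2 D1555 D2233 (iv D1626) (iv D1133) (iv F5603)
theorem F10975 : act 6 n2233 = n2233 := d26_2 F7833 D2233 (iv D2233)
theorem F10976 : act 7 n2233 = n2233 := d27_2 F7834 D2233 (iv D2233)
def n2234 : Q := act 5 n1555
theorem D2234 : act 5 n1555 = n2234 := rfl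
theorem F10977 : act 0 n2234 = n1557 := d4_1 D2234 (iv D1557) (iv F7830)
theorem F10978 : act 1 n2234 = n2234 := d12_1 D2234 (iv D2234) F7831
theorem F10979 : act 2 n2234 = n2234 := d19_1 D2234 (iv D2234) F7832
theorem F10980 : act 7 n2234 = n2234 := d36_2 F7834 D2234 (iv D2234)
theorem F10981 : act 8 n2234 = n2234 := d37_2 F7835 D2234 (iv D2234)
def n2235 : Q := act 2 n1556
theorem D2235 : act 2 n1556 = n2235 := rfl
theorem F10982 : act 1 n2235 = n2235 := d9_1 D2235 (iv D2235) F7836 F5613 (iv F7836)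
theorem F10983 : act 3 n2235 = n2235 := d17_2 D1556 D2235 (iv D2235) (iv D1556) F5608
theorem F10984 : act 4 n2235 = n1628 := d18_2 (iv F7837) D2235 (iv D1628)
theorem F10985 : act 6 n2235 = n2235 := d20_2 F7838 D2235 (iv D2235)
theorem F10986 : act 7 n2235 = n2235 := d21_2 F7839 D2235 (iv D2235)
def n2236 : Q := act 5 n1556
theorem D2236 : act 5 n1556 = n2236 := rfl
theorem F10987 : act 1 n2236 = n1558 := d12_1 D2236 (iv D1558) (iv F7836)
theorem F10988 : act 3 n2236 = n1557 := d25_1 D2236 (iv D1557) D1556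
theorem F10989 : act 7 n2236 = n2236 := d36_2 F7839 D2236 (iv D2236)
def n2237 : Q := act 8 n1556
theorem D2237 : act 8 n1556 = n2237 := rfl
theorem F10990 : act 1 n2237 = n1559 := d15_1 D2237 (iv D1559) (iv F7836)
theorem F10991 : act 3 n2237 = n2237 := d28_1 D2237 (iv D2237) (iv D1556) F5611 D1556
theorem F10992 : act 4 n2237 = n1630 := d33_1 D2237 (iv D1630) (iv F7837)
theorem F10993 : act 6 n2237 = n2237 := d40_1 D2237 (iv D2237) F7838
theorem F10994 : act 7 n2237 = n2237 := d42_1 D2237 (iv D2237) F7839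
def n2238 : Q := act 6 n1557
theorem D2238 : act 6 n1557 = n2238 := rfl
theorem F10995 : act 1 n2238 = n1560 := d13_1 D2238 (iv D1560) (iv F7840)
theorem F10996 : act 2 n2238 = n2238 := d20_1 D2238 (iv D2238) F7841
theorem F10997 : act 5 n2238 = n2238 := d35_1 D2238 (iv D2238) (iv D1557) F5609 D1557
theorem F10998 : act 8 n2238 = n2238 := d40_2 F7843 D2238 (iv D2238)
def n2239 : Q := act 4 n1558
theorem D2239 : act 4 n1558 = n2239 := rfl
theorem F10999 : act 0 n2239 = n2239 := d3_1 D2239 (iv D2239) F7844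
theorem F11000 : act 2 n2239 = n2239 := d18_1 D2239 (iv D2239) F7845
theorem F11001 : act 5 n2239 = n1632 := d30_2 D1558 D2239 (iv D1632) (iv D1136) (iv F5614)
theorem F11002 : act 7 n2239 = n2239 := d32_2 F7847 D2239 (iv D2239)
def n2240 : Q := act 6 n1558
theorem D2240 : act 6 n1558 = n2240 := rfl
theorem F11003 : act 0 n2240 = n2240 := d5_1 D2240 (iv D2240) F7844
theorem F11004 : act 2 n2240 = n2240 := d20_1 D2240 (iv D2240) F7845
theorem F11005 : act 3 n2240 = n1560 := d26_1 D2240 (iv D1560) (iv F7846)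
theorem F11006 : act 5 n2240 = n2240 := d35_1 D2240 (iv D2240) (iv D1558) F5615 D1558
def n2241 : Q := act 8 n1558
theorem D2241 : act 8 n1558 = n2241 := rfl
theorem F11007 : act 0 n2241 = n2241 := d7_1 D2241 (iv D2241) F7844
theorem F11008 : act 2 n2241 = n2241 := d22_1 D2241 (iv D2241) F7845
theorem F11009 : act 3 n2241 = n2241 := d28_1 D2241 (iv D2241) F7846 F5620 (iv F7846)
theorem F11010 : act 5 n2241 = n1559 := d37_1 D2241 (iv D1559) D1558
theorem F11011 : act 7 n2241 = n2241 := d42_1 D2241 (iv D2241) F7847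
def n2242 : Q := act 9 n1559
theorem D2242 : act 9 n1559 = n2242 := rfl
theorem F11012 : act 0 n2242 = n2242 := d8_1 D2242 (iv D2242) F7848
theorem F11013 : act 2 n2242 = n2242 := d23_1 D2242 (iv D2242) F7849
theorem F11014 : act 3 n2242 = n2242 := d29_1 D2242 (iv D2242) F7850
theorem F11015 : act 4 n2242 = n1635 := d34_1 D2242 (iv D1635) (iv F7851)
theorem F11016 : act 6 n2242 = n2242 := d41_1 D2242 (iv D2242) F7852
theorem F11017 : act 7 n2242 = n2242 := d43_1 D2242 (iv D2242) F7853
def n2243 : Q := act 7 n1560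
theorem D2243 : act 7 n1560 = n2243 := rfl
theorem F11018 : act 0 n2243 = n2243 := d6_1 D2243 (iv D2243) F7854
theorem F11019 : act 2 n2243 = n1561 := d21_1 D2243 (iv D1561) (iv F7855)
theorem F11020 : act 5 n2243 = n2243 := d36_1 D2243 (iv D2243) F7856
theorem F11021 : act 6 n2243 = n2243 := d39_1 D2243 (iv D2243) (iv D1560) F5619 D1560
theorem F11022 : act 8 n2243 = n2243 := d42_2 F7857 D2243 (iv D2243)
def n2244 : Q := act 4 n1562
theorem D2244 : act 4 n1562 = n2244 := rfl
theorem F11023 : act 0 n2244 = n2244 := d3_1 D2244 (iv D2244) F7864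
theorem F11024 : act 1 n2244 = n1681 := d11_1 D2244 (iv D1681) (iv F7865)
theorem F11025 : act 2 n2244 = n2244 := d18_1 D2244 (iv D2244) F7866
theorem F11026 : act 3 n2244 = n2244 := d24_1 D2244 (iv D2244) (iv D1562) F5628 D1562
theorem F11027 : act 6 n2244 = n1565 := d31_2 (iv F7868) D2244 (iv D1565)
theorem F11028 : act 7 n2244 = n2244 := d32_2 F7869 D2244 (iv D2244)
theorem F11029 : act 8 n2244 = n2244 := d33_2 F7870 D2244 (iv D2244)
def n2245 : Q := act 9 n1562
theorem D2245 : act 9 n1562 = n2245 := rfl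
theorem F11030 : act 0 n2245 = n2245 := d8_1 D2245 (iv D2245) F7864
theorem F11031 : act 1 n2245 = n1682 := d16_1 D2245 (iv D1682) (iv F7865)
theorem F11032 : act 2 n2245 = n2245 := d23_1 D2245 (iv D2245) F7866
theorem F11033 : act 3 n2245 = n1563 := d29_1 D2245 (iv D1563) D1562
theorem F11034 : act 5 n2245 = n2245 := d38_1 D2245 (iv D2245) F7867
theorem F11035 : act 6 n2245 = n1566 := d41_1 D2245 (iv D1566) (iv F7868)
theorem F11036 : act 7 n2245 = n2245 := d43_1 D2245 (iv D2245) F7869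
def n2246 : Q := act 8 n1563
theorem D2246 : act 8 n1563 = n2246 := rfl
theorem F11037 : act 0 n2246 = n2246 := d7_1 D2246 (iv D2246) F7871
theorem F11038 : act 1 n2246 = n1683 := d15_1 D2246 (iv D1683) (iv F7872)
theorem F11039 : act 4 n2246 = n2246 := d33_1 D2246 (iv D2246) F7873
theorem F11040 : act 5 n2246 = n2246 := d37_1 D2246 (iv D2246) F7874
theorem F11041 : act 6 n2246 = n1567 := d40_1 D2246 (iv D1567) (iv F7875)
theorem F11042 : act 7 n2246 = n2246 := d42_1 D2246 (iv D2246) F7876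
theorem F11043 : act 9 n2246 = n1564 := d44_2 D1563 D2246 (iv D1564) (iv D1091) D1090
def n2247 : Q := act 3 n1564
theorem D2247 : act 3 n1564 = n2247 := rfl
theorem F11044 : act 0 n2247 = n2247 := d2_1 D2247 (iv D2247) F7877
theorem F11045 : act 1 n2247 = n1684 := d10_1 D2247 (iv D1684) (iv F7878)
theorem F11046 : act 5 n2247 = n2247 := d25_2 F7880 D2247 (iv D2247)
theorem F11047 : act 6 n2247 = n1568 := d26_2 (iv F7881) D2247 (iv D1568)
theorem F11048 : act 7 n2247 = n2247 := d27_2 F7882 D2247 (iv D2247)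
theorem F11049 : act 8 n2247 = n2247 := d28_2 D1564 D2247 (iv D2247) (iv D1564) F5634
def n2248 : Q := act 9 n1565
theorem D2248 : act 9 n1565 = n2248 := rfl
theorem F11050 : act 0 n2248 = n2248 := d8_1 D2248 (iv D2248) F7883
theorem F11051 : act 1 n2248 = n1687 := d16_1 D2248 (iv D1687) (iv F7884)
theorem F11052 : act 2 n2248 = n2248 := d23_1 D2248 (iv D2248) F7885
theorem F11053 : act 3 n2248 = n2248 := d29_1 D2248 (iv D2248) F7886
theorem F11054 : act 4 n2248 = n1566 := d34_1 D2248 (iv D1566) D1565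
theorem F11055 : act 5 n2248 = n2248 := d38_1 D2248 (iv D2248) F7887
theorem F11056 : act 7 n2248 = n1569 := d43_1 D2248 (iv D1569) (iv F7888)
def n2249 : Q := act 8 n1566
theorem D2249 : act 8 n1566 = n2249 := rfl
theorem F11057 : act 0 n2249 = n2249 := d7_1 D2249 (iv D2249) F7890
theorem F11058 : act 1 n2249 = n1688 := d15_1 D2249 (iv D1688) (iv F7891)
theorem F11059 : act 2 n2249 = n2249 := d22_1 D2249 (iv D2249) F7892
theorem F11060 : act 5 n2249 = n1574 := d37_1 D2249 (iv D1574) (iv F7894)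
theorem F11061 : act 7 n2249 = n1570 := d42_1 D2249 (iv D1570) (iv F7895)
theorem F11062 : act 9 n2249 = n2249 := d44_2 D1566 D2249 (iv D2249) (iv D1566) F5644
def n2250 : Q := act 3 n1567
theorem D2250 : act 3 n1567 = n2250 := rfl
theorem F11063 : act 0 n2250 = n2250 := d2_1 D2250 (iv D2250) F7896
theorem F11064 : act 1 n2250 = n1689 := d10_1 D2250 (iv D1689) (iv F7897)
theorem F11065 : act 5 n2250 = n1575 := d25_2 (iv F7899) D2250 (iv D1575)
theorem F11066 : act 7 n2250 = n1571 := d27_2 (iv F7900) D2250 (iv D1571)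
theorem F11067 : act 9 n2250 = n1568 := d29_2 (iv F7901) D2250 (iv D1568)
def n2251 : Q := act 2 n1568
theorem D2251 : act 2 n1568 = n2251 := rfl
theorem F11068 : act 0 n2251 = n2251 := d1_1 D2251 (iv D2251) F7902
theorem F11069 : act 5 n2251 = n1576 := d19_2 (iv F7904) D2251 (iv D1576)
theorem F11070 : act 7 n2251 = n1572 := d21_2 (iv F7905) D2251 (iv D1572)
theorem F11071 : act 8 n2251 = n2251 := d22_2 F7906 D2251 (iv D2251)
def n2252 : Q := act 4 n1568
theorem D2252 : act 4 n1568 = n2252 := rfl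
theorem F11072 : act 0 n2252 = n2252 := d3_1 D2252 (iv D2252) F7902
theorem F11073 : act 1 n2252 = n1691 := d11_1 D2252 (iv D1691) (iv F7903)
theorem F11074 : act 3 n2252 = n2252 := d24_1 D2252 (iv D2252) (iv D1568) F5652 D1568
theorem F11075 : act 7 n2252 = n1573 := d32_2 (iv F7905) D2252 (iv D1573)
theorem F11076 : act 8 n2252 = n2252 := d33_2 F7906 D2252 (iv D2252)
def n2253 : Q := act 8 n1569
theorem D2253 : act 8 n1569 = n2253 := rfl
theorem F11077 : act 0 n2253 = n2253 := d7_1 D2253 (iv D2253) F7907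
theorem F11078 : act 1 n2253 = n1695 := d15_1 D2253 (iv D1695) (iv F7908)
theorem F11079 : act 2 n2253 = n2253 := d22_1 D2253 (iv D2253) F7909
theorem F11080 : act 4 n2253 = n1570 := d33_1 D2253 (iv D1570) (iv F7911)
theorem F11081 : act 5 n2253 = n2253 := d37_1 D2253 (iv D2253) F7912
theorem F11082 : act 6 n2253 = n2253 := d40_1 D2253 (iv D2253) F7913
theorem F11083 : act 9 n2253 = n2253 := d44_2 D1569 D2253 (iv D2253) (iv D1569) F5661
def n2254 : Q := act 3 n1570
theorem D2254 : act 3 n1570 = n2254 := rfl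
theorem F11084 : act 0 n2254 = n2254 := d2_1 D2254 (iv D2254) F7914
theorem F11085 : act 1 n2254 = n1696 := d10_1 D2254 (iv D1696) (iv F7915)
theorem F11086 : act 5 n2254 = n1578 := d25_2 (iv F7917) D2254 (iv D1578)
theorem F11087 : act 6 n2254 = n2254 := d26_2 F7918 D2254 (iv D2254)
theorem F11088 : act 8 n2254 = n1571 := d28_2 D1570 D2254 (iv D1571) (iv D1097) (iv F5665)
theorem F11089 : act 9 n2254 = n2254 := d29_2 F7919 D2254 (iv D2254)
def n2255 : Q := act 2 n1571
theorem D2255 : act 2 n1571 = n2255 := rfl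
theorem F11090 : act 0 n2255 = n2255 := d1_1 D2255 (iv D2255) F7920
theorem F11091 : act 5 n2255 = n1579 := d19_2 (iv F7922) D2255 (iv D1579)
theorem F11092 : act 6 n2255 = n2255 := d20_2 F7923 D2255 (iv D2255)
theorem F11093 : act 9 n2255 = n1572 := d23_2 (iv F7924) D2255 (iv D1572)
def n2256 : Q := act 4 n1571
theorem D2256 : act 4 n1571 = n2256 := rfl
theorem F11094 : act 0 n2256 = n2256 := d3_1 D2256 (iv D2256) F7920
theorem F11095 : act 1 n2256 = n1698 := d11_1 D2256 (iv D1698) (iv F7921)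
theorem F11096 : act 3 n2256 = n2256 := d24_1 D2256 (iv D2256) (iv D1571) F5670 D1571
theorem F11097 : act 6 n2256 = n2256 := d31_2 F7923 D2256 (iv D2256)
theorem F11098 : act 9 n2256 = n1573 := d34_2 (iv F7924) D2256 (iv D1573)
def n2257 : Q := act 1 n1572
theorem D2257 : act 1 n1572 = n2257 := rfl
theorem F11099 : act 2 n2257 = n1699 := d9_2 D1572 D2257 (iv D1699) (iv D1183) (iv F5675)
theorem F11100 : act 5 n2257 = n1581 := d12_2 (iv F7926) D2257 (iv D1581)
theorem F11101 : act 6 n2257 = n2257 := d13_2 F7927 D2257 (iv D2257)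
theorem F11102 : act 8 n2257 = n2257 := d15_2 F7928 D2257 (iv D2257)
def n2258 : Q := act 4 n1572
theorem D2258 : act 4 n1572 = n2258 := rfl
theorem F11103 : act 0 n2258 = n2258 := d3_1 D2258 (iv D2258) F7925
theorem F11104 : act 2 n2258 = n1573 := d18_1 D2258 (iv D1573) D1572
theorem F11105 : act 6 n2258 = n2258 := d31_2 F7927 D2258 (iv D2258)
theorem F11106 : act 8 n2258 = n2258 := d33_2 F7928 D2258 (iv D2258)
def n2259 : Q := act 5 n1573
theorem D2259 : act 5 n1573 = n2259 := rfl
theorem F11107 : act 0 n2259 = n2259 := d4_1 D2259 (iv D2259) F7929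
theorem F11108 : act 1 n2259 = n1701 := d12_1 D2259 (iv D1701) (iv F7930)
theorem F11109 : act 3 n2259 = n2259 := d25_1 D2259 (iv D2259) F7931
theorem F11110 : act 4 n2259 = n1583 := d30_1 D2259 (iv D1583) (iv D1105) (iv F5676) D1573
theorem F11111 : act 8 n2259 = n2259 := d37_2 F7933 D2259 (iv D2259)
def n2260 : Q := act 3 n1574
theorem D2260 : act 3 n1574 = n2260 := rfl
theorem F11112 : act 0 n2260 = n2260 := d2_1 D2260 (iv D2260) F7934
theorem F11113 : act 1 n2260 = n1703 := d10_1 D2260 (iv D1703) (iv F7935)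
theorem F11114 : act 6 n2260 = n2260 := d26_2 F7938 D2260 (iv D2260)
theorem F11115 : act 7 n2260 = n1578 := d27_2 (iv F7939) D2260 (iv D1578)
theorem F11116 : act 8 n2260 = n1575 := d28_2 D1574 D2260 (iv D1575) (iv D1100) (iv F5682)
theorem F11117 : act 9 n2260 = n2260 := d29_2 F7940 D2260 (iv D2260)
def n2261 : Q := act 2 n1575
theorem D2261 : act 2 n1575 = n2261 := rfl
theorem F11118 : act 0 n2261 = n2261 := d1_1 D2261 (iv D2261) F7941
theorem F11119 : act 6 n2261 = n2261 := d20_2 F7943 D2261 (iv D2261)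
theorem F11120 : act 7 n2261 = n1579 := d21_2 (iv F7944) D2261 (iv D1579)
theorem F11121 : act 9 n2261 = n1576 := d23_2 (iv F7945) D2261 (iv D1576)
def n2262 : Q := act 4 n1575
theorem D2262 : act 4 n1575 = n2262 := rfl
theorem F11122 : act 0 n2262 = n2262 := d3_1 D2262 (iv D2262) F7941
theorem F11123 : act 1 n2262 = n1705 := d11_1 D2262 (iv D1705) (iv F7942)
theorem F11124 : act 3 n2262 = n1595 := d24_1 D2262 (iv D1595) (iv D1112) (iv F5688) D1575
theorem F11125 : act 6 n2262 = n2262 := d31_2 F7943 D2262 (iv D2262)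
theorem F11126 : act 7 n2262 = n1580 := d32_2 (iv F7944) D2262 (iv D1580)
theorem F11127 : act 9 n2262 = n1577 := d34_2 (iv F7945) D2262 (iv D1577)
def n2263 : Q := act 1 n1576
theorem D2263 : act 1 n1576 = n2263 := rfl
theorem F11128 : act 2 n2263 = n1706 := d9_2 D1576 D2263 (iv D1706) (iv D1188) (iv F5693)
theorem F11129 : act 6 n2263 = n2263 := d13_2 F7947 D2263 (iv D2263)
theorem F11130 : act 7 n2263 = n1581 := d14_2 (iv F7948) D2263 (iv D1581)
theorem F11131 : act 8 n2263 = n2263 := d15_2 F7949 D2263 (iv D2263)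
def n2264 : Q := act 4 n1576
theorem D2264 : act 4 n1576 = n2264 := rfl
theorem F11132 : act 0 n2264 = n2264 := d3_1 D2264 (iv D2264) F7946
theorem F11133 : act 2 n2264 = n1577 := d18_1 D2264 (iv D1577) D1576
theorem F11134 : act 6 n2264 = n2264 := d31_2 F7947 D2264 (iv D2264)
theorem F11135 : act 7 n2264 = n1582 := d32_2 (iv F7948) D2264 (iv D1582)
theorem F11136 : act 8 n2264 = n2264 := d33_2 F7949 D2264 (iv D2264)
def n2265 : Q := act 5 n1577
theorem D2265 : act 5 n1577 = n2265 := rfl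
theorem F11137 : act 0 n2265 = n2265 := d4_1 D2265 (iv D2265) F7950
theorem F11138 : act 1 n2265 = n1708 := d12_1 D2265 (iv D1708) (iv F7951)
theorem F11139 : act 3 n2265 = n1598 := d25_1 D2265 (iv D1598) (iv F7952)
theorem F11140 : act 7 n2265 = n1583 := d36_2 (iv F7954) D2265 (iv D1583)
theorem F11141 : act 8 n2265 = n2265 := d37_2 F7955 D2265 (iv D2265)
def n2266 : Q := act 2 n1578
theorem D2266 : act 2 n1578 = n2266 := rfl
theorem F11142 : act 0 n2266 = n2266 := d1_1 D2266 (iv D2266) F7956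
theorem F11143 : act 3 n2266 = n2266 := d17_2 D1578 D2266 (iv D2266) (iv D1578) F5699
theorem F11144 : act 6 n2266 = n1584 := d20_2 (iv F7958) D2266 (iv D1584)
theorem F11145 : act 8 n2266 = n1579 := d22_2 (iv F7959) D2266 (iv D1579)
theorem F11146 : act 9 n2266 = n2266 := d23_2 F7960 D2266 (iv D2266)
def n2267 : Q := act 4 n1578
theorem D2267 : act 4 n1578 = n2267 := rfl
theorem F11147 : act 0 n2267 = n2267 := d3_1 D2267 (iv D2267) F7956
theorem F11148 : act 1 n2267 = n1711 := d11_1 D2267 (iv D1711) (iv F7957)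
theorem F11149 : act 3 n2267 = n2267 := d24_1 D2267 (iv D2267) (iv D1578) F5700 D1578
theorem F11150 : act 6 n2267 = n1585 := d31_2 (iv F7958) D2267 (iv D1585)
theorem F11151 : act 8 n2267 = n1580 := d33_2 (iv F7959) D2267 (iv D1580)
theorem F11152 : act 9 n2267 = n2267 := d34_2 F7960 D2267 (iv D2267)
def n2268 : Q := act 1 n1579
theorem D2268 : act 1 n1579 = n2268 := rfl
theorem F11153 : act 2 n2268 = n1712 := d9_2 D1579 D2268 (iv D1712) (iv D1192) (iv F5704)
theorem F11154 : act 6 n2268 = n1586 := d13_2 (iv F7962) D2268 (iv D1586)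
theorem F11155 : act 9 n2268 = n1581 := d16_2 (iv F7963) D2268 (iv D1581)
def n2269 : Q := act 4 n1579
theorem D2269 : act 4 n1579 = n2269 := rfl
theorem F11156 : act 0 n2269 = n2269 := d3_1 D2269 (iv D2269) F7961
theorem F11157 : act 2 n2269 = n1580 := d18_1 D2269 (iv D1580) D1579
theorem F11158 : act 6 n2269 = n1587 := d31_2 (iv F7962) D2269 (iv D1587)
theorem F11159 : act 9 n2269 = n1582 := d34_2 (iv F7963) D2269 (iv D1582)
def n2270 : Q := act 5 n1580
theorem D2270 : act 5 n1580 = n2270 := rfl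
theorem F11160 : act 0 n2270 = n2270 := d4_1 D2270 (iv D2270) F7964
theorem F11161 : act 1 n2270 = n1714 := d12_1 D2270 (iv D1714) (iv F7965)
theorem F11162 : act 3 n2270 = n1601 := d25_1 D2270 (iv D1601) (iv F7966)
theorem F11163 : act 9 n2270 = n1583 := d38_2 (iv F7968) D2270 (iv D1583)
def n2271 : Q := act 0 n1581
theorem D2271 : act 0 n1581 = n2271 := rfl
theorem F11164 : act 1 n2271 = n2271 := d0_2 D1581 D2271 (iv D2271) (iv D1581) F5707
theorem F11165 : act 2 n2271 = n1715 := d1_2 (iv F7969) D2271 (iv D1715)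
theorem F11166 : act 6 n2271 = n1589 := d5_2 (iv F7970) D2271 (iv D1589)
theorem F11167 : act 8 n2271 = n2271 := d7_2 F7971 D2271 (iv D2271)
def n2272 : Q := act 4 n1581
theorem D2272 : act 4 n1581 = n2272 := rfl
theorem F11168 : act 1 n2272 = n1582 := d11_1 D2272 (iv D1582) D1581
theorem F11169 : act 2 n2272 = n1716 := d18_1 D2272 (iv D1716) (iv F7969)
theorem F11170 : act 6 n2272 = n1590 := d31_2 (iv F7970) D2272 (iv D1590)
theorem F11171 : act 8 n2272 = n2272 := d33_2 F7971 D2272 (iv D2272)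
def n2273 : Q := act 3 n1582
theorem D2273 : act 3 n1582 = n2273 := rfl
theorem F11172 : act 0 n2273 = n2273 := d2_1 D2273 (iv D2273) F7972
theorem F11173 : act 2 n2273 = n1604 := d17_1 D2273 (iv D1604) F5776 (iv F5712) (iv F7973)
theorem F11174 : act 6 n2273 = n1591 := d26_2 (iv F7974) D2273 (iv D1591)
def n2274 : Q := act 5 n1582
theorem D2274 : act 5 n1582 = n2274 := rfl
theorem F11175 : act 0 n2274 = n2274 := d4_1 D2274 (iv D2274) F7972
theorem F11176 : act 2 n2274 = n1583 := d19_1 D2274 (iv D1583) (iv F7973)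
theorem F11177 : act 8 n2274 = n2274 := d37_2 F7975 D2274 (iv D2274)
def n2275 : Q := act 6 n1583
theorem D2275 : act 6 n1583 = n2275 := rfl
theorem F11178 : act 0 n2275 = n2275 := d5_1 D2275 (iv D2275) F7976
theorem F11179 : act 1 n2275 = n1719 := d13_1 D2275 (iv D1719) (iv F7977)
theorem F11180 : act 3 n2275 = n1606 := d26_1 D2275 (iv D1606) (iv F7978)
theorem F11181 : act 5 n2275 = n1593 := d35_1 D2275 (iv D1593) (iv D1111) (iv F5713) D1583
theorem F11182 : act 8 n2275 = n2275 := d40_2 F7979 D2275 (iv D2275)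
def n2276 : Q := act 1 n1584
theorem D2276 : act 1 n1584 = n2276 := rfl
theorem F11183 : act 2 n2276 = n1722 := d9_2 D1584 D2276 (iv D1722) (iv D1198) (iv F5716)
theorem F11187 : act 8 n2276 = n1586 := d15_2 (iv F7984) D2276 (iv D1586)
def n2277 : Q := act 4 n1584
theorem D2277 : act 4 n1584 = n2277 := rfl
theorem F11189 : act 0 n2277 = n2277 := d3_1 D2277 (iv D2277) F7980
theorem F11190 : act 2 n2277 = n1585 := d18_1 D2277 (iv D1585) D1584
theorem F11191 : act 7 n2277 = n2277 := d32_2 F7983 D2277 (iv D2277)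
theorem F11192 : act 8 n2277 = n1587 := d33_2 (iv F7984) D2277 (iv D1587)
theorem F11193 : act 9 n2277 = n2277 := d34_2 F7985 D2277 (iv D2277)
def n2278 : Q := act 5 n1585
theorem D2278 : act 5 n1585 = n2278 := rfl
theorem F11194 : act 0 n2278 = n2278 := d4_1 D2278 (iv D2278) F7986
theorem F11195 : act 1 n2278 = n1724 := d12_1 D2278 (iv D1724) (iv F7987)
theorem F11196 : act 3 n2278 = n2278 := d25_1 D2278 (iv D2278) F7988
theorem F11197 : act 4 n2278 = n2278 := d30_1 D2278 (iv D2278) (iv D1585) F5717 D1585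
theorem F11198 : act 7 n2278 = n2278 := d36_2 F7989 D2278 (iv D2278)
theorem F11199 : act 8 n2278 = n1588 := d37_2 (iv F7990) D2278 (iv D1588)
theorem F11200 : act 9 n2278 = n2278 := d38_2 F7991 D2278 (iv D2278)
def n2279 : Q := act 0 n1586
theorem D2279 : act 0 n1586 = n2279 := rfl
theorem F11202 : act 2 n2279 = n1725 := d1_2 (iv F7992) D2279 (iv D1725)
theorem F11205 : act 9 n2279 = n1589 := d8_2 (iv F7995) D2279 (iv D1589)
def n2280 : Q := act 4 n1586
theorem D2280 : act 4 n1586 = n2280 := rfl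
theorem F11206 : act 1 n2280 = n1587 := d11_1 D2280 (iv D1587) D1586
theorem F11207 : act 2 n2280 = n1726 := d18_1 D2280 (iv D1726) (iv F7992)
theorem F11208 : act 7 n2280 = n2280 := d32_2 F7994 D2280 (iv D2280)
theorem F11209 : act 9 n2280 = n1590 := d34_2 (iv F7995) D2280 (iv D1590)
def n2281 : Q := act 3 n1587
theorem D2281 : act 3 n1587 = n2281 := rfl
theorem F11210 : act 0 n2281 = n2281 := d2_1 D2281 (iv D2281) F7996
theorem F11211 : act 2 n2281 = n1609 := d17_1 D2281 (iv D1609) F5789 (iv F5727) (iv F7997)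
theorem F11212 : act 7 n2281 = n2281 := d27_2 F7998 D2281 (iv D2281)
theorem F11213 : act 9 n2281 = n1591 := d29_2 (iv F7999) D2281 (iv D1591)
def n2282 : Q := act 5 n1587
theorem D2282 : act 5 n1587 = n2282 := rfl
theorem F11214 : act 0 n2282 = n2282 := d4_1 D2282 (iv D2282) F7996
theorem F11215 : act 2 n2282 = n1588 := d19_1 D2282 (iv D1588) (iv F7997)
theorem F11216 : act 4 n2282 = n2282 := d30_1 D2282 (iv D2282) (iv D1587) F5722 D1587
theorem F11217 : act 7 n2282 = n2282 := d36_2 F7998 D2282 (iv D2282)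
theorem F11218 : act 9 n2282 = n1592 := d38_2 (iv F7999) D2282 (iv D1592)
def n2283 : Q := act 6 n1588
theorem D2283 : act 6 n1588 = n2283 := rfl
theorem F11219 : act 0 n2283 = n2283 := d5_1 D2283 (iv D2283) F8000
theorem F11220 : act 1 n2283 = n1729 := d13_1 D2283 (iv D1729) (iv F8001)
theorem F11221 : act 3 n2283 = n1611 := d26_1 D2283 (iv D1611) (iv F8002)
theorem F11222 : act 4 n2283 = n2283 := d31_1 D2283 (iv D2283) F8003
theorem F11223 : act 9 n2283 = n1593 := d41_2 (iv F8005) D2283 (iv D1593)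
def n2284 : Q := act 4 n1589
theorem D2284 : act 4 n1589 = n2284 := rfl
theorem F11224 : act 0 n2284 = n1590 := d3_1 D2284 (iv D1590) D1589
theorem F11225 : act 1 n2284 = n2284 := d11_1 D2284 (iv D2284) F8006
theorem F11226 : act 2 n2284 = n1730 := d18_1 D2284 (iv D1730) (iv F8007)
theorem F11227 : act 7 n2284 = n2284 := d32_2 F8009 D2284 (iv D2284)
theorem F11228 : act 8 n2284 = n2284 := d33_2 F8010 D2284 (iv D2284)
def n2285 : Q := act 3 n1590
theorem D2285 : act 3 n1590 = n2285 := rfl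
theorem F11229 : act 1 n2285 = n1591 := d10_1 D2285 (iv D1591) (iv F8011)
theorem F11230 : act 7 n2285 = n2285 := d27_2 F8013 D2285 (iv D2285)
def n2286 : Q := act 5 n1590
theorem D2286 : act 5 n1590 = n2286 := rfl
theorem F11231 : act 1 n2286 = n1592 := d12_1 D2286 (iv D1592) (iv F8011)
theorem F11232 : act 2 n2286 = n1732 := d19_1 D2286 (iv D1732) (iv F8012)
theorem F11233 : act 4 n2286 = n2286 := d30_1 D2286 (iv D2286) (iv D1590) F5731 D1590
theorem F11234 : act 7 n2286 = n2286 := d36_2 F8013 D2286 (iv D2286)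
theorem F11235 : act 8 n2286 = n2286 := d37_2 F8014 D2286 (iv D2286)
def n2287 : Q := act 5 n1591
theorem D2287 : act 5 n1591 = n2287 := rfl
theorem F11236 : act 0 n2287 = n2287 := d4_1 D2287 (iv D2287) F8015
theorem F11237 : act 2 n2287 = n1615 := d19_1 D2287 (iv D1615) (iv F8016)
theorem F11238 : act 3 n2287 = n1592 := d25_1 D2287 (iv D1592) D1591
theorem F11239 : act 7 n2287 = n2287 := d36_2 F8017 D2287 (iv D2287)
def n2288 : Q := act 8 n1591
theorem D2288 : act 8 n1591 = n2288 := rfl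
theorem F11240 : act 0 n2288 = n2288 := d7_1 D2288 (iv D2288) F8015
theorem F11241 : act 2 n2288 = n1616 := d22_1 D2288 (iv D1616) (iv F8016)
theorem F11242 : act 3 n2288 = n2288 := d28_1 D2288 (iv D2288) (iv D1591) F5737 D1591
theorem F11243 : act 7 n2288 = n2288 := d42_1 D2288 (iv D2288) F8017
def n2289 : Q := act 6 n1592
theorem D2289 : act 6 n1592 = n2289 := rfl
theorem F11244 : act 0 n2289 = n2289 := d5_1 D2289 (iv D2289) F8018
theorem F11245 : act 2 n2289 = n1593 := d20_1 D2289 (iv D1593) (iv F8019)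
theorem F11246 : act 4 n2289 = n2289 := d31_1 D2289 (iv D2289) F8020
theorem F11247 : act 8 n2289 = n2289 := d40_2 F8022 D2289 (iv D2289)
def n2290 : Q := act 7 n1593
theorem D2290 : act 7 n1593 = n2290 := rfl
theorem F11248 : act 0 n2290 = n2290 := d6_1 D2290 (iv D2290) F8023
theorem F11249 : act 1 n2290 = n1736 := d14_1 D2290 (iv D1736) (iv F8024)
theorem F11250 : act 3 n2290 = n1618 := d27_1 D2290 (iv D1618) (iv F8025)
theorem F11251 : act 4 n2290 = n2290 := d32_1 D2290 (iv D2290) F8026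
theorem F11252 : act 6 n2290 = n2290 := d39_1 D2290 (iv D2290) (iv D1593) F5742 D1593
theorem F11253 : act 8 n2290 = n2290 := d42_2 F8027 D2290 (iv D2290)
def n2291 : Q := act 1 n1594
theorem D2291 : act 1 n1594 = n2291 := rfl
theorem F11254 : act 2 n2291 = n1737 := d9_2 D1594 D2291 (iv D1737) (iv D1208) (iv F5745)
theorem F11255 : act 5 n2291 = n2291 := d12_2 F8029 D2291 (iv D2291)
theorem F11256 : act 6 n2291 = n2291 := d13_2 F8030 D2291 (iv D2291)
theorem F11257 : act 7 n2291 = n1599 := d14_2 (iv F8031) D2291 (iv D1599)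
theorem F11258 : act 8 n2291 = n2291 := d15_2 F8032 D2291 (iv D2291)
theorem F11259 : act 9 n2291 = n1596 := d16_2 (iv F8033) D2291 (iv D1596)
def n2292 : Q := act 4 n1594
theorem D2292 : act 4 n1594 = n2292 := rfl
theorem F11260 : act 0 n2292 = n2292 := d3_1 D2292 (iv D2292) F8028
theorem F11261 : act 2 n2292 = n1595 := d18_1 D2292 (iv D1595) D1594
theorem F11262 : act 6 n2292 = n2292 := d31_2 F8030 D2292 (iv D2292)
theorem F11263 : act 7 n2292 = n1600 := d32_2 (iv F8031) D2292 (iv D1600)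
theorem F11264 : act 8 n2292 = n2292 := d33_2 F8032 D2292 (iv D2292)
theorem F11265 : act 9 n2292 = n1597 := d34_2 (iv F8033) D2292 (iv D1597)
def n2293 : Q := act 5 n1595
theorem D2293 : act 5 n1595 = n2293 := rfl
theorem F11266 : act 0 n2293 = n2293 := d4_1 D2293 (iv D2293) F8034
theorem F11267 : act 1 n2293 = n1739 := d12_1 D2293 (iv D1739) (iv F8035)
theorem F11268 : act 4 n2293 = n2293 := d30_1 D2293 (iv D2293) (iv D1595) F5746 D1595
theorem F11269 : act 7 n2293 = n1601 := d36_2 (iv F8037) D2293 (iv D1601)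
theorem F11270 : act 8 n2293 = n2293 := d37_2 F8038 D2293 (iv D2293)
theorem F11271 : act 9 n2293 = n1598 := d38_2 (iv F8039) D2293 (iv D1598)
def n2294 : Q := act 0 n1596
theorem D2294 : act 0 n1596 = n2294 := rfl
theorem F11272 : act 1 n2294 = n2294 := d0_2 D1596 D2294 (iv D2294) (iv D1596) F5751
theorem F11273 : act 2 n2294 = n1740 := d1_2 (iv F8040) D2294 (iv D1740)
theorem F11274 : act 5 n2294 = n2294 := d4_2 F8041 D2294 (iv D2294)
theorem F11275 : act 6 n2294 = n2294 := d5_2 F8042 D2294 (iv D2294)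
theorem F11276 : act 7 n2294 = n1602 := d6_2 (iv F8043) D2294 (iv D1602)
theorem F11277 : act 8 n2294 = n1637 := d7_2 (iv F8044) D2294 (iv D1637)
def n2295 : Q := act 4 n1596
theorem D2295 : act 4 n1596 = n2295 := rfl
theorem F11278 : act 1 n2295 = n1597 := d11_1 D2295 (iv D1597) D1596
theorem F11279 : act 2 n2295 = n1741 := d18_1 D2295 (iv D1741) (iv F8040)
theorem F11280 : act 6 n2295 = n2295 := d31_2 F8042 D2295 (iv D2295)
theorem F11281 : act 7 n2295 = n1603 := d32_2 (iv F8043) D2295 (iv D1603)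
theorem F11282 : act 8 n2295 = n1638 := d33_2 (iv F8044) D2295 (iv D1638)
def n2296 : Q := act 3 n1597
theorem D2296 : act 3 n1597 = n2296 := rfl
theorem F11283 : act 0 n2296 = n2296 := d2_1 D2296 (iv D2296) F8045
theorem F11284 : act 6 n2296 = n2296 := d26_2 F8047 D2296 (iv D2296)
theorem F11285 : act 7 n2296 = n1604 := d27_2 (iv F8048) D2296 (iv D1604)
def n2297 : Q := act 5 n1597
theorem D2297 : act 5 n1597 = n2297 := rfl
theorem F11286 : act 0 n2297 = n2297 := d4_1 D2297 (iv D2297) F8045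
theorem F11287 : act 2 n2297 = n1598 := d19_1 D2297 (iv D1598) (iv F8046)
theorem F11288 : act 4 n2297 = n2297 := d30_1 D2297 (iv D2297) (iv D1597) F5752 D1597
theorem F11289 : act 7 n2297 = n1605 := d36_2 (iv F8048) D2297 (iv D1605)
theorem F11290 : act 8 n2297 = n1640 := d37_2 (iv F8049) D2297 (iv D1640)
def n2298 : Q := act 6 n1598
theorem D2298 : act 6 n1598 = n2298 := rfl
theorem F11291 : act 0 n2298 = n2298 := d5_1 D2298 (iv D2298) F8050
theorem F11292 : act 1 n2298 = n1744 := d13_1 D2298 (iv D1744) (iv F8051)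
theorem F11293 : act 4 n2298 = n2298 := d31_1 D2298 (iv D2298) F8052
theorem F11294 : act 5 n2298 = n2298 := d35_1 D2298 (iv D2298) (iv D1598) F5758 D1598
theorem F11295 : act 8 n2298 = n1641 := d40_2 (iv F8054) D2298 (iv D1641)
def n2299 : Q := act 0 n1599
theorem D2299 : act 0 n1599 = n2299 := rfl
theorem F11296 : act 1 n2299 = n2299 := d0_2 D1599 D2299 (iv D2299) (iv D1599) F5761
theorem F11297 : act 2 n2299 = n1745 := d1_2 (iv F8055) D2299 (iv D1745)
theorem F11298 : act 5 n2299 = n2299 := d4_2 F8056 D2299 (iv D2299)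
theorem F11299 : act 6 n2299 = n1607 := d5_2 (iv F8057) D2299 (iv D1607)
theorem F11300 : act 8 n2299 = n2299 := d7_2 F8058 D2299 (iv D2299)
theorem F11301 : act 9 n2299 = n1602 := d8_2 (iv F8059) D2299 (iv D1602)
def n2300 : Q := act 4 n1599
theorem D2300 : act 4 n1599 = n2300 := rfl
theorem F11302 : act 1 n2300 = n1600 := d11_1 D2300 (iv D1600) D1599
theorem F11303 : act 2 n2300 = n1746 := d18_1 D2300 (iv D1746) (iv F8055)
theorem F11304 : act 6 n2300 = n1608 := d31_2 (iv F8057) D2300 (iv D1608)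
theorem F11305 : act 8 n2300 = n2300 := d33_2 F8058 D2300 (iv D2300)
theorem F11306 : act 9 n2300 = n1603 := d34_2 (iv F8059) D2300 (iv D1603)
def n2301 : Q := act 3 n1600
theorem D2301 : act 3 n1600 = n2301 := rfl
theorem F11307 : act 0 n2301 = n2301 := d2_1 D2301 (iv D2301) F8060
theorem F11308 : act 6 n2301 = n1609 := d26_2 (iv F8062) D2301 (iv D1609)
theorem F11309 : act 9 n2301 = n1604 := d29_2 (iv F8064) D2301 (iv D1604)
def n2302 : Q := act 5 n1600
theorem D2302 : act 5 n1600 = n2302 := rfl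
theorem F11310 : act 0 n2302 = n2302 := d4_1 D2302 (iv D2302) F8060
theorem F11311 : act 2 n2302 = n1601 := d19_1 D2302 (iv D1601) (iv F8061)
theorem F11312 : act 4 n2302 = n2302 := d30_1 D2302 (iv D2302) (iv D1600) F5762 D1600
theorem F11313 : act 8 n2302 = n2302 := d37_2 F8063 D2302 (iv D2302)
theorem F11314 : act 9 n2302 = n1605 := d38_2 (iv F8064) D2302 (iv D1605)
def n2303 : Q := act 6 n1601
theorem D2303 : act 6 n1601 = n2303 := rfl
theorem F11315 : act 0 n2303 = n2303 := d5_1 D2303 (iv D2303) F8065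
theorem F11316 : act 1 n2303 = n1749 := d13_1 D2303 (iv D1749) (iv F8066)
theorem F11317 : act 4 n2303 = n2303 := d31_1 D2303 (iv D2303) F8067
theorem F11318 : act 5 n2303 = n1611 := d35_1 D2303 (iv D1611) (iv D1122) (iv F5768) D1601
theorem F11319 : act 8 n2303 = n2303 := d40_2 F8068 D2303 (iv D2303)
theorem F11320 : act 9 n2303 = n1606 := d41_2 (iv F8069) D2303 (iv D1606)
def n2304 : Q := act 4 n1602
theorem D2304 : act 4 n1602 = n2304 := rfl
theorem F11321 : act 0 n2304 = n1603 := d3_1 D2304 (iv D1603) D1602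
theorem F11322 : act 1 n2304 = n2304 := d11_1 D2304 (iv D2304) F8070
theorem F11323 : act 2 n2304 = n1750 := d18_1 D2304 (iv D1750) (iv F8071)
theorem F11324 : act 6 n2304 = n1612 := d31_2 (iv F8073) D2304 (iv D1612)
theorem F11325 : act 8 n2304 = n1642 := d33_2 (iv F8074) D2304 (iv D1642)
def n2305 : Q := act 3 n1603
theorem D2305 : act 3 n1603 = n2305 := rfl
theorem F11326 : act 1 n2305 = n1604 := d10_1 D2305 (iv D1604) (iv F8075)
theorem F11327 : act 6 n2305 = n1613 := d26_2 (iv F8077) D2305 (iv D1613)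
def n2306 : Q := act 5 n1603
theorem D2306 : act 5 n1603 = n2306 := rfl
theorem F11328 : act 1 n2306 = n1605 := d12_1 D2306 (iv D1605) (iv F8075)
theorem F11329 : act 2 n2306 = n1752 := d19_1 D2306 (iv D1752) (iv F8076)
theorem F11330 : act 4 n2306 = n2306 := d30_1 D2306 (iv D2306) (iv D1603) F5772 D1603
theorem F11331 : act 8 n2306 = n1644 := d37_2 (iv F8078) D2306 (iv D1644)
def n2307 : Q := act 5 n1604
theorem D2307 : act 5 n1604 = n2307 := rfl
theorem F11332 : act 0 n2307 = n2307 := d4_1 D2307 (iv D2307) F8079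
theorem F11333 : act 3 n2307 = n1605 := d25_1 D2307 (iv D1605) D1604
def n2308 : Q := act 8 n1604
theorem D2308 : act 8 n1604 = n2308 := rfl
theorem F11334 : act 0 n2308 = n2308 := d7_1 D2308 (iv D2308) F8079
theorem F11335 : act 3 n2308 = n1646 := d28_1 D2308 (iv D1646) (iv D1145) (iv F5778) D1604
theorem F11336 : act 6 n2308 = n1616 := d40_1 D2308 (iv D1616) (iv F8080)
def n2309 : Q := act 6 n1605
theorem D2309 : act 6 n1605 = n2309 := rfl
theorem F11337 : act 0 n2309 = n2309 := d5_1 D2309 (iv D2309) F8081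
theorem F11338 : act 2 n2309 = n1606 := d20_1 D2309 (iv D1606) (iv F8082)
theorem F11339 : act 4 n2309 = n2309 := d31_1 D2309 (iv D2309) F8083
theorem F11340 : act 5 n2309 = n1617 := d35_1 D2309 (iv D1617) (iv D1126) (iv F5777) D1605
theorem F11341 : act 8 n2309 = n1647 := d40_2 (iv F8084) D2309 (iv D1647)
def n2310 : Q := act 7 n1606
theorem D2310 : act 7 n1606 = n2310 := rfl
theorem F11342 : act 0 n2310 = n2310 := d6_1 D2310 (iv D2310) F8085
theorem F11343 : act 1 n2310 = n1756 := d14_1 D2310 (iv D1756) (iv F8086)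
theorem F11344 : act 4 n2310 = n2310 := d32_1 D2310 (iv D2310) F8087
theorem F11345 : act 5 n2310 = n1618 := d36_1 D2310 (iv D1618) (iv F8088)
theorem F11346 : act 8 n2310 = n1648 := d42_2 (iv F8089) D2310 (iv D1648)
def n2311 : Q := act 4 n1607
theorem D2311 : act 4 n1607 = n2311 := rfl
theorem F11347 : act 0 n2311 = n1608 := d3_1 D2311 (iv D1608) D1607
theorem F11348 : act 1 n2311 = n2311 := d11_1 D2311 (iv D2311) F8090
theorem F11349 : act 2 n2311 = n1757 := d18_1 D2311 (iv D1757) (iv F8091)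
theorem F11350 : act 7 n2311 = n2311 := d32_2 F8093 D2311 (iv D2311)
theorem F11351 : act 8 n2311 = n2311 := d33_2 F8094 D2311 (iv D2311)
theorem F11352 : act 9 n2311 = n1612 := d34_2 (iv F8095) D2311 (iv D1612)
def n2312 : Q := act 3 n1608
theorem D2312 : act 3 n1608 = n2312 := rfl
theorem F11353 : act 1 n2312 = n1609 := d10_1 D2312 (iv D1609) (iv F8096)
theorem F11354 : act 7 n2312 = n2312 := d27_2 F8098 D2312 (iv D2312)
theorem F11355 : act 9 n2312 = n1613 := d29_2 (iv F8100) D2312 (iv D1613)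
def n2313 : Q := act 5 n1608
theorem D2313 : act 5 n1608 = n2313 := rfl
theorem F11356 : act 1 n2313 = n1610 := d12_1 D2313 (iv D1610) (iv F8096)
theorem F11357 : act 2 n2313 = n1759 := d19_1 D2313 (iv D1759) (iv F8097)
theorem F11358 : act 4 n2313 = n1621 := d30_1 D2313 (iv D1621) (iv D1129) (iv F5784) D1608
theorem F11359 : act 7 n2313 = n2313 := d36_2 F8098 D2313 (iv D2313)
theorem F11360 : act 8 n2313 = n2313 := d37_2 F8099 D2313 (iv D2313)
theorem F11361 : act 9 n2313 = n1614 := d38_2 (iv F8100) D2313 (iv D1614)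
def n2314 : Q := act 5 n1609
theorem D2314 : act 5 n1609 = n2314 := rfl
theorem F11362 : act 0 n2314 = n2314 := d4_1 D2314 (iv D2314) F8101
theorem F11363 : act 3 n2314 = n1610 := d25_1 D2314 (iv D1610) D1609
theorem F11364 : act 7 n2314 = n2314 := d36_2 F8102 D2314 (iv D2314)
theorem F11365 : act 9 n2314 = n1615 := d38_2 (iv F8103) D2314 (iv D1615)
def n2315 : Q := act 8 n1609
theorem D2315 : act 8 n1609 = n2315 := rfl
theorem F11366 : act 0 n2315 = n2315 := d7_1 D2315 (iv D2315) F8101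
theorem F11367 : act 3 n2315 = n2315 := d28_1 D2315 (iv D2315) (iv D1609) F5791 D1609
theorem F11368 : act 7 n2315 = n2315 := d42_1 D2315 (iv D2315) F8102
def n2316 : Q := act 6 n1610
theorem D2316 : act 6 n1610 = n2316 := rfl
theorem F11369 : act 0 n2316 = n2316 := d5_1 D2316 (iv D2316) F8104
theorem F11370 : act 2 n2316 = n1611 := d20_1 D2316 (iv D1611) (iv F8105)
theorem F11371 : act 4 n2316 = n1624 := d31_1 D2316 (iv D1624) (iv F8106)
theorem F11372 : act 8 n2316 = n2316 := d40_2 F8108 D2316 (iv D2316)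
theorem F11373 : act 9 n2316 = n1617 := d41_2 (iv F8109) D2316 (iv D1617)
def n2317 : Q := act 7 n1611
theorem D2317 : act 7 n1611 = n2317 := rfl
theorem F11374 : act 0 n2317 = n2317 := d6_1 D2317 (iv D2317) F8110
theorem F11375 : act 1 n2317 = n1763 := d14_1 D2317 (iv D1763) (iv F8111)
theorem F11376 : act 4 n2317 = n1625 := d32_1 D2317 (iv D1625) (iv F8112)
theorem F11377 : act 6 n2317 = n2317 := d39_1 D2317 (iv D2317) (iv D1611) F5796 D1611
theorem F11378 : act 8 n2317 = n2317 := d42_2 F8113 D2317 (iv D2317)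
theorem F11379 : act 9 n2317 = n1618 := d43_2 (iv F8114) D2317 (iv D1618)
def n2318 : Q := act 3 n1612
theorem D2318 : act 3 n1612 = n2318 := rfl
theorem F11380 : act 0 n2318 = n1613 := d2_1 D2318 (iv D1613) (iv F8115)
theorem F11381 : act 1 n2318 = n2318 := d10_1 D2318 (iv D2318) F8116
theorem F11382 : act 7 n2318 = n2318 := d27_2 F8118 D2318 (iv D2318)
def n2319 : Q := act 5 n1612
theorem D2319 : act 5 n1612 = n2319 := rfl
theorem F11383 : act 0 n2319 = n1614 := d4_1 D2319 (iv D1614) (iv F8115)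
theorem F11384 : act 1 n2319 = n2319 := d12_1 D2319 (iv D2319) F8116
theorem F11385 : act 2 n2319 = n1765 := d19_1 D2319 (iv D1765) (iv F8117)
theorem F11386 : act 4 n2319 = n1627 := d30_1 D2319 (iv D1627) (iv D1133) (iv F5801) D1612
theorem F11387 : act 7 n2319 = n2319 := d36_2 F8118 D2319 (iv D2319)
theorem F11388 : act 8 n2319 = n1650 := d37_2 (iv F8119) D2319 (iv D1650)
def n2320 : Q := act 2 n1613
theorem D2320 : act 2 n1613 = n2320 := rfl
theorem F11389 : act 3 n2320 = n1766 := d17_2 D1613 D2320 (iv D1766) (iv D1227) (iv F5805)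
theorem F11390 : act 7 n2320 = n2320 := d21_2 F8121 D2320 (iv D2320)
def n2321 : Q := act 5 n1613
theorem D2321 : act 5 n1613 = n2321 := rfl
theorem F11391 : act 1 n2321 = n1615 := d12_1 D2321 (iv D1615) (iv F8120)
theorem F11392 : act 3 n2321 = n1614 := d25_1 D2321 (iv D1614) D1613
theorem F11393 : act 7 n2321 = n2321 := d36_2 F8121 D2321 (iv D2321)
def n2322 : Q := act 8 n1613
theorem D2322 : act 8 n1613 = n2322 := rfl
theorem F11394 : act 1 n2322 = n1616 := d15_1 D2322 (iv D1616) (iv F8120)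
theorem F11395 : act 3 n2322 = n1653 := d28_1 D2322 (iv D1653) (iv D1149) (iv F5807) D1613
theorem F11396 : act 7 n2322 = n2322 := d42_1 D2322 (iv D2322) F8121
def n2323 : Q := act 6 n1614
theorem D2323 : act 6 n1614 = n2323 := rfl
theorem F11397 : act 1 n2323 = n1617 := d13_1 D2323 (iv D1617) (iv F8122)
theorem F11398 : act 2 n2323 = n1769 := d20_1 D2323 (iv D1769) (iv F8123)
theorem F11399 : act 4 n2323 = n1631 := d31_1 D2323 (iv D1631) (iv F8124)
theorem F11400 : act 8 n2323 = n1654 := d40_2 (iv F8126) D2323 (iv D1654)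
def n2324 : Q := act 4 n1615
theorem D2324 : act 4 n1615 = n2324 := rfl
theorem F11401 : act 0 n2324 = n2324 := d3_1 D2324 (iv D2324) F8127
theorem F11402 : act 3 n2324 = n1632 := d24_1 D2324 (iv D1632) F5862 (iv F5812) (iv F8128)
theorem F11403 : act 7 n2324 = n2324 := d32_2 F8129 D2324 (iv D2324)
def n2325 : Q := act 6 n1615
theorem D2325 : act 6 n1615 = n2325 := rfl
theorem F11404 : act 0 n2325 = n2325 := d5_1 D2325 (iv D2325) F8127
theorem F11405 : act 3 n2325 = n1617 := d26_1 D2325 (iv D1617) (iv F8128)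
def n2326 : Q := act 8 n1615
theorem D2326 : act 8 n1615 = n2326 := rfl
theorem F11406 : act 0 n2326 = n2326 := d7_1 D2326 (iv D2326) F8127
theorem F11407 : act 3 n2326 = n1657 := d28_1 D2326 (iv D1657) F5937 (iv F5814) (iv F8128)
theorem F11408 : act 5 n2326 = n1616 := d37_1 D2326 (iv D1616) D1615
theorem F11409 : act 7 n2326 = n2326 := d42_1 D2326 (iv D2326) F8129
def n2327 : Q := act 9 n1616
theorem D2327 : act 9 n1616 = n2327 := rfl
theorem F11410 : act 0 n2327 = n2327 := d8_1 D2327 (iv D2327) F8130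
theorem F11411 : act 3 n2327 = n1658 := d29_1 D2327 (iv D1658) (iv F8131)
theorem F11412 : act 7 n2327 = n2327 := d43_1 D2327 (iv D2327) F8132
def n2328 : Q := act 7 n1617
theorem D2328 : act 7 n1617 = n2328 := rfl
theorem F11413 : act 0 n2328 = n2328 := d6_1 D2328 (iv D2328) F8133
theorem F11414 : act 2 n2328 = n1618 := d21_1 D2328 (iv D1618) (iv F8134)
theorem F11415 : act 4 n2328 = n1636 := d32_1 D2328 (iv D1636) (iv F8135)
theorem F11416 : act 6 n2328 = n2328 := d39_1 D2328 (iv D2328) (iv D1617) F5813 D1617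
theorem F11417 : act 8 n2328 = n1659 := d42_2 (iv F8136) D2328 (iv D1659)
def n2329 : Q := act 3 n1619
theorem D2329 : act 3 n1619 = n2329 := rfl
theorem F11418 : act 0 n2329 = n1620 := d2_1 D2329 (iv D1620) (iv F8142)
theorem F11419 : act 1 n2329 = n2329 := d10_1 D2329 (iv D2329) F8143
theorem F11420 : act 6 n2329 = n2329 := d26_2 F8145 D2329 (iv D2329)
theorem F11421 : act 7 n2329 = n2329 := d27_2 F8146 D2329 (iv D2329)
theorem F11422 : act 9 n2329 = n1626 := d29_2 (iv F8148) D2329 (iv D1626)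
def n2330 : Q := act 5 n1619
theorem D2330 : act 5 n1619 = n2330 := rfl
theorem F11423 : act 0 n2330 = n1621 := d4_1 D2330 (iv D1621) (iv F8142)
theorem F11424 : act 1 n2330 = n2330 := d12_1 D2330 (iv D2330) F8143
theorem F11425 : act 2 n2330 = n1776 := d19_1 D2330 (iv D1776) (iv F8144)
theorem F11426 : act 7 n2330 = n2330 := d36_2 F8146 D2330 (iv D2330)
theorem F11427 : act 8 n2330 = n2330 := d37_2 F8147 D2330 (iv D2330)
theorem F11428 : act 9 n2330 = n1627 := d38_2 (iv F8148) D2330 (iv D1627)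
def n2331 : Q := act 2 n1620
theorem D2331 : act 2 n1620 = n2331 := rfl
theorem F11429 : act 1 n2331 = n2331 := d9_1 D2331 (iv D2331) F8149 F5832 (iv F8149)
theorem F11430 : act 3 n2331 = n1777 := d17_2 D1620 D2331 (iv D1777) (iv D1234) (iv F5826)
theorem F11431 : act 6 n2331 = n2331 := d20_2 F8150 D2331 (iv D2331)
theorem F11432 : act 7 n2331 = n2331 := d21_2 F8151 D2331 (iv D2331)
theorem F11433 : act 9 n2331 = n1628 := d23_2 (iv F8152) D2331 (iv D1628)
def n2332 : Q := act 5 n1620
theorem D2332 : act 5 n1620 = n2332 := rfl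
theorem F11434 : act 1 n2332 = n1622 := d12_1 D2332 (iv D1622) (iv F8149)
theorem F11435 : act 3 n2332 = n1621 := d25_1 D2332 (iv D1621) D1620
theorem F11436 : act 7 n2332 = n2332 := d36_2 F8151 D2332 (iv D2332)
theorem F11437 : act 9 n2332 = n1629 := d38_2 (iv F8152) D2332 (iv D1629)
def n2333 : Q := act 8 n1620
theorem D2333 : act 8 n1620 = n2333 := rfl
theorem F11438 : act 1 n2333 = n1623 := d15_1 D2333 (iv D1623) (iv F8149)
theorem F11439 : act 3 n2333 = n2333 := d28_1 D2333 (iv D2333) (iv D1620) F5829 D1620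
theorem F11440 : act 6 n2333 = n2333 := d40_1 D2333 (iv D2333) F8150
theorem F11441 : act 7 n2333 = n2333 := d42_1 D2333 (iv D2333) F8151
def n2334 : Q := act 6 n1621
theorem D2334 : act 6 n1621 = n2334 := rfl
theorem F11442 : act 1 n2334 = n1624 := d13_1 D2334 (iv D1624) (iv F8153)
theorem F11443 : act 2 n2334 = n1780 := d20_1 D2334 (iv D1780) (iv F8154)
theorem F11444 : act 5 n2334 = n2334 := d35_1 D2334 (iv D2334) (iv D1621) F5827 D1621
theorem F11445 : act 8 n2334 = n2334 := d40_2 F8156 D2334 (iv D2334)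
theorem F11446 : act 9 n2334 = n1631 := d41_2 (iv F8157) D2334 (iv D1631)
def n2335 : Q := act 4 n1622
theorem D2335 : act 4 n1622 = n2335 := rfl
theorem F11447 : act 0 n2335 = n2335 := d3_1 D2335 (iv D2335) F8158
theorem F11448 : act 2 n2335 = n2335 := d18_1 D2335 (iv D2335) F8159
theorem F11449 : act 7 n2335 = n2335 := d32_2 F8161 D2335 (iv D2335)
theorem F11450 : act 9 n2335 = n1632 := d34_2 (iv F8162) D2335 (iv D1632)
def n2336 : Q := act 6 n1622
theorem D2336 : act 6 n1622 = n2336 := rfl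
theorem F11451 : act 0 n2336 = n2336 := d5_1 D2336 (iv D2336) F8158
theorem F11452 : act 2 n2336 = n2336 := d20_1 D2336 (iv D2336) F8159
theorem F11453 : act 3 n2336 = n1624 := d26_1 D2336 (iv D1624) (iv F8160)
theorem F11454 : act 5 n2336 = n2336 := d35_1 D2336 (iv D2336) (iv D1622) F5833 D1622
theorem F11455 : act 9 n2336 = n1633 := d41_2 (iv F8162) D2336 (iv D1633)
def n2337 : Q := act 8 n1622
theorem D2337 : act 8 n1622 = n2337 := rfl
theorem F11456 : act 0 n2337 = n2337 := d7_1 D2337 (iv D2337) F8158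
theorem F11457 : act 2 n2337 = n2337 := d22_1 D2337 (iv D2337) F8159
theorem F11458 : act 3 n2337 = n2337 := d28_1 D2337 (iv D2337) F8160 F5839 (iv F8160)
theorem F11459 : act 5 n2337 = n1623 := d37_1 D2337 (iv D1623) D1622
theorem F11460 : act 7 n2337 = n2337 := d42_1 D2337 (iv D2337) F8161
def n2338 : Q := act 9 n1623
theorem D2338 : act 9 n1623 = n2338 := rfl
theorem F11461 : act 0 n2338 = n2338 := d8_1 D2338 (iv D2338) F8163
theorem F11462 : act 2 n2338 = n2338 := d23_1 D2338 (iv D2338) F8164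
theorem F11463 : act 3 n2338 = n2338 := d29_1 D2338 (iv D2338) F8165
theorem F11464 : act 6 n2338 = n2338 := d41_1 D2338 (iv D2338) F8166
theorem F11465 : act 7 n2338 = n2338 := d43_1 D2338 (iv D2338) F8167
theorem F11466 : act 8 n2338 = n1635 := d44_1 D2338 (iv D1635) (iv D1137) (iv F5835) D1623
def n2339 : Q := act 7 n1624
theorem D2339 : act 7 n1624 = n2339 := rfl
theorem F11467 : act 0 n2339 = n2339 := d6_1 D2339 (iv D2339) F8168
theorem F11468 : act 2 n2339 = n1625 := d21_1 D2339 (iv D1625) (iv F8169)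
theorem F11469 : act 5 n2339 = n2339 := d36_1 D2339 (iv D2339) F8170
theorem F11470 : act 6 n2339 = n2339 := d39_1 D2339 (iv D2339) (iv D1624) F5838 D1624
theorem F11471 : act 8 n2339 = n2339 := d42_2 F8171 D2339 (iv D2339)
theorem F11472 : act 9 n2339 = n1636 := d43_2 (iv F8172) D2339 (iv D1636)
def n2340 : Q := act 2 n1626
theorem D2340 : act 2 n1626 = n2340 := rfl
theorem F11473 : act 0 n2340 = n1628 := d1_1 D2340 (iv D1628) (iv F8180)
theorem F11474 : act 3 n2340 = n1785 := d17_2 D1626 D2340 (iv D1785) (iv D1240) (iv F5849)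
theorem F11475 : act 6 n2340 = n2340 := d20_2 F8182 D2340 (iv D2340)
theorem F11476 : act 7 n2340 = n2340 := d21_2 F8183 D2340 (iv D2340)
def n2341 : Q := act 5 n1626
theorem D2341 : act 5 n1626 = n2341 := rfl
theorem F11477 : act 0 n2341 = n1629 := d4_1 D2341 (iv D1629) (iv F8180)
theorem F11478 : act 1 n2341 = n2341 := d12_1 D2341 (iv D2341) F8181
theorem F11479 : act 3 n2341 = n1627 := d25_1 D2341 (iv D1627) D1626
theorem F11480 : act 7 n2341 = n2341 := d36_2 F8183 D2341 (iv D2341)
def n2342 : Q := act 8 n1626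
theorem D2342 : act 8 n1626 = n2342 := rfl
theorem F11481 : act 0 n2342 = n1630 := d7_1 D2342 (iv D1630) (iv F8180)
theorem F11482 : act 1 n2342 = n2342 := d15_1 D2342 (iv D2342) F8181
theorem F11483 : act 3 n2342 = n1661 := d28_1 D2342 (iv D1661) (iv D1155) (iv F5852) D1626
theorem F11484 : act 6 n2342 = n2342 := d40_1 D2342 (iv D2342) F8182
theorem F11485 : act 7 n2342 = n2342 := d42_1 D2342 (iv D2342) F8183
def n2343 : Q := act 6 n1627
theorem D2343 : act 6 n1627 = n2343 := rfl
theorem F11486 : act 0 n2343 = n1631 := d5_1 D2343 (iv D1631) (iv F8184)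
theorem F11487 : act 1 n2343 = n2343 := d13_1 D2343 (iv D2343) F8185
theorem F11488 : act 2 n2343 = n1787 := d20_1 D2343 (iv D1787) (iv F8186)
theorem F11489 : act 5 n2343 = n2343 := d35_1 D2343 (iv D2343) (iv D1627) F5850 D1627
theorem F11490 : act 8 n2343 = n1662 := d40_2 (iv F8188) D2343 (iv D1662)
def n2344 : Q := act 5 n1628
theorem D2344 : act 5 n1628 = n2344 := rfl
theorem F11491 : act 1 n2344 = n2344 := d12_1 D2344 (iv D2344) F8189
theorem F11492 : act 2 n2344 = n1629 := d19_1 D2344 (iv D1629) D1628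
theorem F11493 : act 3 n2344 = n1788 := d25_1 D2344 (iv D1788) (iv F8190)
theorem F11494 : act 7 n2344 = n2344 := d36_2 F8192 D2344 (iv D2344)
def n2345 : Q := act 8 n1628
theorem D2345 : act 8 n1628 = n2345 := rfl
theorem F11495 : act 1 n2345 = n2345 := d15_1 D2345 (iv D2345) F8189
theorem F11496 : act 2 n2345 = n1630 := d22_1 D2345 (iv D1630) D1628
theorem F11497 : act 3 n2345 = n2345 := d28_1 D2345 (iv D2345) F8190 F6373 (iv F8190)
theorem F11498 : act 6 n2345 = n2345 := d40_1 D2345 (iv D2345) F8191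
theorem F11499 : act 7 n2345 = n2345 := d42_1 D2345 (iv D2345) F8192
def n2346 : Q := act 4 n1629
theorem D2346 : act 4 n1629 = n2346 := rfl
theorem F11500 : act 1 n2346 = n1632 := d11_1 D2346 (iv D1632) (iv F8193)
theorem F11501 : act 7 n2346 = n2346 := d32_2 F8195 D2346 (iv D2346)
def n2347 : Q := act 6 n1629
theorem D2347 : act 6 n1629 = n2347 := rfl
theorem F11502 : act 1 n2347 = n1633 := d13_1 D2347 (iv D1633) (iv F8193)
theorem F11503 : act 3 n2347 = n1631 := d26_1 D2347 (iv D1631) (iv F8194)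
theorem F11504 : act 5 n2347 = n2347 := d35_1 D2347 (iv D2347) (iv D1629) F5854 D1629
def n2348 : Q := act 8 n1629
theorem D2348 : act 8 n1629 = n2348 := rfl
theorem F11505 : act 1 n2348 = n1634 := d15_1 D2348 (iv D1634) (iv F8193)
theorem F11506 : act 3 n2348 = n1665 := d28_1 D2348 (iv D1665) F5968 (iv F5859) (iv F8194)
theorem F11507 : act 5 n2348 = n1630 := d37_1 D2348 (iv D1630) D1629
theorem F11508 : act 7 n2348 = n2348 := d42_1 D2348 (iv D2348) F8195
def n2349 : Q := act 9 n1630
theorem D2349 : act 9 n1630 = n2349 := rfl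
theorem F11509 : act 1 n2349 = n1635 := d16_1 D2349 (iv D1635) (iv F8196)
theorem F11510 : act 3 n2349 = n1666 := d29_1 D2349 (iv D1666) (iv F8197)
theorem F11511 : act 6 n2349 = n2349 := d41_1 D2349 (iv D2349) F8198
theorem F11512 : act 7 n2349 = n2349 := d43_1 D2349 (iv D2349) F8199
def n2350 : Q := act 7 n1631
theorem D2350 : act 7 n1631 = n2350 := rfl
theorem F11513 : act 1 n2350 = n1636 := d14_1 D2350 (iv D1636) (iv F8200)
theorem F11514 : act 2 n2350 = n1791 := d21_1 D2350 (iv D1791) (iv F8201)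
theorem F11515 : act 5 n2350 = n2350 := d36_1 D2350 (iv D2350) F8202
theorem F11516 : act 6 n2350 = n2350 := d39_1 D2350 (iv D2350) (iv D1631) F5858 D1631
theorem F11517 : act 8 n2350 = n1667 := d42_2 (iv F8203) D2350 (iv D1667)
def n2351 : Q := act 6 n1632
theorem D2351 : act 6 n1632 = n2351 := rfl
theorem F11518 : act 0 n2351 = n2351 := d5_1 D2351 (iv D2351) F8204
theorem F11519 : act 2 n2351 = n2351 := d20_1 D2351 (iv D2351) F8205
theorem F11520 : act 4 n2351 = n1633 := d31_1 D2351 (iv D1633) D1632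
def n2352 : Q := act 8 n1632
theorem D2352 : act 8 n1632 = n2352 := rfl
theorem F11521 : act 0 n2352 = n2352 := d7_1 D2352 (iv D2352) F8204
theorem F11522 : act 2 n2352 = n2352 := d22_1 D2352 (iv D2352) F8205
theorem F11523 : act 4 n2352 = n1634 := d33_1 D2352 (iv D1634) D1632
theorem F11524 : act 7 n2352 = n2352 := d42_1 D2352 (iv D2352) F8206
def n2353 : Q := act 7 n1633
theorem D2353 : act 7 n1633 = n2353 := rfl
theorem F11525 : act 0 n2353 = n2353 := d6_1 D2353 (iv D2353) F8207
theorem F11526 : act 2 n2353 = n2353 := d21_1 D2353 (iv D2353) F8208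
theorem F11527 : act 3 n2353 = n1636 := d27_1 D2353 (iv D1636) (iv F8209)
theorem F11528 : act 5 n2353 = n2353 := d36_1 D2353 (iv D2353) F8210
theorem F11529 : act 6 n2353 = n2353 := d39_1 D2353 (iv D2353) (iv D1633) F5863 D1633
def n2354 : Q := act 8 n1633
theorem D2354 : act 8 n1633 = n2354 := rfl
theorem F11530 : act 0 n2354 = n2354 := d7_1 D2354 (iv D2354) F8207
theorem F11531 : act 2 n2354 = n2354 := d22_1 D2354 (iv D2354) F8208
theorem F11532 : act 3 n2354 = n1671 := d28_1 D2354 (iv D1671) F5987 (iv F5872) (iv F8209)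
theorem F11533 : act 5 n2354 = n2354 := d37_1 D2354 (iv D2354) F8210
theorem F11534 : act 6 n2354 = n1634 := d40_1 D2354 (iv D1634) D1633
def n2355 : Q := act 9 n1634
theorem D2355 : act 9 n1634 = n2355 := rfl
theorem F11535 : act 0 n2355 = n2355 := d8_1 D2355 (iv D2355) F8211
theorem F11536 : act 2 n2355 = n2355 := d23_1 D2355 (iv D2355) F8212
theorem F11537 : act 3 n2355 = n1672 := d29_1 D2355 (iv D1672) (iv F8213)
theorem F11538 : act 5 n2355 = n1635 := d38_1 D2355 (iv D1635) (iv F8214)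
theorem F11539 : act 7 n2355 = n2355 := d43_1 D2355 (iv D2355) F8215
def n2356 : Q := act 4 n1637
theorem D2356 : act 4 n1637 = n2356 := rfl
theorem F11540 : act 0 n2356 = n1638 := d3_1 D2356 (iv D1638) D1637
theorem F11541 : act 1 n2356 = n2356 := d11_1 D2356 (iv D2356) F8226
theorem F11542 : act 2 n2356 = n1794 := d18_1 D2356 (iv D1794) (iv F8227)
theorem F11543 : act 6 n2356 = n2356 := d31_2 F8230 D2356 (iv D2356)
theorem F11544 : act 7 n2356 = n1642 := d32_2 (iv F8231) D2356 (iv D1642)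
theorem F11545 : act 9 n2356 = n2356 := d34_2 F8232 D2356 (iv D2356)
def n2357 : Q := act 3 n1638
theorem D2357 : act 3 n1638 = n2357 := rfl
theorem F11546 : act 1 n2357 = n1639 := d10_1 D2357 (iv D1639) (iv F8233)
theorem F11547 : act 4 n2357 = n2357 := d24_2 D1638 D2357 (iv D2357) (iv D1638) F5880
theorem F11548 : act 6 n2357 = n2357 := d26_2 F8235 D2357 (iv D2357)
theorem F11549 : act 7 n2357 = n1643 := d27_2 (iv F8236) D2357 (iv D1643)
theorem F11550 : act 9 n2357 = n2357 := d29_2 F8237 D2357 (iv D2357)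
def n2358 : Q := act 5 n1638
theorem D2358 : act 5 n1638 = n2358 := rfl
theorem F11551 : act 1 n2358 = n1640 := d12_1 D2358 (iv D1640) (iv F8233)
theorem F11552 : act 2 n2358 = n1796 := d19_1 D2358 (iv D1796) (iv F8234)
theorem F11553 : act 4 n2358 = n2358 := d30_1 D2358 (iv D2358) (iv D1638) F5881 D1638
theorem F11554 : act 7 n2358 = n1644 := d36_2 (iv F8236) D2358 (iv D1644)
theorem F11555 : act 9 n2358 = n2358 := d38_2 F8237 D2358 (iv D2358)
def n2359 : Q := act 5 n1639
theorem D2359 : act 5 n1639 = n2359 := rfl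
theorem F11556 : act 0 n2359 = n2359 := d4_1 D2359 (iv D2359) F8238
theorem F11557 : act 2 n2359 = n2359 := d19_1 D2359 (iv D2359) F8239
theorem F11558 : act 3 n2359 = n1640 := d25_1 D2359 (iv D1640) D1639
theorem F11559 : act 7 n2359 = n1645 := d36_2 (iv F8242) D2359 (iv D1645)
theorem F11560 : act 9 n2359 = n2359 := d38_2 F8243 D2359 (iv D2359)
def n2360 : Q := act 8 n1639
theorem D2360 : act 8 n1639 = n2360 := rfl
theorem F11561 : act 0 n2360 = n2360 := d7_1 D2360 (iv D2360) F8238
theorem F11562 : act 2 n2360 = n2360 := d22_1 D2360 (iv D2360) F8239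
theorem F11563 : act 4 n2360 = n2360 := d33_1 D2360 (iv D2360) F8240
theorem F11564 : act 6 n2360 = n2360 := d40_1 D2360 (iv D2360) F8241
theorem F11565 : act 7 n2360 = n1646 := d42_1 D2360 (iv D1646) (iv F8242)
def n2361 : Q := act 6 n1640
theorem D2361 : act 6 n1640 = n2361 := rfl
theorem F11566 : act 0 n2361 = n2361 := d5_1 D2361 (iv D2361) F8244
theorem F11567 : act 2 n2361 = n1641 := d20_1 D2361 (iv D1641) (iv F8245)
theorem F11568 : act 4 n2361 = n2361 := d31_1 D2361 (iv D2361) F8246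
theorem F11569 : act 5 n2361 = n2361 := d35_1 D2361 (iv D2361) (iv D1640) F5887 D1640
theorem F11570 : act 9 n2361 = n2361 := d41_2 F8248 D2361 (iv D2361)
def n2362 : Q := act 7 n1641
theorem D2362 : act 7 n1641 = n2362 := rfl
theorem F11571 : act 0 n2362 = n2362 := d6_1 D2362 (iv D2362) F8249
theorem F11572 : act 1 n2362 = n1800 := d14_1 D2362 (iv D1800) (iv F8250)
theorem F11573 : act 3 n2362 = n2362 := d27_1 D2362 (iv D2362) F8251
theorem F11574 : act 4 n2362 = n2362 := d32_1 D2362 (iv D2362) F8252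
theorem F11575 : act 5 n2362 = n2362 := d36_1 D2362 (iv D2362) F8253
theorem F11576 : act 6 n2362 = n1648 := d39_1 D2362 (iv D1648) (iv D1147) (iv F5894) D1641
theorem F11577 : act 9 n2362 = n2362 := d43_2 F8254 D2362 (iv D2362)
def n2363 : Q := act 3 n1642
theorem D2363 : act 3 n1642 = n2363 := rfl
theorem F11578 : act 0 n2363 = n1643 := d2_1 D2363 (iv D1643) (iv F8255)
theorem F11579 : act 1 n2363 = n2363 := d10_1 D2363 (iv D2363) F8256
theorem F11580 : act 4 n2363 = n2363 := d24_2 D1642 D2363 (iv D2363) (iv D1642) F5898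
theorem F11581 : act 6 n2363 = n1649 := d26_2 (iv F8258) D2363 (iv D1649)
theorem F11582 : act 9 n2363 = n2363 := d29_2 F8259 D2363 (iv D2363)
def n2364 : Q := act 5 n1642
theorem D2364 : act 5 n1642 = n2364 := rfl
theorem F11583 : act 0 n2364 = n1644 := d4_1 D2364 (iv D1644) (iv F8255)
theorem F11584 : act 1 n2364 = n2364 := d12_1 D2364 (iv D2364) F8256
theorem F11585 : act 2 n2364 = n1802 := d19_1 D2364 (iv D1802) (iv F8257)
theorem F11586 : act 4 n2364 = n2364 := d30_1 D2364 (iv D2364) (iv D1642) F5899 D1642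
theorem F11587 : act 9 n2364 = n2364 := d38_2 F8259 D2364 (iv D2364)
def n2365 : Q := act 2 n1643
theorem D2365 : act 2 n1643 = n2365 := rfl
theorem F11588 : act 1 n2365 = n2365 := d9_1 D2365 (iv D2365) F8260 F5907 (iv F8260)
theorem F11589 : act 3 n2365 = n1803 := d17_2 D1643 D2365 (iv D1803) (iv D1254) (iv F5903)
theorem F11590 : act 4 n2365 = n2365 := d18_2 F8261 D2365 (iv D2365)
theorem F11591 : act 6 n2365 = n1651 := d20_2 (iv F8262) D2365 (iv D1651)
theorem F11592 : act 9 n2365 = n2365 := d23_2 F8263 D2365 (iv D2365)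
def n2366 : Q := act 5 n1643
theorem D2366 : act 5 n1643 = n2366 := rfl
theorem F11593 : act 1 n2366 = n1645 := d12_1 D2366 (iv D1645) (iv F8260)
theorem F11594 : act 3 n2366 = n1644 := d25_1 D2366 (iv D1644) D1643
theorem F11595 : act 9 n2366 = n2366 := d38_2 F8263 D2366 (iv D2366)
def n2367 : Q := act 8 n1643
theorem D2367 : act 8 n1643 = n2367 := rfl
theorem F11596 : act 1 n2367 = n1646 := d15_1 D2367 (iv D1646) (iv F8260)
theorem F11597 : act 4 n2367 = n2367 := d33_1 D2367 (iv D2367) F8261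
theorem F11598 : act 6 n2367 = n1653 := d40_1 D2367 (iv D1653) (iv F8262)
def n2368 : Q := act 6 n1644
theorem D2368 : act 6 n1644 = n2368 := rfl
theorem F11599 : act 1 n2368 = n1647 := d13_1 D2368 (iv D1647) (iv F8264)
theorem F11600 : act 2 n2368 = n1806 := d20_1 D2368 (iv D1806) (iv F8265)
theorem F11601 : act 4 n2368 = n2368 := d31_1 D2368 (iv D2368) F8266
theorem F11602 : act 5 n2368 = n1654 := d35_1 D2368 (iv D1654) (iv D1150) (iv F5904) D1644
theorem F11603 : act 9 n2368 = n2368 := d41_2 F8267 D2368 (iv D2368)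
def n2369 : Q := act 4 n1645
theorem D2369 : act 4 n1645 = n2369 := rfl
theorem F11604 : act 0 n2369 = n2369 := d3_1 D2369 (iv D2369) F8268
theorem F11605 : act 2 n2369 = n2369 := d18_1 D2369 (iv D2369) F8269
theorem F11606 : act 3 n2369 = n2369 := d24_1 D2369 (iv D2369) F8270 F5913 (iv F8270)
theorem F11607 : act 5 n2369 = n2369 := d30_2 D1645 D2369 (iv D2369) (iv D1645) F5908
theorem F11608 : act 9 n2369 = n2369 := d34_2 F8271 D2369 (iv D2369)
def n2370 : Q := act 6 n1645
theorem D2370 : act 6 n1645 = n2370 := rfl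
theorem F11609 : act 0 n2370 = n2370 := d5_1 D2370 (iv D2370) F8268
theorem F11610 : act 2 n2370 = n2370 := d20_1 D2370 (iv D2370) F8269
theorem F11611 : act 3 n2370 = n1647 := d26_1 D2370 (iv D1647) (iv F8270)
theorem F11612 : act 5 n2370 = n1656 := d35_1 D2370 (iv D1656) (iv D1151) (iv F5909) D1645
theorem F11613 : act 9 n2370 = n2370 := d41_2 F8271 D2370 (iv D2370)
def n2371 : Q := act 8 n1645
theorem D2371 : act 8 n1645 = n2371 := rfl
theorem F11614 : act 0 n2371 = n2371 := d7_1 D2371 (iv D2371) F8268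
theorem F11615 : act 2 n2371 = n2371 := d22_1 D2371 (iv D2371) F8269
theorem F11616 : act 5 n2371 = n1646 := d37_1 D2371 (iv D1646) D1645
def n2372 : Q := act 9 n1646
theorem D2372 : act 9 n1646 = n2372 := rfl
theorem F11617 : act 0 n2372 = n2372 := d8_1 D2372 (iv D2372) F8272
theorem F11618 : act 2 n2372 = n2372 := d23_1 D2372 (iv D2372) F8273
theorem F11619 : act 4 n2372 = n2372 := d34_1 D2372 (iv D2372) F8274
theorem F11620 : act 6 n2372 = n1658 := d41_1 D2372 (iv D1658) (iv F8275)
theorem F11621 : act 8 n2372 = n2372 := d44_1 D2372 (iv D2372) (iv D1646) F5910 D1646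
def n2373 : Q := act 7 n1647
theorem D2373 : act 7 n1647 = n2373 := rfl
theorem F11622 : act 0 n2373 = n2373 := d6_1 D2373 (iv D2373) F8276
theorem F11623 : act 2 n2373 = n1648 := d21_1 D2373 (iv D1648) (iv F8277)
theorem F11624 : act 4 n2373 = n2373 := d32_1 D2373 (iv D2373) F8278
theorem F11625 : act 5 n2373 = n1659 := d36_1 D2373 (iv D1659) (iv F8279)
theorem F11626 : act 9 n2373 = n2373 := d43_2 F8280 D2373 (iv D2373)
def n2374 : Q := act 2 n1649
theorem D2374 : act 2 n1649 = n2374 := rfl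
theorem F11627 : act 0 n2374 = n1651 := d1_1 D2374 (iv D1651) (iv F8287)
theorem F11628 : act 3 n2374 = n1812 := d17_2 D1649 D2374 (iv D1812) (iv D1260) (iv F5923)
theorem F11629 : act 4 n2374 = n2374 := d18_2 F8289 D2374 (iv D2374)
theorem F11630 : act 7 n2374 = n2374 := d21_2 F8290 D2374 (iv D2374)
theorem F11631 : act 9 n2374 = n2374 := d23_2 F8291 D2374 (iv D2374)
def n2375 : Q := act 5 n1649
theorem D2375 : act 5 n1649 = n2375 := rfl
theorem F11632 : act 0 n2375 = n1652 := d4_1 D2375 (iv D1652) (iv F8287)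
theorem F11633 : act 1 n2375 = n2375 := d12_1 D2375 (iv D2375) F8288
theorem F11634 : act 3 n2375 = n1650 := d25_1 D2375 (iv D1650) D1649
theorem F11635 : act 7 n2375 = n2375 := d36_2 F8290 D2375 (iv D2375)
theorem F11636 : act 9 n2375 = n2375 := d38_2 F8291 D2375 (iv D2375)
def n2376 : Q := act 8 n1649
theorem D2376 : act 8 n1649 = n2376 := rfl
theorem F11637 : act 0 n2376 = n1653 := d7_1 D2376 (iv D1653) (iv F8287)
theorem F11638 : act 1 n2376 = n2376 := d15_1 D2376 (iv D2376) F8288
theorem F11639 : act 4 n2376 = n2376 := d33_1 D2376 (iv D2376) F8289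
theorem F11640 : act 7 n2376 = n2376 := d42_1 D2376 (iv D2376) F8290
def n2377 : Q := act 6 n1650
theorem D2377 : act 6 n1650 = n2377 := rfl
theorem F11641 : act 0 n2377 = n1654 := d5_1 D2377 (iv D1654) (iv F8292)
theorem F11642 : act 1 n2377 = n2377 := d13_1 D2377 (iv D2377) F8293
theorem F11643 : act 2 n2377 = n1815 := d20_1 D2377 (iv D1815) (iv F8294)
theorem F11644 : act 4 n2377 = n1662 := d31_1 D2377 (iv D1662) (iv F8295)
theorem F11645 : act 9 n2377 = n2377 := d41_2 F8297 D2377 (iv D2377)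
def n2378 : Q := act 5 n1651
theorem D2378 : act 5 n1651 = n2378 := rfl
theorem F11646 : act 1 n2378 = n2378 := d12_1 D2378 (iv D2378) F8298
theorem F11647 : act 2 n2378 = n1652 := d19_1 D2378 (iv D1652) D1651
theorem F11648 : act 3 n2378 = n1816 := d25_1 D2378 (iv D1816) (iv F8299)
theorem F11649 : act 7 n2378 = n2378 := d36_2 F8301 D2378 (iv D2378)
theorem F11650 : act 9 n2378 = n2378 := d38_2 F8302 D2378 (iv D2378)
def n2379 : Q := act 8 n1651
theorem D2379 : act 8 n1651 = n2379 := rfl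
theorem F11651 : act 1 n2379 = n2379 := d15_1 D2379 (iv D2379) F8298
theorem F11652 : act 2 n2379 = n1653 := d22_1 D2379 (iv D1653) D1651
theorem F11653 : act 4 n2379 = n2379 := d33_1 D2379 (iv D2379) F8300
theorem F11654 : act 7 n2379 = n2379 := d42_1 D2379 (iv D2379) F8301
def n2380 : Q := act 4 n1652
theorem D2380 : act 4 n1652 = n2380 := rfl
theorem F11655 : act 1 n2380 = n1655 := d11_1 D2380 (iv D1655) (iv F8303)
theorem F11656 : act 3 n2380 = n1663 := d24_1 D2380 (iv D1663) F5968 (iv F5932) (iv F8304)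
theorem F11657 : act 5 n2380 = n2380 := d30_2 D1652 D2380 (iv D2380) (iv D1652) F5927
theorem F11658 : act 7 n2380 = n2380 := d32_2 F8305 D2380 (iv D2380)
theorem F11659 : act 9 n2380 = n2380 := d34_2 F8306 D2380 (iv D2380)
def n2381 : Q := act 6 n1652
theorem D2381 : act 6 n1652 = n2381 := rfl
theorem F11660 : act 1 n2381 = n1656 := d13_1 D2381 (iv D1656) (iv F8303)
theorem F11661 : act 3 n2381 = n1654 := d26_1 D2381 (iv D1654) (iv F8304)
theorem F11662 : act 9 n2381 = n2381 := d41_2 F8306 D2381 (iv D2381)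
def n2382 : Q := act 8 n1652
theorem D2382 : act 8 n1652 = n2382 := rfl
theorem F11663 : act 1 n2382 = n1657 := d15_1 D2382 (iv D1657) (iv F8303)
theorem F11664 : act 5 n2382 = n1653 := d37_1 D2382 (iv D1653) D1652
theorem F11665 : act 7 n2382 = n2382 := d42_1 D2382 (iv D2382) F8305
def n2383 : Q := act 9 n1653
theorem D2383 : act 9 n1653 = n2383 := rfl
theorem F11666 : act 1 n2383 = n1658 := d16_1 D2383 (iv D1658) (iv F8307)
theorem F11667 : act 4 n2383 = n2383 := d34_1 D2383 (iv D2383) F8308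
theorem F11668 : act 7 n2383 = n2383 := d43_1 D2383 (iv D2383) F8309
theorem F11669 : act 8 n2383 = n2383 := d44_1 D2383 (iv D2383) (iv D1653) F5929 D1653
def n2384 : Q := act 7 n1654
theorem D2384 : act 7 n1654 = n2384 := rfl
theorem F11670 : act 1 n2384 = n1659 := d14_1 D2384 (iv D1659) (iv F8310)
theorem F11671 : act 2 n2384 = n1821 := d21_1 D2384 (iv D1821) (iv F8311)
theorem F11672 : act 4 n2384 = n1667 := d32_1 D2384 (iv D1667) (iv F8312)
theorem F11673 : act 6 n2384 = n2384 := d39_1 D2384 (iv D2384) (iv D1654) F5933 D1654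
theorem F11674 : act 9 n2384 = n2384 := d43_2 F8313 D2384 (iv D2384)
def n2385 : Q := act 6 n1655
theorem D2385 : act 6 n1655 = n2385 := rfl
theorem F11675 : act 0 n2385 = n2385 := d5_1 D2385 (iv D2385) F8314
theorem F11676 : act 2 n2385 = n2385 := d20_1 D2385 (iv D2385) F8315
theorem F11677 : act 3 n2385 = n1668 := d26_1 D2385 (iv D1668) (iv F8316)
theorem F11678 : act 4 n2385 = n1656 := d31_1 D2385 (iv D1656) D1655
theorem F11679 : act 9 n2385 = n2385 := d41_2 F8319 D2385 (iv D2385)
def n2386 : Q := act 8 n1655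
theorem D2386 : act 8 n1655 = n2386 := rfl
theorem F11680 : act 0 n2386 = n2386 := d7_1 D2386 (iv D2386) F8314
theorem F11681 : act 2 n2386 = n2386 := d22_1 D2386 (iv D2386) F8315
theorem F11682 : act 4 n2386 = n1657 := d33_1 D2386 (iv D1657) D1655
theorem F11683 : act 5 n2386 = n2386 := d37_1 D2386 (iv D2386) F8317
theorem F11684 : act 7 n2386 = n2386 := d42_1 D2386 (iv D2386) F8318
def n2387 : Q := act 7 n1656
theorem D2387 : act 7 n1656 = n2387 := rfl
theorem F11685 : act 0 n2387 = n2387 := d6_1 D2387 (iv D2387) F8320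
theorem F11686 : act 2 n2387 = n2387 := d21_1 D2387 (iv D2387) F8321
theorem F11687 : act 3 n2387 = n1659 := d27_1 D2387 (iv D1659) (iv F8322)
theorem F11688 : act 6 n2387 = n2387 := d39_1 D2387 (iv D2387) (iv D1656) F5938 D1656
theorem F11689 : act 9 n2387 = n2387 := d43_2 F8323 D2387 (iv D2387)
def n2388 : Q := act 8 n1656
theorem D2388 : act 8 n1656 = n2388 := rfl
theorem F11690 : act 0 n2388 = n2388 := d7_1 D2388 (iv D2388) F8320
theorem F11691 : act 2 n2388 = n2388 := d22_1 D2388 (iv D2388) F8321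
theorem F11692 : act 6 n2388 = n1657 := d40_1 D2388 (iv D1657) D1656
def n2389 : Q := act 9 n1657
theorem D2389 : act 9 n1657 = n2389 := rfl
theorem F11693 : act 0 n2389 = n2389 := d8_1 D2389 (iv D2389) F8324
theorem F11694 : act 2 n2389 = n2389 := d23_1 D2389 (iv D2389) F8325
theorem F11695 : act 5 n2389 = n1658 := d38_1 D2389 (iv D1658) (iv F8326)
theorem F11696 : act 7 n2389 = n2389 := d43_1 D2389 (iv D2389) F8327
theorem F11697 : act 8 n2389 = n2389 := d44_1 D2389 (iv D2389) (iv D1657) F5939 D1657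
def n2390 : Q := act 4 n1660
theorem D2390 : act 4 n1660 = n2390 := rfl
theorem F11698 : act 0 n2390 = n1663 := d3_1 D2390 (iv D1663) (iv F8338)
theorem F11699 : act 1 n2390 = n2390 := d11_1 D2390 (iv D2390) F8339
theorem F11700 : act 2 n2390 = n2390 := d18_1 D2390 (iv D2390) F8340
theorem F11701 : act 5 n2390 = n2390 := d30_2 D1660 D2390 (iv D2390) (iv D1660) F5957
theorem F11702 : act 7 n2390 = n2390 := d32_2 F8342 D2390 (iv D2390)
theorem F11703 : act 9 n2390 = n2390 := d34_2 F8343 D2390 (iv D2390)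
def n2391 : Q := act 6 n1660
theorem D2391 : act 6 n1660 = n2391 := rfl
theorem F11704 : act 0 n2391 = n1664 := d5_1 D2391 (iv D1664) (iv F8338)
theorem F11705 : act 1 n2391 = n2391 := d13_1 D2391 (iv D2391) F8339
theorem F11706 : act 2 n2391 = n2391 := d20_1 D2391 (iv D2391) F8340
theorem F11707 : act 3 n2391 = n1662 := d26_1 D2391 (iv D1662) (iv F8341)
theorem F11708 : act 5 n2391 = n2391 := d35_1 D2391 (iv D2391) (iv D1660) F5958 D1660
theorem F11709 : act 9 n2391 = n2391 := d41_2 F8343 D2391 (iv D2391)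
def n2392 : Q := act 8 n1660
theorem D2392 : act 8 n1660 = n2392 := rfl
theorem F11710 : act 0 n2392 = n1665 := d7_1 D2392 (iv D1665) (iv F8338)
theorem F11711 : act 1 n2392 = n2392 := d15_1 D2392 (iv D2392) F8339
theorem F11712 : act 2 n2392 = n2392 := d22_1 D2392 (iv D2392) F8340
theorem F11713 : act 5 n2392 = n1661 := d37_1 D2392 (iv D1661) D1660
theorem F11714 : act 7 n2392 = n2392 := d42_1 D2392 (iv D2392) F8342
def n2393 : Q := act 9 n1661
theorem D2393 : act 9 n1661 = n2393 := rfl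
theorem F11715 : act 0 n2393 = n1666 := d8_1 D2393 (iv D1666) (iv F8344)
theorem F11716 : act 1 n2393 = n2393 := d16_1 D2393 (iv D2393) F8345
theorem F11717 : act 2 n2393 = n2393 := d23_1 D2393 (iv D2393) F8346
theorem F11718 : act 4 n2393 = n2393 := d34_1 D2393 (iv D2393) F8347
theorem F11719 : act 6 n2393 = n2393 := d41_1 D2393 (iv D2393) F8348
theorem F11720 : act 7 n2393 = n2393 := d43_1 D2393 (iv D2393) F8349
theorem F11721 : act 8 n2393 = n2393 := d44_1 D2393 (iv D2393) (iv D1661) F5960 D1661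
def n2394 : Q := act 7 n1662
theorem D2394 : act 7 n1662 = n2394 := rfl
theorem F11722 : act 0 n2394 = n1667 := d6_1 D2394 (iv D1667) (iv F8350)
theorem F11723 : act 1 n2394 = n2394 := d14_1 D2394 (iv D2394) F8351
theorem F11724 : act 2 n2394 = n1825 := d21_1 D2394 (iv D1825) (iv F8352)
theorem F11725 : act 5 n2394 = n2394 := d36_1 D2394 (iv D2394) F8353
theorem F11726 : act 6 n2394 = n2394 := d39_1 D2394 (iv D2394) (iv D1662) F5964 D1662
theorem F11727 : act 9 n2394 = n2394 := d43_2 F8354 D2394 (iv D2394)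
def n2395 : Q := act 6 n1663
theorem D2395 : act 6 n1663 = n2395 := rfl
theorem F11728 : act 1 n2395 = n1668 := d13_1 D2395 (iv D1668) (iv F8355)
theorem F11729 : act 2 n2395 = n2395 := d20_1 D2395 (iv D2395) F8356
theorem F11730 : act 4 n2395 = n1664 := d31_1 D2395 (iv D1664) D1663
theorem F11731 : act 9 n2395 = n2395 := d41_2 F8359 D2395 (iv D2395)
def n2396 : Q := act 8 n1663
theorem D2396 : act 8 n1663 = n2396 := rfl
theorem F11732 : act 1 n2396 = n1669 := d15_1 D2396 (iv D1669) (iv F8355)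
theorem F11733 : act 2 n2396 = n2396 := d22_1 D2396 (iv D2396) F8356
theorem F11734 : act 4 n2396 = n1665 := d33_1 D2396 (iv D1665) D1663
theorem F11735 : act 5 n2396 = n2396 := d37_1 D2396 (iv D2396) F8357
theorem F11736 : act 7 n2396 = n2396 := d42_1 D2396 (iv D2396) F8358
def n2397 : Q := act 7 n1664
theorem D2397 : act 7 n1664 = n2397 := rfl
theorem F11737 : act 1 n2397 = n1670 := d14_1 D2397 (iv D1670) (iv F8360)
theorem F11738 : act 2 n2397 = n2397 := d21_1 D2397 (iv D2397) F8361
theorem F11739 : act 3 n2397 = n1667 := d27_1 D2397 (iv D1667) (iv F8362)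
theorem F11740 : act 5 n2397 = n2397 := d36_1 D2397 (iv D2397) F8363
theorem F11741 : act 6 n2397 = n2397 := d39_1 D2397 (iv D2397) (iv D1664) F5969 D1664
theorem F11742 : act 9 n2397 = n2397 := d43_2 F8364 D2397 (iv D2397)
def n2398 : Q := act 8 n1664
theorem D2398 : act 8 n1664 = n2398 := rfl
theorem F11743 : act 1 n2398 = n1671 := d15_1 D2398 (iv D1671) (iv F8360)
theorem F11744 : act 2 n2398 = n2398 := d22_1 D2398 (iv D2398) F8361
theorem F11745 : act 5 n2398 = n2398 := d37_1 D2398 (iv D2398) F8363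
theorem F11746 : act 6 n2398 = n1665 := d40_1 D2398 (iv D1665) D1664
def n2399 : Q := act 9 n1665
theorem D2399 : act 9 n1665 = n2399 := rfl
theorem F11747 : act 1 n2399 = n1672 := d16_1 D2399 (iv D1672) (iv F8365)
theorem F11748 : act 2 n2399 = n2399 := d23_1 D2399 (iv D2399) F8366
theorem F11749 : act 5 n2399 = n1666 := d38_1 D2399 (iv D1666) (iv F8367)
theorem F11750 : act 7 n2399 = n2399 := d43_1 D2399 (iv D2399) F8368
theorem F11751 : act 8 n2399 = n2399 := d44_1 D2399 (iv D2399) (iv D1665) F5970 D1665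
def n2400 : Q := act 5 n1668
theorem D2400 : act 5 n1668 = n2400 := rfl
theorem F11752 : act 0 n2400 = n2400 := d4_1 D2400 (iv D2400) F8380
theorem F11753 : act 2 n2400 = n1673 := d19_1 D2400 (iv D1673) (iv F8381)
theorem F11754 : act 4 n2400 = n2400 := d30_1 D2400 (iv D2400) F8382 F5988 (iv F8382)
theorem F11755 : act 6 n2400 = n2400 := d35_2 D1668 D2400 (iv D2400) (iv D1668) F5982
theorem F11756 : act 9 n2400 = n2400 := d38_2 F8383 D2400 (iv D2400)
def n2401 : Q := act 7 n1668
theorem D2401 : act 7 n1668 = n2401 := rfl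
theorem F11757 : act 0 n2401 = n2401 := d6_1 D2401 (iv D2401) F8380
theorem F11758 : act 2 n2401 = n1674 := d21_1 D2401 (iv D1674) (iv F8381)
theorem F11759 : act 4 n2401 = n1670 := d32_1 D2401 (iv D1670) (iv F8382)
theorem F11760 : act 6 n2401 = n2401 := d39_1 D2401 (iv D2401) (iv D1668) F5983 D1668
theorem F11761 : act 9 n2401 = n2401 := d43_2 F8383 D2401 (iv D2401)
def n2402 : Q := act 8 n1668
theorem D2402 : act 8 n1668 = n2402 := rfl
theorem F11762 : act 0 n2402 = n2402 := d7_1 D2402 (iv D2402) F8380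
theorem F11763 : act 2 n2402 = n1675 := d22_1 D2402 (iv D1675) (iv F8381)
theorem F11764 : act 4 n2402 = n1671 := d33_1 D2402 (iv D1671) (iv F8382)
theorem F11765 : act 6 n2402 = n1669 := d40_1 D2402 (iv D1669) D1668
def n2403 : Q := act 3 n1669
theorem D2403 : act 3 n1669 = n2403 := rfl
theorem F11766 : act 0 n2403 = n2403 := d2_1 D2403 (iv D2403) F8384
theorem F11767 : act 5 n2403 = n2403 := d25_2 F8387 D2403 (iv D2403)
theorem F11768 : act 7 n2403 = n2403 := d27_2 F8388 D2403 (iv D2403)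
def n2404 : Q := act 9 n1669
theorem D2404 : act 9 n1669 = n2404 := rfl
theorem F11769 : act 0 n2404 = n2404 := d8_1 D2404 (iv D2404) F8384
theorem F11770 : act 2 n2404 = n1677 := d23_1 D2404 (iv D1677) (iv F8385)
theorem F11771 : act 4 n2404 = n1672 := d34_1 D2404 (iv D1672) (iv F8386)
theorem F11772 : act 5 n2404 = n2404 := d38_1 D2404 (iv D2404) F8387
theorem F11773 : act 7 n2404 = n2404 := d43_1 D2404 (iv D2404) F8388
theorem F11774 : act 8 n2404 = n2404 := d44_1 D2404 (iv D2404) (iv D1669) F5984 D1669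
def n2405 : Q := act 8 n1670
theorem D2405 : act 8 n1670 = n2405 := rfl
theorem F11775 : act 0 n2405 = n2405 := d7_1 D2405 (iv D2405) F8389
theorem F11776 : act 2 n2405 = n1678 := d22_1 D2405 (iv D1678) (iv F8390)
theorem F11777 : act 5 n2405 = n2405 := d37_1 D2405 (iv D2405) F8392
theorem F11778 : act 6 n2405 = n2405 := d40_1 D2405 (iv D2405) F8393
theorem F11779 : act 7 n2405 = n1671 := d42_1 D2405 (iv D1671) D1670
def n2406 : Q := act 9 n1671
theorem D2406 : act 9 n1671 = n2406 := rfl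
theorem F11780 : act 0 n2406 = n2406 := d8_1 D2406 (iv D2406) F8395
theorem F11781 : act 2 n2406 = n1679 := d23_1 D2406 (iv D1679) (iv F8396)
theorem F11782 : act 5 n2406 = n2406 := d38_1 D2406 (iv D2406) F8397
theorem F11783 : act 6 n2406 = n1672 := d41_1 D2406 (iv D1672) (iv F8398)
theorem F11784 : act 8 n2406 = n2406 := d44_1 D2406 (iv D2406) (iv D1671) F5989 D1671
def n2407 : Q := act 7 n1673
theorem D2407 : act 7 n1673 = n2407 := rfl
theorem F11785 : act 0 n2407 = n2407 := d6_1 D2407 (iv D2407) F8404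
theorem F11786 : act 1 n2407 = n2407 := d14_1 D2407 (iv D2407) F8405
theorem F11787 : act 3 n2407 = n2407 := d27_1 D2407 (iv D2407) F8406
theorem F11788 : act 4 n2407 = n2407 := d32_1 D2407 (iv D2407) F8407
theorem F11789 : act 5 n2407 = n1674 := d36_1 D2407 (iv D1674) D1673
theorem F11790 : act 9 n2407 = n2407 := d43_2 F8409 D2407 (iv D2407)
def n2408 : Q := act 8 n1673
theorem D2408 : act 8 n1673 = n2408 := rfl
theorem F11791 : act 0 n2408 = n2408 := d7_1 D2408 (iv D2408) F8404
theorem F11792 : act 1 n2408 = n2408 := d15_1 D2408 (iv D2408) F8405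
theorem F11793 : act 4 n2408 = n2408 := d33_1 D2408 (iv D2408) F8407
theorem F11794 : act 5 n2408 = n1675 := d37_1 D2408 (iv D1675) D1673
theorem F11795 : act 6 n2408 = n2408 := d40_1 D2408 (iv D2408) F8408
def n2409 : Q := act 8 n1674
theorem D2409 : act 8 n1674 = n2409 := rfl
theorem F11796 : act 0 n2409 = n2409 := d7_1 D2409 (iv D2409) F8410
theorem F11797 : act 1 n2409 = n2409 := d15_1 D2409 (iv D2409) F8411
theorem F11798 : act 4 n2409 = n1678 := d33_1 D2409 (iv D1678) (iv F8413)
theorem F11799 : act 6 n2409 = n2409 := d40_1 D2409 (iv D2409) F8414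
theorem F11800 : act 7 n2409 = n1675 := d42_1 D2409 (iv D1675) D1674
def n2410 : Q := act 3 n1675
theorem D2410 : act 3 n1675 = n2410 := rfl
theorem F11801 : act 0 n2410 = n2410 := d2_1 D2410 (iv D2410) F8416
theorem F11802 : act 1 n2410 = n2410 := d10_1 D2410 (iv D2410) F8417
theorem F11803 : act 4 n2410 = n2410 := d24_2 (iv F8418) D2410 (iv D2410) F8418 F6023
theorem F11804 : act 6 n2410 = n1676 := d26_2 (iv F8419) D2410 (iv D1676)
theorem F11805 : act 8 n2410 = n2410 := d28_2 D1675 D2410 (iv D2410) (iv D1675) F6007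
def n2411 : Q := act 9 n1675
theorem D2411 : act 9 n1675 = n2411 := rfl
theorem F11806 : act 0 n2411 = n2411 := d8_1 D2411 (iv D2411) F8416
theorem F11807 : act 1 n2411 = n2411 := d16_1 D2411 (iv D2411) F8417
theorem F11808 : act 4 n2411 = n1679 := d34_1 D2411 (iv D1679) (iv F8418)
theorem F11809 : act 6 n2411 = n1677 := d41_1 D2411 (iv D1677) (iv F8419)
theorem F11810 : act 8 n2411 = n2411 := d44_1 D2411 (iv D2411) (iv D1675) F6009 D1675
def n2412 : Q := act 2 n1676
theorem D2412 : act 2 n1676 = n2412 := rfl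
theorem F11811 : act 0 n2412 = n2412 := d1_1 D2412 (iv D2412) F8420
theorem F11812 : act 4 n2412 = n2412 := d18_2 F8422 D2412 (iv D2412)
theorem F11813 : act 5 n2412 = n2412 := d19_2 F8423 D2412 (iv D2412)
theorem F11814 : act 7 n2412 = n2412 := d21_2 F8424 D2412 (iv D2412)
theorem F11815 : act 8 n2412 = n2412 := d22_2 F8425 D2412 (iv D2412)
def n2413 : Q := act 9 n1676
theorem D2413 : act 9 n1676 = n2413 := rfl
theorem F11816 : act 0 n2413 = n2413 := d8_1 D2413 (iv D2413) F8420
theorem F11817 : act 1 n2413 = n2413 := d16_1 D2413 (iv D2413) F8421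
theorem F11818 : act 3 n2413 = n1677 := d29_1 D2413 (iv D1677) D1676
theorem F11819 : act 4 n2413 = n2413 := d34_1 D2413 (iv D2413) F8422
theorem F11820 : act 5 n2413 = n2413 := d38_1 D2413 (iv D2413) F8423
theorem F11821 : act 7 n2413 = n2413 := d43_1 D2413 (iv D2413) F8424
def n2414 : Q := act 9 n1678
theorem D2414 : act 9 n1678 = n2414 := rfl
theorem F11822 : act 0 n2414 = n2414 := d8_1 D2414 (iv D2414) F8432
theorem F11823 : act 1 n2414 = n2414 := d16_1 D2414 (iv D2414) F8433
theorem F11824 : act 3 n2414 = n2414 := d29_1 D2414 (iv D2414) F8434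
theorem F11825 : act 5 n2414 = n2414 := d38_1 D2414 (iv D2414) F8435
theorem F11826 : act 6 n2414 = n2414 := d41_1 D2414 (iv D2414) F8436
theorem F11827 : act 7 n2414 = n1679 := d43_1 D2414 (iv D1679) (iv F8437)
theorem F11828 : act 8 n2414 = n2414 := d44_1 D2414 (iv D2414) (iv D1678) F6020 D1678
def n2415 : Q := act 4 n1680
theorem D2415 : act 4 n1680 = n2415 := rfl
theorem F11829 : act 0 n2415 = n1852 := d3_1 D2415 (iv D1852) (iv F8444)
theorem F11830 : act 1 n2415 = n2415 := d11_1 D2415 (iv D2415) F8445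
theorem F11831 : act 2 n2415 = n1681 := d18_1 D2415 (iv D1681) D1680
theorem F11832 : act 6 n2415 = n1685 := d31_2 (iv F8448) D2415 (iv D1685)
theorem F11833 : act 7 n2415 = n2415 := d32_2 F8449 D2415 (iv D2415)
theorem F11834 : act 8 n2415 = n2415 := d33_2 F8450 D2415 (iv D2415)
def n2416 : Q := act 9 n1680
theorem D2416 : act 9 n1680 = n2416 := rfl
theorem F11835 : act 0 n2416 = n1853 := d8_1 D2416 (iv D1853) (iv F8444)
theorem F11836 : act 1 n2416 = n2416 := d16_1 D2416 (iv D2416) F8445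
theorem F11837 : act 2 n2416 = n1682 := d23_1 D2416 (iv D1682) D1680
theorem F11838 : act 3 n2416 = n2416 := d29_1 D2416 (iv D2416) F8446
theorem F11839 : act 5 n2416 = n2416 := d38_1 D2416 (iv D2416) F8447
theorem F11840 : act 6 n2416 = n1686 := d41_1 D2416 (iv D1686) (iv F8448)
theorem F11841 : act 7 n2416 = n2416 := d43_1 D2416 (iv D2416) F8449
def n2417 : Q := act 5 n1681
theorem D2417 : act 5 n1681 = n2417 := rfl
theorem F11842 : act 0 n2417 = n1854 := d4_1 D2417 (iv D1854) (iv F8451)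
theorem F11843 : act 3 n2417 = n2417 := d25_1 D2417 (iv D2417) F8452
theorem F11844 : act 4 n2417 = n2417 := d30_1 D2417 (iv D2417) (iv D1681) F6033 D1681
theorem F11845 : act 6 n2417 = n2417 := d35_2 (iv F8453) D2417 (iv D2417) F8453 F6057
theorem F11846 : act 7 n2417 = n2417 := d36_2 F8454 D2417 (iv D2417)
theorem F11847 : act 8 n2417 = n2417 := d37_2 F8455 D2417 (iv D2417)
def n2418 : Q := act 9 n1681
theorem D2418 : act 9 n1681 = n2418 := rfl
theorem F11848 : act 0 n2418 = n1855 := d8_1 D2418 (iv D1855) (iv F8451)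
theorem F11849 : act 3 n2418 = n2418 := d29_1 D2418 (iv D2418) F8452
theorem F11850 : act 4 n2418 = n1682 := d34_1 D2418 (iv D1682) D1681
theorem F11851 : act 6 n2418 = n1687 := d41_1 D2418 (iv D1687) (iv F8453)
theorem F11852 : act 7 n2418 = n2418 := d43_1 D2418 (iv D2418) F8454
def n2419 : Q := act 8 n1682
theorem D2419 : act 8 n1682 = n2419 := rfl
theorem F11853 : act 0 n2419 = n1856 := d7_1 D2419 (iv D1856) (iv F8456)
theorem F11854 : act 5 n2419 = n2419 := d37_1 D2419 (iv D2419) F8458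
theorem F11855 : act 6 n2419 = n1688 := d40_1 D2419 (iv D1688) (iv F8459)
theorem F11856 : act 7 n2419 = n2419 := d42_1 D2419 (iv D2419) F8460
theorem F11857 : act 9 n2419 = n2419 := d44_2 D1682 D2419 (iv D2419) (iv D1682) F6036
def n2420 : Q := act 3 n1683
theorem D2420 : act 3 n1683 = n2420 := rfl
theorem F11858 : act 0 n2420 = n1857 := d2_1 D2420 (iv D1857) (iv F8461)
theorem F11859 : act 5 n2420 = n2420 := d25_2 F8464 D2420 (iv D2420)
theorem F11860 : act 6 n2420 = n1689 := d26_2 (iv F8465) D2420 (iv D1689)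
theorem F11861 : act 7 n2420 = n2420 := d27_2 F8466 D2420 (iv D2420)
theorem F11862 : act 9 n2420 = n1684 := d29_2 (iv F8467) D2420 (iv D1684)
def n2421 : Q := act 2 n1684
theorem D2421 : act 2 n1684 = n2421 := rfl
theorem F11863 : act 0 n2421 = n1858 := d1_1 D2421 (iv D1858) (iv F8468)
theorem F11864 : act 3 n2421 = n2421 := d17_2 D1684 D2421 (iv D2421) (iv D1684) F6044
theorem F11865 : act 5 n2421 = n2421 := d19_2 F8469 D2421 (iv D2421)
theorem F11866 : act 6 n2421 = n1690 := d20_2 (iv F8470) D2421 (iv D1690)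
theorem F11867 : act 7 n2421 = n2421 := d21_2 F8471 D2421 (iv D2421)
theorem F11868 : act 8 n2421 = n2421 := d22_2 F8472 D2421 (iv D2421)
def n2422 : Q := act 4 n1684
theorem D2422 : act 4 n1684 = n2422 := rfl
theorem F11869 : act 0 n2422 = n1859 := d3_1 D2422 (iv D1859) (iv F8468)
theorem F11870 : act 3 n2422 = n2422 := d24_1 D2422 (iv D2422) (iv D1684) F6045 D1684
theorem F11871 : act 6 n2422 = n1691 := d31_2 (iv F8470) D2422 (iv D1691)
theorem F11872 : act 7 n2422 = n2422 := d32_2 F8471 D2422 (iv D2422)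
theorem F11873 : act 8 n2422 = n2422 := d33_2 F8472 D2422 (iv D2422)
def n2423 : Q := act 3 n1685
theorem D2423 : act 3 n1685 = n2423 := rfl
theorem F11874 : act 0 n2423 = n1862 := d2_1 D2423 (iv D1862) (iv F8473)
theorem F11875 : act 1 n2423 = n2423 := d10_1 D2423 (iv D2423) F8474
theorem F11876 : act 2 n2423 = n2423 := d17_1 D2423 (iv D2423) F8475 F6056 (iv F8475)
theorem F11877 : act 4 n2423 = n2423 := d24_2 D1685 D2423 (iv D2423) (iv D1685) F6051
theorem F11878 : act 5 n2423 = n2423 := d25_2 F8476 D2423 (iv D2423)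
theorem F11879 : act 7 n2423 = n1692 := d27_2 (iv F8477) D2423 (iv D1692)
def n2424 : Q := act 9 n1685
theorem D2424 : act 9 n1685 = n2424 := rfl
theorem F11880 : act 0 n2424 = n1863 := d8_1 D2424 (iv D1863) (iv F8473)
theorem F11881 : act 1 n2424 = n2424 := d16_1 D2424 (iv D2424) F8474
theorem F11882 : act 2 n2424 = n1687 := d23_1 D2424 (iv D1687) (iv F8475)
theorem F11883 : act 4 n2424 = n1686 := d34_1 D2424 (iv D1686) D1685
theorem F11884 : act 5 n2424 = n2424 := d38_1 D2424 (iv D2424) F8476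
theorem F11885 : act 7 n2424 = n1693 := d43_1 D2424 (iv D1693) (iv F8477)
def n2425 : Q := act 8 n1686
theorem D2425 : act 8 n1686 = n2425 := rfl
theorem F11888 : act 2 n2425 = n1688 := d22_1 D2425 (iv D1688) (iv F8481)
theorem F11889 : act 5 n2425 = n1702 := d37_1 D2425 (iv D1702) (iv F8483)
def n2426 : Q := act 8 n1687
theorem D2426 : act 8 n1687 = n2426 := rfl
theorem F11892 : act 0 n2426 = n1865 := d7_1 D2426 (iv D1865) (iv F8485)
theorem F11893 : act 4 n2426 = n1688 := d33_1 D2426 (iv D1688) (iv F8487)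
theorem F11894 : act 5 n2426 = n2426 := d37_1 D2426 (iv D2426) F8488
theorem F11895 : act 7 n2426 = n1695 := d42_1 D2426 (iv D1695) (iv F8489)
theorem F11896 : act 9 n2426 = n2426 := d44_2 D1687 D2426 (iv D2426) (iv D1687) F6059
def n2427 : Q := act 3 n1688
theorem D2427 : act 3 n1688 = n2427 := rfl
theorem F11897 : act 0 n2427 = n1866 := d2_1 D2427 (iv D1866) (iv F8490)
theorem F11898 : act 5 n2427 = n1703 := d25_2 (iv F8491) D2427 (iv D1703)
theorem F11899 : act 7 n2427 = n1696 := d27_2 (iv F8492) D2427 (iv D1696)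
theorem F11900 : act 8 n2427 = n1689 := d28_2 D1688 D2427 (iv D1689) (iv D1176) (iv F6061)
theorem F11901 : act 9 n2427 = n2427 := d29_2 F8493 D2427 (iv D2427)
def n2428 : Q := act 2 n1689
theorem D2428 : act 2 n1689 = n2428 := rfl
theorem F11902 : act 0 n2428 = n1867 := d1_1 D2428 (iv D1867) (iv F8494)
theorem F11903 : act 3 n2428 = n2428 := d17_2 D1689 D2428 (iv D2428) (iv D1689) F6065
theorem F11904 : act 5 n2428 = n1704 := d19_2 (iv F8495) D2428 (iv D1704)
theorem F11905 : act 7 n2428 = n1697 := d21_2 (iv F8496) D2428 (iv D1697)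
theorem F11906 : act 9 n2428 = n1690 := d23_2 (iv F8497) D2428 (iv D1690)
def n2429 : Q := act 4 n1689
theorem D2429 : act 4 n1689 = n2429 := rfl
theorem F11907 : act 0 n2429 = n1868 := d3_1 D2429 (iv D1868) (iv F8494)
theorem F11908 : act 3 n2429 = n2429 := d24_1 D2429 (iv D2429) (iv D1689) F6066 D1689
theorem F11909 : act 7 n2429 = n1698 := d32_2 (iv F8496) D2429 (iv D1698)
theorem F11910 : act 9 n2429 = n1691 := d34_2 (iv F8497) D2429 (iv D1691)
def n2430 : Q := act 1 n1690
theorem D2430 : act 1 n1690 = n2430 := rfl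
theorem F11911 : act 3 n2430 = n2430 := d10_2 F8499 D2430 (iv D2430)
theorem F11912 : act 5 n2430 = n1706 := d12_2 (iv F8500) D2430 (iv D1706)
theorem F11913 : act 7 n2430 = n1699 := d14_2 (iv F8501) D2430 (iv D1699)
theorem F11914 : act 8 n2430 = n2430 := d15_2 F8502 D2430 (iv D2430)
def n2431 : Q := act 4 n1690
theorem D2431 : act 4 n1690 = n2431 := rfl
theorem F11915 : act 0 n2431 = n1870 := d3_1 D2431 (iv D1870) (iv F8498)
theorem F11916 : act 2 n2431 = n1691 := d18_1 D2431 (iv D1691) D1690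
theorem F11917 : act 7 n2431 = n1700 := d32_2 (iv F8501) D2431 (iv D1700)
theorem F11918 : act 8 n2431 = n2431 := d33_2 F8502 D2431 (iv D2431)
def n2432 : Q := act 5 n1691
theorem D2432 : act 5 n1691 = n2432 := rfl
theorem F11919 : act 0 n2432 = n1871 := d4_1 D2432 (iv D1871) (iv F8503)
theorem F11920 : act 3 n2432 = n2432 := d25_1 D2432 (iv D2432) F8504
theorem F11921 : act 4 n2432 = n1708 := d30_1 D2432 (iv D1708) (iv D1189) (iv F6071) D1691
theorem F11922 : act 7 n2432 = n1701 := d36_2 (iv F8505) D2432 (iv D1701)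
theorem F11923 : act 8 n2432 = n2432 := d37_2 F8506 D2432 (iv D2432)
def n2433 : Q := act 8 n1692
theorem D2433 : act 8 n1692 = n2433 := rfl
theorem F11924 : act 0 n2433 = n1875 := d7_1 D2433 (iv D1875) (iv F8507)
theorem F11925 : act 1 n2433 = n2433 := d15_1 D2433 (iv D2433) F8508
theorem F11926 : act 2 n2433 = n2433 := d22_1 D2433 (iv D2433) F8509
theorem F11927 : act 3 n2433 = n2433 := d28_1 D2433 (iv D2433) (iv D1692) F6079 D1692
theorem F11928 : act 4 n2433 = n2433 := d33_1 D2433 (iv D2433) F8510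
theorem F11929 : act 5 n2433 = n2433 := d37_1 D2433 (iv D2433) F8511
theorem F11930 : act 6 n2433 = n2433 := d40_1 D2433 (iv D2433) F8512
def n2434 : Q := act 9 n1692
theorem D2434 : act 9 n1692 = n2434 := rfl
theorem F11931 : act 0 n2434 = n1876 := d8_1 D2434 (iv D1876) (iv F8507)
theorem F11932 : act 1 n2434 = n2434 := d16_1 D2434 (iv D2434) F8508
theorem F11933 : act 2 n2434 = n2434 := d23_1 D2434 (iv D2434) F8509
theorem F11934 : act 3 n2434 = n1693 := d29_1 D2434 (iv D1693) D1692
theorem F11935 : act 4 n2434 = n2434 := d34_1 D2434 (iv D2434) F8510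
theorem F11936 : act 5 n2434 = n2434 := d38_1 D2434 (iv D2434) F8511
theorem F11937 : act 6 n2434 = n2434 := d41_1 D2434 (iv D2434) F8512
def n2435 : Q := act 8 n1693
theorem D2435 : act 8 n1693 = n2435 := rfl
theorem F11940 : act 2 n2435 = n1695 := d22_1 D2435 (iv D1695) (iv F8515)
theorem F11941 : act 4 n2435 = n1694 := d33_1 D2435 (iv D1694) (iv F8516)
def n2436 : Q := act 3 n1694
theorem D2436 : act 3 n1694 = n2436 := rfl
theorem F11947 : act 5 n2436 = n1709 := d25_2 (iv F8522) D2436 (iv D1709)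
def n2437 : Q := act 3 n1695
theorem D2437 : act 3 n1695 = n2437 := rfl
theorem F11951 : act 0 n2437 = n1879 := d2_1 D2437 (iv D1879) (iv F8525)
theorem F11952 : act 5 n2437 = n2437 := d25_2 F8527 D2437 (iv D2437)
theorem F11953 : act 6 n2437 = n2437 := d26_2 F8528 D2437 (iv D2437)
theorem F11954 : act 8 n2437 = n2437 := d28_2 D1695 D2437 (iv D2437) (iv D1695) F6087
theorem F11955 : act 9 n2437 = n2437 := d29_2 F8529 D2437 (iv D2437)
def n2438 : Q := act 2 n1696
theorem D2438 : act 2 n1696 = n2438 := rfl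
theorem F11957 : act 5 n2438 = n1710 := d19_2 (iv F8531) D2438 (iv D1710)
theorem F11959 : act 8 n2438 = n1697 := d22_2 (iv F8533) D2438 (iv D1697)
def n2439 : Q := act 4 n1696
theorem D2439 : act 4 n1696 = n2439 := rfl
theorem F11961 : act 0 n2439 = n1881 := d3_1 D2439 (iv D1881) (iv F8530)
theorem F11962 : act 6 n2439 = n2439 := d31_2 F8532 D2439 (iv D2439)
theorem F11963 : act 8 n2439 = n1698 := d33_2 (iv F8533) D2439 (iv D1698)
theorem F11964 : act 9 n2439 = n2439 := d34_2 F8534 D2439 (iv D2439)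
def n2440 : Q := act 1 n1697
theorem D2440 : act 1 n1697 = n2440 := rfl
theorem F11965 : act 3 n2440 = n2440 := d10_2 F8536 D2440 (iv D2440)
theorem F11966 : act 5 n2440 = n1712 := d12_2 (iv F8537) D2440 (iv D1712)
theorem F11967 : act 6 n2440 = n2440 := d13_2 F8538 D2440 (iv D2440)
theorem F11968 : act 9 n2440 = n1699 := d16_2 (iv F8539) D2440 (iv D1699)
def n2441 : Q := act 4 n1697
theorem D2441 : act 4 n1697 = n2441 := rfl
theorem F11969 : act 0 n2441 = n1883 := d3_1 D2441 (iv D1883) (iv F8535)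
theorem F11970 : act 2 n2441 = n1698 := d18_1 D2441 (iv D1698) D1697
theorem F11971 : act 6 n2441 = n2441 := d31_2 F8538 D2441 (iv D2441)
theorem F11972 : act 9 n2441 = n1700 := d34_2 (iv F8539) D2441 (iv D1700)
def n2442 : Q := act 5 n1698
theorem D2442 : act 5 n1698 = n2442 := rfl
theorem F11973 : act 0 n2442 = n1884 := d4_1 D2442 (iv D1884) (iv F8540)
theorem F11974 : act 3 n2442 = n2442 := d25_1 D2442 (iv D2442) F8541
theorem F11975 : act 4 n2442 = n1714 := d30_1 D2442 (iv D1714) (iv D1193) (iv F6096) D1698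
theorem F11976 : act 9 n2442 = n1701 := d38_2 (iv F8543) D2442 (iv D1701)
def n2443 : Q := act 0 n1699
theorem D2443 : act 0 n1699 = n2443 := rfl
theorem F11977 : act 1 n2443 = n1885 := d0_2 D1699 D2443 (iv D1885) (iv D1312) (iv F6099)
theorem F11978 : act 3 n2443 = n2443 := d2_2 F8544 D2443 (iv D2443)
theorem F11979 : act 5 n2443 = n1715 := d4_2 (iv F8545) D2443 (iv D1715)
theorem F11980 : act 6 n2443 = n2443 := d5_2 F8546 D2443 (iv D2443)
theorem F11981 : act 8 n2443 = n2443 := d7_2 F8547 D2443 (iv D2443)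
def n2444 : Q := act 4 n1699
theorem D2444 : act 4 n1699 = n2444 := rfl
theorem F11982 : act 1 n2444 = n1700 := d11_1 D2444 (iv D1700) D1699
theorem F11983 : act 6 n2444 = n2444 := d31_2 F8546 D2444 (iv D2444)
theorem F11984 : act 8 n2444 = n2444 := d33_2 F8547 D2444 (iv D2444)
def n2445 : Q := act 3 n1700
theorem D2445 : act 3 n1700 = n2445 := rfl
theorem F11985 : act 0 n2445 = n1887 := d2_1 D2445 (iv D1887) (iv F8548)
theorem F11986 : act 2 n2445 = n2445 := d17_1 D2445 (iv D2445) F8549 F6105 (iv F8549)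
theorem F11987 : act 4 n2445 = n2445 := d24_2 D1700 D2445 (iv D2445) (iv D1700) F6100
theorem F11988 : act 6 n2445 = n2445 := d26_2 F8550 D2445 (iv D2445)
def n2446 : Q := act 5 n1700
theorem D2446 : act 5 n1700 = n2446 := rfl
theorem F11989 : act 0 n2446 = n1888 := d4_1 D2446 (iv D1888) (iv F8548)
theorem F11990 : act 2 n2446 = n1701 := d19_1 D2446 (iv D1701) (iv F8549)
theorem F11991 : act 4 n2446 = n1718 := d30_1 D2446 (iv D1718) (iv D1195) (iv F6101) D1700
theorem F11992 : act 8 n2446 = n2446 := d37_2 F8551 D2446 (iv D2446)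
def n2447 : Q := act 6 n1701
theorem D2447 : act 6 n1701 = n2447 := rfl
theorem F11993 : act 0 n2447 = n1889 := d5_1 D2447 (iv D1889) (iv F8552)
theorem F11994 : act 3 n2447 = n2447 := d26_1 D2447 (iv D2447) F8553
theorem F11995 : act 4 n2447 = n1719 := d31_1 D2447 (iv D1719) (iv F8554)
theorem F11996 : act 5 n2447 = n2447 := d35_1 D2447 (iv D2447) (iv D1701) F6106 D1701
theorem F11997 : act 8 n2447 = n2447 := d40_2 F8555 D2447 (iv D2447)
def n2448 : Q := act 3 n1702
theorem D2448 : act 3 n1702 = n2448 := rfl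
theorem F12001 : act 7 n2448 = n1709 := d27_2 (iv F8561) D2448 (iv D1709)
def n2449 : Q := act 2 n1703
theorem D2449 : act 2 n1703 = n2449 := rfl
theorem F12004 : act 0 n2449 = n1892 := d1_1 D2449 (iv D1892) (iv F8563)
theorem F12006 : act 7 n2449 = n1710 := d21_2 (iv F8565) D2449 (iv D1710)
theorem F12007 : act 8 n2449 = n1704 := d22_2 (iv F8566) D2449 (iv D1704)
def n2450 : Q := act 4 n1703
theorem D2450 : act 4 n1703 = n2450 := rfl
theorem F12009 : act 0 n2450 = n1893 := d3_1 D2450 (iv D1893) (iv F8563)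
theorem F12010 : act 3 n2450 = n2450 := d24_1 D2450 (iv D2450) (iv D1703) F6116 D1703
theorem F12011 : act 6 n2450 = n2450 := d31_2 F8564 D2450 (iv D2450)
theorem F12012 : act 7 n2450 = n1711 := d32_2 (iv F8565) D2450 (iv D1711)
theorem F12013 : act 8 n2450 = n1705 := d33_2 (iv F8566) D2450 (iv D1705)
theorem F12014 : act 9 n2450 = n2450 := d34_2 F8567 D2450 (iv D2450)
def n2451 : Q := act 1 n1704
theorem D2451 : act 1 n1704 = n2451 := rfl
theorem F12015 : act 3 n2451 = n2451 := d10_2 F8569 D2451 (iv D2451)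
theorem F12016 : act 6 n2451 = n2451 := d13_2 F8570 D2451 (iv D2451)
theorem F12017 : act 7 n2451 = n1712 := d14_2 (iv F8571) D2451 (iv D1712)
theorem F12018 : act 9 n2451 = n1706 := d16_2 (iv F8572) D2451 (iv D1706)
def n2452 : Q := act 4 n1704
theorem D2452 : act 4 n1704 = n2452 := rfl
theorem F12019 : act 0 n2452 = n1895 := d3_1 D2452 (iv D1895) (iv F8568)
theorem F12020 : act 2 n2452 = n1705 := d18_1 D2452 (iv D1705) D1704
theorem F12021 : act 6 n2452 = n2452 := d31_2 F8570 D2452 (iv D2452)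
theorem F12022 : act 7 n2452 = n1713 := d32_2 (iv F8571) D2452 (iv D1713)
theorem F12023 : act 9 n2452 = n1707 := d34_2 (iv F8572) D2452 (iv D1707)
def n2453 : Q := act 5 n1705
theorem D2453 : act 5 n1705 = n2453 := rfl
theorem F12024 : act 0 n2453 = n1896 := d4_1 D2453 (iv D1896) (iv F8573)
theorem F12025 : act 3 n2453 = n1739 := d25_1 D2453 (iv D1739) (iv F8574)
theorem F12026 : act 7 n2453 = n1714 := d36_2 (iv F8576) D2453 (iv D1714)
theorem F12027 : act 9 n2453 = n1708 := d38_2 (iv F8577) D2453 (iv D1708)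
def n2454 : Q := act 0 n1706
theorem D2454 : act 0 n1706 = n2454 := rfl
theorem F12028 : act 1 n2454 = n1897 := d0_2 D1706 D2454 (iv D1897) (iv D1320) (iv F6124)
theorem F12029 : act 3 n2454 = n2454 := d2_2 F8578 D2454 (iv D2454)
theorem F12030 : act 6 n2454 = n2454 := d5_2 F8579 D2454 (iv D2454)
theorem F12031 : act 7 n2454 = n1715 := d6_2 (iv F8580) D2454 (iv D1715)
theorem F12032 : act 8 n2454 = n2454 := d7_2 F8581 D2454 (iv D2454)
def n2455 : Q := act 4 n1706
theorem D2455 : act 4 n1706 = n2455 := rfl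
theorem F12033 : act 1 n2455 = n1707 := d11_1 D2455 (iv D1707) D1706
theorem F12034 : act 6 n2455 = n2455 := d31_2 F8579 D2455 (iv D2455)
theorem F12035 : act 7 n2455 = n1716 := d32_2 (iv F8580) D2455 (iv D1716)
theorem F12036 : act 8 n2455 = n2455 := d33_2 F8581 D2455 (iv D2455)
def n2456 : Q := act 3 n1707
theorem D2456 : act 3 n1707 = n2456 := rfl
theorem F12037 : act 0 n2456 = n1899 := d2_1 D2456 (iv D1899) (iv F8582)
theorem F12038 : act 2 n2456 = n1742 := d17_1 D2456 (iv D1742) F6230 (iv F6130) (iv F8583)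
theorem F12039 : act 4 n2456 = n2456 := d24_2 D1707 D2456 (iv D2456) (iv D1707) F6125
theorem F12040 : act 6 n2456 = n2456 := d26_2 F8584 D2456 (iv D2456)
theorem F12041 : act 7 n2456 = n1717 := d27_2 (iv F8585) D2456 (iv D1717)
def n2457 : Q := act 5 n1707
theorem D2457 : act 5 n1707 = n2457 := rfl
theorem F12042 : act 0 n2457 = n1900 := d4_1 D2457 (iv D1900) (iv F8582)
theorem F12043 : act 2 n2457 = n1708 := d19_1 D2457 (iv D1708) (iv F8583)
theorem F12044 : act 7 n2457 = n1718 := d36_2 (iv F8585) D2457 (iv D1718)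
theorem F12045 : act 8 n2457 = n2457 := d37_2 F8586 D2457 (iv D2457)
def n2458 : Q := act 6 n1708
theorem D2458 : act 6 n1708 = n2458 := rfl
theorem F12046 : act 0 n2458 = n1901 := d5_1 D2458 (iv D1901) (iv F8587)
theorem F12047 : act 3 n2458 = n1744 := d26_1 D2458 (iv D1744) (iv F8588)
theorem F12048 : act 5 n2458 = n2458 := d35_1 D2458 (iv D2458) (iv D1708) F6131 D1708
theorem F12049 : act 8 n2458 = n2458 := d40_2 F8590 D2458 (iv D2458)
def n2459 : Q := act 2 n1709
theorem D2459 : act 2 n1709 = n2459 := rfl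
theorem F12051 : act 3 n2459 = n1710 := d17_2 D1709 D2459 (iv D1710) (iv D1191) (iv F6136)
theorem F12052 : act 6 n2459 = n1720 := d20_2 (iv F8593) D2459 (iv D1720)
def n2460 : Q := act 4 n1709
theorem D2460 : act 4 n1709 = n2460 := rfl
def n2461 : Q := act 1 n1710
theorem D2461 : act 1 n1710 = n2461 := rfl
theorem F12061 : act 6 n2461 = n1722 := d13_2 (iv F8597) D2461 (iv D1722)
theorem F12062 : act 8 n2461 = n1712 := d15_2 (iv F8598) D2461 (iv D1712)
def n2462 : Q := act 4 n1710
theorem D2462 : act 4 n1710 = n2462 := rfl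
theorem F12065 : act 2 n2462 = n1711 := d18_1 D2462 (iv D1711) D1710
theorem F12066 : act 6 n2462 = n1723 := d31_2 (iv F8597) D2462 (iv D1723)
theorem F12067 : act 8 n2462 = n1713 := d33_2 (iv F8598) D2462 (iv D1713)
def n2463 : Q := act 5 n1711
theorem D2463 : act 5 n1711 = n2463 := rfl
theorem F12069 : act 0 n2463 = n1907 := d4_1 D2463 (iv D1907) (iv F8600)
theorem F12070 : act 3 n2463 = n2463 := d25_1 D2463 (iv D2463) F8601
theorem F12071 : act 8 n2463 = n1714 := d37_2 (iv F8603) D2463 (iv D1714)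
theorem F12072 : act 9 n2463 = n2463 := d38_2 F8604 D2463 (iv D2463)
def n2464 : Q := act 0 n1712
theorem D2464 : act 0 n1712 = n2464 := rfl
theorem F12073 : act 1 n2464 = n1908 := d0_2 D1712 D2464 (iv D1908) (iv D1327) (iv F6144)
theorem F12075 : act 6 n2464 = n1725 := d5_2 (iv F8606) D2464 (iv D1725)
theorem F12076 : act 9 n2464 = n1715 := d8_2 (iv F8607) D2464 (iv D1715)
def n2465 : Q := act 4 n1712
theorem D2465 : act 4 n1712 = n2465 := rfl
theorem F12077 : act 1 n2465 = n1713 := d11_1 D2465 (iv D1713) D1712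
theorem F12078 : act 6 n2465 = n1726 := d31_2 (iv F8606) D2465 (iv D1726)
theorem F12079 : act 9 n2465 = n1716 := d34_2 (iv F8607) D2465 (iv D1716)
def n2466 : Q := act 3 n1713
theorem D2466 : act 3 n1713 = n2466 := rfl
theorem F12080 : act 0 n2466 = n1910 := d2_1 D2466 (iv D1910) (iv F8608)
theorem F12081 : act 2 n2466 = n1747 := d17_1 D2466 (iv D1747) F6244 (iv F6149) (iv F8609)
theorem F12082 : act 4 n2466 = n2466 := d24_2 D1713 D2466 (iv D2466) (iv D1713) F6145
theorem F12083 : act 6 n2466 = n1727 := d26_2 (iv F8610) D2466 (iv D1727)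
theorem F12084 : act 9 n2466 = n1717 := d29_2 (iv F8611) D2466 (iv D1717)
def n2467 : Q := act 5 n1713
theorem D2467 : act 5 n1713 = n2467 := rfl
theorem F12085 : act 0 n2467 = n1911 := d4_1 D2467 (iv D1911) (iv F8608)
theorem F12086 : act 2 n2467 = n1714 := d19_1 D2467 (iv D1714) (iv F8609)
theorem F12087 : act 9 n2467 = n1718 := d38_2 (iv F8611) D2467 (iv D1718)
def n2468 : Q := act 6 n1714
theorem D2468 : act 6 n1714 = n2468 := rfl
theorem F12088 : act 0 n2468 = n1912 := d5_1 D2468 (iv D1912) (iv F8612)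
theorem F12089 : act 3 n2468 = n1749 := d26_1 D2468 (iv D1749) (iv F8613)
theorem F12090 : act 5 n2468 = n1729 := d35_1 D2468 (iv D1729) (iv D1202) (iv F6150) D1714
theorem F12091 : act 9 n2468 = n1719 := d41_2 (iv F8614) D2468 (iv D1719)
def n2469 : Q := act 4 n1715
theorem D2469 : act 4 n1715 = n2469 := rfl
theorem F12092 : act 0 n2469 = n1716 := d3_1 D2469 (iv D1716) D1715
theorem F12093 : act 1 n2469 = n1913 := d11_1 D2469 (iv D1913) (iv F8615)
theorem F12094 : act 6 n2469 = n1730 := d31_2 (iv F8617) D2469 (iv D1730)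
theorem F12095 : act 8 n2469 = n2469 := d33_2 F8618 D2469 (iv D2469)
def n2470 : Q := act 3 n1716
theorem D2470 : act 3 n1716 = n2470 := rfl
theorem F12096 : act 1 n2470 = n1717 := d10_1 D2470 (iv D1717) (iv F8619)
theorem F12097 : act 4 n2470 = n2470 := d24_2 D1716 D2470 (iv D2470) (iv D1716) F6152
theorem F12098 : act 6 n2470 = n1731 := d26_2 (iv F8620) D2470 (iv D1731)
def n2471 : Q := act 5 n1716
theorem D2471 : act 5 n1716 = n2471 := rfl
theorem F12099 : act 1 n2471 = n1718 := d12_1 D2471 (iv D1718) (iv F8619)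
theorem F12100 : act 8 n2471 = n2471 := d37_2 F8621 D2471 (iv D2471)
def n2472 : Q := act 5 n1717
theorem D2472 : act 5 n1717 = n2472 := rfl
theorem F12101 : act 0 n2472 = n1916 := d4_1 D2472 (iv D1916) (iv F8622)
theorem F12102 : act 2 n2472 = n1753 := d19_1 D2472 (iv D1753) (iv F8623)
theorem F12103 : act 3 n2472 = n1718 := d25_1 D2472 (iv D1718) D1717
def n2473 : Q := act 8 n1717
theorem D2473 : act 8 n1717 = n2473 := rfl
theorem F12104 : act 0 n2473 = n1917 := d7_1 D2473 (iv D1917) (iv F8622)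
theorem F12105 : act 2 n2473 = n1754 := d22_1 D2473 (iv D1754) (iv F8623)
theorem F12106 : act 3 n2473 = n2473 := d28_1 D2473 (iv D2473) (iv D1717) F6158 D1717
theorem F12107 : act 4 n2473 = n2473 := d33_1 D2473 (iv D2473) F8624
theorem F12108 : act 6 n2473 = n1734 := d40_1 D2473 (iv D1734) (iv F8625)
def n2474 : Q := act 6 n1718
theorem D2474 : act 6 n1718 = n2474 := rfl
theorem F12109 : act 0 n2474 = n1918 := d5_1 D2474 (iv D1918) (iv F8626)
theorem F12110 : act 2 n2474 = n1719 := d20_1 D2474 (iv D1719) (iv F8627)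
theorem F12111 : act 5 n2474 = n1735 := d35_1 D2474 (iv D1735) (iv D1206) (iv F6157) D1718
theorem F12112 : act 8 n2474 = n2474 := d40_2 F8628 D2474 (iv D2474)
def n2475 : Q := act 7 n1719
theorem D2475 : act 7 n1719 = n2475 := rfl
theorem F12113 : act 0 n2475 = n1919 := d6_1 D2475 (iv D1919) (iv F8629)
theorem F12114 : act 3 n2475 = n1756 := d27_1 D2475 (iv D1756) (iv F8630)
theorem F12115 : act 5 n2475 = n1736 := d36_1 D2475 (iv D1736) (iv F8631)
theorem F12116 : act 8 n2475 = n2475 := d42_2 F8632 D2475 (iv D2475)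
def n2476 : Q := act 1 n1720
theorem D2476 : act 1 n1720 = n2476 := rfl
theorem F12118 : act 3 n2476 = n1722 := d10_2 (iv F8634) D2476 (iv D1722)
def n2477 : Q := act 4 n1720
theorem D2477 : act 4 n1720 = n2477 := rfl
def n2479 : Q := act 0 n1722
theorem D2479 : act 0 n1722 = n2479 := rfl
theorem F12135 : act 1 n2479 = n1925 := d0_2 D1722 D2479 (iv D1925) (iv D1338) (iv F6168)
theorem F12138 : act 8 n2479 = n1725 := d7_2 (iv F8647) D2479 (iv D1725)
def n2480 : Q := act 4 n1722
theorem D2480 : act 4 n1722 = n2480 := rfl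
theorem F12140 : act 1 n2480 = n1723 := d11_1 D2480 (iv D1723) D1722
theorem F12142 : act 8 n2480 = n1726 := d33_2 (iv F8647) D2480 (iv D1726)
def n2481 : Q := act 3 n1723
theorem D2481 : act 3 n1723 = n2481 := rfl
theorem F12144 : act 0 n2481 = n1927 := d2_1 D2481 (iv D1927) (iv F8649)
def n2482 : Q := act 5 n1723
theorem D2482 : act 5 n1723 = n2482 := rfl
theorem F12149 : act 2 n2482 = n1724 := d19_1 D2482 (iv D1724) (iv F8650)
theorem F12152 : act 8 n2482 = n1728 := d37_2 (iv F8652) D2482 (iv D1728)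
def n2483 : Q := act 6 n1724
theorem D2483 : act 6 n1724 = n2483 := rfl
theorem F12154 : act 0 n2483 = n1929 := d5_1 D2483 (iv D1929) (iv F8654)
theorem F12155 : act 3 n2483 = n2483 := d26_1 D2483 (iv D2483) F8655
theorem F12156 : act 4 n2483 = n2483 := d31_1 D2483 (iv D2483) F8656
theorem F12157 : act 8 n2483 = n1729 := d40_2 (iv F8658) D2483 (iv D1729)
theorem F12158 : act 9 n2483 = n2483 := d41_2 F8659 D2483 (iv D2483)
def n2484 : Q := act 4 n1725
theorem D2484 : act 4 n1725 = n2484 := rfl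
theorem F12159 : act 0 n2484 = n1726 := d3_1 D2484 (iv D1726) D1725
theorem F12160 : act 1 n2484 = n1930 := d11_1 D2484 (iv D1930) (iv F8660)
theorem F12162 : act 9 n2484 = n1730 := d34_2 (iv F8664) D2484 (iv D1730)
def n2485 : Q := act 3 n1726
theorem D2485 : act 3 n1726 = n2485 := rfl
theorem F12163 : act 1 n2485 = n1727 := d10_1 D2485 (iv D1727) (iv F8665)
theorem F12164 : act 4 n2485 = n2485 := d24_2 D1726 D2485 (iv D2485) (iv D1726) F6178
theorem F12165 : act 7 n2485 = n2485 := d27_2 F8666 D2485 (iv D2485)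
theorem F12166 : act 9 n2485 = n1731 := d29_2 (iv F8667) D2485 (iv D1731)
def n2486 : Q := act 5 n1726
theorem D2486 : act 5 n1726 = n2486 := rfl
theorem F12167 : act 1 n2486 = n1728 := d12_1 D2486 (iv D1728) (iv F8665)
theorem F12168 : act 4 n2486 = n2486 := d30_1 D2486 (iv D2486) (iv D1726) F6179 D1726
theorem F12169 : act 7 n2486 = n2486 := d36_2 F8666 D2486 (iv D2486)
theorem F12170 : act 9 n2486 = n1732 := d38_2 (iv F8667) D2486 (iv D1732)
def n2487 : Q := act 5 n1727
theorem D2487 : act 5 n1727 = n2487 := rfl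
theorem F12171 : act 0 n2487 = n1933 := d4_1 D2487 (iv D1933) (iv F8668)
theorem F12172 : act 2 n2487 = n1760 := d19_1 D2487 (iv D1760) (iv F8669)
theorem F12173 : act 3 n2487 = n1728 := d25_1 D2487 (iv D1728) D1727
theorem F12174 : act 7 n2487 = n2487 := d36_2 F8671 D2487 (iv D2487)
theorem F12175 : act 9 n2487 = n1733 := d38_2 (iv F8672) D2487 (iv D1733)
def n2488 : Q := act 8 n1727
theorem D2488 : act 8 n1727 = n2488 := rfl
theorem F12176 : act 0 n2488 = n1934 := d7_1 D2488 (iv D1934) (iv F8668)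
theorem F12177 : act 2 n2488 = n1761 := d22_1 D2488 (iv D1761) (iv F8669)
def n2489 : Q := act 6 n1728
theorem D2489 : act 6 n1728 = n2489 := rfl
theorem F12180 : act 0 n2489 = n1935 := d5_1 D2489 (iv D1935) (iv F8673)
theorem F12181 : act 2 n2489 = n1729 := d20_1 D2489 (iv D1729) (iv F8674)
theorem F12182 : act 4 n2489 = n2489 := d31_1 D2489 (iv D2489) F8675
theorem F12183 : act 9 n2489 = n1735 := d41_2 (iv F8677) D2489 (iv D1735)
def n2490 : Q := act 7 n1729
theorem D2490 : act 7 n1729 = n2490 := rfl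
theorem F12184 : act 0 n2490 = n1936 := d6_1 D2490 (iv D1936) (iv F8678)
theorem F12185 : act 3 n2490 = n1763 := d27_1 D2490 (iv D1763) (iv F8679)
theorem F12186 : act 4 n2490 = n2490 := d32_1 D2490 (iv D2490) F8680
theorem F12187 : act 6 n2490 = n2490 := d39_1 D2490 (iv D2490) (iv D1729) F6189 D1729
theorem F12188 : act 9 n2490 = n1736 := d43_2 (iv F8681) D2490 (iv D1736)
def n2491 : Q := act 3 n1730
theorem D2491 : act 3 n1730 = n2491 := rfl
theorem F12189 : act 0 n2491 = n1731 := d2_1 D2491 (iv D1731) (iv F8682)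
theorem F12190 : act 1 n2491 = n1937 := d10_1 D2491 (iv D1937) (iv F8683)
theorem F12191 : act 4 n2491 = n2491 := d24_2 D1730 D2491 (iv D2491) (iv D1730) F6192
theorem F12192 : act 7 n2491 = n2491 := d27_2 F8684 D2491 (iv D2491)
def n2492 : Q := act 5 n1730
theorem D2492 : act 5 n1730 = n2492 := rfl
theorem F12193 : act 0 n2492 = n1732 := d4_1 D2492 (iv D1732) (iv F8682)
theorem F12195 : act 4 n2492 = n2492 := d30_1 D2492 (iv D2492) (iv D1730) F6193 D1730
theorem F12196 : act 7 n2492 = n2492 := d36_2 F8684 D2492 (iv D2492)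
theorem F12197 : act 8 n2492 = n2492 := d37_2 F8685 D2492 (iv D2492)
def n2493 : Q := act 2 n1731
theorem D2493 : act 2 n1731 = n2493 := rfl
theorem F12198 : act 1 n2493 = n1766 := d9_1 D2493 (iv D1766) F6299 (iv F6200) (iv F8686)
theorem F12199 : act 4 n2493 = n2493 := d18_2 F8687 D2493 (iv D2493)
theorem F12200 : act 7 n2493 = n2493 := d21_2 F8688 D2493 (iv D2493)
def n2494 : Q := act 5 n1731
theorem D2494 : act 5 n1731 = n2494 := rfl
theorem F12201 : act 1 n2494 = n1733 := d12_1 D2494 (iv D1733) (iv F8686)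
theorem F12202 : act 3 n2494 = n1732 := d25_1 D2494 (iv D1732) D1731
theorem F12203 : act 7 n2494 = n2494 := d36_2 F8688 D2494 (iv D2494)
def n2495 : Q := act 8 n1731
theorem D2495 : act 8 n1731 = n2495 := rfl
theorem F12204 : act 1 n2495 = n1734 := d15_1 D2495 (iv D1734) (iv F8686)
theorem F12205 : act 3 n2495 = n2495 := d28_1 D2495 (iv D2495) (iv D1731) F6198 D1731
theorem F12206 : act 4 n2495 = n2495 := d33_1 D2495 (iv D2495) F8687
theorem F12207 : act 7 n2495 = n2495 := d42_1 D2495 (iv D2495) F8688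
def n2496 : Q := act 6 n1732
theorem D2496 : act 6 n1732 = n2496 := rfl
theorem F12208 : act 1 n2496 = n1735 := d13_1 D2496 (iv D1735) (iv F8689)
theorem F12209 : act 4 n2496 = n2496 := d31_1 D2496 (iv D2496) F8690
theorem F12210 : act 8 n2496 = n2496 := d40_2 F8692 D2496 (iv D2496)
def n2497 : Q := act 4 n1733
theorem D2497 : act 4 n1733 = n2497 := rfl
theorem F12211 : act 0 n2497 = n1943 := d3_1 D2497 (iv D1943) (iv F8693)
theorem F12212 : act 2 n2497 = n1770 := d18_1 D2497 (iv D1770) (iv F8694)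
theorem F12213 : act 3 n2497 = n2497 := d24_1 D2497 (iv D2497) F8695 F6205 (iv F8695)
theorem F12214 : act 5 n2497 = n2497 := d30_2 D1733 D2497 (iv D2497) (iv D1733) F6201
theorem F12215 : act 7 n2497 = n2497 := d32_2 F8696 D2497 (iv D2497)
def n2498 : Q := act 6 n1733
theorem D2498 : act 6 n1733 = n2498 := rfl
theorem F12216 : act 0 n2498 = n1944 := d5_1 D2498 (iv D1944) (iv F8693)
theorem F12217 : act 2 n2498 = n1771 := d20_1 D2498 (iv D1771) (iv F8694)
theorem F12218 : act 3 n2498 = n1735 := d26_1 D2498 (iv D1735) (iv F8695)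
def n2499 : Q := act 8 n1733
theorem D2499 : act 8 n1733 = n2499 := rfl
theorem F12219 : act 0 n2499 = n1945 := d7_1 D2499 (iv D1945) (iv F8693)
theorem F12220 : act 2 n2499 = n1772 := d22_1 D2499 (iv D1772) (iv F8694)
theorem F12221 : act 3 n2499 = n2499 := d28_1 D2499 (iv D2499) F8695 F6207 (iv F8695)
theorem F12222 : act 5 n2499 = n1734 := d37_1 D2499 (iv D1734) D1733
theorem F12223 : act 7 n2499 = n2499 := d42_1 D2499 (iv D2499) F8696
def n2500 : Q := act 9 n1734
theorem D2500 : act 9 n1734 = n2500 := rfl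
theorem F12225 : act 2 n2500 = n1773 := d23_1 D2500 (iv D1773) (iv F8698)
theorem F12226 : act 3 n2500 = n2500 := d29_1 D2500 (iv D2500) F8699
theorem F12227 : act 4 n2500 = n2500 := d34_1 D2500 (iv D2500) F8700
theorem F12228 : act 7 n2500 = n2500 := d43_1 D2500 (iv D2500) F8701
def n2501 : Q := act 7 n1735
theorem D2501 : act 7 n1735 = n2501 := rfl
theorem F12229 : act 0 n2501 = n1947 := d6_1 D2501 (iv D1947) (iv F8702)
theorem F12230 : act 2 n2501 = n1736 := d21_1 D2501 (iv D1736) (iv F8703)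
theorem F12231 : act 4 n2501 = n2501 := d32_1 D2501 (iv D2501) F8704
theorem F12232 : act 6 n2501 = n2501 := d39_1 D2501 (iv D2501) (iv D1735) F6206 D1735
theorem F12233 : act 8 n2501 = n2501 := d42_2 F8705 D2501 (iv D2501)
def n2502 : Q := act 0 n1737
theorem D2502 : act 0 n1737 = n2502 := rfl
theorem F12234 : act 1 n2502 = n1948 := d0_2 D1737 D2502 (iv D1948) (iv D1353) (iv F6212)
theorem F12235 : act 3 n2502 = n2502 := d2_2 F8711 D2502 (iv D2502)
theorem F12236 : act 5 n2502 = n2502 := d4_2 F8712 D2502 (iv D2502)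
theorem F12237 : act 6 n2502 = n2502 := d5_2 F8713 D2502 (iv D2502)
theorem F12238 : act 7 n2502 = n1745 := d6_2 (iv F8714) D2502 (iv D1745)
theorem F12239 : act 8 n2502 = n2502 := d7_2 F8715 D2502 (iv D2502)
theorem F12240 : act 9 n2502 = n1740 := d8_2 (iv F8716) D2502 (iv D1740)
def n2503 : Q := act 4 n1737
theorem D2503 : act 4 n1737 = n2503 := rfl
theorem F12241 : act 1 n2503 = n1738 := d11_1 D2503 (iv D1738) D1737
theorem F12242 : act 6 n2503 = n2503 := d31_2 F8713 D2503 (iv D2503)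
theorem F12243 : act 7 n2503 = n1746 := d32_2 (iv F8714) D2503 (iv D1746)
theorem F12244 : act 8 n2503 = n2503 := d33_2 F8715 D2503 (iv D2503)
theorem F12245 : act 9 n2503 = n1741 := d34_2 (iv F8716) D2503 (iv D1741)
def n2504 : Q := act 3 n1738
theorem D2504 : act 3 n1738 = n2504 := rfl
theorem F12246 : act 0 n2504 = n1950 := d2_1 D2504 (iv D1950) (iv F8717)
theorem F12247 : act 4 n2504 = n2504 := d24_2 D1738 D2504 (iv D2504) (iv D1738) F6213
theorem F12248 : act 6 n2504 = n2504 := d26_2 F8719 D2504 (iv D2504)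
theorem F12249 : act 7 n2504 = n1747 := d27_2 (iv F8720) D2504 (iv D1747)
theorem F12250 : act 9 n2504 = n1742 := d29_2 (iv F8722) D2504 (iv D1742)
def n2505 : Q := act 5 n1738
theorem D2505 : act 5 n1738 = n2505 := rfl
theorem F12251 : act 0 n2505 = n1951 := d4_1 D2505 (iv D1951) (iv F8717)
theorem F12252 : act 2 n2505 = n1739 := d19_1 D2505 (iv D1739) (iv F8718)
theorem F12253 : act 4 n2505 = n2505 := d30_1 D2505 (iv D2505) (iv D1738) F6214 D1738
theorem F12254 : act 7 n2505 = n1748 := d36_2 (iv F8720) D2505 (iv D1748)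
theorem F12255 : act 8 n2505 = n2505 := d37_2 F8721 D2505 (iv D2505)
theorem F12256 : act 9 n2505 = n1743 := d38_2 (iv F8722) D2505 (iv D1743)
def n2506 : Q := act 6 n1739
theorem D2506 : act 6 n1739 = n2506 := rfl
theorem F12257 : act 0 n2506 = n1952 := d5_1 D2506 (iv D1952) (iv F8723)
theorem F12258 : act 4 n2506 = n2506 := d31_1 D2506 (iv D2506) F8724
theorem F12259 : act 5 n2506 = n2506 := d35_1 D2506 (iv D2506) (iv D1739) F6220 D1739
theorem F12260 : act 8 n2506 = n2506 := d40_2 F8726 D2506 (iv D2506)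
theorem F12261 : act 9 n2506 = n1744 := d41_2 (iv F8727) D2506 (iv D1744)
def n2507 : Q := act 4 n1740
theorem D2507 : act 4 n1740 = n2507 := rfl
theorem F12262 : act 0 n2507 = n1741 := d3_1 D2507 (iv D1741) D1740
theorem F12263 : act 1 n2507 = n1953 := d11_1 D2507 (iv D1953) (iv F8728)
theorem F12264 : act 6 n2507 = n2507 := d31_2 F8731 D2507 (iv D2507)
theorem F12265 : act 7 n2507 = n1750 := d32_2 (iv F8732) D2507 (iv D1750)
theorem F12266 : act 8 n2507 = n1794 := d33_2 (iv F8733) D2507 (iv D1794)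
def n2508 : Q := act 3 n1741
theorem D2508 : act 3 n1741 = n2508 := rfl
theorem F12267 : act 1 n2508 = n1742 := d10_1 D2508 (iv D1742) (iv F8734)
theorem F12268 : act 4 n2508 = n2508 := d24_2 D1741 D2508 (iv D2508) (iv D1741) F6224
theorem F12269 : act 6 n2508 = n2508 := d26_2 F8735 D2508 (iv D2508)
theorem F12270 : act 7 n2508 = n1751 := d27_2 (iv F8736) D2508 (iv D1751)
def n2509 : Q := act 5 n1741
theorem D2509 : act 5 n1741 = n2509 := rfl
theorem F12271 : act 1 n2509 = n1743 := d12_1 D2509 (iv D1743) (iv F8734)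
theorem F12272 : act 4 n2509 = n2509 := d30_1 D2509 (iv D2509) (iv D1741) F6225 D1741
theorem F12273 : act 7 n2509 = n1752 := d36_2 (iv F8736) D2509 (iv D1752)
theorem F12274 : act 8 n2509 = n1796 := d37_2 (iv F8737) D2509 (iv D1796)
def n2510 : Q := act 5 n1742
theorem D2510 : act 5 n1742 = n2510 := rfl
theorem F12275 : act 0 n2510 = n1956 := d4_1 D2510 (iv D1956) (iv F8738)
theorem F12276 : act 3 n2510 = n1743 := d25_1 D2510 (iv D1743) D1742
theorem F12277 : act 7 n2510 = n1753 := d36_2 (iv F8741) D2510 (iv D1753)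
def n2511 : Q := act 8 n1742
theorem D2511 : act 8 n1742 = n2511 := rfl
theorem F12278 : act 0 n2511 = n1957 := d7_1 D2511 (iv D1957) (iv F8738)
theorem F12279 : act 3 n2511 = n1798 := d28_1 D2511 (iv D1798) (iv D1250) (iv F6233) D1742
theorem F12280 : act 4 n2511 = n2511 := d33_1 D2511 (iv D2511) F8739
theorem F12281 : act 6 n2511 = n2511 := d40_1 D2511 (iv D2511) F8740
theorem F12282 : act 7 n2511 = n1754 := d42_1 D2511 (iv D1754) (iv F8741)
def n2512 : Q := act 6 n1743
theorem D2512 : act 6 n1743 = n2512 := rfl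
theorem F12283 : act 0 n2512 = n1958 := d5_1 D2512 (iv D1958) (iv F8742)
theorem F12284 : act 2 n2512 = n1744 := d20_1 D2512 (iv D1744) (iv F8743)
theorem F12285 : act 4 n2512 = n2512 := d31_1 D2512 (iv D2512) F8744
theorem F12286 : act 5 n2512 = n2512 := d35_1 D2512 (iv D2512) (iv D1743) F6231 D1743
theorem F12287 : act 8 n2512 = n1799 := d40_2 (iv F8746) D2512 (iv D1799)
def n2513 : Q := act 7 n1744
theorem D2513 : act 7 n1744 = n2513 := rfl
theorem F12288 : act 0 n2513 = n1959 := d6_1 D2513 (iv D1959) (iv F8747)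
theorem F12289 : act 4 n2513 = n2513 := d32_1 D2513 (iv D2513) F8748
theorem F12290 : act 5 n2513 = n2513 := d36_1 D2513 (iv D2513) F8749
theorem F12291 : act 6 n2513 = n1756 := d39_1 D2513 (iv D1756) (iv D1220) (iv F6236) D1744
theorem F12292 : act 8 n2513 = n1800 := d42_2 (iv F8750) D2513 (iv D1800)
def n2514 : Q := act 4 n1745
theorem D2514 : act 4 n1745 = n2514 := rfl
theorem F12293 : act 0 n2514 = n1746 := d3_1 D2514 (iv D1746) D1745
theorem F12294 : act 1 n2514 = n1960 := d11_1 D2514 (iv D1960) (iv F8751)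
theorem F12295 : act 6 n2514 = n1757 := d31_2 (iv F8754) D2514 (iv D1757)
theorem F12296 : act 8 n2514 = n2514 := d33_2 F8755 D2514 (iv D2514)
theorem F12297 : act 9 n2514 = n1750 := d34_2 (iv F8756) D2514 (iv D1750)
def n2515 : Q := act 3 n1746
theorem D2515 : act 3 n1746 = n2515 := rfl
theorem F12298 : act 1 n2515 = n1747 := d10_1 D2515 (iv D1747) (iv F8757)
theorem F12299 : act 4 n2515 = n2515 := d24_2 D1746 D2515 (iv D2515) (iv D1746) F6238
theorem F12300 : act 6 n2515 = n1758 := d26_2 (iv F8758) D2515 (iv D1758)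
theorem F12301 : act 9 n2515 = n1751 := d29_2 (iv F8760) D2515 (iv D1751)
def n2516 : Q := act 5 n1746
theorem D2516 : act 5 n1746 = n2516 := rfl
theorem F12302 : act 1 n2516 = n1748 := d12_1 D2516 (iv D1748) (iv F8757)
theorem F12303 : act 4 n2516 = n2516 := d30_1 D2516 (iv D2516) (iv D1746) F6239 D1746
theorem F12304 : act 8 n2516 = n2516 := d37_2 F8759 D2516 (iv D2516)
theorem F12305 : act 9 n2516 = n1752 := d38_2 (iv F8760) D2516 (iv D1752)
def n2517 : Q := act 5 n1747
theorem D2517 : act 5 n1747 = n2517 := rfl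
theorem F12306 : act 0 n2517 = n1963 := d4_1 D2517 (iv D1963) (iv F8761)
theorem F12307 : act 3 n2517 = n1748 := d25_1 D2517 (iv D1748) D1747
theorem F12308 : act 9 n2517 = n1753 := d38_2 (iv F8764) D2517 (iv D1753)
def n2518 : Q := act 8 n1747
theorem D2518 : act 8 n1747 = n2518 := rfl
theorem F12309 : act 0 n2518 = n1964 := d7_1 D2518 (iv D1964) (iv F8761)
theorem F12310 : act 3 n2518 = n2518 := d28_1 D2518 (iv D2518) (iv D1747) F6246 D1747
theorem F12311 : act 4 n2518 = n2518 := d33_1 D2518 (iv D2518) F8762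
theorem F12312 : act 6 n2518 = n1761 := d40_1 D2518 (iv D1761) (iv F8763)
def n2519 : Q := act 6 n1748
theorem D2519 : act 6 n1748 = n2519 := rfl
theorem F12313 : act 0 n2519 = n1965 := d5_1 D2519 (iv D1965) (iv F8765)
theorem F12314 : act 2 n2519 = n1749 := d20_1 D2519 (iv D1749) (iv F8766)
theorem F12315 : act 4 n2519 = n2519 := d31_1 D2519 (iv D2519) F8767
theorem F12316 : act 5 n2519 = n1762 := d35_1 D2519 (iv D1762) (iv D1224) (iv F6245) D1748
theorem F12317 : act 8 n2519 = n2519 := d40_2 F8768 D2519 (iv D2519)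
theorem F12318 : act 9 n2519 = n1755 := d41_2 (iv F8769) D2519 (iv D1755)
def n2520 : Q := act 7 n1749
theorem D2520 : act 7 n1749 = n2520 := rfl
theorem F12319 : act 0 n2520 = n1966 := d6_1 D2520 (iv D1966) (iv F8770)
theorem F12320 : act 4 n2520 = n2520 := d32_1 D2520 (iv D2520) F8771
theorem F12321 : act 5 n2520 = n1763 := d36_1 D2520 (iv D1763) (iv F8772)
theorem F12322 : act 8 n2520 = n2520 := d42_2 F8773 D2520 (iv D2520)
theorem F12323 : act 9 n2520 = n1756 := d43_2 (iv F8774) D2520 (iv D1756)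
def n2521 : Q := act 3 n1750
theorem D2521 : act 3 n1750 = n2521 := rfl
theorem F12324 : act 0 n2521 = n1751 := d2_1 D2521 (iv D1751) (iv F8775)
theorem F12325 : act 1 n2521 = n1967 := d10_1 D2521 (iv D1967) (iv F8776)
theorem F12326 : act 4 n2521 = n2521 := d24_2 D1750 D2521 (iv D2521) (iv D1750) F6253
theorem F12327 : act 6 n2521 = n1764 := d26_2 (iv F8777) D2521 (iv D1764)
def n2522 : Q := act 5 n1750
theorem D2522 : act 5 n1750 = n2522 := rfl
theorem F12328 : act 0 n2522 = n1752 := d4_1 D2522 (iv D1752) (iv F8775)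
theorem F12329 : act 1 n2522 = n1968 := d12_1 D2522 (iv D1968) (iv F8776)
theorem F12330 : act 4 n2522 = n2522 := d30_1 D2522 (iv D2522) (iv D1750) F6254 D1750
theorem F12331 : act 8 n2522 = n1802 := d37_2 (iv F8778) D2522 (iv D1802)
def n2523 : Q := act 2 n1751
theorem D2523 : act 2 n1751 = n2523 := rfl
theorem F12332 : act 4 n2523 = n2523 := d18_2 F8780 D2523 (iv D2523)
theorem F12333 : act 6 n2523 = n1766 := d20_2 (iv F8781) D2523 (iv D1766)
def n2524 : Q := act 5 n1751
theorem D2524 : act 5 n1751 = n2524 := rfl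
theorem F12334 : act 1 n2524 = n1753 := d12_1 D2524 (iv D1753) (iv F8779)
theorem F12335 : act 3 n2524 = n1752 := d25_1 D2524 (iv D1752) D1751
def n2525 : Q := act 8 n1751
theorem D2525 : act 8 n1751 = n2525 := rfl
theorem F12336 : act 1 n2525 = n1754 := d15_1 D2525 (iv D1754) (iv F8779)
theorem F12337 : act 3 n2525 = n1805 := d28_1 D2525 (iv D1805) (iv D1254) (iv F6259) D1751
theorem F12338 : act 4 n2525 = n2525 := d33_1 D2525 (iv D2525) F8780
theorem F12339 : act 6 n2525 = n1768 := d40_1 D2525 (iv D1768) (iv F8781)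
def n2526 : Q := act 6 n1752
theorem D2526 : act 6 n1752 = n2526 := rfl
theorem F12340 : act 1 n2526 = n1755 := d13_1 D2526 (iv D1755) (iv F8782)
theorem F12341 : act 4 n2526 = n2526 := d31_1 D2526 (iv D2526) F8783
theorem F12342 : act 5 n2526 = n1769 := d35_1 D2526 (iv D1769) (iv D1228) (iv F6258) D1752
theorem F12343 : act 8 n2526 = n1806 := d40_2 (iv F8784) D2526 (iv D1806)
def n2527 : Q := act 4 n1753
theorem D2527 : act 4 n1753 = n2527 := rfl
theorem F12344 : act 0 n2527 = n1973 := d3_1 D2527 (iv D1973) (iv F8785)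
theorem F12345 : act 3 n2527 = n2527 := d24_1 D2527 (iv D2527) F8786 F6265 (iv F8786)
theorem F12346 : act 5 n2527 = n2527 := d30_2 D1753 D2527 (iv D2527) (iv D1753) F6261
def n2528 : Q := act 6 n1753
theorem D2528 : act 6 n1753 = n2528 := rfl
theorem F12347 : act 0 n2528 = n1974 := d5_1 D2528 (iv D1974) (iv F8785)
theorem F12348 : act 3 n2528 = n1755 := d26_1 D2528 (iv D1755) (iv F8786)
theorem F12349 : act 5 n2528 = n1771 := d35_1 D2528 (iv D1771) (iv D1229) (iv F6262) D1753
def n2529 : Q := act 8 n1753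
theorem D2529 : act 8 n1753 = n2529 := rfl
theorem F12350 : act 0 n2529 = n1975 := d7_1 D2529 (iv D1975) (iv F8785)
theorem F12351 : act 3 n2529 = n1809 := d28_1 D2529 (iv D1809) F6435 (iv F6266) (iv F8786)
theorem F12352 : act 5 n2529 = n1754 := d37_1 D2529 (iv D1754) D1753
def n2530 : Q := act 9 n1754
theorem D2530 : act 9 n1754 = n2530 := rfl
theorem F12353 : act 0 n2530 = n1976 := d8_1 D2530 (iv D1976) (iv F8787)
theorem F12354 : act 3 n2530 = n1810 := d29_1 D2530 (iv D1810) (iv F8788)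
theorem F12355 : act 4 n2530 = n2530 := d34_1 D2530 (iv D2530) F8789
theorem F12356 : act 6 n2530 = n1773 := d41_1 D2530 (iv D1773) (iv F8790)
def n2531 : Q := act 7 n1755
theorem D2531 : act 7 n1755 = n2531 := rfl
theorem F12357 : act 0 n2531 = n1977 := d6_1 D2531 (iv D1977) (iv F8791)
theorem F12358 : act 2 n2531 = n1756 := d21_1 D2531 (iv D1756) (iv F8792)
theorem F12359 : act 4 n2531 = n2531 := d32_1 D2531 (iv D2531) F8793
theorem F12360 : act 5 n2531 = n1774 := d36_1 D2531 (iv D1774) (iv F8794)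
theorem F12361 : act 8 n2531 = n1811 := d42_2 (iv F8795) D2531 (iv D1811)
def n2532 : Q := act 3 n1757
theorem D2532 : act 3 n1757 = n2532 := rfl
theorem F12362 : act 0 n2532 = n1758 := d2_1 D2532 (iv D1758) (iv F8800)
theorem F12363 : act 1 n2532 = n1978 := d10_1 D2532 (iv D1978) (iv F8801)
theorem F12364 : act 4 n2532 = n2532 := d24_2 D1757 D2532 (iv D2532) (iv D1757) F6272
theorem F12365 : act 7 n2532 = n2532 := d27_2 F8802 D2532 (iv D2532)
theorem F12366 : act 9 n2532 = n1764 := d29_2 (iv F8804) D2532 (iv D1764)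
def n2533 : Q := act 5 n1757
theorem D2533 : act 5 n1757 = n2533 := rfl
theorem F12367 : act 0 n2533 = n1759 := d4_1 D2533 (iv D1759) (iv F8800)
theorem F12368 : act 1 n2533 = n1979 := d12_1 D2533 (iv D1979) (iv F8801)
theorem F12369 : act 4 n2533 = n1776 := d30_1 D2533 (iv D1776) (iv D1233) (iv F6273) D1757
theorem F12370 : act 7 n2533 = n2533 := d36_2 F8802 D2533 (iv D2533)
theorem F12371 : act 8 n2533 = n2533 := d37_2 F8803 D2533 (iv D2533)
theorem F12372 : act 9 n2533 = n1765 := d38_2 (iv F8804) D2533 (iv D1765)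
def n2534 : Q := act 2 n1758
theorem D2534 : act 2 n1758 = n2534 := rfl
theorem F12373 : act 4 n2534 = n2534 := d18_2 F8806 D2534 (iv D2534)
theorem F12374 : act 7 n2534 = n2534 := d21_2 F8807 D2534 (iv D2534)
theorem F12375 : act 9 n2534 = n1766 := d23_2 (iv F8808) D2534 (iv D1766)
def n2535 : Q := act 5 n1758
theorem D2535 : act 5 n1758 = n2535 := rfl
theorem F12376 : act 1 n2535 = n1760 := d12_1 D2535 (iv D1760) (iv F8805)
theorem F12377 : act 3 n2535 = n1759 := d25_1 D2535 (iv D1759) D1758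
theorem F12378 : act 7 n2535 = n2535 := d36_2 F8807 D2535 (iv D2535)
theorem F12379 : act 9 n2535 = n1767 := d38_2 (iv F8808) D2535 (iv D1767)
def n2536 : Q := act 8 n1758
theorem D2536 : act 8 n1758 = n2536 := rfl
theorem F12380 : act 1 n2536 = n1761 := d15_1 D2536 (iv D1761) (iv F8805)
theorem F12381 : act 3 n2536 = n2536 := d28_1 D2536 (iv D2536) (iv D1758) F6279 D1758
theorem F12382 : act 4 n2536 = n2536 := d33_1 D2536 (iv D2536) F8806
theorem F12383 : act 7 n2536 = n2536 := d42_1 D2536 (iv D2536) F8807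
def n2537 : Q := act 6 n1759
theorem D2537 : act 6 n1759 = n2537 := rfl
theorem F12384 : act 1 n2537 = n1762 := d13_1 D2537 (iv D1762) (iv F8809)
theorem F12385 : act 4 n2537 = n1780 := d31_1 D2537 (iv D1780) (iv F8810)
theorem F12386 : act 8 n2537 = n2537 := d40_2 F8812 D2537 (iv D2537)
theorem F12387 : act 9 n2537 = n1769 := d41_2 (iv F8813) D2537 (iv D1769)
def n2538 : Q := act 4 n1760
theorem D2538 : act 4 n1760 = n2538 := rfl
theorem F12388 : act 0 n2538 = n1984 := d3_1 D2538 (iv D1984) (iv F8814)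
theorem F12389 : act 3 n2538 = n1781 := d24_1 D2538 (iv D1781) F6338 (iv F6287) (iv F8815)
theorem F12390 : act 5 n2538 = n2538 := d30_2 D1760 D2538 (iv D2538) (iv D1760) F6282
theorem F12391 : act 7 n2538 = n2538 := d32_2 F8816 D2538 (iv D2538)
theorem F12392 : act 9 n2538 = n1770 := d34_2 (iv F8817) D2538 (iv D1770)
def n2539 : Q := act 6 n1760
theorem D2539 : act 6 n1760 = n2539 := rfl
theorem F12393 : act 0 n2539 = n1985 := d5_1 D2539 (iv D1985) (iv F8814)
theorem F12394 : act 3 n2539 = n1762 := d26_1 D2539 (iv D1762) (iv F8815)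
theorem F12395 : act 9 n2539 = n1771 := d41_2 (iv F8817) D2539 (iv D1771)
def n2540 : Q := act 8 n1760
theorem D2540 : act 8 n1760 = n2540 := rfl
theorem F12396 : act 0 n2540 = n1986 := d7_1 D2540 (iv D1986) (iv F8814)
theorem F12397 : act 3 n2540 = n2540 := d28_1 D2540 (iv D2540) F8815 F6289 (iv F8815)
theorem F12398 : act 5 n2540 = n1761 := d37_1 D2540 (iv D1761) D1760
theorem F12399 : act 7 n2540 = n2540 := d42_1 D2540 (iv D2540) F8816
def n2541 : Q := act 9 n1761
theorem D2541 : act 9 n1761 = n2541 := rfl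
theorem F12400 : act 0 n2541 = n1987 := d8_1 D2541 (iv D1987) (iv F8818)
theorem F12401 : act 3 n2541 = n2541 := d29_1 D2541 (iv D2541) F8819
theorem F12402 : act 4 n2541 = n2541 := d34_1 D2541 (iv D2541) F8820
theorem F12403 : act 7 n2541 = n2541 := d43_1 D2541 (iv D2541) F8821
theorem F12404 : act 8 n2541 = n1773 := d44_1 D2541 (iv D1773) (iv D1230) (iv F6284) D1761
def n2542 : Q := act 7 n1762
theorem D2542 : act 7 n1762 = n2542 := rfl
theorem F12405 : act 0 n2542 = n1988 := d6_1 D2542 (iv D1988) (iv F8822)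
theorem F12406 : act 2 n2542 = n1763 := d21_1 D2542 (iv D1763) (iv F8823)
theorem F12407 : act 4 n2542 = n1784 := d32_1 D2542 (iv D1784) (iv F8824)
theorem F12408 : act 6 n2542 = n2542 := d39_1 D2542 (iv D2542) (iv D1762) F6288 D1762
theorem F12409 : act 8 n2542 = n2542 := d42_2 F8825 D2542 (iv D2542)
theorem F12410 : act 9 n2542 = n1774 := d43_2 (iv F8826) D2542 (iv D1774)
def n2543 : Q := act 2 n1764
theorem D2543 : act 2 n1764 = n2543 := rfl
theorem F12411 : act 0 n2543 = n1766 := d1_1 D2543 (iv D1766) (iv F8832)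
theorem F12412 : act 4 n2543 = n2543 := d18_2 F8834 D2543 (iv D2543)
theorem F12413 : act 7 n2543 = n2543 := d21_2 F8835 D2543 (iv D2543)
def n2544 : Q := act 5 n1764
theorem D2544 : act 5 n1764 = n2544 := rfl
theorem F12414 : act 0 n2544 = n1767 := d4_1 D2544 (iv D1767) (iv F8832)
theorem F12415 : act 1 n2544 = n1990 := d12_1 D2544 (iv D1990) (iv F8833)
theorem F12416 : act 3 n2544 = n1765 := d25_1 D2544 (iv D1765) D1764
theorem F12417 : act 7 n2544 = n2544 := d36_2 F8835 D2544 (iv D2544)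
def n2545 : Q := act 8 n1764
theorem D2545 : act 8 n1764 = n2545 := rfl
theorem F12420 : act 3 n2545 = n1814 := d28_1 D2545 (iv D1814) (iv D1260) (iv F6298) D1764
def n2546 : Q := act 6 n1765
theorem D2546 : act 6 n1765 = n2546 := rfl
theorem F12423 : act 0 n2546 = n1769 := d5_1 D2546 (iv D1769) (iv F8836)
theorem F12424 : act 1 n2546 = n1992 := d13_1 D2546 (iv D1992) (iv F8837)
theorem F12425 : act 4 n2546 = n1787 := d31_1 D2546 (iv D1787) (iv F8838)
theorem F12426 : act 8 n2546 = n1815 := d40_2 (iv F8840) D2546 (iv D1815)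
def n2547 : Q := act 5 n1766
theorem D2547 : act 5 n1766 = n2547 := rfl
theorem F12427 : act 2 n2547 = n1767 := d19_1 D2547 (iv D1767) D1766
theorem F12428 : act 7 n2547 = n2547 := d36_2 F8842 D2547 (iv D2547)
def n2548 : Q := act 8 n1766
theorem D2548 : act 8 n1766 = n2548 := rfl
theorem F12429 : act 2 n2548 = n1768 := d22_1 D2548 (iv D1768) D1766
theorem F12430 : act 4 n2548 = n2548 := d33_1 D2548 (iv D2548) F8841
theorem F12431 : act 7 n2548 = n2548 := d42_1 D2548 (iv D2548) F8842
def n2549 : Q := act 4 n1767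
theorem D2549 : act 4 n1767 = n2549 := rfl
theorem F12432 : act 1 n2549 = n1770 := d11_1 D2549 (iv D1770) (iv F8843)
theorem F12433 : act 3 n2549 = n1789 := d24_1 D2549 (iv D1789) F6375 (iv F6303) (iv F8844)
theorem F12434 : act 5 n2549 = n2549 := d30_2 D1767 D2549 (iv D2549) (iv D1767) F6300
theorem F12435 : act 7 n2549 = n2549 := d32_2 F8845 D2549 (iv D2549)
def n2550 : Q := act 6 n1767
theorem D2550 : act 6 n1767 = n2550 := rfl
theorem F12436 : act 1 n2550 = n1771 := d13_1 D2550 (iv D1771) (iv F8843)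
theorem F12437 : act 3 n2550 = n1769 := d26_1 D2550 (iv D1769) (iv F8844)
def n2551 : Q := act 8 n1767
theorem D2551 : act 8 n1767 = n2551 := rfl
theorem F12438 : act 1 n2551 = n1772 := d15_1 D2551 (iv D1772) (iv F8843)
theorem F12439 : act 3 n2551 = n1819 := d28_1 D2551 (iv D1819) F6466 (iv F6305) (iv F8844)
theorem F12440 : act 5 n2551 = n1768 := d37_1 D2551 (iv D1768) D1767
theorem F12441 : act 7 n2551 = n2551 := d42_1 D2551 (iv D2551) F8845
def n2552 : Q := act 9 n1768
theorem D2552 : act 9 n1768 = n2552 := rfl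
theorem F12442 : act 1 n2552 = n1773 := d16_1 D2552 (iv D1773) (iv F8846)
def n2553 : Q := act 7 n1769
theorem D2553 : act 7 n1769 = n2553 := rfl
theorem F12446 : act 1 n2553 = n1774 := d14_1 D2553 (iv D1774) (iv F8850)
theorem F12447 : act 4 n2553 = n1791 := d32_1 D2553 (iv D1791) (iv F8851)
theorem F12448 : act 6 n2553 = n2553 := d39_1 D2553 (iv D2553) (iv D1769) F6304 D1769
theorem F12449 : act 8 n2553 = n1821 := d42_2 (iv F8852) D2553 (iv D1821)
def n2554 : Q := act 6 n1770
theorem D2554 : act 6 n1770 = n2554 := rfl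
theorem F12450 : act 0 n2554 = n2000 := d5_1 D2554 (iv D2000) (iv F8853)
theorem F12451 : act 3 n2554 = n1792 := d26_1 D2554 (iv D1792) (iv F8854)
theorem F12452 : act 4 n2554 = n1771 := d31_1 D2554 (iv D1771) D1770
def n2555 : Q := act 8 n1770
theorem D2555 : act 8 n1770 = n2555 := rfl
theorem F12453 : act 0 n2555 = n2001 := d7_1 D2555 (iv D2001) (iv F8853)
theorem F12454 : act 3 n2555 = n2555 := d28_1 D2555 (iv D2555) F8854 F6385 (iv F8854)
theorem F12455 : act 4 n2555 = n1772 := d33_1 D2555 (iv D1772) D1770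
theorem F12456 : act 5 n2555 = n2555 := d37_1 D2555 (iv D2555) F8855
theorem F12457 : act 7 n2555 = n2555 := d42_1 D2555 (iv D2555) F8856
def n2556 : Q := act 7 n1771
theorem D2556 : act 7 n1771 = n2556 := rfl
theorem F12458 : act 0 n2556 = n2002 := d6_1 D2556 (iv D2002) (iv F8857)
theorem F12459 : act 3 n2556 = n1774 := d27_1 D2556 (iv D1774) (iv F8858)
theorem F12460 : act 6 n2556 = n2556 := d39_1 D2556 (iv D2556) (iv D1771) F6308 D1771
def n2557 : Q := act 8 n1771
theorem D2557 : act 8 n1771 = n2557 := rfl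
theorem F12461 : act 0 n2557 = n2003 := d7_1 D2557 (iv D2003) (iv F8857)
theorem F12462 : act 3 n2557 = n1823 := d28_1 D2557 (iv D1823) F6478 (iv F6316) (iv F8858)
theorem F12463 : act 6 n2557 = n1772 := d40_1 D2557 (iv D1772) D1771
def n2558 : Q := act 9 n1772
theorem D2558 : act 9 n1772 = n2558 := rfl
theorem F12464 : act 0 n2558 = n2004 := d8_1 D2558 (iv D2004) (iv F8859)
theorem F12465 : act 3 n2558 = n1824 := d29_1 D2558 (iv D1824) (iv F8860)
theorem F12466 : act 5 n2558 = n1773 := d38_1 D2558 (iv D1773) (iv F8861)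
theorem F12467 : act 7 n2558 = n2558 := d43_1 D2558 (iv D2558) F8862
def n2559 : Q := act 2 n1775
theorem D2559 : act 2 n1775 = n2559 := rfl
theorem F12468 : act 0 n2559 = n1777 := d1_1 D2559 (iv D1777) (iv F8872)
theorem F12469 : act 4 n2559 = n2559 := d18_2 F8874 D2559 (iv D2559)
theorem F12470 : act 6 n2559 = n2559 := d20_2 F8875 D2559 (iv D2559)
theorem F12471 : act 7 n2559 = n2559 := d21_2 F8876 D2559 (iv D2559)
theorem F12472 : act 9 n2559 = n1785 := d23_2 (iv F8877) D2559 (iv D1785)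
def n2560 : Q := act 5 n1775
theorem D2560 : act 5 n1775 = n2560 := rfl
theorem F12473 : act 0 n2560 = n1778 := d4_1 D2560 (iv D1778) (iv F8872)
theorem F12474 : act 1 n2560 = n2006 := d12_1 D2560 (iv D2006) (iv F8873)
theorem F12475 : act 3 n2560 = n1776 := d25_1 D2560 (iv D1776) D1775
theorem F12476 : act 7 n2560 = n2560 := d36_2 F8876 D2560 (iv D2560)
theorem F12477 : act 9 n2560 = n1786 := d38_2 (iv F8877) D2560 (iv D1786)
def n2561 : Q := act 8 n1775
theorem D2561 : act 8 n1775 = n2561 := rfl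
theorem F12478 : act 0 n2561 = n1779 := d7_1 D2561 (iv D1779) (iv F8872)
theorem F12479 : act 1 n2561 = n2007 := d15_1 D2561 (iv D2007) (iv F8873)
theorem F12480 : act 3 n2561 = n2561 := d28_1 D2561 (iv D2561) (iv D1775) F6325 D1775
theorem F12481 : act 4 n2561 = n2561 := d33_1 D2561 (iv D2561) F8874
theorem F12482 : act 6 n2561 = n2561 := d40_1 D2561 (iv D2561) F8875
theorem F12483 : act 7 n2561 = n2561 := d42_1 D2561 (iv D2561) F8876
theorem F12484 : act 9 n2561 = n2561 := d44_2 (iv F8877) D2561 (iv D2561) F8877 F6364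
def n2562 : Q := act 6 n1776
theorem D2562 : act 6 n1776 = n2562 := rfl
theorem F12485 : act 0 n2562 = n1780 := d5_1 D2562 (iv D1780) (iv F8878)
theorem F12486 : act 1 n2562 = n2008 := d13_1 D2562 (iv D2008) (iv F8879)
theorem F12487 : act 5 n2562 = n2562 := d35_1 D2562 (iv D2562) (iv D1776) F6323 D1776
theorem F12488 : act 8 n2562 = n2562 := d40_2 F8881 D2562 (iv D2562)
theorem F12489 : act 9 n2562 = n1787 := d41_2 (iv F8882) D2562 (iv D1787)
def n2563 : Q := act 5 n1777
theorem D2563 : act 5 n1777 = n2563 := rfl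
theorem F12490 : act 1 n2563 = n2563 := d12_1 D2563 (iv D2563) F8883
theorem F12491 : act 2 n2563 = n1778 := d19_1 D2563 (iv D1778) D1777
theorem F12492 : act 7 n2563 = n2563 := d36_2 F8886 D2563 (iv D2563)
theorem F12493 : act 9 n2563 = n1788 := d38_2 (iv F8887) D2563 (iv D1788)
def n2564 : Q := act 8 n1777
theorem D2564 : act 8 n1777 = n2564 := rfl
theorem F12494 : act 1 n2564 = n2564 := d15_1 D2564 (iv D2564) F8883
theorem F12495 : act 2 n2564 = n1779 := d22_1 D2564 (iv D1779) D1777
theorem F12496 : act 4 n2564 = n2564 := d33_1 D2564 (iv D2564) F8884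
theorem F12497 : act 6 n2564 = n2564 := d40_1 D2564 (iv D2564) F8885
theorem F12498 : act 7 n2564 = n2564 := d42_1 D2564 (iv D2564) F8886
theorem F12499 : act 9 n2564 = n2564 := d44_2 (iv F8887) D2564 (iv D2564) F8887 F6373
def n2565 : Q := act 4 n1778
theorem D2565 : act 4 n1778 = n2565 := rfl
theorem F12500 : act 1 n2565 = n1781 := d11_1 D2565 (iv D1781) (iv F8888)
theorem F12501 : act 5 n2565 = n2565 := d30_2 D1778 D2565 (iv D2565) (iv D1778) F6328
theorem F12502 : act 7 n2565 = n2565 := d32_2 F8890 D2565 (iv D2565)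
theorem F12503 : act 9 n2565 = n1789 := d34_2 (iv F8891) D2565 (iv D1789)
def n2566 : Q := act 6 n1778
theorem D2566 : act 6 n1778 = n2566 := rfl
theorem F12504 : act 1 n2566 = n1782 := d13_1 D2566 (iv D1782) (iv F8888)
theorem F12505 : act 3 n2566 = n1780 := d26_1 D2566 (iv D1780) (iv F8889)
theorem F12506 : act 5 n2566 = n2566 := d35_1 D2566 (iv D2566) (iv D1778) F6329 D1778
theorem F12507 : act 9 n2566 = n1790 := d41_2 (iv F8891) D2566 (iv D1790)
def n2567 : Q := act 8 n1778
theorem D2567 : act 8 n1778 = n2567 := rfl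
theorem F12508 : act 1 n2567 = n1783 := d15_1 D2567 (iv D1783) (iv F8888)
theorem F12509 : act 3 n2567 = n2567 := d28_1 D2567 (iv D2567) F8889 F6334 (iv F8889)
theorem F12510 : act 5 n2567 = n1779 := d37_1 D2567 (iv D1779) D1778
theorem F12511 : act 7 n2567 = n2567 := d42_1 D2567 (iv D2567) F8890
theorem F12512 : act 9 n2567 = n2567 := d44_2 (iv F8891) D2567 (iv D2567) F8891 F6377
def n2568 : Q := act 7 n1780
theorem D2568 : act 7 n1780 = n2568 := rfl
theorem F12513 : act 1 n2568 = n1784 := d14_1 D2568 (iv D1784) (iv F8898)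
theorem F12514 : act 5 n2568 = n2568 := d36_1 D2568 (iv D2568) F8899
theorem F12515 : act 6 n2568 = n2568 := d39_1 D2568 (iv D2568) (iv D1780) F6333 D1780
theorem F12516 : act 8 n2568 = n2568 := d42_2 F8900 D2568 (iv D2568)
theorem F12517 : act 9 n2568 = n1791 := d43_2 (iv F8901) D2568 (iv D1791)
def n2569 : Q := act 6 n1781
theorem D2569 : act 6 n1781 = n2569 := rfl
theorem F12518 : act 0 n2569 = n2015 := d5_1 D2569 (iv D2015) (iv F8902)
theorem F12519 : act 2 n2569 = n2569 := d20_1 D2569 (iv D2569) F8903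
theorem F12520 : act 4 n2569 = n1782 := d31_1 D2569 (iv D1782) D1781
theorem F12521 : act 9 n2569 = n1792 := d41_2 (iv F8906) D2569 (iv D1792)
def n2570 : Q := act 8 n1781
theorem D2570 : act 8 n1781 = n2570 := rfl
theorem F12522 : act 0 n2570 = n2016 := d7_1 D2570 (iv D2016) (iv F8902)
theorem F12523 : act 2 n2570 = n2570 := d22_1 D2570 (iv D2570) F8903
theorem F12524 : act 4 n2570 = n1783 := d33_1 D2570 (iv D1783) D1781
theorem F12525 : act 5 n2570 = n2570 := d37_1 D2570 (iv D2570) F8904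
theorem F12526 : act 7 n2570 = n2570 := d42_1 D2570 (iv D2570) F8905
theorem F12527 : act 9 n2570 = n2570 := d44_2 (iv F8906) D2570 (iv D2570) F8906 F6385
def n2571 : Q := act 7 n1782
theorem D2571 : act 7 n1782 = n2571 := rfl
theorem F12528 : act 0 n2571 = n2017 := d6_1 D2571 (iv D2017) (iv F8907)
theorem F12529 : act 2 n2571 = n2571 := d21_1 D2571 (iv D2571) F8908
theorem F12530 : act 3 n2571 = n1784 := d27_1 D2571 (iv D1784) (iv F8909)
theorem F12531 : act 5 n2571 = n2571 := d36_1 D2571 (iv D2571) F8910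
theorem F12532 : act 6 n2571 = n2571 := d39_1 D2571 (iv D2571) (iv D1782) F6339 D1782
theorem F12533 : act 9 n2571 = n1793 := d43_2 (iv F8911) D2571 (iv D1793)
def n2572 : Q := act 8 n1782
theorem D2572 : act 8 n1782 = n2572 := rfl
theorem F12534 : act 0 n2572 = n2018 := d7_1 D2572 (iv D2018) (iv F8907)
theorem F12535 : act 2 n2572 = n2572 := d22_1 D2572 (iv D2572) F8908
theorem F12536 : act 3 n2572 = n2572 := d28_1 D2572 (iv D2572) F8909 F6351 (iv F8909)
theorem F12537 : act 5 n2572 = n2572 := d37_1 D2572 (iv D2572) F8910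
theorem F12538 : act 6 n2572 = n1783 := d40_1 D2572 (iv D1783) D1782
theorem F12539 : act 9 n2572 = n2572 := d44_2 (iv F8911) D2572 (iv D2572) F8911 F6390
def n2573 : Q := act 1 n1785
theorem D2573 : act 1 n1785 = n2573 := rfl
theorem F12540 : act 0 n2573 = n2573 := d0_1 D2573 (iv D2573) F8924 F6369 (iv F8924)
theorem F12541 : act 2 n2573 = n2019 := d9_2 D1785 D2573 (iv D2019) (iv D1401) (iv F6360)
theorem F12542 : act 4 n2573 = n2573 := d11_2 F8925 D2573 (iv D2573)
theorem F12543 : act 6 n2573 = n2573 := d13_2 F8926 D2573 (iv D2573)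
theorem F12544 : act 7 n2573 = n2573 := d14_2 F8927 D2573 (iv D2573)
theorem F12545 : act 8 n2573 = n2573 := d15_2 F8928 D2573 (iv D2573)
def n2574 : Q := act 5 n1785
theorem D2574 : act 5 n1785 = n2574 := rfl
theorem F12546 : act 0 n2574 = n1788 := d4_1 D2574 (iv D1788) (iv F8924)
theorem F12547 : act 2 n2574 = n1786 := d19_1 D2574 (iv D1786) D1785
theorem F12548 : act 7 n2574 = n2574 := d36_2 F8927 D2574 (iv D2574)
theorem F12549 : act 8 n2574 = n2574 := d37_2 F8928 D2574 (iv D2574)
def n2575 : Q := act 4 n1786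
theorem D2575 : act 4 n1786 = n2575 := rfl
theorem F12550 : act 0 n2575 = n1789 := d3_1 D2575 (iv D1789) (iv F8929)
theorem F12551 : act 1 n2575 = n2021 := d11_1 D2575 (iv D2021) (iv F8930)
theorem F12552 : act 5 n2575 = n2575 := d30_2 D1786 D2575 (iv D2575) (iv D1786) F6361
theorem F12553 : act 7 n2575 = n2575 := d32_2 F8932 D2575 (iv D2575)
theorem F12554 : act 8 n2575 = n2575 := d33_2 F8933 D2575 (iv D2575)
def n2576 : Q := act 6 n1786
theorem D2576 : act 6 n1786 = n2576 := rfl
theorem F12555 : act 0 n2576 = n1790 := d5_1 D2576 (iv D1790) (iv F8929)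
theorem F12556 : act 1 n2576 = n2022 := d13_1 D2576 (iv D2022) (iv F8930)
theorem F12557 : act 3 n2576 = n1787 := d26_1 D2576 (iv D1787) (iv F8931)
theorem F12558 : act 5 n2576 = n2576 := d35_1 D2576 (iv D2576) (iv D1786) F6362 D1786
theorem F12559 : act 8 n2576 = n2576 := d40_2 F8933 D2576 (iv D2576)
def n2577 : Q := act 7 n1787
theorem D2577 : act 7 n1787 = n2577 := rfl
theorem F12560 : act 0 n2577 = n1791 := d6_1 D2577 (iv D1791) (iv F8934)
theorem F12561 : act 1 n2577 = n2023 := d14_1 D2577 (iv D2023) (iv F8935)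
theorem F12562 : act 5 n2577 = n2577 := d36_1 D2577 (iv D2577) F8936
theorem F12563 : act 6 n2577 = n2577 := d39_1 D2577 (iv D2577) (iv D1787) F6367 D1787
theorem F12564 : act 8 n2577 = n1825 := d42_2 (iv F8937) D2577 (iv D1825)
def n2578 : Q := act 4 n1788
theorem D2578 : act 4 n1788 = n2578 := rfl
theorem F12565 : act 1 n2578 = n2578 := d11_1 D2578 (iv D2578) F8938
theorem F12566 : act 2 n2578 = n1789 := d18_1 D2578 (iv D1789) (iv F8939)
theorem F12567 : act 5 n2578 = n2578 := d30_2 D1788 D2578 (iv D2578) (iv D1788) F6370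
theorem F12568 : act 7 n2578 = n2578 := d32_2 F8940 D2578 (iv D2578)
theorem F12569 : act 8 n2578 = n2578 := d33_2 F8941 D2578 (iv D2578)
def n2579 : Q := act 6 n1788
theorem D2579 : act 6 n1788 = n2579 := rfl
theorem F12570 : act 1 n2579 = n2579 := d13_1 D2579 (iv D2579) F8938
theorem F12571 : act 2 n2579 = n1790 := d20_1 D2579 (iv D1790) (iv F8939)
theorem F12572 : act 5 n2579 = n2579 := d35_1 D2579 (iv D2579) (iv D1788) F6371 D1788
theorem F12573 : act 8 n2579 = n2579 := d40_2 F8941 D2579 (iv D2579)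
def n2580 : Q := act 6 n1789
theorem D2580 : act 6 n1789 = n2580 := rfl
theorem F12574 : act 1 n2580 = n1792 := d13_1 D2580 (iv D1792) (iv F8942)
theorem F12575 : act 4 n2580 = n1790 := d31_1 D2580 (iv D1790) D1789
theorem F12576 : act 8 n2580 = n2580 := d40_2 F8945 D2580 (iv D2580)
def n2581 : Q := act 7 n1790
theorem D2581 : act 7 n1790 = n2581 := rfl
theorem F12577 : act 1 n2581 = n1793 := d14_1 D2581 (iv D1793) (iv F8946)
theorem F12578 : act 3 n2581 = n1791 := d27_1 D2581 (iv D1791) (iv F8947)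
theorem F12579 : act 5 n2581 = n2581 := d36_1 D2581 (iv D2581) F8948
theorem F12580 : act 6 n2581 = n2581 := d39_1 D2581 (iv D2581) (iv D1790) F6376 D1790
theorem F12581 : act 8 n2581 = n2581 := d42_2 F8949 D2581 (iv D2581)
def n2582 : Q := act 5 n1792
theorem D2582 : act 5 n1792 = n2582 := rfl
theorem F12582 : act 0 n2582 = n2028 := d4_1 D2582 (iv D2028) (iv F8954)
theorem F12583 : act 2 n2582 = n2582 := d19_1 D2582 (iv D2582) F8955
theorem F12584 : act 4 n2582 = n2582 := d30_1 D2582 (iv D2582) F8956 F6389 (iv F8956)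
theorem F12585 : act 6 n2582 = n2582 := d35_2 D1792 D2582 (iv D2582) (iv D1792) F6383
theorem F12586 : act 8 n2582 = n2582 := d37_2 F8957 D2582 (iv D2582)
def n2583 : Q := act 7 n1792
theorem D2583 : act 7 n1792 = n2583 := rfl
theorem F12587 : act 0 n2583 = n2029 := d6_1 D2583 (iv D2029) (iv F8954)
theorem F12588 : act 2 n2583 = n2583 := d21_1 D2583 (iv D2583) F8955
theorem F12589 : act 4 n2583 = n1793 := d32_1 D2583 (iv D1793) (iv F8956)
theorem F12590 : act 6 n2583 = n2583 := d39_1 D2583 (iv D2583) (iv D1792) F6384 D1792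
theorem F12591 : act 8 n2583 = n2583 := d42_2 F8957 D2583 (iv D2583)
def n2584 : Q := act 3 n1794
theorem D2584 : act 3 n1794 = n2584 := rfl
theorem F12592 : act 0 n2584 = n1795 := d2_1 D2584 (iv D1795) (iv F8964)
theorem F12593 : act 1 n2584 = n2030 := d10_1 D2584 (iv D2030) (iv F8965)
theorem F12594 : act 4 n2584 = n1826 := d24_2 D1794 D2584 (iv D1826) (iv D1272) (iv F6397)
theorem F12595 : act 6 n2584 = n2584 := d26_2 F8966 D2584 (iv D2584)
theorem F12596 : act 7 n2584 = n1801 := d27_2 (iv F8967) D2584 (iv D1801)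
theorem F12597 : act 9 n2584 = n2584 := d29_2 F8968 D2584 (iv D2584)
def n2585 : Q := act 5 n1794
theorem D2585 : act 5 n1794 = n2585 := rfl
theorem F12598 : act 0 n2585 = n1796 := d4_1 D2585 (iv D1796) (iv F8964)
theorem F12599 : act 1 n2585 = n2031 := d12_1 D2585 (iv D2031) (iv F8965)
theorem F12600 : act 4 n2585 = n2585 := d30_1 D2585 (iv D2585) (iv D1794) F6398 D1794
theorem F12601 : act 7 n2585 = n1802 := d36_2 (iv F8967) D2585 (iv D1802)
theorem F12602 : act 9 n2585 = n2585 := d38_2 F8968 D2585 (iv D2585)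
def n2586 : Q := act 2 n1795
theorem D2586 : act 2 n1795 = n2586 := rfl
theorem F12603 : act 1 n2586 = n2586 := d9_1 D2586 (iv D2586) F8969 F6407 (iv F8969)
theorem F12604 : act 4 n2586 = n1828 := d18_2 (iv F8970) D2586 (iv D1828)
theorem F12605 : act 6 n2586 = n2586 := d20_2 F8971 D2586 (iv D2586)
theorem F12606 : act 7 n2586 = n1803 := d21_2 (iv F8972) D2586 (iv D1803)
theorem F12607 : act 9 n2586 = n2586 := d23_2 F8973 D2586 (iv D2586)
def n2587 : Q := act 5 n1795
theorem D2587 : act 5 n1795 = n2587 := rfl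
theorem F12608 : act 1 n2587 = n1797 := d12_1 D2587 (iv D1797) (iv F8969)
theorem F12609 : act 3 n2587 = n1796 := d25_1 D2587 (iv D1796) D1795
theorem F12610 : act 7 n2587 = n1804 := d36_2 (iv F8972) D2587 (iv D1804)
theorem F12611 : act 9 n2587 = n2587 := d38_2 F8973 D2587 (iv D2587)
def n2588 : Q := act 8 n1795
theorem D2588 : act 8 n1795 = n2588 := rfl
theorem F12612 : act 1 n2588 = n1798 := d15_1 D2588 (iv D1798) (iv F8969)
theorem F12613 : act 4 n2588 = n1830 := d33_1 D2588 (iv D1830) (iv F8970)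
theorem F12614 : act 6 n2588 = n2588 := d40_1 D2588 (iv D2588) F8971
theorem F12615 : act 7 n2588 = n1805 := d42_1 D2588 (iv D1805) (iv F8972)
def n2589 : Q := act 6 n1796
theorem D2589 : act 6 n1796 = n2589 := rfl
theorem F12616 : act 1 n2589 = n1799 := d13_1 D2589 (iv D1799) (iv F8974)
theorem F12617 : act 4 n2589 = n2589 := d31_1 D2589 (iv D2589) F8975
theorem F12618 : act 5 n2589 = n2589 := d35_1 D2589 (iv D2589) (iv D1796) F6403 D1796
theorem F12619 : act 9 n2589 = n2589 := d41_2 F8977 D2589 (iv D2589)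
def n2590 : Q := act 4 n1797
theorem D2590 : act 4 n1797 = n2590 := rfl
theorem F12620 : act 0 n2590 = n2036 := d3_1 D2590 (iv D2036) (iv F8978)
theorem F12621 : act 2 n2590 = n2590 := d18_1 D2590 (iv D2590) F8979
theorem F12622 : act 3 n2590 = n2590 := d24_1 D2590 (iv D2590) F8980 F6414 (iv F8980)
theorem F12623 : act 5 n2590 = n1832 := d30_2 D1797 D2590 (iv D1832) (iv D1275) (iv F6408)
theorem F12624 : act 7 n2590 = n1807 := d32_2 (iv F8981) D2590 (iv D1807)
theorem F12625 : act 9 n2590 = n2590 := d34_2 F8982 D2590 (iv D2590)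
def n2591 : Q := act 6 n1797
theorem D2591 : act 6 n1797 = n2591 := rfl
theorem F12626 : act 0 n2591 = n2037 := d5_1 D2591 (iv D2037) (iv F8978)
theorem F12627 : act 2 n2591 = n2591 := d20_1 D2591 (iv D2591) F8979
theorem F12628 : act 3 n2591 = n1799 := d26_1 D2591 (iv D1799) (iv F8980)
theorem F12629 : act 5 n2591 = n2591 := d35_1 D2591 (iv D2591) (iv D1797) F6409 D1797
theorem F12630 : act 9 n2591 = n2591 := d41_2 F8982 D2591 (iv D2591)
def n2592 : Q := act 8 n1797
theorem D2592 : act 8 n1797 = n2592 := rfl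
theorem F12631 : act 0 n2592 = n2038 := d7_1 D2592 (iv D2038) (iv F8978)
theorem F12632 : act 2 n2592 = n2592 := d22_1 D2592 (iv D2592) F8979
theorem F12633 : act 5 n2592 = n1798 := d37_1 D2592 (iv D1798) D1797
theorem F12634 : act 7 n2592 = n1809 := d42_1 D2592 (iv D1809) (iv F8981)
def n2593 : Q := act 9 n1798
theorem D2593 : act 9 n1798 = n2593 := rfl
theorem F12635 : act 0 n2593 = n2039 := d8_1 D2593 (iv D2039) (iv F8983)
theorem F12636 : act 2 n2593 = n2593 := d23_1 D2593 (iv D2593) F8984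
theorem F12637 : act 4 n2593 = n1835 := d34_1 D2593 (iv D1835) (iv F8985)
theorem F12638 : act 6 n2593 = n2593 := d41_1 D2593 (iv D2593) F8986
theorem F12639 : act 7 n2593 = n1810 := d43_1 D2593 (iv D1810) (iv F8987)
theorem F12640 : act 8 n2593 = n2593 := d44_1 D2593 (iv D2593) (iv D1798) F6411 D1798
def n2594 : Q := act 7 n1799
theorem D2594 : act 7 n1799 = n2594 := rfl
theorem F12641 : act 0 n2594 = n2040 := d6_1 D2594 (iv D2040) (iv F8988)
theorem F12642 : act 2 n2594 = n1800 := d21_1 D2594 (iv D1800) (iv F8989)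
theorem F12643 : act 4 n2594 = n2594 := d32_1 D2594 (iv D2594) F8990
theorem F12644 : act 5 n2594 = n2594 := d36_1 D2594 (iv D2594) F8991
theorem F12645 : act 6 n2594 = n1811 := d39_1 D2594 (iv D1811) (iv D1258) (iv F6415) D1799
theorem F12646 : act 9 n2594 = n2594 := d43_2 F8992 D2594 (iv D2594)
def n2595 : Q := act 2 n1801
theorem D2595 : act 2 n1801 = n2595 := rfl
theorem F12647 : act 0 n2595 = n1803 := d1_1 D2595 (iv D1803) (iv F8999)
theorem F12648 : act 4 n2595 = n1836 := d18_2 (iv F9001) D2595 (iv D1836)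
theorem F12649 : act 6 n2595 = n1812 := d20_2 (iv F9002) D2595 (iv D1812)
theorem F12650 : act 9 n2595 = n2595 := d23_2 F9003 D2595 (iv D2595)
def n2596 : Q := act 5 n1801
theorem D2596 : act 5 n1801 = n2596 := rfl
theorem F12651 : act 0 n2596 = n1804 := d4_1 D2596 (iv D1804) (iv F8999)
theorem F12652 : act 1 n2596 = n2042 := d12_1 D2596 (iv D2042) (iv F9000)
theorem F12653 : act 3 n2596 = n1802 := d25_1 D2596 (iv D1802) D1801
theorem F12654 : act 9 n2596 = n2596 := d38_2 F9003 D2596 (iv D2596)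
def n2597 : Q := act 8 n1801
theorem D2597 : act 8 n1801 = n2597 := rfl
theorem F12657 : act 4 n2597 = n1838 := d33_1 D2597 (iv D1838) (iv F9001)
theorem F12658 : act 6 n2597 = n1814 := d40_1 D2597 (iv D1814) (iv F9002)
def n2598 : Q := act 6 n1802
theorem D2598 : act 6 n1802 = n2598 := rfl
theorem F12659 : act 0 n2598 = n1806 := d5_1 D2598 (iv D1806) (iv F9004)
theorem F12660 : act 1 n2598 = n2044 := d13_1 D2598 (iv D2044) (iv F9005)
theorem F12661 : act 4 n2598 = n2598 := d31_1 D2598 (iv D2598) F9006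
theorem F12662 : act 5 n2598 = n1815 := d35_1 D2598 (iv D1815) (iv D1261) (iv F6424) D1802
theorem F12663 : act 9 n2598 = n2598 := d41_2 F9007 D2598 (iv D2598)
def n2599 : Q := act 5 n1803
theorem D2599 : act 5 n1803 = n2599 := rfl
theorem F12664 : act 1 n2599 = n2599 := d12_1 D2599 (iv D2599) F9008
theorem F12665 : act 2 n2599 = n1804 := d19_1 D2599 (iv D1804) D1803
theorem F12666 : act 9 n2599 = n2599 := d38_2 F9011 D2599 (iv D2599)
def n2600 : Q := act 8 n1803
theorem D2600 : act 8 n1803 = n2600 := rfl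
theorem F12667 : act 1 n2600 = n2600 := d15_1 D2600 (iv D2600) F9008
theorem F12668 : act 2 n2600 = n1805 := d22_1 D2600 (iv D1805) D1803
theorem F12669 : act 4 n2600 = n1840 := d33_1 D2600 (iv D1840) (iv F9009)
theorem F12670 : act 6 n2600 = n1817 := d40_1 D2600 (iv D1817) (iv F9010)
def n2601 : Q := act 4 n1804
theorem D2601 : act 4 n1804 = n2601 := rfl
theorem F12671 : act 1 n2601 = n1807 := d11_1 D2601 (iv D1807) (iv F9012)
theorem F12672 : act 3 n2601 = n2601 := d24_1 D2601 (iv D2601) F9013 F6431 (iv F9013)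
theorem F12673 : act 5 n2601 = n1841 := d30_2 D1804 D2601 (iv D1841) (iv D1281) (iv F6427)
theorem F12674 : act 9 n2601 = n2601 := d34_2 F9014 D2601 (iv D2601)
def n2602 : Q := act 6 n1804
theorem D2602 : act 6 n1804 = n2602 := rfl
theorem F12675 : act 1 n2602 = n1808 := d13_1 D2602 (iv D1808) (iv F9012)
theorem F12676 : act 3 n2602 = n1806 := d26_1 D2602 (iv D1806) (iv F9013)
theorem F12677 : act 5 n2602 = n1818 := d35_1 D2602 (iv D1818) (iv D1263) (iv F6428) D1804
theorem F12678 : act 9 n2602 = n2602 := d41_2 F9014 D2602 (iv D2602)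
def n2603 : Q := act 8 n1804
theorem D2603 : act 8 n1804 = n2603 := rfl
theorem F12679 : act 1 n2603 = n1809 := d15_1 D2603 (iv D1809) (iv F9012)
theorem F12680 : act 5 n2603 = n1805 := d37_1 D2603 (iv D1805) D1804
def n2604 : Q := act 9 n1805
theorem D2604 : act 9 n1805 = n2604 := rfl
theorem F12681 : act 1 n2604 = n1810 := d16_1 D2604 (iv D1810) (iv F9015)
theorem F12682 : act 4 n2604 = n1843 := d34_1 D2604 (iv D1843) (iv F9016)
theorem F12683 : act 6 n2604 = n1820 := d41_1 D2604 (iv D1820) (iv F9017)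
def n2605 : Q := act 7 n1806
theorem D2605 : act 7 n1806 = n2605 := rfl
theorem F12685 : act 1 n2605 = n1811 := d14_1 D2605 (iv D1811) (iv F9018)
theorem F12686 : act 4 n2605 = n2605 := d32_1 D2605 (iv D2605) F9019
theorem F12687 : act 5 n2605 = n1821 := d36_1 D2605 (iv D1821) (iv F9020)
theorem F12688 : act 9 n2605 = n2605 := d43_2 F9021 D2605 (iv D2605)
def n2606 : Q := act 6 n1807
theorem D2606 : act 6 n1807 = n2606 := rfl
theorem F12689 : act 0 n2606 = n2052 := d5_1 D2606 (iv D2052) (iv F9022)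
theorem F12690 : act 2 n2606 = n2606 := d20_1 D2606 (iv D2606) F9023
theorem F12691 : act 3 n2606 = n2606 := d26_1 D2606 (iv D2606) F9024
theorem F12692 : act 4 n2606 = n1808 := d31_1 D2606 (iv D1808) D1807
theorem F12693 : act 5 n2606 = n2606 := d35_1 D2606 (iv D2606) F9025 F6565 (iv F9025)
theorem F12694 : act 9 n2606 = n2606 := d41_2 F9026 D2606 (iv D2606)
def n2607 : Q := act 8 n1807
theorem D2607 : act 8 n1807 = n2607 := rfl
theorem F12695 : act 0 n2607 = n2053 := d7_1 D2607 (iv D2053) (iv F9022)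
theorem F12696 : act 2 n2607 = n2607 := d22_1 D2607 (iv D2607) F9023
theorem F12697 : act 4 n2607 = n1809 := d33_1 D2607 (iv D1809) D1807
theorem F12698 : act 5 n2607 = n1844 := d37_1 D2607 (iv D1844) (iv F9025)
def n2608 : Q := act 7 n1808
theorem D2608 : act 7 n1808 = n2608 := rfl
theorem F12699 : act 0 n2608 = n2054 := d6_1 D2608 (iv D2054) (iv F9027)
theorem F12700 : act 2 n2608 = n2608 := d21_1 D2608 (iv D2608) F9028
theorem F12701 : act 3 n2608 = n1811 := d27_1 D2608 (iv D1811) (iv F9029)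
theorem F12702 : act 5 n2608 = n1822 := d36_1 D2608 (iv D1822) (iv F9030)
theorem F12703 : act 9 n2608 = n2608 := d43_2 F9031 D2608 (iv D2608)
def n2609 : Q := act 8 n1808
theorem D2609 : act 8 n1808 = n2609 := rfl
theorem F12704 : act 0 n2609 = n2055 := d7_1 D2609 (iv D2055) (iv F9027)
theorem F12705 : act 2 n2609 = n2609 := d22_1 D2609 (iv D2609) F9028
theorem F12706 : act 5 n2609 = n1823 := d37_1 D2609 (iv D1823) (iv F9030)
theorem F12707 : act 6 n2609 = n1809 := d40_1 D2609 (iv D1809) D1808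
def n2610 : Q := act 9 n1809
theorem D2610 : act 9 n1809 = n2610 := rfl
theorem F12708 : act 0 n2610 = n2056 := d8_1 D2610 (iv D2056) (iv F9032)
theorem F12709 : act 2 n2610 = n2610 := d23_1 D2610 (iv D2610) F9033
theorem F12710 : act 5 n2610 = n1810 := d38_1 D2610 (iv D1810) (iv F9034)
theorem F12711 : act 8 n2610 = n2610 := d44_1 D2610 (iv D2610) (iv D1809) F6436 D1809
def n2611 : Q := act 1 n1812
theorem D2611 : act 1 n1812 = n2611 := rfl
def n2612 : Q := act 5 n1812
theorem D2612 : act 5 n1812 = n2612 := rfl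
theorem F12717 : act 0 n2612 = n1816 := d4_1 D2612 (iv D1816) (iv F9045)
theorem F12718 : act 2 n2612 = n1813 := d19_1 D2612 (iv D1813) D1812
theorem F12719 : act 4 n2612 = n2612 := d30_1 D2612 (iv D2612) F9046 F6579 (iv F9046)
theorem F12720 : act 7 n2612 = n2612 := d36_2 F9047 D2612 (iv D2612)
theorem F12721 : act 9 n2612 = n2612 := d38_2 F9048 D2612 (iv D2612)
def n2613 : Q := act 8 n1812
theorem D2613 : act 8 n1812 = n2613 := rfl
theorem F12722 : act 0 n2613 = n1817 := d7_1 D2613 (iv D1817) (iv F9045)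
theorem F12723 : act 2 n2613 = n1814 := d22_1 D2613 (iv D1814) D1812
theorem F12724 : act 4 n2613 = n1847 := d33_1 D2613 (iv D1847) (iv F9046)
def n2614 : Q := act 6 n1813
theorem D2614 : act 6 n1813 = n2614 := rfl
theorem F12726 : act 0 n2614 = n1818 := d5_1 D2614 (iv D1818) (iv F9049)
theorem F12727 : act 1 n2614 = n2060 := d13_1 D2614 (iv D2060) (iv F9050)
theorem F12728 : act 3 n2614 = n1815 := d26_1 D2614 (iv D1815) (iv F9051)
theorem F12729 : act 4 n2614 = n2614 := d31_1 D2614 (iv D2614) F9052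
theorem F12730 : act 9 n2614 = n2614 := d41_2 F9054 D2614 (iv D2614)
def n2615 : Q := act 8 n1813
theorem D2615 : act 8 n1813 = n2615 := rfl
theorem F12734 : act 5 n2615 = n1814 := d37_1 D2615 (iv D1814) D1813
def n2616 : Q := act 9 n1814
theorem D2616 : act 9 n1814 = n2616 := rfl
def n2617 : Q := act 7 n1815
theorem D2617 : act 7 n1815 = n2617 := rfl
theorem F12741 : act 0 n2617 = n1821 := d6_1 D2617 (iv D1821) (iv F9059)
theorem F12742 : act 1 n2617 = n2063 := d14_1 D2617 (iv D2063) (iv F9060)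
theorem F12743 : act 4 n2617 = n1825 := d32_1 D2617 (iv D1825) (iv F9061)
theorem F12744 : act 6 n2617 = n2617 := d39_1 D2617 (iv D2617) (iv D1815) F6459 D1815
theorem F12745 : act 9 n2617 = n2617 := d43_2 F9062 D2617 (iv D2617)
def n2618 : Q := act 6 n1816
theorem D2618 : act 6 n1816 = n2618 := rfl
theorem F12746 : act 1 n2618 = n2618 := d13_1 D2618 (iv D2618) F9063
theorem F12747 : act 2 n2618 = n1818 := d20_1 D2618 (iv D1818) (iv F9064)
theorem F12748 : act 4 n2618 = n2618 := d31_1 D2618 (iv D2618) F9065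
theorem F12749 : act 9 n2618 = n2618 := d41_2 F9067 D2618 (iv D2618)
def n2619 : Q := act 8 n1816
theorem D2619 : act 8 n1816 = n2619 := rfl
theorem F12750 : act 1 n2619 = n2619 := d15_1 D2619 (iv D2619) F9063
theorem F12751 : act 2 n2619 = n1819 := d22_1 D2619 (iv D1819) (iv F9064)
theorem F12752 : act 4 n2619 = n2619 := d33_1 D2619 (iv D2619) F9065
theorem F12753 : act 5 n2619 = n1817 := d37_1 D2619 (iv D1817) D1816
theorem F12754 : act 7 n2619 = n2619 := d42_1 D2619 (iv D2619) F9066
def n2620 : Q := act 3 n1817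
theorem D2620 : act 3 n1817 = n2620 := rfl
theorem F12755 : act 1 n2620 = n2620 := d10_1 D2620 (iv D2620) F9068
theorem F12756 : act 7 n2620 = n2620 := d27_2 F9071 D2620 (iv D2620)
def n2621 : Q := act 9 n1817
theorem D2621 : act 9 n1817 = n2621 := rfl
theorem F12759 : act 4 n2621 = n1850 := d34_1 D2621 (iv D1850) (iv F9070)
def n2622 : Q := act 7 n1818
theorem D2622 : act 7 n1818 = n2622 := rfl
theorem F12762 : act 1 n2622 = n1822 := d14_1 D2622 (iv D1822) (iv F9072)
theorem F12763 : act 3 n2622 = n1821 := d27_1 D2622 (iv D1821) (iv F9073)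
theorem F12764 : act 4 n2622 = n2622 := d32_1 D2622 (iv D2622) F9074
theorem F12765 : act 6 n2622 = n2622 := d39_1 D2622 (iv D2622) (iv D1818) F6468 D1818
theorem F12766 : act 9 n2622 = n2622 := d43_2 F9075 D2622 (iv D2622)
def n2623 : Q := act 8 n1818
theorem D2623 : act 8 n1818 = n2623 := rfl
theorem F12767 : act 1 n2623 = n1823 := d15_1 D2623 (iv D1823) (iv F9072)
theorem F12768 : act 4 n2623 = n2623 := d33_1 D2623 (iv D2623) F9074
theorem F12769 : act 6 n2623 = n1819 := d40_1 D2623 (iv D1819) D1818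
def n2624 : Q := act 9 n1819
theorem D2624 : act 9 n1819 = n2624 := rfl
theorem F12770 : act 1 n2624 = n1824 := d16_1 D2624 (iv D1824) (iv F9076)
theorem F12772 : act 5 n2624 = n1820 := d38_1 D2624 (iv D1820) (iv F9078)
def n2625 : Q := act 8 n1822
theorem D2625 : act 8 n1822 = n2625 := rfl
theorem F12775 : act 0 n2625 = n2071 := d7_1 D2625 (iv D2071) (iv F9088)
theorem F12776 : act 2 n2625 = n2625 := d22_1 D2625 (iv D2625) F9089
theorem F12777 : act 4 n2625 = n2625 := d33_1 D2625 (iv D2625) F9091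
theorem F12778 : act 6 n2625 = n2625 := d40_1 D2625 (iv D2625) F9092
theorem F12779 : act 7 n2625 = n1823 := d42_1 D2625 (iv D1823) D1822
def n2626 : Q := act 9 n1823
theorem D2626 : act 9 n1823 = n2626 := rfl
theorem F12781 : act 2 n2626 = n2626 := d23_1 D2626 (iv D2626) F9095
theorem F12782 : act 4 n2626 = n2626 := d34_1 D2626 (iv D2626) F9096
theorem F12783 : act 6 n2626 = n1824 := d41_1 D2626 (iv D1824) (iv F9097)
theorem F12784 : act 8 n2626 = n2626 := d44_1 D2626 (iv D2626) (iv D1823) F6480 D1823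
def n2627 : Q := act 2 n1826
theorem D2627 : act 2 n1826 = n2627 := rfl
theorem F12785 : act 0 n2627 = n1828 := d1_1 D2627 (iv D1828) (iv F9110)
theorem F12786 : act 3 n2627 = n2627 := d17_2 D1826 D2627 (iv D2627) (iv D1826) F6508
theorem F12787 : act 6 n2627 = n2627 := d20_2 F9112 D2627 (iv D2627)
theorem F12788 : act 7 n2627 = n1836 := d21_2 (iv F9113) D2627 (iv D1836)
theorem F12789 : act 9 n2627 = n2627 := d23_2 F9114 D2627 (iv D2627)
def n2628 : Q := act 5 n1826
theorem D2628 : act 5 n1826 = n2628 := rfl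
theorem F12790 : act 0 n2628 = n1829 := d4_1 D2628 (iv D1829) (iv F9110)
theorem F12791 : act 1 n2628 = n2074 := d12_1 D2628 (iv D2074) (iv F9111)
theorem F12792 : act 3 n2628 = n1827 := d25_1 D2628 (iv D1827) D1826
theorem F12793 : act 7 n2628 = n1837 := d36_2 (iv F9113) D2628 (iv D1837)
theorem F12794 : act 9 n2628 = n2628 := d38_2 F9114 D2628 (iv D2628)
def n2629 : Q := act 8 n1826
theorem D2629 : act 8 n1826 = n2629 := rfl
def n2630 : Q := act 6 n1827
theorem D2630 : act 6 n1827 = n2630 := rfl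
theorem F12800 : act 0 n2630 = n1831 := d5_1 D2630 (iv D1831) (iv F9115)
theorem F12801 : act 1 n2630 = n2076 := d13_1 D2630 (iv D2076) (iv F9116)
theorem F12802 : act 2 n2630 = n2630 := d20_1 D2630 (iv D2630) F9117
theorem F12803 : act 4 n2630 = n2630 := d31_1 D2630 (iv D2630) F9118
theorem F12804 : act 5 n2630 = n2630 := d35_1 D2630 (iv D2630) (iv D1827) F6509 D1827
theorem F12805 : act 7 n2630 = n2630 := d39_2 (iv F9119) D2630 (iv D2630) F9119 F6548
theorem F12806 : act 8 n2630 = n2630 := d40_2 F9120 D2630 (iv D2630)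
theorem F12807 : act 9 n2630 = n2630 := d41_2 F9121 D2630 (iv D2630)
def n2631 : Q := act 5 n1828
theorem D2631 : act 5 n1828 = n2631 := rfl
theorem F12808 : act 1 n2631 = n2631 := d12_1 D2631 (iv D2631) F9122
theorem F12809 : act 2 n2631 = n1829 := d19_1 D2631 (iv D1829) D1828
theorem F12810 : act 3 n2631 = n2631 := d25_1 D2631 (iv D2631) F9123
theorem F12811 : act 7 n2631 = n1839 := d36_2 (iv F9125) D2631 (iv D1839)
theorem F12812 : act 9 n2631 = n2631 := d38_2 F9126 D2631 (iv D2631)
def n2632 : Q := act 8 n1828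
theorem D2632 : act 8 n1828 = n2632 := rfl
theorem F12813 : act 1 n2632 = n2632 := d15_1 D2632 (iv D2632) F9122
theorem F12814 : act 2 n2632 = n1830 := d22_1 D2632 (iv D1830) D1828
theorem F12815 : act 6 n2632 = n2632 := d40_1 D2632 (iv D2632) F9124
theorem F12816 : act 7 n2632 = n1840 := d42_1 D2632 (iv D1840) (iv F9125)
def n2633 : Q := act 4 n1829
theorem D2633 : act 4 n1829 = n2633 := rfl
theorem F12817 : act 1 n2633 = n1832 := d11_1 D2633 (iv D1832) (iv F9127)
theorem F12818 : act 3 n2633 = n2633 := d24_1 D2633 (iv D2633) F9128 F6519 (iv F9128)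
theorem F12819 : act 7 n2633 = n1841 := d32_2 (iv F9129) D2633 (iv D1841)
theorem F12820 : act 9 n2633 = n2633 := d34_2 F9130 D2633 (iv D2633)
def n2634 : Q := act 6 n1829
theorem D2634 : act 6 n1829 = n2634 := rfl
theorem F12821 : act 1 n2634 = n1833 := d13_1 D2634 (iv D1833) (iv F9127)
theorem F12822 : act 3 n2634 = n1831 := d26_1 D2634 (iv D1831) (iv F9128)
theorem F12823 : act 5 n2634 = n2634 := d35_1 D2634 (iv D2634) (iv D1829) F6514 D1829
theorem F12824 : act 7 n2634 = n2634 := d39_2 (iv F9129) D2634 (iv D2634) F9129 F6557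
theorem F12825 : act 9 n2634 = n2634 := d41_2 F9130 D2634 (iv D2634)
def n2635 : Q := act 8 n1829
theorem D2635 : act 8 n1829 = n2635 := rfl
theorem F12826 : act 1 n2635 = n1834 := d15_1 D2635 (iv D1834) (iv F9127)
theorem F12827 : act 3 n2635 = n2635 := d28_1 D2635 (iv D2635) F9128 F6521 (iv F9128)
theorem F12828 : act 5 n2635 = n1830 := d37_1 D2635 (iv D1830) D1829
theorem F12829 : act 7 n2635 = n1842 := d42_1 D2635 (iv D1842) (iv F9129)
def n2636 : Q := act 9 n1830
theorem D2636 : act 9 n1830 = n2636 := rfl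
theorem F12830 : act 1 n2636 = n1835 := d16_1 D2636 (iv D1835) (iv F9131)
def n2637 : Q := act 6 n1832
theorem D2637 : act 6 n1832 = n2637 := rfl
theorem F12835 : act 0 n2637 = n2083 := d5_1 D2637 (iv D2083) (iv F9142)
theorem F12836 : act 2 n2637 = n2637 := d20_1 D2637 (iv D2637) F9143
theorem F12837 : act 3 n2637 = n2637 := d26_1 D2637 (iv D2637) F9144
theorem F12838 : act 4 n2637 = n1833 := d31_1 D2637 (iv D1833) D1832
theorem F12839 : act 7 n2637 = n2637 := d39_2 (iv F9145) D2637 (iv D2637) F9145 F6565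
theorem F12840 : act 9 n2637 = n2637 := d41_2 F9146 D2637 (iv D2637)
def n2638 : Q := act 8 n1832
theorem D2638 : act 8 n1832 = n2638 := rfl
theorem F12841 : act 0 n2638 = n2084 := d7_1 D2638 (iv D2084) (iv F9142)
theorem F12842 : act 2 n2638 = n2638 := d22_1 D2638 (iv D2638) F9143
theorem F12843 : act 4 n2638 = n1834 := d33_1 D2638 (iv D1834) D1832
theorem F12844 : act 7 n2638 = n1844 := d42_1 D2638 (iv D1844) (iv F9145)
def n2639 : Q := act 8 n1833
theorem D2639 : act 8 n1833 = n2639 := rfl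
theorem F12845 : act 0 n2639 = n2085 := d7_1 D2639 (iv D2085) (iv F9147)
theorem F12846 : act 2 n2639 = n2639 := d22_1 D2639 (iv D2639) F9148
theorem F12847 : act 3 n2639 = n2639 := d28_1 D2639 (iv D2639) F9149 F6538 (iv F9149)
theorem F12848 : act 5 n2639 = n2639 := d37_1 D2639 (iv D2639) F9150
theorem F12849 : act 6 n2639 = n1834 := d40_1 D2639 (iv D1834) D1833
theorem F12850 : act 7 n2639 = n2639 := d42_1 D2639 (iv D2639) F9151
def n2640 : Q := act 9 n1834
theorem D2640 : act 9 n1834 = n2640 := rfl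
theorem F12852 : act 2 n2640 = n2640 := d23_1 D2640 (iv D2640) F9154
theorem F12853 : act 3 n2640 = n2640 := d29_1 D2640 (iv D2640) F9155
theorem F12854 : act 5 n2640 = n1835 := d38_1 D2640 (iv D1835) (iv F9156)
theorem F12855 : act 7 n2640 = n1845 := d43_1 D2640 (iv D1845) (iv F9157)
theorem F12856 : act 8 n2640 = n2640 := d44_1 D2640 (iv D2640) (iv D1834) F6527 D1834
def n2642 : Q := act 5 n1836
theorem D2642 : act 5 n1836 = n2642 := rfl
theorem F12862 : act 0 n2642 = n1839 := d4_1 D2642 (iv D1839) (iv F9164)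
theorem F12863 : act 2 n2642 = n1837 := d19_1 D2642 (iv D1837) D1836
theorem F12864 : act 3 n2642 = n2642 := d25_1 D2642 (iv D2642) F9165
theorem F12865 : act 6 n2642 = n2642 := d35_2 (iv F9166) D2642 (iv D2642) F9166 F6579
theorem F12866 : act 9 n2642 = n2642 := d38_2 F9167 D2642 (iv D2642)
def n2643 : Q := act 8 n1836
theorem D2643 : act 8 n1836 = n2643 := rfl
def n2644 : Q := act 4 n1837
theorem D2644 : act 4 n1837 = n2644 := rfl
theorem F12870 : act 0 n2644 = n1841 := d3_1 D2644 (iv D1841) (iv F9168)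
theorem F12871 : act 1 n2644 = n2090 := d11_1 D2644 (iv D2090) (iv F9169)
theorem F12872 : act 3 n2644 = n2644 := d24_1 D2644 (iv D2644) F9170 F6547 (iv F9170)
theorem F12873 : act 6 n2644 = n2644 := d31_2 F9171 D2644 (iv D2644)
theorem F12874 : act 9 n2644 = n2644 := d34_2 F9172 D2644 (iv D2644)
def n2645 : Q := act 8 n1837
theorem D2645 : act 8 n1837 = n2645 := rfl
theorem F12878 : act 5 n2645 = n1838 := d37_1 D2645 (iv D1838) D1837
def n2646 : Q := act 9 n1838
theorem D2646 : act 9 n1838 = n2646 := rfl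
theorem F12883 : act 6 n2646 = n1848 := d41_1 D2646 (iv D1848) (iv F9176)
def n2647 : Q := act 4 n1839
theorem D2647 : act 4 n1839 = n2647 := rfl
theorem F12885 : act 1 n2647 = n2647 := d11_1 D2647 (iv D2647) F9177
theorem F12886 : act 2 n2647 = n1841 := d18_1 D2647 (iv D1841) (iv F9178)
theorem F12887 : act 6 n2647 = n2647 := d31_2 F9180 D2647 (iv D2647)
theorem F12888 : act 9 n2647 = n2647 := d34_2 F9181 D2647 (iv D2647)
def n2648 : Q := act 8 n1839
theorem D2648 : act 8 n1839 = n2648 := rfl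
theorem F12889 : act 1 n2648 = n2648 := d15_1 D2648 (iv D2648) F9177
theorem F12890 : act 2 n2648 = n1842 := d22_1 D2648 (iv D1842) (iv F9178)
theorem F12891 : act 5 n2648 = n1840 := d37_1 D2648 (iv D1840) D1839
theorem F12892 : act 6 n2648 = n2648 := d40_1 D2648 (iv D2648) F9180
def n2649 : Q := act 3 n1840
theorem D2649 : act 3 n1840 = n2649 := rfl
theorem F12893 : act 1 n2649 = n2649 := d10_1 D2649 (iv D2649) F9182
theorem F12894 : act 2 n2649 = n2649 := d17_1 D2649 (iv D2649) F9183 F6560 (iv F9183)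
theorem F12895 : act 6 n2649 = n1849 := d26_2 (iv F9184) D2649 (iv D1849)
theorem F12896 : act 8 n2649 = n2649 := d28_2 D1840 D2649 (iv D2649) (iv D1840) F6552
def n2650 : Q := act 9 n1840
theorem D2650 : act 9 n1840 = n2650 := rfl
def n2651 : Q := act 8 n1841
theorem D2651 : act 8 n1841 = n2651 := rfl
theorem F12901 : act 1 n2651 = n1844 := d15_1 D2651 (iv D1844) (iv F9185)
theorem F12902 : act 4 n2651 = n1842 := d33_1 D2651 (iv D1842) D1841
theorem F12903 : act 6 n2651 = n2651 := d40_1 D2651 (iv D2651) F9187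
def n2652 : Q := act 9 n1842
theorem D2652 : act 9 n1842 = n2652 := rfl
theorem F12904 : act 1 n2652 = n1845 := d16_1 D2652 (iv D1845) (iv F9189)
theorem F12906 : act 5 n2652 = n1843 := d38_1 D2652 (iv D1843) (iv F9191)
def n2653 : Q := act 3 n1844
theorem D2653 : act 3 n1844 = n2653 := rfl
theorem F12909 : act 0 n2653 = n2099 := d2_1 D2653 (iv D2099) (iv F9197)
theorem F12910 : act 4 n2653 = n2653 := d24_2 (iv F9199) D2653 (iv D2653) F9199 F6569
theorem F12911 : act 6 n2653 = n2653 := d26_2 F9200 D2653 (iv D2653)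
theorem F12912 : act 8 n2653 = n2653 := d28_2 D1844 D2653 (iv D2653) (iv D1844) F6564
def n2654 : Q := act 9 n1844
theorem D2654 : act 9 n1844 = n2654 := rfl
theorem F12914 : act 2 n2654 = n2654 := d23_1 D2654 (iv D2654) F9198
theorem F12915 : act 4 n2654 = n1845 := d34_1 D2654 (iv D1845) (iv F9199)
theorem F12916 : act 6 n2654 = n2654 := d41_1 D2654 (iv D2654) F9200
theorem F12917 : act 8 n2654 = n2654 := d44_1 D2654 (iv D2654) (iv D1844) F6566 D1844
def n2656 : Q := act 3 n1847
theorem D2656 : act 3 n1847 = n2656 := rfl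
def n2657 : Q := act 9 n1847
theorem D2657 : act 9 n1847 = n2657 := rfl
def n2658 : Q := act 4 n1849
theorem D2658 : act 4 n1849 = n2658 := rfl
theorem F12933 : act 1 n2658 = n2658 := d11_1 D2658 (iv D2658) F9223
theorem F12934 : act 2 n2658 = n2658 := d18_1 D2658 (iv D2658) F9224
theorem F12935 : act 7 n2658 = n2658 := d32_2 F9226 D2658 (iv D2658)
theorem F12936 : act 8 n2658 = n2658 := d33_2 F9227 D2658 (iv D2658)
def n2659 : Q := act 9 n1849
theorem D2659 : act 9 n1849 = n2659 := rfl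
theorem F12939 : act 3 n2659 = n1850 := d29_1 D2659 (iv D1850) D1849
def n2660 : Q := act 4 n1851
theorem D2660 : act 4 n1851 = n2660 := rfl
theorem F12942 : act 0 n2660 = n2660 := d3_1 D2660 (iv D2660) F9233
theorem F12943 : act 1 n2660 = n1852 := d11_1 D2660 (iv D1852) D1851
theorem F12944 : act 2 n2660 = n2660 := d18_1 D2660 (iv D2660) F9234
theorem F12945 : act 6 n2660 = n1860 := d31_2 (iv F9237) D2660 (iv D1860)
theorem F12946 : act 7 n2660 = n2660 := d32_2 F9238 D2660 (iv D2660)
theorem F12947 : act 8 n2660 = n2660 := d33_2 F9239 D2660 (iv D2660)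
def n2661 : Q := act 9 n1851
theorem D2661 : act 9 n1851 = n2661 := rfl
theorem F12949 : act 1 n2661 = n1853 := d16_1 D2661 (iv D1853) D1851
theorem F12951 : act 3 n2661 = n2661 := d29_1 D2661 (iv D2661) F9235
def n2662 : Q := act 3 n1852
theorem D2662 : act 3 n1852 = n2662 := rfl
theorem F12955 : act 2 n2662 = n2662 := d17_1 D2662 (iv D2662) F9240 F6602 (iv F9240)
theorem F12956 : act 4 n2662 = n2662 := d24_2 D1852 D2662 (iv D2662) (iv D1852) F6596
theorem F12957 : act 6 n2662 = n1862 := d26_2 (iv F9241) D2662 (iv D1862)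
theorem F12958 : act 7 n2662 = n2662 := d27_2 F9242 D2662 (iv D2662)
def n2663 : Q := act 5 n1852
theorem D2663 : act 5 n1852 = n2663 := rfl
theorem F12959 : act 2 n2663 = n1854 := d19_1 D2663 (iv D1854) (iv F9240)
theorem F12960 : act 4 n2663 = n2663 := d30_1 D2663 (iv D2663) (iv D1852) F6597 D1852
theorem F12961 : act 6 n2663 = n2663 := d35_2 (iv F9241) D2663 (iv D2663) F9241 F6630
theorem F12962 : act 7 n2663 = n2663 := d36_2 F9242 D2663 (iv D2663)
theorem F12963 : act 8 n2663 = n2663 := d37_2 F9243 D2663 (iv D2663)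
def n2664 : Q := act 9 n1852
theorem D2664 : act 9 n1852 = n2664 := rfl
theorem F12964 : act 2 n2664 = n1855 := d23_1 D2664 (iv D1855) (iv F9240)
theorem F12965 : act 4 n2664 = n1853 := d34_1 D2664 (iv D1853) D1852
theorem F12966 : act 6 n2664 = n1863 := d41_1 D2664 (iv D1863) (iv F9241)
theorem F12967 : act 7 n2664 = n2664 := d43_1 D2664 (iv D2664) F9242
def n2665 : Q := act 8 n1853
theorem D2665 : act 8 n1853 = n2665 := rfl
theorem F12968 : act 2 n2665 = n1856 := d22_1 D2665 (iv D1856) (iv F9244)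
def n2666 : Q := act 9 n1854
theorem D2666 : act 9 n1854 = n2666 := rfl
theorem F12973 : act 1 n2666 = n2666 := d16_1 D2666 (iv D2666) F9249
theorem F12974 : act 3 n2666 = n2666 := d29_1 D2666 (iv D2666) F9250
theorem F12975 : act 4 n2666 = n2666 := d34_1 D2666 (iv D2666) F9251
theorem F12976 : act 5 n2666 = n1855 := d38_1 D2666 (iv D1855) D1854
theorem F12977 : act 6 n2666 = n2666 := d41_1 D2666 (iv D2666) F9252
theorem F12978 : act 7 n2666 = n2666 := d43_1 D2666 (iv D2666) F9253
def n2667 : Q := act 8 n1855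
theorem D2667 : act 8 n1855 = n2667 := rfl
theorem F12979 : act 1 n2667 = n2667 := d15_1 D2667 (iv D2667) F9255
theorem F12980 : act 4 n2667 = n1856 := d33_1 D2667 (iv D1856) (iv F9257)
theorem F12981 : act 6 n2667 = n1865 := d40_1 D2667 (iv D1865) (iv F9258)
theorem F12982 : act 7 n2667 = n2667 := d42_1 D2667 (iv D2667) F9259
theorem F12983 : act 9 n2667 = n2667 := d44_2 D1855 D2667 (iv D2667) (iv D1855) F6605
def n2668 : Q := act 3 n1856
theorem D2668 : act 3 n1856 = n2668 := rfl
theorem F12984 : act 1 n2668 = n2668 := d10_1 D2668 (iv D2668) F9260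
theorem F12985 : act 5 n2668 = n2668 := d25_2 F9261 D2668 (iv D2668)
theorem F12986 : act 6 n2668 = n1866 := d26_2 (iv F9262) D2668 (iv D1866)
theorem F12987 : act 7 n2668 = n2668 := d27_2 F9263 D2668 (iv D2668)
theorem F12988 : act 8 n2668 = n1857 := d28_2 D1856 D2668 (iv D1857) (iv D1293) (iv F6607)
theorem F12989 : act 9 n2668 = n2668 := d29_2 F9264 D2668 (iv D2668)
def n2669 : Q := act 2 n1857
theorem D2669 : act 2 n1857 = n2669 := rfl
theorem F12990 : act 3 n2669 = n2669 := d17_2 D1857 D2669 (iv D2669) (iv D1857) F6612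
theorem F12991 : act 5 n2669 = n2669 := d19_2 F9266 D2669 (iv D2669)
theorem F12992 : act 6 n2669 = n1867 := d20_2 (iv F9267) D2669 (iv D1867)
theorem F12993 : act 7 n2669 = n2669 := d21_2 F9268 D2669 (iv D2669)
theorem F12994 : act 9 n2669 = n1858 := d23_2 (iv F9269) D2669 (iv D1858)
def n2670 : Q := act 4 n1857
theorem D2670 : act 4 n1857 = n2670 := rfl
theorem F12995 : act 1 n2670 = n2670 := d11_1 D2670 (iv D2670) F9265
theorem F12996 : act 3 n2670 = n2670 := d24_1 D2670 (iv D2670) (iv D1857) F6613 D1857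
theorem F12997 : act 6 n2670 = n1868 := d31_2 (iv F9267) D2670 (iv D1868)
theorem F12998 : act 7 n2670 = n2670 := d32_2 F9268 D2670 (iv D2670)
theorem F12999 : act 9 n2670 = n1859 := d34_2 (iv F9269) D2670 (iv D1859)
def n2671 : Q := act 1 n1858
theorem D2671 : act 1 n1858 = n2671 := rfl
theorem F13000 : act 2 n2671 = n2671 := d9_2 D1858 D2671 (iv D2671) (iv D1858) F6618
theorem F13001 : act 3 n2671 = n2671 := d10_2 F9270 D2671 (iv D2671)
theorem F13002 : act 5 n2671 = n2671 := d12_2 F9271 D2671 (iv D2671)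
theorem F13003 : act 6 n2671 = n1869 := d13_2 (iv F9272) D2671 (iv D1869)
theorem F13004 : act 7 n2671 = n2671 := d14_2 F9273 D2671 (iv D2671)
theorem F13005 : act 8 n2671 = n2671 := d15_2 F9274 D2671 (iv D2671)
def n2672 : Q := act 4 n1858
theorem D2672 : act 4 n1858 = n2672 := rfl
theorem F13006 : act 2 n2672 = n1859 := d18_1 D2672 (iv D1859) D1858
theorem F13007 : act 6 n2672 = n1870 := d31_2 (iv F9272) D2672 (iv D1870)
theorem F13008 : act 7 n2672 = n2672 := d32_2 F9273 D2672 (iv D2672)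
theorem F13009 : act 8 n2672 = n2672 := d33_2 F9274 D2672 (iv D2672)
def n2673 : Q := act 5 n1859
theorem D2673 : act 5 n1859 = n2673 := rfl
theorem F13010 : act 1 n2673 = n2673 := d12_1 D2673 (iv D2673) F9275
theorem F13011 : act 3 n2673 = n2673 := d25_1 D2673 (iv D2673) F9276
theorem F13012 : act 4 n2673 = n2673 := d30_1 D2673 (iv D2673) (iv D1859) F6619 D1859
theorem F13013 : act 7 n2673 = n2673 := d36_2 F9278 D2673 (iv D2673)
theorem F13014 : act 8 n2673 = n2673 := d37_2 F9279 D2673 (iv D2673)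
def n2674 : Q := act 3 n1860
theorem D2674 : act 3 n1860 = n2674 := rfl
theorem F13015 : act 0 n2674 = n2674 := d2_1 D2674 (iv D2674) F9280
theorem F13016 : act 1 n2674 = n1862 := d10_1 D2674 (iv D1862) (iv F9281)
theorem F13017 : act 4 n2674 = n2674 := d24_2 D1860 D2674 (iv D2674) (iv D1860) F6625
theorem F13018 : act 5 n2674 = n2674 := d25_2 F9283 D2674 (iv D2674)
theorem F13019 : act 7 n2674 = n1872 := d27_2 (iv F9284) D2674 (iv D1872)
def n2675 : Q := act 9 n1860
theorem D2675 : act 9 n1860 = n2675 := rfl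
theorem F13021 : act 1 n2675 = n1863 := d16_1 D2675 (iv D1863) (iv F9281)
theorem F13023 : act 4 n2675 = n1861 := d34_1 D2675 (iv D1861) D1860
def n2676 : Q := act 8 n1861
theorem D2676 : act 8 n1861 = n2676 := rfl
theorem F13029 : act 5 n2676 = n1890 := d37_1 D2676 (iv D1890) (iv F9290)
def n2677 : Q := act 8 n1862
theorem D2677 : act 8 n1862 = n2677 := rfl
theorem F13032 : act 2 n2677 = n2677 := d22_1 D2677 (iv D2677) F9292
theorem F13033 : act 3 n2677 = n2677 := d28_1 D2677 (iv D2677) (iv D1862) F6632 D1862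
theorem F13034 : act 4 n2677 = n2677 := d33_1 D2677 (iv D2677) F9293
theorem F13035 : act 5 n2677 = n2677 := d37_1 D2677 (iv D2677) F9294
theorem F13036 : act 7 n2677 = n1875 := d42_1 D2677 (iv D1875) (iv F9295)
def n2678 : Q := act 9 n1862
theorem D2678 : act 9 n1862 = n2678 := rfl
theorem F13037 : act 2 n2678 = n2678 := d23_1 D2678 (iv D2678) F9292
theorem F13038 : act 3 n2678 = n1863 := d29_1 D2678 (iv D1863) D1862
theorem F13039 : act 4 n2678 = n2678 := d34_1 D2678 (iv D2678) F9293
theorem F13040 : act 5 n2678 = n2678 := d38_1 D2678 (iv D2678) F9294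
theorem F13041 : act 7 n2678 = n1876 := d43_1 D2678 (iv D1876) (iv F9295)
def n2679 : Q := act 8 n1863
theorem D2679 : act 8 n1863 = n2679 := rfl
theorem F13042 : act 2 n2679 = n1865 := d22_1 D2679 (iv D1865) (iv F9296)
theorem F13043 : act 4 n2679 = n1864 := d33_1 D2679 (iv D1864) (iv F9297)
def n2680 : Q := act 3 n1864
theorem D2680 : act 3 n1864 = n2680 := rfl
theorem F13047 : act 5 n2680 = n1891 := d25_2 (iv F9301) D2680 (iv D1891)
def n2681 : Q := act 3 n1865
theorem D2681 : act 3 n1865 = n2681 := rfl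
theorem F13051 : act 1 n2681 = n2681 := d10_1 D2681 (iv D2681) F9304
theorem F13052 : act 5 n2681 = n2681 := d25_2 F9306 D2681 (iv D2681)
theorem F13053 : act 7 n2681 = n1879 := d27_2 (iv F9307) D2681 (iv D1879)
theorem F13054 : act 8 n2681 = n2681 := d28_2 D1865 D2681 (iv D2681) (iv D1865) F6638
theorem F13055 : act 9 n2681 = n2681 := d29_2 F9308 D2681 (iv D2681)
def n2682 : Q := act 2 n1866
theorem D2682 : act 2 n1866 = n2682 := rfl
theorem F13056 : act 5 n2682 = n1892 := d19_2 (iv F9310) D2682 (iv D1892)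
theorem F13057 : act 7 n2682 = n1880 := d21_2 (iv F9311) D2682 (iv D1880)
theorem F13058 : act 8 n2682 = n1867 := d22_2 (iv F9312) D2682 (iv D1867)
def n2683 : Q := act 4 n1866
theorem D2683 : act 4 n1866 = n2683 := rfl
theorem F13060 : act 1 n2683 = n2683 := d11_1 D2683 (iv D2683) F9309
theorem F13061 : act 7 n2683 = n1881 := d32_2 (iv F9311) D2683 (iv D1881)
theorem F13062 : act 8 n2683 = n1868 := d33_2 (iv F9312) D2683 (iv D1868)
theorem F13063 : act 9 n2683 = n2683 := d34_2 F9313 D2683 (iv D2683)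
def n2684 : Q := act 1 n1867
theorem D2684 : act 1 n1867 = n2684 := rfl
theorem F13066 : act 5 n2684 = n1894 := d12_2 (iv F9315) D2684 (iv D1894)
theorem F13068 : act 9 n2684 = n1869 := d16_2 (iv F9317) D2684 (iv D1869)
def n2685 : Q := act 4 n1867
theorem D2685 : act 4 n1867 = n2685 := rfl
theorem F13069 : act 2 n2685 = n1868 := d18_1 D2685 (iv D1868) D1867
theorem F13070 : act 7 n2685 = n1883 := d32_2 (iv F9316) D2685 (iv D1883)
theorem F13071 : act 9 n2685 = n1870 := d34_2 (iv F9317) D2685 (iv D1870)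
def n2686 : Q := act 5 n1868
theorem D2686 : act 5 n1868 = n2686 := rfl
theorem F13072 : act 1 n2686 = n2686 := d12_1 D2686 (iv D2686) F9318
theorem F13073 : act 3 n2686 = n2686 := d25_1 D2686 (iv D2686) F9319
theorem F13074 : act 4 n2686 = n1896 := d30_1 D2686 (iv D1896) (iv D1319) (iv F6647) D1868
theorem F13075 : act 7 n2686 = n1884 := d36_2 (iv F9320) D2686 (iv D1884)
theorem F13076 : act 9 n2686 = n1871 := d38_2 (iv F9321) D2686 (iv D1871)
def n2687 : Q := act 0 n1869
theorem D2687 : act 0 n1869 = n2687 := rfl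
theorem F13079 : act 5 n2687 = n1897 := d4_2 (iv F9324) D2687 (iv D1897)
theorem F13080 : act 7 n2687 = n1885 := d6_2 (iv F9325) D2687 (iv D1885)
def n2688 : Q := act 4 n1869
theorem D2688 : act 4 n1869 = n2688 := rfl
theorem F13082 : act 1 n2688 = n1870 := d11_1 D2688 (iv D1870) D1869
theorem F13083 : act 2 n2688 = n2688 := d18_1 D2688 (iv D2688) F9322
theorem F13084 : act 7 n2688 = n1886 := d32_2 (iv F9325) D2688 (iv D1886)
theorem F13085 : act 8 n2688 = n2688 := d33_2 F9326 D2688 (iv D2688)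
def n2689 : Q := act 3 n1870
theorem D2689 : act 3 n1870 = n2689 := rfl
theorem F13086 : act 2 n2689 = n2689 := d17_1 D2689 (iv D2689) F9327 F6655 (iv F9327)
theorem F13087 : act 4 n2689 = n2689 := d24_2 D1870 D2689 (iv D2689) (iv D1870) F6650
theorem F13088 : act 7 n2689 = n1887 := d27_2 (iv F9328) D2689 (iv D1887)
def n2690 : Q := act 5 n1870
theorem D2690 : act 5 n1870 = n2690 := rfl
theorem F13089 : act 2 n2690 = n1871 := d19_1 D2690 (iv D1871) (iv F9327)
theorem F13090 : act 4 n2690 = n1900 := d30_1 D2690 (iv D1900) (iv D1321) (iv F6651) D1870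
theorem F13091 : act 7 n2690 = n1888 := d36_2 (iv F9328) D2690 (iv D1888)
theorem F13092 : act 8 n2690 = n2690 := d37_2 F9329 D2690 (iv D2690)
def n2691 : Q := act 6 n1871
theorem D2691 : act 6 n1871 = n2691 := rfl
theorem F13093 : act 1 n2691 = n2691 := d13_1 D2691 (iv D2691) F9330
theorem F13094 : act 3 n2691 = n2691 := d26_1 D2691 (iv D2691) F9331
theorem F13095 : act 4 n2691 = n1901 := d31_1 D2691 (iv D1901) (iv F9332)
theorem F13096 : act 8 n2691 = n2691 := d40_2 F9334 D2691 (iv D2691)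
def n2692 : Q := act 2 n1872
theorem D2692 : act 2 n1872 = n2692 := rfl
theorem F13097 : act 0 n2692 = n2692 := d1_1 D2692 (iv D2692) F9335
theorem F13098 : act 1 n2692 = n2692 := d9_1 D2692 (iv D2692) F9336 F6670 (iv F9336)
theorem F13099 : act 3 n2692 = n2692 := d17_2 D1872 D2692 (iv D2692) (iv D1872) F6660
theorem F13100 : act 4 n2692 = n2692 := d18_2 F9337 D2692 (iv D2692)
theorem F13101 : act 5 n2692 = n2692 := d19_2 F9338 D2692 (iv D2692)
theorem F13102 : act 6 n2692 = n2692 := d20_2 F9339 D2692 (iv D2692)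
def n2693 : Q := act 8 n1872
theorem D2693 : act 8 n1872 = n2693 := rfl
theorem F13103 : act 0 n2693 = n2693 := d7_1 D2693 (iv D2693) F9335
theorem F13104 : act 1 n2693 = n1875 := d15_1 D2693 (iv D1875) (iv F9336)
theorem F13105 : act 3 n2693 = n2693 := d28_1 D2693 (iv D2693) (iv D1872) F6663 D1872
theorem F13106 : act 4 n2693 = n2693 := d33_1 D2693 (iv D2693) F9337
theorem F13107 : act 5 n2693 = n2693 := d37_1 D2693 (iv D2693) F9338
theorem F13108 : act 6 n2693 = n2693 := d40_1 D2693 (iv D2693) F9339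
def n2694 : Q := act 9 n1872
theorem D2694 : act 9 n1872 = n2694 := rfl
theorem F13110 : act 1 n2694 = n1876 := d16_1 D2694 (iv D1876) (iv F9336)
theorem F13111 : act 3 n2694 = n1873 := d29_1 D2694 (iv D1873) D1872
def n2695 : Q := act 8 n1873
theorem D2695 : act 8 n1873 = n2695 := rfl
theorem F13118 : act 4 n2695 = n1874 := d33_1 D2695 (iv D1874) (iv F9343)
def n2696 : Q := act 3 n1874
theorem D2696 : act 3 n1874 = n2696 := rfl
theorem F13124 : act 5 n2696 = n1902 := d25_2 (iv F9349) D2696 (iv D1902)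
def n2697 : Q := act 9 n1875
theorem D2697 : act 9 n1875 = n2697 := rfl
def n2698 : Q := act 8 n1876
theorem D2698 : act 8 n1876 = n2698 := rfl
def n2699 : Q := act 3 n1877
theorem D2699 : act 3 n1877 = n2699 := rfl
def n2701 : Q := act 4 n1878
theorem D2701 : act 4 n1878 = n2701 := rfl
def n2702 : Q := act 2 n1879
theorem D2702 : act 2 n1879 = n2702 := rfl
def n2703 : Q := act 4 n1879
theorem D2703 : act 4 n1879 = n2703 := rfl
theorem F13152 : act 1 n2703 = n2703 := d11_1 D2703 (iv D2703) F9371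
theorem F13153 : act 3 n2703 = n1881 := d24_1 D2703 (iv D1881) (iv D1309) (iv F6683) D1879
theorem F13154 : act 6 n2703 = n2703 := d31_2 F9373 D2703 (iv D2703)
theorem F13155 : act 8 n2703 = n2703 := d33_2 F9374 D2703 (iv D2703)
theorem F13156 : act 9 n2703 = n2703 := d34_2 F9375 D2703 (iv D2703)
def n2704 : Q := act 1 n1880
theorem D2704 : act 1 n1880 = n2704 := rfl
theorem F13160 : act 8 n2704 = n1882 := d15_2 (iv F9378) D2704 (iv D1882)
def n2705 : Q := act 4 n1880
theorem D2705 : act 4 n1880 = n2705 := rfl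
theorem F13162 : act 2 n2705 = n1881 := d18_1 D2705 (iv D1881) D1880
theorem F13164 : act 8 n2705 = n1883 := d33_2 (iv F9378) D2705 (iv D1883)
def n2706 : Q := act 5 n1881
theorem D2706 : act 5 n1881 = n2706 := rfl
theorem F13166 : act 1 n2706 = n2706 := d12_1 D2706 (iv D2706) F9380
theorem F13167 : act 4 n2706 = n1907 := d30_1 D2706 (iv D1907) (iv D1326) (iv F6688) D1881
theorem F13168 : act 8 n2706 = n1884 := d37_2 (iv F9382) D2706 (iv D1884)
theorem F13169 : act 9 n2706 = n2706 := d38_2 F9383 D2706 (iv D2706)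
def n2708 : Q := act 4 n1882
theorem D2708 : act 4 n1882 = n2708 := rfl
theorem F13175 : act 1 n2708 = n1883 := d11_1 D2708 (iv D1883) D1882
theorem F13178 : act 9 n2708 = n1886 := d34_2 (iv F9388) D2708 (iv D1886)
def n2709 : Q := act 3 n1883
theorem D2709 : act 3 n1883 = n2709 := rfl
theorem F13179 : act 2 n2709 = n2709 := d17_1 D2709 (iv D2709) F9389 F6697 (iv F9389)
theorem F13180 : act 4 n2709 = n2709 := d24_2 D1883 D2709 (iv D2709) (iv D1883) F6692
theorem F13181 : act 6 n2709 = n2709 := d26_2 F9390 D2709 (iv D2709)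
theorem F13182 : act 9 n2709 = n1887 := d29_2 (iv F9391) D2709 (iv D1887)
def n2710 : Q := act 5 n1883
theorem D2710 : act 5 n1883 = n2710 := rfl
theorem F13183 : act 2 n2710 = n1884 := d19_1 D2710 (iv D1884) (iv F9389)
theorem F13184 : act 4 n2710 = n1911 := d30_1 D2710 (iv D1911) (iv D1328) (iv F6693) D1883
theorem F13185 : act 9 n2710 = n1888 := d38_2 (iv F9391) D2710 (iv D1888)
def n2711 : Q := act 6 n1884
theorem D2711 : act 6 n1884 = n2711 := rfl
theorem F13186 : act 1 n2711 = n2711 := d13_1 D2711 (iv D2711) F9392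
theorem F13187 : act 3 n2711 = n2711 := d26_1 D2711 (iv D2711) F9393
theorem F13188 : act 4 n2711 = n1912 := d31_1 D2711 (iv D1912) (iv F9394)
theorem F13189 : act 5 n2711 = n2711 := d35_1 D2711 (iv D2711) (iv D1884) F6698 D1884
theorem F13190 : act 9 n2711 = n1889 := d41_2 (iv F9395) D2711 (iv D1889)
def n2712 : Q := act 4 n1885
theorem D2712 : act 4 n1885 = n2712 := rfl
theorem F13191 : act 0 n2712 = n1886 := d3_1 D2712 (iv D1886) D1885
def n2713 : Q := act 3 n1886
theorem D2713 : act 3 n1886 = n2713 := rfl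
theorem F13195 : act 1 n2713 = n1887 := d10_1 D2713 (iv D1887) (iv F9401)
theorem F13196 : act 4 n2713 = n2713 := d24_2 D1886 D2713 (iv D2713) (iv D1886) F6701
theorem F13197 : act 6 n2713 = n2713 := d26_2 F9403 D2713 (iv D2713)
def n2714 : Q := act 5 n1886
theorem D2714 : act 5 n1886 = n2714 := rfl
theorem F13198 : act 1 n2714 = n1888 := d12_1 D2714 (iv D1888) (iv F9401)
theorem F13199 : act 2 n2714 = n2714 := d19_1 D2714 (iv D2714) F9402
theorem F13200 : act 4 n2714 = n1915 := d30_1 D2714 (iv D1915) (iv D1331) (iv F6702) D1886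
theorem F13201 : act 8 n2714 = n2714 := d37_2 F9404 D2714 (iv D2714)
def n2715 : Q := act 5 n1887
theorem D2715 : act 5 n1887 = n2715 := rfl
theorem F13202 : act 2 n2715 = n2715 := d19_1 D2715 (iv D2715) F9405
theorem F13203 : act 3 n2715 = n1888 := d25_1 D2715 (iv D1888) D1887
def n2716 : Q := act 8 n1887
theorem D2716 : act 8 n1887 = n2716 := rfl
theorem F13204 : act 2 n2716 = n2716 := d22_1 D2716 (iv D2716) F9405
theorem F13205 : act 3 n2716 = n2716 := d28_1 D2716 (iv D2716) (iv D1887) F6707 D1887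
theorem F13206 : act 4 n2716 = n2716 := d33_1 D2716 (iv D2716) F9406
theorem F13207 : act 6 n2716 = n2716 := d40_1 D2716 (iv D2716) F9407
def n2717 : Q := act 6 n1888
theorem D2717 : act 6 n1888 = n2717 := rfl
theorem F13208 : act 2 n2717 = n1889 := d20_1 D2717 (iv D1889) (iv F9408)
theorem F13209 : act 4 n2717 = n1918 := d31_1 D2717 (iv D1918) (iv F9409)
theorem F13210 : act 5 n2717 = n2717 := d35_1 D2717 (iv D2717) (iv D1888) F6706 D1888
theorem F13211 : act 8 n2717 = n2717 := d40_2 F9410 D2717 (iv D2717)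
def n2718 : Q := act 7 n1889
theorem D2718 : act 7 n1889 = n2718 := rfl
theorem F13212 : act 1 n2718 = n2718 := d14_1 D2718 (iv D2718) F9411
theorem F13213 : act 3 n2718 = n2718 := d27_1 D2718 (iv D2718) F9412
theorem F13214 : act 4 n2718 = n1919 := d32_1 D2718 (iv D1919) (iv F9413)
theorem F13215 : act 5 n2718 = n2718 := d36_1 D2718 (iv D2718) F9414
theorem F13216 : act 8 n2718 = n2718 := d42_2 F9415 D2718 (iv D2718)
def n2719 : Q := act 3 n1890
theorem D2719 : act 3 n1890 = n2719 := rfl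
theorem F13218 : act 1 n2719 = n1891 := d10_1 D2719 (iv D1891) (iv F9417)
def n2720 : Q := act 2 n1891
theorem D2720 : act 2 n1891 = n2720 := rfl
theorem F13223 : act 3 n2720 = n1892 := d17_2 D1891 D2720 (iv D1892) (iv D1317) (iv F6719)
theorem F13225 : act 7 n2720 = n1903 := d21_2 (iv F9424) D2720 (iv D1903)
def n2721 : Q := act 4 n1891
theorem D2721 : act 4 n1891 = n2721 := rfl
def n2722 : Q := act 1 n1892
theorem D2722 : act 1 n1892 = n2722 := rfl
theorem F13235 : act 7 n2722 = n1905 := d14_2 (iv F9428) D2722 (iv D1905)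
theorem F13236 : act 8 n2722 = n1894 := d15_2 (iv F9429) D2722 (iv D1894)
def n2723 : Q := act 4 n1892
theorem D2723 : act 4 n1892 = n2723 := rfl
theorem F13238 : act 2 n2723 = n1893 := d18_1 D2723 (iv D1893) D1892
theorem F13240 : act 7 n2723 = n1906 := d32_2 (iv F9428) D2723 (iv D1906)
theorem F13241 : act 8 n2723 = n1895 := d33_2 (iv F9429) D2723 (iv D1895)
def n2724 : Q := act 5 n1893
theorem D2724 : act 5 n1893 = n2724 := rfl
theorem F13243 : act 1 n2724 = n2724 := d12_1 D2724 (iv D2724) F9431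
theorem F13244 : act 3 n2724 = n2724 := d25_1 D2724 (iv D2724) F9432
theorem F13245 : act 7 n2724 = n1907 := d36_2 (iv F9434) D2724 (iv D1907)
theorem F13246 : act 8 n2724 = n1896 := d37_2 (iv F9435) D2724 (iv D1896)
theorem F13247 : act 9 n2724 = n2724 := d38_2 F9436 D2724 (iv D2724)
def n2725 : Q := act 0 n1894
theorem D2725 : act 0 n1894 = n2725 := rfl
theorem F13251 : act 7 n2725 = n1908 := d6_2 (iv F9440) D2725 (iv D1908)
theorem F13252 : act 9 n2725 = n1897 := d8_2 (iv F9441) D2725 (iv D1897)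
def n2726 : Q := act 4 n1894
theorem D2726 : act 4 n1894 = n2726 := rfl
theorem F13253 : act 1 n2726 = n1895 := d11_1 D2726 (iv D1895) D1894
theorem F13256 : act 7 n2726 = n1909 := d32_2 (iv F9440) D2726 (iv D1909)
theorem F13257 : act 9 n2726 = n1898 := d34_2 (iv F9441) D2726 (iv D1898)
def n2727 : Q := act 3 n1895
theorem D2727 : act 3 n1895 = n2727 := rfl
theorem F13258 : act 2 n2727 = n1950 := d17_1 D2727 (iv D1950) F6880 (iv F6734) (iv F9442)
theorem F13259 : act 4 n2727 = n2727 := d24_2 D1895 D2727 (iv D2727) (iv D1895) F6729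
theorem F13260 : act 6 n2727 = n2727 := d26_2 F9443 D2727 (iv D2727)
theorem F13261 : act 7 n2727 = n1910 := d27_2 (iv F9444) D2727 (iv D1910)
theorem F13262 : act 9 n2727 = n1899 := d29_2 (iv F9445) D2727 (iv D1899)
def n2728 : Q := act 5 n1895
theorem D2728 : act 5 n1895 = n2728 := rfl
theorem F13263 : act 2 n2728 = n1896 := d19_1 D2728 (iv D1896) (iv F9442)
theorem F13264 : act 7 n2728 = n1911 := d36_2 (iv F9444) D2728 (iv D1911)
theorem F13265 : act 9 n2728 = n1900 := d38_2 (iv F9445) D2728 (iv D1900)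
def n2729 : Q := act 6 n1896
theorem D2729 : act 6 n1896 = n2729 := rfl
theorem F13266 : act 1 n2729 = n2729 := d13_1 D2729 (iv D2729) F9446
theorem F13267 : act 3 n2729 = n1952 := d26_1 D2729 (iv D1952) (iv F9447)
theorem F13268 : act 5 n2729 = n2729 := d35_1 D2729 (iv D2729) (iv D1896) F6735 D1896
theorem F13269 : act 9 n2729 = n1901 := d41_2 (iv F9449) D2729 (iv D1901)
def n2730 : Q := act 4 n1897
theorem D2730 : act 4 n1897 = n2730 := rfl
theorem F13270 : act 0 n2730 = n1898 := d3_1 D2730 (iv D1898) D1897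
theorem F13273 : act 7 n2730 = n1913 := d32_2 (iv F9453) D2730 (iv D1913)
def n2731 : Q := act 3 n1898
theorem D2731 : act 3 n1898 = n2731 := rfl
theorem F13275 : act 1 n2731 = n1899 := d10_1 D2731 (iv D1899) (iv F9455)
theorem F13276 : act 4 n2731 = n2731 := d24_2 D1898 D2731 (iv D2731) (iv D1898) F6739
theorem F13277 : act 6 n2731 = n2731 := d26_2 F9457 D2731 (iv D2731)
theorem F13278 : act 7 n2731 = n1914 := d27_2 (iv F9458) D2731 (iv D1914)
def n2732 : Q := act 5 n1898
theorem D2732 : act 5 n1898 = n2732 := rfl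
theorem F13279 : act 1 n2732 = n1900 := d12_1 D2732 (iv D1900) (iv F9455)
theorem F13280 : act 2 n2732 = n2732 := d19_1 D2732 (iv D2732) F9456
theorem F13281 : act 7 n2732 = n1915 := d36_2 (iv F9458) D2732 (iv D1915)
theorem F13282 : act 8 n2732 = n2732 := d37_2 F9459 D2732 (iv D2732)
def n2733 : Q := act 5 n1899
theorem D2733 : act 5 n1899 = n2733 := rfl
theorem F13283 : act 2 n2733 = n1956 := d19_1 D2733 (iv D1956) (iv F9460)
theorem F13284 : act 3 n2733 = n1900 := d25_1 D2733 (iv D1900) D1899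
theorem F13285 : act 7 n2733 = n1916 := d36_2 (iv F9463) D2733 (iv D1916)
def n2734 : Q := act 8 n1899
theorem D2734 : act 8 n1899 = n2734 := rfl
theorem F13286 : act 2 n2734 = n1957 := d22_1 D2734 (iv D1957) (iv F9460)
theorem F13287 : act 3 n2734 = n2734 := d28_1 D2734 (iv D2734) (iv D1899) F6746 D1899
theorem F13288 : act 4 n2734 = n2734 := d33_1 D2734 (iv D2734) F9461
theorem F13289 : act 6 n2734 = n2734 := d40_1 D2734 (iv D2734) F9462
theorem F13290 : act 7 n2734 = n1917 := d42_1 D2734 (iv D1917) (iv F9463)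
def n2735 : Q := act 6 n1900
theorem D2735 : act 6 n1900 = n2735 := rfl
theorem F13291 : act 2 n2735 = n1901 := d20_1 D2735 (iv D1901) (iv F9464)
theorem F13292 : act 5 n2735 = n2735 := d35_1 D2735 (iv D2735) (iv D1900) F6744 D1900
theorem F13293 : act 8 n2735 = n2735 := d40_2 F9466 D2735 (iv D2735)
def n2736 : Q := act 7 n1901
theorem D2736 : act 7 n1901 = n2736 := rfl
theorem F13294 : act 1 n2736 = n2736 := d14_1 D2736 (iv D2736) F9467
theorem F13295 : act 3 n2736 = n1959 := d27_1 D2736 (iv D1959) (iv F9468)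
theorem F13296 : act 5 n2736 = n2736 := d36_1 D2736 (iv D2736) F9469
theorem F13297 : act 6 n2736 = n1919 := d39_1 D2736 (iv D1919) (iv D1334) (iv F6749) D1901
theorem F13298 : act 8 n2736 = n2736 := d42_2 F9470 D2736 (iv D2736)
def n2738 : Q := act 4 n1902
theorem D2738 : act 4 n1902 = n2738 := rfl
theorem F13305 : act 1 n2738 = n1904 := d11_1 D2738 (iv D1904) (iv F9472)
def n2739 : Q := act 1 n1903
theorem D2739 : act 1 n1903 = n2739 := rfl
theorem F13310 : act 3 n2739 = n1905 := d10_2 (iv F9476) D2739 (iv D1905)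
theorem F13311 : act 6 n2739 = n1922 := d13_2 (iv F9477) D2739 (iv D1922)
def n2740 : Q := act 4 n1903
theorem D2740 : act 4 n1903 = n2740 := rfl
theorem F13314 : act 2 n2740 = n1904 := d18_1 D2740 (iv D1904) D1903
theorem F13315 : act 6 n2740 = n1923 := d31_2 (iv F9477) D2740 (iv D1923)
def n2741 : Q := act 5 n1904
theorem D2741 : act 5 n1904 = n2741 := rfl
def n2742 : Q := act 0 n1905
theorem D2742 : act 0 n1905 = n2742 := rfl
theorem F13322 : act 6 n2742 = n1925 := d5_2 (iv F9485) D2742 (iv D1925)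
theorem F13323 : act 8 n2742 = n1908 := d7_2 (iv F9486) D2742 (iv D1908)
def n2743 : Q := act 4 n1905
theorem D2743 : act 4 n1905 = n2743 := rfl
theorem F13327 : act 6 n2743 = n1926 := d31_2 (iv F9485) D2743 (iv D1926)
theorem F13328 : act 8 n2743 = n1909 := d33_2 (iv F9486) D2743 (iv D1909)
def n2744 : Q := act 3 n1906
theorem D2744 : act 3 n1906 = n2744 := rfl
theorem F13331 : act 6 n2744 = n1927 := d26_2 (iv F9489) D2744 (iv D1927)
def n2745 : Q := act 5 n1906
theorem D2745 : act 5 n1906 = n2745 := rfl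
theorem F13333 : act 2 n2745 = n1907 := d19_1 D2745 (iv D1907) (iv F9488)
theorem F13334 : act 8 n2745 = n1911 := d37_2 (iv F9490) D2745 (iv D1911)
def n2746 : Q := act 6 n1907
theorem D2746 : act 6 n1907 = n2746 := rfl
theorem F13336 : act 1 n2746 = n2746 := d13_1 D2746 (iv D2746) F9492
theorem F13337 : act 3 n2746 = n2746 := d26_1 D2746 (iv D2746) F9493
theorem F13338 : act 5 n2746 = n1929 := d35_1 D2746 (iv D1929) (iv D1340) (iv F6765) D1907
theorem F13339 : act 8 n2746 = n1912 := d40_2 (iv F9494) D2746 (iv D1912)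
theorem F13340 : act 9 n2746 = n2746 := d41_2 F9495 D2746 (iv D2746)
def n2747 : Q := act 4 n1908
theorem D2747 : act 4 n1908 = n2747 := rfl
theorem F13343 : act 6 n2747 = n1930 := d31_2 (iv F9498) D2747 (iv D1930)
theorem F13344 : act 9 n2747 = n1913 := d34_2 (iv F9499) D2747 (iv D1913)
def n2748 : Q := act 3 n1909
theorem D2748 : act 3 n1909 = n2748 := rfl
theorem F13345 : act 1 n2748 = n1910 := d10_1 D2748 (iv D1910) (iv F9500)
theorem F13347 : act 6 n2748 = n1931 := d26_2 (iv F9502) D2748 (iv D1931)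
theorem F13348 : act 9 n2748 = n1914 := d29_2 (iv F9503) D2748 (iv D1914)
def n2749 : Q := act 5 n1909
theorem D2749 : act 5 n1909 = n2749 := rfl
theorem F13349 : act 1 n2749 = n1911 := d12_1 D2749 (iv D1911) (iv F9500)
theorem F13351 : act 9 n2749 = n1915 := d38_2 (iv F9503) D2749 (iv D1915)
def n2750 : Q := act 5 n1910
theorem D2750 : act 5 n1910 = n2750 := rfl
theorem F13352 : act 2 n2750 = n1963 := d19_1 D2750 (iv D1963) (iv F9504)
theorem F13353 : act 3 n2750 = n1911 := d25_1 D2750 (iv D1911) D1910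
theorem F13354 : act 9 n2750 = n1916 := d38_2 (iv F9507) D2750 (iv D1916)
def n2751 : Q := act 8 n1910
theorem D2751 : act 8 n1910 = n2751 := rfl
theorem F13355 : act 2 n2751 = n1964 := d22_1 D2751 (iv D1964) (iv F9504)
def n2752 : Q := act 6 n1911
theorem D2752 : act 6 n1911 = n2752 := rfl
theorem F13358 : act 2 n2752 = n1912 := d20_1 D2752 (iv D1912) (iv F9508)
theorem F13359 : act 5 n2752 = n1935 := d35_1 D2752 (iv D1935) (iv D1344) (iv F6773) D1911
theorem F13360 : act 9 n2752 = n1918 := d41_2 (iv F9509) D2752 (iv D1918)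
def n2753 : Q := act 7 n1912
theorem D2753 : act 7 n1912 = n2753 := rfl
theorem F13361 : act 1 n2753 = n2753 := d14_1 D2753 (iv D2753) F9510
theorem F13362 : act 3 n2753 = n1966 := d27_1 D2753 (iv D1966) (iv F9511)
theorem F13363 : act 5 n2753 = n1936 := d36_1 D2753 (iv D1936) (iv F9512)
theorem F13364 : act 9 n2753 = n1919 := d43_2 (iv F9513) D2753 (iv D1919)
def n2754 : Q := act 3 n1913
theorem D2754 : act 3 n1913 = n2754 := rfl
theorem F13365 : act 0 n2754 = n1914 := d2_1 D2754 (iv D1914) (iv F9514)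
theorem F13367 : act 6 n2754 = n1937 := d26_2 (iv F9516) D2754 (iv D1937)
def n2755 : Q := act 5 n1913
theorem D2755 : act 5 n1913 = n2755 := rfl
theorem F13368 : act 0 n2755 = n1915 := d4_1 D2755 (iv D1915) (iv F9514)
def n2756 : Q := act 2 n1914
theorem D2756 : act 2 n1914 = n2756 := rfl
theorem F13371 : act 1 n2756 = n1969 := d9_1 D2756 (iv D1969) F6939 (iv F6786) (iv F9518)
theorem F13372 : act 3 n2756 = n2756 := d17_2 D1914 D2756 (iv D2756) (iv D1914) F6783
theorem F13373 : act 4 n2756 = n2756 := d18_2 F9519 D2756 (iv D2756)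
theorem F13374 : act 6 n2756 = n1939 := d20_2 (iv F9520) D2756 (iv D1939)
def n2757 : Q := act 5 n1914
theorem D2757 : act 5 n1914 = n2757 := rfl
theorem F13375 : act 1 n2757 = n1916 := d12_1 D2757 (iv D1916) (iv F9518)
theorem F13376 : act 3 n2757 = n1915 := d25_1 D2757 (iv D1915) D1914
def n2758 : Q := act 8 n1914
theorem D2758 : act 8 n1914 = n2758 := rfl
theorem F13377 : act 1 n2758 = n1917 := d15_1 D2758 (iv D1917) (iv F9518)
theorem F13378 : act 3 n2758 = n2758 := d28_1 D2758 (iv D2758) (iv D1914) F6785 D1914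
theorem F13379 : act 4 n2758 = n2758 := d33_1 D2758 (iv D2758) F9519
theorem F13380 : act 6 n2758 = n1941 := d40_1 D2758 (iv D1941) (iv F9520)
def n2759 : Q := act 6 n1915
theorem D2759 : act 6 n1915 = n2759 := rfl
theorem F13381 : act 1 n2759 = n1918 := d13_1 D2759 (iv D1918) (iv F9521)
theorem F13382 : act 2 n2759 = n2759 := d20_1 D2759 (iv D2759) F9522
theorem F13383 : act 5 n2759 = n1942 := d35_1 D2759 (iv D1942) (iv D1348) (iv F6784) D1915
theorem F13384 : act 8 n2759 = n2759 := d40_2 F9523 D2759 (iv D2759)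
def n2760 : Q := act 4 n1916
theorem D2760 : act 4 n1916 = n2760 := rfl
theorem F13385 : act 2 n2760 = n1973 := d18_1 D2760 (iv D1973) (iv F9524)
theorem F13386 : act 5 n2760 = n2760 := d30_2 D1916 D2760 (iv D2760) (iv D1916) F6787
def n2761 : Q := act 6 n1916
theorem D2761 : act 6 n1916 = n2761 := rfl
theorem F13387 : act 2 n2761 = n1974 := d20_1 D2761 (iv D1974) (iv F9524)
theorem F13388 : act 3 n2761 = n1918 := d26_1 D2761 (iv D1918) (iv F9525)
theorem F13389 : act 5 n2761 = n1944 := d35_1 D2761 (iv D1944) (iv D1349) (iv F6788) D1916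
def n2762 : Q := act 8 n1916
theorem D2762 : act 8 n1916 = n2762 := rfl
theorem F13390 : act 2 n2762 = n1975 := d22_1 D2762 (iv D1975) (iv F9524)
theorem F13391 : act 3 n2762 = n2762 := d28_1 D2762 (iv D2762) F9525 F6790 (iv F9525)
theorem F13392 : act 5 n2762 = n1917 := d37_1 D2762 (iv D1917) D1916
def n2763 : Q := act 9 n1917
theorem D2763 : act 9 n1917 = n2763 := rfl
def n2764 : Q := act 7 n1918
theorem D2764 : act 7 n1918 = n2764 := rfl
theorem F13397 : act 2 n2764 = n1919 := d21_1 D2764 (iv D1919) (iv F9530)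
theorem F13398 : act 5 n2764 = n1947 := d36_1 D2764 (iv D1947) (iv F9531)
theorem F13399 : act 8 n2764 = n2764 := d42_2 F9532 D2764 (iv D2764)
def n2768 : Q := act 0 n1922
theorem D2768 : act 0 n1922 = n2768 := rfl
def n2770 : Q := act 3 n1923
theorem D2770 : act 3 n1923 = n2770 := rfl
theorem F13428 : act 4 n2770 = n1927 := d24_2 D1923 D2770 (iv D1927) (iv D1339) (iv F6801)
def n2773 : Q := act 4 n1925
theorem D2773 : act 4 n1925 = n2773 := rfl
theorem F13440 : act 0 n2773 = n1926 := d3_1 D2773 (iv D1926) D1925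
theorem F13443 : act 8 n2773 = n1930 := d33_2 (iv F9566) D2773 (iv D1930)
def n2774 : Q := act 3 n1926
theorem D2774 : act 3 n1926 = n2774 := rfl
theorem F13445 : act 1 n2774 = n1927 := d10_1 D2774 (iv D1927) (iv F9568)
def n2775 : Q := act 5 n1926
theorem D2775 : act 5 n1926 = n2775 := rfl
theorem F13452 : act 8 n2775 = n1932 := d37_2 (iv F9571) D2775 (iv D1932)
def n2776 : Q := act 5 n1927
theorem D2776 : act 5 n1927 = n2776 := rfl
theorem F13455 : act 3 n2776 = n1928 := d25_1 D2776 (iv D1928) D1927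
def n2778 : Q := act 6 n1928
theorem D2778 : act 6 n1928 = n2778 := rfl
theorem F13461 : act 2 n2778 = n1929 := d20_1 D2778 (iv D1929) (iv F9576)
theorem F13463 : act 8 n2778 = n1935 := d40_2 (iv F9579) D2778 (iv D1935)
def n2779 : Q := act 7 n1929
theorem D2779 : act 7 n1929 = n2779 := rfl
theorem F13465 : act 1 n2779 = n2779 := d14_1 D2779 (iv D2779) F9581
theorem F13466 : act 3 n2779 = n2779 := d27_1 D2779 (iv D2779) F9582
theorem F13467 : act 4 n2779 = n2779 := d32_1 D2779 (iv D2779) F9583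
theorem F13468 : act 6 n2779 = n2779 := d39_1 D2779 (iv D2779) (iv D1929) F6822 D1929
theorem F13469 : act 8 n2779 = n1936 := d42_2 (iv F9584) D2779 (iv D1936)
theorem F13470 : act 9 n2779 = n2779 := d43_2 F9585 D2779 (iv D2779)
def n2780 : Q := act 3 n1930
theorem D2780 : act 3 n1930 = n2780 := rfl
theorem F13471 : act 0 n2780 = n1931 := d2_1 D2780 (iv D1931) (iv F9586)
theorem F13474 : act 9 n2780 = n1937 := d29_2 (iv F9589) D2780 (iv D1937)
def n2781 : Q := act 5 n1930
theorem D2781 : act 5 n1930 = n2781 := rfl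
def n2782 : Q := act 2 n1931
theorem D2782 : act 2 n1931 = n2782 := rfl
theorem F13480 : act 1 n2782 = n1980 := d9_1 D2782 (iv D1980) F6963 (iv F6834) (iv F9590)
theorem F13484 : act 9 n2782 = n1939 := d23_2 (iv F9593) D2782 (iv D1939)
def n2783 : Q := act 5 n1931
theorem D2783 : act 5 n1931 = n2783 := rfl
theorem F13485 : act 1 n2783 = n1933 := d12_1 D2783 (iv D1933) (iv F9590)
theorem F13486 : act 3 n2783 = n1932 := d25_1 D2783 (iv D1932) D1931
theorem F13488 : act 9 n2783 = n1940 := d38_2 (iv F9593) D2783 (iv D1940)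
def n2784 : Q := act 8 n1931
theorem D2784 : act 8 n1931 = n2784 := rfl
theorem F13489 : act 1 n2784 = n1934 := d15_1 D2784 (iv D1934) (iv F9590)
def n2785 : Q := act 6 n1932
theorem D2785 : act 6 n1932 = n2785 := rfl
theorem F13492 : act 1 n2785 = n1935 := d13_1 D2785 (iv D1935) (iv F9594)
theorem F13495 : act 9 n2785 = n1942 := d41_2 (iv F9598) D2785 (iv D1942)
def n2786 : Q := act 4 n1933
theorem D2786 : act 4 n1933 = n2786 := rfl
theorem F13496 : act 2 n2786 = n1984 := d18_1 D2786 (iv D1984) (iv F9599)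
theorem F13497 : act 3 n2786 = n2786 := d24_1 D2786 (iv D2786) F9600 F6839 (iv F9600)
theorem F13498 : act 5 n2786 = n2786 := d30_2 D1933 D2786 (iv D2786) (iv D1933) F6835
theorem F13499 : act 7 n2786 = n2786 := d32_2 F9601 D2786 (iv D2786)
theorem F13500 : act 9 n2786 = n1943 := d34_2 (iv F9602) D2786 (iv D1943)
def n2787 : Q := act 6 n1933
theorem D2787 : act 6 n1933 = n2787 := rfl
theorem F13501 : act 2 n2787 = n1985 := d20_1 D2787 (iv D1985) (iv F9599)
theorem F13502 : act 3 n2787 = n1935 := d26_1 D2787 (iv D1935) (iv F9600)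
theorem F13503 : act 9 n2787 = n1944 := d41_2 (iv F9602) D2787 (iv D1944)
def n2788 : Q := act 8 n1933
theorem D2788 : act 8 n1933 = n2788 := rfl
theorem F13504 : act 2 n2788 = n1986 := d22_1 D2788 (iv D1986) (iv F9599)
def n2789 : Q := act 9 n1934
theorem D2789 : act 9 n1934 = n2789 := rfl
def n2790 : Q := act 7 n1935
theorem D2790 : act 7 n1935 = n2790 := rfl
theorem F13511 : act 2 n2790 = n1936 := d21_1 D2790 (iv D1936) (iv F9606)
theorem F13512 : act 4 n2790 = n2790 := d32_1 D2790 (iv D2790) F9607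
theorem F13513 : act 6 n2790 = n2790 := d39_1 D2790 (iv D2790) (iv D1935) F6840 D1935
theorem F13514 : act 9 n2790 = n1947 := d43_2 (iv F9608) D2790 (iv D1947)
def n2791 : Q := act 2 n1937
theorem D2791 : act 2 n1937 = n2791 := rfl
theorem F13515 : act 0 n2791 = n1939 := d1_1 D2791 (iv D1939) (iv F9614)
def n2792 : Q := act 5 n1937
theorem D2792 : act 5 n1937 = n2792 := rfl
theorem F13519 : act 0 n2792 = n1940 := d4_1 D2792 (iv D1940) (iv F9614)
theorem F13520 : act 3 n2792 = n1938 := d25_1 D2792 (iv D1938) D1937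
def n2793 : Q := act 8 n1937
theorem D2793 : act 8 n1937 = n2793 := rfl
theorem F13522 : act 0 n2793 = n1941 := d7_1 D2793 (iv D1941) (iv F9614)
def n2794 : Q := act 6 n1938
theorem D2794 : act 6 n1938 = n2794 := rfl
theorem F13526 : act 0 n2794 = n1942 := d5_1 D2794 (iv D1942) (iv F9617)
def n2795 : Q := act 5 n1939
theorem D2795 : act 5 n1939 = n2795 := rfl
theorem F13530 : act 1 n2795 = n1993 := d12_1 D2795 (iv D1993) (iv F9622)
theorem F13531 : act 2 n2795 = n1940 := d19_1 D2795 (iv D1940) D1939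
theorem F13532 : act 3 n2795 = n2795 := d25_1 D2795 (iv D2795) F9623
theorem F13533 : act 7 n2795 = n2795 := d36_2 F9625 D2795 (iv D2795)
def n2796 : Q := act 8 n1939
theorem D2796 : act 8 n1939 = n2796 := rfl
theorem F13535 : act 2 n2796 = n1941 := d22_1 D2796 (iv D1941) D1939
def n2797 : Q := act 4 n1940
theorem D2797 : act 4 n1940 = n2797 := rfl
theorem F13538 : act 1 n2797 = n1943 := d11_1 D2797 (iv D1943) (iv F9626)
theorem F13539 : act 3 n2797 = n2797 := d24_1 D2797 (iv D2797) F9627 F6855 (iv F9627)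
theorem F13540 : act 5 n2797 = n2797 := d30_2 D1940 D2797 (iv D2797) (iv D1940) F6851
theorem F13541 : act 7 n2797 = n2797 := d32_2 F9628 D2797 (iv D2797)
def n2798 : Q := act 6 n1940
theorem D2798 : act 6 n1940 = n2798 := rfl
theorem F13542 : act 1 n2798 = n1944 := d13_1 D2798 (iv D1944) (iv F9626)
theorem F13543 : act 3 n2798 = n1942 := d26_1 D2798 (iv D1942) (iv F9627)
def n2799 : Q := act 8 n1940
theorem D2799 : act 8 n1940 = n2799 := rfl
theorem F13544 : act 1 n2799 = n1945 := d15_1 D2799 (iv D1945) (iv F9626)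
theorem F13545 : act 3 n2799 = n2799 := d28_1 D2799 (iv D2799) F9627 F6857 (iv F9627)
theorem F13546 : act 5 n2799 = n1941 := d37_1 D2799 (iv D1941) D1940
theorem F13547 : act 7 n2799 = n2799 := d42_1 D2799 (iv D2799) F9628
def n2800 : Q := act 9 n1941
theorem D2800 : act 9 n1941 = n2800 := rfl
theorem F13548 : act 1 n2800 = n1946 := d16_1 D2800 (iv D1946) (iv F9629)
def n2801 : Q := act 7 n1942
theorem D2801 : act 7 n1942 = n2801 := rfl
theorem F13552 : act 1 n2801 = n1947 := d14_1 D2801 (iv D1947) (iv F9633)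
theorem F13553 : act 2 n2801 = n2801 := d21_1 D2801 (iv D2801) F9634
theorem F13554 : act 4 n2801 = n2801 := d32_1 D2801 (iv D2801) F9635
theorem F13555 : act 6 n2801 = n2801 := d39_1 D2801 (iv D2801) (iv D1942) F6856 D1942
theorem F13556 : act 8 n2801 = n2801 := d42_2 F9636 D2801 (iv D2801)
def n2802 : Q := act 6 n1943
theorem D2802 : act 6 n1943 = n2802 := rfl
theorem F13557 : act 2 n2802 = n2000 := d20_1 D2802 (iv D2000) (iv F9637)
theorem F13558 : act 3 n2802 = n2802 := d26_1 D2802 (iv D2802) F9638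
theorem F13559 : act 4 n2802 = n1944 := d31_1 D2802 (iv D1944) D1943
def n2803 : Q := act 8 n1943
theorem D2803 : act 8 n1943 = n2803 := rfl
theorem F13560 : act 2 n2803 = n2001 := d22_1 D2803 (iv D2001) (iv F9637)
theorem F13561 : act 4 n2803 = n1945 := d33_1 D2803 (iv D1945) D1943
theorem F13562 : act 5 n2803 = n2803 := d37_1 D2803 (iv D2803) F9639
theorem F13563 : act 7 n2803 = n2803 := d42_1 D2803 (iv D2803) F9640
def n2804 : Q := act 7 n1944
theorem D2804 : act 7 n1944 = n2804 := rfl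
theorem F13564 : act 2 n2804 = n2002 := d21_1 D2804 (iv D2002) (iv F9641)
theorem F13565 : act 3 n2804 = n1947 := d27_1 D2804 (iv D1947) (iv F9642)
theorem F13566 : act 6 n2804 = n2804 := d39_1 D2804 (iv D2804) (iv D1944) F6860 D1944
def n2805 : Q := act 8 n1944
theorem D2805 : act 8 n1944 = n2805 := rfl
theorem F13567 : act 2 n2805 = n2003 := d22_1 D2805 (iv D2003) (iv F9641)
theorem F13568 : act 3 n2805 = n2805 := d28_1 D2805 (iv D2805) F9642 F6867 (iv F9642)
theorem F13569 : act 6 n2805 = n1945 := d40_1 D2805 (iv D1945) D1944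
def n2806 : Q := act 9 n1945
theorem D2806 : act 9 n1945 = n2806 := rfl
def n2807 : Q := act 4 n1948
theorem D2807 : act 4 n1948 = n2807 := rfl
theorem F13574 : act 0 n2807 = n1949 := d3_1 D2807 (iv D1949) D1948
theorem F13575 : act 2 n2807 = n2807 := d18_1 D2807 (iv D2807) F9655
theorem F13576 : act 6 n2807 = n2807 := d31_2 F9658 D2807 (iv D2807)
theorem F13577 : act 7 n2807 = n1960 := d32_2 (iv F9659) D2807 (iv D1960)
theorem F13578 : act 8 n2807 = n2807 := d33_2 F9660 D2807 (iv D2807)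
theorem F13579 : act 9 n2807 = n1953 := d34_2 (iv F9661) D2807 (iv D1953)
def n2808 : Q := act 3 n1949
theorem D2808 : act 3 n1949 = n2808 := rfl
theorem F13580 : act 1 n2808 = n1950 := d10_1 D2808 (iv D1950) (iv F9662)
theorem F13581 : act 4 n2808 = n2808 := d24_2 D1949 D2808 (iv D2808) (iv D1949) F6874
theorem F13582 : act 6 n2808 = n2808 := d26_2 F9664 D2808 (iv D2808)
theorem F13583 : act 7 n2808 = n1961 := d27_2 (iv F9665) D2808 (iv D1961)
theorem F13584 : act 9 n2808 = n1954 := d29_2 (iv F9667) D2808 (iv D1954)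
def n2809 : Q := act 5 n1949
theorem D2809 : act 5 n1949 = n2809 := rfl
theorem F13585 : act 1 n2809 = n1951 := d12_1 D2809 (iv D1951) (iv F9662)
theorem F13586 : act 2 n2809 = n2809 := d19_1 D2809 (iv D2809) F9663
theorem F13587 : act 4 n2809 = n2809 := d30_1 D2809 (iv D2809) (iv D1949) F6875 D1949
theorem F13588 : act 7 n2809 = n1962 := d36_2 (iv F9665) D2809 (iv D1962)
theorem F13589 : act 8 n2809 = n2809 := d37_2 F9666 D2809 (iv D2809)
theorem F13590 : act 9 n2809 = n1955 := d38_2 (iv F9667) D2809 (iv D1955)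
def n2810 : Q := act 5 n1950
theorem D2810 : act 5 n1950 = n2810 := rfl
theorem F13591 : act 3 n2810 = n1951 := d25_1 D2810 (iv D1951) D1950
theorem F13592 : act 7 n2810 = n1963 := d36_2 (iv F9670) D2810 (iv D1963)
theorem F13593 : act 9 n2810 = n1956 := d38_2 (iv F9671) D2810 (iv D1956)
def n2811 : Q := act 8 n1950
theorem D2811 : act 8 n1950 = n2811 := rfl
theorem F13594 : act 3 n2811 = n2811 := d28_1 D2811 (iv D2811) (iv D1950) F6883 D1950
theorem F13595 : act 4 n2811 = n2811 := d33_1 D2811 (iv D2811) F9668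
theorem F13596 : act 6 n2811 = n2811 := d40_1 D2811 (iv D2811) F9669
theorem F13597 : act 7 n2811 = n1964 := d42_1 D2811 (iv D1964) (iv F9670)
def n2812 : Q := act 6 n1951
theorem D2812 : act 6 n1951 = n2812 := rfl
theorem F13598 : act 2 n2812 = n1952 := d20_1 D2812 (iv D1952) (iv F9672)
theorem F13599 : act 4 n2812 = n2812 := d31_1 D2812 (iv D2812) F9673
theorem F13600 : act 5 n2812 = n2812 := d35_1 D2812 (iv D2812) (iv D1951) F6881 D1951
theorem F13601 : act 8 n2812 = n2812 := d40_2 F9675 D2812 (iv D2812)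
theorem F13602 : act 9 n2812 = n1958 := d41_2 (iv F9676) D2812 (iv D1958)
def n2813 : Q := act 7 n1952
theorem D2813 : act 7 n1952 = n2813 := rfl
theorem F13603 : act 1 n2813 = n2813 := d14_1 D2813 (iv D2813) F9677
theorem F13604 : act 4 n2813 = n2813 := d32_1 D2813 (iv D2813) F9678
theorem F13605 : act 5 n2813 = n2813 := d36_1 D2813 (iv D2813) F9679
theorem F13606 : act 6 n2813 = n1966 := d39_1 D2813 (iv D1966) (iv D1365) (iv F6887) D1952
theorem F13607 : act 8 n2813 = n2813 := d42_2 F9680 D2813 (iv D2813)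
theorem F13608 : act 9 n2813 = n1959 := d43_2 (iv F9681) D2813 (iv D1959)
def n2814 : Q := act 3 n1953
theorem D2814 : act 3 n1953 = n2814 := rfl
theorem F13609 : act 0 n2814 = n1954 := d2_1 D2814 (iv D1954) (iv F9682)
theorem F13610 : act 4 n2814 = n2814 := d24_2 D1953 D2814 (iv D2814) (iv D1953) F6891
theorem F13611 : act 6 n2814 = n2814 := d26_2 F9684 D2814 (iv D2814)
theorem F13612 : act 7 n2814 = n1967 := d27_2 (iv F9685) D2814 (iv D1967)
def n2815 : Q := act 5 n1953
theorem D2815 : act 5 n1953 = n2815 := rfl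
theorem F13613 : act 0 n2815 = n1955 := d4_1 D2815 (iv D1955) (iv F9682)
theorem F13614 : act 2 n2815 = n2815 := d19_1 D2815 (iv D2815) F9683
theorem F13615 : act 4 n2815 = n2815 := d30_1 D2815 (iv D2815) (iv D1953) F6892 D1953
theorem F13616 : act 7 n2815 = n1968 := d36_2 (iv F9685) D2815 (iv D1968)
theorem F13617 : act 8 n2815 = n2031 := d37_2 (iv F9686) D2815 (iv D2031)
def n2816 : Q := act 2 n1954
theorem D2816 : act 2 n1954 = n2816 := rfl
def n2817 : Q := act 5 n1954
theorem D2817 : act 5 n1954 = n2817 := rfl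
theorem F13622 : act 1 n2817 = n1956 := d12_1 D2817 (iv D1956) (iv F9687)
theorem F13623 : act 3 n2817 = n1955 := d25_1 D2817 (iv D1955) D1954
theorem F13624 : act 7 n2817 = n1970 := d36_2 (iv F9690) D2817 (iv D1970)
def n2818 : Q := act 8 n1954
theorem D2818 : act 8 n1954 = n2818 := rfl
theorem F13625 : act 1 n2818 = n1957 := d15_1 D2818 (iv D1957) (iv F9687)
theorem F13626 : act 3 n2818 = n2034 := d28_1 D2818 (iv D2034) (iv D1411) (iv F6900) D1954
def n2819 : Q := act 6 n1955
theorem D2819 : act 6 n1955 = n2819 := rfl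
theorem F13630 : act 1 n2819 = n1958 := d13_1 D2819 (iv D1958) (iv F9691)
theorem F13631 : act 2 n2819 = n2819 := d20_1 D2819 (iv D2819) F9692
theorem F13632 : act 4 n2819 = n2819 := d31_1 D2819 (iv D2819) F9693
theorem F13633 : act 5 n2819 = n2819 := d35_1 D2819 (iv D2819) (iv D1955) F6898 D1955
theorem F13634 : act 8 n2819 = n2035 := d40_2 (iv F9695) D2819 (iv D2035)
def n2820 : Q := act 4 n1956
theorem D2820 : act 4 n1956 = n2820 := rfl
theorem F13635 : act 3 n2820 = n2820 := d24_1 D2820 (iv D2820) F9696 F6905 (iv F9696)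
theorem F13636 : act 5 n2820 = n2820 := d30_2 D1956 D2820 (iv D2820) (iv D1956) F6901
theorem F13637 : act 7 n2820 = n1973 := d32_2 (iv F9697) D2820 (iv D1973)
def n2821 : Q := act 6 n1956
theorem D2821 : act 6 n1956 = n2821 := rfl
theorem F13638 : act 3 n2821 = n1958 := d26_1 D2821 (iv D1958) (iv F9696)
theorem F13639 : act 5 n2821 = n2821 := d35_1 D2821 (iv D2821) (iv D1956) F6902 D1956
def n2822 : Q := act 8 n1956
theorem D2822 : act 8 n1956 = n2822 := rfl
theorem F13640 : act 3 n2822 = n2038 := d28_1 D2822 (iv D2038) F7129 (iv F6907) (iv F9696)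
theorem F13641 : act 5 n2822 = n1957 := d37_1 D2822 (iv D1957) D1956
theorem F13642 : act 7 n2822 = n1975 := d42_1 D2822 (iv D1975) (iv F9697)
def n2823 : Q := act 9 n1957
theorem D2823 : act 9 n1957 = n2823 := rfl
def n2824 : Q := act 7 n1958
theorem D2824 : act 7 n1958 = n2824 := rfl
theorem F13647 : act 2 n2824 = n1959 := d21_1 D2824 (iv D1959) (iv F9702)
theorem F13648 : act 4 n2824 = n2824 := d32_1 D2824 (iv D2824) F9703
theorem F13649 : act 5 n2824 = n2824 := d36_1 D2824 (iv D2824) F9704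
theorem F13650 : act 6 n2824 = n1977 := d39_1 D2824 (iv D1977) (iv D1371) (iv F6906) D1958
theorem F13651 : act 8 n2824 = n2040 := d42_2 (iv F9705) D2824 (iv D2040)
def n2825 : Q := act 3 n1960
theorem D2825 : act 3 n1960 = n2825 := rfl
theorem F13652 : act 0 n2825 = n1961 := d2_1 D2825 (iv D1961) (iv F9711)
theorem F13653 : act 4 n2825 = n2825 := d24_2 D1960 D2825 (iv D2825) (iv D1960) F6913
theorem F13654 : act 6 n2825 = n1978 := d26_2 (iv F9713) D2825 (iv D1978)
theorem F13655 : act 9 n2825 = n1967 := d29_2 (iv F9715) D2825 (iv D1967)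
def n2826 : Q := act 5 n1960
theorem D2826 : act 5 n1960 = n2826 := rfl
theorem F13656 : act 0 n2826 = n1962 := d4_1 D2826 (iv D1962) (iv F9711)
theorem F13657 : act 2 n2826 = n2826 := d19_1 D2826 (iv D2826) F9712
theorem F13658 : act 4 n2826 = n2826 := d30_1 D2826 (iv D2826) (iv D1960) F6914 D1960
theorem F13659 : act 8 n2826 = n2826 := d37_2 F9714 D2826 (iv D2826)
theorem F13660 : act 9 n2826 = n1968 := d38_2 (iv F9715) D2826 (iv D1968)
def n2827 : Q := act 2 n1961
theorem D2827 : act 2 n1961 = n2827 := rfl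
theorem F13663 : act 6 n2827 = n1980 := d20_2 (iv F9718) D2827 (iv D1980)
theorem F13664 : act 9 n2827 = n1969 := d23_2 (iv F9719) D2827 (iv D1969)
def n2828 : Q := act 5 n1961
theorem D2828 : act 5 n1961 = n2828 := rfl
theorem F13665 : act 1 n2828 = n1963 := d12_1 D2828 (iv D1963) (iv F9716)
theorem F13666 : act 3 n2828 = n1962 := d25_1 D2828 (iv D1962) D1961
theorem F13667 : act 9 n2828 = n1970 := d38_2 (iv F9719) D2828 (iv D1970)
def n2829 : Q := act 8 n1961
theorem D2829 : act 8 n1961 = n2829 := rfl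
theorem F13668 : act 1 n2829 = n1964 := d15_1 D2829 (iv D1964) (iv F9716)
def n2830 : Q := act 6 n1962
theorem D2830 : act 6 n1962 = n2830 := rfl
theorem F13672 : act 1 n2830 = n1965 := d13_1 D2830 (iv D1965) (iv F9720)
theorem F13673 : act 2 n2830 = n2830 := d20_1 D2830 (iv D2830) F9721
theorem F13674 : act 4 n2830 = n2830 := d31_1 D2830 (iv D2830) F9722
theorem F13675 : act 5 n2830 = n1983 := d35_1 D2830 (iv D1983) (iv D1375) (iv F6920) D1962
theorem F13676 : act 8 n2830 = n2830 := d40_2 F9723 D2830 (iv D2830)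
theorem F13677 : act 9 n2830 = n1972 := d41_2 (iv F9724) D2830 (iv D1972)
def n2831 : Q := act 4 n1963
theorem D2831 : act 4 n1963 = n2831 := rfl
theorem F13678 : act 3 n2831 = n2831 := d24_1 D2831 (iv D2831) F9725 F6927 (iv F9725)
theorem F13679 : act 5 n2831 = n2831 := d30_2 D1963 D2831 (iv D2831) (iv D1963) F6923
theorem F13680 : act 9 n2831 = n1973 := d34_2 (iv F9726) D2831 (iv D1973)
def n2832 : Q := act 6 n1963
theorem D2832 : act 6 n1963 = n2832 := rfl
theorem F13681 : act 3 n2832 = n1965 := d26_1 D2832 (iv D1965) (iv F9725)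
theorem F13682 : act 5 n2832 = n1985 := d35_1 D2832 (iv D1985) (iv D1376) (iv F6924) D1963
theorem F13683 : act 9 n2832 = n1974 := d41_2 (iv F9726) D2832 (iv D1974)
def n2833 : Q := act 8 n1963
theorem D2833 : act 8 n1963 = n2833 := rfl
theorem F13684 : act 3 n2833 = n2833 := d28_1 D2833 (iv D2833) F9725 F6928 (iv F9725)
theorem F13685 : act 5 n2833 = n1964 := d37_1 D2833 (iv D1964) D1963
def n2834 : Q := act 9 n1964
theorem D2834 : act 9 n1964 = n2834 := rfl
def n2835 : Q := act 7 n1965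
theorem D2835 : act 7 n1965 = n2835 := rfl
theorem F13690 : act 2 n2835 = n1966 := d21_1 D2835 (iv D1966) (iv F9730)
theorem F13691 : act 4 n2835 = n2835 := d32_1 D2835 (iv D2835) F9731
theorem F13692 : act 5 n2835 = n1988 := d36_1 D2835 (iv D1988) (iv F9732)
theorem F13693 : act 8 n2835 = n2835 := d42_2 F9733 D2835 (iv D2835)
theorem F13694 : act 9 n2835 = n1977 := d43_2 (iv F9734) D2835 (iv D1977)
def n2836 : Q := act 2 n1967
theorem D2836 : act 2 n1967 = n2836 := rfl
theorem F13695 : act 0 n2836 = n1969 := d1_1 D2836 (iv D1969) (iv F9740)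
theorem F13698 : act 6 n2836 = n1989 := d20_2 (iv F9742) D2836 (iv D1989)
def n2837 : Q := act 5 n1967
theorem D2837 : act 5 n1967 = n2837 := rfl
theorem F13699 : act 0 n2837 = n1970 := d4_1 D2837 (iv D1970) (iv F9740)
theorem F13700 : act 3 n2837 = n1968 := d25_1 D2837 (iv D1968) D1967
def n2838 : Q := act 8 n1967
theorem D2838 : act 8 n1967 = n2838 := rfl
theorem F13704 : act 6 n2838 = n1991 := d40_1 D2838 (iv D1991) (iv F9742)
def n2839 : Q := act 6 n1968
theorem D2839 : act 6 n1968 = n2839 := rfl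
theorem F13705 : act 0 n2839 = n1972 := d5_1 D2839 (iv D1972) (iv F9743)
theorem F13706 : act 2 n2839 = n2839 := d20_1 D2839 (iv D2839) F9744
theorem F13707 : act 4 n2839 = n2839 := d31_1 D2839 (iv D2839) F9745
theorem F13708 : act 5 n2839 = n1992 := d35_1 D2839 (iv D1992) (iv D1381) (iv F6937) D1968
theorem F13709 : act 8 n2839 = n2044 := d40_2 (iv F9746) D2839 (iv D2044)
def n2840 : Q := act 5 n1969
theorem D2840 : act 5 n1969 = n2840 := rfl
theorem F13710 : act 2 n2840 = n1970 := d19_1 D2840 (iv D1970) D1969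
def n2841 : Q := act 8 n1969
theorem D2841 : act 8 n1969 = n2841 := rfl
theorem F13712 : act 2 n2841 = n1971 := d22_1 D2841 (iv D1971) D1969
def n2842 : Q := act 4 n1970
theorem D2842 : act 4 n1970 = n2842 := rfl
theorem F13715 : act 1 n2842 = n1973 := d11_1 D2842 (iv D1973) (iv F9750)
theorem F13716 : act 3 n2842 = n2842 := d24_1 D2842 (iv D2842) F9751 F6944 (iv F9751)
theorem F13717 : act 5 n2842 = n2842 := d30_2 D1970 D2842 (iv D2842) (iv D1970) F6940
def n2843 : Q := act 6 n1970
theorem D2843 : act 6 n1970 = n2843 := rfl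
theorem F13718 : act 1 n2843 = n1974 := d13_1 D2843 (iv D1974) (iv F9750)
theorem F13719 : act 3 n2843 = n1972 := d26_1 D2843 (iv D1972) (iv F9751)
theorem F13720 : act 5 n2843 = n1996 := d35_1 D2843 (iv D1996) (iv D1383) (iv F6941) D1970
def n2844 : Q := act 8 n1970
theorem D2844 : act 8 n1970 = n2844 := rfl
theorem F13721 : act 1 n2844 = n1975 := d15_1 D2844 (iv D1975) (iv F9750)
theorem F13722 : act 3 n2844 = n2049 := d28_1 D2844 (iv D2049) F7160 (iv F6945) (iv F9751)
def n2845 : Q := act 9 n1971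
theorem D2845 : act 9 n1971 = n2845 := rfl
theorem F13724 : act 1 n2845 = n1976 := d16_1 D2845 (iv D1976) (iv F9752)
def n2846 : Q := act 7 n1972
theorem D2846 : act 7 n1972 = n2846 := rfl
theorem F13728 : act 1 n2846 = n1977 := d14_1 D2846 (iv D1977) (iv F9756)
theorem F13729 : act 2 n2846 = n2846 := d21_1 D2846 (iv D2846) F9757
theorem F13730 : act 4 n2846 = n2846 := d32_1 D2846 (iv D2846) F9758
theorem F13731 : act 5 n2846 = n1999 := d36_1 D2846 (iv D1999) (iv F9759)
theorem F13732 : act 8 n2846 = n2051 := d42_2 (iv F9760) D2846 (iv D2051)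
def n2847 : Q := act 6 n1973
theorem D2847 : act 6 n1973 = n2847 := rfl
theorem F13733 : act 3 n2847 = n2847 := d26_1 D2847 (iv D2847) F9761
theorem F13734 : act 4 n2847 = n1974 := d31_1 D2847 (iv D1974) D1973
def n2848 : Q := act 8 n1973
theorem D2848 : act 8 n1973 = n2848 := rfl
theorem F13735 : act 4 n2848 = n1975 := d33_1 D2848 (iv D1975) D1973
theorem F13736 : act 5 n2848 = n2848 := d37_1 D2848 (iv D2848) F9762
def n2849 : Q := act 7 n1974
theorem D2849 : act 7 n1974 = n2849 := rfl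
theorem F13737 : act 3 n2849 = n1977 := d27_1 D2849 (iv D1977) (iv F9763)
theorem F13738 : act 5 n2849 = n2002 := d36_1 D2849 (iv D2002) (iv F9764)
def n2850 : Q := act 8 n1974
theorem D2850 : act 8 n1974 = n2850 := rfl
theorem F13739 : act 3 n2850 = n2055 := d28_1 D2850 (iv D2055) F7175 (iv F6953) (iv F9763)
theorem F13740 : act 5 n2850 = n2003 := d37_1 D2850 (iv D2003) (iv F9764)
theorem F13741 : act 6 n2850 = n1975 := d40_1 D2850 (iv D1975) D1974
def n2851 : Q := act 9 n1975
theorem D2851 : act 9 n1975 = n2851 := rfl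
def n2852 : Q := act 2 n1978
theorem D2852 : act 2 n1978 = n2852 := rfl
theorem F13744 : act 0 n2852 = n1980 := d1_1 D2852 (iv D1980) (iv F9774)
theorem F13748 : act 9 n2852 = n1989 := d23_2 (iv F9777) D2852 (iv D1989)
def n2853 : Q := act 5 n1978
theorem D2853 : act 5 n1978 = n2853 := rfl
theorem F13749 : act 0 n2853 = n1981 := d4_1 D2853 (iv D1981) (iv F9774)
theorem F13750 : act 3 n2853 = n1979 := d25_1 D2853 (iv D1979) D1978
theorem F13751 : act 7 n2853 = n2853 := d36_2 F9776 D2853 (iv D2853)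
theorem F13752 : act 9 n2853 = n1990 := d38_2 (iv F9777) D2853 (iv D1990)
def n2854 : Q := act 8 n1978
theorem D2854 : act 8 n1978 = n2854 := rfl
def n2855 : Q := act 6 n1979
theorem D2855 : act 6 n1979 = n2855 := rfl
theorem F13757 : act 0 n2855 = n1983 := d5_1 D2855 (iv D1983) (iv F9778)
theorem F13758 : act 2 n2855 = n2855 := d20_1 D2855 (iv D2855) F9779
theorem F13759 : act 4 n2855 = n2008 := d31_1 D2855 (iv D2008) (iv F9780)
theorem F13760 : act 8 n2855 = n2855 := d40_2 F9782 D2855 (iv D2855)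
theorem F13761 : act 9 n2855 = n1992 := d41_2 (iv F9783) D2855 (iv D1992)
def n2856 : Q := act 5 n1980
theorem D2856 : act 5 n1980 = n2856 := rfl
theorem F13762 : act 2 n2856 = n1981 := d19_1 D2856 (iv D1981) D1980
theorem F13765 : act 9 n2856 = n1993 := d38_2 (iv F9787) D2856 (iv D1993)
def n2857 : Q := act 8 n1980
theorem D2857 : act 8 n1980 = n2857 := rfl
theorem F13766 : act 2 n2857 = n1982 := d22_1 D2857 (iv D1982) D1980
def n2858 : Q := act 4 n1981
theorem D2858 : act 4 n1981 = n2858 := rfl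
theorem F13769 : act 1 n2858 = n1984 := d11_1 D2858 (iv D1984) (iv F9788)
theorem F13770 : act 3 n2858 = n2011 := d24_1 D2858 (iv D2011) F7041 (iv F6969) (iv F9789)
theorem F13771 : act 5 n2858 = n2858 := d30_2 D1981 D2858 (iv D2858) (iv D1981) F6964
theorem F13772 : act 7 n2858 = n2858 := d32_2 F9790 D2858 (iv D2858)
theorem F13773 : act 9 n2858 = n1995 := d34_2 (iv F9791) D2858 (iv D1995)
def n2859 : Q := act 6 n1981
theorem D2859 : act 6 n1981 = n2859 := rfl
theorem F13774 : act 1 n2859 = n1985 := d13_1 D2859 (iv D1985) (iv F9788)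
theorem F13775 : act 3 n2859 = n1983 := d26_1 D2859 (iv D1983) (iv F9789)
theorem F13776 : act 9 n2859 = n1996 := d41_2 (iv F9791) D2859 (iv D1996)
def n2860 : Q := act 8 n1981
theorem D2860 : act 8 n1981 = n2860 := rfl
theorem F13777 : act 1 n2860 = n1986 := d15_1 D2860 (iv D1986) (iv F9788)
def n2861 : Q := act 9 n1982
theorem D2861 : act 9 n1982 = n2861 := rfl
theorem F13781 : act 1 n2861 = n1987 := d16_1 D2861 (iv D1987) (iv F9792)
def n2862 : Q := act 7 n1983
theorem D2862 : act 7 n1983 = n2862 := rfl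
theorem F13786 : act 1 n2862 = n1988 := d14_1 D2862 (iv D1988) (iv F9796)
theorem F13787 : act 2 n2862 = n2862 := d21_1 D2862 (iv D2862) F9797
theorem F13788 : act 4 n2862 = n2014 := d32_1 D2862 (iv D2014) (iv F9798)
theorem F13789 : act 6 n2862 = n2862 := d39_1 D2862 (iv D2862) (iv D1983) F6970 D1983
theorem F13790 : act 8 n2862 = n2862 := d42_2 F9799 D2862 (iv D2862)
theorem F13791 : act 9 n2862 = n1999 := d43_2 (iv F9800) D2862 (iv D1999)
def n2863 : Q := act 6 n1984
theorem D2863 : act 6 n1984 = n2863 := rfl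
theorem F13792 : act 3 n2863 = n2015 := d26_1 D2863 (iv D2015) (iv F9801)
theorem F13793 : act 4 n2863 = n1985 := d31_1 D2863 (iv D1985) D1984
theorem F13794 : act 9 n2863 = n2000 := d41_2 (iv F9804) D2863 (iv D2000)
def n2864 : Q := act 8 n1984
theorem D2864 : act 8 n1984 = n2864 := rfl
theorem F13795 : act 4 n2864 = n1986 := d33_1 D2864 (iv D1986) D1984
theorem F13796 : act 5 n2864 = n2864 := d37_1 D2864 (iv D2864) F9802
theorem F13797 : act 7 n2864 = n2864 := d42_1 D2864 (iv D2864) F9803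
def n2865 : Q := act 7 n1985
theorem D2865 : act 7 n1985 = n2865 := rfl
theorem F13798 : act 3 n2865 = n1988 := d27_1 D2865 (iv D1988) (iv F9805)
theorem F13799 : act 6 n2865 = n2865 := d39_1 D2865 (iv D2865) (iv D1985) F6974 D1985
theorem F13800 : act 9 n2865 = n2002 := d43_2 (iv F9806) D2865 (iv D2002)
def n2866 : Q := act 8 n1985
theorem D2866 : act 8 n1985 = n2866 := rfl
theorem F13801 : act 3 n2866 = n2866 := d28_1 D2866 (iv D2866) F9805 F6981 (iv F9805)
theorem F13802 : act 6 n2866 = n1986 := d40_1 D2866 (iv D1986) D1985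
def n2867 : Q := act 9 n1986
theorem D2867 : act 9 n1986 = n2867 := rfl
def n2868 : Q := act 1 n1989
theorem D2868 : act 1 n1989 = n2868 := rfl
def n2869 : Q := act 5 n1989
theorem D2869 : act 5 n1989 = n2869 := rfl
theorem F13811 : act 2 n2869 = n1990 := d19_1 D2869 (iv D1990) D1989
def n2870 : Q := act 8 n1989
theorem D2870 : act 8 n1989 = n2870 := rfl
def n2871 : Q := act 4 n1990
theorem D2871 : act 4 n1990 = n2871 := rfl
theorem F13818 : act 0 n2871 = n1995 := d3_1 D2871 (iv D1995) (iv F9823)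
theorem F13819 : act 3 n2871 = n2021 := d24_1 D2871 (iv D2021) F7080 (iv F6993) (iv F9824)
theorem F13820 : act 5 n2871 = n2871 := d30_2 D1990 D2871 (iv D2871) (iv D1990) F6989
theorem F13821 : act 7 n2871 = n2871 := d32_2 F9825 D2871 (iv D2871)
def n2872 : Q := act 6 n1990
theorem D2872 : act 6 n1990 = n2872 := rfl
theorem F13822 : act 0 n2872 = n1996 := d5_1 D2872 (iv D1996) (iv F9823)
theorem F13823 : act 3 n2872 = n1992 := d26_1 D2872 (iv D1992) (iv F9824)
def n2873 : Q := act 8 n1990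
theorem D2873 : act 8 n1990 = n2873 := rfl
theorem F13826 : act 5 n2873 = n1991 := d37_1 D2873 (iv D1991) D1990
def n2874 : Q := act 9 n1991
theorem D2874 : act 9 n1991 = n2874 := rfl
def n2875 : Q := act 7 n1992
theorem D2875 : act 7 n1992 = n2875 := rfl
theorem F13832 : act 0 n2875 = n1999 := d6_1 D2875 (iv D1999) (iv F9830)
theorem F13833 : act 2 n2875 = n2875 := d21_1 D2875 (iv D2875) F9831
theorem F13834 : act 4 n2875 = n2023 := d32_1 D2875 (iv D2023) (iv F9832)
theorem F13835 : act 6 n2875 = n2875 := d39_1 D2875 (iv D2875) (iv D1992) F6994 D1992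
theorem F13836 : act 8 n2875 = n2063 := d42_2 (iv F9833) D2875 (iv D2063)
def n2876 : Q := act 4 n1993
theorem D2876 : act 4 n1993 = n2876 := rfl
theorem F13837 : act 2 n2876 = n1995 := d18_1 D2876 (iv D1995) (iv F9834)
def n2877 : Q := act 6 n1993
theorem D2877 : act 6 n1993 = n2877 := rfl
theorem F13840 : act 2 n2877 = n1996 := d20_1 D2877 (iv D1996) (iv F9834)
def n2878 : Q := act 8 n1993
theorem D2878 : act 8 n1993 = n2878 := rfl
theorem F13842 : act 2 n2878 = n1997 := d22_1 D2878 (iv D1997) (iv F9834)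
def n2881 : Q := act 6 n1995
theorem D2881 : act 6 n1995 = n2881 := rfl
theorem F13851 : act 1 n2881 = n2000 := d13_1 D2881 (iv D2000) (iv F9840)
theorem F13852 : act 3 n2881 = n2026 := d26_1 D2881 (iv D2026) (iv F9841)
theorem F13853 : act 4 n2881 = n1996 := d31_1 D2881 (iv D1996) D1995
def n2882 : Q := act 8 n1995
theorem D2882 : act 8 n1995 = n2882 := rfl
theorem F13854 : act 1 n2882 = n2001 := d15_1 D2882 (iv D2001) (iv F9840)
theorem F13856 : act 4 n2882 = n1997 := d33_1 D2882 (iv D1997) D1995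
def n2883 : Q := act 7 n1996
theorem D2883 : act 7 n1996 = n2883 := rfl
theorem F13859 : act 1 n2883 = n2002 := d14_1 D2883 (iv D2002) (iv F9844)
theorem F13860 : act 3 n2883 = n1999 := d27_1 D2883 (iv D1999) (iv F9845)
theorem F13861 : act 6 n2883 = n2883 := d39_1 D2883 (iv D2883) (iv D1996) F7001 D1996
def n2884 : Q := act 8 n1996
theorem D2884 : act 8 n1996 = n2884 := rfl
theorem F13863 : act 3 n2884 = n2069 := d28_1 D2884 (iv D2069) F7216 (iv F7009) (iv F9845)
def n2885 : Q := act 9 n1997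
theorem D2885 : act 9 n1997 = n2885 := rfl
theorem F13865 : act 1 n2885 = n2004 := d16_1 D2885 (iv D2004) (iv F9846)
def n2886 : Q := act 5 n2000
theorem D2886 : act 5 n2000 = n2886 := rfl
theorem F13869 : act 3 n2886 = n2028 := d25_1 D2886 (iv D2028) (iv F9859)
theorem F13870 : act 6 n2886 = n2886 := d35_2 D2000 D2886 (iv D2886) (iv D2000) F7011
def n2887 : Q := act 7 n2000
theorem D2887 : act 7 n2000 = n2887 := rfl
theorem F13871 : act 3 n2887 = n2029 := d27_1 D2887 (iv D2029) (iv F9859)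
theorem F13872 : act 4 n2887 = n2002 := d32_1 D2887 (iv D2002) (iv F9860)
theorem F13873 : act 6 n2887 = n2887 := d39_1 D2887 (iv D2887) (iv D2000) F7012 D2000
def n2888 : Q := act 8 n2000
theorem D2888 : act 8 n2000 = n2888 := rfl
theorem F13874 : act 3 n2888 = n2888 := d28_1 D2888 (iv D2888) F9859 F7107 (iv F9859)
theorem F13875 : act 4 n2888 = n2003 := d33_1 D2888 (iv D2003) (iv F9860)
theorem F13876 : act 6 n2888 = n2001 := d40_1 D2888 (iv D2001) D2000
def n2889 : Q := act 9 n2001
theorem D2889 : act 9 n2001 = n2889 := rfl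
def n2890 : Q := act 8 n2002
theorem D2890 : act 8 n2002 = n2890 := rfl
theorem F13881 : act 3 n2890 = n2071 := d28_1 D2890 (iv D2071) F7233 (iv F7023) (iv F9865)
theorem F13882 : act 6 n2890 = n2890 := d40_1 D2890 (iv D2890) F9866
theorem F13883 : act 7 n2890 = n2003 := d42_1 D2890 (iv D2003) D2002
def n2892 : Q := act 1 n2005
theorem D2892 : act 1 n2005 = n2892 := rfl
theorem F13886 : act 0 n2892 = n2892 := d0_1 D2892 (iv D2892) F9872 F7034 (iv F9872)
theorem F13887 : act 3 n2892 = n2892 := d10_2 F9873 D2892 (iv D2892)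
theorem F13888 : act 4 n2892 = n2892 := d11_2 F9874 D2892 (iv D2892)
theorem F13889 : act 6 n2892 = n2892 := d13_2 F9875 D2892 (iv D2892)
theorem F13890 : act 7 n2892 = n2892 := d14_2 F9876 D2892 (iv D2892)
theorem F13891 : act 9 n2892 = n2019 := d16_2 (iv F9877) D2892 (iv D2019)
def n2893 : Q := act 5 n2005
theorem D2893 : act 5 n2005 = n2893 := rfl
theorem F13892 : act 0 n2893 = n2009 := d4_1 D2893 (iv D2009) (iv F9872)
theorem F13893 : act 2 n2893 = n2006 := d19_1 D2893 (iv D2006) D2005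
theorem F13894 : act 3 n2893 = n2893 := d25_1 D2893 (iv D2893) F9873
theorem F13895 : act 7 n2893 = n2893 := d36_2 F9876 D2893 (iv D2893)
theorem F13896 : act 9 n2893 = n2020 := d38_2 (iv F9877) D2893 (iv D2020)
def n2894 : Q := act 8 n2005
theorem D2894 : act 8 n2005 = n2894 := rfl
theorem F13897 : act 0 n2894 = n2010 := d7_1 D2894 (iv D2010) (iv F9872)
theorem F13898 : act 2 n2894 = n2007 := d22_1 D2894 (iv D2007) D2005
theorem F13899 : act 4 n2894 = n2894 := d33_1 D2894 (iv D2894) F9874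
theorem F13900 : act 6 n2894 = n2894 := d40_1 D2894 (iv D2894) F9875
theorem F13901 : act 7 n2894 = n2894 := d42_1 D2894 (iv D2894) F9876
theorem F13902 : act 9 n2894 = n2894 := d44_2 (iv F9877) D2894 (iv D2894) F9877 F7078
def n2895 : Q := act 4 n2006
theorem D2895 : act 4 n2006 = n2895 := rfl
theorem F13903 : act 0 n2895 = n2011 := d3_1 D2895 (iv D2011) (iv F9878)
theorem F13904 : act 5 n2895 = n2895 := d30_2 D2006 D2895 (iv D2895) (iv D2006) F7025
theorem F13905 : act 7 n2895 = n2895 := d32_2 F9880 D2895 (iv D2895)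
theorem F13906 : act 9 n2895 = n2021 := d34_2 (iv F9881) D2895 (iv D2021)
def n2896 : Q := act 6 n2006
theorem D2896 : act 6 n2006 = n2896 := rfl
theorem F13907 : act 0 n2896 = n2012 := d5_1 D2896 (iv D2012) (iv F9878)
theorem F13908 : act 3 n2896 = n2008 := d26_1 D2896 (iv D2008) (iv F9879)
theorem F13909 : act 5 n2896 = n2896 := d35_1 D2896 (iv D2896) (iv D2006) F7026 D2006
theorem F13910 : act 9 n2896 = n2022 := d41_2 (iv F9881) D2896 (iv D2022)
def n2897 : Q := act 8 n2006
theorem D2897 : act 8 n2006 = n2897 := rfl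
theorem F13911 : act 0 n2897 = n2013 := d7_1 D2897 (iv D2013) (iv F9878)
theorem F13912 : act 3 n2897 = n2897 := d28_1 D2897 (iv D2897) F9879 F7032 (iv F9879)
theorem F13913 : act 5 n2897 = n2007 := d37_1 D2897 (iv D2007) D2006
theorem F13914 : act 7 n2897 = n2897 := d42_1 D2897 (iv D2897) F9880
theorem F13915 : act 9 n2897 = n2897 := d44_2 (iv F9881) D2897 (iv D2897) F9881 F7082
def n2898 : Q := act 7 n2008
theorem D2898 : act 7 n2008 = n2898 := rfl
theorem F13916 : act 0 n2898 = n2014 := d6_1 D2898 (iv D2014) (iv F9888)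
theorem F13917 : act 2 n2898 = n2898 := d21_1 D2898 (iv D2898) F9889
theorem F13918 : act 5 n2898 = n2898 := d36_1 D2898 (iv D2898) F9890
theorem F13919 : act 6 n2898 = n2898 := d39_1 D2898 (iv D2898) (iv D2008) F7031 D2008
theorem F13920 : act 8 n2898 = n2898 := d42_2 F9891 D2898 (iv D2898)
theorem F13921 : act 9 n2898 = n2023 := d43_2 (iv F9892) D2898 (iv D2023)
def n2899 : Q := act 4 n2009
theorem D2899 : act 4 n2009 = n2899 := rfl
theorem F13922 : act 1 n2899 = n2899 := d11_1 D2899 (iv D2899) F9893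
theorem F13923 : act 2 n2899 = n2011 := d18_1 D2899 (iv D2011) (iv F9894)
theorem F13924 : act 5 n2899 = n2899 := d30_2 D2009 D2899 (iv D2899) (iv D2009) F7036
theorem F13925 : act 7 n2899 = n2899 := d32_2 F9896 D2899 (iv D2899)
theorem F13926 : act 9 n2899 = n2024 := d34_2 (iv F9897) D2899 (iv D2024)
def n2900 : Q := act 6 n2009
theorem D2900 : act 6 n2009 = n2900 := rfl
theorem F13927 : act 1 n2900 = n2900 := d13_1 D2900 (iv D2900) F9893
theorem F13928 : act 2 n2900 = n2012 := d20_1 D2900 (iv D2012) (iv F9894)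
theorem F13929 : act 3 n2900 = n2900 := d26_1 D2900 (iv D2900) F9895
theorem F13930 : act 5 n2900 = n2900 := d35_1 D2900 (iv D2900) (iv D2009) F7037 D2009
theorem F13931 : act 9 n2900 = n2025 := d41_2 (iv F9897) D2900 (iv D2025)
def n2901 : Q := act 8 n2009
theorem D2901 : act 8 n2009 = n2901 := rfl
theorem F13932 : act 1 n2901 = n2901 := d15_1 D2901 (iv D2901) F9893
theorem F13933 : act 2 n2901 = n2013 := d22_1 D2901 (iv D2013) (iv F9894)
theorem F13934 : act 5 n2901 = n2010 := d37_1 D2901 (iv D2010) D2009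
theorem F13935 : act 7 n2901 = n2901 := d42_1 D2901 (iv D2901) F9896
theorem F13936 : act 9 n2901 = n2901 := d44_2 (iv F9897) D2901 (iv D2901) F9897 F7091
def n2902 : Q := act 3 n2010
theorem D2902 : act 3 n2010 = n2902 := rfl
theorem F13937 : act 1 n2902 = n2902 := d10_1 D2902 (iv D2902) F9898
theorem F13938 : act 2 n2902 = n2902 := d17_1 D2902 (iv D2902) F9899 F7045 (iv F9899)
theorem F13939 : act 6 n2902 = n2902 := d26_2 F9901 D2902 (iv D2902)
theorem F13940 : act 7 n2902 = n2902 := d27_2 F9902 D2902 (iv D2902)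
theorem F13941 : act 8 n2902 = n2902 := d28_2 D2010 D2902 (iv D2902) (iv D2010) F7035
theorem F13942 : act 9 n2902 = n2902 := d29_2 F9903 D2902 (iv D2902)
def n2903 : Q := act 6 n2011
theorem D2903 : act 6 n2011 = n2903 := rfl
theorem F13943 : act 1 n2903 = n2015 := d13_1 D2903 (iv D2015) (iv F9904)
theorem F13944 : act 4 n2903 = n2012 := d31_1 D2903 (iv D2012) D2011
theorem F13945 : act 9 n2903 = n2026 := d41_2 (iv F9907) D2903 (iv D2026)
def n2904 : Q := act 8 n2011
theorem D2904 : act 8 n2011 = n2904 := rfl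
theorem F13946 : act 1 n2904 = n2016 := d15_1 D2904 (iv D2016) (iv F9904)
theorem F13947 : act 4 n2904 = n2013 := d33_1 D2904 (iv D2013) D2011
theorem F13948 : act 5 n2904 = n2904 := d37_1 D2904 (iv D2904) F9905
theorem F13949 : act 7 n2904 = n2904 := d42_1 D2904 (iv D2904) F9906
theorem F13950 : act 9 n2904 = n2904 := d44_2 (iv F9907) D2904 (iv D2904) F9907 F7095
def n2905 : Q := act 7 n2012
theorem D2905 : act 7 n2012 = n2905 := rfl
theorem F13951 : act 1 n2905 = n2017 := d14_1 D2905 (iv D2017) (iv F9908)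
theorem F13952 : act 3 n2905 = n2014 := d27_1 D2905 (iv D2014) (iv F9909)
theorem F13953 : act 5 n2905 = n2905 := d36_1 D2905 (iv D2905) F9910
theorem F13954 : act 6 n2905 = n2905 := d39_1 D2905 (iv D2905) (iv D2012) F7042 D2012
theorem F13955 : act 9 n2905 = n2027 := d43_2 (iv F9911) D2905 (iv D2027)
def n2906 : Q := act 8 n2012
theorem D2906 : act 8 n2012 = n2906 := rfl
theorem F13956 : act 1 n2906 = n2018 := d15_1 D2906 (iv D2018) (iv F9908)
theorem F13957 : act 3 n2906 = n2906 := d28_1 D2906 (iv D2906) F9909 F7053 (iv F9909)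
theorem F13958 : act 5 n2906 = n2906 := d37_1 D2906 (iv D2906) F9910
theorem F13959 : act 6 n2906 = n2013 := d40_1 D2906 (iv D2013) D2012
theorem F13960 : act 9 n2906 = n2906 := d44_2 (iv F9911) D2906 (iv D2906) F9911 F7099
def n2907 : Q := act 5 n2015
theorem D2907 : act 5 n2015 = n2907 := rfl
theorem F13961 : act 2 n2907 = n2907 := d19_1 D2907 (iv D2907) F9923
theorem F13962 : act 4 n2907 = n2907 := d30_1 D2907 (iv D2907) F9924 F7061 (iv F9924)
theorem F13963 : act 6 n2907 = n2907 := d35_2 D2015 D2907 (iv D2907) (iv D2015) F7056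
theorem F13964 : act 9 n2907 = n2028 := d38_2 (iv F9925) D2907 (iv D2028)
def n2908 : Q := act 7 n2015
theorem D2908 : act 7 n2015 = n2908 := rfl
theorem F13965 : act 2 n2908 = n2908 := d21_1 D2908 (iv D2908) F9923
theorem F13966 : act 4 n2908 = n2017 := d32_1 D2908 (iv D2017) (iv F9924)
theorem F13967 : act 6 n2908 = n2908 := d39_1 D2908 (iv D2908) (iv D2015) F7057 D2015
theorem F13968 : act 9 n2908 = n2029 := d43_2 (iv F9925) D2908 (iv D2029)
def n2909 : Q := act 8 n2015
theorem D2909 : act 8 n2015 = n2909 := rfl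
theorem F13969 : act 2 n2909 = n2909 := d22_1 D2909 (iv D2909) F9923
theorem F13970 : act 4 n2909 = n2018 := d33_1 D2909 (iv D2018) (iv F9924)
theorem F13971 : act 6 n2909 = n2016 := d40_1 D2909 (iv D2016) D2015
theorem F13972 : act 9 n2909 = n2909 := d44_2 (iv F9925) D2909 (iv D2909) F9925 F7107
def n2910 : Q := act 3 n2016
theorem D2910 : act 3 n2016 = n2910 := rfl
theorem F13973 : act 4 n2910 = n2910 := d24_2 (iv F9927) D2910 (iv D2910) F9927 F7064
theorem F13974 : act 5 n2910 = n2910 := d25_2 F9928 D2910 (iv D2910)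
theorem F13975 : act 7 n2910 = n2910 := d27_2 F9929 D2910 (iv D2910)
theorem F13976 : act 9 n2910 = n2910 := d29_2 F9930 D2910 (iv D2910)
def n2911 : Q := act 8 n2017
theorem D2911 : act 8 n2017 = n2911 := rfl
theorem F13977 : act 2 n2911 = n2911 := d22_1 D2911 (iv D2911) F9931
theorem F13978 : act 3 n2911 = n2911 := d28_1 D2911 (iv D2911) F9932 F7071 (iv F9932)
theorem F13979 : act 5 n2911 = n2911 := d37_1 D2911 (iv D2911) F9933
theorem F13980 : act 6 n2911 = n2911 := d40_1 D2911 (iv D2911) F9934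
theorem F13981 : act 7 n2911 = n2018 := d42_1 D2911 (iv D2018) D2017
theorem F13982 : act 9 n2911 = n2911 := d44_2 (iv F9935) D2911 (iv D2911) F9935 F7112
def n2912 : Q := act 5 n2019
theorem D2912 : act 5 n2019 = n2912 := rfl
theorem F13983 : act 0 n2912 = n2912 := d4_1 D2912 (iv D2912) F9941
theorem F13984 : act 1 n2912 = n2020 := d12_1 D2912 (iv D2020) D2019
theorem F13985 : act 3 n2912 = n2912 := d25_1 D2912 (iv D2912) F9942
theorem F13986 : act 7 n2912 = n2912 := d36_2 F9945 D2912 (iv D2912)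
theorem F13987 : act 8 n2912 = n2912 := d37_2 F9946 D2912 (iv D2912)
def n2913 : Q := act 4 n2020
theorem D2913 : act 4 n2020 = n2913 := rfl
theorem F13988 : act 0 n2913 = n2024 := d3_1 D2913 (iv D2024) (iv F9947)
theorem F13989 : act 2 n2913 = n2021 := d18_1 D2913 (iv D2021) (iv F9948)
theorem F13990 : act 5 n2913 = n2913 := d30_2 D2020 D2913 (iv D2913) (iv D2020) F7075
theorem F13991 : act 7 n2913 = n2913 := d32_2 F9950 D2913 (iv D2913)
theorem F13992 : act 8 n2913 = n2913 := d33_2 F9951 D2913 (iv D2913)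
def n2914 : Q := act 6 n2020
theorem D2914 : act 6 n2020 = n2914 := rfl
theorem F13993 : act 0 n2914 = n2025 := d5_1 D2914 (iv D2025) (iv F9947)
theorem F13994 : act 2 n2914 = n2022 := d20_1 D2914 (iv D2022) (iv F9948)
theorem F13995 : act 3 n2914 = n2914 := d26_1 D2914 (iv D2914) F9949
theorem F13996 : act 5 n2914 = n2914 := d35_1 D2914 (iv D2914) (iv D2020) F7076 D2020
theorem F13997 : act 8 n2914 = n2914 := d40_2 F9951 D2914 (iv D2914)
def n2915 : Q := act 6 n2021
theorem D2915 : act 6 n2021 = n2915 := rfl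
theorem F13998 : act 0 n2915 = n2026 := d5_1 D2915 (iv D2026) (iv F9952)
theorem F13999 : act 4 n2915 = n2022 := d31_1 D2915 (iv D2022) D2021
theorem F14000 : act 8 n2915 = n2915 := d40_2 F9955 D2915 (iv D2915)
def n2916 : Q := act 7 n2022
theorem D2916 : act 7 n2022 = n2916 := rfl
theorem F14001 : act 0 n2916 = n2027 := d6_1 D2916 (iv D2027) (iv F9956)
theorem F14002 : act 3 n2916 = n2023 := d27_1 D2916 (iv D2023) (iv F9957)
theorem F14003 : act 5 n2916 = n2916 := d36_1 D2916 (iv D2916) F9958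
theorem F14004 : act 6 n2916 = n2916 := d39_1 D2916 (iv D2916) (iv D2022) F7081 D2022
theorem F14005 : act 8 n2916 = n2916 := d42_2 F9959 D2916 (iv D2916)
def n2917 : Q := act 3 n2024
theorem D2917 : act 3 n2024 = n2917 := rfl
theorem F14006 : act 1 n2917 = n2917 := d10_1 D2917 (iv D2917) F9965
theorem F14007 : act 4 n2917 = n2917 := d24_2 D2024 D2917 (iv D2917) (iv D2024) F7089
theorem F14008 : act 5 n2917 = n2917 := d25_2 F9967 D2917 (iv D2917)
theorem F14009 : act 7 n2917 = n2917 := d27_2 F9968 D2917 (iv D2917)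
def n2918 : Q := act 6 n2024
theorem D2918 : act 6 n2024 = n2918 := rfl
theorem F14010 : act 1 n2918 = n2918 := d13_1 D2918 (iv D2918) F9965
theorem F14011 : act 2 n2918 = n2026 := d20_1 D2918 (iv D2026) (iv F9966)
theorem F14012 : act 4 n2918 = n2025 := d31_1 D2918 (iv D2025) D2024
theorem F14013 : act 8 n2918 = n2918 := d40_2 F9969 D2918 (iv D2918)
def n2919 : Q := act 7 n2025
theorem D2919 : act 7 n2025 = n2919 := rfl
theorem F14014 : act 1 n2919 = n2919 := d14_1 D2919 (iv D2919) F9970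
theorem F14015 : act 2 n2919 = n2027 := d21_1 D2919 (iv D2027) (iv F9971)
theorem F14016 : act 3 n2919 = n2919 := d27_1 D2919 (iv D2919) F9972
theorem F14017 : act 5 n2919 = n2919 := d36_1 D2919 (iv D2919) F9973
theorem F14018 : act 6 n2919 = n2919 := d39_1 D2919 (iv D2919) (iv D2025) F7090 D2025
theorem F14019 : act 8 n2919 = n2919 := d42_2 F9974 D2919 (iv D2919)
def n2920 : Q := act 5 n2026
theorem D2920 : act 5 n2026 = n2920 := rfl
theorem F14020 : act 1 n2920 = n2028 := d12_1 D2920 (iv D2028) (iv F9975)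
theorem F14021 : act 4 n2920 = n2920 := d30_1 D2920 (iv D2920) F9976 F7098 (iv F9976)
theorem F14022 : act 6 n2920 = n2920 := d35_2 D2026 D2920 (iv D2920) (iv D2026) F7093
theorem F14023 : act 8 n2920 = n2920 := d37_2 F9977 D2920 (iv D2920)
def n2921 : Q := act 7 n2026
theorem D2921 : act 7 n2026 = n2921 := rfl
theorem F14024 : act 1 n2921 = n2029 := d14_1 D2921 (iv D2029) (iv F9975)
theorem F14025 : act 4 n2921 = n2027 := d32_1 D2921 (iv D2027) (iv F9976)
theorem F14026 : act 6 n2921 = n2921 := d39_1 D2921 (iv D2921) (iv D2026) F7094 D2026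
theorem F14027 : act 8 n2921 = n2921 := d42_2 F9977 D2921 (iv D2921)
def n2922 : Q := act 7 n2028
theorem D2922 : act 7 n2028 = n2922 := rfl
theorem F14028 : act 2 n2922 = n2922 := d21_1 D2922 (iv D2922) F9983
theorem F14029 : act 4 n2922 = n2922 := d32_1 D2922 (iv D2922) F9984
theorem F14030 : act 5 n2922 = n2029 := d36_1 D2922 (iv D2029) D2028
theorem F14031 : act 8 n2922 = n2922 := d42_2 F9986 D2922 (iv D2922)
def n2923 : Q := act 2 n2030
theorem D2923 : act 2 n2030 = n2923 := rfl
theorem F14034 : act 4 n2923 = n2073 := d18_2 (iv F9992) D2923 (iv D2073)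
theorem F14036 : act 7 n2923 = n2041 := d21_2 (iv F9994) D2923 (iv D2041)
def n2924 : Q := act 5 n2030
theorem D2924 : act 5 n2030 = n2924 := rfl
theorem F14038 : act 0 n2924 = n2033 := d4_1 D2924 (iv D2033) (iv F9991)
theorem F14039 : act 3 n2924 = n2031 := d25_1 D2924 (iv D2031) D2030
theorem F14040 : act 7 n2924 = n2042 := d36_2 (iv F9994) D2924 (iv D2042)
theorem F14041 : act 9 n2924 = n2924 := d38_2 F9995 D2924 (iv D2924)
def n2925 : Q := act 8 n2030
theorem D2925 : act 8 n2030 = n2925 := rfl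
theorem F14043 : act 4 n2925 = n2075 := d33_1 D2925 (iv D2075) (iv F9992)
def n2926 : Q := act 6 n2031
theorem D2926 : act 6 n2031 = n2926 := rfl
theorem F14046 : act 0 n2926 = n2035 := d5_1 D2926 (iv D2035) (iv F9996)
theorem F14047 : act 2 n2926 = n2926 := d20_1 D2926 (iv D2926) F9997
theorem F14048 : act 4 n2926 = n2926 := d31_1 D2926 (iv D2926) F9998
theorem F14049 : act 5 n2926 = n2926 := d35_1 D2926 (iv D2926) (iv D2031) F7115 D2031
theorem F14050 : act 9 n2926 = n2926 := d41_2 F10000 D2926 (iv D2926)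
def n2927 : Q := act 5 n2032
theorem D2927 : act 5 n2032 = n2927 := rfl
theorem F14052 : act 2 n2927 = n2033 := d19_1 D2927 (iv D2033) D2032
theorem F14054 : act 7 n2927 = n2045 := d36_2 (iv F10005) D2927 (iv D2045)
def n2928 : Q := act 8 n2032
theorem D2928 : act 8 n2032 = n2928 := rfl
theorem F14057 : act 2 n2928 = n2034 := d22_1 D2928 (iv D2034) D2032
theorem F14058 : act 4 n2928 = n2078 := d33_1 D2928 (iv D2078) (iv F10003)
theorem F14060 : act 7 n2928 = n2046 := d42_1 D2928 (iv D2046) (iv F10005)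
def n2929 : Q := act 4 n2033
theorem D2929 : act 4 n2033 = n2929 := rfl
theorem F14061 : act 1 n2929 = n2036 := d11_1 D2929 (iv D2036) (iv F10007)
theorem F14062 : act 3 n2929 = n2929 := d24_1 D2929 (iv D2929) F10008 F7125 (iv F10008)
theorem F14063 : act 5 n2929 = n2079 := d30_2 D2033 D2929 (iv D2079) (iv D1445) (iv F7119)
theorem F14064 : act 7 n2929 = n2047 := d32_2 (iv F10009) D2929 (iv D2047)
theorem F14065 : act 9 n2929 = n2929 := d34_2 F10010 D2929 (iv D2929)
def n2930 : Q := act 6 n2033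
theorem D2930 : act 6 n2033 = n2930 := rfl
theorem F14066 : act 1 n2930 = n2037 := d13_1 D2930 (iv D2037) (iv F10007)
theorem F14067 : act 3 n2930 = n2035 := d26_1 D2930 (iv D2035) (iv F10008)
theorem F14068 : act 5 n2930 = n2930 := d35_1 D2930 (iv D2930) (iv D2033) F7120 D2033
theorem F14069 : act 9 n2930 = n2930 := d41_2 F10010 D2930 (iv D2930)
def n2931 : Q := act 8 n2033
theorem D2931 : act 8 n2033 = n2931 := rfl
theorem F14070 : act 1 n2931 = n2038 := d15_1 D2931 (iv D2038) (iv F10007)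
def n2932 : Q := act 9 n2034
theorem D2932 : act 9 n2034 = n2932 := rfl
theorem F14073 : act 1 n2932 = n2039 := d16_1 D2932 (iv D2039) (iv F10011)
theorem F14074 : act 4 n2932 = n2082 := d34_1 D2932 (iv D2082) (iv F10012)
def n2933 : Q := act 7 n2035
theorem D2933 : act 7 n2035 = n2933 := rfl
theorem F14078 : act 1 n2933 = n2040 := d14_1 D2933 (iv D2040) (iv F10015)
theorem F14079 : act 2 n2933 = n2933 := d21_1 D2933 (iv D2933) F10016
theorem F14080 : act 4 n2933 = n2933 := d32_1 D2933 (iv D2933) F10017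
theorem F14081 : act 5 n2933 = n2933 := d36_1 D2933 (iv D2933) F10018
theorem F14082 : act 6 n2933 = n2051 := d39_1 D2933 (iv D2051) (iv D1422) (iv F7126) D2035
theorem F14083 : act 9 n2933 = n2933 := d43_2 F10019 D2933 (iv D2933)
def n2934 : Q := act 6 n2036
theorem D2934 : act 6 n2036 = n2934 := rfl
theorem F14084 : act 2 n2934 = n2934 := d20_1 D2934 (iv D2934) F10020
theorem F14085 : act 3 n2934 = n2934 := d26_1 D2934 (iv D2934) F10021
theorem F14086 : act 4 n2934 = n2037 := d31_1 D2934 (iv D2037) D2036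
theorem F14087 : act 9 n2934 = n2934 := d41_2 F10024 D2934 (iv D2934)
def n2935 : Q := act 8 n2036
theorem D2935 : act 8 n2036 = n2935 := rfl
theorem F14088 : act 2 n2935 = n2935 := d22_1 D2935 (iv D2935) F10020
theorem F14089 : act 4 n2935 = n2038 := d33_1 D2935 (iv D2038) D2036
theorem F14090 : act 5 n2935 = n2084 := d37_1 D2935 (iv D2084) (iv F10022)
theorem F14091 : act 7 n2935 = n2053 := d42_1 D2935 (iv D2053) (iv F10023)
def n2936 : Q := act 7 n2037
theorem D2936 : act 7 n2037 = n2936 := rfl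
theorem F14092 : act 2 n2936 = n2936 := d21_1 D2936 (iv D2936) F10025
theorem F14093 : act 3 n2936 = n2040 := d27_1 D2936 (iv D2040) (iv F10026)
theorem F14094 : act 5 n2936 = n2936 := d36_1 D2936 (iv D2936) F10027
theorem F14095 : act 6 n2936 = n2054 := d39_1 D2936 (iv D2054) (iv D1424) (iv F7130) D2037
theorem F14096 : act 9 n2936 = n2936 := d43_2 F10028 D2936 (iv D2936)
def n2937 : Q := act 8 n2037
theorem D2937 : act 8 n2037 = n2937 := rfl
theorem F14097 : act 2 n2937 = n2937 := d22_1 D2937 (iv D2937) F10025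
theorem F14098 : act 5 n2937 = n2937 := d37_1 D2937 (iv D2937) F10027
theorem F14099 : act 6 n2937 = n2038 := d40_1 D2937 (iv D2038) D2037
def n2938 : Q := act 9 n2038
theorem D2938 : act 9 n2038 = n2938 := rfl
def n2939 : Q := act 1 n2041
theorem D2939 : act 1 n2041 = n2939 := rfl
def n2940 : Q := act 5 n2041
theorem D2940 : act 5 n2041 = n2940 := rfl
theorem F14109 : act 0 n2940 = n2045 := d4_1 D2940 (iv D2045) (iv F10042)
theorem F14110 : act 2 n2940 = n2042 := d19_1 D2940 (iv D2042) D2041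
def n2941 : Q := act 8 n2041
theorem D2941 : act 8 n2041 = n2941 := rfl
theorem F14114 : act 2 n2941 = n2043 := d22_1 D2941 (iv D2043) D2041
theorem F14115 : act 4 n2941 = n2089 := d33_1 D2941 (iv D2089) (iv F10044)
def n2942 : Q := act 4 n2042
theorem D2942 : act 4 n2042 = n2942 := rfl
theorem F14117 : act 0 n2942 = n2047 := d3_1 D2942 (iv D2047) (iv F10047)
theorem F14118 : act 3 n2942 = n2942 := d24_1 D2942 (iv D2942) F10048 F7152 (iv F10048)
theorem F14119 : act 5 n2942 = n2090 := d30_2 D2042 D2942 (iv D2090) (iv D1453) (iv F7147)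
theorem F14120 : act 9 n2942 = n2942 := d34_2 F10049 D2942 (iv D2942)
def n2943 : Q := act 6 n2042
theorem D2943 : act 6 n2042 = n2943 := rfl
theorem F14121 : act 0 n2943 = n2048 := d5_1 D2943 (iv D2048) (iv F10047)
theorem F14122 : act 3 n2943 = n2044 := d26_1 D2943 (iv D2044) (iv F10048)
theorem F14123 : act 5 n2943 = n2060 := d35_1 D2943 (iv D2060) (iv D1429) (iv F7148) D2042
theorem F14124 : act 9 n2943 = n2943 := d41_2 F10049 D2943 (iv D2943)
def n2944 : Q := act 8 n2042
theorem D2944 : act 8 n2042 = n2944 := rfl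
def n2945 : Q := act 9 n2043
theorem D2945 : act 9 n2043 = n2945 := rfl
theorem F14128 : act 4 n2945 = n2092 := d34_1 D2945 (iv D2092) (iv F10051)
theorem F14129 : act 6 n2945 = n2062 := d41_1 D2945 (iv D2062) (iv F10052)
def n2946 : Q := act 7 n2044
theorem D2946 : act 7 n2044 = n2946 := rfl
theorem F14131 : act 0 n2946 = n2051 := d6_1 D2946 (iv D2051) (iv F10053)
theorem F14132 : act 2 n2946 = n2946 := d21_1 D2946 (iv D2946) F10054
theorem F14133 : act 4 n2946 = n2946 := d32_1 D2946 (iv D2946) F10055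
theorem F14134 : act 5 n2946 = n2063 := d36_1 D2946 (iv D2063) (iv F10056)
theorem F14135 : act 9 n2946 = n2946 := d43_2 F10057 D2946 (iv D2946)
def n2947 : Q := act 4 n2045
theorem D2947 : act 4 n2045 = n2947 := rfl
theorem F14137 : act 2 n2947 = n2047 := d18_1 D2947 (iv D2047) (iv F10059)
theorem F14138 : act 5 n2947 = n2093 := d30_2 D2045 D2947 (iv D2093) (iv D1455) (iv F7156)
def n2948 : Q := act 6 n2045
theorem D2948 : act 6 n2045 = n2948 := rfl
theorem F14141 : act 2 n2948 = n2048 := d20_1 D2948 (iv D2048) (iv F10059)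
theorem F14143 : act 5 n2948 = n2064 := d35_1 D2948 (iv D2064) (iv D1432) (iv F7157) D2045
def n2949 : Q := act 8 n2045
theorem D2949 : act 8 n2045 = n2949 := rfl
theorem F14146 : act 2 n2949 = n2049 := d22_1 D2949 (iv D2049) (iv F10059)
def n2950 : Q := act 3 n2046
theorem D2950 : act 3 n2046 = n2950 := rfl
def n2951 : Q := act 9 n2046
theorem D2951 : act 9 n2046 = n2951 := rfl
theorem F14152 : act 2 n2951 = n2050 := d23_1 D2951 (iv D2050) (iv F10063)
def n2952 : Q := act 6 n2047
theorem D2952 : act 6 n2047 = n2952 := rfl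
theorem F14156 : act 1 n2952 = n2052 := d13_1 D2952 (iv D2052) (iv F10066)
theorem F14157 : act 3 n2952 = n2952 := d26_1 D2952 (iv D2952) F10067
theorem F14158 : act 4 n2952 = n2048 := d31_1 D2952 (iv D2048) D2047
theorem F14159 : act 5 n2952 = n2952 := d35_1 D2952 (iv D2952) F10068 F7320 (iv F10068)
theorem F14160 : act 9 n2952 = n2952 := d41_2 F10069 D2952 (iv D2952)
def n2953 : Q := act 8 n2047
theorem D2953 : act 8 n2047 = n2953 := rfl
theorem F14161 : act 1 n2953 = n2053 := d15_1 D2953 (iv D2053) (iv F10066)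
theorem F14162 : act 4 n2953 = n2049 := d33_1 D2953 (iv D2049) D2047
theorem F14163 : act 5 n2953 = n2097 := d37_1 D2953 (iv D2097) (iv F10068)
def n2954 : Q := act 7 n2048
theorem D2954 : act 7 n2048 = n2954 := rfl
theorem F14164 : act 1 n2954 = n2054 := d14_1 D2954 (iv D2054) (iv F10070)
theorem F14165 : act 3 n2954 = n2051 := d27_1 D2954 (iv D2051) (iv F10071)
theorem F14166 : act 5 n2954 = n2068 := d36_1 D2954 (iv D2068) (iv F10072)
theorem F14167 : act 9 n2954 = n2954 := d43_2 F10073 D2954 (iv D2954)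
def n2955 : Q := act 8 n2048
theorem D2955 : act 8 n2048 = n2955 := rfl
theorem F14168 : act 1 n2955 = n2055 := d15_1 D2955 (iv D2055) (iv F10070)
def n2956 : Q := act 9 n2049
theorem D2956 : act 9 n2049 = n2956 := rfl
theorem F14171 : act 1 n2956 = n2056 := d16_1 D2956 (iv D2056) (iv F10074)
def n2957 : Q := act 7 n2052
theorem D2957 : act 7 n2052 = n2957 := rfl
theorem F14174 : act 2 n2957 = n2957 := d21_1 D2957 (iv D2957) F10085
theorem F14175 : act 3 n2957 = n2957 := d27_1 D2957 (iv D2957) F10086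
theorem F14176 : act 4 n2957 = n2054 := d32_1 D2957 (iv D2054) (iv F10087)
theorem F14177 : act 5 n2957 = n2957 := d36_1 D2957 (iv D2957) F10088
theorem F14178 : act 9 n2957 = n2957 := d43_2 F10089 D2957 (iv D2957)
def n2958 : Q := act 8 n2052
theorem D2958 : act 8 n2052 = n2958 := rfl
theorem F14179 : act 2 n2958 = n2958 := d22_1 D2958 (iv D2958) F10085
theorem F14180 : act 4 n2958 = n2055 := d33_1 D2958 (iv D2055) (iv F10087)
theorem F14181 : act 5 n2958 = n2958 := d37_1 D2958 (iv D2958) F10088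
theorem F14182 : act 6 n2958 = n2053 := d40_1 D2958 (iv D2053) D2052
def n2959 : Q := act 3 n2053
theorem D2959 : act 3 n2053 = n2959 := rfl
theorem F14183 : act 5 n2959 = n2099 := d25_2 (iv F10092) D2959 (iv D2099)
theorem F14184 : act 8 n2959 = n2959 := d28_2 D2053 D2959 (iv D2959) (iv D2053) F7171
def n2961 : Q := act 8 n2054
theorem D2961 : act 8 n2054 = n2961 := rfl
theorem F14189 : act 2 n2961 = n2961 := d22_1 D2961 (iv D2961) F10093
theorem F14190 : act 5 n2961 = n2071 := d37_1 D2961 (iv D2071) (iv F10095)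
theorem F14191 : act 7 n2961 = n2055 := d42_1 D2961 (iv D2055) D2054
def n2962 : Q := act 9 n2055
theorem D2962 : act 9 n2055 = n2962 := rfl
def n2965 : Q := act 6 n2058
theorem D2965 : act 6 n2058 = n2965 := rfl
def n2969 : Q := act 7 n2060
theorem D2969 : act 7 n2060 = n2969 := rfl
theorem F14224 : act 0 n2969 = n2068 := d6_1 D2969 (iv D2068) (iv F10118)
theorem F14225 : act 3 n2969 = n2063 := d27_1 D2969 (iv D2063) (iv F10119)
theorem F14226 : act 4 n2969 = n2969 := d32_1 D2969 (iv D2969) F10120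
theorem F14227 : act 6 n2969 = n2969 := d39_1 D2969 (iv D2969) (iv D2060) F7196 D2060
theorem F14228 : act 9 n2969 = n2969 := d43_2 F10121 D2969 (iv D2969)
def n2970 : Q := act 8 n2060
theorem D2970 : act 8 n2060 = n2970 := rfl
def n2971 : Q := act 9 n2061
theorem D2971 : act 9 n2061 = n2971 := rfl
theorem F14234 : act 5 n2971 = n2062 := d38_1 D2971 (iv D2062) (iv F10124)
def n2972 : Q := act 7 n2064
theorem D2972 : act 7 n2064 = n2972 := rfl
theorem F14238 : act 2 n2972 = n2068 := d21_1 D2972 (iv D2068) (iv F10136)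
def n2973 : Q := act 8 n2064
theorem D2973 : act 8 n2064 = n2973 := rfl
theorem F14244 : act 2 n2973 = n2069 := d22_1 D2973 (iv D2069) (iv F10136)
def n2975 : Q := act 9 n2065
theorem D2975 : act 9 n2065 = n2975 := rfl
theorem F14252 : act 2 n2975 = n2070 := d23_1 D2975 (iv D2070) (iv F10141)
def n2978 : Q := act 8 n2068
theorem D2978 : act 8 n2068 = n2978 := rfl
def n2980 : Q := act 9 n2071
theorem D2980 : act 9 n2071 = n2980 := rfl
def n2981 : Q := act 1 n2073
theorem D2981 : act 1 n2073 = n2981 := rfl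
def n2982 : Q := act 5 n2073
theorem D2982 : act 5 n2073 = n2982 := rfl
theorem F14283 : act 2 n2982 = n2074 := d19_1 D2982 (iv D2074) D2073
theorem F14284 : act 3 n2982 = n2107 := d25_1 D2982 (iv D2107) (iv F10175)
def n2983 : Q := act 8 n2073
theorem D2983 : act 8 n2073 = n2983 := rfl
theorem F14290 : act 7 n2983 = n2089 := d42_1 D2983 (iv D2089) (iv F10177)
def n2984 : Q := act 4 n2074
theorem D2984 : act 4 n2074 = n2984 := rfl
theorem F14291 : act 0 n2984 = n2079 := d3_1 D2984 (iv D2079) (iv F10179)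
theorem F14292 : act 3 n2984 = n2984 := d24_1 D2984 (iv D2984) F10180 F7257 (iv F10180)
theorem F14293 : act 7 n2984 = n2090 := d32_2 (iv F10181) D2984 (iv D2090)
theorem F14294 : act 9 n2984 = n2984 := d34_2 F10182 D2984 (iv D2984)
def n2985 : Q := act 6 n2074
theorem D2985 : act 6 n2074 = n2985 := rfl
theorem F14295 : act 0 n2985 = n2080 := d5_1 D2985 (iv D2080) (iv F10179)
theorem F14296 : act 3 n2985 = n2076 := d26_1 D2985 (iv D2076) (iv F10180)
theorem F14297 : act 5 n2985 = n2985 := d35_1 D2985 (iv D2985) (iv D2074) F7252 D2074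
theorem F14298 : act 7 n2985 = n2985 := d39_2 (iv F10181) D2985 (iv D2985) F10181 F7305
theorem F14299 : act 9 n2985 = n2985 := d41_2 F10182 D2985 (iv D2985)
def n2986 : Q := act 8 n2074
theorem D2986 : act 8 n2074 = n2986 := rfl
theorem F14302 : act 5 n2986 = n2075 := d37_1 D2986 (iv D2075) D2074
def n2988 : Q := act 4 n2077
theorem D2988 : act 4 n2077 = n2988 := rfl
theorem F14309 : act 1 n2988 = n2988 := d11_1 D2988 (iv D2988) F10194
theorem F14310 : act 2 n2988 = n2079 := d18_1 D2988 (iv D2079) (iv F10195)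
def n2989 : Q := act 6 n2077
theorem D2989 : act 6 n2077 = n2989 := rfl
theorem F14314 : act 2 n2989 = n2080 := d20_1 D2989 (iv D2080) (iv F10195)
theorem F14315 : act 3 n2989 = n2114 := d26_1 D2989 (iv D2114) (iv F10196)
def n2990 : Q := act 8 n2077
theorem D2990 : act 8 n2077 = n2990 := rfl
theorem F14321 : act 5 n2990 = n2078 := d37_1 D2990 (iv D2078) D2077
def n2991 : Q := act 3 n2078
theorem D2991 : act 3 n2078 = n2991 := rfl
theorem F14326 : act 7 n2991 = n2095 := d27_2 (iv F10202) D2991 (iv D2095)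
theorem F14327 : act 8 n2991 = n2116 := d28_2 D2078 D2991 (iv D2116) (iv D1472) (iv F7262)
def n2992 : Q := act 9 n2078
theorem D2992 : act 9 n2078 = n2992 := rfl
def n2993 : Q := act 6 n2079
theorem D2993 : act 6 n2079 = n2993 := rfl
theorem F14333 : act 1 n2993 = n2083 := d13_1 D2993 (iv D2083) (iv F10203)
theorem F14334 : act 3 n2993 = n2993 := d26_1 D2993 (iv D2993) F10204
theorem F14335 : act 4 n2993 = n2080 := d31_1 D2993 (iv D2080) D2079
theorem F14336 : act 7 n2993 = n2993 := d39_2 (iv F10205) D2993 (iv D2993) F10205 F7320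
theorem F14337 : act 9 n2993 = n2993 := d41_2 F10206 D2993 (iv D2993)
def n2994 : Q := act 8 n2079
theorem D2994 : act 8 n2079 = n2994 := rfl
theorem F14338 : act 1 n2994 = n2084 := d15_1 D2994 (iv D2084) (iv F10203)
def n2995 : Q := act 8 n2080
theorem D2995 : act 8 n2080 = n2995 := rfl
theorem F14342 : act 3 n2995 = n2995 := d28_1 D2995 (iv D2995) F10208 F7279 (iv F10208)
theorem F14344 : act 6 n2995 = n2081 := d40_1 D2995 (iv D2081) D2080
def n2996 : Q := act 9 n2081
theorem D2996 : act 9 n2081 = n2996 := rfl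
theorem F14348 : act 5 n2996 = n2082 := d38_1 D2996 (iv D2082) (iv F10214)
def n2997 : Q := act 5 n2083
theorem D2997 : act 5 n2083 = n2997 := rfl
theorem F14351 : act 2 n2997 = n2997 := d19_1 D2997 (iv D2997) F10221
theorem F14352 : act 3 n2997 = n2997 := d25_1 D2997 (iv D2997) F10222
theorem F14353 : act 4 n2997 = n2997 := d30_1 D2997 (iv D2997) F10223 F7287 (iv F10223)
theorem F14354 : act 7 n2997 = n2997 := d36_2 F10224 D2997 (iv D2997)
theorem F14355 : act 9 n2997 = n2997 := d38_2 F10225 D2997 (iv D2997)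
def n2998 : Q := act 8 n2083
theorem D2998 : act 8 n2083 = n2998 := rfl
theorem F14356 : act 2 n2998 = n2998 := d22_1 D2998 (iv D2998) F10221
theorem F14357 : act 4 n2998 = n2085 := d33_1 D2998 (iv D2085) (iv F10223)
theorem F14358 : act 6 n2998 = n2084 := d40_1 D2998 (iv D2084) D2083
theorem F14359 : act 7 n2998 = n2998 := d42_1 D2998 (iv D2998) F10224
def n2999 : Q := act 3 n2084
theorem D2999 : act 3 n2084 = n2999 := rfl
theorem F14360 : act 4 n2999 = n2999 := d24_2 (iv F10227) D2999 (iv D2999) F10227 F7291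
theorem F14361 : act 7 n2999 = n2099 := d27_2 (iv F10228) D2999 (iv D2099)
theorem F14362 : act 8 n2999 = n2999 := d28_2 D2084 D2999 (iv D2999) (iv D2084) F7282
def n3005 : Q := act 8 n2088
theorem D3005 : act 8 n2088 = n3005 := rfl
theorem F14387 : act 5 n3005 = n2089 := d37_1 D3005 (iv D2089) D2088
def n3006 : Q := act 3 n2089
theorem D3006 : act 3 n2089 = n3006 := rfl
theorem F14391 : act 6 n3006 = n2102 := d26_2 (iv F10250) D3006 (iv D2102)
theorem F14392 : act 8 n3006 = n2131 := d28_2 D2089 D3006 (iv D2131) (iv D1483) (iv F7300)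
def n3007 : Q := act 9 n2089
theorem D3007 : act 9 n2089 = n3007 := rfl
theorem F14395 : act 6 n3007 = n2103 := d41_1 D3007 (iv D2103) (iv F10250)
def n3008 : Q := act 8 n2090
theorem D3008 : act 8 n2090 = n3008 := rfl
def n3009 : Q := act 9 n2091
theorem D3009 : act 9 n2091 = n3009 := rfl
theorem F14402 : act 5 n3009 = n2092 := d38_1 D3009 (iv D2092) (iv F10257)
def n3011 : Q := act 8 n2093
theorem D3011 : act 8 n2093 = n3011 := rfl
theorem F14412 : act 4 n3011 = n2094 := d33_1 D3011 (iv D2094) D2093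
def n3012 : Q := act 3 n2094
theorem D3012 : act 3 n2094 = n3012 := rfl
theorem F14416 : act 5 n3012 = n2095 := d25_2 (iv F10269) D3012 (iv D2095)
theorem F14418 : act 8 n3012 = n2137 := d28_2 D2094 D3012 (iv D2137) (iv D1488) (iv F7312)
def n3014 : Q := act 4 n2095
theorem D3014 : act 4 n2095 = n3014 := rfl
def n3015 : Q := act 9 n2095
theorem D3015 : act 9 n2095 = n3015 := rfl
theorem F14431 : act 6 n3015 = n2105 := d41_1 D3015 (iv D2105) (iv F10273)
def n3016 : Q := act 3 n2097
theorem D3016 : act 3 n2097 = n3016 := rfl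
theorem F14432 : act 1 n3016 = n2099 := d10_1 D3016 (iv D2099) (iv F10279)
def n3018 : Q := act 2 n2099
theorem D3018 : act 2 n2099 = n3018 := rfl
theorem F14440 : act 3 n3018 = n3018 := d17_2 D2099 D3018 (iv D3018) (iv D2099) F7330
theorem F14441 : act 4 n3018 = n3018 := d18_2 F10287 D3018 (iv D3018)
theorem F14442 : act 6 n3018 = n3018 := d20_2 F10288 D3018 (iv D3018)
theorem F14443 : act 8 n3018 = n3018 := d22_2 F10289 D3018 (iv D3018)
def n3019 : Q := act 9 n2099
theorem D3019 : act 9 n2099 = n3019 := rfl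
def n3022 : Q := act 4 n2102
theorem D3022 : act 4 n2102 = n3022 := rfl
def n3023 : Q := act 9 n2102
theorem D3023 : act 9 n2102 = n3023 := rfl
def n3026 : Q := act 8 n2105
theorem D3026 : act 8 n2105 = n3026 := rfl
theorem F14480 : act 9 n3026 = n2151 := d44_2 D2105 D3026 (iv D2151) (iv D1499) (iv F7356)
def n3029 : Q := act 4 n2107
theorem D3029 : act 4 n2107 = n3029 := rfl
theorem F14493 : act 2 n3029 = n2109 := d18_1 D3029 (iv D2109) (iv F10324)
def n3030 : Q := act 6 n2107
theorem D3030 : act 6 n2107 = n3030 := rfl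
theorem F14498 : act 2 n3030 = n2110 := d20_1 D3030 (iv D2110) (iv F10324)
def n3031 : Q := act 8 n2107
theorem D3031 : act 8 n2107 = n3031 := rfl
theorem F14503 : act 2 n3031 = n2111 := d22_1 D3031 (iv D2111) (iv F10324)
def n3032 : Q := act 3 n2108
theorem D3032 : act 3 n2108 = n3032 := rfl
def n3034 : Q := act 6 n2109
theorem D3034 : act 6 n2109 = n3034 := rfl
theorem F14516 : act 0 n3034 = n2118 := d5_1 D3034 (iv D2118) (iv F10332)
theorem F14517 : act 1 n3034 = n3034 := d13_1 D3034 (iv D3034) F10333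
theorem F14518 : act 3 n3034 = n3034 := d26_1 D3034 (iv D3034) F10334
theorem F14519 : act 4 n3034 = n2110 := d31_1 D3034 (iv D2110) D2109
theorem F14520 : act 7 n3034 = n3034 := d39_2 (iv F10336) D3034 (iv D3034) F10336 F7454
theorem F14521 : act 9 n3034 = n3034 := d41_2 F10337 D3034 (iv D3034)
def n3035 : Q := act 8 n2109
theorem D3035 : act 8 n2109 = n3035 := rfl
theorem F14524 : act 4 n3035 = n2111 := d33_1 D3035 (iv D2111) D2109
def n3036 : Q := act 8 n2110
theorem D3036 : act 8 n2110 = n3036 := rfl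
def n3038 : Q := act 3 n2113
theorem D3038 : act 3 n2113 = n3038 := rfl
theorem F14539 : act 1 n3038 = n3038 := d10_1 D3038 (iv D3038) F10356
theorem F14540 : act 2 n3038 = n3038 := d17_1 D3038 (iv D3038) F10357 F7395 (iv F10357)
theorem F14543 : act 9 n3038 = n3038 := d29_2 F10360 D3038 (iv D3038)
def n3039 : Q := act 6 n2113
theorem D3039 : act 6 n2113 = n3039 := rfl
theorem F14545 : act 2 n3039 = n2118 := d20_1 D3039 (iv D2118) (iv F10357)
theorem F14546 : act 4 n3039 = n2114 := d31_1 D3039 (iv D2114) D2113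
def n3040 : Q := act 8 n2113
theorem D3040 : act 8 n2113 = n3040 := rfl
theorem F14550 : act 2 n3040 = n2119 := d22_1 D3040 (iv D2119) (iv F10357)
theorem F14551 : act 4 n3040 = n2115 := d33_1 D3040 (iv D2115) D2113
def n3041 : Q := act 8 n2114
theorem D3041 : act 8 n2114 = n3041 := rfl
theorem F14555 : act 2 n3041 = n2120 := d22_1 D3041 (iv D2120) (iv F10362)
def n3042 : Q := act 3 n2115
theorem D3042 : act 3 n2115 = n3042 := rfl
def n3046 : Q := act 5 n2118
theorem D3046 : act 5 n2118 = n3046 := rfl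
theorem F14578 : act 1 n3046 = n2122 := d12_1 D3046 (iv D2122) (iv F10380)
theorem F14579 : act 3 n3046 = n3046 := d25_1 D3046 (iv D3046) F10381
theorem F14580 : act 4 n3046 = n3046 := d30_1 D3046 (iv D3046) F10382 F7401 (iv F10382)
theorem F14581 : act 6 n3046 = n3046 := d35_2 D2118 D3046 (iv D3046) (iv D2118) F7396
theorem F14582 : act 7 n3046 = n3046 := d36_2 F10383 D3046 (iv D3046)
theorem F14583 : act 9 n3046 = n3046 := d38_2 F10384 D3046 (iv D3046)
def n3047 : Q := act 8 n2118
theorem D3047 : act 8 n2118 = n3047 := rfl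
theorem F14584 : act 1 n3047 = n2123 := d15_1 D3047 (iv D2123) (iv F10380)
theorem F14585 : act 4 n3047 = n2120 := d33_1 D3047 (iv D2120) (iv F10382)
def n3048 : Q := act 3 n2119
theorem D3048 : act 3 n2119 = n3048 := rfl
theorem F14588 : act 1 n3048 = n2124 := d10_1 D3048 (iv D2124) (iv F10385)
def n3051 : Q := act 8 n2122
theorem D3051 : act 8 n2122 = n3051 := rfl
theorem F14604 : act 0 n3051 = n3051 := d7_1 D3051 (iv D3051) F10399
theorem F14605 : act 2 n3051 = n3051 := d22_1 D3051 (iv D3051) F10400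
theorem F14606 : act 4 n3051 = n3051 := d33_1 D3051 (iv D3051) F10402
theorem F14607 : act 5 n3051 = n2123 := d37_1 D3051 (iv D2123) D2122
theorem F14608 : act 6 n3051 = n3051 := d40_1 D3051 (iv D3051) F10403
theorem F14609 : act 7 n3051 = n3051 := d42_1 D3051 (iv D3051) F10404
def n3052 : Q := act 3 n2123
theorem D3052 : act 3 n2123 = n3052 := rfl
theorem F14610 : act 0 n3052 = n3052 := d2_1 D3052 (iv D3052) F10406
theorem F14611 : act 4 n3052 = n3052 := d24_2 (iv F10408) D3052 (iv D3052) F10408 F7427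
theorem F14612 : act 6 n3052 = n2124 := d26_2 (iv F10409) D3052 (iv D2124)
theorem F14613 : act 7 n3052 = n3052 := d27_2 F10410 D3052 (iv D3052)
theorem F14614 : act 8 n3052 = n3052 := d28_2 D2123 D3052 (iv D3052) (iv D2123) F7416
def n3053 : Q := act 9 n2123
theorem D3053 : act 9 n2123 = n3053 := rfl
theorem F14616 : act 2 n3053 = n3053 := d23_1 D3053 (iv D3053) F10407
theorem F14620 : act 8 n3053 = n3053 := d44_1 D3053 (iv D3053) (iv D2123) F7419 D2123
def n3054 : Q := act 2 n2124
theorem D3054 : act 2 n2124 = n3054 := rfl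
theorem F14621 : act 0 n3054 = n3054 := d1_1 D3054 (iv D3054) F10411
theorem F14622 : act 3 n3054 = n3054 := d17_2 D2124 D3054 (iv D3054) (iv D2124) F7421
theorem F14623 : act 4 n3054 = n3054 := d18_2 F10412 D3054 (iv D3054)
theorem F14624 : act 5 n3054 = n3054 := d19_2 F10413 D3054 (iv D3054)
theorem F14625 : act 7 n3054 = n2143 := d21_2 (iv F10414) D3054 (iv D2143)
theorem F14626 : act 8 n3054 = n3054 := d22_2 F10415 D3054 (iv D3054)
def n3055 : Q := act 9 n2124
theorem D3055 : act 9 n2124 = n3055 := rfl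
def n3062 : Q := act 3 n2130
theorem D3062 : act 3 n2130 = n3062 := rfl
def n3069 : Q := act 3 n2136
theorem D3069 : act 3 n2136 = n3069 := rfl
def n3071 : Q := act 4 n2137
theorem D3071 : act 4 n2137 = n3071 := rfl
def n3072 : Q := act 9 n2137
theorem D3072 : act 9 n2137 = n3072 := rfl
theorem F14709 : act 3 n3072 = n2138 := d29_1 D3072 (iv D2138) D2137
def n3075 : Q := act 8 n2140
theorem D3075 : act 8 n2140 = n3075 := rfl
def n3076 : Q := act 2 n2141
theorem D3076 : act 2 n2141 = n3076 := rfl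
def n3078 : Q := act 1 n2143
theorem D3078 : act 1 n2143 = n3078 := rfl
def n3079 : Q := act 9 n2143
theorem D3079 : act 9 n2143 = n3079 := rfl
theorem F14739 : act 2 n3079 = n2144 := d23_1 D3079 (iv D2144) D2143
def n3090 : Q := act 5 n2152
theorem D3090 : act 5 n2152 = n3090 := rfl
theorem F14793 : act 0 n3090 = n3090 := d4_1 D3090 (iv D3090) F10550
theorem F14794 : act 1 n3090 = n3090 := d12_1 D3090 (iv D3090) F10551
theorem F14795 : act 2 n3090 = n3090 := d19_1 D3090 (iv D3090) F10552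
theorem F14796 : act 3 n3090 = n3090 := d25_1 D3090 (iv D3090) F10553
theorem F14797 : act 4 n3090 = n3090 := d30_1 D3090 (iv D3090) F10554 F7547 (iv F10554)
theorem F14798 : act 6 n3090 = n3090 := d35_2 D2152 D3090 (iv D3090) (iv D2152) F7534
theorem F14799 : act 7 n3090 = n3090 := d36_2 F10555 D3090 (iv D3090)
theorem F14800 : act 8 n3090 = n3090 := d37_2 F10556 D3090 (iv D3090)
def n3091 : Q := act 9 n2152
theorem D3091 : act 9 n2152 = n3091 := rfl
theorem F14801 : act 0 n3091 = n3091 := d8_1 D3091 (iv D3091) F10550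
theorem F14802 : act 1 n3091 = n3091 := d16_1 D3091 (iv D3091) F10551
theorem F14803 : act 2 n3091 = n3091 := d23_1 D3091 (iv D3091) F10552
theorem F14804 : act 3 n3091 = n3091 := d29_1 D3091 (iv D3091) F10553
theorem F14805 : act 4 n3091 = n2155 := d34_1 D3091 (iv D2155) (iv F10554)
theorem F14806 : act 6 n3091 = n2153 := d41_1 D3091 (iv D2153) D2152
theorem F14807 : act 7 n3091 = n3091 := d43_1 D3091 (iv D3091) F10555
def n3092 : Q := act 8 n2153
theorem D3092 : act 8 n2153 = n3092 := rfl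
theorem F14808 : act 0 n3092 = n3092 := d7_1 D3092 (iv D3092) F10557
theorem F14809 : act 1 n3092 = n3092 := d15_1 D3092 (iv D3092) F10558
theorem F14810 : act 2 n3092 = n3092 := d22_1 D3092 (iv D3092) F10559
theorem F14811 : act 4 n3092 = n2156 := d33_1 D3092 (iv D2156) (iv F10561)
theorem F14812 : act 5 n3092 = n3092 := d37_1 D3092 (iv D3092) F10562
theorem F14813 : act 7 n3092 = n2154 := d42_1 D3092 (iv D2154) (iv F10563)
theorem F14814 : act 9 n3092 = n3092 := d44_2 D2153 D3092 (iv D3092) (iv D2153) F7535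
def n3093 : Q := act 3 n2154
theorem D3093 : act 3 n2154 = n3093 := rfl
theorem F14815 : act 0 n3093 = n3093 := d2_1 D3093 (iv D3093) F10564
theorem F14816 : act 1 n3093 = n3093 := d10_1 D3093 (iv D3093) F10565
theorem F14817 : act 5 n3093 = n3093 := d25_2 F10568 D3093 (iv D3093)
theorem F14818 : act 6 n3093 = n3093 := d26_2 F10569 D3093 (iv D3093)
theorem F14819 : act 8 n3093 = n3093 := d28_2 D2154 D3093 (iv D3093) (iv D2154) F7539
theorem F14820 : act 9 n3093 = n3093 := d29_2 F10570 D3093 (iv D3093)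
def n3094 : Q := act 8 n2155
theorem D3094 : act 8 n2155 = n3094 := rfl
theorem F14821 : act 0 n3094 = n3094 := d7_1 D3094 (iv D3094) F10571
theorem F14822 : act 1 n3094 = n3094 := d15_1 D3094 (iv D3094) F10572
theorem F14823 : act 2 n3094 = n3094 := d22_1 D3094 (iv D3094) F10573
theorem F14824 : act 5 n3094 = n3094 := d37_1 D3094 (iv D3094) F10575
theorem F14825 : act 6 n3094 = n2156 := d40_1 D3094 (iv D2156) (iv F10576)
theorem F14826 : act 7 n3094 = n3094 := d42_1 D3094 (iv D3094) F10577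
theorem F14827 : act 9 n3094 = n3094 := d44_2 D2155 D3094 (iv D3094) (iv D2155) F7549
def n3095 : Q := act 3 n2156
theorem D3095 : act 3 n2156 = n3095 := rfl
theorem F14828 : act 0 n3095 = n3095 := d2_1 D3095 (iv D3095) F10578
theorem F14829 : act 1 n3095 = n3095 := d10_1 D3095 (iv D3095) F10579
theorem F14830 : act 5 n3095 = n2158 := d25_2 (iv F10581) D3095 (iv D2158)
theorem F14831 : act 7 n3095 = n2157 := d27_2 (iv F10582) D3095 (iv D2157)
theorem F14832 : act 8 n3095 = n2167 := d28_2 D2156 D3095 (iv D2167) (iv D1512) (iv F7553)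
theorem F14833 : act 9 n3095 = n3095 := d29_2 F10583 D3095 (iv D3095)
def n3096 : Q := act 2 n2157
theorem D3096 : act 2 n2157 = n3096 := rfl
theorem F14834 : act 0 n3096 = n3096 := d1_1 D3096 (iv D3096) F10584
theorem F14835 : act 3 n3096 = n3096 := d17_2 D2157 D3096 (iv D3096) (iv D2157) F7558
theorem F14836 : act 5 n3096 = n2159 := d19_2 (iv F10586) D3096 (iv D2159)
theorem F14837 : act 6 n3096 = n3096 := d20_2 F10587 D3096 (iv D3096)
theorem F14838 : act 8 n3096 = n2169 := d22_2 (iv F10588) D3096 (iv D2169)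
theorem F14839 : act 9 n3096 = n3096 := d23_2 F10589 D3096 (iv D3096)
def n3097 : Q := act 4 n2157
theorem D3097 : act 4 n2157 = n3097 := rfl
theorem F14840 : act 0 n3097 = n3097 := d3_1 D3097 (iv D3097) F10584
theorem F14841 : act 1 n3097 = n3097 := d11_1 D3097 (iv D3097) F10585
theorem F14842 : act 6 n3097 = n3097 := d31_2 F10587 D3097 (iv D3097)
theorem F14843 : act 8 n3097 = n2170 := d33_2 (iv F10588) D3097 (iv D2170)
theorem F14844 : act 9 n3097 = n3097 := d34_2 F10589 D3097 (iv D3097)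
def n3098 : Q := act 2 n2158
theorem D3098 : act 2 n2158 = n3098 := rfl
theorem F14845 : act 0 n3098 = n3098 := d1_1 D3098 (iv D3098) F10590
theorem F14846 : act 3 n3098 = n3098 := d17_2 D2158 D3098 (iv D3098) (iv D2158) F7564
theorem F14847 : act 6 n3098 = n3098 := d20_2 F10592 D3098 (iv D3098)
theorem F14848 : act 7 n3098 = n2159 := d21_2 (iv F10593) D3098 (iv D2159)
theorem F14849 : act 8 n3098 = n2172 := d22_2 (iv F10594) D3098 (iv D2172)
theorem F14850 : act 9 n3098 = n3098 := d23_2 F10595 D3098 (iv D3098)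
def n3099 : Q := act 4 n2158
theorem D3099 : act 4 n2158 = n3099 := rfl
theorem F14851 : act 0 n3099 = n3099 := d3_1 D3099 (iv D3099) F10590
theorem F14852 : act 1 n3099 = n3099 := d11_1 D3099 (iv D3099) F10591
theorem F14853 : act 3 n3099 = n3099 := d24_1 D3099 (iv D3099) (iv D2158) F7565 D2158
theorem F14854 : act 6 n3099 = n3099 := d31_2 F10592 D3099 (iv D3099)
theorem F14855 : act 7 n3099 = n2160 := d32_2 (iv F10593) D3099 (iv D2160)
theorem F14856 : act 8 n3099 = n2173 := d33_2 (iv F10594) D3099 (iv D2173)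
theorem F14857 : act 9 n3099 = n3099 := d34_2 F10595 D3099 (iv D3099)
def n3100 : Q := act 1 n2159
theorem D3100 : act 1 n2159 = n3100 := rfl
theorem F14858 : act 2 n3100 = n3100 := d9_2 D2159 D3100 (iv D3100) (iv D2159) F7570
theorem F14859 : act 3 n3100 = n3100 := d10_2 F10597 D3100 (iv D3100)
theorem F14860 : act 6 n3100 = n2161 := d13_2 (iv F10598) D3100 (iv D2161)
theorem F14861 : act 8 n3100 = n2176 := d15_2 (iv F10599) D3100 (iv D2176)
theorem F14862 : act 9 n3100 = n3100 := d16_2 F10600 D3100 (iv D3100)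
def n3101 : Q := act 4 n2159
theorem D3101 : act 4 n2159 = n3101 := rfl
theorem F14863 : act 0 n3101 = n3101 := d3_1 D3101 (iv D3101) F10596
theorem F14864 : act 2 n3101 = n2160 := d18_1 D3101 (iv D2160) D2159
theorem F14865 : act 6 n3101 = n2162 := d31_2 (iv F10598) D3101 (iv D2162)
theorem F14866 : act 8 n3101 = n2177 := d33_2 (iv F10599) D3101 (iv D2177)
theorem F14867 : act 9 n3101 = n3101 := d34_2 F10600 D3101 (iv D3101)
def n3102 : Q := act 5 n2160
theorem D3102 : act 5 n2160 = n3102 := rfl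
theorem F14868 : act 0 n3102 = n3102 := d4_1 D3102 (iv D3102) F10601
theorem F14869 : act 1 n3102 = n3102 := d12_1 D3102 (iv D3102) F10602
theorem F14870 : act 3 n3102 = n3102 := d25_1 D3102 (iv D3102) F10603
theorem F14871 : act 8 n3102 = n2178 := d37_2 (iv F10605) D3102 (iv D2178)
theorem F14872 : act 9 n3102 = n3102 := d38_2 F10606 D3102 (iv D3102)
def n3103 : Q := act 0 n2161
theorem D3103 : act 0 n2161 = n3103 := rfl
theorem F14873 : act 1 n3103 = n3103 := d0_2 D2161 D3103 (iv D3103) (iv D2161) F7574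
theorem F14874 : act 2 n3103 = n3103 := d1_2 F10607 D3103 (iv D3103)
theorem F14875 : act 3 n3103 = n3103 := d2_2 F10608 D3103 (iv D3103)
theorem F14876 : act 5 n3103 = n3103 := d4_2 F10609 D3103 (iv D3103)
theorem F14877 : act 7 n3103 = n3103 := d6_2 F10610 D3103 (iv D3103)
theorem F14878 : act 8 n3103 = n2182 := d7_2 (iv F10611) D3103 (iv D2182)
theorem F14879 : act 9 n3103 = n3103 := d8_2 F10612 D3103 (iv D3103)
def n3104 : Q := act 4 n2161
theorem D3104 : act 4 n2161 = n3104 := rfl
theorem F14880 : act 1 n3104 = n2162 := d11_1 D3104 (iv D2162) D2161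
theorem F14881 : act 2 n3104 = n3104 := d18_1 D3104 (iv D3104) F10607
theorem F14882 : act 7 n3104 = n3104 := d32_2 F10610 D3104 (iv D3104)
theorem F14883 : act 8 n3104 = n2183 := d33_2 (iv F10611) D3104 (iv D2183)
theorem F14884 : act 9 n3104 = n3104 := d34_2 F10612 D3104 (iv D3104)
def n3105 : Q := act 3 n2162
theorem D3105 : act 3 n2162 = n3105 := rfl
theorem F14885 : act 0 n3105 = n3105 := d2_1 D3105 (iv D3105) F10613
theorem F14886 : act 2 n3105 = n3105 := d17_1 D3105 (iv D3105) F10614 F7582 (iv F10614)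
theorem F14887 : act 4 n3105 = n3105 := d24_2 D2162 D3105 (iv D3105) (iv D2162) F7575
theorem F14888 : act 7 n3105 = n3105 := d27_2 F10615 D3105 (iv D3105)
theorem F14889 : act 9 n3105 = n3105 := d29_2 F10617 D3105 (iv D3105)
def n3106 : Q := act 5 n2162
theorem D3106 : act 5 n2162 = n3106 := rfl
theorem F14890 : act 0 n3106 = n3106 := d4_1 D3106 (iv D3106) F10613
theorem F14891 : act 2 n3106 = n2163 := d19_1 D3106 (iv D2163) (iv F10614)
theorem F14892 : act 4 n3106 = n3106 := d30_1 D3106 (iv D3106) (iv D2162) F7576 D2162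
theorem F14893 : act 7 n3106 = n3106 := d36_2 F10615 D3106 (iv D3106)
theorem F14894 : act 8 n3106 = n2185 := d37_2 (iv F10616) D3106 (iv D2185)
theorem F14895 : act 9 n3106 = n3106 := d38_2 F10617 D3106 (iv D3106)
def n3107 : Q := act 6 n2163
theorem D3107 : act 6 n2163 = n3107 := rfl
theorem F14896 : act 0 n3107 = n3107 := d5_1 D3107 (iv D3107) F10618
theorem F14897 : act 1 n3107 = n3107 := d13_1 D3107 (iv D3107) F10619
theorem F14898 : act 3 n3107 = n3107 := d26_1 D3107 (iv D3107) F10620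
theorem F14899 : act 4 n3107 = n3107 := d31_1 D3107 (iv D3107) F10621
theorem F14900 : act 8 n3107 = n2186 := d40_2 (iv F10623) D3107 (iv D2186)
theorem F14901 : act 9 n3107 = n3107 := d41_2 F10624 D3107 (iv D3107)
def n3108 : Q := act 8 n2164
theorem D3108 : act 8 n2164 = n3108 := rfl
theorem F14902 : act 0 n3108 = n3108 := d7_1 D3108 (iv D3108) F10625
theorem F14903 : act 1 n3108 = n3108 := d15_1 D3108 (iv D3108) F10626
theorem F14904 : act 2 n3108 = n2246 := d22_1 D3108 (iv D2246) (iv F10627)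
theorem F14905 : act 4 n3108 = n3108 := d33_1 D3108 (iv D3108) F10629
theorem F14906 : act 5 n3108 = n3108 := d37_1 D3108 (iv D3108) F10630
theorem F14907 : act 6 n3108 = n2166 := d40_1 D3108 (iv D2166) (iv F10631)
theorem F14908 : act 7 n3108 = n3108 := d42_1 D3108 (iv D3108) F10632
theorem F14909 : act 9 n3108 = n2165 := d44_2 D2164 D3108 (iv D2165) (iv D1510) D1509
def n3109 : Q := act 3 n2165
theorem D3109 : act 3 n2165 = n3109 := rfl
theorem F14910 : act 0 n3109 = n3109 := d2_1 D3109 (iv D3109) F10633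
theorem F14911 : act 1 n3109 = n3109 := d10_1 D3109 (iv D3109) F10634
theorem F14912 : act 5 n3109 = n3109 := d25_2 F10637 D3109 (iv D3109)
theorem F14913 : act 6 n3109 = n2167 := d26_2 (iv F10638) D3109 (iv D2167)
theorem F14914 : act 7 n3109 = n3109 := d27_2 F10639 D3109 (iv D3109)
def n3110 : Q := act 3 n2166
theorem D3110 : act 3 n2166 = n3110 := rfl
theorem F14915 : act 0 n3110 = n3110 := d2_1 D3110 (iv D3110) F10640
theorem F14916 : act 1 n3110 = n3110 := d10_1 D3110 (iv D3110) F10641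
theorem F14917 : act 5 n3110 = n2171 := d25_2 (iv F10644) D3110 (iv D2171)
theorem F14918 : act 7 n3110 = n2168 := d27_2 (iv F10645) D3110 (iv D2168)
theorem F14919 : act 8 n3110 = n3110 := d28_2 D2166 D3110 (iv D3110) (iv D2166) F7604
theorem F14920 : act 9 n3110 = n2167 := d29_2 (iv F10646) D3110 (iv D2167)
def n3111 : Q := act 2 n2167
theorem D3111 : act 2 n2167 = n3111 := rfl
theorem F14921 : act 0 n3111 = n3111 := d1_1 D3111 (iv D3111) F10647
theorem F14922 : act 3 n3111 = n2251 := d17_2 D2167 D3111 (iv D2251) (iv D1568) (iv F7610)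
theorem F14923 : act 5 n3111 = n2172 := d19_2 (iv F10649) D3111 (iv D2172)
theorem F14924 : act 7 n3111 = n2169 := d21_2 (iv F10650) D3111 (iv D2169)
def n3112 : Q := act 4 n2167
theorem D3112 : act 4 n2167 = n3112 := rfl
theorem F14925 : act 0 n3112 = n3112 := d3_1 D3112 (iv D3112) F10647
theorem F14926 : act 1 n3112 = n3112 := d11_1 D3112 (iv D3112) F10648
theorem F14927 : act 3 n3112 = n3112 := d24_1 D3112 (iv D3112) (iv D2167) F7611 D2167
theorem F14928 : act 7 n3112 = n2170 := d32_2 (iv F10650) D3112 (iv D2170)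
def n3113 : Q := act 2 n2168
theorem D3113 : act 2 n2168 = n3113 := rfl
theorem F14929 : act 0 n3113 = n3113 := d1_1 D3113 (iv D3113) F10651
theorem F14930 : act 3 n3113 = n2255 := d17_2 D2168 D3113 (iv D2255) (iv D1571) (iv F7616)
theorem F14931 : act 5 n3113 = n2174 := d19_2 (iv F10653) D3113 (iv D2174)
theorem F14932 : act 6 n3113 = n3113 := d20_2 F10654 D3113 (iv D3113)
theorem F14933 : act 8 n3113 = n3113 := d22_2 F10655 D3113 (iv D3113)
theorem F14934 : act 9 n3113 = n2169 := d23_2 (iv F10656) D3113 (iv D2169)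
def n3114 : Q := act 4 n2168
theorem D3114 : act 4 n2168 = n3114 := rfl
theorem F14935 : act 0 n3114 = n3114 := d3_1 D3114 (iv D3114) F10651
theorem F14936 : act 1 n3114 = n3114 := d11_1 D3114 (iv D3114) F10652
theorem F14937 : act 3 n3114 = n3114 := d24_1 D3114 (iv D3114) (iv D2168) F7617 D2168
theorem F14938 : act 6 n3114 = n3114 := d31_2 F10654 D3114 (iv D3114)
theorem F14939 : act 8 n3114 = n3114 := d33_2 F10655 D3114 (iv D3114)
theorem F14940 : act 9 n3114 = n2170 := d34_2 (iv F10656) D3114 (iv D2170)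
def n3115 : Q := act 1 n2169
theorem D3115 : act 1 n2169 = n3115 := rfl
theorem F14941 : act 2 n3115 = n3115 := d9_2 D2169 D3115 (iv D3115) (iv D2169) F7622
theorem F14942 : act 3 n3115 = n2257 := d10_2 (iv F10658) D3115 (iv D2257)
theorem F14943 : act 5 n3115 = n2176 := d12_2 (iv F10659) D3115 (iv D2176)
theorem F14944 : act 6 n3115 = n3115 := d13_2 F10660 D3115 (iv D3115)
def n3116 : Q := act 4 n2169
theorem D3116 : act 4 n2169 = n3116 := rfl
theorem F14945 : act 0 n3116 = n3116 := d3_1 D3116 (iv D3116) F10657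
theorem F14946 : act 2 n3116 = n2170 := d18_1 D3116 (iv D2170) D2169
theorem F14947 : act 6 n3116 = n3116 := d31_2 F10660 D3116 (iv D3116)
def n3117 : Q := act 5 n2170
theorem D3117 : act 5 n2170 = n3117 := rfl
theorem F14948 : act 0 n3117 = n3117 := d4_1 D3117 (iv D3117) F10661
theorem F14949 : act 1 n3117 = n3117 := d12_1 D3117 (iv D3117) F10662
theorem F14950 : act 3 n3117 = n3117 := d25_1 D3117 (iv D3117) F10663
theorem F14951 : act 4 n3117 = n2178 := d30_1 D3117 (iv D2178) (iv D1519) (iv F7623) D2170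
def n3118 : Q := act 2 n2171
theorem D3118 : act 2 n2171 = n3118 := rfl
theorem F14952 : act 0 n3118 = n3118 := d1_1 D3118 (iv D3118) F10665
theorem F14953 : act 3 n3118 = n2261 := d17_2 D2171 D3118 (iv D2261) (iv D1575) (iv F7627)
theorem F14954 : act 6 n3118 = n3118 := d20_2 F10667 D3118 (iv D3118)
theorem F14955 : act 7 n3118 = n2174 := d21_2 (iv F10668) D3118 (iv D2174)
theorem F14956 : act 8 n3118 = n3118 := d22_2 F10669 D3118 (iv D3118)
theorem F14957 : act 9 n3118 = n2172 := d23_2 (iv F10670) D3118 (iv D2172)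
def n3119 : Q := act 4 n2171
theorem D3119 : act 4 n2171 = n3119 := rfl
theorem F14958 : act 0 n3119 = n3119 := d3_1 D3119 (iv D3119) F10665
theorem F14959 : act 1 n3119 = n3119 := d11_1 D3119 (iv D3119) F10666
theorem F14960 : act 3 n3119 = n2189 := d24_1 D3119 (iv D2189) (iv D1526) (iv F7628) D2171
theorem F14961 : act 6 n3119 = n3119 := d31_2 F10667 D3119 (iv D3119)
theorem F14962 : act 7 n3119 = n2175 := d32_2 (iv F10668) D3119 (iv D2175)
theorem F14963 : act 8 n3119 = n3119 := d33_2 F10669 D3119 (iv D3119)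
theorem F14964 : act 9 n3119 = n2173 := d34_2 (iv F10670) D3119 (iv D2173)
def n3120 : Q := act 1 n2172
theorem D3120 : act 1 n2172 = n3120 := rfl
theorem F14965 : act 2 n3120 = n3120 := d9_2 D2172 D3120 (iv D3120) (iv D2172) F7633
theorem F14966 : act 3 n3120 = n2263 := d10_2 (iv F10672) D3120 (iv D2263)
theorem F14967 : act 6 n3120 = n3120 := d13_2 F10673 D3120 (iv D3120)
theorem F14968 : act 7 n3120 = n2176 := d14_2 (iv F10674) D3120 (iv D2176)
def n3121 : Q := act 4 n2172
theorem D3121 : act 4 n2172 = n3121 := rfl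
theorem F14969 : act 0 n3121 = n3121 := d3_1 D3121 (iv D3121) F10671
theorem F14970 : act 2 n3121 = n2173 := d18_1 D3121 (iv D2173) D2172
theorem F14971 : act 6 n3121 = n3121 := d31_2 F10673 D3121 (iv D3121)
theorem F14972 : act 7 n3121 = n2177 := d32_2 (iv F10674) D3121 (iv D2177)
def n3122 : Q := act 5 n2173
theorem D3122 : act 5 n2173 = n3122 := rfl
theorem F14973 : act 0 n3122 = n3122 := d4_1 D3122 (iv D3122) F10675
theorem F14974 : act 1 n3122 = n3122 := d12_1 D3122 (iv D3122) F10676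
theorem F14975 : act 3 n3122 = n2192 := d25_1 D3122 (iv D2192) (iv F10677)
theorem F14976 : act 7 n3122 = n2178 := d36_2 (iv F10679) D3122 (iv D2178)
def n3123 : Q := act 1 n2174
theorem D3123 : act 1 n2174 = n3123 := rfl
theorem F14977 : act 2 n3123 = n3123 := d9_2 D2174 D3123 (iv D3123) (iv D2174) F7637
theorem F14978 : act 3 n3123 = n2268 := d10_2 (iv F10681) D3123 (iv D2268)
theorem F14979 : act 6 n3123 = n2179 := d13_2 (iv F10682) D3123 (iv D2179)
theorem F14980 : act 8 n3123 = n3123 := d15_2 F10683 D3123 (iv D3123)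
theorem F14981 : act 9 n3123 = n2176 := d16_2 (iv F10684) D3123 (iv D2176)
def n3124 : Q := act 4 n2174
theorem D3124 : act 4 n2174 = n3124 := rfl
theorem F14982 : act 0 n3124 = n3124 := d3_1 D3124 (iv D3124) F10680
theorem F14983 : act 2 n3124 = n2175 := d18_1 D3124 (iv D2175) D2174
theorem F14984 : act 6 n3124 = n2180 := d31_2 (iv F10682) D3124 (iv D2180)
theorem F14985 : act 8 n3124 = n3124 := d33_2 F10683 D3124 (iv D3124)
theorem F14986 : act 9 n3124 = n2177 := d34_2 (iv F10684) D3124 (iv D2177)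
def n3125 : Q := act 5 n2175
theorem D3125 : act 5 n2175 = n3125 := rfl
theorem F14987 : act 0 n3125 = n3125 := d4_1 D3125 (iv D3125) F10685
theorem F14988 : act 1 n3125 = n3125 := d12_1 D3125 (iv D3125) F10686
theorem F14989 : act 3 n3125 = n2197 := d25_1 D3125 (iv D2197) (iv F10687)
theorem F14990 : act 8 n3125 = n3125 := d37_2 F10689 D3125 (iv D3125)
theorem F14991 : act 9 n3125 = n2178 := d38_2 (iv F10690) D3125 (iv D2178)
def n3126 : Q := act 0 n2176
theorem D3126 : act 0 n2176 = n3126 := rfl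
theorem F14992 : act 1 n3126 = n3126 := d0_2 D2176 D3126 (iv D3126) (iv D2176) F7641
theorem F14993 : act 2 n3126 = n3126 := d1_2 F10691 D3126 (iv D3126)
theorem F14994 : act 3 n3126 = n2271 := d2_2 (iv F10692) D3126 (iv D2271)
theorem F14995 : act 6 n3126 = n2182 := d5_2 (iv F10693) D3126 (iv D2182)
def n3127 : Q := act 4 n2176
theorem D3127 : act 4 n2176 = n3127 := rfl
theorem F14996 : act 1 n3127 = n2177 := d11_1 D3127 (iv D2177) D2176
theorem F14997 : act 2 n3127 = n3127 := d18_1 D3127 (iv D3127) F10691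
theorem F14998 : act 6 n3127 = n2183 := d31_2 (iv F10693) D3127 (iv D2183)
def n3128 : Q := act 3 n2177
theorem D3128 : act 3 n2177 = n3128 := rfl
theorem F14999 : act 0 n3128 = n3128 := d2_1 D3128 (iv D3128) F10694
theorem F15000 : act 2 n3128 = n2200 := d17_1 D3128 (iv D2200) F7718 (iv F7646) (iv F10695)
theorem F15001 : act 4 n3128 = n2273 := d24_2 D2177 D3128 (iv D2273) (iv D1582) (iv F7642)
theorem F15002 : act 6 n3128 = n2184 := d26_2 (iv F10696) D3128 (iv D2184)
def n3129 : Q := act 5 n2177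
theorem D3129 : act 5 n2177 = n3129 := rfl
theorem F15003 : act 0 n3129 = n3129 := d4_1 D3129 (iv D3129) F10694
theorem F15004 : act 2 n3129 = n2178 := d19_1 D3129 (iv D2178) (iv F10695)
def n3130 : Q := act 6 n2178
theorem D3130 : act 6 n2178 = n3130 := rfl
theorem F15005 : act 0 n3130 = n3130 := d5_1 D3130 (iv D3130) F10697
theorem F15006 : act 1 n3130 = n3130 := d13_1 D3130 (iv D3130) F10698
theorem F15007 : act 3 n3130 = n2202 := d26_1 D3130 (iv D2202) (iv F10699)
theorem F15008 : act 5 n3130 = n2186 := d35_1 D3130 (iv D2186) (iv D1524) (iv F7647) D2178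
def n3131 : Q := act 0 n2179
theorem D3131 : act 0 n2179 = n3131 := rfl
theorem F15011 : act 3 n3131 = n2279 := d2_2 (iv F10701) D3131 (iv D2279)
theorem F15015 : act 9 n3131 = n2182 := d8_2 (iv F10705) D3131 (iv D2182)
def n3132 : Q := act 4 n2179
theorem D3132 : act 4 n2179 = n3132 := rfl
theorem F15016 : act 1 n3132 = n2180 := d11_1 D3132 (iv D2180) D2179
theorem F15017 : act 2 n3132 = n3132 := d18_1 D3132 (iv D3132) F10700
theorem F15018 : act 7 n3132 = n3132 := d32_2 F10703 D3132 (iv D3132)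
theorem F15019 : act 8 n3132 = n3132 := d33_2 F10704 D3132 (iv D3132)
theorem F15020 : act 9 n3132 = n2183 := d34_2 (iv F10705) D3132 (iv D2183)
def n3133 : Q := act 3 n2180
theorem D3133 : act 3 n2180 = n3133 := rfl
theorem F15021 : act 0 n3133 = n3133 := d2_1 D3133 (iv D3133) F10706
theorem F15022 : act 2 n3133 = n2208 := d17_1 D3133 (iv D2208) F7743 (iv F7656) (iv F10707)
theorem F15023 : act 4 n3133 = n2281 := d24_2 D2180 D3133 (iv D2281) (iv D1587) (iv F7649)
theorem F15024 : act 7 n3133 = n3133 := d27_2 F10708 D3133 (iv D3133)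
theorem F15025 : act 9 n3133 = n2184 := d29_2 (iv F10710) D3133 (iv D2184)
def n3134 : Q := act 5 n2180
theorem D3134 : act 5 n2180 = n3134 := rfl
theorem F15026 : act 0 n3134 = n3134 := d4_1 D3134 (iv D3134) F10706
theorem F15027 : act 2 n3134 = n2181 := d19_1 D3134 (iv D2181) (iv F10707)
theorem F15028 : act 4 n3134 = n3134 := d30_1 D3134 (iv D3134) (iv D2180) F7650 D2180
theorem F15029 : act 7 n3134 = n3134 := d36_2 F10708 D3134 (iv D3134)
theorem F15030 : act 8 n3134 = n3134 := d37_2 F10709 D3134 (iv D3134)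
theorem F15031 : act 9 n3134 = n2185 := d38_2 (iv F10710) D3134 (iv D2185)
def n3135 : Q := act 6 n2181
theorem D3135 : act 6 n2181 = n3135 := rfl
theorem F15032 : act 0 n3135 = n3135 := d5_1 D3135 (iv D3135) F10711
theorem F15033 : act 1 n3135 = n3135 := d13_1 D3135 (iv D3135) F10712
theorem F15034 : act 3 n3135 = n2210 := d26_1 D3135 (iv D2210) (iv F10713)
theorem F15035 : act 4 n3135 = n3135 := d31_1 D3135 (iv D3135) F10714
theorem F15036 : act 8 n3135 = n3135 := d40_2 F10716 D3135 (iv D3135)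
theorem F15037 : act 9 n3135 = n2186 := d41_2 (iv F10717) D3135 (iv D2186)
def n3136 : Q := act 4 n2182
theorem D3136 : act 4 n2182 = n3136 := rfl
theorem F15038 : act 0 n3136 = n2183 := d3_1 D3136 (iv D2183) D2182
theorem F15039 : act 1 n3136 = n3136 := d11_1 D3136 (iv D3136) F10718
theorem F15040 : act 2 n3136 = n3136 := d18_1 D3136 (iv D3136) F10719
theorem F15041 : act 7 n3136 = n3136 := d32_2 F10722 D3136 (iv D3136)
def n3137 : Q := act 3 n2183
theorem D3137 : act 3 n2183 = n3137 := rfl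
theorem F15042 : act 1 n3137 = n2184 := d10_1 D3137 (iv D2184) (iv F10723)
theorem F15043 : act 4 n3137 = n2285 := d24_2 D2183 D3137 (iv D2285) (iv D1590) (iv F7661)
theorem F15044 : act 7 n3137 = n3137 := d27_2 F10725 D3137 (iv D3137)
def n3138 : Q := act 5 n2183
theorem D3138 : act 5 n2183 = n3138 := rfl
theorem F15045 : act 1 n3138 = n2185 := d12_1 D3138 (iv D2185) (iv F10723)
theorem F15046 : act 2 n3138 = n3138 := d19_1 D3138 (iv D3138) F10724
theorem F15047 : act 4 n3138 = n3138 := d30_1 D3138 (iv D3138) (iv D2183) F7662 D2183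
theorem F15048 : act 7 n3138 = n3138 := d36_2 F10725 D3138 (iv D3138)
def n3139 : Q := act 5 n2184
theorem D3139 : act 5 n2184 = n3139 := rfl
theorem F15049 : act 0 n3139 = n3139 := d4_1 D3139 (iv D3139) F10726
theorem F15050 : act 2 n3139 = n2214 := d19_1 D3139 (iv D2214) (iv F10727)
theorem F15051 : act 3 n3139 = n2185 := d25_1 D3139 (iv D2185) D2184
theorem F15052 : act 7 n3139 = n3139 := d36_2 F10729 D3139 (iv D3139)
def n3140 : Q := act 8 n2184
theorem D3140 : act 8 n2184 = n3140 := rfl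
theorem F15053 : act 0 n3140 = n3140 := d7_1 D3140 (iv D3140) F10726
theorem F15054 : act 2 n3140 = n2215 := d22_1 D3140 (iv D2215) (iv F10727)
theorem F15055 : act 4 n3140 = n2288 := d33_1 D3140 (iv D2288) (iv F10728)
theorem F15056 : act 7 n3140 = n3140 := d42_1 D3140 (iv D3140) F10729
def n3141 : Q := act 6 n2185
theorem D3141 : act 6 n2185 = n3141 := rfl
theorem F15057 : act 0 n3141 = n3141 := d5_1 D3141 (iv D3141) F10730
theorem F15058 : act 2 n3141 = n2186 := d20_1 D3141 (iv D2186) (iv F10731)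
theorem F15059 : act 4 n3141 = n3141 := d31_1 D3141 (iv D3141) F10732
def n3142 : Q := act 7 n2186
theorem D3142 : act 7 n2186 = n3142 := rfl
theorem F15060 : act 0 n3142 = n3142 := d6_1 D3142 (iv D3142) F10734
theorem F15061 : act 1 n3142 = n3142 := d14_1 D3142 (iv D3142) F10735
theorem F15062 : act 3 n3142 = n2217 := d27_1 D3142 (iv D2217) (iv F10736)
theorem F15063 : act 4 n3142 = n3142 := d32_1 D3142 (iv D3142) F10737
theorem F15064 : act 6 n3142 = n3142 := d39_1 D3142 (iv D3142) (iv D2186) F7671 D2186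
def n3143 : Q := act 2 n2187
theorem D3143 : act 2 n2187 = n3143 := rfl
theorem F15065 : act 0 n3143 = n3143 := d1_1 D3143 (iv D3143) F10738
theorem F15066 : act 3 n3143 = n3143 := d17_2 D2187 D3143 (iv D3143) (iv D2187) F7674
theorem F15067 : act 5 n3143 = n3143 := d19_2 F10740 D3143 (iv D3143)
theorem F15068 : act 6 n3143 = n3143 := d20_2 F10741 D3143 (iv D3143)
theorem F15069 : act 7 n3143 = n2193 := d21_2 (iv F10742) D3143 (iv D2193)
theorem F15070 : act 8 n3143 = n2188 := d22_2 (iv F10743) D3143 (iv D2188)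
theorem F15071 : act 9 n3143 = n3143 := d23_2 F10744 D3143 (iv D3143)
def n3144 : Q := act 4 n2187
theorem D3144 : act 4 n2187 = n3144 := rfl
theorem F15072 : act 0 n3144 = n3144 := d3_1 D3144 (iv D3144) F10738
theorem F15073 : act 1 n3144 = n3144 := d11_1 D3144 (iv D3144) F10739
theorem F15074 : act 3 n3144 = n3144 := d24_1 D3144 (iv D3144) (iv D2187) F7675 D2187
theorem F15075 : act 6 n3144 = n3144 := d31_2 F10741 D3144 (iv D3144)
theorem F15076 : act 7 n3144 = n2194 := d32_2 (iv F10742) D3144 (iv D2194)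
theorem F15077 : act 8 n3144 = n2189 := d33_2 (iv F10743) D3144 (iv D2189)
theorem F15078 : act 9 n3144 = n3144 := d34_2 F10744 D3144 (iv D3144)
def n3145 : Q := act 1 n2188
theorem D3145 : act 1 n2188 = n3145 := rfl
theorem F15079 : act 2 n3145 = n3145 := d9_2 D2188 D3145 (iv D3145) (iv D2188) F7681
theorem F15080 : act 3 n3145 = n2291 := d10_2 (iv F10746) D3145 (iv D2291)
theorem F15081 : act 5 n3145 = n3145 := d12_2 F10747 D3145 (iv D3145)
theorem F15082 : act 6 n3145 = n3145 := d13_2 F10748 D3145 (iv D3145)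
theorem F15083 : act 7 n3145 = n2195 := d14_2 (iv F10749) D3145 (iv D2195)
theorem F15084 : act 9 n3145 = n2190 := d16_2 (iv F10750) D3145 (iv D2190)
def n3146 : Q := act 4 n2188
theorem D3146 : act 4 n2188 = n3146 := rfl
theorem F15085 : act 0 n3146 = n3146 := d3_1 D3146 (iv D3146) F10745
theorem F15086 : act 2 n3146 = n2189 := d18_1 D3146 (iv D2189) D2188
theorem F15087 : act 6 n3146 = n3146 := d31_2 F10748 D3146 (iv D3146)
theorem F15088 : act 7 n3146 = n2196 := d32_2 (iv F10749) D3146 (iv D2196)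
theorem F15089 : act 9 n3146 = n2191 := d34_2 (iv F10750) D3146 (iv D2191)
def n3147 : Q := act 5 n2189
theorem D3147 : act 5 n2189 = n3147 := rfl
theorem F15090 : act 0 n3147 = n3147 := d4_1 D3147 (iv D3147) F10751
theorem F15091 : act 1 n3147 = n3147 := d12_1 D3147 (iv D3147) F10752
theorem F15092 : act 4 n3147 = n3147 := d30_1 D3147 (iv D3147) (iv D2189) F7682 D2189
theorem F15093 : act 7 n3147 = n2197 := d36_2 (iv F10754) D3147 (iv D2197)
theorem F15094 : act 9 n3147 = n2192 := d38_2 (iv F10755) D3147 (iv D2192)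
def n3148 : Q := act 0 n2190
theorem D3148 : act 0 n2190 = n3148 := rfl
theorem F15095 : act 1 n3148 = n3148 := d0_2 D2190 D3148 (iv D3148) (iv D2190) F7686
theorem F15096 : act 2 n3148 = n3148 := d1_2 F10756 D3148 (iv D3148)
theorem F15097 : act 3 n3148 = n2294 := d2_2 (iv F10757) D3148 (iv D2294)
theorem F15098 : act 5 n3148 = n3148 := d4_2 F10758 D3148 (iv D3148)
theorem F15099 : act 6 n3148 = n3148 := d5_2 F10759 D3148 (iv D3148)
theorem F15100 : act 7 n3148 = n2198 := d6_2 (iv F10760) D3148 (iv D2198)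
theorem F15101 : act 8 n3148 = n3148 := d7_2 F10761 D3148 (iv D3148)
def n3149 : Q := act 4 n2190
theorem D3149 : act 4 n2190 = n3149 := rfl
theorem F15102 : act 1 n3149 = n2191 := d11_1 D3149 (iv D2191) D2190
theorem F15103 : act 2 n3149 = n3149 := d18_1 D3149 (iv D3149) F10756
theorem F15104 : act 6 n3149 = n3149 := d31_2 F10759 D3149 (iv D3149)
theorem F15105 : act 7 n3149 = n2199 := d32_2 (iv F10760) D3149 (iv D2199)
theorem F15106 : act 8 n3149 = n3149 := d33_2 F10761 D3149 (iv D3149)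
def n3150 : Q := act 3 n2191
theorem D3150 : act 3 n2191 = n3150 := rfl
theorem F15107 : act 0 n3150 = n3150 := d2_1 D3150 (iv D3150) F10762
theorem F15108 : act 4 n3150 = n2296 := d24_2 D2191 D3150 (iv D2296) (iv D1597) (iv F7687)
theorem F15109 : act 6 n3150 = n3150 := d26_2 F10764 D3150 (iv D3150)
theorem F15110 : act 7 n3150 = n2200 := d27_2 (iv F10765) D3150 (iv D2200)
def n3151 : Q := act 5 n2191
theorem D3151 : act 5 n2191 = n3151 := rfl
theorem F15111 : act 0 n3151 = n3151 := d4_1 D3151 (iv D3151) F10762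
theorem F15112 : act 2 n3151 = n2192 := d19_1 D3151 (iv D2192) (iv F10763)
theorem F15113 : act 4 n3151 = n3151 := d30_1 D3151 (iv D3151) (iv D2191) F7688 D2191
theorem F15114 : act 7 n3151 = n2201 := d36_2 (iv F10765) D3151 (iv D2201)
theorem F15115 : act 8 n3151 = n3151 := d37_2 F10766 D3151 (iv D3151)
def n3152 : Q := act 6 n2192
theorem D3152 : act 6 n2192 = n3152 := rfl
theorem F15116 : act 0 n3152 = n3152 := d5_1 D3152 (iv D3152) F10767
theorem F15117 : act 1 n3152 = n3152 := d13_1 D3152 (iv D3152) F10768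
theorem F15118 : act 4 n3152 = n3152 := d31_1 D3152 (iv D3152) F10769
theorem F15119 : act 5 n3152 = n3152 := d35_1 D3152 (iv D3152) (iv D2192) F7694 D2192
theorem F15120 : act 8 n3152 = n3152 := d40_2 F10771 D3152 (iv D3152)
def n3153 : Q := act 1 n2193
theorem D3153 : act 1 n2193 = n3153 := rfl
theorem F15121 : act 2 n3153 = n3153 := d9_2 D2193 D3153 (iv D3153) (iv D2193) F7698
theorem F15122 : act 3 n3153 = n3153 := d10_2 F10773 D3153 (iv D3153)
theorem F15123 : act 5 n3153 = n3153 := d12_2 F10774 D3153 (iv D3153)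
theorem F15124 : act 6 n3153 = n2203 := d13_2 (iv F10775) D3153 (iv D2203)
theorem F15125 : act 8 n3153 = n2195 := d15_2 (iv F10776) D3153 (iv D2195)
theorem F15126 : act 9 n3153 = n3153 := d16_2 F10777 D3153 (iv D3153)
def n3154 : Q := act 4 n2193
theorem D3154 : act 4 n2193 = n3154 := rfl
theorem F15127 : act 0 n3154 = n3154 := d3_1 D3154 (iv D3154) F10772
theorem F15128 : act 2 n3154 = n2194 := d18_1 D3154 (iv D2194) D2193
theorem F15129 : act 6 n3154 = n2204 := d31_2 (iv F10775) D3154 (iv D2204)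
theorem F15130 : act 8 n3154 = n2196 := d33_2 (iv F10776) D3154 (iv D2196)
theorem F15131 : act 9 n3154 = n3154 := d34_2 F10777 D3154 (iv D3154)
def n3155 : Q := act 5 n2194
theorem D3155 : act 5 n2194 = n3155 := rfl
theorem F15132 : act 0 n3155 = n3155 := d4_1 D3155 (iv D3155) F10778
theorem F15133 : act 1 n3155 = n3155 := d12_1 D3155 (iv D3155) F10779
theorem F15134 : act 3 n3155 = n3155 := d25_1 D3155 (iv D3155) F10780
theorem F15135 : act 4 n3155 = n3155 := d30_1 D3155 (iv D3155) (iv D2194) F7699 D2194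
theorem F15136 : act 8 n3155 = n2197 := d37_2 (iv F10782) D3155 (iv D2197)
theorem F15137 : act 9 n3155 = n3155 := d38_2 F10783 D3155 (iv D3155)
def n3156 : Q := act 0 n2195
theorem D3156 : act 0 n2195 = n3156 := rfl
theorem F15138 : act 1 n3156 = n3156 := d0_2 D2195 D3156 (iv D3156) (iv D2195) F7703
theorem F15139 : act 2 n3156 = n3156 := d1_2 F10784 D3156 (iv D3156)
theorem F15140 : act 3 n3156 = n2299 := d2_2 (iv F10785) D3156 (iv D2299)
theorem F15141 : act 5 n3156 = n3156 := d4_2 F10786 D3156 (iv D3156)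
theorem F15142 : act 6 n3156 = n2206 := d5_2 (iv F10787) D3156 (iv D2206)
theorem F15143 : act 9 n3156 = n2198 := d8_2 (iv F10788) D3156 (iv D2198)
def n3157 : Q := act 4 n2195
theorem D3157 : act 4 n2195 = n3157 := rfl
theorem F15144 : act 1 n3157 = n2196 := d11_1 D3157 (iv D2196) D2195
theorem F15145 : act 2 n3157 = n3157 := d18_1 D3157 (iv D3157) F10784
theorem F15146 : act 6 n3157 = n2207 := d31_2 (iv F10787) D3157 (iv D2207)
theorem F15147 : act 9 n3157 = n2199 := d34_2 (iv F10788) D3157 (iv D2199)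
def n3158 : Q := act 3 n2196
theorem D3158 : act 3 n2196 = n3158 := rfl
theorem F15148 : act 0 n3158 = n3158 := d2_1 D3158 (iv D3158) F10789
theorem F15149 : act 4 n3158 = n2301 := d24_2 D2196 D3158 (iv D2301) (iv D1600) (iv F7704)
theorem F15150 : act 6 n3158 = n2208 := d26_2 (iv F10791) D3158 (iv D2208)
theorem F15151 : act 9 n3158 = n2200 := d29_2 (iv F10792) D3158 (iv D2200)
def n3159 : Q := act 5 n2196
theorem D3159 : act 5 n2196 = n3159 := rfl
theorem F15152 : act 0 n3159 = n3159 := d4_1 D3159 (iv D3159) F10789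
theorem F15153 : act 2 n3159 = n2197 := d19_1 D3159 (iv D2197) (iv F10790)
theorem F15154 : act 4 n3159 = n3159 := d30_1 D3159 (iv D3159) (iv D2196) F7705 D2196
theorem F15155 : act 9 n3159 = n2201 := d38_2 (iv F10792) D3159 (iv D2201)
def n3160 : Q := act 6 n2197
theorem D3160 : act 6 n2197 = n3160 := rfl
theorem F15156 : act 0 n3160 = n3160 := d5_1 D3160 (iv D3160) F10793
theorem F15157 : act 1 n3160 = n3160 := d13_1 D3160 (iv D3160) F10794
theorem F15158 : act 4 n3160 = n3160 := d31_1 D3160 (iv D3160) F10795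
theorem F15159 : act 5 n3160 = n2210 := d35_1 D3160 (iv D2210) (iv D1539) (iv F7710) D2197
theorem F15160 : act 9 n3160 = n2202 := d41_2 (iv F10796) D3160 (iv D2202)
def n3161 : Q := act 4 n2198
theorem D3161 : act 4 n2198 = n3161 := rfl
theorem F15161 : act 0 n3161 = n2199 := d3_1 D3161 (iv D2199) D2198
theorem F15162 : act 1 n3161 = n3161 := d11_1 D3161 (iv D3161) F10797
theorem F15163 : act 2 n3161 = n3161 := d18_1 D3161 (iv D3161) F10798
theorem F15164 : act 6 n3161 = n2211 := d31_2 (iv F10801) D3161 (iv D2211)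
theorem F15165 : act 8 n3161 = n3161 := d33_2 F10802 D3161 (iv D3161)
def n3162 : Q := act 3 n2199
theorem D3162 : act 3 n2199 = n3162 := rfl
theorem F15166 : act 1 n3162 = n2200 := d10_1 D3162 (iv D2200) (iv F10803)
theorem F15167 : act 4 n3162 = n2305 := d24_2 D2199 D3162 (iv D2305) (iv D1603) (iv F7713)
theorem F15168 : act 6 n3162 = n2212 := d26_2 (iv F10805) D3162 (iv D2212)
def n3163 : Q := act 5 n2199
theorem D3163 : act 5 n2199 = n3163 := rfl
theorem F15169 : act 1 n3163 = n2201 := d12_1 D3163 (iv D2201) (iv F10803)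
theorem F15170 : act 2 n3163 = n3163 := d19_1 D3163 (iv D3163) F10804
theorem F15171 : act 4 n3163 = n3163 := d30_1 D3163 (iv D3163) (iv D2199) F7714 D2199
theorem F15172 : act 8 n3163 = n3163 := d37_2 F10806 D3163 (iv D3163)
def n3164 : Q := act 5 n2200
theorem D3164 : act 5 n2200 = n3164 := rfl
theorem F15173 : act 0 n3164 = n3164 := d4_1 D3164 (iv D3164) F10807
theorem F15174 : act 3 n3164 = n2201 := d25_1 D3164 (iv D2201) D2200
def n3165 : Q := act 8 n2200
theorem D3165 : act 8 n2200 = n3165 := rfl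
theorem F15175 : act 0 n3165 = n3165 := d7_1 D3165 (iv D3165) F10807
theorem F15176 : act 3 n3165 = n3165 := d28_1 D3165 (iv D3165) (iv D2200) F7720 D2200
theorem F15177 : act 4 n3165 = n2308 := d33_1 D3165 (iv D2308) (iv F10808)
theorem F15178 : act 6 n3165 = n2215 := d40_1 D3165 (iv D2215) (iv F10809)
def n3166 : Q := act 6 n2201
theorem D3166 : act 6 n2201 = n3166 := rfl
theorem F15179 : act 0 n3166 = n3166 := d5_1 D3166 (iv D3166) F10810
theorem F15180 : act 2 n3166 = n2202 := d20_1 D3166 (iv D2202) (iv F10811)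
theorem F15181 : act 4 n3166 = n3166 := d31_1 D3166 (iv D3166) F10812
theorem F15182 : act 5 n3166 = n2216 := d35_1 D3166 (iv D2216) (iv D1543) (iv F7719) D2201
theorem F15183 : act 8 n3166 = n3166 := d40_2 F10813 D3166 (iv D3166)
def n3167 : Q := act 7 n2202
theorem D3167 : act 7 n2202 = n3167 := rfl
theorem F15184 : act 0 n3167 = n3167 := d6_1 D3167 (iv D3167) F10814
theorem F15185 : act 1 n3167 = n3167 := d14_1 D3167 (iv D3167) F10815
theorem F15186 : act 4 n3167 = n3167 := d32_1 D3167 (iv D3167) F10816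
theorem F15187 : act 5 n3167 = n2217 := d36_1 D3167 (iv D2217) (iv F10817)
theorem F15188 : act 8 n3167 = n3167 := d42_2 F10818 D3167 (iv D3167)
def n3168 : Q := act 0 n2203
theorem D3168 : act 0 n2203 = n3168 := rfl
theorem F15189 : act 1 n3168 = n3168 := d0_2 D2203 D3168 (iv D3168) (iv D2203) F7725
theorem F15190 : act 2 n3168 = n3168 := d1_2 F10819 D3168 (iv D3168)
theorem F15191 : act 3 n3168 = n3168 := d2_2 F10820 D3168 (iv D3168)
theorem F15192 : act 5 n3168 = n2221 := d4_2 (iv F10821) D3168 (iv D2221)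
theorem F15193 : act 7 n3168 = n3168 := d6_2 F10822 D3168 (iv D3168)
theorem F15194 : act 8 n3168 = n2206 := d7_2 (iv F10823) D3168 (iv D2206)
theorem F15195 : act 9 n3168 = n3168 := d8_2 F10824 D3168 (iv D3168)
def n3169 : Q := act 4 n2203
theorem D3169 : act 4 n2203 = n3169 := rfl
theorem F15196 : act 1 n3169 = n2204 := d11_1 D3169 (iv D2204) D2203
theorem F15197 : act 2 n3169 = n3169 := d18_1 D3169 (iv D3169) F10819
theorem F15198 : act 7 n3169 = n3169 := d32_2 F10822 D3169 (iv D3169)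
theorem F15199 : act 8 n3169 = n2207 := d33_2 (iv F10823) D3169 (iv D2207)
theorem F15200 : act 9 n3169 = n3169 := d34_2 F10824 D3169 (iv D3169)
def n3170 : Q := act 3 n2204
theorem D3170 : act 3 n2204 = n3170 := rfl
theorem F15201 : act 0 n3170 = n3170 := d2_1 D3170 (iv D3170) F10825
theorem F15202 : act 2 n3170 = n3170 := d17_1 D3170 (iv D3170) F10826 F7733 (iv F10826)
theorem F15203 : act 4 n3170 = n3170 := d24_2 D2204 D3170 (iv D3170) (iv D2204) F7726
theorem F15204 : act 7 n3170 = n3170 := d27_2 F10827 D3170 (iv D3170)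
theorem F15205 : act 9 n3170 = n3170 := d29_2 F10829 D3170 (iv D3170)
def n3171 : Q := act 5 n2204
theorem D3171 : act 5 n2204 = n3171 := rfl
theorem F15206 : act 0 n3171 = n3171 := d4_1 D3171 (iv D3171) F10825
theorem F15207 : act 2 n3171 = n2205 := d19_1 D3171 (iv D2205) (iv F10826)
theorem F15208 : act 4 n3171 = n2224 := d30_1 D3171 (iv D2224) (iv D1548) (iv F7727) D2204
theorem F15209 : act 7 n3171 = n3171 := d36_2 F10827 D3171 (iv D3171)
theorem F15210 : act 8 n3171 = n2209 := d37_2 (iv F10828) D3171 (iv D2209)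
theorem F15211 : act 9 n3171 = n3171 := d38_2 F10829 D3171 (iv D3171)
def n3172 : Q := act 6 n2205
theorem D3172 : act 6 n2205 = n3172 := rfl
theorem F15212 : act 0 n3172 = n3172 := d5_1 D3172 (iv D3172) F10830
theorem F15213 : act 1 n3172 = n3172 := d13_1 D3172 (iv D3172) F10831
theorem F15214 : act 3 n3172 = n3172 := d26_1 D3172 (iv D3172) F10832
theorem F15215 : act 4 n3172 = n2225 := d31_1 D3172 (iv D2225) (iv F10833)
theorem F15216 : act 8 n3172 = n2210 := d40_2 (iv F10835) D3172 (iv D2210)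
theorem F15217 : act 9 n3172 = n3172 := d41_2 F10836 D3172 (iv D3172)
def n3173 : Q := act 4 n2206
theorem D3173 : act 4 n2206 = n3173 := rfl
theorem F15218 : act 0 n3173 = n2207 := d3_1 D3173 (iv D2207) D2206
theorem F15219 : act 1 n3173 = n3173 := d11_1 D3173 (iv D3173) F10837
theorem F15220 : act 2 n3173 = n3173 := d18_1 D3173 (iv D3173) F10838
theorem F15221 : act 7 n3173 = n3173 := d32_2 F10841 D3173 (iv D3173)
theorem F15222 : act 9 n3173 = n2211 := d34_2 (iv F10842) D3173 (iv D2211)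
def n3174 : Q := act 3 n2207
theorem D3174 : act 3 n2207 = n3174 := rfl
theorem F15223 : act 1 n3174 = n2208 := d10_1 D3174 (iv D2208) (iv F10843)
theorem F15224 : act 4 n3174 = n2312 := d24_2 D2207 D3174 (iv D2312) (iv D1608) (iv F7738)
theorem F15225 : act 7 n3174 = n3174 := d27_2 F10845 D3174 (iv D3174)
theorem F15226 : act 9 n3174 = n2212 := d29_2 (iv F10846) D3174 (iv D2212)
def n3175 : Q := act 5 n2207
theorem D3175 : act 5 n2207 = n3175 := rfl
theorem F15227 : act 1 n3175 = n2209 := d12_1 D3175 (iv D2209) (iv F10843)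
theorem F15228 : act 2 n3175 = n3175 := d19_1 D3175 (iv D3175) F10844
theorem F15229 : act 4 n3175 = n2228 := d30_1 D3175 (iv D2228) (iv D1551) (iv F7739) D2207
theorem F15230 : act 7 n3175 = n3175 := d36_2 F10845 D3175 (iv D3175)
theorem F15231 : act 9 n3175 = n2213 := d38_2 (iv F10846) D3175 (iv D2213)
def n3176 : Q := act 5 n2208
theorem D3176 : act 5 n2208 = n3176 := rfl
theorem F15232 : act 0 n3176 = n3176 := d4_1 D3176 (iv D3176) F10847
theorem F15233 : act 3 n3176 = n2209 := d25_1 D3176 (iv D2209) D2208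
theorem F15234 : act 7 n3176 = n3176 := d36_2 F10849 D3176 (iv D3176)
theorem F15235 : act 9 n3176 = n2214 := d38_2 (iv F10850) D3176 (iv D2214)
def n3177 : Q := act 8 n2208
theorem D3177 : act 8 n2208 = n3177 := rfl
theorem F15236 : act 0 n3177 = n3177 := d7_1 D3177 (iv D3177) F10847
theorem F15237 : act 4 n3177 = n2315 := d33_1 D3177 (iv D2315) (iv F10848)
theorem F15238 : act 7 n3177 = n3177 := d42_1 D3177 (iv D3177) F10849
def n3178 : Q := act 6 n2209
theorem D3178 : act 6 n2209 = n3178 := rfl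
theorem F15239 : act 0 n3178 = n3178 := d5_1 D3178 (iv D3178) F10851
theorem F15240 : act 2 n3178 = n2210 := d20_1 D3178 (iv D2210) (iv F10852)
theorem F15241 : act 4 n3178 = n2231 := d31_1 D3178 (iv D2231) (iv F10853)
theorem F15242 : act 9 n3178 = n2216 := d41_2 (iv F10855) D3178 (iv D2216)
def n3179 : Q := act 7 n2210
theorem D3179 : act 7 n2210 = n3179 := rfl
theorem F15243 : act 0 n3179 = n3179 := d6_1 D3179 (iv D3179) F10856
theorem F15244 : act 1 n3179 = n3179 := d14_1 D3179 (iv D3179) F10857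
theorem F15245 : act 4 n3179 = n2232 := d32_1 D3179 (iv D2232) (iv F10858)
theorem F15246 : act 6 n3179 = n3179 := d39_1 D3179 (iv D3179) (iv D2210) F7749 D2210
theorem F15247 : act 9 n3179 = n2217 := d43_2 (iv F10859) D3179 (iv D2217)
def n3180 : Q := act 3 n2211
theorem D3180 : act 3 n2211 = n3180 := rfl
theorem F15248 : act 0 n3180 = n2212 := d2_1 D3180 (iv D2212) (iv F10860)
theorem F15249 : act 1 n3180 = n3180 := d10_1 D3180 (iv D3180) F10861
theorem F15250 : act 4 n3180 = n2318 := d24_2 D2211 D3180 (iv D2318) (iv D1612) (iv F7753)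
theorem F15251 : act 7 n3180 = n3180 := d27_2 F10863 D3180 (iv D3180)
def n3181 : Q := act 5 n2211
theorem D3181 : act 5 n2211 = n3181 := rfl
theorem F15252 : act 0 n3181 = n2213 := d4_1 D3181 (iv D2213) (iv F10860)
theorem F15253 : act 1 n3181 = n3181 := d12_1 D3181 (iv D3181) F10861
theorem F15254 : act 2 n3181 = n3181 := d19_1 D3181 (iv D3181) F10862
theorem F15255 : act 4 n3181 = n2234 := d30_1 D3181 (iv D2234) (iv D1555) (iv F7754) D2211
theorem F15256 : act 7 n3181 = n3181 := d36_2 F10863 D3181 (iv D3181)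
theorem F15257 : act 8 n3181 = n3181 := d37_2 F10864 D3181 (iv D3181)
def n3182 : Q := act 2 n2212
theorem D3182 : act 2 n2212 = n3182 := rfl
theorem F15258 : act 3 n3182 = n3182 := d17_2 D2212 D3182 (iv D3182) (iv D2212) F7758
theorem F15259 : act 4 n3182 = n2320 := d18_2 (iv F10866) D3182 (iv D2320)
theorem F15260 : act 7 n3182 = n3182 := d21_2 F10867 D3182 (iv D3182)
def n3183 : Q := act 5 n2212
theorem D3183 : act 5 n2212 = n3183 := rfl
theorem F15261 : act 1 n3183 = n2214 := d12_1 D3183 (iv D2214) (iv F10865)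
theorem F15262 : act 3 n3183 = n2213 := d25_1 D3183 (iv D2213) D2212
theorem F15263 : act 7 n3183 = n3183 := d36_2 F10867 D3183 (iv D3183)
def n3184 : Q := act 8 n2212
theorem D3184 : act 8 n2212 = n3184 := rfl
theorem F15264 : act 1 n3184 = n2215 := d15_1 D3184 (iv D2215) (iv F10865)
theorem F15265 : act 3 n3184 = n3184 := d28_1 D3184 (iv D3184) (iv D2212) F7760 D2212
theorem F15266 : act 4 n3184 = n2322 := d33_1 D3184 (iv D2322) (iv F10866)
theorem F15267 : act 7 n3184 = n3184 := d42_1 D3184 (iv D3184) F10867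
def n3185 : Q := act 6 n2213
theorem D3185 : act 6 n2213 = n3185 := rfl
theorem F15268 : act 1 n3185 = n2216 := d13_1 D3185 (iv D2216) (iv F10868)
theorem F15269 : act 2 n3185 = n3185 := d20_1 D3185 (iv D3185) F10869
theorem F15270 : act 4 n3185 = n2238 := d31_1 D3185 (iv D2238) (iv F10870)
theorem F15271 : act 8 n3185 = n3185 := d40_2 F10872 D3185 (iv D3185)
def n3186 : Q := act 4 n2214
theorem D3186 : act 4 n2214 = n3186 := rfl
theorem F15272 : act 0 n3186 = n3186 := d3_1 D3186 (iv D3186) F10873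
theorem F15273 : act 3 n3186 = n2239 := d24_1 D3186 (iv D2239) F7846 (iv F7766) (iv F10874)
theorem F15274 : act 5 n3186 = n2324 := d30_2 D2214 D3186 (iv D2324) (iv D1615) (iv F7762)
theorem F15275 : act 7 n3186 = n3186 := d32_2 F10875 D3186 (iv D3186)
def n3187 : Q := act 6 n2214
theorem D3187 : act 6 n2214 = n3187 := rfl
theorem F15276 : act 0 n3187 = n3187 := d5_1 D3187 (iv D3187) F10873
theorem F15277 : act 3 n3187 = n2216 := d26_1 D3187 (iv D2216) (iv F10874)
def n3188 : Q := act 8 n2214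
theorem D3188 : act 8 n2214 = n3188 := rfl
theorem F15278 : act 0 n3188 = n3188 := d7_1 D3188 (iv D3188) F10873
theorem F15279 : act 3 n3188 = n3188 := d28_1 D3188 (iv D3188) F10874 F7768 (iv F10874)
theorem F15280 : act 5 n3188 = n2215 := d37_1 D3188 (iv D2215) D2214
theorem F15281 : act 7 n3188 = n3188 := d42_1 D3188 (iv D3188) F10875
def n3189 : Q := act 9 n2215
theorem D3189 : act 9 n2215 = n3189 := rfl
theorem F15282 : act 0 n3189 = n3189 := d8_1 D3189 (iv D3189) F10876
theorem F15283 : act 3 n3189 = n3189 := d29_1 D3189 (iv D3189) F10877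
theorem F15284 : act 4 n3189 = n2327 := d34_1 D3189 (iv D2327) (iv F10878)
theorem F15285 : act 7 n3189 = n3189 := d43_1 D3189 (iv D3189) F10879
def n3190 : Q := act 7 n2216
theorem D3190 : act 7 n2216 = n3190 := rfl
theorem F15286 : act 0 n3190 = n3190 := d6_1 D3190 (iv D3190) F10880
theorem F15287 : act 2 n3190 = n2217 := d21_1 D3190 (iv D2217) (iv F10881)
theorem F15288 : act 4 n3190 = n2243 := d32_1 D3190 (iv D2243) (iv F10882)
theorem F15289 : act 6 n3190 = n3190 := d39_1 D3190 (iv D3190) (iv D2216) F7767 D2216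
theorem F15290 : act 8 n3190 = n3190 := d42_2 F10883 D3190 (iv D3190)
def n3191 : Q := act 0 n2218
theorem D3191 : act 0 n2218 = n3191 := rfl
theorem F15291 : act 1 n3191 = n3191 := d0_2 D2218 D3191 (iv D3191) (iv D2218) F7773
theorem F15292 : act 2 n3191 = n3191 := d1_2 F10889 D3191 (iv D3191)
theorem F15293 : act 3 n3191 = n3191 := d2_2 F10890 D3191 (iv D3191)
theorem F15294 : act 5 n3191 = n3191 := d4_2 F10891 D3191 (iv D3191)
theorem F15295 : act 6 n3191 = n3191 := d5_2 F10892 D3191 (iv D3191)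
theorem F15296 : act 7 n3191 = n3191 := d6_2 F10893 D3191 (iv D3191)
theorem F15297 : act 8 n3191 = n3191 := d7_2 F10894 D3191 (iv D3191)
theorem F15298 : act 9 n3191 = n3191 := d8_2 F10895 D3191 (iv D3191)
def n3192 : Q := act 4 n2218
theorem D3192 : act 4 n2218 = n3192 := rfl
theorem F15299 : act 1 n3192 = n2219 := d11_1 D3192 (iv D2219) D2218
theorem F15300 : act 2 n3192 = n3192 := d18_1 D3192 (iv D3192) F10889
theorem F15301 : act 6 n3192 = n3192 := d31_2 F10892 D3192 (iv D3192)
theorem F15302 : act 7 n3192 = n3192 := d32_2 F10893 D3192 (iv D3192)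
theorem F15303 : act 8 n3192 = n3192 := d33_2 F10894 D3192 (iv D3192)
theorem F15304 : act 9 n3192 = n3192 := d34_2 F10895 D3192 (iv D3192)
def n3193 : Q := act 3 n2219
theorem D3193 : act 3 n2219 = n3193 := rfl
theorem F15305 : act 0 n3193 = n3193 := d2_1 D3193 (iv D3193) F10896
theorem F15306 : act 2 n3193 = n2223 := d17_1 D3193 (iv D2223) F7794 (iv F7782) (iv F10897)
theorem F15307 : act 4 n3193 = n3193 := d24_2 D2219 D3193 (iv D3193) (iv D2219) F7774
theorem F15308 : act 6 n3193 = n3193 := d26_2 F10898 D3193 (iv D3193)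
theorem F15309 : act 7 n3193 = n3193 := d27_2 F10899 D3193 (iv D3193)
theorem F15310 : act 9 n3193 = n3193 := d29_2 F10901 D3193 (iv D3193)
def n3194 : Q := act 5 n2219
theorem D3194 : act 5 n2219 = n3194 := rfl
theorem F15311 : act 0 n3194 = n3194 := d4_1 D3194 (iv D3194) F10896
theorem F15312 : act 2 n3194 = n2220 := d19_1 D3194 (iv D2220) (iv F10897)
theorem F15313 : act 4 n3194 = n3194 := d30_1 D3194 (iv D3194) (iv D2219) F7775 D2219
theorem F15314 : act 7 n3194 = n3194 := d36_2 F10899 D3194 (iv D3194)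
theorem F15315 : act 8 n3194 = n3194 := d37_2 F10900 D3194 (iv D3194)
theorem F15316 : act 9 n3194 = n3194 := d38_2 F10901 D3194 (iv D3194)
def n3195 : Q := act 6 n2220
theorem D3195 : act 6 n2220 = n3195 := rfl
theorem F15317 : act 0 n3195 = n3195 := d5_1 D3195 (iv D3195) F10902
theorem F15318 : act 1 n3195 = n3195 := d13_1 D3195 (iv D3195) F10903
theorem F15319 : act 3 n3195 = n2225 := d26_1 D3195 (iv D2225) (iv F10904)
theorem F15320 : act 4 n3195 = n3195 := d31_1 D3195 (iv D3195) F10905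
theorem F15321 : act 5 n3195 = n3195 := d35_1 D3195 (iv D3195) (iv D2220) F7783 D2220
theorem F15322 : act 8 n3195 = n3195 := d40_2 F10907 D3195 (iv D3195)
theorem F15323 : act 9 n3195 = n3195 := d41_2 F10908 D3195 (iv D3195)
def n3196 : Q := act 4 n2221
theorem D3196 : act 4 n2221 = n3196 := rfl
theorem F15324 : act 0 n3196 = n2222 := d3_1 D3196 (iv D2222) D2221
theorem F15325 : act 1 n3196 = n3196 := d11_1 D3196 (iv D3196) F10909
theorem F15326 : act 2 n3196 = n3196 := d18_1 D3196 (iv D3196) F10910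
theorem F15327 : act 6 n3196 = n3196 := d31_2 F10912 D3196 (iv D3196)
theorem F15328 : act 7 n3196 = n3196 := d32_2 F10913 D3196 (iv D3196)
theorem F15329 : act 8 n3196 = n2226 := d33_2 (iv F10914) D3196 (iv D2226)
theorem F15330 : act 9 n3196 = n3196 := d34_2 F10915 D3196 (iv D3196)
def n3197 : Q := act 3 n2222
theorem D3197 : act 3 n2222 = n3197 := rfl
theorem F15331 : act 1 n3197 = n2223 := d10_1 D3197 (iv D2223) (iv F10916)
theorem F15332 : act 4 n3197 = n3197 := d24_2 D2222 D3197 (iv D3197) (iv D2222) F7788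
theorem F15333 : act 6 n3197 = n3197 := d26_2 F10918 D3197 (iv D3197)
theorem F15334 : act 7 n3197 = n3197 := d27_2 F10919 D3197 (iv D3197)
theorem F15335 : act 9 n3197 = n3197 := d29_2 F10921 D3197 (iv D3197)
def n3198 : Q := act 5 n2222
theorem D3198 : act 5 n2222 = n3198 := rfl
theorem F15336 : act 1 n3198 = n2224 := d12_1 D3198 (iv D2224) (iv F10916)
theorem F15337 : act 2 n3198 = n3198 := d19_1 D3198 (iv D3198) F10917
theorem F15338 : act 7 n3198 = n3198 := d36_2 F10919 D3198 (iv D3198)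
theorem F15339 : act 8 n3198 = n2228 := d37_2 (iv F10920) D3198 (iv D2228)
theorem F15340 : act 9 n3198 = n3198 := d38_2 F10921 D3198 (iv D3198)
def n3199 : Q := act 5 n2223
theorem D3199 : act 5 n2223 = n3199 := rfl
theorem F15341 : act 0 n3199 = n3199 := d4_1 D3199 (iv D3199) F10922
theorem F15342 : act 3 n3199 = n2224 := d25_1 D3199 (iv D2224) D2223
theorem F15343 : act 7 n3199 = n3199 := d36_2 F10925 D3199 (iv D3199)
theorem F15344 : act 9 n3199 = n3199 := d38_2 F10926 D3199 (iv D3199)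
def n3200 : Q := act 8 n2223
theorem D3200 : act 8 n2223 = n3200 := rfl
theorem F15345 : act 0 n3200 = n3200 := d7_1 D3200 (iv D3200) F10922
theorem F15346 : act 3 n3200 = n2230 := d28_1 D3200 (iv D2230) (iv D1552) (iv F7797) D2223
theorem F15347 : act 4 n3200 = n3200 := d33_1 D3200 (iv D3200) F10923
theorem F15348 : act 6 n3200 = n3200 := d40_1 D3200 (iv D3200) F10924
theorem F15349 : act 7 n3200 = n3200 := d42_1 D3200 (iv D3200) F10925
def n3201 : Q := act 6 n2224
theorem D3201 : act 6 n2224 = n3201 := rfl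
theorem F15350 : act 0 n3201 = n3201 := d5_1 D3201 (iv D3201) F10927
theorem F15351 : act 2 n3201 = n2225 := d20_1 D3201 (iv D2225) (iv F10928)
theorem F15352 : act 5 n3201 = n3201 := d35_1 D3201 (iv D3201) (iv D2224) F7795 D2224
theorem F15353 : act 8 n3201 = n2231 := d40_2 (iv F10930) D3201 (iv D2231)
theorem F15354 : act 9 n3201 = n3201 := d41_2 F10931 D3201 (iv D3201)
def n3202 : Q := act 7 n2225
theorem D3202 : act 7 n2225 = n3202 := rfl
theorem F15355 : act 0 n3202 = n3202 := d6_1 D3202 (iv D3202) F10932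
theorem F15356 : act 1 n3202 = n3202 := d14_1 D3202 (iv D3202) F10933
theorem F15357 : act 5 n3202 = n3202 := d36_1 D3202 (iv D3202) F10934
theorem F15358 : act 6 n3202 = n3202 := d39_1 D3202 (iv D3202) (iv D2225) F7801 D2225
theorem F15359 : act 8 n3202 = n2232 := d42_2 (iv F10935) D3202 (iv D2232)
theorem F15360 : act 9 n3202 = n3202 := d43_2 F10936 D3202 (iv D3202)
def n3203 : Q := act 3 n2226
theorem D3203 : act 3 n2226 = n3203 := rfl
theorem F15361 : act 0 n3203 = n2227 := d2_1 D3203 (iv D2227) (iv F10937)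
theorem F15362 : act 1 n3203 = n3203 := d10_1 D3203 (iv D3203) F10938
theorem F15363 : act 4 n3203 = n2329 := d24_2 D2226 D3203 (iv D2329) (iv D1619) (iv F7806)
theorem F15364 : act 6 n3203 = n3203 := d26_2 F10940 D3203 (iv D3203)
theorem F15365 : act 7 n3203 = n3203 := d27_2 F10941 D3203 (iv D3203)
theorem F15366 : act 9 n3203 = n2233 := d29_2 (iv F10942) D3203 (iv D2233)
def n3204 : Q := act 5 n2226
theorem D3204 : act 5 n2226 = n3204 := rfl
theorem F15367 : act 0 n3204 = n2228 := d4_1 D3204 (iv D2228) (iv F10937)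
theorem F15368 : act 1 n3204 = n3204 := d12_1 D3204 (iv D3204) F10938
theorem F15369 : act 2 n3204 = n3204 := d19_1 D3204 (iv D3204) F10939
theorem F15370 : act 7 n3204 = n3204 := d36_2 F10941 D3204 (iv D3204)
theorem F15371 : act 9 n3204 = n2234 := d38_2 (iv F10942) D3204 (iv D2234)
def n3205 : Q := act 2 n2227
theorem D3205 : act 2 n2227 = n3205 := rfl
theorem F15372 : act 1 n3205 = n3205 := d9_1 D3205 (iv D3205) F10943 F7816 (iv F10943)
theorem F15373 : act 3 n3205 = n3205 := d17_2 D2227 D3205 (iv D3205) (iv D2227) F7811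
theorem F15374 : act 4 n3205 = n2331 := d18_2 (iv F10944) D3205 (iv D2331)
theorem F15375 : act 6 n3205 = n3205 := d20_2 F10945 D3205 (iv D3205)
theorem F15376 : act 7 n3205 = n3205 := d21_2 F10946 D3205 (iv D3205)
theorem F15377 : act 9 n3205 = n2235 := d23_2 (iv F10947) D3205 (iv D2235)
def n3206 : Q := act 5 n2227
theorem D3206 : act 5 n2227 = n3206 := rfl
theorem F15378 : act 1 n3206 = n2229 := d12_1 D3206 (iv D2229) (iv F10943)
theorem F15379 : act 3 n3206 = n2228 := d25_1 D3206 (iv D2228) D2227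
theorem F15380 : act 7 n3206 = n3206 := d36_2 F10946 D3206 (iv D3206)
theorem F15381 : act 9 n3206 = n2236 := d38_2 (iv F10947) D3206 (iv D2236)
def n3207 : Q := act 8 n2227
theorem D3207 : act 8 n2227 = n3207 := rfl
theorem F15382 : act 1 n3207 = n2230 := d15_1 D3207 (iv D2230) (iv F10943)
theorem F15383 : act 4 n3207 = n2333 := d33_1 D3207 (iv D2333) (iv F10944)
theorem F15384 : act 6 n3207 = n3207 := d40_1 D3207 (iv D3207) F10945
theorem F15385 : act 7 n3207 = n3207 := d42_1 D3207 (iv D3207) F10946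
def n3208 : Q := act 6 n2228
theorem D3208 : act 6 n2228 = n3208 := rfl
theorem F15386 : act 1 n3208 = n2231 := d13_1 D3208 (iv D2231) (iv F10948)
theorem F15387 : act 2 n3208 = n3208 := d20_1 D3208 (iv D3208) F10949
theorem F15388 : act 5 n3208 = n3208 := d35_1 D3208 (iv D3208) (iv D2228) F7812 D2228
theorem F15389 : act 9 n3208 = n2238 := d41_2 (iv F10951) D3208 (iv D2238)
def n3209 : Q := act 4 n2229
theorem D3209 : act 4 n2229 = n3209 := rfl
theorem F15390 : act 0 n3209 = n3209 := d3_1 D3209 (iv D3209) F10952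
theorem F15391 : act 2 n3209 = n3209 := d18_1 D3209 (iv D3209) F10953
theorem F15392 : act 5 n3209 = n2335 := d30_2 D2229 D3209 (iv D2335) (iv D1622) (iv F7817)
theorem F15393 : act 7 n3209 = n3209 := d32_2 F10955 D3209 (iv D3209)
theorem F15394 : act 9 n3209 = n2239 := d34_2 (iv F10956) D3209 (iv D2239)
def n3210 : Q := act 6 n2229
theorem D3210 : act 6 n2229 = n3210 := rfl
theorem F15395 : act 0 n3210 = n3210 := d5_1 D3210 (iv D3210) F10952
theorem F15396 : act 2 n3210 = n3210 := d20_1 D3210 (iv D3210) F10953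
theorem F15397 : act 3 n3210 = n2231 := d26_1 D3210 (iv D2231) (iv F10954)
theorem F15398 : act 5 n3210 = n3210 := d35_1 D3210 (iv D3210) (iv D2229) F7818 D2229
theorem F15399 : act 9 n3210 = n2240 := d41_2 (iv F10956) D3210 (iv D2240)
def n3211 : Q := act 8 n2229
theorem D3211 : act 8 n2229 = n3211 := rfl
theorem F15400 : act 0 n3211 = n3211 := d7_1 D3211 (iv D3211) F10952
theorem F15401 : act 2 n3211 = n3211 := d22_1 D3211 (iv D3211) F10953
theorem F15402 : act 5 n3211 = n2230 := d37_1 D3211 (iv D2230) D2229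
theorem F15403 : act 7 n3211 = n3211 := d42_1 D3211 (iv D3211) F10955
def n3212 : Q := act 9 n2230
theorem D3212 : act 9 n2230 = n3212 := rfl
theorem F15404 : act 0 n3212 = n3212 := d8_1 D3212 (iv D3212) F10957
theorem F15405 : act 2 n3212 = n3212 := d23_1 D3212 (iv D3212) F10958
theorem F15406 : act 4 n3212 = n2338 := d34_1 D3212 (iv D2338) (iv F10959)
theorem F15407 : act 6 n3212 = n3212 := d41_1 D3212 (iv D3212) F10960
theorem F15408 : act 7 n3212 = n3212 := d43_1 D3212 (iv D3212) F10961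
theorem F15409 : act 8 n3212 = n2242 := d44_1 D3212 (iv D2242) (iv D1559) (iv F7820) D2230
def n3213 : Q := act 7 n2231
theorem D3213 : act 7 n2231 = n3213 := rfl
theorem F15410 : act 0 n3213 = n3213 := d6_1 D3213 (iv D3213) F10962
theorem F15411 : act 2 n3213 = n2232 := d21_1 D3213 (iv D2232) (iv F10963)
theorem F15412 : act 5 n3213 = n3213 := d36_1 D3213 (iv D3213) F10964
theorem F15413 : act 6 n3213 = n3213 := d39_1 D3213 (iv D3213) (iv D2231) F7823 D2231
theorem F15414 : act 9 n3213 = n2243 := d43_2 (iv F10965) D3213 (iv D2243)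
def n3214 : Q := act 2 n2233
theorem D3214 : act 2 n2233 = n3214 := rfl
theorem F15415 : act 0 n3214 = n2235 := d1_1 D3214 (iv D2235) (iv F10972)
theorem F15416 : act 3 n3214 = n3214 := d17_2 D2233 D3214 (iv D3214) (iv D2233) F7832
theorem F15417 : act 4 n3214 = n2340 := d18_2 (iv F10974) D3214 (iv D2340)
theorem F15418 : act 6 n3214 = n3214 := d20_2 F10975 D3214 (iv D3214)
theorem F15419 : act 7 n3214 = n3214 := d21_2 F10976 D3214 (iv D3214)
def n3215 : Q := act 5 n2233
theorem D3215 : act 5 n2233 = n3215 := rfl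
theorem F15420 : act 0 n3215 = n2236 := d4_1 D3215 (iv D2236) (iv F10972)
theorem F15421 : act 1 n3215 = n3215 := d12_1 D3215 (iv D3215) F10973
theorem F15422 : act 3 n3215 = n2234 := d25_1 D3215 (iv D2234) D2233
theorem F15423 : act 7 n3215 = n3215 := d36_2 F10976 D3215 (iv D3215)
def n3216 : Q := act 8 n2233
theorem D3216 : act 8 n2233 = n3216 := rfl
theorem F15424 : act 0 n3216 = n2237 := d7_1 D3216 (iv D2237) (iv F10972)
theorem F15425 : act 1 n3216 = n3216 := d15_1 D3216 (iv D3216) F10973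
theorem F15426 : act 3 n3216 = n3216 := d28_1 D3216 (iv D3216) (iv D2233) F7835 D2233
theorem F15427 : act 4 n3216 = n2342 := d33_1 D3216 (iv D2342) (iv F10974)
theorem F15428 : act 6 n3216 = n3216 := d40_1 D3216 (iv D3216) F10975
theorem F15429 : act 7 n3216 = n3216 := d42_1 D3216 (iv D3216) F10976
def n3217 : Q := act 6 n2234
theorem D3217 : act 6 n2234 = n3217 := rfl
theorem F15430 : act 0 n3217 = n2238 := d5_1 D3217 (iv D2238) (iv F10977)
theorem F15431 : act 1 n3217 = n3217 := d13_1 D3217 (iv D3217) F10978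
theorem F15432 : act 2 n3217 = n3217 := d20_1 D3217 (iv D3217) F10979
theorem F15433 : act 5 n3217 = n3217 := d35_1 D3217 (iv D3217) (iv D2234) F7833 D2234
theorem F15434 : act 8 n3217 = n3217 := d40_2 F10981 D3217 (iv D3217)
def n3218 : Q := act 5 n2235
theorem D3218 : act 5 n2235 = n3218 := rfl
theorem F15435 : act 1 n3218 = n3218 := d12_1 D3218 (iv D3218) F10982
theorem F15436 : act 2 n3218 = n2236 := d19_1 D3218 (iv D2236) D2235
theorem F15437 : act 3 n3218 = n3218 := d25_1 D3218 (iv D3218) F10983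
theorem F15438 : act 7 n3218 = n3218 := d36_2 F10986 D3218 (iv D3218)
def n3219 : Q := act 8 n2235
theorem D3219 : act 8 n2235 = n3219 := rfl
theorem F15439 : act 1 n3219 = n3219 := d15_1 D3219 (iv D3219) F10982
theorem F15440 : act 2 n3219 = n2237 := d22_1 D3219 (iv D2237) D2235
theorem F15441 : act 4 n3219 = n2345 := d33_1 D3219 (iv D2345) (iv F10984)
theorem F15442 : act 6 n3219 = n3219 := d40_1 D3219 (iv D3219) F10985
theorem F15443 : act 7 n3219 = n3219 := d42_1 D3219 (iv D3219) F10986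
def n3220 : Q := act 4 n2236
theorem D3220 : act 4 n2236 = n3220 := rfl
theorem F15444 : act 1 n3220 = n2239 := d11_1 D3220 (iv D2239) (iv F10987)
theorem F15445 : act 5 n3220 = n2346 := d30_2 D2236 D3220 (iv D2346) (iv D1629) (iv F7837)
theorem F15446 : act 7 n3220 = n3220 := d32_2 F10989 D3220 (iv D3220)
def n3221 : Q := act 6 n2236
theorem D3221 : act 6 n2236 = n3221 := rfl
theorem F15447 : act 1 n3221 = n2240 := d13_1 D3221 (iv D2240) (iv F10987)
theorem F15448 : act 3 n3221 = n2238 := d26_1 D3221 (iv D2238) (iv F10988)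
theorem F15449 : act 5 n3221 = n3221 := d35_1 D3221 (iv D3221) (iv D2236) F7838 D2236
def n3222 : Q := act 8 n2236
theorem D3222 : act 8 n2236 = n3222 := rfl
theorem F15450 : act 1 n3222 = n2241 := d15_1 D3222 (iv D2241) (iv F10987)
theorem F15451 : act 3 n3222 = n3222 := d28_1 D3222 (iv D3222) F10988 F7843 (iv F10988)
theorem F15452 : act 5 n3222 = n2237 := d37_1 D3222 (iv D2237) D2236
theorem F15453 : act 7 n3222 = n3222 := d42_1 D3222 (iv D3222) F10989
def n3223 : Q := act 9 n2237
theorem D3223 : act 9 n2237 = n3223 := rfl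
theorem F15454 : act 1 n3223 = n2242 := d16_1 D3223 (iv D2242) (iv F10990)
theorem F15455 : act 3 n3223 = n3223 := d29_1 D3223 (iv D3223) F10991
theorem F15456 : act 4 n3223 = n2349 := d34_1 D3223 (iv D2349) (iv F10992)
theorem F15457 : act 6 n3223 = n3223 := d41_1 D3223 (iv D3223) F10993
theorem F15458 : act 7 n3223 = n3223 := d43_1 D3223 (iv D3223) F10994
def n3224 : Q := act 7 n2238
theorem D3224 : act 7 n2238 = n3224 := rfl
theorem F15459 : act 1 n3224 = n2243 := d14_1 D3224 (iv D2243) (iv F10995)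
theorem F15460 : act 2 n3224 = n3224 := d21_1 D3224 (iv D3224) F10996
theorem F15461 : act 5 n3224 = n3224 := d36_1 D3224 (iv D3224) F10997
theorem F15462 : act 6 n3224 = n3224 := d39_1 D3224 (iv D3224) (iv D2238) F7842 D2238
theorem F15463 : act 8 n3224 = n3224 := d42_2 F10998 D3224 (iv D3224)
def n3225 : Q := act 6 n2239
theorem D3225 : act 6 n2239 = n3225 := rfl
theorem F15464 : act 0 n3225 = n3225 := d5_1 D3225 (iv D3225) F10999
theorem F15465 : act 2 n3225 = n3225 := d20_1 D3225 (iv D3225) F11000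
theorem F15466 : act 4 n3225 = n2240 := d31_1 D3225 (iv D2240) D2239
def n3226 : Q := act 8 n2239
theorem D3226 : act 8 n2239 = n3226 := rfl
theorem F15467 : act 0 n3226 = n3226 := d7_1 D3226 (iv D3226) F10999
theorem F15468 : act 2 n3226 = n3226 := d22_1 D3226 (iv D3226) F11000
theorem F15469 : act 4 n3226 = n2241 := d33_1 D3226 (iv D2241) D2239
theorem F15470 : act 5 n3226 = n2352 := d37_1 D3226 (iv D2352) (iv F11001)
theorem F15471 : act 7 n3226 = n3226 := d42_1 D3226 (iv D3226) F11002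
def n3227 : Q := act 7 n2240
theorem D3227 : act 7 n2240 = n3227 := rfl
theorem F15472 : act 0 n3227 = n3227 := d6_1 D3227 (iv D3227) F11003
theorem F15473 : act 2 n3227 = n3227 := d21_1 D3227 (iv D3227) F11004
theorem F15474 : act 3 n3227 = n2243 := d27_1 D3227 (iv D2243) (iv F11005)
theorem F15475 : act 5 n3227 = n3227 := d36_1 D3227 (iv D3227) F11006
theorem F15476 : act 6 n3227 = n3227 := d39_1 D3227 (iv D3227) (iv D2240) F7847 D2240
def n3228 : Q := act 8 n2240
theorem D3228 : act 8 n2240 = n3228 := rfl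
theorem F15477 : act 0 n3228 = n3228 := d7_1 D3228 (iv D3228) F11003
theorem F15478 : act 2 n3228 = n3228 := d22_1 D3228 (iv D3228) F11004
theorem F15479 : act 3 n3228 = n3228 := d28_1 D3228 (iv D3228) F11005 F7857 (iv F11005)
theorem F15480 : act 5 n3228 = n3228 := d37_1 D3228 (iv D3228) F11006
theorem F15481 : act 6 n3228 = n2241 := d40_1 D3228 (iv D2241) D2240
def n3229 : Q := act 9 n2241
theorem D3229 : act 9 n2241 = n3229 := rfl
theorem F15482 : act 0 n3229 = n3229 := d8_1 D3229 (iv D3229) F11007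
theorem F15483 : act 2 n3229 = n3229 := d23_1 D3229 (iv D3229) F11008
theorem F15484 : act 3 n3229 = n3229 := d29_1 D3229 (iv D3229) F11009
theorem F15485 : act 5 n3229 = n2242 := d38_1 D3229 (iv D2242) (iv F11010)
theorem F15486 : act 7 n3229 = n3229 := d43_1 D3229 (iv D3229) F11011
def n3230 : Q := act 5 n2244
theorem D3230 : act 5 n2244 = n3230 := rfl
theorem F15487 : act 0 n3230 = n3230 := d4_1 D3230 (iv D3230) F11023
theorem F15488 : act 1 n3230 = n2417 := d12_1 D3230 (iv D2417) (iv F11024)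
theorem F15489 : act 2 n3230 = n3230 := d19_1 D3230 (iv D3230) F11025
theorem F15490 : act 3 n3230 = n3230 := d25_1 D3230 (iv D3230) F11026
theorem F15491 : act 4 n3230 = n3230 := d30_1 D3230 (iv D3230) (iv D2244) F7867 D2244
theorem F15492 : act 6 n3230 = n3230 := d35_2 (iv F11027) D3230 (iv D3230) F11027 F7887
theorem F15493 : act 7 n3230 = n3230 := d36_2 F11028 D3230 (iv D3230)
theorem F15494 : act 8 n3230 = n3230 := d37_2 F11029 D3230 (iv D3230)
def n3231 : Q := act 9 n2244
theorem D3231 : act 9 n2244 = n3231 := rfl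
theorem F15495 : act 0 n3231 = n3231 := d8_1 D3231 (iv D3231) F11023
theorem F15496 : act 1 n3231 = n2418 := d16_1 D3231 (iv D2418) (iv F11024)
theorem F15497 : act 2 n3231 = n3231 := d23_1 D3231 (iv D3231) F11025
theorem F15498 : act 3 n3231 = n3231 := d29_1 D3231 (iv D3231) F11026
theorem F15499 : act 4 n3231 = n2245 := d34_1 D3231 (iv D2245) D2244
theorem F15500 : act 6 n3231 = n2248 := d41_1 D3231 (iv D2248) (iv F11027)
theorem F15501 : act 7 n3231 = n3231 := d43_1 D3231 (iv D3231) F11028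
def n3232 : Q := act 8 n2245
theorem D3232 : act 8 n2245 = n3232 := rfl
theorem F15502 : act 0 n3232 = n3232 := d7_1 D3232 (iv D3232) F11030
theorem F15503 : act 1 n3232 = n2419 := d15_1 D3232 (iv D2419) (iv F11031)
theorem F15504 : act 2 n3232 = n3232 := d22_1 D3232 (iv D3232) F11032
theorem F15505 : act 5 n3232 = n3232 := d37_1 D3232 (iv D3232) F11034
theorem F15506 : act 6 n3232 = n2249 := d40_1 D3232 (iv D2249) (iv F11035)
theorem F15507 : act 7 n3232 = n3232 := d42_1 D3232 (iv D3232) F11036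
theorem F15508 : act 9 n3232 = n3232 := d44_2 D2245 D3232 (iv D3232) (iv D2245) F7870
def n3233 : Q := act 3 n2246
theorem D3233 : act 3 n2246 = n3233 := rfl
theorem F15509 : act 0 n3233 = n3233 := d2_1 D3233 (iv D3233) F11037
theorem F15510 : act 1 n3233 = n2420 := d10_1 D3233 (iv D2420) (iv F11038)
theorem F15511 : act 5 n3233 = n3233 := d25_2 F11040 D3233 (iv D3233)
theorem F15512 : act 6 n3233 = n2250 := d26_2 (iv F11041) D3233 (iv D2250)
theorem F15513 : act 7 n3233 = n3233 := d27_2 F11042 D3233 (iv D3233)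
theorem F15514 : act 9 n3233 = n2247 := d29_2 (iv F11043) D3233 (iv D2247)
def n3234 : Q := act 2 n2247
theorem D3234 : act 2 n2247 = n3234 := rfl
theorem F15515 : act 0 n3234 = n3234 := d1_1 D3234 (iv D3234) F11044
theorem F15516 : act 5 n3234 = n3234 := d19_2 F11046 D3234 (iv D3234)
theorem F15517 : act 6 n3234 = n2251 := d20_2 (iv F11047) D3234 (iv D2251)
theorem F15518 : act 7 n3234 = n3234 := d21_2 F11048 D3234 (iv D3234)
theorem F15519 : act 8 n3234 = n3234 := d22_2 F11049 D3234 (iv D3234)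
def n3235 : Q := act 4 n2247
theorem D3235 : act 4 n2247 = n3235 := rfl
theorem F15520 : act 0 n3235 = n3235 := d3_1 D3235 (iv D3235) F11044
theorem F15521 : act 1 n3235 = n2422 := d11_1 D3235 (iv D2422) (iv F11045)
theorem F15522 : act 3 n3235 = n3235 := d24_1 D3235 (iv D3235) (iv D2247) F7879 D2247
theorem F15523 : act 6 n3235 = n2252 := d31_2 (iv F11047) D3235 (iv D2252)
theorem F15524 : act 7 n3235 = n3235 := d32_2 F11048 D3235 (iv D3235)
theorem F15525 : act 8 n3235 = n3235 := d33_2 F11049 D3235 (iv D3235)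
def n3236 : Q := act 8 n2248
theorem D3236 : act 8 n2248 = n3236 := rfl
theorem F15526 : act 0 n3236 = n3236 := d7_1 D3236 (iv D3236) F11050
theorem F15527 : act 1 n3236 = n2426 := d15_1 D3236 (iv D2426) (iv F11051)
theorem F15528 : act 2 n3236 = n3236 := d22_1 D3236 (iv D3236) F11052
theorem F15529 : act 4 n3236 = n2249 := d33_1 D3236 (iv D2249) (iv F11054)
theorem F15530 : act 5 n3236 = n3236 := d37_1 D3236 (iv D3236) F11055
theorem F15531 : act 7 n3236 = n2253 := d42_1 D3236 (iv D2253) (iv F11056)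
theorem F15532 : act 9 n3236 = n3236 := d44_2 D2248 D3236 (iv D3236) (iv D2248) F7889
def n3237 : Q := act 3 n2249
theorem D3237 : act 3 n2249 = n3237 := rfl
theorem F15533 : act 0 n3237 = n3237 := d2_1 D3237 (iv D3237) F11057
theorem F15534 : act 1 n3237 = n2427 := d10_1 D3237 (iv D2427) (iv F11058)
theorem F15535 : act 5 n3237 = n2260 := d25_2 (iv F11060) D3237 (iv D2260)
theorem F15536 : act 7 n3237 = n2254 := d27_2 (iv F11061) D3237 (iv D2254)
theorem F15537 : act 8 n3237 = n2250 := d28_2 D2249 D3237 (iv D2250) (iv D1567) (iv F7893)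
theorem F15538 : act 9 n3237 = n3237 := d29_2 F11062 D3237 (iv D3237)
def n3238 : Q := act 2 n2250
theorem D3238 : act 2 n2250 = n3238 := rfl
theorem F15539 : act 0 n3238 = n3238 := d1_1 D3238 (iv D3238) F11063
theorem F15540 : act 5 n3238 = n2261 := d19_2 (iv F11065) D3238 (iv D2261)
theorem F15541 : act 7 n3238 = n2255 := d21_2 (iv F11066) D3238 (iv D2255)
theorem F15542 : act 9 n3238 = n2251 := d23_2 (iv F11067) D3238 (iv D2251)
def n3239 : Q := act 4 n2250
theorem D3239 : act 4 n2250 = n3239 := rfl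
theorem F15543 : act 0 n3239 = n3239 := d3_1 D3239 (iv D3239) F11063
theorem F15544 : act 1 n3239 = n2429 := d11_1 D3239 (iv D2429) (iv F11064)
theorem F15545 : act 3 n3239 = n3239 := d24_1 D3239 (iv D3239) (iv D2250) F7898 D2250
theorem F15546 : act 7 n3239 = n2256 := d32_2 (iv F11066) D3239 (iv D2256)
theorem F15547 : act 9 n3239 = n2252 := d34_2 (iv F11067) D3239 (iv D2252)
def n3240 : Q := act 1 n2251
theorem D3240 : act 1 n2251 = n3240 := rfl
theorem F15548 : act 2 n3240 = n2430 := d9_2 D2251 D3240 (iv D2430) (iv D1690) (iv F7903)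
theorem F15549 : act 5 n3240 = n2263 := d12_2 (iv F11069) D3240 (iv D2263)
theorem F15550 : act 7 n3240 = n2257 := d14_2 (iv F11070) D3240 (iv D2257)
theorem F15551 : act 8 n3240 = n3240 := d15_2 F11071 D3240 (iv D3240)
def n3241 : Q := act 4 n2251
theorem D3241 : act 4 n2251 = n3241 := rfl
theorem F15552 : act 0 n3241 = n3241 := d3_1 D3241 (iv D3241) F11068
theorem F15553 : act 2 n3241 = n2252 := d18_1 D3241 (iv D2252) D2251
theorem F15554 : act 7 n3241 = n2258 := d32_2 (iv F11070) D3241 (iv D2258)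
theorem F15555 : act 8 n3241 = n3241 := d33_2 F11071 D3241 (iv D3241)
def n3242 : Q := act 5 n2252
theorem D3242 : act 5 n2252 = n3242 := rfl
theorem F15556 : act 0 n3242 = n3242 := d4_1 D3242 (iv D3242) F11072
theorem F15557 : act 1 n3242 = n2432 := d12_1 D3242 (iv D2432) (iv F11073)
theorem F15558 : act 3 n3242 = n3242 := d25_1 D3242 (iv D3242) F11074
theorem F15559 : act 4 n3242 = n2265 := d30_1 D3242 (iv D2265) (iv D1577) (iv F7904) D2252
theorem F15560 : act 7 n3242 = n2259 := d36_2 (iv F11075) D3242 (iv D2259)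
theorem F15561 : act 8 n3242 = n3242 := d37_2 F11076 D3242 (iv D3242)
def n3243 : Q := act 3 n2253
theorem D3243 : act 3 n2253 = n3243 := rfl
theorem F15562 : act 0 n3243 = n3243 := d2_1 D3243 (iv D3243) F11077
theorem F15563 : act 1 n3243 = n2437 := d10_1 D3243 (iv D2437) (iv F11078)
theorem F15564 : act 5 n3243 = n3243 := d25_2 F11081 D3243 (iv D3243)
theorem F15565 : act 6 n3243 = n3243 := d26_2 F11082 D3243 (iv D3243)
theorem F15566 : act 8 n3243 = n3243 := d28_2 D2253 D3243 (iv D3243) (iv D2253) F7910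
theorem F15567 : act 9 n3243 = n3243 := d29_2 F11083 D3243 (iv D3243)
def n3244 : Q := act 2 n2254
theorem D3244 : act 2 n2254 = n3244 := rfl
theorem F15568 : act 0 n3244 = n3244 := d1_1 D3244 (iv D3244) F11084
theorem F15569 : act 3 n3244 = n3244 := d17_2 D2254 D3244 (iv D3244) (iv D2254) F7916
theorem F15570 : act 5 n3244 = n2266 := d19_2 (iv F11086) D3244 (iv D2266)
theorem F15571 : act 6 n3244 = n3244 := d20_2 F11087 D3244 (iv D3244)
theorem F15572 : act 8 n3244 = n2255 := d22_2 (iv F11088) D3244 (iv D2255)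
theorem F15573 : act 9 n3244 = n3244 := d23_2 F11089 D3244 (iv D3244)
def n3245 : Q := act 4 n2254
theorem D3245 : act 4 n2254 = n3245 := rfl
theorem F15574 : act 0 n3245 = n3245 := d3_1 D3245 (iv D3245) F11084
theorem F15575 : act 1 n3245 = n2439 := d11_1 D3245 (iv D2439) (iv F11085)
theorem F15576 : act 6 n3245 = n3245 := d31_2 F11087 D3245 (iv D3245)
theorem F15577 : act 8 n3245 = n2256 := d33_2 (iv F11088) D3245 (iv D2256)
theorem F15578 : act 9 n3245 = n3245 := d34_2 F11089 D3245 (iv D3245)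
def n3246 : Q := act 1 n2255
theorem D3246 : act 1 n2255 = n3246 := rfl
theorem F15579 : act 2 n3246 = n2440 := d9_2 D2255 D3246 (iv D2440) (iv D1697) (iv F7921)
theorem F15580 : act 5 n3246 = n2268 := d12_2 (iv F11091) D3246 (iv D2268)
theorem F15581 : act 6 n3246 = n3246 := d13_2 F11092 D3246 (iv D3246)
theorem F15582 : act 9 n3246 = n2257 := d16_2 (iv F11093) D3246 (iv D2257)
def n3247 : Q := act 4 n2255
theorem D3247 : act 4 n2255 = n3247 := rfl
theorem F15583 : act 0 n3247 = n3247 := d3_1 D3247 (iv D3247) F11090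
theorem F15584 : act 2 n3247 = n2256 := d18_1 D3247 (iv D2256) D2255
theorem F15585 : act 6 n3247 = n3247 := d31_2 F11092 D3247 (iv D3247)
theorem F15586 : act 9 n3247 = n2258 := d34_2 (iv F11093) D3247 (iv D2258)
def n3248 : Q := act 5 n2256
theorem D3248 : act 5 n2256 = n3248 := rfl
theorem F15587 : act 0 n3248 = n3248 := d4_1 D3248 (iv D3248) F11094
theorem F15588 : act 1 n3248 = n2442 := d12_1 D3248 (iv D2442) (iv F11095)
theorem F15589 : act 3 n3248 = n3248 := d25_1 D3248 (iv D3248) F11096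
theorem F15590 : act 4 n3248 = n2270 := d30_1 D3248 (iv D2270) (iv D1580) (iv F7922) D2256
theorem F15591 : act 9 n3248 = n2259 := d38_2 (iv F11098) D3248 (iv D2259)
def n3249 : Q := act 0 n2257
theorem D3249 : act 0 n2257 = n3249 := rfl
theorem F15592 : act 1 n3249 = n3249 := d0_2 D2257 D3249 (iv D3249) (iv D2257) F7925
theorem F15593 : act 2 n3249 = n2443 := d1_2 (iv F11099) D3249 (iv D2443)
theorem F15594 : act 5 n3249 = n2271 := d4_2 (iv F11100) D3249 (iv D2271)
theorem F15595 : act 6 n3249 = n3249 := d5_2 F11101 D3249 (iv D3249)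
theorem F15596 : act 8 n3249 = n3249 := d7_2 F11102 D3249 (iv D3249)
def n3250 : Q := act 4 n2257
theorem D3250 : act 4 n2257 = n3250 := rfl
theorem F15597 : act 1 n3250 = n2258 := d11_1 D3250 (iv D2258) D2257
theorem F15598 : act 2 n3250 = n2444 := d18_1 D3250 (iv D2444) (iv F11099)
theorem F15599 : act 6 n3250 = n3250 := d31_2 F11101 D3250 (iv D3250)
theorem F15600 : act 8 n3250 = n3250 := d33_2 F11102 D3250 (iv D3250)
def n3251 : Q := act 3 n2258
theorem D3251 : act 3 n2258 = n3251 := rfl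
theorem F15601 : act 0 n3251 = n3251 := d2_1 D3251 (iv D3251) F11103
theorem F15602 : act 2 n3251 = n3251 := d17_1 D3251 (iv D3251) F11104 F7931 (iv F11104)
theorem F15603 : act 6 n3251 = n3251 := d26_2 F11105 D3251 (iv D3251)
def n3252 : Q := act 5 n2258
theorem D3252 : act 5 n2258 = n3252 := rfl
theorem F15604 : act 0 n3252 = n3252 := d4_1 D3252 (iv D3252) F11103
theorem F15605 : act 2 n3252 = n2259 := d19_1 D3252 (iv D2259) (iv F11104)
theorem F15606 : act 4 n3252 = n2274 := d30_1 D3252 (iv D2274) (iv D1582) (iv F7926) D2258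
theorem F15607 : act 8 n3252 = n3252 := d37_2 F11106 D3252 (iv D3252)
def n3253 : Q := act 6 n2259
theorem D3253 : act 6 n2259 = n3253 := rfl
theorem F15608 : act 0 n3253 = n3253 := d5_1 D3253 (iv D3253) F11107
theorem F15609 : act 1 n3253 = n2447 := d13_1 D3253 (iv D2447) (iv F11108)
theorem F15610 : act 3 n3253 = n3253 := d26_1 D3253 (iv D3253) F11109
theorem F15611 : act 4 n3253 = n2275 := d31_1 D3253 (iv D2275) (iv F11110)
theorem F15612 : act 5 n3253 = n3253 := d35_1 D3253 (iv D3253) (iv D2259) F7932 D2259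
theorem F15613 : act 8 n3253 = n3253 := d40_2 F11111 D3253 (iv D3253)
def n3254 : Q := act 2 n2260
theorem D3254 : act 2 n2260 = n3254 := rfl
theorem F15614 : act 0 n3254 = n3254 := d1_1 D3254 (iv D3254) F11112
theorem F15615 : act 3 n3254 = n3254 := d17_2 D2260 D3254 (iv D3254) (iv D2260) F7936
theorem F15616 : act 6 n3254 = n3254 := d20_2 F11114 D3254 (iv D3254)
theorem F15617 : act 7 n3254 = n2266 := d21_2 (iv F11115) D3254 (iv D2266)
theorem F15618 : act 8 n3254 = n2261 := d22_2 (iv F11116) D3254 (iv D2261)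
theorem F15619 : act 9 n3254 = n3254 := d23_2 F11117 D3254 (iv D3254)
def n3255 : Q := act 4 n2260
theorem D3255 : act 4 n2260 = n3255 := rfl
theorem F15620 : act 0 n3255 = n3255 := d3_1 D3255 (iv D3255) F11112
theorem F15621 : act 1 n3255 = n2450 := d11_1 D3255 (iv D2450) (iv F11113)
theorem F15622 : act 3 n3255 = n3255 := d24_1 D3255 (iv D3255) (iv D2260) F7937 D2260
theorem F15623 : act 6 n3255 = n3255 := d31_2 F11114 D3255 (iv D3255)
theorem F15624 : act 7 n3255 = n2267 := d32_2 (iv F11115) D3255 (iv D2267)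
theorem F15625 : act 8 n3255 = n2262 := d33_2 (iv F11116) D3255 (iv D2262)
theorem F15626 : act 9 n3255 = n3255 := d34_2 F11117 D3255 (iv D3255)
def n3256 : Q := act 1 n2261
theorem D3256 : act 1 n2261 = n3256 := rfl
theorem F15627 : act 2 n3256 = n2451 := d9_2 D2261 D3256 (iv D2451) (iv D1704) (iv F7942)
theorem F15628 : act 6 n3256 = n3256 := d13_2 F11119 D3256 (iv D3256)
theorem F15629 : act 7 n3256 = n2268 := d14_2 (iv F11120) D3256 (iv D2268)
theorem F15630 : act 9 n3256 = n2263 := d16_2 (iv F11121) D3256 (iv D2263)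
def n3257 : Q := act 4 n2261
theorem D3257 : act 4 n2261 = n3257 := rfl
theorem F15631 : act 0 n3257 = n3257 := d3_1 D3257 (iv D3257) F11118
theorem F15632 : act 2 n3257 = n2262 := d18_1 D3257 (iv D2262) D2261
theorem F15633 : act 6 n3257 = n3257 := d31_2 F11119 D3257 (iv D3257)
theorem F15634 : act 7 n3257 = n2269 := d32_2 (iv F11120) D3257 (iv D2269)
theorem F15635 : act 9 n3257 = n2264 := d34_2 (iv F11121) D3257 (iv D2264)
def n3258 : Q := act 5 n2262
theorem D3258 : act 5 n2262 = n3258 := rfl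
theorem F15636 : act 0 n3258 = n3258 := d4_1 D3258 (iv D3258) F11122
theorem F15637 : act 1 n3258 = n2453 := d12_1 D3258 (iv D2453) (iv F11123)
theorem F15638 : act 3 n3258 = n2293 := d25_1 D3258 (iv D2293) (iv F11124)
theorem F15639 : act 7 n3258 = n2270 := d36_2 (iv F11126) D3258 (iv D2270)
theorem F15640 : act 9 n3258 = n2265 := d38_2 (iv F11127) D3258 (iv D2265)
def n3259 : Q := act 0 n2263
theorem D3259 : act 0 n2263 = n3259 := rfl
theorem F15641 : act 1 n3259 = n3259 := d0_2 D2263 D3259 (iv D3259) (iv D2263) F7946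
theorem F15642 : act 2 n3259 = n2454 := d1_2 (iv F11128) D3259 (iv D2454)
theorem F15643 : act 6 n3259 = n3259 := d5_2 F11129 D3259 (iv D3259)
theorem F15644 : act 7 n3259 = n2271 := d6_2 (iv F11130) D3259 (iv D2271)
theorem F15645 : act 8 n3259 = n3259 := d7_2 F11131 D3259 (iv D3259)
def n3260 : Q := act 4 n2263
theorem D3260 : act 4 n2263 = n3260 := rfl
theorem F15646 : act 1 n3260 = n2264 := d11_1 D3260 (iv D2264) D2263
theorem F15647 : act 2 n3260 = n2455 := d18_1 D3260 (iv D2455) (iv F11128)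
theorem F15648 : act 6 n3260 = n3260 := d31_2 F11129 D3260 (iv D3260)
theorem F15649 : act 7 n3260 = n2272 := d32_2 (iv F11130) D3260 (iv D2272)
theorem F15650 : act 8 n3260 = n3260 := d33_2 F11131 D3260 (iv D3260)
def n3261 : Q := act 3 n2264
theorem D3261 : act 3 n2264 = n3261 := rfl
theorem F15651 : act 0 n3261 = n3261 := d2_1 D3261 (iv D3261) F11132
theorem F15652 : act 2 n3261 = n2296 := d17_1 D3261 (iv D2296) F8046 (iv F7952) (iv F11133)
theorem F15653 : act 6 n3261 = n3261 := d26_2 F11134 D3261 (iv D3261)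
theorem F15654 : act 7 n3261 = n2273 := d27_2 (iv F11135) D3261 (iv D2273)
def n3262 : Q := act 5 n2264
theorem D3262 : act 5 n2264 = n3262 := rfl
theorem F15655 : act 0 n3262 = n3262 := d4_1 D3262 (iv D3262) F11132
theorem F15656 : act 2 n3262 = n2265 := d19_1 D3262 (iv D2265) (iv F11133)
theorem F15657 : act 7 n3262 = n2274 := d36_2 (iv F11135) D3262 (iv D2274)
theorem F15658 : act 8 n3262 = n3262 := d37_2 F11136 D3262 (iv D3262)
def n3263 : Q := act 6 n2265
theorem D3263 : act 6 n2265 = n3263 := rfl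
theorem F15659 : act 0 n3263 = n3263 := d5_1 D3263 (iv D3263) F11137
theorem F15660 : act 1 n3263 = n2458 := d13_1 D3263 (iv D2458) (iv F11138)
theorem F15661 : act 3 n3263 = n2298 := d26_1 D3263 (iv D2298) (iv F11139)
theorem F15662 : act 5 n3263 = n3263 := d35_1 D3263 (iv D3263) (iv D2265) F7953 D2265
theorem F15663 : act 8 n3263 = n3263 := d40_2 F11141 D3263 (iv D3263)
def n3264 : Q := act 1 n2266
theorem D3264 : act 1 n2266 = n3264 := rfl
theorem F15664 : act 2 n3264 = n2461 := d9_2 D2266 D3264 (iv D2461) (iv D1710) (iv F7957)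
theorem F15666 : act 6 n3264 = n2276 := d13_2 (iv F11144) D3264 (iv D2276)
theorem F15667 : act 8 n3264 = n2268 := d15_2 (iv F11145) D3264 (iv D2268)
def n3265 : Q := act 4 n2266
theorem D3265 : act 4 n2266 = n3265 := rfl
theorem F15669 : act 0 n3265 = n3265 := d3_1 D3265 (iv D3265) F11142
theorem F15670 : act 2 n3265 = n2267 := d18_1 D3265 (iv D2267) D2266
theorem F15671 : act 6 n3265 = n2277 := d31_2 (iv F11144) D3265 (iv D2277)
theorem F15672 : act 8 n3265 = n2269 := d33_2 (iv F11145) D3265 (iv D2269)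
theorem F15673 : act 9 n3265 = n3265 := d34_2 F11146 D3265 (iv D3265)
def n3266 : Q := act 5 n2267
theorem D3266 : act 5 n2267 = n3266 := rfl
theorem F15674 : act 0 n3266 = n3266 := d4_1 D3266 (iv D3266) F11147
theorem F15675 : act 1 n3266 = n2463 := d12_1 D3266 (iv D2463) (iv F11148)
theorem F15676 : act 3 n3266 = n3266 := d25_1 D3266 (iv D3266) F11149
theorem F15677 : act 8 n3266 = n2270 := d37_2 (iv F11151) D3266 (iv D2270)
theorem F15678 : act 9 n3266 = n3266 := d38_2 F11152 D3266 (iv D3266)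
def n3267 : Q := act 0 n2268
theorem D3267 : act 0 n2268 = n3267 := rfl
theorem F15680 : act 2 n3267 = n2464 := d1_2 (iv F11153) D3267 (iv D2464)
theorem F15681 : act 6 n3267 = n2279 := d5_2 (iv F11154) D3267 (iv D2279)
theorem F15682 : act 9 n3267 = n2271 := d8_2 (iv F11155) D3267 (iv D2271)
def n3268 : Q := act 4 n2268
theorem D3268 : act 4 n2268 = n3268 := rfl
theorem F15683 : act 1 n3268 = n2269 := d11_1 D3268 (iv D2269) D2268
theorem F15684 : act 2 n3268 = n2465 := d18_1 D3268 (iv D2465) (iv F11153)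
theorem F15685 : act 6 n3268 = n2280 := d31_2 (iv F11154) D3268 (iv D2280)
theorem F15686 : act 9 n3268 = n2272 := d34_2 (iv F11155) D3268 (iv D2272)
def n3269 : Q := act 3 n2269
theorem D3269 : act 3 n2269 = n3269 := rfl
theorem F15687 : act 0 n3269 = n3269 := d2_1 D3269 (iv D3269) F11156
theorem F15688 : act 2 n3269 = n2301 := d17_1 D3269 (iv D2301) F8061 (iv F7966) (iv F11157)
theorem F15689 : act 6 n3269 = n2281 := d26_2 (iv F11158) D3269 (iv D2281)
theorem F15690 : act 9 n3269 = n2273 := d29_2 (iv F11159) D3269 (iv D2273)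
def n3270 : Q := act 5 n2269
theorem D3270 : act 5 n2269 = n3270 := rfl
theorem F15691 : act 0 n3270 = n3270 := d4_1 D3270 (iv D3270) F11156
theorem F15692 : act 2 n3270 = n2270 := d19_1 D3270 (iv D2270) (iv F11157)
theorem F15693 : act 9 n3270 = n2274 := d38_2 (iv F11159) D3270 (iv D2274)
def n3271 : Q := act 6 n2270
theorem D3271 : act 6 n2270 = n3271 := rfl
theorem F15694 : act 0 n3271 = n3271 := d5_1 D3271 (iv D3271) F11160
theorem F15695 : act 1 n3271 = n2468 := d13_1 D3271 (iv D2468) (iv F11161)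
theorem F15696 : act 3 n3271 = n2303 := d26_1 D3271 (iv D2303) (iv F11162)
theorem F15697 : act 5 n3271 = n2283 := d35_1 D3271 (iv D2283) (iv D1588) (iv F7967) D2270
theorem F15698 : act 9 n3271 = n2275 := d41_2 (iv F11163) D3271 (iv D2275)
def n3272 : Q := act 4 n2271
theorem D3272 : act 4 n2271 = n3272 := rfl
theorem F15699 : act 0 n3272 = n2272 := d3_1 D3272 (iv D2272) D2271
theorem F15700 : act 1 n3272 = n3272 := d11_1 D3272 (iv D3272) F11164
theorem F15701 : act 2 n3272 = n2469 := d18_1 D3272 (iv D2469) (iv F11165)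
theorem F15702 : act 6 n3272 = n2284 := d31_2 (iv F11166) D3272 (iv D2284)
theorem F15703 : act 8 n3272 = n3272 := d33_2 F11167 D3272 (iv D3272)
def n3273 : Q := act 3 n2272
theorem D3273 : act 3 n2272 = n3273 := rfl
theorem F15704 : act 1 n3273 = n2273 := d10_1 D3273 (iv D2273) (iv F11168)
theorem F15705 : act 6 n3273 = n2285 := d26_2 (iv F11170) D3273 (iv D2285)
def n3274 : Q := act 5 n2272
theorem D3274 : act 5 n2272 = n3274 := rfl
theorem F15706 : act 1 n3274 = n2274 := d12_1 D3274 (iv D2274) (iv F11168)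
theorem F15707 : act 2 n3274 = n2471 := d19_1 D3274 (iv D2471) (iv F11169)
theorem F15708 : act 8 n3274 = n3274 := d37_2 F11171 D3274 (iv D3274)
def n3275 : Q := act 5 n2273
theorem D3275 : act 5 n2273 = n3275 := rfl
theorem F15709 : act 0 n3275 = n3275 := d4_1 D3275 (iv D3275) F11172
theorem F15710 : act 2 n3275 = n2307 := d19_1 D3275 (iv D2307) (iv F11173)
theorem F15711 : act 3 n3275 = n2274 := d25_1 D3275 (iv D2274) D2273
def n3276 : Q := act 8 n2273
theorem D3276 : act 8 n2273 = n3276 := rfl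
theorem F15712 : act 0 n3276 = n3276 := d7_1 D3276 (iv D3276) F11172
theorem F15713 : act 2 n3276 = n2308 := d22_1 D3276 (iv D2308) (iv F11173)
theorem F15714 : act 3 n3276 = n3276 := d28_1 D3276 (iv D3276) (iv D2273) F7975 D2273
theorem F15715 : act 6 n3276 = n2288 := d40_1 D3276 (iv D2288) (iv F11174)
def n3277 : Q := act 6 n2274
theorem D3277 : act 6 n2274 = n3277 := rfl
theorem F15716 : act 0 n3277 = n3277 := d5_1 D3277 (iv D3277) F11175
theorem F15717 : act 2 n3277 = n2275 := d20_1 D3277 (iv D2275) (iv F11176)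
theorem F15718 : act 5 n3277 = n2289 := d35_1 D3277 (iv D2289) (iv D1592) (iv F7974) D2274
theorem F15719 : act 8 n3277 = n3277 := d40_2 F11177 D3277 (iv D3277)
def n3278 : Q := act 7 n2275
theorem D3278 : act 7 n2275 = n3278 := rfl
theorem F15720 : act 0 n3278 = n3278 := d6_1 D3278 (iv D3278) F11178
theorem F15721 : act 1 n3278 = n2475 := d14_1 D3278 (iv D2475) (iv F11179)
theorem F15722 : act 3 n3278 = n2310 := d27_1 D3278 (iv D2310) (iv F11180)
theorem F15723 : act 5 n3278 = n2290 := d36_1 D3278 (iv D2290) (iv F11181)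
theorem F15724 : act 8 n3278 = n3278 := d42_2 F11182 D3278 (iv D3278)
def n3279 : Q := act 0 n2276
theorem D3279 : act 0 n2276 = n3279 := rfl
theorem F15730 : act 8 n3279 = n2279 := d7_2 (iv F11187) D3279 (iv D2279)
def n3280 : Q := act 4 n2276
theorem D3280 : act 4 n2276 = n3280 := rfl
theorem F15732 : act 1 n3280 = n2277 := d11_1 D3280 (iv D2277) D2276
theorem F15733 : act 2 n3280 = n2480 := d18_1 D3280 (iv D2480) (iv F11183)
theorem F15735 : act 8 n3280 = n2280 := d33_2 (iv F11187) D3280 (iv D2280)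
def n3281 : Q := act 3 n2277
theorem D3281 : act 3 n2277 = n3281 := rfl
theorem F15737 : act 0 n3281 = n3281 := d2_1 D3281 (iv D3281) F11189
theorem F15738 : act 2 n3281 = n3281 := d17_1 D3281 (iv D3281) F11190 F7988 (iv F11190)
theorem F15739 : act 4 n3281 = n3281 := d24_2 D2277 D3281 (iv D3281) (iv D2277) F7981
theorem F15740 : act 7 n3281 = n3281 := d27_2 F11191 D3281 (iv D3281)
theorem F15741 : act 9 n3281 = n3281 := d29_2 F11193 D3281 (iv D3281)
def n3282 : Q := act 5 n2277
theorem D3282 : act 5 n2277 = n3282 := rfl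
theorem F15742 : act 0 n3282 = n3282 := d4_1 D3282 (iv D3282) F11189
theorem F15743 : act 2 n3282 = n2278 := d19_1 D3282 (iv D2278) (iv F11190)
theorem F15744 : act 4 n3282 = n3282 := d30_1 D3282 (iv D3282) (iv D2277) F7982 D2277
theorem F15745 : act 7 n3282 = n3282 := d36_2 F11191 D3282 (iv D3282)
theorem F15746 : act 8 n3282 = n2282 := d37_2 (iv F11192) D3282 (iv D2282)
theorem F15747 : act 9 n3282 = n3282 := d38_2 F11193 D3282 (iv D3282)
def n3283 : Q := act 6 n2278
theorem D3283 : act 6 n2278 = n3283 := rfl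
theorem F15748 : act 0 n3283 = n3283 := d5_1 D3283 (iv D3283) F11194
theorem F15749 : act 1 n3283 = n2483 := d13_1 D3283 (iv D2483) (iv F11195)
theorem F15750 : act 3 n3283 = n3283 := d26_1 D3283 (iv D3283) F11196
theorem F15751 : act 4 n3283 = n3283 := d31_1 D3283 (iv D3283) F11197
theorem F15752 : act 8 n3283 = n2283 := d40_2 (iv F11199) D3283 (iv D2283)
theorem F15753 : act 9 n3283 = n3283 := d41_2 F11200 D3283 (iv D3283)
def n3284 : Q := act 4 n2279
theorem D3284 : act 4 n2279 = n3284 := rfl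
theorem F15754 : act 0 n3284 = n2280 := d3_1 D3284 (iv D2280) D2279
theorem F15756 : act 2 n3284 = n2484 := d18_1 D3284 (iv D2484) (iv F11202)
theorem F15758 : act 9 n3284 = n2284 := d34_2 (iv F11205) D3284 (iv D2284)
def n3285 : Q := act 3 n2280
theorem D3285 : act 3 n2280 = n3285 := rfl
theorem F15759 : act 1 n3285 = n2281 := d10_1 D3285 (iv D2281) (iv F11206)
theorem F15760 : act 7 n3285 = n3285 := d27_2 F11208 D3285 (iv D3285)
theorem F15761 : act 9 n3285 = n2285 := d29_2 (iv F11209) D3285 (iv D2285)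
def n3286 : Q := act 5 n2280
theorem D3286 : act 5 n2280 = n3286 := rfl
theorem F15762 : act 1 n3286 = n2282 := d12_1 D3286 (iv D2282) (iv F11206)
theorem F15763 : act 2 n3286 = n2486 := d19_1 D3286 (iv D2486) (iv F11207)
theorem F15764 : act 4 n3286 = n3286 := d30_1 D3286 (iv D3286) (iv D2280) F7993 D2280
theorem F15765 : act 7 n3286 = n3286 := d36_2 F11208 D3286 (iv D3286)
theorem F15766 : act 9 n3286 = n2286 := d38_2 (iv F11209) D3286 (iv D2286)
def n3287 : Q := act 5 n2281
theorem D3287 : act 5 n2281 = n3287 := rfl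
theorem F15767 : act 0 n3287 = n3287 := d4_1 D3287 (iv D3287) F11210
theorem F15768 : act 2 n3287 = n2314 := d19_1 D3287 (iv D2314) (iv F11211)
theorem F15769 : act 3 n3287 = n2282 := d25_1 D3287 (iv D2282) D2281
theorem F15770 : act 7 n3287 = n3287 := d36_2 F11212 D3287 (iv D3287)
theorem F15771 : act 9 n3287 = n2287 := d38_2 (iv F11213) D3287 (iv D2287)
def n3288 : Q := act 8 n2281
theorem D3288 : act 8 n2281 = n3288 := rfl
theorem F15772 : act 0 n3288 = n3288 := d7_1 D3288 (iv D3288) F11210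
theorem F15773 : act 2 n3288 = n2315 := d22_1 D3288 (iv D2315) (iv F11211)
theorem F15774 : act 7 n3288 = n3288 := d42_1 D3288 (iv D3288) F11212
def n3289 : Q := act 6 n2282
theorem D3289 : act 6 n2282 = n3289 := rfl
theorem F15775 : act 0 n3289 = n3289 := d5_1 D3289 (iv D3289) F11214
theorem F15776 : act 2 n3289 = n2283 := d20_1 D3289 (iv D2283) (iv F11215)
theorem F15777 : act 4 n3289 = n3289 := d31_1 D3289 (iv D3289) F11216
theorem F15778 : act 9 n3289 = n2289 := d41_2 (iv F11218) D3289 (iv D2289)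
def n3290 : Q := act 7 n2283
theorem D3290 : act 7 n2283 = n3290 := rfl
theorem F15779 : act 0 n3290 = n3290 := d6_1 D3290 (iv D3290) F11219
theorem F15780 : act 1 n3290 = n2490 := d14_1 D3290 (iv D2490) (iv F11220)
theorem F15781 : act 3 n3290 = n2317 := d27_1 D3290 (iv D2317) (iv F11221)
theorem F15782 : act 4 n3290 = n3290 := d32_1 D3290 (iv D3290) F11222
theorem F15783 : act 6 n3290 = n3290 := d39_1 D3290 (iv D3290) (iv D2283) F8004 D2283
theorem F15784 : act 9 n3290 = n2290 := d43_2 (iv F11223) D3290 (iv D2290)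
def n3291 : Q := act 3 n2284
theorem D3291 : act 3 n2284 = n3291 := rfl
theorem F15785 : act 0 n3291 = n2285 := d2_1 D3291 (iv D2285) (iv F11224)
theorem F15786 : act 1 n3291 = n3291 := d10_1 D3291 (iv D3291) F11225
theorem F15787 : act 7 n3291 = n3291 := d27_2 F11227 D3291 (iv D3291)
def n3292 : Q := act 5 n2284
theorem D3292 : act 5 n2284 = n3292 := rfl
theorem F15788 : act 0 n3292 = n2286 := d4_1 D3292 (iv D2286) (iv F11224)
theorem F15789 : act 1 n3292 = n3292 := d12_1 D3292 (iv D3292) F11225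
theorem F15790 : act 2 n3292 = n2492 := d19_1 D3292 (iv D2492) (iv F11226)
theorem F15791 : act 4 n3292 = n3292 := d30_1 D3292 (iv D3292) (iv D2284) F8008 D2284
theorem F15792 : act 7 n3292 = n3292 := d36_2 F11227 D3292 (iv D3292)
theorem F15793 : act 8 n3292 = n3292 := d37_2 F11228 D3292 (iv D3292)
def n3293 : Q := act 2 n2285
theorem D3293 : act 2 n2285 = n3293 := rfl
theorem F15794 : act 1 n3293 = n2320 := d9_1 D3293 (iv D2320) F8120 (iv F8016) (iv F11229)
theorem F15795 : act 3 n3293 = n2493 := d17_2 D2285 D3293 (iv D2493) (iv D1731) (iv F8012)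
theorem F15796 : act 7 n3293 = n3293 := d21_2 F11230 D3293 (iv D3293)
def n3294 : Q := act 5 n2285
theorem D3294 : act 5 n2285 = n3294 := rfl
theorem F15797 : act 1 n3294 = n2287 := d12_1 D3294 (iv D2287) (iv F11229)
theorem F15798 : act 3 n3294 = n2286 := d25_1 D3294 (iv D2286) D2285
theorem F15799 : act 7 n3294 = n3294 := d36_2 F11230 D3294 (iv D3294)
def n3295 : Q := act 8 n2285
theorem D3295 : act 8 n2285 = n3295 := rfl
theorem F15800 : act 1 n3295 = n2288 := d15_1 D3295 (iv D2288) (iv F11229)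
theorem F15801 : act 3 n3295 = n3295 := d28_1 D3295 (iv D3295) (iv D2285) F8014 D2285
theorem F15802 : act 7 n3295 = n3295 := d42_1 D3295 (iv D3295) F11230
def n3296 : Q := act 6 n2286
theorem D3296 : act 6 n2286 = n3296 := rfl
theorem F15803 : act 1 n3296 = n2289 := d13_1 D3296 (iv D2289) (iv F11231)
theorem F15804 : act 2 n3296 = n2496 := d20_1 D3296 (iv D2496) (iv F11232)
theorem F15805 : act 4 n3296 = n3296 := d31_1 D3296 (iv D3296) F11233
theorem F15806 : act 8 n3296 = n3296 := d40_2 F11235 D3296 (iv D3296)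
def n3297 : Q := act 4 n2287
theorem D3297 : act 4 n2287 = n3297 := rfl
theorem F15807 : act 0 n3297 = n3297 := d3_1 D3297 (iv D3297) F11236
theorem F15808 : act 2 n3297 = n2324 := d18_1 D3297 (iv D2324) (iv F11237)
theorem F15809 : act 3 n3297 = n3297 := d24_1 D3297 (iv D3297) F11238 F8020 (iv F11238)
theorem F15810 : act 7 n3297 = n3297 := d32_2 F11239 D3297 (iv D3297)
def n3298 : Q := act 6 n2287
theorem D3298 : act 6 n2287 = n3298 := rfl
theorem F15811 : act 0 n3298 = n3298 := d5_1 D3298 (iv D3298) F11236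
theorem F15812 : act 2 n3298 = n2325 := d20_1 D3298 (iv D2325) (iv F11237)
theorem F15813 : act 3 n3298 = n2289 := d26_1 D3298 (iv D2289) (iv F11238)
def n3299 : Q := act 8 n2287
theorem D3299 : act 8 n2287 = n3299 := rfl
theorem F15814 : act 0 n3299 = n3299 := d7_1 D3299 (iv D3299) F11236
theorem F15815 : act 2 n3299 = n2326 := d22_1 D3299 (iv D2326) (iv F11237)
theorem F15816 : act 3 n3299 = n3299 := d28_1 D3299 (iv D3299) F11238 F8022 (iv F11238)
theorem F15817 : act 5 n3299 = n2288 := d37_1 D3299 (iv D2288) D2287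
theorem F15818 : act 7 n3299 = n3299 := d42_1 D3299 (iv D3299) F11239
def n3300 : Q := act 9 n2288
theorem D3300 : act 9 n2288 = n3300 := rfl
theorem F15819 : act 0 n3300 = n3300 := d8_1 D3300 (iv D3300) F11240
theorem F15820 : act 2 n3300 = n2327 := d23_1 D3300 (iv D2327) (iv F11241)
theorem F15821 : act 3 n3300 = n3300 := d29_1 D3300 (iv D3300) F11242
theorem F15822 : act 7 n3300 = n3300 := d43_1 D3300 (iv D3300) F11243
def n3301 : Q := act 7 n2289
theorem D3301 : act 7 n2289 = n3301 := rfl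
theorem F15823 : act 0 n3301 = n3301 := d6_1 D3301 (iv D3301) F11244
theorem F15824 : act 2 n3301 = n2290 := d21_1 D3301 (iv D2290) (iv F11245)
theorem F15825 : act 4 n3301 = n3301 := d32_1 D3301 (iv D3301) F11246
theorem F15826 : act 6 n3301 = n3301 := d39_1 D3301 (iv D3301) (iv D2289) F8021 D2289
theorem F15827 : act 8 n3301 = n3301 := d42_2 F11247 D3301 (iv D3301)
def n3302 : Q := act 0 n2291
theorem D3302 : act 0 n2291 = n3302 := rfl
theorem F15828 : act 1 n3302 = n3302 := d0_2 D2291 D3302 (iv D3302) (iv D2291) F8028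
theorem F15829 : act 2 n3302 = n2502 := d1_2 (iv F11254) D3302 (iv D2502)
theorem F15830 : act 5 n3302 = n3302 := d4_2 F11255 D3302 (iv D3302)
theorem F15831 : act 6 n3302 = n3302 := d5_2 F11256 D3302 (iv D3302)
theorem F15832 : act 7 n3302 = n2299 := d6_2 (iv F11257) D3302 (iv D2299)
theorem F15833 : act 8 n3302 = n3302 := d7_2 F11258 D3302 (iv D3302)
theorem F15834 : act 9 n3302 = n2294 := d8_2 (iv F11259) D3302 (iv D2294)
def n3303 : Q := act 4 n2291
theorem D3303 : act 4 n2291 = n3303 := rfl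
theorem F15835 : act 1 n3303 = n2292 := d11_1 D3303 (iv D2292) D2291
theorem F15836 : act 2 n3303 = n2503 := d18_1 D3303 (iv D2503) (iv F11254)
theorem F15837 : act 6 n3303 = n3303 := d31_2 F11256 D3303 (iv D3303)
theorem F15838 : act 7 n3303 = n2300 := d32_2 (iv F11257) D3303 (iv D2300)
theorem F15839 : act 8 n3303 = n3303 := d33_2 F11258 D3303 (iv D3303)
theorem F15840 : act 9 n3303 = n2295 := d34_2 (iv F11259) D3303 (iv D2295)
def n3304 : Q := act 3 n2292
theorem D3304 : act 3 n2292 = n3304 := rfl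
theorem F15841 : act 0 n3304 = n3304 := d2_1 D3304 (iv D3304) F11260
theorem F15842 : act 6 n3304 = n3304 := d26_2 F11262 D3304 (iv D3304)
theorem F15843 : act 7 n3304 = n2301 := d27_2 (iv F11263) D3304 (iv D2301)
theorem F15844 : act 9 n3304 = n2296 := d29_2 (iv F11265) D3304 (iv D2296)
def n3305 : Q := act 5 n2292
theorem D3305 : act 5 n2292 = n3305 := rfl
theorem F15845 : act 0 n3305 = n3305 := d4_1 D3305 (iv D3305) F11260
theorem F15846 : act 2 n3305 = n2293 := d19_1 D3305 (iv D2293) (iv F11261)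
theorem F15847 : act 4 n3305 = n3305 := d30_1 D3305 (iv D3305) (iv D2292) F8029 D2292
theorem F15848 : act 7 n3305 = n2302 := d36_2 (iv F11263) D3305 (iv D2302)
theorem F15849 : act 8 n3305 = n3305 := d37_2 F11264 D3305 (iv D3305)
theorem F15850 : act 9 n3305 = n2297 := d38_2 (iv F11265) D3305 (iv D2297)
def n3306 : Q := act 6 n2293
theorem D3306 : act 6 n2293 = n3306 := rfl
theorem F15851 : act 0 n3306 = n3306 := d5_1 D3306 (iv D3306) F11266
theorem F15852 : act 1 n3306 = n2506 := d13_1 D3306 (iv D2506) (iv F11267)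
theorem F15853 : act 4 n3306 = n3306 := d31_1 D3306 (iv D3306) F11268
theorem F15854 : act 5 n3306 = n3306 := d35_1 D3306 (iv D3306) (iv D2293) F8036 D2293
theorem F15855 : act 8 n3306 = n3306 := d40_2 F11270 D3306 (iv D3306)
theorem F15856 : act 9 n3306 = n2298 := d41_2 (iv F11271) D3306 (iv D2298)
def n3307 : Q := act 4 n2294
theorem D3307 : act 4 n2294 = n3307 := rfl
theorem F15857 : act 0 n3307 = n2295 := d3_1 D3307 (iv D2295) D2294
theorem F15858 : act 1 n3307 = n3307 := d11_1 D3307 (iv D3307) F11272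
theorem F15859 : act 2 n3307 = n2507 := d18_1 D3307 (iv D2507) (iv F11273)
theorem F15860 : act 6 n3307 = n3307 := d31_2 F11275 D3307 (iv D3307)
theorem F15861 : act 7 n3307 = n2304 := d32_2 (iv F11276) D3307 (iv D2304)
theorem F15862 : act 8 n3307 = n2356 := d33_2 (iv F11277) D3307 (iv D2356)
def n3308 : Q := act 3 n2295
theorem D3308 : act 3 n2295 = n3308 := rfl
theorem F15863 : act 1 n3308 = n2296 := d10_1 D3308 (iv D2296) (iv F11278)
theorem F15864 : act 6 n3308 = n3308 := d26_2 F11280 D3308 (iv D3308)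
theorem F15865 : act 7 n3308 = n2305 := d27_2 (iv F11281) D3308 (iv D2305)
def n3309 : Q := act 5 n2295
theorem D3309 : act 5 n2295 = n3309 := rfl
theorem F15866 : act 1 n3309 = n2297 := d12_1 D3309 (iv D2297) (iv F11278)
theorem F15867 : act 2 n3309 = n2509 := d19_1 D3309 (iv D2509) (iv F11279)
theorem F15868 : act 4 n3309 = n3309 := d30_1 D3309 (iv D3309) (iv D2295) F8041 D2295
theorem F15869 : act 7 n3309 = n2306 := d36_2 (iv F11281) D3309 (iv D2306)
theorem F15870 : act 8 n3309 = n2358 := d37_2 (iv F11282) D3309 (iv D2358)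
def n3310 : Q := act 5 n2296
theorem D3310 : act 5 n2296 = n3310 := rfl
theorem F15871 : act 0 n3310 = n3310 := d4_1 D3310 (iv D3310) F11283
theorem F15872 : act 3 n3310 = n2297 := d25_1 D3310 (iv D2297) D2296
theorem F15873 : act 7 n3310 = n2307 := d36_2 (iv F11285) D3310 (iv D2307)
def n3311 : Q := act 8 n2296
theorem D3311 : act 8 n2296 = n3311 := rfl
theorem F15874 : act 0 n3311 = n3311 := d7_1 D3311 (iv D3311) F11283
theorem F15875 : act 3 n3311 = n2360 := d28_1 D3311 (iv D2360) (iv D1639) (iv F8049) D2296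
theorem F15876 : act 6 n3311 = n3311 := d40_1 D3311 (iv D3311) F11284
theorem F15877 : act 7 n3311 = n2308 := d42_1 D3311 (iv D2308) (iv F11285)
def n3312 : Q := act 6 n2297
theorem D3312 : act 6 n2297 = n3312 := rfl
theorem F15878 : act 0 n3312 = n3312 := d5_1 D3312 (iv D3312) F11286
theorem F15879 : act 2 n3312 = n2298 := d20_1 D3312 (iv D2298) (iv F11287)
theorem F15880 : act 4 n3312 = n3312 := d31_1 D3312 (iv D3312) F11288
theorem F15881 : act 5 n3312 = n3312 := d35_1 D3312 (iv D3312) (iv D2297) F8047 D2297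
theorem F15882 : act 8 n3312 = n2361 := d40_2 (iv F11290) D3312 (iv D2361)
def n3313 : Q := act 7 n2298
theorem D3313 : act 7 n2298 = n3313 := rfl
theorem F15883 : act 0 n3313 = n3313 := d6_1 D3313 (iv D3313) F11291
theorem F15884 : act 1 n3313 = n2513 := d14_1 D3313 (iv D2513) (iv F11292)
theorem F15885 : act 4 n3313 = n3313 := d32_1 D3313 (iv D3313) F11293
theorem F15886 : act 5 n3313 = n3313 := d36_1 D3313 (iv D3313) F11294
theorem F15887 : act 6 n3313 = n2310 := d39_1 D3313 (iv D2310) (iv D1606) (iv F8053) D2298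
theorem F15888 : act 8 n3313 = n2362 := d42_2 (iv F11295) D3313 (iv D2362)
def n3314 : Q := act 4 n2299
theorem D3314 : act 4 n2299 = n3314 := rfl
theorem F15889 : act 0 n3314 = n2300 := d3_1 D3314 (iv D2300) D2299
theorem F15890 : act 1 n3314 = n3314 := d11_1 D3314 (iv D3314) F11296
theorem F15891 : act 2 n3314 = n2514 := d18_1 D3314 (iv D2514) (iv F11297)
theorem F15892 : act 6 n3314 = n2311 := d31_2 (iv F11299) D3314 (iv D2311)
theorem F15893 : act 8 n3314 = n3314 := d33_2 F11300 D3314 (iv D3314)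
theorem F15894 : act 9 n3314 = n2304 := d34_2 (iv F11301) D3314 (iv D2304)
def n3315 : Q := act 3 n2300
theorem D3315 : act 3 n2300 = n3315 := rfl
theorem F15895 : act 1 n3315 = n2301 := d10_1 D3315 (iv D2301) (iv F11302)
theorem F15896 : act 6 n3315 = n2312 := d26_2 (iv F11304) D3315 (iv D2312)
theorem F15897 : act 9 n3315 = n2305 := d29_2 (iv F11306) D3315 (iv D2305)
def n3316 : Q := act 5 n2300
theorem D3316 : act 5 n2300 = n3316 := rfl
theorem F15898 : act 1 n3316 = n2302 := d12_1 D3316 (iv D2302) (iv F11302)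
theorem F15899 : act 2 n3316 = n2516 := d19_1 D3316 (iv D2516) (iv F11303)
theorem F15900 : act 4 n3316 = n3316 := d30_1 D3316 (iv D3316) (iv D2300) F8056 D2300
theorem F15901 : act 8 n3316 = n3316 := d37_2 F11305 D3316 (iv D3316)
theorem F15902 : act 9 n3316 = n2306 := d38_2 (iv F11306) D3316 (iv D2306)
def n3317 : Q := act 5 n2301
theorem D3317 : act 5 n2301 = n3317 := rfl
theorem F15903 : act 0 n3317 = n3317 := d4_1 D3317 (iv D3317) F11307
theorem F15904 : act 3 n3317 = n2302 := d25_1 D3317 (iv D2302) D2301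
theorem F15905 : act 9 n3317 = n2307 := d38_2 (iv F11309) D3317 (iv D2307)
def n3318 : Q := act 8 n2301
theorem D3318 : act 8 n2301 = n3318 := rfl
theorem F15906 : act 0 n3318 = n3318 := d7_1 D3318 (iv D3318) F11307
theorem F15907 : act 3 n3318 = n3318 := d28_1 D3318 (iv D3318) (iv D2301) F8063 D2301
theorem F15908 : act 6 n3318 = n2315 := d40_1 D3318 (iv D2315) (iv F11308)
def n3319 : Q := act 6 n2302
theorem D3319 : act 6 n2302 = n3319 := rfl
theorem F15909 : act 0 n3319 = n3319 := d5_1 D3319 (iv D3319) F11310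
theorem F15910 : act 2 n3319 = n2303 := d20_1 D3319 (iv D2303) (iv F11311)
theorem F15911 : act 4 n3319 = n3319 := d31_1 D3319 (iv D3319) F11312
theorem F15912 : act 5 n3319 = n2316 := d35_1 D3319 (iv D2316) (iv D1610) (iv F8062) D2302
theorem F15913 : act 8 n3319 = n3319 := d40_2 F11313 D3319 (iv D3319)
theorem F15914 : act 9 n3319 = n2309 := d41_2 (iv F11314) D3319 (iv D2309)
def n3320 : Q := act 7 n2303
theorem D3320 : act 7 n2303 = n3320 := rfl
theorem F15915 : act 0 n3320 = n3320 := d6_1 D3320 (iv D3320) F11315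
theorem F15916 : act 1 n3320 = n2520 := d14_1 D3320 (iv D2520) (iv F11316)
theorem F15917 : act 4 n3320 = n3320 := d32_1 D3320 (iv D3320) F11317
theorem F15918 : act 5 n3320 = n2317 := d36_1 D3320 (iv D2317) (iv F11318)
theorem F15919 : act 8 n3320 = n3320 := d42_2 F11319 D3320 (iv D3320)
theorem F15920 : act 9 n3320 = n2310 := d43_2 (iv F11320) D3320 (iv D2310)
def n3321 : Q := act 3 n2304
theorem D3321 : act 3 n2304 = n3321 := rfl
theorem F15921 : act 0 n3321 = n2305 := d2_1 D3321 (iv D2305) (iv F11321)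
theorem F15922 : act 1 n3321 = n3321 := d10_1 D3321 (iv D3321) F11322
theorem F15923 : act 6 n3321 = n2318 := d26_2 (iv F11324) D3321 (iv D2318)
def n3322 : Q := act 5 n2304
theorem D3322 : act 5 n2304 = n3322 := rfl
theorem F15924 : act 0 n3322 = n2306 := d4_1 D3322 (iv D2306) (iv F11321)
theorem F15925 : act 1 n3322 = n3322 := d12_1 D3322 (iv D3322) F11322
theorem F15926 : act 2 n3322 = n2522 := d19_1 D3322 (iv D2522) (iv F11323)
theorem F15927 : act 4 n3322 = n3322 := d30_1 D3322 (iv D3322) (iv D2304) F8072 D2304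
theorem F15928 : act 8 n3322 = n2364 := d37_2 (iv F11325) D3322 (iv D2364)
def n3323 : Q := act 2 n2305
theorem D3323 : act 2 n2305 = n3323 := rfl
theorem F15929 : act 3 n3323 = n2523 := d17_2 D2305 D3323 (iv D2523) (iv D1751) (iv F8076)
theorem F15930 : act 6 n3323 = n2320 := d20_2 (iv F11327) D3323 (iv D2320)
def n3324 : Q := act 5 n2305
theorem D3324 : act 5 n2305 = n3324 := rfl
theorem F15931 : act 1 n3324 = n2307 := d12_1 D3324 (iv D2307) (iv F11326)
theorem F15932 : act 3 n3324 = n2306 := d25_1 D3324 (iv D2306) D2305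
def n3325 : Q := act 8 n2305
theorem D3325 : act 8 n2305 = n3325 := rfl
theorem F15933 : act 1 n3325 = n2308 := d15_1 D3325 (iv D2308) (iv F11326)
theorem F15934 : act 3 n3325 = n2367 := d28_1 D3325 (iv D2367) (iv D1643) (iv F8078) D2305
theorem F15935 : act 6 n3325 = n2322 := d40_1 D3325 (iv D2322) (iv F11327)
def n3326 : Q := act 6 n2306
theorem D3326 : act 6 n2306 = n3326 := rfl
theorem F15936 : act 1 n3326 = n2309 := d13_1 D3326 (iv D2309) (iv F11328)
theorem F15937 : act 2 n3326 = n2526 := d20_1 D3326 (iv D2526) (iv F11329)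
theorem F15938 : act 4 n3326 = n3326 := d31_1 D3326 (iv D3326) F11330
theorem F15939 : act 5 n3326 = n2323 := d35_1 D3326 (iv D2323) (iv D1614) (iv F8077) D2306
theorem F15940 : act 8 n3326 = n2368 := d40_2 (iv F11331) D3326 (iv D2368)
def n3327 : Q := act 4 n2307
theorem D3327 : act 4 n2307 = n3327 := rfl
theorem F15941 : act 0 n3327 = n3327 := d3_1 D3327 (iv D3327) F11332
theorem F15942 : act 3 n3327 = n3327 := d24_1 D3327 (iv D3327) F11333 F8083 (iv F11333)
def n3328 : Q := act 6 n2307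
theorem D3328 : act 6 n2307 = n3328 := rfl
theorem F15943 : act 0 n3328 = n3328 := d5_1 D3328 (iv D3328) F11332
theorem F15944 : act 3 n3328 = n2309 := d26_1 D3328 (iv D2309) (iv F11333)
theorem F15945 : act 5 n3328 = n2325 := d35_1 D3328 (iv D2325) (iv D1615) (iv F8080) D2307
def n3329 : Q := act 8 n2307
theorem D3329 : act 8 n2307 = n3329 := rfl
theorem F15946 : act 0 n3329 = n3329 := d7_1 D3329 (iv D3329) F11332
theorem F15947 : act 3 n3329 = n2371 := d28_1 D3329 (iv D2371) F8270 (iv F8084) (iv F11333)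
theorem F15948 : act 5 n3329 = n2308 := d37_1 D3329 (iv D2308) D2307
def n3330 : Q := act 9 n2308
theorem D3330 : act 9 n2308 = n3330 := rfl
theorem F15949 : act 0 n3330 = n3330 := d8_1 D3330 (iv D3330) F11334
theorem F15950 : act 3 n3330 = n2372 := d29_1 D3330 (iv D2372) (iv F11335)
theorem F15951 : act 6 n3330 = n2327 := d41_1 D3330 (iv D2327) (iv F11336)
def n3331 : Q := act 7 n2309
theorem D3331 : act 7 n2309 = n3331 := rfl
theorem F15952 : act 0 n3331 = n3331 := d6_1 D3331 (iv D3331) F11337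
theorem F15953 : act 2 n3331 = n2310 := d21_1 D3331 (iv D2310) (iv F11338)
theorem F15954 : act 4 n3331 = n3331 := d32_1 D3331 (iv D3331) F11339
theorem F15955 : act 5 n3331 = n2328 := d36_1 D3331 (iv D2328) (iv F11340)
theorem F15956 : act 8 n3331 = n2373 := d42_2 (iv F11341) D3331 (iv D2373)
def n3332 : Q := act 3 n2311
theorem D3332 : act 3 n2311 = n3332 := rfl
theorem F15957 : act 0 n3332 = n2312 := d2_1 D3332 (iv D2312) (iv F11347)
theorem F15958 : act 1 n3332 = n3332 := d10_1 D3332 (iv D3332) F11348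
theorem F15959 : act 7 n3332 = n3332 := d27_2 F11350 D3332 (iv D3332)
theorem F15960 : act 9 n3332 = n2318 := d29_2 (iv F11352) D3332 (iv D2318)
def n3333 : Q := act 5 n2311
theorem D3333 : act 5 n2311 = n3333 := rfl
theorem F15961 : act 0 n3333 = n2313 := d4_1 D3333 (iv D2313) (iv F11347)
theorem F15962 : act 1 n3333 = n3333 := d12_1 D3333 (iv D3333) F11348
theorem F15963 : act 2 n3333 = n2533 := d19_1 D3333 (iv D2533) (iv F11349)
theorem F15964 : act 4 n3333 = n2330 := d30_1 D3333 (iv D2330) (iv D1619) (iv F8092) D2311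
theorem F15965 : act 7 n3333 = n3333 := d36_2 F11350 D3333 (iv D3333)
theorem F15966 : act 8 n3333 = n3333 := d37_2 F11351 D3333 (iv D3333)
theorem F15967 : act 9 n3333 = n2319 := d38_2 (iv F11352) D3333 (iv D2319)
def n3334 : Q := act 2 n2312
theorem D3334 : act 2 n2312 = n3334 := rfl
theorem F15968 : act 3 n3334 = n2534 := d17_2 D2312 D3334 (iv D2534) (iv D1758) (iv F8097)
theorem F15969 : act 7 n3334 = n3334 := d21_2 F11354 D3334 (iv D3334)
theorem F15970 : act 9 n3334 = n2320 := d23_2 (iv F11355) D3334 (iv D2320)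
def n3335 : Q := act 5 n2312
theorem D3335 : act 5 n2312 = n3335 := rfl
theorem F15971 : act 1 n3335 = n2314 := d12_1 D3335 (iv D2314) (iv F11353)
theorem F15972 : act 3 n3335 = n2313 := d25_1 D3335 (iv D2313) D2312
theorem F15973 : act 7 n3335 = n3335 := d36_2 F11354 D3335 (iv D3335)
theorem F15974 : act 9 n3335 = n2321 := d38_2 (iv F11355) D3335 (iv D2321)
def n3336 : Q := act 8 n2312
theorem D3336 : act 8 n2312 = n3336 := rfl
theorem F15975 : act 1 n3336 = n2315 := d15_1 D3336 (iv D2315) (iv F11353)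
theorem F15976 : act 3 n3336 = n3336 := d28_1 D3336 (iv D3336) (iv D2312) F8099 D2312
theorem F15977 : act 7 n3336 = n3336 := d42_1 D3336 (iv D3336) F11354
def n3337 : Q := act 6 n2313
theorem D3337 : act 6 n2313 = n3337 := rfl
theorem F15978 : act 1 n3337 = n2316 := d13_1 D3337 (iv D2316) (iv F11356)
theorem F15979 : act 2 n3337 = n2537 := d20_1 D3337 (iv D2537) (iv F11357)
theorem F15980 : act 4 n3337 = n2334 := d31_1 D3337 (iv D2334) (iv F11358)
theorem F15981 : act 8 n3337 = n3337 := d40_2 F11360 D3337 (iv D3337)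
theorem F15982 : act 9 n3337 = n2323 := d41_2 (iv F11361) D3337 (iv D2323)
def n3338 : Q := act 4 n2314
theorem D3338 : act 4 n2314 = n3338 := rfl
theorem F15983 : act 0 n3338 = n3338 := d3_1 D3338 (iv D3338) F11362
theorem F15984 : act 3 n3338 = n2335 := d24_1 D3338 (iv D2335) F8160 (iv F8106) (iv F11363)
theorem F15985 : act 7 n3338 = n3338 := d32_2 F11364 D3338 (iv D3338)
theorem F15986 : act 9 n3338 = n2324 := d34_2 (iv F11365) D3338 (iv D2324)
def n3339 : Q := act 6 n2314
theorem D3339 : act 6 n2314 = n3339 := rfl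
theorem F15987 : act 0 n3339 = n3339 := d5_1 D3339 (iv D3339) F11362
theorem F15988 : act 3 n3339 = n2316 := d26_1 D3339 (iv D2316) (iv F11363)
theorem F15989 : act 9 n3339 = n2325 := d41_2 (iv F11365) D3339 (iv D2325)
def n3340 : Q := act 8 n2314
theorem D3340 : act 8 n2314 = n3340 := rfl
theorem F15990 : act 0 n3340 = n3340 := d7_1 D3340 (iv D3340) F11362
theorem F15991 : act 3 n3340 = n3340 := d28_1 D3340 (iv D3340) F11363 F8108 (iv F11363)
theorem F15992 : act 5 n3340 = n2315 := d37_1 D3340 (iv D2315) D2314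
theorem F15993 : act 7 n3340 = n3340 := d42_1 D3340 (iv D3340) F11364
def n3341 : Q := act 9 n2315
theorem D3341 : act 9 n2315 = n3341 := rfl
theorem F15994 : act 0 n3341 = n3341 := d8_1 D3341 (iv D3341) F11366
theorem F15995 : act 3 n3341 = n3341 := d29_1 D3341 (iv D3341) F11367
theorem F15996 : act 7 n3341 = n3341 := d43_1 D3341 (iv D3341) F11368
theorem F15997 : act 8 n3341 = n2327 := d44_1 D3341 (iv D2327) (iv D1616) (iv F8103) D2315
def n3342 : Q := act 7 n2316
theorem D3342 : act 7 n2316 = n3342 := rfl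
theorem F15998 : act 0 n3342 = n3342 := d6_1 D3342 (iv D3342) F11369
theorem F15999 : act 2 n3342 = n2317 := d21_1 D3342 (iv D2317) (iv F11370)
theorem F16000 : act 4 n3342 = n2339 := d32_1 D3342 (iv D2339) (iv F11371)
theorem F16001 : act 6 n3342 = n3342 := d39_1 D3342 (iv D3342) (iv D2316) F8107 D2316
theorem F16002 : act 8 n3342 = n3342 := d42_2 F11372 D3342 (iv D3342)
theorem F16003 : act 9 n3342 = n2328 := d43_2 (iv F11373) D3342 (iv D2328)
def n3343 : Q := act 2 n2318
theorem D3343 : act 2 n2318 = n3343 := rfl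
theorem F16004 : act 0 n3343 = n2320 := d1_1 D3343 (iv D2320) (iv F11380)
theorem F16005 : act 3 n3343 = n2543 := d17_2 D2318 D3343 (iv D2543) (iv D1764) (iv F8117)
theorem F16006 : act 7 n3343 = n3343 := d21_2 F11382 D3343 (iv D3343)
def n3344 : Q := act 5 n2318
theorem D3344 : act 5 n2318 = n3344 := rfl
theorem F16007 : act 0 n3344 = n2321 := d4_1 D3344 (iv D2321) (iv F11380)
theorem F16008 : act 1 n3344 = n3344 := d12_1 D3344 (iv D3344) F11381
theorem F16009 : act 3 n3344 = n2319 := d25_1 D3344 (iv D2319) D2318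
theorem F16010 : act 7 n3344 = n3344 := d36_2 F11382 D3344 (iv D3344)
def n3345 : Q := act 8 n2318
theorem D3345 : act 8 n2318 = n3345 := rfl
theorem F16011 : act 0 n3345 = n2322 := d7_1 D3345 (iv D2322) (iv F11380)
theorem F16012 : act 1 n3345 = n3345 := d15_1 D3345 (iv D3345) F11381
theorem F16013 : act 3 n3345 = n2376 := d28_1 D3345 (iv D2376) (iv D1649) (iv F8119) D2318
theorem F16014 : act 7 n3345 = n3345 := d42_1 D3345 (iv D3345) F11382
def n3346 : Q := act 6 n2319
theorem D3346 : act 6 n2319 = n3346 := rfl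
theorem F16015 : act 0 n3346 = n2323 := d5_1 D3346 (iv D2323) (iv F11383)
theorem F16016 : act 1 n3346 = n3346 := d13_1 D3346 (iv D3346) F11384
theorem F16017 : act 2 n3346 = n2546 := d20_1 D3346 (iv D2546) (iv F11385)
theorem F16018 : act 4 n3346 = n2343 := d31_1 D3346 (iv D2343) (iv F11386)
theorem F16019 : act 8 n3346 = n2377 := d40_2 (iv F11388) D3346 (iv D2377)
def n3347 : Q := act 5 n2320
theorem D3347 : act 5 n2320 = n3347 := rfl
theorem F16020 : act 2 n3347 = n2321 := d19_1 D3347 (iv D2321) D2320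
theorem F16021 : act 3 n3347 = n2547 := d25_1 D3347 (iv D2547) (iv F11389)
theorem F16022 : act 7 n3347 = n3347 := d36_2 F11390 D3347 (iv D3347)
def n3348 : Q := act 8 n2320
theorem D3348 : act 8 n2320 = n3348 := rfl
theorem F16023 : act 2 n3348 = n2322 := d22_1 D3348 (iv D2322) D2320
theorem F16024 : act 7 n3348 = n3348 := d42_1 D3348 (iv D3348) F11390
def n3349 : Q := act 4 n2321
theorem D3349 : act 4 n2321 = n3349 := rfl
theorem F16025 : act 1 n3349 = n2324 := d11_1 D3349 (iv D2324) (iv F11391)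
theorem F16026 : act 3 n3349 = n2346 := d24_1 D3349 (iv D2346) F8194 (iv F8124) (iv F11392)
theorem F16027 : act 7 n3349 = n3349 := d32_2 F11393 D3349 (iv D3349)
def n3350 : Q := act 6 n2321
theorem D3350 : act 6 n2321 = n3350 := rfl
theorem F16028 : act 1 n3350 = n2325 := d13_1 D3350 (iv D2325) (iv F11391)
theorem F16029 : act 3 n3350 = n2323 := d26_1 D3350 (iv D2323) (iv F11392)
def n3351 : Q := act 8 n2321
theorem D3351 : act 8 n2321 = n3351 := rfl
theorem F16030 : act 1 n3351 = n2326 := d15_1 D3351 (iv D2326) (iv F11391)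
theorem F16031 : act 3 n3351 = n2382 := d28_1 D3351 (iv D2382) F8304 (iv F8126) (iv F11392)
theorem F16032 : act 5 n3351 = n2322 := d37_1 D3351 (iv D2322) D2321
theorem F16033 : act 7 n3351 = n3351 := d42_1 D3351 (iv D3351) F11393
def n3352 : Q := act 9 n2322
theorem D3352 : act 9 n2322 = n3352 := rfl
theorem F16034 : act 1 n3352 = n2327 := d16_1 D3352 (iv D2327) (iv F11394)
theorem F16035 : act 3 n3352 = n2383 := d29_1 D3352 (iv D2383) (iv F11395)
theorem F16036 : act 7 n3352 = n3352 := d43_1 D3352 (iv D3352) F11396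
def n3353 : Q := act 7 n2323
theorem D3353 : act 7 n2323 = n3353 := rfl
theorem F16037 : act 1 n3353 = n2328 := d14_1 D3353 (iv D2328) (iv F11397)
theorem F16038 : act 2 n3353 = n2553 := d21_1 D3353 (iv D2553) (iv F11398)
theorem F16039 : act 4 n3353 = n2350 := d32_1 D3353 (iv D2350) (iv F11399)
theorem F16040 : act 6 n3353 = n3353 := d39_1 D3353 (iv D3353) (iv D2323) F8125 D2323
theorem F16041 : act 8 n3353 = n2384 := d42_2 (iv F11400) D3353 (iv D2384)
def n3354 : Q := act 6 n2324
theorem D3354 : act 6 n2324 = n3354 := rfl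
theorem F16042 : act 0 n3354 = n3354 := d5_1 D3354 (iv D3354) F11401
theorem F16043 : act 3 n3354 = n2351 := d26_1 D3354 (iv D2351) (iv F11402)
theorem F16044 : act 4 n3354 = n2325 := d31_1 D3354 (iv D2325) D2324
def n3355 : Q := act 8 n2324
theorem D3355 : act 8 n2324 = n3355 := rfl
theorem F16045 : act 0 n3355 = n3355 := d7_1 D3355 (iv D3355) F11401
theorem F16046 : act 4 n3355 = n2326 := d33_1 D3355 (iv D2326) D2324
theorem F16047 : act 7 n3355 = n3355 := d42_1 D3355 (iv D3355) F11403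
def n3356 : Q := act 7 n2325
theorem D3356 : act 7 n2325 = n3356 := rfl
theorem F16048 : act 0 n3356 = n3356 := d6_1 D3356 (iv D3356) F11404
theorem F16049 : act 3 n3356 = n2328 := d27_1 D3356 (iv D2328) (iv F11405)
theorem F16050 : act 6 n3356 = n3356 := d39_1 D3356 (iv D3356) (iv D2325) F8129 D2325
def n3357 : Q := act 8 n2325
theorem D3357 : act 8 n2325 = n3357 := rfl
theorem F16051 : act 0 n3357 = n3357 := d7_1 D3357 (iv D3357) F11404
theorem F16052 : act 3 n3357 = n2388 := d28_1 D3357 (iv D2388) F8322 (iv F8136) (iv F11405)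
theorem F16053 : act 6 n3357 = n2326 := d40_1 D3357 (iv D2326) D2325
def n3358 : Q := act 9 n2326
theorem D3358 : act 9 n2326 = n3358 := rfl
theorem F16054 : act 0 n3358 = n3358 := d8_1 D3358 (iv D3358) F11406
theorem F16055 : act 3 n3358 = n2389 := d29_1 D3358 (iv D2389) (iv F11407)
theorem F16056 : act 5 n3358 = n2327 := d38_1 D3358 (iv D2327) (iv F11408)
theorem F16057 : act 7 n3358 = n3358 := d43_1 D3358 (iv D3358) F11409
def n3359 : Q := act 2 n2329
theorem D3359 : act 2 n2329 = n3359 := rfl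
theorem F16058 : act 0 n3359 = n2331 := d1_1 D3359 (iv D2331) (iv F11418)
theorem F16059 : act 3 n3359 = n2559 := d17_2 D2329 D3359 (iv D2559) (iv D1775) (iv F8144)
theorem F16062 : act 9 n3359 = n2340 := d23_2 (iv F11422) D3359 (iv D2340)
def n3360 : Q := act 5 n2329
theorem D3360 : act 5 n2329 = n3360 := rfl
theorem F16063 : act 0 n3360 = n2332 := d4_1 D3360 (iv D2332) (iv F11418)
theorem F16064 : act 1 n3360 = n3360 := d12_1 D3360 (iv D3360) F11419
theorem F16065 : act 3 n3360 = n2330 := d25_1 D3360 (iv D2330) D2329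
theorem F16066 : act 7 n3360 = n3360 := d36_2 F11421 D3360 (iv D3360)
theorem F16067 : act 9 n3360 = n2341 := d38_2 (iv F11422) D3360 (iv D2341)
def n3361 : Q := act 8 n2329
theorem D3361 : act 8 n2329 = n3361 := rfl
theorem F16068 : act 0 n3361 = n2333 := d7_1 D3361 (iv D2333) (iv F11418)
def n3362 : Q := act 6 n2330
theorem D3362 : act 6 n2330 = n3362 := rfl
theorem F16073 : act 0 n3362 = n2334 := d5_1 D3362 (iv D2334) (iv F11423)
theorem F16074 : act 1 n3362 = n3362 := d13_1 D3362 (iv D3362) F11424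
theorem F16075 : act 2 n3362 = n2562 := d20_1 D3362 (iv D2562) (iv F11425)
theorem F16076 : act 5 n3362 = n3362 := d35_1 D3362 (iv D3362) (iv D2330) F8145 D2330
theorem F16077 : act 8 n3362 = n3362 := d40_2 F11427 D3362 (iv D3362)
theorem F16078 : act 9 n3362 = n2343 := d41_2 (iv F11428) D3362 (iv D2343)
def n3363 : Q := act 5 n2331
theorem D3363 : act 5 n2331 = n3363 := rfl
theorem F16079 : act 1 n3363 = n3363 := d12_1 D3363 (iv D3363) F11429
theorem F16080 : act 2 n3363 = n2332 := d19_1 D3363 (iv D2332) D2331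
theorem F16081 : act 3 n3363 = n2563 := d25_1 D3363 (iv D2563) (iv F11430)
theorem F16082 : act 7 n3363 = n3363 := d36_2 F11432 D3363 (iv D3363)
theorem F16083 : act 9 n3363 = n2344 := d38_2 (iv F11433) D3363 (iv D2344)
def n3364 : Q := act 8 n2331
theorem D3364 : act 8 n2331 = n3364 := rfl
theorem F16085 : act 2 n3364 = n2333 := d22_1 D3364 (iv D2333) D2331
def n3365 : Q := act 4 n2332
theorem D3365 : act 4 n2332 = n3365 := rfl
theorem F16088 : act 1 n3365 = n2335 := d11_1 D3365 (iv D2335) (iv F11434)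
theorem F16089 : act 7 n3365 = n3365 := d32_2 F11436 D3365 (iv D3365)
theorem F16090 : act 9 n3365 = n2346 := d34_2 (iv F11437) D3365 (iv D2346)
def n3366 : Q := act 6 n2332
theorem D3366 : act 6 n2332 = n3366 := rfl
theorem F16091 : act 1 n3366 = n2336 := d13_1 D3366 (iv D2336) (iv F11434)
theorem F16092 : act 3 n3366 = n2334 := d26_1 D3366 (iv D2334) (iv F11435)
theorem F16093 : act 5 n3366 = n3366 := d35_1 D3366 (iv D3366) (iv D2332) F8150 D2332
theorem F16094 : act 9 n3366 = n2347 := d41_2 (iv F11437) D3366 (iv D2347)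
def n3367 : Q := act 8 n2332
theorem D3367 : act 8 n2332 = n3367 := rfl
theorem F16095 : act 1 n3367 = n2337 := d15_1 D3367 (iv D2337) (iv F11434)
theorem F16096 : act 3 n3367 = n3367 := d28_1 D3367 (iv D3367) F11435 F8156 (iv F11435)
theorem F16097 : act 5 n3367 = n2333 := d37_1 D3367 (iv D2333) D2332
theorem F16098 : act 7 n3367 = n3367 := d42_1 D3367 (iv D3367) F11436
def n3368 : Q := act 9 n2333
theorem D3368 : act 9 n2333 = n3368 := rfl
theorem F16099 : act 1 n3368 = n2338 := d16_1 D3368 (iv D2338) (iv F11438)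
def n3369 : Q := act 7 n2334
theorem D3369 : act 7 n2334 = n3369 := rfl
theorem F16104 : act 1 n3369 = n2339 := d14_1 D3369 (iv D2339) (iv F11442)
theorem F16105 : act 2 n3369 = n2568 := d21_1 D3369 (iv D2568) (iv F11443)
theorem F16106 : act 5 n3369 = n3369 := d36_1 D3369 (iv D3369) F11444
theorem F16107 : act 6 n3369 = n3369 := d39_1 D3369 (iv D3369) (iv D2334) F8155 D2334
theorem F16108 : act 8 n3369 = n3369 := d42_2 F11445 D3369 (iv D3369)
theorem F16109 : act 9 n3369 = n2350 := d43_2 (iv F11446) D3369 (iv D2350)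
def n3370 : Q := act 6 n2335
theorem D3370 : act 6 n2335 = n3370 := rfl
theorem F16110 : act 0 n3370 = n3370 := d5_1 D3370 (iv D3370) F11447
theorem F16111 : act 2 n3370 = n3370 := d20_1 D3370 (iv D3370) F11448
theorem F16112 : act 4 n3370 = n2336 := d31_1 D3370 (iv D2336) D2335
theorem F16113 : act 9 n3370 = n2351 := d41_2 (iv F11450) D3370 (iv D2351)
def n3371 : Q := act 8 n2335
theorem D3371 : act 8 n2335 = n3371 := rfl
theorem F16114 : act 0 n3371 = n3371 := d7_1 D3371 (iv D3371) F11447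
theorem F16115 : act 2 n3371 = n3371 := d22_1 D3371 (iv D3371) F11448
theorem F16116 : act 4 n3371 = n2337 := d33_1 D3371 (iv D2337) D2335
theorem F16117 : act 7 n3371 = n3371 := d42_1 D3371 (iv D3371) F11449
def n3372 : Q := act 7 n2336
theorem D3372 : act 7 n2336 = n3372 := rfl
theorem F16118 : act 0 n3372 = n3372 := d6_1 D3372 (iv D3372) F11451
theorem F16119 : act 2 n3372 = n3372 := d21_1 D3372 (iv D3372) F11452
theorem F16120 : act 3 n3372 = n2339 := d27_1 D3372 (iv D2339) (iv F11453)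
theorem F16121 : act 5 n3372 = n3372 := d36_1 D3372 (iv D3372) F11454
theorem F16122 : act 6 n3372 = n3372 := d39_1 D3372 (iv D3372) (iv D2336) F8161 D2336
theorem F16123 : act 9 n3372 = n2353 := d43_2 (iv F11455) D3372 (iv D2353)
def n3373 : Q := act 8 n2336
theorem D3373 : act 8 n2336 = n3373 := rfl
theorem F16124 : act 0 n3373 = n3373 := d7_1 D3373 (iv D3373) F11451
theorem F16125 : act 2 n3373 = n3373 := d22_1 D3373 (iv D3373) F11452
theorem F16126 : act 3 n3373 = n3373 := d28_1 D3373 (iv D3373) F11453 F8171 (iv F11453)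
theorem F16127 : act 5 n3373 = n3373 := d37_1 D3373 (iv D3373) F11454
theorem F16128 : act 6 n3373 = n2337 := d40_1 D3373 (iv D2337) D2336
def n3374 : Q := act 9 n2337
theorem D3374 : act 9 n2337 = n3374 := rfl
theorem F16129 : act 0 n3374 = n3374 := d8_1 D3374 (iv D3374) F11456
theorem F16130 : act 2 n3374 = n3374 := d23_1 D3374 (iv D3374) F11457
theorem F16131 : act 3 n3374 = n3374 := d29_1 D3374 (iv D3374) F11458
theorem F16132 : act 5 n3374 = n2338 := d38_1 D3374 (iv D2338) (iv F11459)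
theorem F16133 : act 7 n3374 = n3374 := d43_1 D3374 (iv D3374) F11460
theorem F16134 : act 8 n3374 = n2355 := d44_1 D3374 (iv D2355) (iv D1634) (iv F8162) D2337
def n3375 : Q := act 1 n2340
theorem D3375 : act 1 n2340 = n3375 := rfl
theorem F16137 : act 3 n3375 = n2573 := d10_2 (iv F11474) D3375 (iv D2573)
def n3376 : Q := act 5 n2340
theorem D3376 : act 5 n2340 = n3376 := rfl
theorem F16140 : act 0 n3376 = n2344 := d4_1 D3376 (iv D2344) (iv F11473)
theorem F16141 : act 2 n3376 = n2341 := d19_1 D3376 (iv D2341) D2340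
theorem F16142 : act 3 n3376 = n2574 := d25_1 D3376 (iv D2574) (iv F11474)
theorem F16143 : act 7 n3376 = n3376 := d36_2 F11476 D3376 (iv D3376)
def n3377 : Q := act 8 n2340
theorem D3377 : act 8 n2340 = n3377 := rfl
theorem F16144 : act 0 n3377 = n2345 := d7_1 D3377 (iv D2345) (iv F11473)
theorem F16145 : act 2 n3377 = n2342 := d22_1 D3377 (iv D2342) D2340
def n3378 : Q := act 4 n2341
theorem D3378 : act 4 n2341 = n3378 := rfl
theorem F16149 : act 0 n3378 = n2346 := d3_1 D3378 (iv D2346) (iv F11477)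
theorem F16150 : act 1 n3378 = n3378 := d11_1 D3378 (iv D3378) F11478
theorem F16151 : act 7 n3378 = n3378 := d32_2 F11480 D3378 (iv D3378)
def n3379 : Q := act 6 n2341
theorem D3379 : act 6 n2341 = n3379 := rfl
theorem F16152 : act 0 n3379 = n2347 := d5_1 D3379 (iv D2347) (iv F11477)
theorem F16153 : act 1 n3379 = n3379 := d13_1 D3379 (iv D3379) F11478
theorem F16154 : act 3 n3379 = n2343 := d26_1 D3379 (iv D2343) (iv F11479)
theorem F16155 : act 5 n3379 = n3379 := d35_1 D3379 (iv D3379) (iv D2341) F8182 D2341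
def n3380 : Q := act 8 n2341
theorem D3380 : act 8 n2341 = n3380 := rfl
theorem F16156 : act 0 n3380 = n2348 := d7_1 D3380 (iv D2348) (iv F11477)
theorem F16157 : act 1 n3380 = n3380 := d15_1 D3380 (iv D3380) F11478
theorem F16158 : act 3 n3380 = n2392 := d28_1 D3380 (iv D2392) F8341 (iv F8188) (iv F11479)
theorem F16159 : act 5 n3380 = n2342 := d37_1 D3380 (iv D2342) D2341
theorem F16160 : act 7 n3380 = n3380 := d42_1 D3380 (iv D3380) F11480
def n3381 : Q := act 9 n2342
theorem D3381 : act 9 n2342 = n3381 := rfl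
theorem F16161 : act 0 n3381 = n2349 := d8_1 D3381 (iv D2349) (iv F11481)
def n3382 : Q := act 7 n2343
theorem D3382 : act 7 n2343 = n3382 := rfl
theorem F16166 : act 0 n3382 = n2350 := d6_1 D3382 (iv D2350) (iv F11486)
theorem F16167 : act 1 n3382 = n3382 := d14_1 D3382 (iv D3382) F11487
theorem F16168 : act 2 n3382 = n2577 := d21_1 D3382 (iv D2577) (iv F11488)
theorem F16169 : act 5 n3382 = n3382 := d36_1 D3382 (iv D3382) F11489
theorem F16170 : act 6 n3382 = n3382 := d39_1 D3382 (iv D3382) (iv D2343) F8187 D2343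
theorem F16171 : act 8 n3382 = n2394 := d42_2 (iv F11490) D3382 (iv D2394)
def n3383 : Q := act 4 n2344
theorem D3383 : act 4 n2344 = n3383 := rfl
theorem F16172 : act 1 n3383 = n3383 := d11_1 D3383 (iv D3383) F11491
theorem F16173 : act 2 n3383 = n2346 := d18_1 D3383 (iv D2346) (iv F11492)
theorem F16174 : act 7 n3383 = n3383 := d32_2 F11494 D3383 (iv D3383)
def n3384 : Q := act 6 n2344
theorem D3384 : act 6 n2344 = n3384 := rfl
theorem F16175 : act 1 n3384 = n3384 := d13_1 D3384 (iv D3384) F11491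
theorem F16176 : act 2 n3384 = n2347 := d20_1 D3384 (iv D2347) (iv F11492)
theorem F16177 : act 3 n3384 = n2579 := d26_1 D3384 (iv D2579) (iv F11493)
theorem F16178 : act 5 n3384 = n3384 := d35_1 D3384 (iv D3384) (iv D2344) F8191 D2344
def n3385 : Q := act 8 n2344
theorem D3385 : act 8 n2344 = n3385 := rfl
theorem F16179 : act 1 n3385 = n3385 := d15_1 D3385 (iv D3385) F11491
theorem F16180 : act 2 n3385 = n2348 := d22_1 D3385 (iv D2348) (iv F11492)
theorem F16181 : act 3 n3385 = n3385 := d28_1 D3385 (iv D3385) F11493 F8941 (iv F11493)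
theorem F16182 : act 5 n3385 = n2345 := d37_1 D3385 (iv D2345) D2344
theorem F16183 : act 7 n3385 = n3385 := d42_1 D3385 (iv D3385) F11494
def n3386 : Q := act 9 n2345
theorem D3386 : act 9 n2345 = n3386 := rfl
theorem F16185 : act 2 n3386 = n2349 := d23_1 D3386 (iv D2349) (iv F11496)
def n3387 : Q := act 6 n2346
theorem D3387 : act 6 n2346 = n3387 := rfl
theorem F16189 : act 1 n3387 = n2351 := d13_1 D3387 (iv D2351) (iv F11500)
theorem F16190 : act 4 n3387 = n2347 := d31_1 D3387 (iv D2347) D2346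
def n3388 : Q := act 8 n2346
theorem D3388 : act 8 n2346 = n3388 := rfl
theorem F16191 : act 1 n3388 = n2352 := d15_1 D3388 (iv D2352) (iv F11500)
theorem F16192 : act 4 n3388 = n2348 := d33_1 D3388 (iv D2348) D2346
theorem F16193 : act 7 n3388 = n3388 := d42_1 D3388 (iv D3388) F11501
def n3389 : Q := act 7 n2347
theorem D3389 : act 7 n2347 = n3389 := rfl
theorem F16194 : act 1 n3389 = n2353 := d14_1 D3389 (iv D2353) (iv F11502)
theorem F16195 : act 3 n3389 = n2350 := d27_1 D3389 (iv D2350) (iv F11503)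
theorem F16196 : act 5 n3389 = n3389 := d36_1 D3389 (iv D3389) F11504
theorem F16197 : act 6 n3389 = n3389 := d39_1 D3389 (iv D3389) (iv D2347) F8195 D2347
def n3390 : Q := act 8 n2347
theorem D3390 : act 8 n2347 = n3390 := rfl
theorem F16198 : act 1 n3390 = n2354 := d15_1 D3390 (iv D2354) (iv F11502)
theorem F16199 : act 3 n3390 = n2398 := d28_1 D3390 (iv D2398) F8362 (iv F8203) (iv F11503)
theorem F16200 : act 5 n3390 = n3390 := d37_1 D3390 (iv D3390) F11504
theorem F16201 : act 6 n3390 = n2348 := d40_1 D3390 (iv D2348) D2347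
def n3391 : Q := act 9 n2348
theorem D3391 : act 9 n2348 = n3391 := rfl
theorem F16202 : act 1 n3391 = n2355 := d16_1 D3391 (iv D2355) (iv F11505)
theorem F16203 : act 3 n3391 = n2399 := d29_1 D3391 (iv D2399) (iv F11506)
theorem F16204 : act 5 n3391 = n2349 := d38_1 D3391 (iv D2349) (iv F11507)
theorem F16205 : act 7 n3391 = n3391 := d43_1 D3391 (iv D3391) F11508
def n3392 : Q := act 5 n2351
theorem D3392 : act 5 n2351 = n3392 := rfl
theorem F16206 : act 0 n3392 = n3392 := d4_1 D3392 (iv D3392) F11518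
theorem F16207 : act 2 n3392 = n3392 := d19_1 D3392 (iv D3392) F11519
theorem F16208 : act 4 n3392 = n3392 := d30_1 D3392 (iv D3392) F11520 F8210 (iv F11520)
def n3393 : Q := act 7 n2351
theorem D3393 : act 7 n2351 = n3393 := rfl
theorem F16209 : act 0 n3393 = n3393 := d6_1 D3393 (iv D3393) F11518
theorem F16210 : act 2 n3393 = n3393 := d21_1 D3393 (iv D3393) F11519
theorem F16211 : act 4 n3393 = n2353 := d32_1 D3393 (iv D2353) (iv F11520)
theorem F16212 : act 6 n3393 = n3393 := d39_1 D3393 (iv D3393) (iv D2351) F8206 D2351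
def n3394 : Q := act 8 n2351
theorem D3394 : act 8 n2351 = n3394 := rfl
theorem F16213 : act 0 n3394 = n3394 := d7_1 D3394 (iv D3394) F11518
theorem F16214 : act 2 n3394 = n3394 := d22_1 D3394 (iv D3394) F11519
theorem F16215 : act 4 n3394 = n2354 := d33_1 D3394 (iv D2354) (iv F11520)
theorem F16216 : act 6 n3394 = n2352 := d40_1 D3394 (iv D2352) D2351
def n3395 : Q := act 3 n2352
theorem D3395 : act 3 n2352 = n3395 := rfl
theorem F16217 : act 0 n3395 = n3395 := d2_1 D3395 (iv D3395) F11521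
theorem F16218 : act 4 n3395 = n2403 := d24_2 (iv F11523) D3395 (iv D2403) F8386 (iv F8213)
theorem F16219 : act 7 n3395 = n3395 := d27_2 F11524 D3395 (iv D3395)
def n3396 : Q := act 9 n2352
theorem D3396 : act 9 n2352 = n3396 := rfl
theorem F16220 : act 0 n3396 = n3396 := d8_1 D3396 (iv D3396) F11521
theorem F16221 : act 2 n3396 = n3396 := d23_1 D3396 (iv D3396) F11522
theorem F16222 : act 4 n3396 = n2355 := d34_1 D3396 (iv D2355) (iv F11523)
theorem F16223 : act 7 n3396 = n3396 := d43_1 D3396 (iv D3396) F11524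
def n3397 : Q := act 8 n2353
theorem D3397 : act 8 n2353 = n3397 := rfl
theorem F16224 : act 0 n3397 = n3397 := d7_1 D3397 (iv D3397) F11525
theorem F16225 : act 2 n3397 = n3397 := d22_1 D3397 (iv D3397) F11526
theorem F16226 : act 3 n3397 = n2405 := d28_1 D3397 (iv D2405) F8391 (iv F8225) (iv F11527)
theorem F16227 : act 5 n3397 = n3397 := d37_1 D3397 (iv D3397) F11528
theorem F16228 : act 6 n3397 = n3397 := d40_1 D3397 (iv D3397) F11529
theorem F16229 : act 7 n3397 = n2354 := d42_1 D3397 (iv D2354) D2353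
def n3398 : Q := act 9 n2354
theorem D3398 : act 9 n2354 = n3398 := rfl
theorem F16230 : act 0 n3398 = n3398 := d8_1 D3398 (iv D3398) F11530
theorem F16231 : act 2 n3398 = n3398 := d23_1 D3398 (iv D3398) F11531
theorem F16232 : act 3 n3398 = n2406 := d29_1 D3398 (iv D2406) (iv F11532)
theorem F16233 : act 5 n3398 = n3398 := d38_1 D3398 (iv D3398) F11533
theorem F16234 : act 6 n3398 = n2355 := d41_1 D3398 (iv D2355) (iv F11534)
def n3399 : Q := act 3 n2356
theorem D3399 : act 3 n2356 = n3399 := rfl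
theorem F16235 : act 0 n3399 = n2357 := d2_1 D3399 (iv D2357) (iv F11540)
theorem F16236 : act 1 n3399 = n3399 := d10_1 D3399 (iv D3399) F11541
theorem F16237 : act 4 n3399 = n3399 := d24_2 D2356 D3399 (iv D3399) (iv D2356) F8228
theorem F16238 : act 6 n3399 = n3399 := d26_2 F11543 D3399 (iv D3399)
theorem F16239 : act 7 n3399 = n2363 := d27_2 (iv F11544) D3399 (iv D2363)
theorem F16240 : act 9 n3399 = n3399 := d29_2 F11545 D3399 (iv D3399)
def n3400 : Q := act 5 n2356
theorem D3400 : act 5 n2356 = n3400 := rfl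
theorem F16241 : act 0 n3400 = n2358 := d4_1 D3400 (iv D2358) (iv F11540)
theorem F16242 : act 1 n3400 = n3400 := d12_1 D3400 (iv D3400) F11541
theorem F16243 : act 2 n3400 = n2585 := d19_1 D3400 (iv D2585) (iv F11542)
theorem F16244 : act 4 n3400 = n3400 := d30_1 D3400 (iv D3400) (iv D2356) F8229 D2356
theorem F16245 : act 7 n3400 = n2364 := d36_2 (iv F11544) D3400 (iv D2364)
theorem F16246 : act 9 n3400 = n3400 := d38_2 F11545 D3400 (iv D3400)
def n3401 : Q := act 2 n2357
theorem D3401 : act 2 n2357 = n3401 := rfl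
theorem F16247 : act 1 n3401 = n3401 := d9_1 D3401 (iv D3401) F11546 F8239 (iv F11546)
theorem F16248 : act 3 n3401 = n2586 := d17_2 D2357 D3401 (iv D2586) (iv D1795) (iv F8234)
theorem F16249 : act 4 n3401 = n3401 := d18_2 F11547 D3401 (iv D3401)
theorem F16250 : act 6 n3401 = n3401 := d20_2 F11548 D3401 (iv D3401)
theorem F16251 : act 7 n3401 = n2365 := d21_2 (iv F11549) D3401 (iv D2365)
theorem F16252 : act 9 n3401 = n3401 := d23_2 F11550 D3401 (iv D3401)
def n3402 : Q := act 5 n2357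
theorem D3402 : act 5 n2357 = n3402 := rfl
theorem F16253 : act 1 n3402 = n2359 := d12_1 D3402 (iv D2359) (iv F11546)
theorem F16254 : act 3 n3402 = n2358 := d25_1 D3402 (iv D2358) D2357
theorem F16255 : act 7 n3402 = n2366 := d36_2 (iv F11549) D3402 (iv D2366)
theorem F16256 : act 9 n3402 = n3402 := d38_2 F11550 D3402 (iv D3402)
def n3403 : Q := act 8 n2357
theorem D3403 : act 8 n2357 = n3403 := rfl
theorem F16257 : act 1 n3403 = n2360 := d15_1 D3403 (iv D2360) (iv F11546)
theorem F16258 : act 4 n3403 = n3403 := d33_1 D3403 (iv D3403) F11547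
theorem F16259 : act 6 n3403 = n3403 := d40_1 D3403 (iv D3403) F11548
theorem F16260 : act 7 n3403 = n2367 := d42_1 D3403 (iv D2367) (iv F11549)
def n3404 : Q := act 6 n2358
theorem D3404 : act 6 n2358 = n3404 := rfl
theorem F16261 : act 1 n3404 = n2361 := d13_1 D3404 (iv D2361) (iv F11551)
theorem F16262 : act 2 n3404 = n2589 := d20_1 D3404 (iv D2589) (iv F11552)
theorem F16263 : act 4 n3404 = n3404 := d31_1 D3404 (iv D3404) F11553
theorem F16264 : act 5 n3404 = n3404 := d35_1 D3404 (iv D3404) (iv D2358) F8235 D2358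
theorem F16265 : act 9 n3404 = n3404 := d41_2 F11555 D3404 (iv D3404)
def n3405 : Q := act 4 n2359
theorem D3405 : act 4 n2359 = n3405 := rfl
theorem F16266 : act 0 n3405 = n3405 := d3_1 D3405 (iv D3405) F11556
theorem F16267 : act 2 n3405 = n3405 := d18_1 D3405 (iv D3405) F11557
theorem F16268 : act 3 n3405 = n3405 := d24_1 D3405 (iv D3405) F11558 F8246 (iv F11558)
theorem F16269 : act 5 n3405 = n3405 := d30_2 D2359 D3405 (iv D3405) (iv D2359) F8240
theorem F16270 : act 7 n3405 = n2369 := d32_2 (iv F11559) D3405 (iv D2369)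
theorem F16271 : act 9 n3405 = n3405 := d34_2 F11560 D3405 (iv D3405)
def n3406 : Q := act 6 n2359
theorem D3406 : act 6 n2359 = n3406 := rfl
theorem F16272 : act 0 n3406 = n3406 := d5_1 D3406 (iv D3406) F11556
theorem F16273 : act 2 n3406 = n3406 := d20_1 D3406 (iv D3406) F11557
theorem F16274 : act 3 n3406 = n2361 := d26_1 D3406 (iv D2361) (iv F11558)
theorem F16275 : act 5 n3406 = n3406 := d35_1 D3406 (iv D3406) (iv D2359) F8241 D2359
theorem F16276 : act 9 n3406 = n3406 := d41_2 F11560 D3406 (iv D3406)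
def n3407 : Q := act 8 n2359
theorem D3407 : act 8 n2359 = n3407 := rfl
theorem F16277 : act 0 n3407 = n3407 := d7_1 D3407 (iv D3407) F11556
theorem F16278 : act 2 n3407 = n3407 := d22_1 D3407 (iv D3407) F11557
theorem F16279 : act 5 n3407 = n2360 := d37_1 D3407 (iv D2360) D2359
theorem F16280 : act 7 n3407 = n2371 := d42_1 D3407 (iv D2371) (iv F11559)
def n3408 : Q := act 9 n2360
theorem D3408 : act 9 n2360 = n3408 := rfl
theorem F16281 : act 0 n3408 = n3408 := d8_1 D3408 (iv D3408) F11561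
theorem F16282 : act 2 n3408 = n3408 := d23_1 D3408 (iv D3408) F11562
theorem F16283 : act 4 n3408 = n3408 := d34_1 D3408 (iv D3408) F11563
theorem F16284 : act 6 n3408 = n3408 := d41_1 D3408 (iv D3408) F11564
theorem F16285 : act 7 n3408 = n2372 := d43_1 D3408 (iv D2372) (iv F11565)
theorem F16286 : act 8 n3408 = n3408 := d44_1 D3408 (iv D3408) (iv D2360) F8243 D2360
def n3409 : Q := act 7 n2361
theorem D3409 : act 7 n2361 = n3409 := rfl
theorem F16287 : act 0 n3409 = n3409 := d6_1 D3409 (iv D3409) F11566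
theorem F16288 : act 2 n3409 = n2362 := d21_1 D3409 (iv D2362) (iv F11567)
theorem F16289 : act 4 n3409 = n3409 := d32_1 D3409 (iv D3409) F11568
theorem F16290 : act 5 n3409 = n3409 := d36_1 D3409 (iv D3409) F11569
theorem F16291 : act 6 n3409 = n2373 := d39_1 D3409 (iv D2373) (iv D1647) (iv F8247) D2361
theorem F16292 : act 9 n3409 = n3409 := d43_2 F11570 D3409 (iv D3409)
def n3410 : Q := act 2 n2363
theorem D3410 : act 2 n2363 = n3410 := rfl
theorem F16293 : act 0 n3410 = n2365 := d1_1 D3410 (iv D2365) (iv F11578)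
theorem F16294 : act 3 n3410 = n2595 := d17_2 D2363 D3410 (iv D2595) (iv D1801) (iv F8257)
theorem F16295 : act 4 n3410 = n3410 := d18_2 F11580 D3410 (iv D3410)
theorem F16296 : act 6 n3410 = n2374 := d20_2 (iv F11581) D3410 (iv D2374)
theorem F16297 : act 9 n3410 = n3410 := d23_2 F11582 D3410 (iv D3410)
def n3411 : Q := act 5 n2363
theorem D3411 : act 5 n2363 = n3411 := rfl
theorem F16298 : act 0 n3411 = n2366 := d4_1 D3411 (iv D2366) (iv F11578)
theorem F16299 : act 1 n3411 = n3411 := d12_1 D3411 (iv D3411) F11579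
theorem F16300 : act 3 n3411 = n2364 := d25_1 D3411 (iv D2364) D2363
theorem F16301 : act 9 n3411 = n3411 := d38_2 F11582 D3411 (iv D3411)
def n3412 : Q := act 8 n2363
theorem D3412 : act 8 n2363 = n3412 := rfl
theorem F16302 : act 0 n3412 = n2367 := d7_1 D3412 (iv D2367) (iv F11578)
theorem F16303 : act 1 n3412 = n3412 := d15_1 D3412 (iv D3412) F11579
theorem F16304 : act 4 n3412 = n3412 := d33_1 D3412 (iv D3412) F11580
theorem F16305 : act 6 n3412 = n2376 := d40_1 D3412 (iv D2376) (iv F11581)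
def n3413 : Q := act 6 n2364
theorem D3413 : act 6 n2364 = n3413 := rfl
theorem F16306 : act 0 n3413 = n2368 := d5_1 D3413 (iv D2368) (iv F11583)
theorem F16307 : act 1 n3413 = n3413 := d13_1 D3413 (iv D3413) F11584
theorem F16308 : act 2 n3413 = n2598 := d20_1 D3413 (iv D2598) (iv F11585)
theorem F16309 : act 4 n3413 = n3413 := d31_1 D3413 (iv D3413) F11586
theorem F16310 : act 5 n3413 = n2377 := d35_1 D3413 (iv D2377) (iv D1650) (iv F8258) D2364
theorem F16311 : act 9 n3413 = n3413 := d41_2 F11587 D3413 (iv D3413)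
def n3414 : Q := act 5 n2365
theorem D3414 : act 5 n2365 = n3414 := rfl
theorem F16312 : act 1 n3414 = n3414 := d12_1 D3414 (iv D3414) F11588
theorem F16313 : act 2 n3414 = n2366 := d19_1 D3414 (iv D2366) D2365
theorem F16314 : act 3 n3414 = n2599 := d25_1 D3414 (iv D2599) (iv F11589)
theorem F16315 : act 9 n3414 = n3414 := d38_2 F11592 D3414 (iv D3414)
def n3415 : Q := act 8 n2365
theorem D3415 : act 8 n2365 = n3415 := rfl
theorem F16316 : act 1 n3415 = n3415 := d15_1 D3415 (iv D3415) F11588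
theorem F16317 : act 2 n3415 = n2367 := d22_1 D3415 (iv D2367) D2365
theorem F16318 : act 4 n3415 = n3415 := d33_1 D3415 (iv D3415) F11590
theorem F16319 : act 6 n3415 = n2379 := d40_1 D3415 (iv D2379) (iv F11591)
def n3416 : Q := act 4 n2366
theorem D3416 : act 4 n2366 = n3416 := rfl
theorem F16320 : act 1 n3416 = n2369 := d11_1 D3416 (iv D2369) (iv F11593)
theorem F16321 : act 3 n3416 = n3416 := d24_1 D3416 (iv D3416) F11594 F8266 (iv F11594)
theorem F16322 : act 5 n3416 = n3416 := d30_2 D2366 D3416 (iv D3416) (iv D2366) F8261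
theorem F16323 : act 9 n3416 = n3416 := d34_2 F11595 D3416 (iv D3416)
def n3417 : Q := act 6 n2366
theorem D3417 : act 6 n2366 = n3417 := rfl
theorem F16324 : act 1 n3417 = n2370 := d13_1 D3417 (iv D2370) (iv F11593)
theorem F16325 : act 3 n3417 = n2368 := d26_1 D3417 (iv D2368) (iv F11594)
theorem F16326 : act 5 n3417 = n2381 := d35_1 D3417 (iv D2381) (iv D1652) (iv F8262) D2366
theorem F16327 : act 9 n3417 = n3417 := d41_2 F11595 D3417 (iv D3417)
def n3418 : Q := act 8 n2366
theorem D3418 : act 8 n2366 = n3418 := rfl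
theorem F16328 : act 1 n3418 = n2371 := d15_1 D3418 (iv D2371) (iv F11593)
theorem F16329 : act 5 n3418 = n2367 := d37_1 D3418 (iv D2367) D2366
def n3419 : Q := act 9 n2367
theorem D3419 : act 9 n2367 = n3419 := rfl
theorem F16330 : act 1 n3419 = n2372 := d16_1 D3419 (iv D2372) (iv F11596)
theorem F16331 : act 4 n3419 = n3419 := d34_1 D3419 (iv D3419) F11597
theorem F16332 : act 6 n3419 = n2383 := d41_1 D3419 (iv D2383) (iv F11598)
theorem F16333 : act 8 n3419 = n3419 := d44_1 D3419 (iv D3419) (iv D2367) F8263 D2367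
def n3420 : Q := act 7 n2368
theorem D3420 : act 7 n2368 = n3420 := rfl
theorem F16334 : act 1 n3420 = n2373 := d14_1 D3420 (iv D2373) (iv F11599)
theorem F16335 : act 2 n3420 = n2605 := d21_1 D3420 (iv D2605) (iv F11600)
theorem F16336 : act 4 n3420 = n3420 := d32_1 D3420 (iv D3420) F11601
theorem F16337 : act 5 n3420 = n2384 := d36_1 D3420 (iv D2384) (iv F11602)
theorem F16338 : act 9 n3420 = n3420 := d43_2 F11603 D3420 (iv D3420)
def n3421 : Q := act 6 n2369
theorem D3421 : act 6 n2369 = n3421 := rfl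
theorem F16339 : act 0 n3421 = n3421 := d5_1 D3421 (iv D3421) F11604
theorem F16340 : act 2 n3421 = n3421 := d20_1 D3421 (iv D3421) F11605
theorem F16341 : act 3 n3421 = n3421 := d26_1 D3421 (iv D3421) F11606
theorem F16342 : act 4 n3421 = n2370 := d31_1 D3421 (iv D2370) D2369
theorem F16343 : act 9 n3421 = n3421 := d41_2 F11608 D3421 (iv D3421)
def n3422 : Q := act 8 n2369
theorem D3422 : act 8 n2369 = n3422 := rfl
theorem F16344 : act 0 n3422 = n3422 := d7_1 D3422 (iv D3422) F11604
theorem F16345 : act 2 n3422 = n3422 := d22_1 D3422 (iv D3422) F11605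
theorem F16346 : act 4 n3422 = n2371 := d33_1 D3422 (iv D2371) D2369
theorem F16347 : act 5 n3422 = n3422 := d37_1 D3422 (iv D3422) F11607
def n3423 : Q := act 7 n2370
theorem D3423 : act 7 n2370 = n3423 := rfl
theorem F16348 : act 0 n3423 = n3423 := d6_1 D3423 (iv D3423) F11609
theorem F16349 : act 2 n3423 = n3423 := d21_1 D3423 (iv D3423) F11610
theorem F16350 : act 3 n3423 = n2373 := d27_1 D3423 (iv D2373) (iv F11611)
theorem F16351 : act 5 n3423 = n2387 := d36_1 D3423 (iv D2387) (iv F11612)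
theorem F16352 : act 9 n3423 = n3423 := d43_2 F11613 D3423 (iv D3423)
def n3424 : Q := act 8 n2370
theorem D3424 : act 8 n2370 = n3424 := rfl
theorem F16353 : act 0 n3424 = n3424 := d7_1 D3424 (iv D3424) F11609
theorem F16354 : act 2 n3424 = n3424 := d22_1 D3424 (iv D3424) F11610
theorem F16355 : act 5 n3424 = n2388 := d37_1 D3424 (iv D2388) (iv F11612)
theorem F16356 : act 6 n3424 = n2371 := d40_1 D3424 (iv D2371) D2370
def n3425 : Q := act 9 n2371
theorem D3425 : act 9 n2371 = n3425 := rfl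
theorem F16357 : act 0 n3425 = n3425 := d8_1 D3425 (iv D3425) F11614
theorem F16358 : act 2 n3425 = n3425 := d23_1 D3425 (iv D3425) F11615
theorem F16359 : act 5 n3425 = n2372 := d38_1 D3425 (iv D2372) (iv F11616)
theorem F16360 : act 8 n3425 = n3425 := d44_1 D3425 (iv D3425) (iv D2371) F8271 D2371
def n3427 : Q := act 5 n2374
theorem D3427 : act 5 n2374 = n3427 := rfl
theorem F16367 : act 0 n3427 = n2378 := d4_1 D3427 (iv D2378) (iv F11627)
theorem F16368 : act 2 n3427 = n2375 := d19_1 D3427 (iv D2375) D2374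
theorem F16369 : act 3 n3427 = n2612 := d25_1 D3427 (iv D2612) (iv F11628)
theorem F16370 : act 7 n3427 = n3427 := d36_2 F11630 D3427 (iv D3427)
theorem F16371 : act 9 n3427 = n3427 := d38_2 F11631 D3427 (iv D3427)
def n3428 : Q := act 8 n2374
theorem D3428 : act 8 n2374 = n3428 := rfl
theorem F16372 : act 0 n3428 = n2379 := d7_1 D3428 (iv D2379) (iv F11627)
theorem F16373 : act 2 n3428 = n2376 := d22_1 D3428 (iv D2376) D2374
theorem F16374 : act 4 n3428 = n3428 := d33_1 D3428 (iv D3428) F11629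
theorem F16375 : act 7 n3428 = n3428 := d42_1 D3428 (iv D3428) F11630
def n3429 : Q := act 4 n2375
theorem D3429 : act 4 n2375 = n3429 := rfl
theorem F16376 : act 0 n3429 = n2380 := d3_1 D3429 (iv D2380) (iv F11632)
theorem F16377 : act 1 n3429 = n3429 := d11_1 D3429 (iv D3429) F11633
theorem F16378 : act 3 n3429 = n2390 := d24_1 D3429 (iv D2390) F8341 (iv F8295) (iv F11634)
theorem F16379 : act 5 n3429 = n3429 := d30_2 D2375 D3429 (iv D3429) (iv D2375) F8289
theorem F16380 : act 7 n3429 = n3429 := d32_2 F11635 D3429 (iv D3429)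
theorem F16381 : act 9 n3429 = n3429 := d34_2 F11636 D3429 (iv D3429)
def n3430 : Q := act 6 n2375
theorem D3430 : act 6 n2375 = n3430 := rfl
theorem F16382 : act 0 n3430 = n2381 := d5_1 D3430 (iv D2381) (iv F11632)
theorem F16383 : act 1 n3430 = n3430 := d13_1 D3430 (iv D3430) F11633
theorem F16384 : act 3 n3430 = n2377 := d26_1 D3430 (iv D2377) (iv F11634)
theorem F16385 : act 9 n3430 = n3430 := d41_2 F11636 D3430 (iv D3430)
def n3431 : Q := act 8 n2375
theorem D3431 : act 8 n2375 = n3431 := rfl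
theorem F16386 : act 0 n3431 = n2382 := d7_1 D3431 (iv D2382) (iv F11632)
theorem F16387 : act 1 n3431 = n3431 := d15_1 D3431 (iv D3431) F11633
theorem F16388 : act 5 n3431 = n2376 := d37_1 D3431 (iv D2376) D2375
theorem F16389 : act 7 n3431 = n3431 := d42_1 D3431 (iv D3431) F11635
def n3432 : Q := act 9 n2376
theorem D3432 : act 9 n2376 = n3432 := rfl
theorem F16390 : act 0 n3432 = n2383 := d8_1 D3432 (iv D2383) (iv F11637)
theorem F16391 : act 1 n3432 = n3432 := d16_1 D3432 (iv D3432) F11638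
theorem F16392 : act 4 n3432 = n3432 := d34_1 D3432 (iv D3432) F11639
theorem F16393 : act 7 n3432 = n3432 := d43_1 D3432 (iv D3432) F11640
theorem F16394 : act 8 n3432 = n3432 := d44_1 D3432 (iv D3432) (iv D2376) F8291 D2376
def n3433 : Q := act 7 n2377
theorem D3433 : act 7 n2377 = n3433 := rfl
theorem F16395 : act 0 n3433 = n2384 := d6_1 D3433 (iv D2384) (iv F11641)
theorem F16396 : act 1 n3433 = n3433 := d14_1 D3433 (iv D3433) F11642
theorem F16397 : act 2 n3433 = n2617 := d21_1 D3433 (iv D2617) (iv F11643)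
theorem F16398 : act 4 n3433 = n2394 := d32_1 D3433 (iv D2394) (iv F11644)
theorem F16399 : act 6 n3433 = n3433 := d39_1 D3433 (iv D3433) (iv D2377) F8296 D2377
theorem F16400 : act 9 n3433 = n3433 := d43_2 F11645 D3433 (iv D3433)
def n3434 : Q := act 4 n2378
theorem D3434 : act 4 n2378 = n3434 := rfl
theorem F16401 : act 1 n3434 = n3434 := d11_1 D3434 (iv D3434) F11646
theorem F16402 : act 2 n3434 = n2380 := d18_1 D3434 (iv D2380) (iv F11647)
theorem F16403 : act 3 n3434 = n3434 := d24_1 D3434 (iv D3434) F11648 F9065 (iv F11648)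
theorem F16404 : act 5 n3434 = n3434 := d30_2 D2378 D3434 (iv D3434) (iv D2378) F8300
theorem F16405 : act 7 n3434 = n3434 := d32_2 F11649 D3434 (iv D3434)
theorem F16406 : act 9 n3434 = n3434 := d34_2 F11650 D3434 (iv D3434)
def n3435 : Q := act 6 n2378
theorem D3435 : act 6 n2378 = n3435 := rfl
theorem F16407 : act 1 n3435 = n3435 := d13_1 D3435 (iv D3435) F11646
theorem F16408 : act 2 n3435 = n2381 := d20_1 D3435 (iv D2381) (iv F11647)
theorem F16409 : act 3 n3435 = n2618 := d26_1 D3435 (iv D2618) (iv F11648)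
theorem F16410 : act 9 n3435 = n3435 := d41_2 F11650 D3435 (iv D3435)
def n3436 : Q := act 8 n2378
theorem D3436 : act 8 n2378 = n3436 := rfl
theorem F16411 : act 1 n3436 = n3436 := d15_1 D3436 (iv D3436) F11646
theorem F16412 : act 2 n3436 = n2382 := d22_1 D3436 (iv D2382) (iv F11647)
theorem F16413 : act 5 n3436 = n2379 := d37_1 D3436 (iv D2379) D2378
theorem F16414 : act 7 n3436 = n3436 := d42_1 D3436 (iv D3436) F11649
def n3437 : Q := act 3 n2379
theorem D3437 : act 3 n2379 = n3437 := rfl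
theorem F16415 : act 1 n3437 = n3437 := d10_1 D3437 (iv D3437) F11651
theorem F16416 : act 7 n3437 = n3437 := d27_2 F11654 D3437 (iv D3437)
theorem F16417 : act 8 n3437 = n2620 := d28_2 D2379 D3437 (iv D2620) (iv D1817) (iv F8299)
def n3438 : Q := act 9 n2379
theorem D3438 : act 9 n2379 = n3438 := rfl
theorem F16418 : act 1 n3438 = n3438 := d16_1 D3438 (iv D3438) F11651
theorem F16419 : act 2 n3438 = n2383 := d23_1 D3438 (iv D2383) (iv F11652)
theorem F16420 : act 4 n3438 = n3438 := d34_1 D3438 (iv D3438) F11653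
theorem F16421 : act 7 n3438 = n3438 := d43_1 D3438 (iv D3438) F11654
theorem F16422 : act 8 n3438 = n3438 := d44_1 D3438 (iv D3438) (iv D2379) F8302 D2379
def n3439 : Q := act 6 n2380
theorem D3439 : act 6 n2380 = n3439 := rfl
theorem F16423 : act 1 n3439 = n2385 := d13_1 D3439 (iv D2385) (iv F11655)
theorem F16424 : act 3 n3439 = n2395 := d26_1 D3439 (iv D2395) (iv F11656)
theorem F16425 : act 4 n3439 = n2381 := d31_1 D3439 (iv D2381) D2380
theorem F16426 : act 9 n3439 = n3439 := d41_2 F11659 D3439 (iv D3439)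
def n3440 : Q := act 8 n2380
theorem D3440 : act 8 n2380 = n3440 := rfl
theorem F16427 : act 1 n3440 = n2386 := d15_1 D3440 (iv D2386) (iv F11655)
theorem F16428 : act 4 n3440 = n2382 := d33_1 D3440 (iv D2382) D2380
theorem F16429 : act 5 n3440 = n3440 := d37_1 D3440 (iv D3440) F11657
theorem F16430 : act 7 n3440 = n3440 := d42_1 D3440 (iv D3440) F11658
def n3441 : Q := act 7 n2381
theorem D3441 : act 7 n2381 = n3441 := rfl
theorem F16431 : act 1 n3441 = n2387 := d14_1 D3441 (iv D2387) (iv F11660)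
theorem F16432 : act 3 n3441 = n2384 := d27_1 D3441 (iv D2384) (iv F11661)
theorem F16433 : act 6 n3441 = n3441 := d39_1 D3441 (iv D3441) (iv D2381) F8305 D2381
theorem F16434 : act 9 n3441 = n3441 := d43_2 F11662 D3441 (iv D3441)
def n3442 : Q := act 8 n2381
theorem D3442 : act 8 n2381 = n3442 := rfl
theorem F16435 : act 1 n3442 = n2388 := d15_1 D3442 (iv D2388) (iv F11660)
theorem F16436 : act 6 n3442 = n2382 := d40_1 D3442 (iv D2382) D2381
def n3443 : Q := act 9 n2382
theorem D3443 : act 9 n2382 = n3443 := rfl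
theorem F16437 : act 1 n3443 = n2389 := d16_1 D3443 (iv D2389) (iv F11663)
theorem F16438 : act 5 n3443 = n2383 := d38_1 D3443 (iv D2383) (iv F11664)
theorem F16439 : act 7 n3443 = n3443 := d43_1 D3443 (iv D3443) F11665
theorem F16440 : act 8 n3443 = n3443 := d44_1 D3443 (iv D3443) (iv D2382) F8306 D2382
def n3444 : Q := act 5 n2385
theorem D3444 : act 5 n2385 = n3444 := rfl
theorem F16441 : act 0 n3444 = n3444 := d4_1 D3444 (iv D3444) F11675
theorem F16442 : act 2 n3444 = n3444 := d19_1 D3444 (iv D3444) F11676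
theorem F16443 : act 3 n3444 = n2400 := d25_1 D3444 (iv D2400) (iv F11677)
theorem F16444 : act 6 n3444 = n3444 := d35_2 D2385 D3444 (iv D3444) (iv D2385) F8317
theorem F16445 : act 9 n3444 = n3444 := d38_2 F11679 D3444 (iv D3444)
def n3445 : Q := act 7 n2385
theorem D3445 : act 7 n2385 = n3445 := rfl
theorem F16446 : act 0 n3445 = n3445 := d6_1 D3445 (iv D3445) F11675
theorem F16447 : act 2 n3445 = n3445 := d21_1 D3445 (iv D3445) F11676
theorem F16448 : act 3 n3445 = n2401 := d27_1 D3445 (iv D2401) (iv F11677)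
theorem F16449 : act 4 n3445 = n2387 := d32_1 D3445 (iv D2387) (iv F11678)
theorem F16450 : act 6 n3445 = n3445 := d39_1 D3445 (iv D3445) (iv D2385) F8318 D2385
theorem F16451 : act 9 n3445 = n3445 := d43_2 F11679 D3445 (iv D3445)
def n3446 : Q := act 8 n2385
theorem D3446 : act 8 n2385 = n3446 := rfl
theorem F16452 : act 0 n3446 = n3446 := d7_1 D3446 (iv D3446) F11675
theorem F16453 : act 2 n3446 = n3446 := d22_1 D3446 (iv D3446) F11676
theorem F16454 : act 4 n3446 = n2388 := d33_1 D3446 (iv D2388) (iv F11678)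
theorem F16455 : act 6 n3446 = n2386 := d40_1 D3446 (iv D2386) D2385
def n3447 : Q := act 3 n2386
theorem D3447 : act 3 n2386 = n3447 := rfl
theorem F16456 : act 0 n3447 = n3447 := d2_1 D3447 (iv D3447) F11680
theorem F16457 : act 5 n3447 = n3447 := d25_2 F11683 D3447 (iv D3447)
theorem F16458 : act 7 n3447 = n3447 := d27_2 F11684 D3447 (iv D3447)
theorem F16459 : act 8 n3447 = n2403 := d28_2 D2386 D3447 (iv D2403) (iv D1669) (iv F8316)
def n3448 : Q := act 9 n2386
theorem D3448 : act 9 n2386 = n3448 := rfl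
theorem F16460 : act 0 n3448 = n3448 := d8_1 D3448 (iv D3448) F11680
theorem F16461 : act 2 n3448 = n3448 := d23_1 D3448 (iv D3448) F11681
theorem F16462 : act 4 n3448 = n2389 := d34_1 D3448 (iv D2389) (iv F11682)
theorem F16463 : act 5 n3448 = n3448 := d38_1 D3448 (iv D3448) F11683
theorem F16464 : act 7 n3448 = n3448 := d43_1 D3448 (iv D3448) F11684
theorem F16465 : act 8 n3448 = n3448 := d44_1 D3448 (iv D3448) (iv D2386) F8319 D2386
def n3449 : Q := act 8 n2387
theorem D3449 : act 8 n2387 = n3449 := rfl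
theorem F16466 : act 0 n3449 = n3449 := d7_1 D3449 (iv D3449) F11685
theorem F16467 : act 2 n3449 = n3449 := d22_1 D3449 (iv D3449) F11686
theorem F16468 : act 6 n3449 = n3449 := d40_1 D3449 (iv D3449) F11688
theorem F16469 : act 7 n3449 = n2388 := d42_1 D3449 (iv D2388) D2387
def n3450 : Q := act 9 n2388
theorem D3450 : act 9 n2388 = n3450 := rfl
theorem F16470 : act 0 n3450 = n3450 := d8_1 D3450 (iv D3450) F11690
theorem F16471 : act 2 n3450 = n3450 := d23_1 D3450 (iv D3450) F11691
theorem F16472 : act 6 n3450 = n2389 := d41_1 D3450 (iv D2389) (iv F11692)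
theorem F16473 : act 8 n3450 = n3450 := d44_1 D3450 (iv D3450) (iv D2388) F8323 D2388
def n3451 : Q := act 6 n2390
theorem D3451 : act 6 n2390 = n3451 := rfl
theorem F16474 : act 0 n3451 = n2395 := d5_1 D3451 (iv D2395) (iv F11698)
theorem F16475 : act 1 n3451 = n3451 := d13_1 D3451 (iv D3451) F11699
theorem F16476 : act 2 n3451 = n3451 := d20_1 D3451 (iv D3451) F11700
theorem F16477 : act 4 n3451 = n2391 := d31_1 D3451 (iv D2391) D2390
theorem F16478 : act 9 n3451 = n3451 := d41_2 F11703 D3451 (iv D3451)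
def n3452 : Q := act 8 n2390
theorem D3452 : act 8 n2390 = n3452 := rfl
theorem F16479 : act 0 n3452 = n2396 := d7_1 D3452 (iv D2396) (iv F11698)
theorem F16480 : act 1 n3452 = n3452 := d15_1 D3452 (iv D3452) F11699
theorem F16481 : act 2 n3452 = n3452 := d22_1 D3452 (iv D3452) F11700
theorem F16482 : act 4 n3452 = n2392 := d33_1 D3452 (iv D2392) D2390
theorem F16483 : act 5 n3452 = n3452 := d37_1 D3452 (iv D3452) F11701
theorem F16484 : act 7 n3452 = n3452 := d42_1 D3452 (iv D3452) F11702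
def n3453 : Q := act 7 n2391
theorem D3453 : act 7 n2391 = n3453 := rfl
theorem F16485 : act 0 n3453 = n2397 := d6_1 D3453 (iv D2397) (iv F11704)
theorem F16486 : act 1 n3453 = n3453 := d14_1 D3453 (iv D3453) F11705
theorem F16487 : act 2 n3453 = n3453 := d21_1 D3453 (iv D3453) F11706
theorem F16488 : act 3 n3453 = n2394 := d27_1 D3453 (iv D2394) (iv F11707)
theorem F16489 : act 5 n3453 = n3453 := d36_1 D3453 (iv D3453) F11708
theorem F16490 : act 6 n3453 = n3453 := d39_1 D3453 (iv D3453) (iv D2391) F8342 D2391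
theorem F16491 : act 9 n3453 = n3453 := d43_2 F11709 D3453 (iv D3453)
def n3454 : Q := act 8 n2391
theorem D3454 : act 8 n2391 = n3454 := rfl
theorem F16492 : act 0 n3454 = n2398 := d7_1 D3454 (iv D2398) (iv F11704)
theorem F16493 : act 1 n3454 = n3454 := d15_1 D3454 (iv D3454) F11705
theorem F16494 : act 2 n3454 = n3454 := d22_1 D3454 (iv D3454) F11706
theorem F16495 : act 5 n3454 = n3454 := d37_1 D3454 (iv D3454) F11708
theorem F16496 : act 6 n3454 = n2392 := d40_1 D3454 (iv D2392) D2391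
def n3455 : Q := act 9 n2392
theorem D3455 : act 9 n2392 = n3455 := rfl
theorem F16497 : act 0 n3455 = n2399 := d8_1 D3455 (iv D2399) (iv F11710)
theorem F16498 : act 1 n3455 = n3455 := d16_1 D3455 (iv D3455) F11711
theorem F16499 : act 2 n3455 = n3455 := d23_1 D3455 (iv D3455) F11712
theorem F16500 : act 5 n3455 = n2393 := d38_1 D3455 (iv D2393) (iv F11713)
theorem F16501 : act 7 n3455 = n3455 := d43_1 D3455 (iv D3455) F11714
theorem F16502 : act 8 n3455 = n3455 := d44_1 D3455 (iv D3455) (iv D2392) F8343 D2392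
def n3456 : Q := act 5 n2395
theorem D3456 : act 5 n2395 = n3456 := rfl
theorem F16503 : act 1 n3456 = n2400 := d12_1 D3456 (iv D2400) (iv F11728)
theorem F16504 : act 2 n3456 = n3456 := d19_1 D3456 (iv D3456) F11729
theorem F16505 : act 4 n3456 = n3456 := d30_1 D3456 (iv D3456) F11730 F8363 (iv F11730)
theorem F16506 : act 6 n3456 = n3456 := d35_2 D2395 D3456 (iv D3456) (iv D2395) F8357
theorem F16507 : act 9 n3456 = n3456 := d38_2 F11731 D3456 (iv D3456)
def n3457 : Q := act 7 n2395
theorem D3457 : act 7 n2395 = n3457 := rfl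
theorem F16508 : act 1 n3457 = n2401 := d14_1 D3457 (iv D2401) (iv F11728)
theorem F16509 : act 2 n3457 = n3457 := d21_1 D3457 (iv D3457) F11729
theorem F16510 : act 4 n3457 = n2397 := d32_1 D3457 (iv D2397) (iv F11730)
theorem F16511 : act 6 n3457 = n3457 := d39_1 D3457 (iv D3457) (iv D2395) F8358 D2395
theorem F16512 : act 9 n3457 = n3457 := d43_2 F11731 D3457 (iv D3457)
def n3458 : Q := act 8 n2395
theorem D3458 : act 8 n2395 = n3458 := rfl
theorem F16513 : act 1 n3458 = n2402 := d15_1 D3458 (iv D2402) (iv F11728)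
theorem F16514 : act 2 n3458 = n3458 := d22_1 D3458 (iv D3458) F11729
theorem F16515 : act 4 n3458 = n2398 := d33_1 D3458 (iv D2398) (iv F11730)
theorem F16516 : act 6 n3458 = n2396 := d40_1 D3458 (iv D2396) D2395
def n3459 : Q := act 3 n2396
theorem D3459 : act 3 n2396 = n3459 := rfl
theorem F16517 : act 1 n3459 = n2403 := d10_1 D3459 (iv D2403) (iv F11732)
theorem F16518 : act 5 n3459 = n3459 := d25_2 F11735 D3459 (iv D3459)
theorem F16519 : act 7 n3459 = n3459 := d27_2 F11736 D3459 (iv D3459)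
def n3460 : Q := act 9 n2396
theorem D3460 : act 9 n2396 = n3460 := rfl
theorem F16520 : act 1 n3460 = n2404 := d16_1 D3460 (iv D2404) (iv F11732)
theorem F16521 : act 2 n3460 = n3460 := d23_1 D3460 (iv D3460) F11733
theorem F16522 : act 4 n3460 = n2399 := d34_1 D3460 (iv D2399) (iv F11734)
theorem F16523 : act 5 n3460 = n3460 := d38_1 D3460 (iv D3460) F11735
theorem F16524 : act 7 n3460 = n3460 := d43_1 D3460 (iv D3460) F11736
theorem F16525 : act 8 n3460 = n3460 := d44_1 D3460 (iv D3460) (iv D2396) F8359 D2396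
def n3461 : Q := act 8 n2397
theorem D3461 : act 8 n2397 = n3461 := rfl
theorem F16526 : act 1 n3461 = n2405 := d15_1 D3461 (iv D2405) (iv F11737)
theorem F16527 : act 2 n3461 = n3461 := d22_1 D3461 (iv D3461) F11738
theorem F16528 : act 5 n3461 = n3461 := d37_1 D3461 (iv D3461) F11740
theorem F16529 : act 6 n3461 = n3461 := d40_1 D3461 (iv D3461) F11741
theorem F16530 : act 7 n3461 = n2398 := d42_1 D3461 (iv D2398) D2397
def n3462 : Q := act 9 n2398
theorem D3462 : act 9 n2398 = n3462 := rfl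
theorem F16531 : act 1 n3462 = n2406 := d16_1 D3462 (iv D2406) (iv F11743)
theorem F16532 : act 2 n3462 = n3462 := d23_1 D3462 (iv D3462) F11744
theorem F16533 : act 5 n3462 = n3462 := d38_1 D3462 (iv D3462) F11745
theorem F16534 : act 6 n3462 = n2399 := d41_1 D3462 (iv D2399) (iv F11746)
theorem F16535 : act 8 n3462 = n3462 := d44_1 D3462 (iv D3462) (iv D2398) F8364 D2398
def n3463 : Q := act 7 n2400
theorem D3463 : act 7 n2400 = n3463 := rfl
theorem F16536 : act 0 n3463 = n3463 := d6_1 D3463 (iv D3463) F11752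
theorem F16537 : act 2 n3463 = n2407 := d21_1 D3463 (iv D2407) (iv F11753)
theorem F16538 : act 4 n3463 = n3463 := d32_1 D3463 (iv D3463) F11754
theorem F16539 : act 5 n3463 = n2401 := d36_1 D3463 (iv D2401) D2400
theorem F16540 : act 9 n3463 = n3463 := d43_2 F11756 D3463 (iv D3463)
def n3464 : Q := act 8 n2400
theorem D3464 : act 8 n2400 = n3464 := rfl
theorem F16541 : act 0 n3464 = n3464 := d7_1 D3464 (iv D3464) F11752
theorem F16542 : act 2 n3464 = n2408 := d22_1 D3464 (iv D2408) (iv F11753)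
theorem F16543 : act 4 n3464 = n3464 := d33_1 D3464 (iv D3464) F11754
theorem F16544 : act 5 n3464 = n2402 := d37_1 D3464 (iv D2402) D2400
theorem F16545 : act 6 n3464 = n3464 := d40_1 D3464 (iv D3464) F11755
def n3465 : Q := act 8 n2401
theorem D3465 : act 8 n2401 = n3465 := rfl
theorem F16546 : act 0 n3465 = n3465 := d7_1 D3465 (iv D3465) F11757
theorem F16547 : act 2 n3465 = n2409 := d22_1 D3465 (iv D2409) (iv F11758)
theorem F16548 : act 4 n3465 = n2405 := d33_1 D3465 (iv D2405) (iv F11759)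
theorem F16549 : act 6 n3465 = n3465 := d40_1 D3465 (iv D3465) F11760
theorem F16550 : act 7 n3465 = n2402 := d42_1 D3465 (iv D2402) D2401
def n3466 : Q := act 3 n2402
theorem D3466 : act 3 n2402 = n3466 := rfl
theorem F16551 : act 0 n3466 = n3466 := d2_1 D3466 (iv D3466) F11762
theorem F16552 : act 6 n3466 = n2403 := d26_2 (iv F11765) D3466 (iv D2403)
def n3467 : Q := act 9 n2402
theorem D3467 : act 9 n2402 = n3467 := rfl
theorem F16553 : act 0 n3467 = n3467 := d8_1 D3467 (iv D3467) F11762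
theorem F16554 : act 2 n3467 = n2411 := d23_1 D3467 (iv D2411) (iv F11763)
theorem F16555 : act 4 n3467 = n2406 := d34_1 D3467 (iv D2406) (iv F11764)
theorem F16556 : act 6 n3467 = n2404 := d41_1 D3467 (iv D2404) (iv F11765)
theorem F16557 : act 8 n3467 = n3467 := d44_1 D3467 (iv D3467) (iv D2402) F8383 D2402
def n3468 : Q := act 2 n2403
theorem D3468 : act 2 n2403 = n3468 := rfl
theorem F16558 : act 0 n3468 = n3468 := d1_1 D3468 (iv D3468) F11766
theorem F16559 : act 3 n3468 = n2412 := d17_2 D2403 D3468 (iv D2412) (iv D1676) (iv F8385)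
theorem F16560 : act 5 n3468 = n3468 := d19_2 F11767 D3468 (iv D3468)
theorem F16561 : act 7 n3468 = n3468 := d21_2 F11768 D3468 (iv D3468)
def n3469 : Q := act 9 n2403
theorem D3469 : act 9 n2403 = n3469 := rfl
theorem F16562 : act 0 n3469 = n3469 := d8_1 D3469 (iv D3469) F11766
theorem F16563 : act 3 n3469 = n2404 := d29_1 D3469 (iv D2404) D2403
theorem F16564 : act 5 n3469 = n3469 := d38_1 D3469 (iv D3469) F11767
theorem F16565 : act 7 n3469 = n3469 := d43_1 D3469 (iv D3469) F11768
def n3470 : Q := act 9 n2405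
theorem D3470 : act 9 n2405 = n3470 := rfl
theorem F16566 : act 0 n3470 = n3470 := d8_1 D3470 (iv D3470) F11775
theorem F16567 : act 2 n3470 = n2414 := d23_1 D3470 (iv D2414) (iv F11776)
theorem F16568 : act 5 n3470 = n3470 := d38_1 D3470 (iv D3470) F11777
theorem F16569 : act 6 n3470 = n3470 := d41_1 D3470 (iv D3470) F11778
theorem F16570 : act 7 n3470 = n2406 := d43_1 D3470 (iv D2406) (iv F11779)
theorem F16571 : act 8 n3470 = n3470 := d44_1 D3470 (iv D3470) (iv D2405) F8394 D2405
def n3471 : Q := act 6 n2407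
theorem D3471 : act 6 n2407 = n3471 := rfl
theorem F16572 : act 0 n3471 = n3471 := d5_1 D3471 (iv D3471) F11785
theorem F16573 : act 1 n3471 = n3471 := d13_1 D3471 (iv D3471) F11786
theorem F16574 : act 3 n3471 = n3471 := d26_1 D3471 (iv D3471) F11787
theorem F16575 : act 4 n3471 = n3471 := d31_1 D3471 (iv D3471) F11788
theorem F16576 : act 5 n3471 = n3471 := d35_1 D3471 (iv D3471) F11789 F8414 (iv F11789)
theorem F16577 : act 7 n3471 = n3471 := d39_2 D2407 D3471 (iv D3471) (iv D2407) F8408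
theorem F16578 : act 9 n3471 = n3471 := d41_2 F11790 D3471 (iv D3471)
def n3472 : Q := act 8 n2407
theorem D3472 : act 8 n2407 = n3472 := rfl
theorem F16579 : act 0 n3472 = n3472 := d7_1 D3472 (iv D3472) F11785
theorem F16580 : act 1 n3472 = n3472 := d15_1 D3472 (iv D3472) F11786
theorem F16581 : act 4 n3472 = n3472 := d33_1 D3472 (iv D3472) F11788
theorem F16582 : act 5 n3472 = n2409 := d37_1 D3472 (iv D2409) (iv F11789)
theorem F16583 : act 7 n3472 = n2408 := d42_1 D3472 (iv D2408) D2407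
def n3473 : Q := act 3 n2408
theorem D3473 : act 3 n2408 = n3473 := rfl
theorem F16584 : act 0 n3473 = n3473 := d2_1 D3473 (iv D3473) F11791
theorem F16585 : act 1 n3473 = n3473 := d10_1 D3473 (iv D3473) F11792
theorem F16586 : act 5 n3473 = n2410 := d25_2 (iv F11794) D3473 (iv D2410)
theorem F16587 : act 6 n3473 = n3473 := d26_2 F11795 D3473 (iv D3473)
theorem F16588 : act 8 n3473 = n3473 := d28_2 D2408 D3473 (iv D3473) (iv D2408) F8406
def n3474 : Q := act 9 n2408
theorem D3474 : act 9 n2408 = n3474 := rfl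
theorem F16589 : act 0 n3474 = n3474 := d8_1 D3474 (iv D3474) F11791
theorem F16590 : act 1 n3474 = n3474 := d16_1 D3474 (iv D3474) F11792
theorem F16591 : act 4 n3474 = n3474 := d34_1 D3474 (iv D3474) F11793
theorem F16592 : act 5 n3474 = n2411 := d38_1 D3474 (iv D2411) (iv F11794)
theorem F16593 : act 6 n3474 = n3474 := d41_1 D3474 (iv D3474) F11795
theorem F16594 : act 8 n3474 = n3474 := d44_1 D3474 (iv D3474) (iv D2408) F8409 D2408
def n3475 : Q := act 3 n2409
theorem D3475 : act 3 n2409 = n3475 := rfl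
theorem F16599 : act 7 n3475 = n2410 := d27_2 (iv F11800) D3475 (iv D2410)
def n3476 : Q := act 9 n2409
theorem D3476 : act 9 n2409 = n3476 := rfl
theorem F16605 : act 7 n3476 = n2411 := d43_1 D3476 (iv D2411) (iv F11800)
def n3477 : Q := act 2 n2410
theorem D3477 : act 2 n2410 = n3477 := rfl
theorem F16607 : act 0 n3477 = n3477 := d1_1 D3477 (iv D3477) F11801
theorem F16608 : act 4 n3477 = n3477 := d18_2 F11803 D3477 (iv D3477)
theorem F16609 : act 6 n3477 = n2412 := d20_2 (iv F11804) D3477 (iv D2412)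
theorem F16610 : act 8 n3477 = n3477 := d22_2 F11805 D3477 (iv D3477)
def n3478 : Q := act 9 n2410
theorem D3478 : act 9 n2410 = n3478 := rfl
theorem F16613 : act 3 n3478 = n2411 := d29_1 D3478 (iv D2411) D2410
def n3479 : Q := act 1 n2412
theorem D3479 : act 1 n2412 = n3479 := rfl
theorem F16616 : act 2 n3479 = n3479 := d9_2 D2412 D3479 (iv D3479) (iv D2412) F8421
theorem F16617 : act 4 n3479 = n3479 := d11_2 F11812 D3479 (iv D3479)
theorem F16618 : act 5 n3479 = n3479 := d12_2 F11813 D3479 (iv D3479)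
theorem F16619 : act 7 n3479 = n3479 := d14_2 F11814 D3479 (iv D3479)
theorem F16620 : act 8 n3479 = n3479 := d15_2 F11815 D3479 (iv D3479)
def n3480 : Q := act 9 n2412
theorem D3480 : act 9 n2412 = n3480 := rfl
theorem F16621 : act 0 n3480 = n3480 := d8_1 D3480 (iv D3480) F11811
theorem F16622 : act 2 n3480 = n2413 := d23_1 D3480 (iv D2413) D2412
theorem F16623 : act 4 n3480 = n3480 := d34_1 D3480 (iv D3480) F11812
theorem F16624 : act 5 n3480 = n3480 := d38_1 D3480 (iv D3480) F11813
theorem F16625 : act 7 n3480 = n3480 := d43_1 D3480 (iv D3480) F11814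
def n3481 : Q := act 8 n2413
theorem D3481 : act 8 n2413 = n3481 := rfl
def n3482 : Q := act 3 n2415
theorem D3482 : act 3 n2415 = n3482 := rfl
theorem F16633 : act 0 n3482 = n2662 := d2_1 D3482 (iv D2662) (iv F11829)
theorem F16634 : act 1 n3482 = n3482 := d10_1 D3482 (iv D3482) F11830
theorem F16635 : act 2 n3482 = n3482 := d17_1 D3482 (iv D3482) F11831 F8452 (iv F11831)
theorem F16636 : act 4 n3482 = n3482 := d24_2 D2415 D3482 (iv D3482) (iv D2415) F8446
theorem F16637 : act 6 n3482 = n2423 := d26_2 (iv F11832) D3482 (iv D2423)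
theorem F16638 : act 7 n3482 = n3482 := d27_2 F11833 D3482 (iv D3482)
def n3483 : Q := act 5 n2415
theorem D3483 : act 5 n2415 = n3483 := rfl
theorem F16639 : act 0 n3483 = n2663 := d4_1 D3483 (iv D2663) (iv F11829)
theorem F16640 : act 1 n3483 = n3483 := d12_1 D3483 (iv D3483) F11830
theorem F16641 : act 2 n3483 = n2417 := d19_1 D3483 (iv D2417) (iv F11831)
theorem F16642 : act 4 n3483 = n3483 := d30_1 D3483 (iv D3483) (iv D2415) F8447 D2415
theorem F16643 : act 6 n3483 = n3483 := d35_2 (iv F11832) D3483 (iv D3483) F11832 F8476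
theorem F16644 : act 7 n3483 = n3483 := d36_2 F11833 D3483 (iv D3483)
theorem F16645 : act 8 n3483 = n3483 := d37_2 F11834 D3483 (iv D3483)
def n3484 : Q := act 9 n2415
theorem D3484 : act 9 n2415 = n3484 := rfl
theorem F16646 : act 0 n3484 = n2664 := d8_1 D3484 (iv D2664) (iv F11829)
theorem F16647 : act 1 n3484 = n3484 := d16_1 D3484 (iv D3484) F11830
theorem F16648 : act 2 n3484 = n2418 := d23_1 D3484 (iv D2418) (iv F11831)
theorem F16649 : act 4 n3484 = n2416 := d34_1 D3484 (iv D2416) D2415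
theorem F16650 : act 6 n3484 = n2424 := d41_1 D3484 (iv D2424) (iv F11832)
theorem F16651 : act 7 n3484 = n3484 := d43_1 D3484 (iv D3484) F11833
def n3485 : Q := act 8 n2416
theorem D3485 : act 8 n2416 = n3485 := rfl
theorem F16654 : act 2 n3485 = n2419 := d22_1 D3485 (iv D2419) (iv F11837)
def n3486 : Q := act 9 n2417
theorem D3486 : act 9 n2417 = n3486 := rfl
theorem F16659 : act 0 n3486 = n2666 := d8_1 D3486 (iv D2666) (iv F11842)
theorem F16660 : act 3 n3486 = n3486 := d29_1 D3486 (iv D3486) F11843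
theorem F16661 : act 4 n3486 = n3486 := d34_1 D3486 (iv D3486) F11844
theorem F16662 : act 5 n3486 = n2418 := d38_1 D3486 (iv D2418) D2417
theorem F16663 : act 6 n3486 = n3486 := d41_1 D3486 (iv D3486) F11845
theorem F16664 : act 7 n3486 = n3486 := d43_1 D3486 (iv D3486) F11846
def n3487 : Q := act 8 n2418
theorem D3487 : act 8 n2418 = n3487 := rfl
theorem F16665 : act 0 n3487 = n2667 := d7_1 D3487 (iv D2667) (iv F11848)
theorem F16666 : act 4 n3487 = n2419 := d33_1 D3487 (iv D2419) (iv F11850)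
theorem F16667 : act 6 n3487 = n2426 := d40_1 D3487 (iv D2426) (iv F11851)
theorem F16668 : act 7 n3487 = n3487 := d42_1 D3487 (iv D3487) F11852
theorem F16669 : act 9 n3487 = n3487 := d44_2 D2418 D3487 (iv D3487) (iv D2418) F8455
def n3488 : Q := act 3 n2419
theorem D3488 : act 3 n2419 = n3488 := rfl
theorem F16670 : act 0 n3488 = n2668 := d2_1 D3488 (iv D2668) (iv F11853)
theorem F16671 : act 5 n3488 = n3488 := d25_2 F11854 D3488 (iv D3488)
theorem F16672 : act 6 n3488 = n2427 := d26_2 (iv F11855) D3488 (iv D2427)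
theorem F16673 : act 7 n3488 = n3488 := d27_2 F11856 D3488 (iv D3488)
theorem F16674 : act 8 n3488 = n2420 := d28_2 D2419 D3488 (iv D2420) (iv D1683) (iv F8457)
theorem F16675 : act 9 n3488 = n3488 := d29_2 F11857 D3488 (iv D3488)
def n3489 : Q := act 2 n2420
theorem D3489 : act 2 n2420 = n3489 := rfl
theorem F16676 : act 0 n3489 = n2669 := d1_1 D3489 (iv D2669) (iv F11858)
theorem F16677 : act 3 n3489 = n3489 := d17_2 D2420 D3489 (iv D3489) (iv D2420) F8462
theorem F16678 : act 5 n3489 = n3489 := d19_2 F11859 D3489 (iv D3489)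
theorem F16679 : act 6 n3489 = n2428 := d20_2 (iv F11860) D3489 (iv D2428)
theorem F16680 : act 7 n3489 = n3489 := d21_2 F11861 D3489 (iv D3489)
theorem F16681 : act 9 n3489 = n2421 := d23_2 (iv F11862) D3489 (iv D2421)
def n3490 : Q := act 4 n2420
theorem D3490 : act 4 n2420 = n3490 := rfl
theorem F16682 : act 0 n3490 = n2670 := d3_1 D3490 (iv D2670) (iv F11858)
theorem F16683 : act 3 n3490 = n3490 := d24_1 D3490 (iv D3490) (iv D2420) F8463 D2420
theorem F16684 : act 6 n3490 = n2429 := d31_2 (iv F11860) D3490 (iv D2429)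
theorem F16685 : act 7 n3490 = n3490 := d32_2 F11861 D3490 (iv D3490)
theorem F16686 : act 9 n3490 = n2422 := d34_2 (iv F11862) D3490 (iv D2422)
def n3491 : Q := act 1 n2421
theorem D3491 : act 1 n2421 = n3491 := rfl
theorem F16687 : act 3 n3491 = n3491 := d10_2 F11864 D3491 (iv D3491)
theorem F16688 : act 5 n3491 = n3491 := d12_2 F11865 D3491 (iv D3491)
theorem F16689 : act 6 n3491 = n2430 := d13_2 (iv F11866) D3491 (iv D2430)
theorem F16690 : act 7 n3491 = n3491 := d14_2 F11867 D3491 (iv D3491)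
theorem F16691 : act 8 n3491 = n3491 := d15_2 F11868 D3491 (iv D3491)
def n3492 : Q := act 4 n2421
theorem D3492 : act 4 n2421 = n3492 := rfl
theorem F16692 : act 0 n3492 = n2672 := d3_1 D3492 (iv D2672) (iv F11863)
theorem F16693 : act 2 n3492 = n2422 := d18_1 D3492 (iv D2422) D2421
theorem F16694 : act 6 n3492 = n2431 := d31_2 (iv F11866) D3492 (iv D2431)
theorem F16695 : act 7 n3492 = n3492 := d32_2 F11867 D3492 (iv D3492)
theorem F16696 : act 8 n3492 = n3492 := d33_2 F11868 D3492 (iv D3492)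
def n3493 : Q := act 5 n2422
theorem D3493 : act 5 n2422 = n3493 := rfl
theorem F16697 : act 0 n3493 = n2673 := d4_1 D3493 (iv D2673) (iv F11869)
theorem F16698 : act 3 n3493 = n3493 := d25_1 D3493 (iv D3493) F11870
theorem F16699 : act 4 n3493 = n3493 := d30_1 D3493 (iv D3493) (iv D2422) F8469 D2422
theorem F16700 : act 7 n3493 = n3493 := d36_2 F11872 D3493 (iv D3493)
theorem F16701 : act 8 n3493 = n3493 := d37_2 F11873 D3493 (iv D3493)
def n3494 : Q := act 8 n2423
theorem D3494 : act 8 n2423 = n3494 := rfl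
theorem F16702 : act 0 n3494 = n2677 := d7_1 D3494 (iv D2677) (iv F11874)
theorem F16703 : act 1 n3494 = n3494 := d15_1 D3494 (iv D3494) F11875
theorem F16704 : act 2 n3494 = n3494 := d22_1 D3494 (iv D3494) F11876
theorem F16705 : act 3 n3494 = n3494 := d28_1 D3494 (iv D3494) (iv D2423) F8478 D2423
theorem F16706 : act 4 n3494 = n3494 := d33_1 D3494 (iv D3494) F11877
theorem F16707 : act 5 n3494 = n3494 := d37_1 D3494 (iv D3494) F11878
theorem F16708 : act 7 n3494 = n2433 := d42_1 D3494 (iv D2433) (iv F11879)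
def n3495 : Q := act 9 n2423
theorem D3495 : act 9 n2423 = n3495 := rfl
theorem F16709 : act 0 n3495 = n2678 := d8_1 D3495 (iv D2678) (iv F11874)
theorem F16710 : act 1 n3495 = n3495 := d16_1 D3495 (iv D3495) F11875
theorem F16711 : act 2 n3495 = n3495 := d23_1 D3495 (iv D3495) F11876
theorem F16712 : act 3 n3495 = n2424 := d29_1 D3495 (iv D2424) D2423
theorem F16713 : act 4 n3495 = n3495 := d34_1 D3495 (iv D3495) F11877
theorem F16714 : act 5 n3495 = n3495 := d38_1 D3495 (iv D3495) F11878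
theorem F16715 : act 7 n3495 = n2434 := d43_1 D3495 (iv D2434) (iv F11879)
def n3496 : Q := act 8 n2424
theorem D3496 : act 8 n2424 = n3496 := rfl
theorem F16718 : act 2 n3496 = n2426 := d22_1 D3496 (iv D2426) (iv F11882)
theorem F16719 : act 4 n3496 = n2425 := d33_1 D3496 (iv D2425) (iv F11883)
def n3497 : Q := act 3 n2425
theorem D3497 : act 3 n2425 = n3497 := rfl
theorem F16725 : act 5 n3497 = n2448 := d25_2 (iv F11889) D3497 (iv D2448)
def n3498 : Q := act 3 n2426
theorem D3498 : act 3 n2426 = n3498 := rfl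
theorem F16729 : act 0 n3498 = n2681 := d2_1 D3498 (iv D2681) (iv F11892)
theorem F16730 : act 5 n3498 = n3498 := d25_2 F11894 D3498 (iv D3498)
theorem F16731 : act 7 n3498 = n2437 := d27_2 (iv F11895) D3498 (iv D2437)
theorem F16732 : act 8 n3498 = n3498 := d28_2 D2426 D3498 (iv D3498) (iv D2426) F8486
theorem F16733 : act 9 n3498 = n3498 := d29_2 F11896 D3498 (iv D3498)
def n3499 : Q := act 2 n2427
theorem D3499 : act 2 n2427 = n3499 := rfl
theorem F16735 : act 5 n3499 = n2449 := d19_2 (iv F11898) D3499 (iv D2449)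
theorem F16736 : act 7 n3499 = n2438 := d21_2 (iv F11899) D3499 (iv D2438)
theorem F16737 : act 8 n3499 = n2428 := d22_2 (iv F11900) D3499 (iv D2428)
def n3500 : Q := act 4 n2427
theorem D3500 : act 4 n2427 = n3500 := rfl
theorem F16739 : act 0 n3500 = n2683 := d3_1 D3500 (iv D2683) (iv F11897)
theorem F16740 : act 7 n3500 = n2439 := d32_2 (iv F11899) D3500 (iv D2439)
theorem F16741 : act 8 n3500 = n2429 := d33_2 (iv F11900) D3500 (iv D2429)
theorem F16742 : act 9 n3500 = n3500 := d34_2 F11901 D3500 (iv D3500)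
def n3501 : Q := act 1 n2428
theorem D3501 : act 1 n2428 = n3501 := rfl
theorem F16743 : act 3 n3501 = n3501 := d10_2 F11903 D3501 (iv D3501)
theorem F16744 : act 5 n3501 = n2451 := d12_2 (iv F11904) D3501 (iv D2451)
theorem F16745 : act 7 n3501 = n2440 := d14_2 (iv F11905) D3501 (iv D2440)
theorem F16746 : act 9 n3501 = n2430 := d16_2 (iv F11906) D3501 (iv D2430)
def n3502 : Q := act 4 n2428
theorem D3502 : act 4 n2428 = n3502 := rfl
theorem F16747 : act 0 n3502 = n2685 := d3_1 D3502 (iv D2685) (iv F11902)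
theorem F16748 : act 2 n3502 = n2429 := d18_1 D3502 (iv D2429) D2428
theorem F16749 : act 7 n3502 = n2441 := d32_2 (iv F11905) D3502 (iv D2441)
theorem F16750 : act 9 n3502 = n2431 := d34_2 (iv F11906) D3502 (iv D2431)
def n3503 : Q := act 5 n2429
theorem D3503 : act 5 n2429 = n3503 := rfl
theorem F16751 : act 0 n3503 = n2686 := d4_1 D3503 (iv D2686) (iv F11907)
theorem F16752 : act 3 n3503 = n3503 := d25_1 D3503 (iv D3503) F11908
theorem F16753 : act 4 n3503 = n2453 := d30_1 D3503 (iv D2453) (iv D1705) (iv F8495) D2429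
theorem F16754 : act 7 n3503 = n2442 := d36_2 (iv F11909) D3503 (iv D2442)
theorem F16755 : act 9 n3503 = n2432 := d38_2 (iv F11910) D3503 (iv D2432)
def n3504 : Q := act 0 n2430
theorem D3504 : act 0 n2430 = n3504 := rfl
theorem F16757 : act 3 n3504 = n3504 := d2_2 F11911 D3504 (iv D3504)
theorem F16758 : act 5 n3504 = n2454 := d4_2 (iv F11912) D3504 (iv D2454)
theorem F16759 : act 7 n3504 = n2443 := d6_2 (iv F11913) D3504 (iv D2443)
theorem F16760 : act 8 n3504 = n3504 := d7_2 F11914 D3504 (iv D3504)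
def n3505 : Q := act 4 n2430
theorem D3505 : act 4 n2430 = n3505 := rfl
theorem F16761 : act 1 n3505 = n2431 := d11_1 D3505 (iv D2431) D2430
theorem F16762 : act 7 n3505 = n2444 := d32_2 (iv F11913) D3505 (iv D2444)
theorem F16763 : act 8 n3505 = n3505 := d33_2 F11914 D3505 (iv D3505)
def n3506 : Q := act 3 n2431
theorem D3506 : act 3 n2431 = n3506 := rfl
theorem F16764 : act 0 n3506 = n2689 := d2_1 D3506 (iv D2689) (iv F11915)
theorem F16765 : act 2 n3506 = n3506 := d17_1 D3506 (iv D3506) F11916 F8504 (iv F11916)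
theorem F16766 : act 4 n3506 = n3506 := d24_2 D2431 D3506 (iv D3506) (iv D2431) F8499
theorem F16767 : act 7 n3506 = n2445 := d27_2 (iv F11917) D3506 (iv D2445)
def n3507 : Q := act 5 n2431
theorem D3507 : act 5 n2431 = n3507 := rfl
theorem F16768 : act 0 n3507 = n2690 := d4_1 D3507 (iv D2690) (iv F11915)
theorem F16769 : act 2 n3507 = n2432 := d19_1 D3507 (iv D2432) (iv F11916)
theorem F16770 : act 4 n3507 = n2457 := d30_1 D3507 (iv D2457) (iv D1707) (iv F8500) D2431
theorem F16771 : act 7 n3507 = n2446 := d36_2 (iv F11917) D3507 (iv D2446)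
theorem F16772 : act 8 n3507 = n3507 := d37_2 F11918 D3507 (iv D3507)
def n3508 : Q := act 6 n2432
theorem D3508 : act 6 n2432 = n3508 := rfl
theorem F16773 : act 0 n3508 = n2691 := d5_1 D3508 (iv D2691) (iv F11919)
theorem F16774 : act 3 n3508 = n3508 := d26_1 D3508 (iv D3508) F11920
theorem F16775 : act 4 n3508 = n2458 := d31_1 D3508 (iv D2458) (iv F11921)
theorem F16776 : act 8 n3508 = n3508 := d40_2 F11923 D3508 (iv D3508)
def n3509 : Q := act 9 n2433
theorem D3509 : act 9 n2433 = n3509 := rfl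
def n3510 : Q := act 8 n2434
theorem D3510 : act 8 n2434 = n3510 := rfl
def n3511 : Q := act 3 n2435
theorem D3511 : act 3 n2435 = n3511 := rfl
def n3513 : Q := act 4 n2436
theorem D3513 : act 4 n2436 = n3513 := rfl
def n3514 : Q := act 2 n2437
theorem D3514 : act 2 n2437 = n3514 := rfl
def n3515 : Q := act 4 n2437
theorem D3515 : act 4 n2437 = n3515 := rfl
theorem F16811 : act 0 n3515 = n2703 := d3_1 D3515 (iv D2703) (iv F11951)
theorem F16812 : act 3 n3515 = n2439 := d24_1 D3515 (iv D2439) (iv D1696) (iv F8526) D2437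
theorem F16813 : act 6 n3515 = n3515 := d31_2 F11953 D3515 (iv D3515)
theorem F16814 : act 8 n3515 = n3515 := d33_2 F11954 D3515 (iv D3515)
theorem F16815 : act 9 n3515 = n3515 := d34_2 F11955 D3515 (iv D3515)
def n3516 : Q := act 1 n2438
theorem D3516 : act 1 n2438 = n3516 := rfl
theorem F16816 : act 5 n3516 = n2461 := d12_2 (iv F11957) D3516 (iv D2461)
theorem F16818 : act 8 n3516 = n2440 := d15_2 (iv F11959) D3516 (iv D2440)
def n3517 : Q := act 4 n2438
theorem D3517 : act 4 n2438 = n3517 := rfl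
theorem F16821 : act 2 n3517 = n2439 := d18_1 D3517 (iv D2439) D2438
theorem F16823 : act 8 n3517 = n2441 := d33_2 (iv F11959) D3517 (iv D2441)
def n3518 : Q := act 5 n2439
theorem D3518 : act 5 n2439 = n3518 := rfl
theorem F16825 : act 0 n3518 = n2706 := d4_1 D3518 (iv D2706) (iv F11961)
theorem F16826 : act 4 n3518 = n2463 := d30_1 D3518 (iv D2463) (iv D1711) (iv F8531) D2439
theorem F16827 : act 8 n3518 = n2442 := d37_2 (iv F11963) D3518 (iv D2442)
theorem F16828 : act 9 n3518 = n3518 := d38_2 F11964 D3518 (iv D3518)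
def n3519 : Q := act 0 n2440
theorem D3519 : act 0 n2440 = n3519 := rfl
theorem F16833 : act 9 n3519 = n2443 := d8_2 (iv F11968) D3519 (iv D2443)
def n3520 : Q := act 4 n2440
theorem D3520 : act 4 n2440 = n3520 := rfl
theorem F16834 : act 1 n3520 = n2441 := d11_1 D3520 (iv D2441) D2440
theorem F16835 : act 6 n3520 = n3520 := d31_2 F11967 D3520 (iv D3520)
theorem F16836 : act 9 n3520 = n2444 := d34_2 (iv F11968) D3520 (iv D2444)
def n3521 : Q := act 3 n2441
theorem D3521 : act 3 n2441 = n3521 := rfl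
theorem F16837 : act 0 n3521 = n2709 := d2_1 D3521 (iv D2709) (iv F11969)
theorem F16838 : act 2 n3521 = n3521 := d17_1 D3521 (iv D3521) F11970 F8541 (iv F11970)
theorem F16839 : act 4 n3521 = n3521 := d24_2 D2441 D3521 (iv D3521) (iv D2441) F8536
theorem F16840 : act 6 n3521 = n3521 := d26_2 F11971 D3521 (iv D3521)
theorem F16841 : act 9 n3521 = n2445 := d29_2 (iv F11972) D3521 (iv D2445)
def n3522 : Q := act 5 n2441
theorem D3522 : act 5 n2441 = n3522 := rfl
theorem F16842 : act 0 n3522 = n2710 := d4_1 D3522 (iv D2710) (iv F11969)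
theorem F16843 : act 2 n3522 = n2442 := d19_1 D3522 (iv D2442) (iv F11970)
theorem F16844 : act 4 n3522 = n2467 := d30_1 D3522 (iv D2467) (iv D1713) (iv F8537) D2441
theorem F16845 : act 9 n3522 = n2446 := d38_2 (iv F11972) D3522 (iv D2446)
def n3523 : Q := act 6 n2442
theorem D3523 : act 6 n2442 = n3523 := rfl
theorem F16846 : act 0 n3523 = n2711 := d5_1 D3523 (iv D2711) (iv F11973)
theorem F16847 : act 3 n3523 = n3523 := d26_1 D3523 (iv D3523) F11974
theorem F16848 : act 4 n3523 = n2468 := d31_1 D3523 (iv D2468) (iv F11975)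
theorem F16849 : act 5 n3523 = n3523 := d35_1 D3523 (iv D3523) (iv D2442) F8542 D2442
theorem F16850 : act 9 n3523 = n2447 := d41_2 (iv F11976) D3523 (iv D2447)
def n3524 : Q := act 4 n2443
theorem D3524 : act 4 n2443 = n3524 := rfl
theorem F16851 : act 0 n3524 = n2444 := d3_1 D3524 (iv D2444) D2443
theorem F16852 : act 1 n3524 = n2712 := d11_1 D3524 (iv D2712) (iv F11977)
theorem F16853 : act 6 n3524 = n3524 := d31_2 F11980 D3524 (iv D3524)
theorem F16854 : act 8 n3524 = n3524 := d33_2 F11981 D3524 (iv D3524)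
def n3525 : Q := act 3 n2444
theorem D3525 : act 3 n2444 = n3525 := rfl
theorem F16855 : act 1 n3525 = n2445 := d10_1 D3525 (iv D2445) (iv F11982)
theorem F16856 : act 4 n3525 = n3525 := d24_2 D2444 D3525 (iv D3525) (iv D2444) F8544
theorem F16857 : act 6 n3525 = n3525 := d26_2 F11983 D3525 (iv D3525)
def n3526 : Q := act 5 n2444
theorem D3526 : act 5 n2444 = n3526 := rfl
theorem F16858 : act 1 n3526 = n2446 := d12_1 D3526 (iv D2446) (iv F11982)
theorem F16859 : act 4 n3526 = n2471 := d30_1 D3526 (iv D2471) (iv D1716) (iv F8545) D2444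
theorem F16860 : act 8 n3526 = n3526 := d37_2 F11984 D3526 (iv D3526)
def n3527 : Q := act 5 n2445
theorem D3527 : act 5 n2445 = n3527 := rfl
theorem F16861 : act 0 n3527 = n2715 := d4_1 D3527 (iv D2715) (iv F11985)
theorem F16862 : act 2 n3527 = n3527 := d19_1 D3527 (iv D3527) F11986
theorem F16863 : act 3 n3527 = n2446 := d25_1 D3527 (iv D2446) D2445
def n3528 : Q := act 8 n2445
theorem D3528 : act 8 n2445 = n3528 := rfl
theorem F16864 : act 0 n3528 = n2716 := d7_1 D3528 (iv D2716) (iv F11985)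
theorem F16865 : act 2 n3528 = n3528 := d22_1 D3528 (iv D3528) F11986
theorem F16866 : act 3 n3528 = n3528 := d28_1 D3528 (iv D3528) (iv D2445) F8551 D2445
theorem F16867 : act 4 n3528 = n3528 := d33_1 D3528 (iv D3528) F11987
theorem F16868 : act 6 n3528 = n3528 := d40_1 D3528 (iv D3528) F11988
def n3529 : Q := act 6 n2446
theorem D3529 : act 6 n2446 = n3529 := rfl
theorem F16869 : act 0 n3529 = n2717 := d5_1 D3529 (iv D2717) (iv F11989)
theorem F16870 : act 2 n3529 = n2447 := d20_1 D3529 (iv D2447) (iv F11990)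
theorem F16871 : act 4 n3529 = n2474 := d31_1 D3529 (iv D2474) (iv F11991)
theorem F16872 : act 5 n3529 = n3529 := d35_1 D3529 (iv D3529) (iv D2446) F8550 D2446
theorem F16873 : act 8 n3529 = n3529 := d40_2 F11992 D3529 (iv D3529)
def n3530 : Q := act 7 n2447
theorem D3530 : act 7 n2447 = n3530 := rfl
theorem F16874 : act 0 n3530 = n2718 := d6_1 D3530 (iv D2718) (iv F11993)
theorem F16875 : act 3 n3530 = n3530 := d27_1 D3530 (iv D3530) F11994
theorem F16876 : act 4 n3530 = n2475 := d32_1 D3530 (iv D2475) (iv F11995)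
theorem F16877 : act 5 n3530 = n3530 := d36_1 D3530 (iv D3530) F11996
theorem F16878 : act 8 n3530 = n3530 := d42_2 F11997 D3530 (iv D3530)
def n3531 : Q := act 2 n2448
theorem D3531 : act 2 n2448 = n3531 := rfl
theorem F16880 : act 3 n3531 = n2449 := d17_2 D2448 D3531 (iv D2449) (iv D1703) (iv F8558)
theorem F16882 : act 7 n3531 = n2459 := d21_2 (iv F12001) D3531 (iv D2459)
def n3532 : Q := act 4 n2448
theorem D3532 : act 4 n2448 = n3532 := rfl
def n3533 : Q := act 1 n2449
theorem D3533 : act 1 n2449 = n3533 := rfl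
theorem F16893 : act 7 n3533 = n2461 := d14_2 (iv F12006) D3533 (iv D2461)
theorem F16894 : act 8 n3533 = n2451 := d15_2 (iv F12007) D3533 (iv D2451)
def n3534 : Q := act 4 n2449
theorem D3534 : act 4 n2449 = n3534 := rfl
theorem F16896 : act 0 n3534 = n2723 := d3_1 D3534 (iv D2723) (iv F12004)
theorem F16897 : act 2 n3534 = n2450 := d18_1 D3534 (iv D2450) D2449
theorem F16899 : act 7 n3534 = n2462 := d32_2 (iv F12006) D3534 (iv D2462)
theorem F16900 : act 8 n3534 = n2452 := d33_2 (iv F12007) D3534 (iv D2452)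
def n3535 : Q := act 5 n2450
theorem D3535 : act 5 n2450 = n3535 := rfl
theorem F16902 : act 0 n3535 = n2724 := d4_1 D3535 (iv D2724) (iv F12009)
theorem F16903 : act 3 n3535 = n3535 := d25_1 D3535 (iv D3535) F12010
theorem F16904 : act 7 n3535 = n2463 := d36_2 (iv F12012) D3535 (iv D2463)
theorem F16905 : act 8 n3535 = n2453 := d37_2 (iv F12013) D3535 (iv D2453)
theorem F16906 : act 9 n3535 = n3535 := d38_2 F12014 D3535 (iv D3535)
def n3536 : Q := act 0 n2451
theorem D3536 : act 0 n2451 = n3536 := rfl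
theorem F16907 : act 1 n3536 = n2725 := d0_2 D2451 D3536 (iv D2725) (iv D1894) (iv F8568)
theorem F16910 : act 7 n3536 = n2464 := d6_2 (iv F12017) D3536 (iv D2464)
theorem F16911 : act 9 n3536 = n2454 := d8_2 (iv F12018) D3536 (iv D2454)
def n3537 : Q := act 4 n2451
theorem D3537 : act 4 n2451 = n3537 := rfl
theorem F16912 : act 1 n3537 = n2452 := d11_1 D3537 (iv D2452) D2451
theorem F16913 : act 6 n3537 = n3537 := d31_2 F12016 D3537 (iv D3537)
theorem F16914 : act 7 n3537 = n2465 := d32_2 (iv F12017) D3537 (iv D2465)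
theorem F16915 : act 9 n3537 = n2455 := d34_2 (iv F12018) D3537 (iv D2455)
def n3538 : Q := act 3 n2452
theorem D3538 : act 3 n2452 = n3538 := rfl
theorem F16916 : act 0 n3538 = n2727 := d2_1 D3538 (iv D2727) (iv F12019)
theorem F16917 : act 2 n3538 = n2504 := d17_1 D3538 (iv D2504) F8718 (iv F8574) (iv F12020)
theorem F16918 : act 4 n3538 = n3538 := d24_2 D2452 D3538 (iv D3538) (iv D2452) F8569
theorem F16919 : act 6 n3538 = n3538 := d26_2 F12021 D3538 (iv D3538)
theorem F16920 : act 7 n3538 = n2466 := d27_2 (iv F12022) D3538 (iv D2466)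
theorem F16921 : act 9 n3538 = n2456 := d29_2 (iv F12023) D3538 (iv D2456)
def n3539 : Q := act 5 n2452
theorem D3539 : act 5 n2452 = n3539 := rfl
theorem F16922 : act 0 n3539 = n2728 := d4_1 D3539 (iv D2728) (iv F12019)
theorem F16923 : act 2 n3539 = n2453 := d19_1 D3539 (iv D2453) (iv F12020)
theorem F16924 : act 7 n3539 = n2467 := d36_2 (iv F12022) D3539 (iv D2467)
theorem F16925 : act 9 n3539 = n2457 := d38_2 (iv F12023) D3539 (iv D2457)
def n3540 : Q := act 6 n2453
theorem D3540 : act 6 n2453 = n3540 := rfl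
theorem F16926 : act 0 n3540 = n2729 := d5_1 D3540 (iv D2729) (iv F12024)
theorem F16927 : act 3 n3540 = n2506 := d26_1 D3540 (iv D2506) (iv F12025)
theorem F16928 : act 5 n3540 = n3540 := d35_1 D3540 (iv D3540) (iv D2453) F8575 D2453
theorem F16929 : act 9 n3540 = n2458 := d41_2 (iv F12027) D3540 (iv D2458)
def n3541 : Q := act 4 n2454
theorem D3541 : act 4 n2454 = n3541 := rfl
theorem F16930 : act 0 n3541 = n2455 := d3_1 D3541 (iv D2455) D2454
theorem F16931 : act 1 n3541 = n2730 := d11_1 D3541 (iv D2730) (iv F12028)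
theorem F16932 : act 6 n3541 = n3541 := d31_2 F12030 D3541 (iv D3541)
theorem F16933 : act 7 n3541 = n2469 := d32_2 (iv F12031) D3541 (iv D2469)
theorem F16934 : act 8 n3541 = n3541 := d33_2 F12032 D3541 (iv D3541)
def n3542 : Q := act 3 n2455
theorem D3542 : act 3 n2455 = n3542 := rfl
theorem F16935 : act 1 n3542 = n2456 := d10_1 D3542 (iv D2456) (iv F12033)
theorem F16936 : act 4 n3542 = n3542 := d24_2 D2455 D3542 (iv D3542) (iv D2455) F8578
theorem F16937 : act 6 n3542 = n3542 := d26_2 F12034 D3542 (iv D3542)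
theorem F16938 : act 7 n3542 = n2470 := d27_2 (iv F12035) D3542 (iv D2470)
def n3543 : Q := act 5 n2455
theorem D3543 : act 5 n2455 = n3543 := rfl
theorem F16939 : act 1 n3543 = n2457 := d12_1 D3543 (iv D2457) (iv F12033)
theorem F16940 : act 7 n3543 = n2471 := d36_2 (iv F12035) D3543 (iv D2471)
theorem F16941 : act 8 n3543 = n3543 := d37_2 F12036 D3543 (iv D3543)
def n3544 : Q := act 5 n2456
theorem D3544 : act 5 n2456 = n3544 := rfl
theorem F16942 : act 0 n3544 = n2733 := d4_1 D3544 (iv D2733) (iv F12037)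
theorem F16943 : act 2 n3544 = n2510 := d19_1 D3544 (iv D2510) (iv F12038)
theorem F16944 : act 3 n3544 = n2457 := d25_1 D3544 (iv D2457) D2456
theorem F16945 : act 7 n3544 = n2472 := d36_2 (iv F12041) D3544 (iv D2472)
def n3545 : Q := act 8 n2456
theorem D3545 : act 8 n2456 = n3545 := rfl
theorem F16946 : act 0 n3545 = n2734 := d7_1 D3545 (iv D2734) (iv F12037)
theorem F16947 : act 2 n3545 = n2511 := d22_1 D3545 (iv D2511) (iv F12038)
theorem F16948 : act 3 n3545 = n3545 := d28_1 D3545 (iv D3545) (iv D2456) F8586 D2456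
theorem F16949 : act 4 n3545 = n3545 := d33_1 D3545 (iv D3545) F12039
theorem F16950 : act 6 n3545 = n3545 := d40_1 D3545 (iv D3545) F12040
theorem F16951 : act 7 n3545 = n2473 := d42_1 D3545 (iv D2473) (iv F12041)
def n3546 : Q := act 6 n2457
theorem D3546 : act 6 n2457 = n3546 := rfl
theorem F16952 : act 0 n3546 = n2735 := d5_1 D3546 (iv D2735) (iv F12042)
theorem F16953 : act 2 n3546 = n2458 := d20_1 D3546 (iv D2458) (iv F12043)
theorem F16954 : act 5 n3546 = n3546 := d35_1 D3546 (iv D3546) (iv D2457) F8584 D2457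
theorem F16955 : act 8 n3546 = n3546 := d40_2 F12045 D3546 (iv D3546)
def n3547 : Q := act 7 n2458
theorem D3547 : act 7 n2458 = n3547 := rfl
theorem F16956 : act 0 n3547 = n2736 := d6_1 D3547 (iv D2736) (iv F12046)
theorem F16957 : act 3 n3547 = n2513 := d27_1 D3547 (iv D2513) (iv F12047)
theorem F16958 : act 5 n3547 = n3547 := d36_1 D3547 (iv D3547) F12048
theorem F16959 : act 6 n3547 = n2475 := d39_1 D3547 (iv D2475) (iv D1719) (iv F8589) D2458
theorem F16960 : act 8 n3547 = n3547 := d42_2 F12049 D3547 (iv D3547)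
def n3548 : Q := act 1 n2459
theorem D3548 : act 1 n2459 = n3548 := rfl
theorem F16962 : act 3 n3548 = n2461 := d10_2 (iv F12051) D3548 (iv D2461)
theorem F16963 : act 6 n3548 = n2476 := d13_2 (iv F12052) D3548 (iv D2476)
def n3549 : Q := act 4 n2459
theorem D3549 : act 4 n2459 = n3549 := rfl
theorem F16967 : act 2 n3549 = n2460 := d18_1 D3549 (iv D2460) D2459
theorem F16968 : act 6 n3549 = n2477 := d31_2 (iv F12052) D3549 (iv D2477)
def n3550 : Q := act 5 n2460
theorem D3550 : act 5 n2460 = n3550 := rfl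
def n3551 : Q := act 0 n2461
theorem D3551 : act 0 n2461 = n3551 := rfl
theorem F16976 : act 1 n3551 = n2742 := d0_2 D2461 D3551 (iv D2742) (iv D1905) (iv F8596)
theorem F16977 : act 6 n3551 = n2479 := d5_2 (iv F12061) D3551 (iv D2479)
theorem F16978 : act 8 n3551 = n2464 := d7_2 (iv F12062) D3551 (iv D2464)
def n3552 : Q := act 4 n2461
theorem D3552 : act 4 n2461 = n3552 := rfl
theorem F16981 : act 6 n3552 = n2480 := d31_2 (iv F12061) D3552 (iv D2480)
theorem F16982 : act 8 n3552 = n2465 := d33_2 (iv F12062) D3552 (iv D2465)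
def n3553 : Q := act 3 n2462
theorem D3553 : act 3 n2462 = n3553 := rfl
theorem F16986 : act 6 n3553 = n2481 := d26_2 (iv F12066) D3553 (iv D2481)
def n3554 : Q := act 5 n2462
theorem D3554 : act 5 n2462 = n3554 := rfl
theorem F16989 : act 2 n3554 = n2463 := d19_1 D3554 (iv D2463) (iv F12065)
theorem F16990 : act 8 n3554 = n2467 := d37_2 (iv F12067) D3554 (iv D2467)
def n3555 : Q := act 6 n2463
theorem D3555 : act 6 n2463 = n3555 := rfl
theorem F16992 : act 0 n3555 = n2746 := d5_1 D3555 (iv D2746) (iv F12069)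
theorem F16993 : act 3 n3555 = n3555 := d26_1 D3555 (iv D3555) F12070
theorem F16994 : act 5 n3555 = n2483 := d35_1 D3555 (iv D2483) (iv D1724) (iv F8602) D2463
theorem F16995 : act 8 n3555 = n2468 := d40_2 (iv F12071) D3555 (iv D2468)
theorem F16996 : act 9 n3555 = n3555 := d41_2 F12072 D3555 (iv D3555)
def n3556 : Q := act 4 n2464
theorem D3556 : act 4 n2464 = n3556 := rfl
theorem F16997 : act 0 n3556 = n2465 := d3_1 D3556 (iv D2465) D2464
theorem F16998 : act 1 n3556 = n2747 := d11_1 D3556 (iv D2747) (iv F12073)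
theorem F16999 : act 6 n3556 = n2484 := d31_2 (iv F12075) D3556 (iv D2484)
theorem F17000 : act 9 n3556 = n2469 := d34_2 (iv F12076) D3556 (iv D2469)
def n3557 : Q := act 3 n2465
theorem D3557 : act 3 n2465 = n3557 := rfl
theorem F17001 : act 1 n3557 = n2466 := d10_1 D3557 (iv D2466) (iv F12077)
theorem F17002 : act 4 n3557 = n3557 := d24_2 D2465 D3557 (iv D3557) (iv D2465) F8605
theorem F17003 : act 6 n3557 = n2485 := d26_2 (iv F12078) D3557 (iv D2485)
theorem F17004 : act 9 n3557 = n2470 := d29_2 (iv F12079) D3557 (iv D2470)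
def n3558 : Q := act 5 n2465
theorem D3558 : act 5 n2465 = n3558 := rfl
theorem F17005 : act 1 n3558 = n2467 := d12_1 D3558 (iv D2467) (iv F12077)
theorem F17006 : act 9 n3558 = n2471 := d38_2 (iv F12079) D3558 (iv D2471)
def n3559 : Q := act 5 n2466
theorem D3559 : act 5 n2466 = n3559 := rfl
theorem F17007 : act 0 n3559 = n2750 := d4_1 D3559 (iv D2750) (iv F12080)
theorem F17008 : act 2 n3559 = n2517 := d19_1 D3559 (iv D2517) (iv F12081)
theorem F17009 : act 3 n3559 = n2467 := d25_1 D3559 (iv D2467) D2466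
theorem F17010 : act 9 n3559 = n2472 := d38_2 (iv F12084) D3559 (iv D2472)
def n3560 : Q := act 8 n2466
theorem D3560 : act 8 n2466 = n3560 := rfl
theorem F17011 : act 0 n3560 = n2751 := d7_1 D3560 (iv D2751) (iv F12080)
theorem F17012 : act 2 n3560 = n2518 := d22_1 D3560 (iv D2518) (iv F12081)
def n3561 : Q := act 6 n2467
theorem D3561 : act 6 n2467 = n3561 := rfl
theorem F17015 : act 0 n3561 = n2752 := d5_1 D3561 (iv D2752) (iv F12085)
theorem F17016 : act 2 n3561 = n2468 := d20_1 D3561 (iv D2468) (iv F12086)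
theorem F17017 : act 5 n3561 = n2489 := d35_1 D3561 (iv D2489) (iv D1728) (iv F8610) D2467
theorem F17018 : act 9 n3561 = n2474 := d41_2 (iv F12087) D3561 (iv D2474)
def n3562 : Q := act 7 n2468
theorem D3562 : act 7 n2468 = n3562 := rfl
theorem F17019 : act 0 n3562 = n2753 := d6_1 D3562 (iv D2753) (iv F12088)
theorem F17020 : act 3 n3562 = n2520 := d27_1 D3562 (iv D2520) (iv F12089)
theorem F17021 : act 5 n3562 = n2490 := d36_1 D3562 (iv D2490) (iv F12090)
theorem F17022 : act 9 n3562 = n2475 := d43_2 (iv F12091) D3562 (iv D2475)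
def n3563 : Q := act 3 n2469
theorem D3563 : act 3 n2469 = n3563 := rfl
theorem F17023 : act 0 n3563 = n2470 := d2_1 D3563 (iv D2470) (iv F12092)
theorem F17024 : act 1 n3563 = n2754 := d10_1 D3563 (iv D2754) (iv F12093)
theorem F17025 : act 4 n3563 = n3563 := d24_2 D2469 D3563 (iv D3563) (iv D2469) F8616
theorem F17026 : act 6 n3563 = n2491 := d26_2 (iv F12094) D3563 (iv D2491)
def n3564 : Q := act 5 n2469
theorem D3564 : act 5 n2469 = n3564 := rfl
theorem F17027 : act 0 n3564 = n2471 := d4_1 D3564 (iv D2471) (iv F12092)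
theorem F17028 : act 1 n3564 = n2755 := d12_1 D3564 (iv D2755) (iv F12093)
theorem F17029 : act 8 n3564 = n3564 := d37_2 F12095 D3564 (iv D3564)
def n3565 : Q := act 2 n2470
theorem D3565 : act 2 n2470 = n3565 := rfl
theorem F17030 : act 1 n3565 = n2523 := d9_1 D3565 (iv D2523) F8779 (iv F8623) (iv F12096)
theorem F17031 : act 4 n3565 = n3565 := d18_2 F12097 D3565 (iv D3565)
theorem F17032 : act 6 n3565 = n2493 := d20_2 (iv F12098) D3565 (iv D2493)
def n3566 : Q := act 5 n2470
theorem D3566 : act 5 n2470 = n3566 := rfl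
theorem F17033 : act 1 n3566 = n2472 := d12_1 D3566 (iv D2472) (iv F12096)
theorem F17034 : act 3 n3566 = n2471 := d25_1 D3566 (iv D2471) D2470
def n3567 : Q := act 8 n2470
theorem D3567 : act 8 n2470 = n3567 := rfl
theorem F17035 : act 1 n3567 = n2473 := d15_1 D3567 (iv D2473) (iv F12096)
theorem F17036 : act 3 n3567 = n3567 := d28_1 D3567 (iv D3567) (iv D2470) F8621 D2470
theorem F17037 : act 4 n3567 = n3567 := d33_1 D3567 (iv D3567) F12097
theorem F17038 : act 6 n3567 = n2495 := d40_1 D3567 (iv D2495) (iv F12098)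
def n3568 : Q := act 6 n2471
theorem D3568 : act 6 n2471 = n3568 := rfl
theorem F17039 : act 1 n3568 = n2474 := d13_1 D3568 (iv D2474) (iv F12099)
theorem F17040 : act 5 n3568 = n2496 := d35_1 D3568 (iv D2496) (iv D1732) (iv F8620) D2471
theorem F17041 : act 8 n3568 = n3568 := d40_2 F12100 D3568 (iv D3568)
def n3569 : Q := act 4 n2472
theorem D3569 : act 4 n2472 = n3569 := rfl
theorem F17042 : act 0 n3569 = n2760 := d3_1 D3569 (iv D2760) (iv F12101)
theorem F17043 : act 2 n3569 = n2527 := d18_1 D3569 (iv D2527) (iv F12102)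
theorem F17044 : act 5 n3569 = n3569 := d30_2 D2472 D3569 (iv D3569) (iv D2472) F8624
def n3570 : Q := act 6 n2472
theorem D3570 : act 6 n2472 = n3570 := rfl
theorem F17045 : act 0 n3570 = n2761 := d5_1 D3570 (iv D2761) (iv F12101)
theorem F17046 : act 2 n3570 = n2528 := d20_1 D3570 (iv D2528) (iv F12102)
theorem F17047 : act 3 n3570 = n2474 := d26_1 D3570 (iv D2474) (iv F12103)
theorem F17048 : act 5 n3570 = n2498 := d35_1 D3570 (iv D2498) (iv D1733) (iv F8625) D2472
def n3571 : Q := act 8 n2472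
theorem D3571 : act 8 n2472 = n3571 := rfl
theorem F17049 : act 0 n3571 = n2762 := d7_1 D3571 (iv D2762) (iv F12101)
theorem F17050 : act 2 n3571 = n2529 := d22_1 D3571 (iv D2529) (iv F12102)
theorem F17051 : act 3 n3571 = n3571 := d28_1 D3571 (iv D3571) F12103 F8628 (iv F12103)
theorem F17052 : act 5 n3571 = n2473 := d37_1 D3571 (iv D2473) D2472
def n3572 : Q := act 9 n2473
theorem D3572 : act 9 n2473 = n3572 := rfl
theorem F17054 : act 2 n3572 = n2530 := d23_1 D3572 (iv D2530) (iv F12105)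
theorem F17055 : act 3 n3572 = n3572 := d29_1 D3572 (iv D3572) F12106
theorem F17056 : act 4 n3572 = n3572 := d34_1 D3572 (iv D3572) F12107
theorem F17057 : act 6 n3572 = n2500 := d41_1 D3572 (iv D2500) (iv F12108)
def n3573 : Q := act 7 n2474
theorem D3573 : act 7 n2474 = n3573 := rfl
theorem F17058 : act 0 n3573 = n2764 := d6_1 D3573 (iv D2764) (iv F12109)
theorem F17059 : act 2 n3573 = n2475 := d21_1 D3573 (iv D2475) (iv F12110)
theorem F17060 : act 5 n3573 = n2501 := d36_1 D3573 (iv D2501) (iv F12111)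
theorem F17061 : act 8 n3573 = n3573 := d42_2 F12112 D3573 (iv D3573)
def n3574 : Q := act 0 n2476
theorem D3574 : act 0 n2476 = n3574 := rfl
theorem F17064 : act 3 n3574 = n2479 := d2_2 (iv F12118) D3574 (iv D2479)
def n3575 : Q := act 4 n2476
theorem D3575 : act 4 n2476 = n3575 := rfl
def n3576 : Q := act 3 n2477
theorem D3576 : act 3 n2477 = n3576 := rfl
theorem F17076 : act 4 n3576 = n2481 := d24_2 D2477 D3576 (iv D2481) (iv D1723) (iv F8634)
def n3579 : Q := act 4 n2479
theorem D3579 : act 4 n2479 = n3579 := rfl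
theorem F17091 : act 0 n3579 = n2480 := d3_1 D3579 (iv D2480) D2479
theorem F17092 : act 1 n3579 = n2773 := d11_1 D3579 (iv D2773) (iv F12135)
theorem F17094 : act 8 n3579 = n2484 := d33_2 (iv F12138) D3579 (iv D2484)
def n3580 : Q := act 3 n2480
theorem D3580 : act 3 n2480 = n3580 := rfl
theorem F17096 : act 1 n3580 = n2481 := d10_1 D3580 (iv D2481) (iv F12140)
def n3581 : Q := act 5 n2480
theorem D3581 : act 5 n2480 = n3581 := rfl
theorem F17102 : act 8 n3581 = n2486 := d37_2 (iv F12142) D3581 (iv D2486)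
def n3582 : Q := act 5 n2481
theorem D3582 : act 5 n2481 = n3582 := rfl
theorem F17104 : act 0 n3582 = n2776 := d4_1 D3582 (iv D2776) (iv F12144)
theorem F17106 : act 3 n3582 = n2482 := d25_1 D3582 (iv D2482) D2481
def n3583 : Q := act 8 n2481
theorem D3583 : act 8 n2481 = n3583 := rfl
def n3584 : Q := act 6 n2482
theorem D3584 : act 6 n2482 = n3584 := rfl
theorem F17114 : act 2 n3584 = n2483 := d20_1 D3584 (iv D2483) (iv F12149)
theorem F17116 : act 8 n3584 = n2489 := d40_2 (iv F12152) D3584 (iv D2489)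
def n3585 : Q := act 7 n2483
theorem D3585 : act 7 n2483 = n3585 := rfl
theorem F17118 : act 0 n3585 = n2779 := d6_1 D3585 (iv D2779) (iv F12154)
theorem F17119 : act 3 n3585 = n3585 := d27_1 D3585 (iv D3585) F12155
theorem F17120 : act 4 n3585 = n3585 := d32_1 D3585 (iv D3585) F12156
theorem F17121 : act 6 n3585 = n3585 := d39_1 D3585 (iv D3585) (iv D2483) F8657 D2483
theorem F17122 : act 8 n3585 = n2490 := d42_2 (iv F12157) D3585 (iv D2490)
theorem F17123 : act 9 n3585 = n3585 := d43_2 F12158 D3585 (iv D3585)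
def n3586 : Q := act 3 n2484
theorem D3586 : act 3 n2484 = n3586 := rfl
theorem F17124 : act 0 n3586 = n2485 := d2_1 D3586 (iv D2485) (iv F12159)
theorem F17125 : act 1 n3586 = n2780 := d10_1 D3586 (iv D2780) (iv F12160)
theorem F17128 : act 9 n3586 = n2491 := d29_2 (iv F12162) D3586 (iv D2491)
def n3587 : Q := act 5 n2484
theorem D3587 : act 5 n2484 = n3587 := rfl
theorem F17129 : act 0 n3587 = n2486 := d4_1 D3587 (iv D2486) (iv F12159)
theorem F17133 : act 9 n3587 = n2492 := d38_2 (iv F12162) D3587 (iv D2492)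
def n3588 : Q := act 2 n2485
theorem D3588 : act 2 n2485 = n3588 := rfl
theorem F17134 : act 1 n3588 = n2534 := d9_1 D3588 (iv D2534) F8805 (iv F8669) (iv F12163)
theorem F17135 : act 4 n3588 = n3588 := d18_2 F12164 D3588 (iv D3588)
theorem F17136 : act 7 n3588 = n3588 := d21_2 F12165 D3588 (iv D3588)
theorem F17137 : act 9 n3588 = n2493 := d23_2 (iv F12166) D3588 (iv D2493)
def n3589 : Q := act 5 n2485
theorem D3589 : act 5 n2485 = n3589 := rfl
theorem F17138 : act 1 n3589 = n2487 := d12_1 D3589 (iv D2487) (iv F12163)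
theorem F17139 : act 3 n3589 = n2486 := d25_1 D3589 (iv D2486) D2485
theorem F17140 : act 7 n3589 = n3589 := d36_2 F12165 D3589 (iv D3589)
theorem F17141 : act 9 n3589 = n2494 := d38_2 (iv F12166) D3589 (iv D2494)
def n3590 : Q := act 8 n2485
theorem D3590 : act 8 n2485 = n3590 := rfl
def n3591 : Q := act 6 n2486
theorem D3591 : act 6 n2486 = n3591 := rfl
theorem F17145 : act 1 n3591 = n2489 := d13_1 D3591 (iv D2489) (iv F12167)
theorem F17146 : act 4 n3591 = n3591 := d31_1 D3591 (iv D3591) F12168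
theorem F17147 : act 9 n3591 = n2496 := d41_2 (iv F12170) D3591 (iv D2496)
def n3592 : Q := act 4 n2487
theorem D3592 : act 4 n2487 = n3592 := rfl
theorem F17148 : act 0 n3592 = n2786 := d3_1 D3592 (iv D2786) (iv F12171)
theorem F17149 : act 2 n3592 = n2538 := d18_1 D3592 (iv D2538) (iv F12172)
theorem F17150 : act 3 n3592 = n3592 := d24_1 D3592 (iv D3592) F12173 F8675 (iv F12173)
theorem F17151 : act 5 n3592 = n3592 := d30_2 D2487 D3592 (iv D3592) (iv D2487) F8670
theorem F17152 : act 7 n3592 = n3592 := d32_2 F12174 D3592 (iv D3592)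
theorem F17153 : act 9 n3592 = n2497 := d34_2 (iv F12175) D3592 (iv D2497)
def n3593 : Q := act 6 n2487
theorem D3593 : act 6 n2487 = n3593 := rfl
theorem F17154 : act 0 n3593 = n2787 := d5_1 D3593 (iv D2787) (iv F12171)
theorem F17155 : act 2 n3593 = n2539 := d20_1 D3593 (iv D2539) (iv F12172)
theorem F17156 : act 3 n3593 = n2489 := d26_1 D3593 (iv D2489) (iv F12173)
theorem F17157 : act 9 n3593 = n2498 := d41_2 (iv F12175) D3593 (iv D2498)
def n3594 : Q := act 8 n2487
theorem D3594 : act 8 n2487 = n3594 := rfl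
theorem F17158 : act 0 n3594 = n2788 := d7_1 D3594 (iv D2788) (iv F12171)
theorem F17159 : act 2 n3594 = n2540 := d22_1 D3594 (iv D2540) (iv F12172)
def n3595 : Q := act 9 n2488
theorem D3595 : act 9 n2488 = n3595 := rfl
theorem F17162 : act 0 n3595 = n2789 := d8_1 D3595 (iv D2789) (iv F12176)
theorem F17163 : act 2 n3595 = n2541 := d23_1 D3595 (iv D2541) (iv F12177)
def n3596 : Q := act 7 n2489
theorem D3596 : act 7 n2489 = n3596 := rfl
theorem F17167 : act 0 n3596 = n2790 := d6_1 D3596 (iv D2790) (iv F12180)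
theorem F17168 : act 2 n3596 = n2490 := d21_1 D3596 (iv D2490) (iv F12181)
theorem F17169 : act 4 n3596 = n3596 := d32_1 D3596 (iv D3596) F12182
theorem F17170 : act 6 n3596 = n3596 := d39_1 D3596 (iv D3596) (iv D2489) F8676 D2489
theorem F17171 : act 9 n3596 = n2501 := d43_2 (iv F12183) D3596 (iv D2501)
def n3597 : Q := act 2 n2491
theorem D3597 : act 2 n2491 = n3597 := rfl
theorem F17172 : act 0 n3597 = n2493 := d1_1 D3597 (iv D2493) (iv F12189)
theorem F17173 : act 4 n3597 = n3597 := d18_2 F12191 D3597 (iv D3597)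
theorem F17174 : act 7 n3597 = n3597 := d21_2 F12192 D3597 (iv D3597)
def n3598 : Q := act 5 n2491
theorem D3598 : act 5 n2491 = n3598 := rfl
theorem F17175 : act 0 n3598 = n2494 := d4_1 D3598 (iv D2494) (iv F12189)
theorem F17176 : act 1 n3598 = n2792 := d12_1 D3598 (iv D2792) (iv F12190)
theorem F17177 : act 3 n3598 = n2492 := d25_1 D3598 (iv D2492) D2491
theorem F17178 : act 7 n3598 = n3598 := d36_2 F12192 D3598 (iv D3598)
def n3599 : Q := act 8 n2491
theorem D3599 : act 8 n2491 = n3599 := rfl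
theorem F17179 : act 0 n3599 = n2495 := d7_1 D3599 (iv D2495) (iv F12189)
theorem F17181 : act 3 n3599 = n3599 := d28_1 D3599 (iv D3599) (iv D2491) F8685 D2491
theorem F17182 : act 4 n3599 = n3599 := d33_1 D3599 (iv D3599) F12191
theorem F17183 : act 7 n3599 = n3599 := d42_1 D3599 (iv D3599) F12192
def n3600 : Q := act 6 n2492
theorem D3600 : act 6 n2492 = n3600 := rfl
theorem F17184 : act 0 n3600 = n2496 := d5_1 D3600 (iv D2496) (iv F12193)
theorem F17186 : act 4 n3600 = n3600 := d31_1 D3600 (iv D3600) F12195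
theorem F17187 : act 8 n3600 = n3600 := d40_2 F12197 D3600 (iv D3600)
def n3601 : Q := act 5 n2493
theorem D3601 : act 5 n2493 = n3601 := rfl
theorem F17188 : act 1 n3601 = n2547 := d12_1 D3601 (iv D2547) (iv F12198)
theorem F17189 : act 2 n3601 = n2494 := d19_1 D3601 (iv D2494) D2493
theorem F17190 : act 7 n3601 = n3601 := d36_2 F12200 D3601 (iv D3601)
def n3602 : Q := act 8 n2493
theorem D3602 : act 8 n2493 = n3602 := rfl
theorem F17191 : act 1 n3602 = n2548 := d15_1 D3602 (iv D2548) (iv F12198)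
theorem F17192 : act 2 n3602 = n2495 := d22_1 D3602 (iv D2495) D2493
theorem F17193 : act 4 n3602 = n3602 := d33_1 D3602 (iv D3602) F12199
theorem F17194 : act 7 n3602 = n3602 := d42_1 D3602 (iv D3602) F12200
def n3603 : Q := act 4 n2494
theorem D3603 : act 4 n2494 = n3603 := rfl
theorem F17195 : act 1 n3603 = n2497 := d11_1 D3603 (iv D2497) (iv F12201)
theorem F17196 : act 3 n3603 = n3603 := d24_1 D3603 (iv D3603) F12202 F8690 (iv F12202)
theorem F17197 : act 5 n3603 = n3603 := d30_2 D2494 D3603 (iv D3603) (iv D2494) F8687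
theorem F17198 : act 7 n3603 = n3603 := d32_2 F12203 D3603 (iv D3603)
def n3604 : Q := act 6 n2494
theorem D3604 : act 6 n2494 = n3604 := rfl
theorem F17199 : act 1 n3604 = n2498 := d13_1 D3604 (iv D2498) (iv F12201)
theorem F17200 : act 3 n3604 = n2496 := d26_1 D3604 (iv D2496) (iv F12202)
def n3605 : Q := act 8 n2494
theorem D3605 : act 8 n2494 = n3605 := rfl
theorem F17201 : act 1 n3605 = n2499 := d15_1 D3605 (iv D2499) (iv F12201)
theorem F17202 : act 3 n3605 = n3605 := d28_1 D3605 (iv D3605) F12202 F8692 (iv F12202)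
theorem F17203 : act 5 n3605 = n2495 := d37_1 D3605 (iv D2495) D2494
theorem F17204 : act 7 n3605 = n3605 := d42_1 D3605 (iv D3605) F12203
def n3606 : Q := act 9 n2495
theorem D3606 : act 9 n2495 = n3606 := rfl
theorem F17205 : act 1 n3606 = n2500 := d16_1 D3606 (iv D2500) (iv F12204)
theorem F17206 : act 3 n3606 = n3606 := d29_1 D3606 (iv D3606) F12205
theorem F17207 : act 4 n3606 = n3606 := d34_1 D3606 (iv D3606) F12206
theorem F17208 : act 7 n3606 = n3606 := d43_1 D3606 (iv D3606) F12207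
def n3607 : Q := act 7 n2496
theorem D3607 : act 7 n2496 = n3607 := rfl
theorem F17209 : act 1 n3607 = n2501 := d14_1 D3607 (iv D2501) (iv F12208)
theorem F17210 : act 4 n3607 = n3607 := d32_1 D3607 (iv D3607) F12209
theorem F17211 : act 6 n3607 = n3607 := d39_1 D3607 (iv D3607) (iv D2496) F8691 D2496
theorem F17212 : act 8 n3607 = n3607 := d42_2 F12210 D3607 (iv D3607)
def n3608 : Q := act 6 n2497
theorem D3608 : act 6 n2497 = n3608 := rfl
theorem F17213 : act 0 n3608 = n2802 := d5_1 D3608 (iv D2802) (iv F12211)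
theorem F17214 : act 2 n3608 = n2554 := d20_1 D3608 (iv D2554) (iv F12212)
theorem F17215 : act 3 n3608 = n3608 := d26_1 D3608 (iv D3608) F12213
theorem F17216 : act 4 n3608 = n2498 := d31_1 D3608 (iv D2498) D2497
def n3609 : Q := act 8 n2497
theorem D3609 : act 8 n2497 = n3609 := rfl
theorem F17217 : act 0 n3609 = n2803 := d7_1 D3609 (iv D2803) (iv F12211)
theorem F17218 : act 2 n3609 = n2555 := d22_1 D3609 (iv D2555) (iv F12212)
theorem F17219 : act 4 n3609 = n2499 := d33_1 D3609 (iv D2499) D2497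
theorem F17220 : act 5 n3609 = n3609 := d37_1 D3609 (iv D3609) F12214
theorem F17221 : act 7 n3609 = n3609 := d42_1 D3609 (iv D3609) F12215
def n3610 : Q := act 7 n2498
theorem D3610 : act 7 n2498 = n3610 := rfl
theorem F17222 : act 0 n3610 = n2804 := d6_1 D3610 (iv D2804) (iv F12216)
theorem F17223 : act 2 n3610 = n2556 := d21_1 D3610 (iv D2556) (iv F12217)
theorem F17224 : act 3 n3610 = n2501 := d27_1 D3610 (iv D2501) (iv F12218)
theorem F17225 : act 6 n3610 = n3610 := d39_1 D3610 (iv D3610) (iv D2498) F8696 D2498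
def n3611 : Q := act 8 n2498
theorem D3611 : act 8 n2498 = n3611 := rfl
theorem F17226 : act 0 n3611 = n2805 := d7_1 D3611 (iv D2805) (iv F12216)
theorem F17227 : act 2 n3611 = n2557 := d22_1 D3611 (iv D2557) (iv F12217)
theorem F17228 : act 3 n3611 = n3611 := d28_1 D3611 (iv D3611) F12218 F8705 (iv F12218)
theorem F17229 : act 6 n3611 = n2499 := d40_1 D3611 (iv D2499) D2498
def n3612 : Q := act 9 n2499
theorem D3612 : act 9 n2499 = n3612 := rfl
theorem F17231 : act 2 n3612 = n2558 := d23_1 D3612 (iv D2558) (iv F12220)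
theorem F17232 : act 3 n3612 = n3612 := d29_1 D3612 (iv D3612) F12221
theorem F17233 : act 5 n3612 = n2500 := d38_1 D3612 (iv D2500) (iv F12222)
theorem F17234 : act 7 n3612 = n3612 := d43_1 D3612 (iv D3612) F12223
def n3613 : Q := act 4 n2502
theorem D3613 : act 4 n2502 = n3613 := rfl
theorem F17235 : act 0 n3613 = n2503 := d3_1 D3613 (iv D2503) D2502
theorem F17236 : act 1 n3613 = n2807 := d11_1 D3613 (iv D2807) (iv F12234)
theorem F17237 : act 6 n3613 = n3613 := d31_2 F12237 D3613 (iv D3613)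
theorem F17238 : act 7 n3613 = n2514 := d32_2 (iv F12238) D3613 (iv D2514)
theorem F17239 : act 8 n3613 = n3613 := d33_2 F12239 D3613 (iv D3613)
theorem F17240 : act 9 n3613 = n2507 := d34_2 (iv F12240) D3613 (iv D2507)
def n3614 : Q := act 3 n2503
theorem D3614 : act 3 n2503 = n3614 := rfl
theorem F17241 : act 1 n3614 = n2504 := d10_1 D3614 (iv D2504) (iv F12241)
theorem F17242 : act 4 n3614 = n3614 := d24_2 D2503 D3614 (iv D3614) (iv D2503) F8711
theorem F17243 : act 6 n3614 = n3614 := d26_2 F12242 D3614 (iv D3614)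
theorem F17244 : act 7 n3614 = n2515 := d27_2 (iv F12243) D3614 (iv D2515)
theorem F17245 : act 9 n3614 = n2508 := d29_2 (iv F12245) D3614 (iv D2508)
def n3615 : Q := act 5 n2503
theorem D3615 : act 5 n2503 = n3615 := rfl
theorem F17246 : act 1 n3615 = n2505 := d12_1 D3615 (iv D2505) (iv F12241)
theorem F17247 : act 4 n3615 = n3615 := d30_1 D3615 (iv D3615) (iv D2503) F8712 D2503
theorem F17248 : act 7 n3615 = n2516 := d36_2 (iv F12243) D3615 (iv D2516)
theorem F17249 : act 8 n3615 = n3615 := d37_2 F12244 D3615 (iv D3615)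
theorem F17250 : act 9 n3615 = n2509 := d38_2 (iv F12245) D3615 (iv D2509)
def n3616 : Q := act 5 n2504
theorem D3616 : act 5 n2504 = n3616 := rfl
theorem F17251 : act 0 n3616 = n2810 := d4_1 D3616 (iv D2810) (iv F12246)
theorem F17252 : act 3 n3616 = n2505 := d25_1 D3616 (iv D2505) D2504
theorem F17253 : act 7 n3616 = n2517 := d36_2 (iv F12249) D3616 (iv D2517)
theorem F17254 : act 9 n3616 = n2510 := d38_2 (iv F12250) D3616 (iv D2510)
def n3617 : Q := act 8 n2504
theorem D3617 : act 8 n2504 = n3617 := rfl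
theorem F17255 : act 0 n3617 = n2811 := d7_1 D3617 (iv D2811) (iv F12246)
theorem F17256 : act 3 n3617 = n3617 := d28_1 D3617 (iv D3617) (iv D2504) F8721 D2504
theorem F17257 : act 4 n3617 = n3617 := d33_1 D3617 (iv D3617) F12247
theorem F17258 : act 6 n3617 = n3617 := d40_1 D3617 (iv D3617) F12248
theorem F17259 : act 7 n3617 = n2518 := d42_1 D3617 (iv D2518) (iv F12249)
def n3618 : Q := act 6 n2505
theorem D3618 : act 6 n2505 = n3618 := rfl
theorem F17260 : act 0 n3618 = n2812 := d5_1 D3618 (iv D2812) (iv F12251)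
theorem F17261 : act 2 n3618 = n2506 := d20_1 D3618 (iv D2506) (iv F12252)
theorem F17262 : act 4 n3618 = n3618 := d31_1 D3618 (iv D3618) F12253
theorem F17263 : act 5 n3618 = n3618 := d35_1 D3618 (iv D3618) (iv D2505) F8719 D2505
theorem F17264 : act 8 n3618 = n3618 := d40_2 F12255 D3618 (iv D3618)
theorem F17265 : act 9 n3618 = n2512 := d41_2 (iv F12256) D3618 (iv D2512)
def n3619 : Q := act 7 n2506
theorem D3619 : act 7 n2506 = n3619 := rfl
theorem F17266 : act 0 n3619 = n2813 := d6_1 D3619 (iv D2813) (iv F12257)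
theorem F17267 : act 4 n3619 = n3619 := d32_1 D3619 (iv D3619) F12258
theorem F17268 : act 5 n3619 = n3619 := d36_1 D3619 (iv D3619) F12259
theorem F17269 : act 6 n3619 = n2520 := d39_1 D3619 (iv D2520) (iv D1749) (iv F8725) D2506
theorem F17270 : act 8 n3619 = n3619 := d42_2 F12260 D3619 (iv D3619)
theorem F17271 : act 9 n3619 = n2513 := d43_2 (iv F12261) D3619 (iv D2513)
def n3620 : Q := act 3 n2507
theorem D3620 : act 3 n2507 = n3620 := rfl
theorem F17272 : act 0 n3620 = n2508 := d2_1 D3620 (iv D2508) (iv F12262)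
theorem F17273 : act 1 n3620 = n2814 := d10_1 D3620 (iv D2814) (iv F12263)
theorem F17274 : act 4 n3620 = n3620 := d24_2 D2507 D3620 (iv D3620) (iv D2507) F8729
theorem F17275 : act 6 n3620 = n3620 := d26_2 F12264 D3620 (iv D3620)
theorem F17276 : act 7 n3620 = n2521 := d27_2 (iv F12265) D3620 (iv D2521)
def n3621 : Q := act 5 n2507
theorem D3621 : act 5 n2507 = n3621 := rfl
theorem F17277 : act 0 n3621 = n2509 := d4_1 D3621 (iv D2509) (iv F12262)
theorem F17278 : act 1 n3621 = n2815 := d12_1 D3621 (iv D2815) (iv F12263)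
theorem F17279 : act 4 n3621 = n3621 := d30_1 D3621 (iv D3621) (iv D2507) F8730 D2507
theorem F17280 : act 7 n3621 = n2522 := d36_2 (iv F12265) D3621 (iv D2522)
theorem F17281 : act 8 n3621 = n2585 := d37_2 (iv F12266) D3621 (iv D2585)
def n3622 : Q := act 2 n2508
theorem D3622 : act 2 n2508 = n3622 := rfl
theorem F17282 : act 4 n3622 = n3622 := d18_2 F12268 D3622 (iv D3622)
theorem F17283 : act 6 n3622 = n3622 := d20_2 F12269 D3622 (iv D3622)
theorem F17284 : act 7 n3622 = n2523 := d21_2 (iv F12270) D3622 (iv D2523)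
def n3623 : Q := act 5 n2508
theorem D3623 : act 5 n2508 = n3623 := rfl
theorem F17285 : act 1 n3623 = n2510 := d12_1 D3623 (iv D2510) (iv F12267)
theorem F17286 : act 3 n3623 = n2509 := d25_1 D3623 (iv D2509) D2508
theorem F17287 : act 7 n3623 = n2524 := d36_2 (iv F12270) D3623 (iv D2524)
def n3624 : Q := act 8 n2508
theorem D3624 : act 8 n2508 = n3624 := rfl
theorem F17288 : act 1 n3624 = n2511 := d15_1 D3624 (iv D2511) (iv F12267)
theorem F17289 : act 3 n3624 = n2588 := d28_1 D3624 (iv D2588) (iv D1795) (iv F8737) D2508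
theorem F17290 : act 4 n3624 = n3624 := d33_1 D3624 (iv D3624) F12268
theorem F17291 : act 6 n3624 = n3624 := d40_1 D3624 (iv D3624) F12269
theorem F17292 : act 7 n3624 = n2525 := d42_1 D3624 (iv D2525) (iv F12270)
def n3625 : Q := act 6 n2509
theorem D3625 : act 6 n2509 = n3625 := rfl
theorem F17293 : act 1 n3625 = n2512 := d13_1 D3625 (iv D2512) (iv F12271)
theorem F17294 : act 4 n3625 = n3625 := d31_1 D3625 (iv D3625) F12272
theorem F17295 : act 5 n3625 = n3625 := d35_1 D3625 (iv D3625) (iv D2509) F8735 D2509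
theorem F17296 : act 8 n3625 = n2589 := d40_2 (iv F12274) D3625 (iv D2589)
def n3626 : Q := act 4 n2510
theorem D3626 : act 4 n2510 = n3626 := rfl
theorem F17297 : act 0 n3626 = n2820 := d3_1 D3626 (iv D2820) (iv F12275)
theorem F17298 : act 3 n3626 = n3626 := d24_1 D3626 (iv D3626) F12276 F8744 (iv F12276)
theorem F17299 : act 5 n3626 = n3626 := d30_2 D2510 D3626 (iv D3626) (iv D2510) F8739
theorem F17300 : act 7 n3626 = n2527 := d32_2 (iv F12277) D3626 (iv D2527)
def n3627 : Q := act 6 n2510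
theorem D3627 : act 6 n2510 = n3627 := rfl
theorem F17301 : act 0 n3627 = n2821 := d5_1 D3627 (iv D2821) (iv F12275)
theorem F17302 : act 3 n3627 = n2512 := d26_1 D3627 (iv D2512) (iv F12276)
theorem F17303 : act 5 n3627 = n3627 := d35_1 D3627 (iv D3627) (iv D2510) F8740 D2510
def n3628 : Q := act 8 n2510
theorem D3628 : act 8 n2510 = n3628 := rfl
theorem F17304 : act 0 n3628 = n2822 := d7_1 D3628 (iv D2822) (iv F12275)
theorem F17305 : act 3 n3628 = n2592 := d28_1 D3628 (iv D2592) F8980 (iv F8746) (iv F12276)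
theorem F17306 : act 5 n3628 = n2511 := d37_1 D3628 (iv D2511) D2510
theorem F17307 : act 7 n3628 = n2529 := d42_1 D3628 (iv D2529) (iv F12277)
def n3629 : Q := act 9 n2511
theorem D3629 : act 9 n2511 = n3629 := rfl
theorem F17308 : act 0 n3629 = n2823 := d8_1 D3629 (iv D2823) (iv F12278)
theorem F17309 : act 3 n3629 = n2593 := d29_1 D3629 (iv D2593) (iv F12279)
theorem F17310 : act 4 n3629 = n3629 := d34_1 D3629 (iv D3629) F12280
theorem F17311 : act 6 n3629 = n3629 := d41_1 D3629 (iv D3629) F12281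
theorem F17312 : act 7 n3629 = n2530 := d43_1 D3629 (iv D2530) (iv F12282)
def n3630 : Q := act 7 n2512
theorem D3630 : act 7 n2512 = n3630 := rfl
theorem F17313 : act 0 n3630 = n2824 := d6_1 D3630 (iv D2824) (iv F12283)
theorem F17314 : act 2 n3630 = n2513 := d21_1 D3630 (iv D2513) (iv F12284)
theorem F17315 : act 4 n3630 = n3630 := d32_1 D3630 (iv D3630) F12285
theorem F17316 : act 5 n3630 = n3630 := d36_1 D3630 (iv D3630) F12286
theorem F17317 : act 6 n3630 = n2531 := d39_1 D3630 (iv D2531) (iv D1755) (iv F8745) D2512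
theorem F17318 : act 8 n3630 = n2594 := d42_2 (iv F12287) D3630 (iv D2594)
def n3631 : Q := act 3 n2514
theorem D3631 : act 3 n2514 = n3631 := rfl
theorem F17319 : act 0 n3631 = n2515 := d2_1 D3631 (iv D2515) (iv F12293)
theorem F17320 : act 1 n3631 = n2825 := d10_1 D3631 (iv D2825) (iv F12294)
theorem F17321 : act 4 n3631 = n3631 := d24_2 D2514 D3631 (iv D3631) (iv D2514) F8752
theorem F17322 : act 6 n3631 = n2532 := d26_2 (iv F12295) D3631 (iv D2532)
theorem F17323 : act 9 n3631 = n2521 := d29_2 (iv F12297) D3631 (iv D2521)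
def n3632 : Q := act 5 n2514
theorem D3632 : act 5 n2514 = n3632 := rfl
theorem F17324 : act 0 n3632 = n2516 := d4_1 D3632 (iv D2516) (iv F12293)
theorem F17325 : act 1 n3632 = n2826 := d12_1 D3632 (iv D2826) (iv F12294)
theorem F17326 : act 4 n3632 = n3632 := d30_1 D3632 (iv D3632) (iv D2514) F8753 D2514
theorem F17327 : act 8 n3632 = n3632 := d37_2 F12296 D3632 (iv D3632)
theorem F17328 : act 9 n3632 = n2522 := d38_2 (iv F12297) D3632 (iv D2522)
def n3633 : Q := act 2 n2515
theorem D3633 : act 2 n2515 = n3633 := rfl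
theorem F17329 : act 4 n3633 = n3633 := d18_2 F12299 D3633 (iv D3633)
theorem F17330 : act 6 n3633 = n2534 := d20_2 (iv F12300) D3633 (iv D2534)
theorem F17331 : act 9 n3633 = n2523 := d23_2 (iv F12301) D3633 (iv D2523)
def n3634 : Q := act 5 n2515
theorem D3634 : act 5 n2515 = n3634 := rfl
theorem F17332 : act 1 n3634 = n2517 := d12_1 D3634 (iv D2517) (iv F12298)
theorem F17333 : act 3 n3634 = n2516 := d25_1 D3634 (iv D2516) D2515
theorem F17334 : act 9 n3634 = n2524 := d38_2 (iv F12301) D3634 (iv D2524)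
def n3635 : Q := act 8 n2515
theorem D3635 : act 8 n2515 = n3635 := rfl
theorem F17335 : act 1 n3635 = n2518 := d15_1 D3635 (iv D2518) (iv F12298)
theorem F17336 : act 3 n3635 = n3635 := d28_1 D3635 (iv D3635) (iv D2515) F8759 D2515
theorem F17337 : act 4 n3635 = n3635 := d33_1 D3635 (iv D3635) F12299
theorem F17338 : act 6 n3635 = n2536 := d40_1 D3635 (iv D2536) (iv F12300)
def n3636 : Q := act 6 n2516
theorem D3636 : act 6 n2516 = n3636 := rfl
theorem F17339 : act 1 n3636 = n2519 := d13_1 D3636 (iv D2519) (iv F12302)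
theorem F17340 : act 4 n3636 = n3636 := d31_1 D3636 (iv D3636) F12303
theorem F17341 : act 5 n3636 = n2537 := d35_1 D3636 (iv D2537) (iv D1759) (iv F8758) D2516
theorem F17342 : act 8 n3636 = n3636 := d40_2 F12304 D3636 (iv D3636)
theorem F17343 : act 9 n3636 = n2526 := d41_2 (iv F12305) D3636 (iv D2526)
def n3637 : Q := act 4 n2517
theorem D3637 : act 4 n2517 = n3637 := rfl
theorem F17344 : act 0 n3637 = n2831 := d3_1 D3637 (iv D2831) (iv F12306)
theorem F17345 : act 3 n3637 = n3637 := d24_1 D3637 (iv D3637) F12307 F8767 (iv F12307)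
theorem F17346 : act 5 n3637 = n3637 := d30_2 D2517 D3637 (iv D3637) (iv D2517) F8762
theorem F17347 : act 9 n3637 = n2527 := d34_2 (iv F12308) D3637 (iv D2527)
def n3638 : Q := act 6 n2517
theorem D3638 : act 6 n2517 = n3638 := rfl
theorem F17348 : act 0 n3638 = n2832 := d5_1 D3638 (iv D2832) (iv F12306)
theorem F17349 : act 3 n3638 = n2519 := d26_1 D3638 (iv D2519) (iv F12307)
theorem F17350 : act 5 n3638 = n2539 := d35_1 D3638 (iv D2539) (iv D1760) (iv F8763) D2517
theorem F17351 : act 9 n3638 = n2528 := d41_2 (iv F12308) D3638 (iv D2528)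
def n3639 : Q := act 8 n2517
theorem D3639 : act 8 n2517 = n3639 := rfl
theorem F17352 : act 0 n3639 = n2833 := d7_1 D3639 (iv D2833) (iv F12306)
theorem F17353 : act 3 n3639 = n3639 := d28_1 D3639 (iv D3639) F12307 F8768 (iv F12307)
theorem F17354 : act 5 n3639 = n2518 := d37_1 D3639 (iv D2518) D2517
def n3640 : Q := act 9 n2518
theorem D3640 : act 9 n2518 = n3640 := rfl
theorem F17355 : act 0 n3640 = n2834 := d8_1 D3640 (iv D2834) (iv F12309)
theorem F17356 : act 3 n3640 = n3640 := d29_1 D3640 (iv D3640) F12310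
theorem F17357 : act 4 n3640 = n3640 := d34_1 D3640 (iv D3640) F12311
theorem F17358 : act 6 n3640 = n2541 := d41_1 D3640 (iv D2541) (iv F12312)
theorem F17359 : act 8 n3640 = n2530 := d44_1 D3640 (iv D2530) (iv D1754) (iv F8764) D2518
def n3641 : Q := act 7 n2519
theorem D3641 : act 7 n2519 = n3641 := rfl
theorem F17360 : act 0 n3641 = n2835 := d6_1 D3641 (iv D2835) (iv F12313)
theorem F17361 : act 2 n3641 = n2520 := d21_1 D3641 (iv D2520) (iv F12314)
theorem F17362 : act 4 n3641 = n3641 := d32_1 D3641 (iv D3641) F12315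
theorem F17363 : act 5 n3641 = n2542 := d36_1 D3641 (iv D2542) (iv F12316)
theorem F17364 : act 8 n3641 = n3641 := d42_2 F12317 D3641 (iv D3641)
theorem F17365 : act 9 n3641 = n2531 := d43_2 (iv F12318) D3641 (iv D2531)
def n3642 : Q := act 2 n2521
theorem D3642 : act 2 n2521 = n3642 := rfl
theorem F17366 : act 0 n3642 = n2523 := d1_1 D3642 (iv D2523) (iv F12324)
theorem F17367 : act 4 n3642 = n3642 := d18_2 F12326 D3642 (iv D3642)
theorem F17368 : act 6 n3642 = n2543 := d20_2 (iv F12327) D3642 (iv D2543)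
def n3643 : Q := act 5 n2521
theorem D3643 : act 5 n2521 = n3643 := rfl
theorem F17369 : act 0 n3643 = n2524 := d4_1 D3643 (iv D2524) (iv F12324)
theorem F17370 : act 1 n3643 = n2837 := d12_1 D3643 (iv D2837) (iv F12325)
theorem F17371 : act 3 n3643 = n2522 := d25_1 D3643 (iv D2522) D2521
def n3644 : Q := act 8 n2521
theorem D3644 : act 8 n2521 = n3644 := rfl
theorem F17372 : act 0 n3644 = n2525 := d7_1 D3644 (iv D2525) (iv F12324)
theorem F17374 : act 3 n3644 = n2597 := d28_1 D3644 (iv D2597) (iv D1801) (iv F8778) D2521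
theorem F17376 : act 6 n3644 = n2545 := d40_1 D3644 (iv D2545) (iv F12327)
def n3645 : Q := act 6 n2522
theorem D3645 : act 6 n2522 = n3645 := rfl
theorem F17377 : act 0 n3645 = n2526 := d5_1 D3645 (iv D2526) (iv F12328)
theorem F17378 : act 1 n3645 = n2839 := d13_1 D3645 (iv D2839) (iv F12329)
theorem F17379 : act 4 n3645 = n3645 := d31_1 D3645 (iv D3645) F12330
theorem F17380 : act 5 n3645 = n2546 := d35_1 D3645 (iv D2546) (iv D1765) (iv F8777) D2522
theorem F17381 : act 8 n3645 = n2598 := d40_2 (iv F12331) D3645 (iv D2598)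
def n3646 : Q := act 5 n2523
theorem D3646 : act 5 n2523 = n3646 := rfl
theorem F17382 : act 2 n3646 = n2524 := d19_1 D3646 (iv D2524) D2523
def n3647 : Q := act 8 n2523
theorem D3647 : act 8 n2523 = n3647 := rfl
theorem F17383 : act 2 n3647 = n2525 := d22_1 D3647 (iv D2525) D2523
theorem F17384 : act 4 n3647 = n3647 := d33_1 D3647 (iv D3647) F12332
theorem F17385 : act 6 n3647 = n2548 := d40_1 D3647 (iv D2548) (iv F12333)
def n3648 : Q := act 4 n2524
theorem D3648 : act 4 n2524 = n3648 := rfl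
theorem F17386 : act 1 n3648 = n2527 := d11_1 D3648 (iv D2527) (iv F12334)
theorem F17387 : act 3 n3648 = n3648 := d24_1 D3648 (iv D3648) F12335 F8783 (iv F12335)
theorem F17388 : act 5 n3648 = n3648 := d30_2 D2524 D3648 (iv D3648) (iv D2524) F8780
def n3649 : Q := act 6 n2524
theorem D3649 : act 6 n2524 = n3649 := rfl
theorem F17389 : act 1 n3649 = n2528 := d13_1 D3649 (iv D2528) (iv F12334)
theorem F17390 : act 3 n3649 = n2526 := d26_1 D3649 (iv D2526) (iv F12335)
theorem F17391 : act 5 n3649 = n2550 := d35_1 D3649 (iv D2550) (iv D1767) (iv F8781) D2524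
def n3650 : Q := act 8 n2524
theorem D3650 : act 8 n2524 = n3650 := rfl
theorem F17392 : act 1 n3650 = n2529 := d15_1 D3650 (iv D2529) (iv F12334)
theorem F17393 : act 3 n3650 = n2603 := d28_1 D3650 (iv D2603) F9013 (iv F8784) (iv F12335)
theorem F17394 : act 5 n3650 = n2525 := d37_1 D3650 (iv D2525) D2524
def n3651 : Q := act 9 n2525
theorem D3651 : act 9 n2525 = n3651 := rfl
theorem F17395 : act 1 n3651 = n2530 := d16_1 D3651 (iv D2530) (iv F12336)
theorem F17396 : act 3 n3651 = n2604 := d29_1 D3651 (iv D2604) (iv F12337)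
theorem F17398 : act 6 n3651 = n2552 := d41_1 D3651 (iv D2552) (iv F12339)
def n3652 : Q := act 7 n2526
theorem D3652 : act 7 n2526 = n3652 := rfl
theorem F17399 : act 1 n3652 = n2531 := d14_1 D3652 (iv D2531) (iv F12340)
theorem F17400 : act 4 n3652 = n3652 := d32_1 D3652 (iv D3652) F12341
theorem F17401 : act 5 n3652 = n2553 := d36_1 D3652 (iv D2553) (iv F12342)
theorem F17402 : act 8 n3652 = n2605 := d42_2 (iv F12343) D3652 (iv D2605)
def n3653 : Q := act 6 n2527
theorem D3653 : act 6 n2527 = n3653 := rfl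
theorem F17403 : act 0 n3653 = n2847 := d5_1 D3653 (iv D2847) (iv F12344)
theorem F17404 : act 3 n3653 = n3653 := d26_1 D3653 (iv D3653) F12345
theorem F17405 : act 4 n3653 = n2528 := d31_1 D3653 (iv D2528) D2527
def n3654 : Q := act 8 n2527
theorem D3654 : act 8 n2527 = n3654 := rfl
theorem F17406 : act 0 n3654 = n2848 := d7_1 D3654 (iv D2848) (iv F12344)
theorem F17407 : act 4 n3654 = n2529 := d33_1 D3654 (iv D2529) D2527
theorem F17408 : act 5 n3654 = n3654 := d37_1 D3654 (iv D3654) F12346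
def n3655 : Q := act 7 n2528
theorem D3655 : act 7 n2528 = n3655 := rfl
theorem F17409 : act 0 n3655 = n2849 := d6_1 D3655 (iv D2849) (iv F12347)
theorem F17410 : act 3 n3655 = n2531 := d27_1 D3655 (iv D2531) (iv F12348)
theorem F17411 : act 5 n3655 = n2556 := d36_1 D3655 (iv D2556) (iv F12349)
def n3656 : Q := act 8 n2528
theorem D3656 : act 8 n2528 = n3656 := rfl
theorem F17412 : act 0 n3656 = n2850 := d7_1 D3656 (iv D2850) (iv F12347)
theorem F17413 : act 3 n3656 = n2609 := d28_1 D3656 (iv D2609) F9029 (iv F8795) (iv F12348)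
theorem F17414 : act 5 n3656 = n2557 := d37_1 D3656 (iv D2557) (iv F12349)
theorem F17415 : act 6 n3656 = n2529 := d40_1 D3656 (iv D2529) D2528
def n3657 : Q := act 9 n2529
theorem D3657 : act 9 n2529 = n3657 := rfl
theorem F17416 : act 0 n3657 = n2851 := d8_1 D3657 (iv D2851) (iv F12350)
theorem F17417 : act 3 n3657 = n2610 := d29_1 D3657 (iv D2610) (iv F12351)
theorem F17418 : act 5 n3657 = n2530 := d38_1 D3657 (iv D2530) (iv F12352)
def n3658 : Q := act 2 n2532
theorem D3658 : act 2 n2532 = n3658 := rfl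
theorem F17419 : act 0 n3658 = n2534 := d1_1 D3658 (iv D2534) (iv F12362)
theorem F17420 : act 4 n3658 = n3658 := d18_2 F12364 D3658 (iv D3658)
theorem F17421 : act 7 n3658 = n3658 := d21_2 F12365 D3658 (iv D3658)
theorem F17422 : act 9 n3658 = n2543 := d23_2 (iv F12366) D3658 (iv D2543)
def n3659 : Q := act 5 n2532
theorem D3659 : act 5 n2532 = n3659 := rfl
theorem F17423 : act 0 n3659 = n2535 := d4_1 D3659 (iv D2535) (iv F12362)
theorem F17424 : act 1 n3659 = n2853 := d12_1 D3659 (iv D2853) (iv F12363)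
theorem F17425 : act 3 n3659 = n2533 := d25_1 D3659 (iv D2533) D2532
theorem F17426 : act 7 n3659 = n3659 := d36_2 F12365 D3659 (iv D3659)
theorem F17427 : act 9 n3659 = n2544 := d38_2 (iv F12366) D3659 (iv D2544)
def n3660 : Q := act 8 n2532
theorem D3660 : act 8 n2532 = n3660 := rfl
def n3661 : Q := act 6 n2533
theorem D3661 : act 6 n2533 = n3661 := rfl
theorem F17433 : act 0 n3661 = n2537 := d5_1 D3661 (iv D2537) (iv F12367)
theorem F17434 : act 1 n3661 = n2855 := d13_1 D3661 (iv D2855) (iv F12368)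
theorem F17435 : act 4 n3661 = n2562 := d31_1 D3661 (iv D2562) (iv F12369)
theorem F17436 : act 8 n3661 = n3661 := d40_2 F12371 D3661 (iv D3661)
theorem F17437 : act 9 n3661 = n2546 := d41_2 (iv F12372) D3661 (iv D2546)
def n3662 : Q := act 5 n2534
theorem D3662 : act 5 n2534 = n3662 := rfl
theorem F17438 : act 2 n3662 = n2535 := d19_1 D3662 (iv D2535) D2534
theorem F17439 : act 7 n3662 = n3662 := d36_2 F12374 D3662 (iv D3662)
theorem F17440 : act 9 n3662 = n2547 := d38_2 (iv F12375) D3662 (iv D2547)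
def n3663 : Q := act 8 n2534
theorem D3663 : act 8 n2534 = n3663 := rfl
theorem F17441 : act 2 n3663 = n2536 := d22_1 D3663 (iv D2536) D2534
theorem F17442 : act 4 n3663 = n3663 := d33_1 D3663 (iv D3663) F12373
theorem F17443 : act 7 n3663 = n3663 := d42_1 D3663 (iv D3663) F12374
def n3664 : Q := act 4 n2535
theorem D3664 : act 4 n2535 = n3664 := rfl
theorem F17444 : act 1 n3664 = n2538 := d11_1 D3664 (iv D2538) (iv F12376)
theorem F17445 : act 3 n3664 = n2565 := d24_1 D3664 (iv D2565) F8889 (iv F8810) (iv F12377)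
theorem F17446 : act 5 n3664 = n3664 := d30_2 D2535 D3664 (iv D3664) (iv D2535) F8806
theorem F17447 : act 7 n3664 = n3664 := d32_2 F12378 D3664 (iv D3664)
theorem F17448 : act 9 n3664 = n2549 := d34_2 (iv F12379) D3664 (iv D2549)
def n3665 : Q := act 6 n2535
theorem D3665 : act 6 n2535 = n3665 := rfl
theorem F17449 : act 1 n3665 = n2539 := d13_1 D3665 (iv D2539) (iv F12376)
theorem F17450 : act 3 n3665 = n2537 := d26_1 D3665 (iv D2537) (iv F12377)
theorem F17451 : act 9 n3665 = n2550 := d41_2 (iv F12379) D3665 (iv D2550)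
def n3666 : Q := act 8 n2535
theorem D3666 : act 8 n2535 = n3666 := rfl
theorem F17452 : act 1 n3666 = n2540 := d15_1 D3666 (iv D2540) (iv F12376)
theorem F17453 : act 3 n3666 = n3666 := d28_1 D3666 (iv D3666) F12377 F8812 (iv F12377)
theorem F17454 : act 5 n3666 = n2536 := d37_1 D3666 (iv D2536) D2535
theorem F17455 : act 7 n3666 = n3666 := d42_1 D3666 (iv D3666) F12378
def n3667 : Q := act 9 n2536
theorem D3667 : act 9 n2536 = n3667 := rfl
theorem F17456 : act 1 n3667 = n2541 := d16_1 D3667 (iv D2541) (iv F12380)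
theorem F17460 : act 8 n3667 = n2552 := d44_1 D3667 (iv D2552) (iv D1768) (iv F8808) D2536
def n3668 : Q := act 7 n2537
theorem D3668 : act 7 n2537 = n3668 := rfl
theorem F17461 : act 1 n3668 = n2542 := d14_1 D3668 (iv D2542) (iv F12384)
theorem F17462 : act 4 n3668 = n2568 := d32_1 D3668 (iv D2568) (iv F12385)
theorem F17463 : act 6 n3668 = n3668 := d39_1 D3668 (iv D3668) (iv D2537) F8811 D2537
theorem F17464 : act 8 n3668 = n3668 := d42_2 F12386 D3668 (iv D3668)
theorem F17465 : act 9 n3668 = n2553 := d43_2 (iv F12387) D3668 (iv D2553)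
def n3669 : Q := act 6 n2538
theorem D3669 : act 6 n2538 = n3669 := rfl
theorem F17466 : act 0 n3669 = n2863 := d5_1 D3669 (iv D2863) (iv F12388)
theorem F17467 : act 3 n3669 = n2569 := d26_1 D3669 (iv D2569) (iv F12389)
theorem F17468 : act 4 n3669 = n2539 := d31_1 D3669 (iv D2539) D2538
theorem F17469 : act 9 n3669 = n2554 := d41_2 (iv F12392) D3669 (iv D2554)
def n3670 : Q := act 8 n2538
theorem D3670 : act 8 n2538 = n3670 := rfl
theorem F17470 : act 0 n3670 = n2864 := d7_1 D3670 (iv D2864) (iv F12388)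
theorem F17471 : act 4 n3670 = n2540 := d33_1 D3670 (iv D2540) D2538
theorem F17472 : act 5 n3670 = n3670 := d37_1 D3670 (iv D3670) F12390
theorem F17473 : act 7 n3670 = n3670 := d42_1 D3670 (iv D3670) F12391
def n3671 : Q := act 7 n2539
theorem D3671 : act 7 n2539 = n3671 := rfl
theorem F17474 : act 0 n3671 = n2865 := d6_1 D3671 (iv D2865) (iv F12393)
theorem F17475 : act 3 n3671 = n2542 := d27_1 D3671 (iv D2542) (iv F12394)
theorem F17476 : act 6 n3671 = n3671 := d39_1 D3671 (iv D3671) (iv D2539) F8816 D2539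
theorem F17477 : act 9 n3671 = n2556 := d43_2 (iv F12395) D3671 (iv D2556)
def n3672 : Q := act 8 n2539
theorem D3672 : act 8 n2539 = n3672 := rfl
theorem F17478 : act 0 n3672 = n2866 := d7_1 D3672 (iv D2866) (iv F12393)
theorem F17479 : act 3 n3672 = n3672 := d28_1 D3672 (iv D3672) F12394 F8825 (iv F12394)
theorem F17480 : act 6 n3672 = n2540 := d40_1 D3672 (iv D2540) D2539
def n3673 : Q := act 9 n2540
theorem D3673 : act 9 n2540 = n3673 := rfl
theorem F17481 : act 0 n3673 = n2867 := d8_1 D3673 (iv D2867) (iv F12396)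
theorem F17482 : act 3 n3673 = n3673 := d29_1 D3673 (iv D3673) F12397
theorem F17483 : act 5 n3673 = n2541 := d38_1 D3673 (iv D2541) (iv F12398)
theorem F17484 : act 7 n3673 = n3673 := d43_1 D3673 (iv D3673) F12399
theorem F17485 : act 8 n3673 = n2558 := d44_1 D3673 (iv D2558) (iv D1772) (iv F8817) D2540
def n3674 : Q := act 1 n2543
theorem D3674 : act 1 n2543 = n3674 := rfl
def n3675 : Q := act 5 n2543
theorem D3675 : act 5 n2543 = n3675 := rfl
theorem F17489 : act 0 n3675 = n2547 := d4_1 D3675 (iv D2547) (iv F12411)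
theorem F17490 : act 2 n3675 = n2544 := d19_1 D3675 (iv D2544) D2543
theorem F17491 : act 7 n3675 = n3675 := d36_2 F12413 D3675 (iv D3675)
def n3676 : Q := act 8 n2543
theorem D3676 : act 8 n2543 = n3676 := rfl
theorem F17492 : act 0 n3676 = n2548 := d7_1 D3676 (iv D2548) (iv F12411)
theorem F17493 : act 2 n3676 = n2545 := d22_1 D3676 (iv D2545) D2543
def n3677 : Q := act 4 n2544
theorem D3677 : act 4 n2544 = n3677 := rfl
theorem F17496 : act 0 n3677 = n2549 := d3_1 D3677 (iv D2549) (iv F12414)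
theorem F17497 : act 1 n3677 = n2871 := d11_1 D3677 (iv D2871) (iv F12415)
theorem F17498 : act 3 n3677 = n2575 := d24_1 D3677 (iv D2575) F8931 (iv F8838) (iv F12416)
theorem F17499 : act 5 n3677 = n3677 := d30_2 D2544 D3677 (iv D3677) (iv D2544) F8834
theorem F17500 : act 7 n3677 = n3677 := d32_2 F12417 D3677 (iv D3677)
def n3678 : Q := act 6 n2544
theorem D3678 : act 6 n2544 = n3678 := rfl
theorem F17501 : act 0 n3678 = n2550 := d5_1 D3678 (iv D2550) (iv F12414)
theorem F17502 : act 1 n3678 = n2872 := d13_1 D3678 (iv D2872) (iv F12415)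
theorem F17503 : act 3 n3678 = n2546 := d26_1 D3678 (iv D2546) (iv F12416)
def n3679 : Q := act 8 n2544
theorem D3679 : act 8 n2544 = n3679 := rfl
theorem F17507 : act 5 n3679 = n2545 := d37_1 D3679 (iv D2545) D2544
def n3680 : Q := act 9 n2545
theorem D3680 : act 9 n2545 = n3680 := rfl
def n3681 : Q := act 7 n2546
theorem D3681 : act 7 n2546 = n3681 := rfl
theorem F17514 : act 0 n3681 = n2553 := d6_1 D3681 (iv D2553) (iv F12423)
theorem F17515 : act 1 n3681 = n2875 := d14_1 D3681 (iv D2875) (iv F12424)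
theorem F17516 : act 4 n3681 = n2577 := d32_1 D3681 (iv D2577) (iv F12425)
theorem F17517 : act 6 n3681 = n3681 := d39_1 D3681 (iv D3681) (iv D2546) F8839 D2546
theorem F17518 : act 8 n3681 = n2617 := d42_2 (iv F12426) D3681 (iv D2617)
def n3682 : Q := act 4 n2547
theorem D3682 : act 4 n2547 = n3682 := rfl
theorem F17519 : act 2 n3682 = n2549 := d18_1 D3682 (iv D2549) (iv F12427)
theorem F17520 : act 5 n3682 = n3682 := d30_2 D2547 D3682 (iv D3682) (iv D2547) F8841
theorem F17521 : act 7 n3682 = n3682 := d32_2 F12428 D3682 (iv D3682)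
def n3683 : Q := act 6 n2547
theorem D3683 : act 6 n2547 = n3683 := rfl
theorem F17522 : act 2 n3683 = n2550 := d20_1 D3683 (iv D2550) (iv F12427)
def n3684 : Q := act 8 n2547
theorem D3684 : act 8 n2547 = n3684 := rfl
theorem F17523 : act 2 n3684 = n2551 := d22_1 D3684 (iv D2551) (iv F12427)
theorem F17524 : act 5 n3684 = n2548 := d37_1 D3684 (iv D2548) D2547
theorem F17525 : act 7 n3684 = n3684 := d42_1 D3684 (iv D3684) F12428
def n3685 : Q := act 3 n2548
theorem D3685 : act 3 n2548 = n3685 := rfl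
theorem F17526 : act 2 n3685 = n2620 := d17_1 D3685 (iv D2620) F9069 (iv F8847) (iv F12429)
theorem F17527 : act 7 n3685 = n3685 := d27_2 F12431 D3685 (iv D3685)
def n3686 : Q := act 9 n2548
theorem D3686 : act 9 n2548 = n3686 := rfl
def n3687 : Q := act 6 n2549
theorem D3687 : act 6 n2549 = n3687 := rfl
theorem F17531 : act 1 n3687 = n2554 := d13_1 D3687 (iv D2554) (iv F12432)
theorem F17532 : act 3 n3687 = n2580 := d26_1 D3687 (iv D2580) (iv F12433)
theorem F17533 : act 4 n3687 = n2550 := d31_1 D3687 (iv D2550) D2549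
def n3688 : Q := act 8 n2549
theorem D3688 : act 8 n2549 = n3688 := rfl
theorem F17534 : act 1 n3688 = n2555 := d15_1 D3688 (iv D2555) (iv F12432)
theorem F17535 : act 3 n3688 = n3688 := d28_1 D3688 (iv D3688) F12433 F8945 (iv F12433)
theorem F17536 : act 4 n3688 = n2551 := d33_1 D3688 (iv D2551) D2549
theorem F17537 : act 5 n3688 = n3688 := d37_1 D3688 (iv D3688) F12434
theorem F17538 : act 7 n3688 = n3688 := d42_1 D3688 (iv D3688) F12435
def n3689 : Q := act 7 n2550
theorem D3689 : act 7 n2550 = n3689 := rfl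
theorem F17539 : act 1 n3689 = n2556 := d14_1 D3689 (iv D2556) (iv F12436)
theorem F17540 : act 3 n3689 = n2553 := d27_1 D3689 (iv D2553) (iv F12437)
theorem F17541 : act 6 n3689 = n3689 := d39_1 D3689 (iv D3689) (iv D2550) F8845 D2550
def n3690 : Q := act 8 n2550
theorem D3690 : act 8 n2550 = n3690 := rfl
theorem F17542 : act 1 n3690 = n2557 := d15_1 D3690 (iv D2557) (iv F12436)
theorem F17543 : act 3 n3690 = n2623 := d28_1 D3690 (iv D2623) F9073 (iv F8852) (iv F12437)
theorem F17544 : act 6 n3690 = n2551 := d40_1 D3690 (iv D2551) D2550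
def n3691 : Q := act 9 n2551
theorem D3691 : act 9 n2551 = n3691 := rfl
theorem F17545 : act 1 n3691 = n2558 := d16_1 D3691 (iv D2558) (iv F12438)
theorem F17547 : act 5 n3691 = n2552 := d38_1 D3691 (iv D2552) (iv F12440)
def n3692 : Q := act 5 n2554
theorem D3692 : act 5 n2554 = n3692 := rfl
theorem F17549 : act 0 n3692 = n2886 := d4_1 D3692 (iv D2886) (iv F12450)
theorem F17550 : act 3 n3692 = n2582 := d25_1 D3692 (iv D2582) (iv F12451)
theorem F17551 : act 6 n3692 = n3692 := d35_2 D2554 D3692 (iv D3692) (iv D2554) F8855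
def n3693 : Q := act 7 n2554
theorem D3693 : act 7 n2554 = n3693 := rfl
theorem F17552 : act 0 n3693 = n2887 := d6_1 D3693 (iv D2887) (iv F12450)
theorem F17553 : act 3 n3693 = n2583 := d27_1 D3693 (iv D2583) (iv F12451)
theorem F17554 : act 4 n3693 = n2556 := d32_1 D3693 (iv D2556) (iv F12452)
theorem F17555 : act 6 n3693 = n3693 := d39_1 D3693 (iv D3693) (iv D2554) F8856 D2554
def n3694 : Q := act 8 n2554
theorem D3694 : act 8 n2554 = n3694 := rfl
theorem F17556 : act 0 n3694 = n2888 := d7_1 D3694 (iv D2888) (iv F12450)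
theorem F17557 : act 3 n3694 = n3694 := d28_1 D3694 (iv D3694) F12451 F8957 (iv F12451)
theorem F17558 : act 4 n3694 = n2557 := d33_1 D3694 (iv D2557) (iv F12452)
theorem F17559 : act 6 n3694 = n2555 := d40_1 D3694 (iv D2555) D2554
def n3695 : Q := act 9 n2555
theorem D3695 : act 9 n2555 = n3695 := rfl
theorem F17560 : act 0 n3695 = n2889 := d8_1 D3695 (iv D2889) (iv F12453)
theorem F17561 : act 3 n3695 = n3695 := d29_1 D3695 (iv D3695) F12454
theorem F17562 : act 4 n3695 = n2558 := d34_1 D3695 (iv D2558) (iv F12455)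
theorem F17563 : act 5 n3695 = n3695 := d38_1 D3695 (iv D3695) F12456
theorem F17564 : act 7 n3695 = n3695 := d43_1 D3695 (iv D3695) F12457
def n3696 : Q := act 8 n2556
theorem D3696 : act 8 n2556 = n3696 := rfl
theorem F17565 : act 0 n3696 = n2890 := d7_1 D3696 (iv D2890) (iv F12458)
theorem F17566 : act 3 n3696 = n2625 := d28_1 D3696 (iv D2625) F9090 (iv F8871) (iv F12459)
theorem F17567 : act 6 n3696 = n3696 := d40_1 D3696 (iv D3696) F12460
theorem F17568 : act 7 n3696 = n2557 := d42_1 D3696 (iv D2557) D2556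
def n3697 : Q := act 9 n2557
theorem D3697 : act 9 n2557 = n3697 := rfl
theorem F17570 : act 3 n3697 = n2626 := d29_1 D3697 (iv D2626) (iv F12462)
theorem F17571 : act 6 n3697 = n2558 := d41_1 D3697 (iv D2558) (iv F12463)
def n3698 : Q := act 1 n2559
theorem D3698 : act 1 n2559 = n3698 := rfl
theorem F17573 : act 2 n3698 = n2892 := d9_2 D2559 D3698 (iv D2892) (iv D2005) (iv F8873)
theorem F17577 : act 9 n3698 = n2573 := d16_2 (iv F12472) D3698 (iv D2573)
def n3699 : Q := act 5 n2559
theorem D3699 : act 5 n2559 = n3699 := rfl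
theorem F17578 : act 0 n3699 = n2563 := d4_1 D3699 (iv D2563) (iv F12468)
theorem F17579 : act 2 n3699 = n2560 := d19_1 D3699 (iv D2560) D2559
theorem F17580 : act 7 n3699 = n3699 := d36_2 F12471 D3699 (iv D3699)
theorem F17581 : act 9 n3699 = n2574 := d38_2 (iv F12472) D3699 (iv D2574)
def n3700 : Q := act 8 n2559
theorem D3700 : act 8 n2559 = n3700 := rfl
theorem F17582 : act 0 n3700 = n2564 := d7_1 D3700 (iv D2564) (iv F12468)
theorem F17583 : act 2 n3700 = n2561 := d22_1 D3700 (iv D2561) D2559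
def n3701 : Q := act 4 n2560
theorem D3701 : act 4 n2560 = n3701 := rfl
theorem F17588 : act 0 n3701 = n2565 := d3_1 D3701 (iv D2565) (iv F12473)
theorem F17589 : act 1 n3701 = n2895 := d11_1 D3701 (iv D2895) (iv F12474)
theorem F17590 : act 5 n3701 = n3701 := d30_2 D2560 D3701 (iv D3701) (iv D2560) F8874
theorem F17591 : act 7 n3701 = n3701 := d32_2 F12476 D3701 (iv D3701)
theorem F17592 : act 9 n3701 = n2575 := d34_2 (iv F12477) D3701 (iv D2575)
def n3702 : Q := act 6 n2560
theorem D3702 : act 6 n2560 = n3702 := rfl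
theorem F17593 : act 0 n3702 = n2566 := d5_1 D3702 (iv D2566) (iv F12473)
theorem F17594 : act 1 n3702 = n2896 := d13_1 D3702 (iv D2896) (iv F12474)
theorem F17595 : act 3 n3702 = n2562 := d26_1 D3702 (iv D2562) (iv F12475)
theorem F17596 : act 5 n3702 = n3702 := d35_1 D3702 (iv D3702) (iv D2560) F8875 D2560
theorem F17597 : act 9 n3702 = n2576 := d41_2 (iv F12477) D3702 (iv D2576)
def n3703 : Q := act 8 n2560
theorem D3703 : act 8 n2560 = n3703 := rfl
theorem F17598 : act 0 n3703 = n2567 := d7_1 D3703 (iv D2567) (iv F12473)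
theorem F17599 : act 1 n3703 = n2897 := d15_1 D3703 (iv D2897) (iv F12474)
theorem F17600 : act 3 n3703 = n3703 := d28_1 D3703 (iv D3703) F12475 F8881 (iv F12475)
theorem F17601 : act 5 n3703 = n2561 := d37_1 D3703 (iv D2561) D2560
theorem F17602 : act 7 n3703 = n3703 := d42_1 D3703 (iv D3703) F12476
theorem F17603 : act 9 n3703 = n3703 := d44_2 (iv F12477) D3703 (iv D3703) F12477 F8933
def n3704 : Q := act 7 n2562
theorem D3704 : act 7 n2562 = n3704 := rfl
theorem F17604 : act 0 n3704 = n2568 := d6_1 D3704 (iv D2568) (iv F12485)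
theorem F17605 : act 1 n3704 = n2898 := d14_1 D3704 (iv D2898) (iv F12486)
theorem F17606 : act 5 n3704 = n3704 := d36_1 D3704 (iv D3704) F12487
theorem F17607 : act 6 n3704 = n3704 := d39_1 D3704 (iv D3704) (iv D2562) F8880 D2562
theorem F17608 : act 8 n3704 = n3704 := d42_2 F12488 D3704 (iv D3704)
theorem F17609 : act 9 n3704 = n2577 := d43_2 (iv F12489) D3704 (iv D2577)
def n3705 : Q := act 4 n2563
theorem D3705 : act 4 n2563 = n3705 := rfl
theorem F17610 : act 1 n3705 = n3705 := d11_1 D3705 (iv D3705) F12490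
theorem F17611 : act 2 n3705 = n2565 := d18_1 D3705 (iv D2565) (iv F12491)
theorem F17612 : act 5 n3705 = n3705 := d30_2 D2563 D3705 (iv D3705) (iv D2563) F8884
theorem F17613 : act 7 n3705 = n3705 := d32_2 F12492 D3705 (iv D3705)
theorem F17614 : act 9 n3705 = n2578 := d34_2 (iv F12493) D3705 (iv D2578)
def n3706 : Q := act 6 n2563
theorem D3706 : act 6 n2563 = n3706 := rfl
theorem F17615 : act 1 n3706 = n3706 := d13_1 D3706 (iv D3706) F12490
theorem F17616 : act 2 n3706 = n2566 := d20_1 D3706 (iv D2566) (iv F12491)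
theorem F17617 : act 5 n3706 = n3706 := d35_1 D3706 (iv D3706) (iv D2563) F8885 D2563
theorem F17618 : act 9 n3706 = n2579 := d41_2 (iv F12493) D3706 (iv D2579)
def n3707 : Q := act 8 n2563
theorem D3707 : act 8 n2563 = n3707 := rfl
theorem F17619 : act 1 n3707 = n3707 := d15_1 D3707 (iv D3707) F12490
theorem F17620 : act 2 n3707 = n2567 := d22_1 D3707 (iv D2567) (iv F12491)
theorem F17621 : act 5 n3707 = n2564 := d37_1 D3707 (iv D2564) D2563
theorem F17622 : act 7 n3707 = n3707 := d42_1 D3707 (iv D3707) F12492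
theorem F17623 : act 9 n3707 = n3707 := d44_2 (iv F12493) D3707 (iv D3707) F12493 F8941
def n3708 : Q := act 3 n2564
theorem D3708 : act 3 n2564 = n3708 := rfl
def n3709 : Q := act 6 n2565
theorem D3709 : act 6 n2565 = n3709 := rfl
theorem F17629 : act 1 n3709 = n2569 := d13_1 D3709 (iv D2569) (iv F12500)
theorem F17630 : act 4 n3709 = n2566 := d31_1 D3709 (iv D2566) D2565
theorem F17631 : act 9 n3709 = n2580 := d41_2 (iv F12503) D3709 (iv D2580)
def n3710 : Q := act 8 n2565
theorem D3710 : act 8 n2565 = n3710 := rfl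
theorem F17632 : act 1 n3710 = n2570 := d15_1 D3710 (iv D2570) (iv F12500)
theorem F17633 : act 4 n3710 = n2567 := d33_1 D3710 (iv D2567) D2565
theorem F17634 : act 5 n3710 = n3710 := d37_1 D3710 (iv D3710) F12501
theorem F17635 : act 7 n3710 = n3710 := d42_1 D3710 (iv D3710) F12502
theorem F17636 : act 9 n3710 = n3710 := d44_2 (iv F12503) D3710 (iv D3710) F12503 F8945
def n3711 : Q := act 7 n2566
theorem D3711 : act 7 n2566 = n3711 := rfl
theorem F17637 : act 1 n3711 = n2571 := d14_1 D3711 (iv D2571) (iv F12504)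
theorem F17638 : act 3 n3711 = n2568 := d27_1 D3711 (iv D2568) (iv F12505)
theorem F17639 : act 5 n3711 = n3711 := d36_1 D3711 (iv D3711) F12506
theorem F17640 : act 6 n3711 = n3711 := d39_1 D3711 (iv D3711) (iv D2566) F8890 D2566
theorem F17641 : act 9 n3711 = n2581 := d43_2 (iv F12507) D3711 (iv D2581)
def n3712 : Q := act 8 n2566
theorem D3712 : act 8 n2566 = n3712 := rfl
theorem F17642 : act 1 n3712 = n2572 := d15_1 D3712 (iv D2572) (iv F12504)
theorem F17643 : act 3 n3712 = n3712 := d28_1 D3712 (iv D3712) F12505 F8900 (iv F12505)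
theorem F17644 : act 5 n3712 = n3712 := d37_1 D3712 (iv D3712) F12506
theorem F17645 : act 6 n3712 = n2567 := d40_1 D3712 (iv D2567) D2566
theorem F17646 : act 9 n3712 = n3712 := d44_2 (iv F12507) D3712 (iv D3712) F12507 F8949
def n3713 : Q := act 5 n2569
theorem D3713 : act 5 n2569 = n3713 := rfl
theorem F17647 : act 0 n3713 = n2907 := d4_1 D3713 (iv D2907) (iv F12518)
theorem F17648 : act 2 n3713 = n3713 := d19_1 D3713 (iv D3713) F12519
theorem F17649 : act 4 n3713 = n3713 := d30_1 D3713 (iv D3713) F12520 F8910 (iv F12520)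
theorem F17650 : act 6 n3713 = n3713 := d35_2 D2569 D3713 (iv D3713) (iv D2569) F8904
theorem F17651 : act 9 n3713 = n2582 := d38_2 (iv F12521) D3713 (iv D2582)
def n3714 : Q := act 7 n2569
theorem D3714 : act 7 n2569 = n3714 := rfl
theorem F17652 : act 0 n3714 = n2908 := d6_1 D3714 (iv D2908) (iv F12518)
theorem F17653 : act 2 n3714 = n3714 := d21_1 D3714 (iv D3714) F12519
theorem F17654 : act 4 n3714 = n2571 := d32_1 D3714 (iv D2571) (iv F12520)
theorem F17655 : act 6 n3714 = n3714 := d39_1 D3714 (iv D3714) (iv D2569) F8905 D2569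
theorem F17656 : act 9 n3714 = n2583 := d43_2 (iv F12521) D3714 (iv D2583)
def n3715 : Q := act 8 n2569
theorem D3715 : act 8 n2569 = n3715 := rfl
theorem F17657 : act 0 n3715 = n2909 := d7_1 D3715 (iv D2909) (iv F12518)
theorem F17658 : act 2 n3715 = n3715 := d22_1 D3715 (iv D3715) F12519
theorem F17659 : act 4 n3715 = n2572 := d33_1 D3715 (iv D2572) (iv F12520)
theorem F17660 : act 6 n3715 = n2570 := d40_1 D3715 (iv D2570) D2569
theorem F17661 : act 9 n3715 = n3715 := d44_2 (iv F12521) D3715 (iv D3715) F12521 F8957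
def n3716 : Q := act 3 n2570
theorem D3716 : act 3 n2570 = n3716 := rfl
theorem F17662 : act 0 n3716 = n2910 := d2_1 D3716 (iv D2910) (iv F12522)
theorem F17663 : act 4 n3716 = n3716 := d24_2 (iv F12524) D3716 (iv D3716) F12524 F8914
theorem F17664 : act 5 n3716 = n3716 := d25_2 F12525 D3716 (iv D3716)
theorem F17665 : act 7 n3716 = n3716 := d27_2 F12526 D3716 (iv D3716)
theorem F17666 : act 9 n3716 = n3716 := d29_2 F12527 D3716 (iv D3716)
def n3717 : Q := act 8 n2571
theorem D3717 : act 8 n2571 = n3717 := rfl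
theorem F17667 : act 0 n3717 = n2911 := d7_1 D3717 (iv D2911) (iv F12528)
theorem F17668 : act 2 n3717 = n3717 := d22_1 D3717 (iv D3717) F12529
theorem F17669 : act 3 n3717 = n3717 := d28_1 D3717 (iv D3717) F12530 F8922 (iv F12530)
theorem F17670 : act 5 n3717 = n3717 := d37_1 D3717 (iv D3717) F12531
theorem F17671 : act 6 n3717 = n3717 := d40_1 D3717 (iv D3717) F12532
theorem F17672 : act 7 n3717 = n2572 := d42_1 D3717 (iv D2572) D2571
theorem F17673 : act 9 n3717 = n3717 := d44_2 (iv F12533) D3717 (iv D3717) F12533 F8963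
def n3718 : Q := act 5 n2573
theorem D3718 : act 5 n2573 = n3718 := rfl
theorem F17674 : act 0 n3718 = n3718 := d4_1 D3718 (iv D3718) F12540
theorem F17675 : act 1 n3718 = n2574 := d12_1 D3718 (iv D2574) D2573
theorem F17676 : act 2 n3718 = n2912 := d19_1 D3718 (iv D2912) (iv F12541)
theorem F17677 : act 7 n3718 = n3718 := d36_2 F12544 D3718 (iv D3718)
theorem F17678 : act 8 n3718 = n3718 := d37_2 F12545 D3718 (iv D3718)
def n3719 : Q := act 4 n2574
theorem D3719 : act 4 n2574 = n3719 := rfl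
theorem F17679 : act 0 n3719 = n2578 := d3_1 D3719 (iv D2578) (iv F12546)
theorem F17680 : act 2 n3719 = n2575 := d18_1 D3719 (iv D2575) (iv F12547)
theorem F17681 : act 5 n3719 = n3719 := d30_2 D2574 D3719 (iv D3719) (iv D2574) F8925
theorem F17682 : act 7 n3719 = n3719 := d32_2 F12548 D3719 (iv D3719)
theorem F17683 : act 8 n3719 = n3719 := d33_2 F12549 D3719 (iv D3719)
def n3720 : Q := act 6 n2574
theorem D3720 : act 6 n2574 = n3720 := rfl
theorem F17684 : act 0 n3720 = n2579 := d5_1 D3720 (iv D2579) (iv F12546)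
theorem F17685 : act 2 n3720 = n2576 := d20_1 D3720 (iv D2576) (iv F12547)
theorem F17686 : act 5 n3720 = n3720 := d35_1 D3720 (iv D3720) (iv D2574) F8926 D2574
theorem F17687 : act 8 n3720 = n3720 := d40_2 F12549 D3720 (iv D3720)
def n3721 : Q := act 6 n2575
theorem D3721 : act 6 n2575 = n3721 := rfl
theorem F17688 : act 0 n3721 = n2580 := d5_1 D3721 (iv D2580) (iv F12550)
theorem F17689 : act 1 n3721 = n2915 := d13_1 D3721 (iv D2915) (iv F12551)
theorem F17690 : act 4 n3721 = n2576 := d31_1 D3721 (iv D2576) D2575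
theorem F17691 : act 8 n3721 = n3721 := d40_2 F12554 D3721 (iv D3721)
def n3722 : Q := act 7 n2576
theorem D3722 : act 7 n2576 = n3722 := rfl
theorem F17692 : act 0 n3722 = n2581 := d6_1 D3722 (iv D2581) (iv F12555)
theorem F17693 : act 1 n3722 = n2916 := d14_1 D3722 (iv D2916) (iv F12556)
theorem F17694 : act 3 n3722 = n2577 := d27_1 D3722 (iv D2577) (iv F12557)
theorem F17695 : act 5 n3722 = n3722 := d36_1 D3722 (iv D3722) F12558
theorem F17696 : act 6 n3722 = n3722 := d39_1 D3722 (iv D3722) (iv D2576) F8932 D2576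
theorem F17697 : act 8 n3722 = n3722 := d42_2 F12559 D3722 (iv D3722)
def n3723 : Q := act 3 n2578
theorem D3723 : act 3 n2578 = n3723 := rfl
theorem F17698 : act 1 n3723 = n3723 := d10_1 D3723 (iv D3723) F12565
theorem F17699 : act 5 n3723 = n3723 := d25_2 F12567 D3723 (iv D3723)
theorem F17700 : act 7 n3723 = n3723 := d27_2 F12568 D3723 (iv D3723)
def n3724 : Q := act 6 n2578
theorem D3724 : act 6 n2578 = n3724 := rfl
theorem F17701 : act 1 n3724 = n3724 := d13_1 D3724 (iv D3724) F12565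
theorem F17702 : act 2 n3724 = n2580 := d20_1 D3724 (iv D2580) (iv F12566)
theorem F17703 : act 4 n3724 = n2579 := d31_1 D3724 (iv D2579) D2578
theorem F17704 : act 8 n3724 = n3724 := d40_2 F12569 D3724 (iv D3724)
def n3725 : Q := act 7 n2579
theorem D3725 : act 7 n2579 = n3725 := rfl
theorem F17705 : act 1 n3725 = n3725 := d14_1 D3725 (iv D3725) F12570
theorem F17706 : act 2 n3725 = n2581 := d21_1 D3725 (iv D2581) (iv F12571)
theorem F17707 : act 5 n3725 = n3725 := d36_1 D3725 (iv D3725) F12572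
theorem F17708 : act 6 n3725 = n3725 := d39_1 D3725 (iv D3725) (iv D2579) F8940 D2579
theorem F17709 : act 8 n3725 = n3725 := d42_2 F12573 D3725 (iv D3725)
def n3726 : Q := act 5 n2580
theorem D3726 : act 5 n2580 = n3726 := rfl
theorem F17710 : act 1 n3726 = n2582 := d12_1 D3726 (iv D2582) (iv F12574)
theorem F17711 : act 4 n3726 = n3726 := d30_1 D3726 (iv D3726) F12575 F8948 (iv F12575)
theorem F17712 : act 6 n3726 = n3726 := d35_2 D2580 D3726 (iv D3726) (iv D2580) F8943
theorem F17713 : act 8 n3726 = n3726 := d37_2 F12576 D3726 (iv D3726)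
def n3727 : Q := act 7 n2580
theorem D3727 : act 7 n2580 = n3727 := rfl
theorem F17714 : act 1 n3727 = n2583 := d14_1 D3727 (iv D2583) (iv F12574)
theorem F17715 : act 4 n3727 = n2581 := d32_1 D3727 (iv D2581) (iv F12575)
theorem F17716 : act 6 n3727 = n3727 := d39_1 D3727 (iv D3727) (iv D2580) F8944 D2580
theorem F17717 : act 8 n3727 = n3727 := d42_2 F12576 D3727 (iv D3727)
def n3728 : Q := act 7 n2582
theorem D3728 : act 7 n2582 = n3728 := rfl
theorem F17718 : act 0 n3728 = n2922 := d6_1 D3728 (iv D2922) (iv F12582)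
theorem F17719 : act 2 n3728 = n3728 := d21_1 D3728 (iv D3728) F12583
theorem F17720 : act 4 n3728 = n3728 := d32_1 D3728 (iv D3728) F12584
theorem F17721 : act 5 n3728 = n2583 := d36_1 D3728 (iv D2583) D2582
theorem F17722 : act 8 n3728 = n3728 := d42_2 F12586 D3728 (iv D3728)
def n3729 : Q := act 2 n2584
theorem D3729 : act 2 n2584 = n3729 := rfl
theorem F17723 : act 0 n3729 = n2586 := d1_1 D3729 (iv D2586) (iv F12592)
theorem F17724 : act 4 n3729 = n2627 := d18_2 (iv F12594) D3729 (iv D2627)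
theorem F17725 : act 6 n3729 = n3729 := d20_2 F12595 D3729 (iv D3729)
theorem F17726 : act 7 n3729 = n2595 := d21_2 (iv F12596) D3729 (iv D2595)
theorem F17727 : act 9 n3729 = n3729 := d23_2 F12597 D3729 (iv D3729)
def n3730 : Q := act 5 n2584
theorem D3730 : act 5 n2584 = n3730 := rfl
theorem F17728 : act 0 n3730 = n2587 := d4_1 D3730 (iv D2587) (iv F12592)
theorem F17729 : act 1 n3730 = n2924 := d12_1 D3730 (iv D2924) (iv F12593)
theorem F17730 : act 3 n3730 = n2585 := d25_1 D3730 (iv D2585) D2584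
theorem F17731 : act 7 n3730 = n2596 := d36_2 (iv F12596) D3730 (iv D2596)
theorem F17732 : act 9 n3730 = n3730 := d38_2 F12597 D3730 (iv D3730)
def n3731 : Q := act 8 n2584
theorem D3731 : act 8 n2584 = n3731 := rfl
theorem F17734 : act 1 n3731 = n2925 := d15_1 D3731 (iv D2925) (iv F12593)
theorem F17735 : act 4 n3731 = n2629 := d33_1 D3731 (iv D2629) (iv F12594)
theorem F17737 : act 7 n3731 = n2597 := d42_1 D3731 (iv D2597) (iv F12596)
def n3732 : Q := act 6 n2585
theorem D3732 : act 6 n2585 = n3732 := rfl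
theorem F17738 : act 0 n3732 = n2589 := d5_1 D3732 (iv D2589) (iv F12598)
theorem F17739 : act 1 n3732 = n2926 := d13_1 D3732 (iv D2926) (iv F12599)
theorem F17740 : act 4 n3732 = n3732 := d31_1 D3732 (iv D3732) F12600
theorem F17741 : act 5 n3732 = n3732 := d35_1 D3732 (iv D3732) (iv D2585) F8966 D2585
theorem F17742 : act 9 n3732 = n3732 := d41_2 F12602 D3732 (iv D3732)
def n3733 : Q := act 5 n2586
theorem D3733 : act 5 n2586 = n3733 := rfl
theorem F17743 : act 1 n3733 = n3733 := d12_1 D3733 (iv D3733) F12603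
theorem F17744 : act 2 n3733 = n2587 := d19_1 D3733 (iv D2587) D2586
theorem F17745 : act 7 n3733 = n2599 := d36_2 (iv F12606) D3733 (iv D2599)
theorem F17746 : act 9 n3733 = n3733 := d38_2 F12607 D3733 (iv D3733)
def n3734 : Q := act 8 n2586
theorem D3734 : act 8 n2586 = n3734 := rfl
theorem F17747 : act 1 n3734 = n3734 := d15_1 D3734 (iv D3734) F12603
theorem F17748 : act 2 n3734 = n2588 := d22_1 D3734 (iv D2588) D2586
theorem F17749 : act 4 n3734 = n2632 := d33_1 D3734 (iv D2632) (iv F12604)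
theorem F17750 : act 6 n3734 = n3734 := d40_1 D3734 (iv D3734) F12605
theorem F17751 : act 7 n3734 = n2600 := d42_1 D3734 (iv D2600) (iv F12606)
def n3735 : Q := act 4 n2587
theorem D3735 : act 4 n2587 = n3735 := rfl
theorem F17752 : act 1 n3735 = n2590 := d11_1 D3735 (iv D2590) (iv F12608)
theorem F17753 : act 3 n3735 = n3735 := d24_1 D3735 (iv D3735) F12609 F8975 (iv F12609)
theorem F17754 : act 5 n3735 = n2633 := d30_2 D2587 D3735 (iv D2633) (iv D1829) (iv F8970)
theorem F17755 : act 7 n3735 = n2601 := d32_2 (iv F12610) D3735 (iv D2601)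
theorem F17756 : act 9 n3735 = n3735 := d34_2 F12611 D3735 (iv D3735)
def n3736 : Q := act 6 n2587
theorem D3736 : act 6 n2587 = n3736 := rfl
theorem F17757 : act 1 n3736 = n2591 := d13_1 D3736 (iv D2591) (iv F12608)
theorem F17758 : act 3 n3736 = n2589 := d26_1 D3736 (iv D2589) (iv F12609)
theorem F17759 : act 5 n3736 = n3736 := d35_1 D3736 (iv D3736) (iv D2587) F8971 D2587
theorem F17760 : act 9 n3736 = n3736 := d41_2 F12611 D3736 (iv D3736)
def n3737 : Q := act 8 n2587
theorem D3737 : act 8 n2587 = n3737 := rfl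
theorem F17761 : act 1 n3737 = n2592 := d15_1 D3737 (iv D2592) (iv F12608)
theorem F17762 : act 5 n3737 = n2588 := d37_1 D3737 (iv D2588) D2587
theorem F17763 : act 7 n3737 = n2603 := d42_1 D3737 (iv D2603) (iv F12610)
def n3738 : Q := act 9 n2588
theorem D3738 : act 9 n2588 = n3738 := rfl
theorem F17764 : act 1 n3738 = n2593 := d16_1 D3738 (iv D2593) (iv F12612)
theorem F17765 : act 4 n3738 = n2636 := d34_1 D3738 (iv D2636) (iv F12613)
def n3739 : Q := act 7 n2589
theorem D3739 : act 7 n2589 = n3739 := rfl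
theorem F17769 : act 1 n3739 = n2594 := d14_1 D3739 (iv D2594) (iv F12616)
theorem F17770 : act 4 n3739 = n3739 := d32_1 D3739 (iv D3739) F12617
theorem F17771 : act 5 n3739 = n3739 := d36_1 D3739 (iv D3739) F12618
theorem F17772 : act 6 n3739 = n2605 := d39_1 D3739 (iv D2605) (iv D1806) (iv F8976) D2589
theorem F17773 : act 9 n3739 = n3739 := d43_2 F12619 D3739 (iv D3739)
def n3740 : Q := act 6 n2590
theorem D3740 : act 6 n2590 = n3740 := rfl
theorem F17774 : act 0 n3740 = n2934 := d5_1 D3740 (iv D2934) (iv F12620)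
theorem F17775 : act 2 n3740 = n3740 := d20_1 D3740 (iv D3740) F12621
theorem F17776 : act 3 n3740 = n3740 := d26_1 D3740 (iv D3740) F12622
theorem F17777 : act 4 n3740 = n2591 := d31_1 D3740 (iv D2591) D2590
theorem F17778 : act 9 n3740 = n3740 := d41_2 F12625 D3740 (iv D3740)
def n3741 : Q := act 8 n2590
theorem D3741 : act 8 n2590 = n3741 := rfl
theorem F17779 : act 0 n3741 = n2935 := d7_1 D3741 (iv D2935) (iv F12620)
theorem F17780 : act 2 n3741 = n3741 := d22_1 D3741 (iv D3741) F12621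
theorem F17781 : act 4 n3741 = n2592 := d33_1 D3741 (iv D2592) D2590
theorem F17782 : act 5 n3741 = n2638 := d37_1 D3741 (iv D2638) (iv F12623)
theorem F17783 : act 7 n3741 = n2607 := d42_1 D3741 (iv D2607) (iv F12624)
def n3742 : Q := act 7 n2591
theorem D3742 : act 7 n2591 = n3742 := rfl
theorem F17784 : act 0 n3742 = n2936 := d6_1 D3742 (iv D2936) (iv F12626)
theorem F17785 : act 2 n3742 = n3742 := d21_1 D3742 (iv D3742) F12627
theorem F17786 : act 3 n3742 = n2594 := d27_1 D3742 (iv D2594) (iv F12628)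
theorem F17787 : act 5 n3742 = n3742 := d36_1 D3742 (iv D3742) F12629
theorem F17788 : act 6 n3742 = n2608 := d39_1 D3742 (iv D2608) (iv D1808) (iv F8981) D2591
theorem F17789 : act 9 n3742 = n3742 := d43_2 F12630 D3742 (iv D3742)
def n3743 : Q := act 8 n2591
theorem D3743 : act 8 n2591 = n3743 := rfl
theorem F17790 : act 0 n3743 = n2937 := d7_1 D3743 (iv D2937) (iv F12626)
theorem F17791 : act 2 n3743 = n3743 := d22_1 D3743 (iv D3743) F12627
theorem F17792 : act 5 n3743 = n3743 := d37_1 D3743 (iv D3743) F12629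
theorem F17793 : act 6 n3743 = n2592 := d40_1 D3743 (iv D2592) D2591
def n3744 : Q := act 9 n2592
theorem D3744 : act 9 n2592 = n3744 := rfl
theorem F17794 : act 0 n3744 = n2938 := d8_1 D3744 (iv D2938) (iv F12631)
theorem F17795 : act 2 n3744 = n3744 := d23_1 D3744 (iv D3744) F12632
theorem F17796 : act 5 n3744 = n2593 := d38_1 D3744 (iv D2593) (iv F12633)
theorem F17797 : act 7 n3744 = n2610 := d43_1 D3744 (iv D2610) (iv F12634)
theorem F17798 : act 8 n3744 = n3744 := d44_1 D3744 (iv D3744) (iv D2592) F8982 D2592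
def n3745 : Q := act 1 n2595
theorem D3745 : act 1 n2595 = n3745 := rfl
theorem F17800 : act 2 n3745 = n2939 := d9_2 D2595 D3745 (iv D2939) (iv D2041) (iv F9000)
def n3746 : Q := act 5 n2595
theorem D3746 : act 5 n2595 = n3746 := rfl
theorem F17804 : act 0 n3746 = n2599 := d4_1 D3746 (iv D2599) (iv F12647)
theorem F17805 : act 2 n3746 = n2596 := d19_1 D3746 (iv D2596) D2595
theorem F17806 : act 9 n3746 = n3746 := d38_2 F12650 D3746 (iv D3746)
def n3747 : Q := act 8 n2595
theorem D3747 : act 8 n2595 = n3747 := rfl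
theorem F17808 : act 2 n3747 = n2597 := d22_1 D3747 (iv D2597) D2595
theorem F17809 : act 4 n3747 = n2643 := d33_1 D3747 (iv D2643) (iv F12648)
theorem F17810 : act 6 n3747 = n2613 := d40_1 D3747 (iv D2613) (iv F12649)
def n3748 : Q := act 4 n2596
theorem D3748 : act 4 n2596 = n3748 := rfl
theorem F17811 : act 0 n3748 = n2601 := d3_1 D3748 (iv D2601) (iv F12651)
theorem F17812 : act 1 n3748 = n2942 := d11_1 D3748 (iv D2942) (iv F12652)
theorem F17813 : act 3 n3748 = n3748 := d24_1 D3748 (iv D3748) F12653 F9006 (iv F12653)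
theorem F17814 : act 5 n3748 = n2644 := d30_2 D2596 D3748 (iv D2644) (iv D1837) (iv F9001)
theorem F17815 : act 9 n3748 = n3748 := d34_2 F12654 D3748 (iv D3748)
def n3749 : Q := act 6 n2596
theorem D3749 : act 6 n2596 = n3749 := rfl
theorem F17816 : act 0 n3749 = n2602 := d5_1 D3749 (iv D2602) (iv F12651)
theorem F17817 : act 1 n3749 = n2943 := d13_1 D3749 (iv D2943) (iv F12652)
theorem F17818 : act 3 n3749 = n2598 := d26_1 D3749 (iv D2598) (iv F12653)
theorem F17819 : act 5 n3749 = n2614 := d35_1 D3749 (iv D2614) (iv D1813) (iv F9002) D2596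
theorem F17820 : act 9 n3749 = n3749 := d41_2 F12654 D3749 (iv D3749)
def n3750 : Q := act 8 n2596
theorem D3750 : act 8 n2596 = n3750 := rfl
def n3751 : Q := act 9 n2597
theorem D3751 : act 9 n2597 = n3751 := rfl
theorem F17826 : act 4 n3751 = n2646 := d34_1 D3751 (iv D2646) (iv F12657)
theorem F17827 : act 6 n3751 = n2616 := d41_1 D3751 (iv D2616) (iv F12658)
def n3752 : Q := act 7 n2598
theorem D3752 : act 7 n2598 = n3752 := rfl
theorem F17829 : act 0 n3752 = n2605 := d6_1 D3752 (iv D2605) (iv F12659)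
theorem F17830 : act 1 n3752 = n2946 := d14_1 D3752 (iv D2946) (iv F12660)
theorem F17831 : act 4 n3752 = n3752 := d32_1 D3752 (iv D3752) F12661
theorem F17832 : act 5 n3752 = n2617 := d36_1 D3752 (iv D2617) (iv F12662)
theorem F17833 : act 9 n3752 = n3752 := d43_2 F12663 D3752 (iv D3752)
def n3753 : Q := act 4 n2599
theorem D3753 : act 4 n2599 = n3753 := rfl
theorem F17834 : act 1 n3753 = n3753 := d11_1 D3753 (iv D3753) F12664
theorem F17835 : act 2 n3753 = n2601 := d18_1 D3753 (iv D2601) (iv F12665)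
theorem F17836 : act 5 n3753 = n2647 := d30_2 D2599 D3753 (iv D2647) (iv D1839) (iv F9009)
theorem F17837 : act 9 n3753 = n3753 := d34_2 F12666 D3753 (iv D3753)
def n3754 : Q := act 6 n2599
theorem D3754 : act 6 n2599 = n3754 := rfl
theorem F17838 : act 1 n3754 = n3754 := d13_1 D3754 (iv D3754) F12664
theorem F17839 : act 2 n3754 = n2602 := d20_1 D3754 (iv D2602) (iv F12665)
theorem F17840 : act 5 n3754 = n2618 := d35_1 D3754 (iv D2618) (iv D1816) (iv F9010) D2599
theorem F17841 : act 9 n3754 = n3754 := d41_2 F12666 D3754 (iv D3754)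
def n3755 : Q := act 8 n2599
theorem D3755 : act 8 n2599 = n3755 := rfl
theorem F17842 : act 1 n3755 = n3755 := d15_1 D3755 (iv D3755) F12664
theorem F17843 : act 2 n3755 = n2603 := d22_1 D3755 (iv D2603) (iv F12665)
theorem F17844 : act 5 n3755 = n2600 := d37_1 D3755 (iv D2600) D2599
def n3756 : Q := act 3 n2600
theorem D3756 : act 3 n2600 = n3756 := rfl
theorem F17845 : act 1 n3756 = n3756 := d10_1 D3756 (iv D3756) F12667
theorem F17846 : act 6 n3756 = n2620 := d26_2 (iv F12670) D3756 (iv D2620)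
def n3757 : Q := act 9 n2600
theorem D3757 : act 9 n2600 = n3757 := rfl
theorem F17848 : act 2 n3757 = n2604 := d23_1 D3757 (iv D2604) (iv F12668)
theorem F17849 : act 4 n3757 = n2650 := d34_1 D3757 (iv D2650) (iv F12669)
def n3758 : Q := act 6 n2601
theorem D3758 : act 6 n2601 = n3758 := rfl
theorem F17852 : act 1 n3758 = n2606 := d13_1 D3758 (iv D2606) (iv F12671)
theorem F17853 : act 3 n3758 = n3758 := d26_1 D3758 (iv D3758) F12672
theorem F17854 : act 4 n3758 = n2602 := d31_1 D3758 (iv D2602) D2601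
theorem F17855 : act 5 n3758 = n3758 := d35_1 D3758 (iv D3758) F12673 F9187 (iv F12673)
theorem F17856 : act 9 n3758 = n3758 := d41_2 F12674 D3758 (iv D3758)
def n3759 : Q := act 8 n2601
theorem D3759 : act 8 n2601 = n3759 := rfl
theorem F17857 : act 1 n3759 = n2607 := d15_1 D3759 (iv D2607) (iv F12671)
theorem F17858 : act 4 n3759 = n2603 := d33_1 D3759 (iv D2603) D2601
theorem F17859 : act 5 n3759 = n2651 := d37_1 D3759 (iv D2651) (iv F12673)
def n3760 : Q := act 7 n2602
theorem D3760 : act 7 n2602 = n3760 := rfl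
theorem F17860 : act 1 n3760 = n2608 := d14_1 D3760 (iv D2608) (iv F12675)
theorem F17861 : act 3 n3760 = n2605 := d27_1 D3760 (iv D2605) (iv F12676)
theorem F17862 : act 5 n3760 = n2622 := d36_1 D3760 (iv D2622) (iv F12677)
theorem F17863 : act 9 n3760 = n3760 := d43_2 F12678 D3760 (iv D3760)
def n3761 : Q := act 8 n2602
theorem D3761 : act 8 n2602 = n3761 := rfl
theorem F17864 : act 1 n3761 = n2609 := d15_1 D3761 (iv D2609) (iv F12675)
theorem F17865 : act 5 n3761 = n2623 := d37_1 D3761 (iv D2623) (iv F12677)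
theorem F17866 : act 6 n3761 = n2603 := d40_1 D3761 (iv D2603) D2602
def n3762 : Q := act 9 n2603
theorem D3762 : act 9 n2603 = n3762 := rfl
theorem F17867 : act 1 n3762 = n2610 := d16_1 D3762 (iv D2610) (iv F12679)
def n3763 : Q := act 7 n2606
theorem D3763 : act 7 n2606 = n3763 := rfl
theorem F17870 : act 0 n3763 = n2957 := d6_1 D3763 (iv D2957) (iv F12689)
theorem F17871 : act 2 n3763 = n3763 := d21_1 D3763 (iv D3763) F12690
theorem F17872 : act 3 n3763 = n3763 := d27_1 D3763 (iv D3763) F12691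
theorem F17873 : act 4 n3763 = n2608 := d32_1 D3763 (iv D2608) (iv F12692)
theorem F17874 : act 5 n3763 = n3763 := d36_1 D3763 (iv D3763) F12693
theorem F17875 : act 9 n3763 = n3763 := d43_2 F12694 D3763 (iv D3763)
def n3764 : Q := act 8 n2606
theorem D3764 : act 8 n2606 = n3764 := rfl
theorem F17876 : act 0 n3764 = n2958 := d7_1 D3764 (iv D2958) (iv F12689)
theorem F17877 : act 2 n3764 = n3764 := d22_1 D3764 (iv D3764) F12690
theorem F17878 : act 4 n3764 = n2609 := d33_1 D3764 (iv D2609) (iv F12692)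
theorem F17879 : act 5 n3764 = n3764 := d37_1 D3764 (iv D3764) F12693
theorem F17880 : act 6 n3764 = n2607 := d40_1 D3764 (iv D2607) D2606
def n3765 : Q := act 3 n2607
theorem D3765 : act 3 n2607 = n3765 := rfl
theorem F17881 : act 0 n3765 = n2959 := d2_1 D3765 (iv D2959) (iv F12695)
theorem F17882 : act 5 n3765 = n2653 := d25_2 (iv F12698) D3765 (iv D2653)
theorem F17883 : act 8 n3765 = n3765 := d28_2 D2607 D3765 (iv D3765) (iv D2607) F9024
def n3766 : Q := act 9 n2607
theorem D3766 : act 9 n2607 = n3766 := rfl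
theorem F17885 : act 2 n3766 = n3766 := d23_1 D3766 (iv D3766) F12696
theorem F17886 : act 4 n3766 = n2610 := d34_1 D3766 (iv D2610) (iv F12697)
theorem F17887 : act 5 n3766 = n2654 := d38_1 D3766 (iv D2654) (iv F12698)
theorem F17888 : act 8 n3766 = n3766 := d44_1 D3766 (iv D3766) (iv D2607) F9026 D2607
def n3767 : Q := act 8 n2608
theorem D3767 : act 8 n2608 = n3767 := rfl
theorem F17889 : act 0 n3767 = n2961 := d7_1 D3767 (iv D2961) (iv F12699)
theorem F17890 : act 2 n3767 = n3767 := d22_1 D3767 (iv D3767) F12700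
theorem F17891 : act 5 n3767 = n2625 := d37_1 D3767 (iv D2625) (iv F12702)
theorem F17892 : act 7 n3767 = n2609 := d42_1 D3767 (iv D2609) D2608
def n3768 : Q := act 9 n2609
theorem D3768 : act 9 n2609 = n3768 := rfl
theorem F17893 : act 0 n3768 = n2962 := d8_1 D3768 (iv D2962) (iv F12704)
theorem F17894 : act 2 n3768 = n3768 := d23_1 D3768 (iv D3768) F12705
theorem F17895 : act 5 n3768 = n2626 := d38_1 D3768 (iv D2626) (iv F12706)
theorem F17896 : act 6 n3768 = n2610 := d41_1 D3768 (iv D2610) (iv F12707)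
theorem F17897 : act 8 n3768 = n3768 := d44_1 D3768 (iv D3768) (iv D2609) F9031 D2609
def n3770 : Q := act 8 n2611
theorem D3770 : act 8 n2611 = n3770 := rfl
theorem F17905 : act 1 n3770 = n2613 := d15_1 D3770 (iv D2613) D2611
def n3771 : Q := act 6 n2612
theorem D3771 : act 6 n2612 = n3771 := rfl
theorem F17909 : act 0 n3771 = n2618 := d5_1 D3771 (iv D2618) (iv F12717)
theorem F17910 : act 2 n3771 = n2614 := d20_1 D3771 (iv D2614) (iv F12718)
theorem F17911 : act 4 n3771 = n3771 := d31_1 D3771 (iv D3771) F12719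
theorem F17912 : act 9 n3771 = n3771 := d41_2 F12721 D3771 (iv D3771)
def n3772 : Q := act 8 n2612
theorem D3772 : act 8 n2612 = n3772 := rfl
theorem F17916 : act 5 n3772 = n2613 := d37_1 D3772 (iv D2613) D2612
def n3773 : Q := act 3 n2613
theorem D3773 : act 3 n2613 = n3773 := rfl
theorem F17918 : act 0 n3773 = n2620 := d2_1 D3773 (iv D2620) (iv F12722)
def n3774 : Q := act 9 n2613
theorem D3774 : act 9 n2613 = n3774 := rfl
theorem F17920 : act 0 n3774 = n2621 := d8_1 D3774 (iv D2621) (iv F12722)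
theorem F17922 : act 4 n3774 = n2657 := d34_1 D3774 (iv D2657) (iv F12724)
def n3775 : Q := act 7 n2614
theorem D3775 : act 7 n2614 = n3775 := rfl
theorem F17925 : act 0 n3775 = n2622 := d6_1 D3775 (iv D2622) (iv F12726)
theorem F17926 : act 1 n3775 = n2969 := d14_1 D3775 (iv D2969) (iv F12727)
theorem F17927 : act 3 n3775 = n2617 := d27_1 D3775 (iv D2617) (iv F12728)
theorem F17928 : act 4 n3775 = n3775 := d32_1 D3775 (iv D3775) F12729
theorem F17929 : act 6 n3775 = n3775 := d39_1 D3775 (iv D3775) (iv D2614) F9053 D2614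
theorem F17930 : act 9 n3775 = n3775 := d43_2 F12730 D3775 (iv D3775)
def n3776 : Q := act 8 n2614
theorem D3776 : act 8 n2614 = n3776 := rfl
def n3777 : Q := act 9 n2615
theorem D3777 : act 9 n2615 = n3777 := rfl
theorem F17938 : act 5 n3777 = n2616 := d38_1 D3777 (iv D2616) (iv F12734)
def n3778 : Q := act 7 n2618
theorem D3778 : act 7 n2618 = n3778 := rfl
theorem F17941 : act 1 n3778 = n3778 := d14_1 D3778 (iv D3778) F12746
theorem F17942 : act 2 n3778 = n2622 := d21_1 D3778 (iv D2622) (iv F12747)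
theorem F17943 : act 4 n3778 = n3778 := d32_1 D3778 (iv D3778) F12748
theorem F17944 : act 6 n3778 = n3778 := d39_1 D3778 (iv D3778) (iv D2618) F9066 D2618
theorem F17945 : act 9 n3778 = n3778 := d43_2 F12749 D3778 (iv D3778)
def n3779 : Q := act 8 n2618
theorem D3779 : act 8 n2618 = n3779 := rfl
theorem F17946 : act 1 n3779 = n3779 := d15_1 D3779 (iv D3779) F12746
theorem F17947 : act 2 n3779 = n2623 := d22_1 D3779 (iv D2623) (iv F12747)
theorem F17948 : act 4 n3779 = n3779 := d33_1 D3779 (iv D3779) F12748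
theorem F17949 : act 6 n3779 = n2619 := d40_1 D3779 (iv D2619) D2618
def n3780 : Q := act 3 n2619
theorem D3780 : act 3 n2619 = n3780 := rfl
theorem F17950 : act 1 n3780 = n3780 := d10_1 D3780 (iv D3780) F12750
theorem F17951 : act 5 n3780 = n2620 := d25_2 (iv F12753) D3780 (iv D2620)
theorem F17952 : act 7 n3780 = n3780 := d27_2 F12754 D3780 (iv D3780)
def n3781 : Q := act 9 n2619
theorem D3781 : act 9 n2619 = n3781 := rfl
theorem F17956 : act 5 n3781 = n2621 := d38_1 D3781 (iv D2621) (iv F12753)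
def n3782 : Q := act 4 n2620
theorem D3782 : act 4 n2620 = n3782 := rfl
theorem F17959 : act 1 n3782 = n3782 := d11_1 D3782 (iv D3782) F12755
theorem F17960 : act 3 n3782 = n2658 := d24_1 D3782 (iv D2658) (iv D1849) (iv F9070) D2620
theorem F17961 : act 7 n3782 = n3782 := d32_2 F12756 D3782 (iv D3782)
def n3783 : Q := act 9 n2620
theorem D3783 : act 9 n2620 = n3783 := rfl
def n3784 : Q := act 8 n2622
theorem D3784 : act 8 n2622 = n3784 := rfl
theorem F17965 : act 1 n3784 = n2625 := d15_1 D3784 (iv D2625) (iv F12762)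
theorem F17966 : act 4 n3784 = n3784 := d33_1 D3784 (iv D3784) F12764
theorem F17967 : act 6 n3784 = n3784 := d40_1 D3784 (iv D3784) F12765
theorem F17968 : act 7 n3784 = n2623 := d42_1 D3784 (iv D2623) D2622
def n3785 : Q := act 9 n2623
theorem D3785 : act 9 n2623 = n3785 := rfl
theorem F17969 : act 1 n3785 = n2626 := d16_1 D3785 (iv D2626) (iv F12767)
def n3786 : Q := act 9 n2625
theorem D3786 : act 9 n2625 = n3786 := rfl
theorem F17973 : act 0 n3786 = n2980 := d8_1 D3786 (iv D2980) (iv F12775)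
theorem F17974 : act 2 n3786 = n3786 := d23_1 D3786 (iv D3786) F12776
theorem F17975 : act 4 n3786 = n3786 := d34_1 D3786 (iv D3786) F12777
theorem F17976 : act 6 n3786 = n3786 := d41_1 D3786 (iv D3786) F12778
theorem F17977 : act 7 n3786 = n2626 := d43_1 D3786 (iv D2626) (iv F12779)
theorem F17978 : act 8 n3786 = n3786 := d44_1 D3786 (iv D3786) (iv D2625) F9093 D2625
def n3787 : Q := act 1 n2627
theorem D3787 : act 1 n2627 = n3787 := rfl
def n3788 : Q := act 5 n2627
theorem D3788 : act 5 n2627 = n3788 := rfl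
theorem F17985 : act 0 n3788 = n2631 := d4_1 D3788 (iv D2631) (iv F12785)
theorem F17986 : act 2 n3788 = n2628 := d19_1 D3788 (iv D2628) D2627
theorem F17987 : act 3 n3788 = n3788 := d25_1 D3788 (iv D3788) F12786
theorem F17988 : act 7 n3788 = n2642 := d36_2 (iv F12788) D3788 (iv D2642)
theorem F17989 : act 9 n3788 = n3788 := d38_2 F12789 D3788 (iv D3788)
def n3789 : Q := act 8 n2627
theorem D3789 : act 8 n2627 = n3789 := rfl
def n3790 : Q := act 4 n2628
theorem D3790 : act 4 n2628 = n3790 := rfl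
theorem F17994 : act 0 n3790 = n2633 := d3_1 D3790 (iv D2633) (iv F12790)
theorem F17995 : act 1 n3790 = n2984 := d11_1 D3790 (iv D2984) (iv F12791)
theorem F17996 : act 3 n3790 = n3790 := d24_1 D3790 (iv D3790) F12792 F9118 (iv F12792)
theorem F17997 : act 7 n3790 = n2644 := d32_2 (iv F12793) D3790 (iv D2644)
theorem F17998 : act 9 n3790 = n3790 := d34_2 F12794 D3790 (iv D3790)
def n3791 : Q := act 6 n2628
theorem D3791 : act 6 n2628 = n3791 := rfl
theorem F17999 : act 0 n3791 = n2634 := d5_1 D3791 (iv D2634) (iv F12790)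
theorem F18000 : act 1 n3791 = n2985 := d13_1 D3791 (iv D2985) (iv F12791)
theorem F18001 : act 3 n3791 = n2630 := d26_1 D3791 (iv D2630) (iv F12792)
theorem F18002 : act 5 n3791 = n3791 := d35_1 D3791 (iv D3791) (iv D2628) F9112 D2628
theorem F18003 : act 7 n3791 = n3791 := d39_2 (iv F12793) D3791 (iv D3791) F12793 F9171
theorem F18004 : act 9 n3791 = n3791 := d41_2 F12794 D3791 (iv D3791)
def n3792 : Q := act 8 n2628
theorem D3792 : act 8 n2628 = n3792 := rfl
theorem F18008 : act 5 n3792 = n2629 := d37_1 D3792 (iv D2629) D2628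
def n3793 : Q := act 9 n2629
theorem D3793 : act 9 n2629 = n3793 := rfl
def n3794 : Q := act 4 n2631
theorem D3794 : act 4 n2631 = n3794 := rfl
theorem F18016 : act 1 n3794 = n3794 := d11_1 D3794 (iv D3794) F12808
theorem F18017 : act 2 n3794 = n2633 := d18_1 D3794 (iv D2633) (iv F12809)
theorem F18018 : act 7 n3794 = n2647 := d32_2 (iv F12811) D3794 (iv D2647)
theorem F18019 : act 9 n3794 = n3794 := d34_2 F12812 D3794 (iv D3794)
def n3795 : Q := act 6 n2631
theorem D3795 : act 6 n2631 = n3795 := rfl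
theorem F18020 : act 1 n3795 = n3795 := d13_1 D3795 (iv D3795) F12808
theorem F18021 : act 2 n3795 = n2634 := d20_1 D3795 (iv D2634) (iv F12809)
theorem F18022 : act 3 n3795 = n3795 := d26_1 D3795 (iv D3795) F12810
theorem F18023 : act 5 n3795 = n3795 := d35_1 D3795 (iv D3795) (iv D2631) F9124 D2631
theorem F18024 : act 7 n3795 = n3795 := d39_2 (iv F12811) D3795 (iv D3795) F12811 F9180
theorem F18025 : act 9 n3795 = n3795 := d41_2 F12812 D3795 (iv D3795)
def n3796 : Q := act 8 n2631
theorem D3796 : act 8 n2631 = n3796 := rfl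
theorem F18026 : act 1 n3796 = n3796 := d15_1 D3796 (iv D3796) F12808
theorem F18027 : act 2 n3796 = n2635 := d22_1 D3796 (iv D2635) (iv F12809)
theorem F18028 : act 5 n3796 = n2632 := d37_1 D3796 (iv D2632) D2631
theorem F18029 : act 7 n3796 = n2648 := d42_1 D3796 (iv D2648) (iv F12811)
def n3797 : Q := act 3 n2632
theorem D3797 : act 3 n2632 = n3797 := rfl
theorem F18030 : act 1 n3797 = n3797 := d10_1 D3797 (iv D3797) F12813
theorem F18031 : act 2 n3797 = n3797 := d17_1 D3797 (iv D3797) F12814 F9132 (iv F12814)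
theorem F18032 : act 6 n3797 = n3797 := d26_2 F12815 D3797 (iv D3797)
theorem F18033 : act 7 n3797 = n2649 := d27_2 (iv F12816) D3797 (iv D2649)
theorem F18034 : act 8 n3797 = n3797 := d28_2 D2632 D3797 (iv D3797) (iv D2632) F9123
def n3798 : Q := act 9 n2632
theorem D3798 : act 9 n2632 = n3798 := rfl
theorem F18036 : act 2 n3798 = n2636 := d23_1 D3798 (iv D2636) (iv F12814)
def n3799 : Q := act 6 n2633
theorem D3799 : act 6 n2633 = n3799 := rfl
theorem F18040 : act 1 n3799 = n2637 := d13_1 D3799 (iv D2637) (iv F12817)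
theorem F18041 : act 3 n3799 = n3799 := d26_1 D3799 (iv D3799) F12818
theorem F18042 : act 4 n3799 = n2634 := d31_1 D3799 (iv D2634) D2633
theorem F18043 : act 7 n3799 = n3799 := d39_2 (iv F12819) D3799 (iv D3799) F12819 F9187
theorem F18044 : act 9 n3799 = n3799 := d41_2 F12820 D3799 (iv D3799)
def n3800 : Q := act 8 n2633
theorem D3800 : act 8 n2633 = n3800 := rfl
theorem F18045 : act 1 n3800 = n2638 := d15_1 D3800 (iv D2638) (iv F12817)
theorem F18046 : act 4 n3800 = n2635 := d33_1 D3800 (iv D2635) D2633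
theorem F18047 : act 7 n3800 = n2651 := d42_1 D3800 (iv D2651) (iv F12819)
def n3801 : Q := act 8 n2634
theorem D3801 : act 8 n2634 = n3801 := rfl
theorem F18048 : act 1 n3801 = n2639 := d15_1 D3801 (iv D2639) (iv F12821)
theorem F18049 : act 3 n3801 = n3801 := d28_1 D3801 (iv D3801) F12822 F9140 (iv F12822)
theorem F18050 : act 5 n3801 = n3801 := d37_1 D3801 (iv D3801) F12823
theorem F18051 : act 6 n3801 = n2635 := d40_1 D3801 (iv D2635) D2634
theorem F18052 : act 7 n3801 = n3801 := d42_1 D3801 (iv D3801) F12824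
def n3802 : Q := act 9 n2635
theorem D3802 : act 9 n2635 = n3802 := rfl
theorem F18053 : act 1 n3802 = n2640 := d16_1 D3802 (iv D2640) (iv F12826)
theorem F18055 : act 5 n3802 = n2636 := d38_1 D3802 (iv D2636) (iv F12828)
def n3803 : Q := act 5 n2637
theorem D3803 : act 5 n2637 = n3803 := rfl
theorem F18058 : act 0 n3803 = n2997 := d4_1 D3803 (iv D2997) (iv F12835)
theorem F18059 : act 2 n3803 = n3803 := d19_1 D3803 (iv D3803) F12836
theorem F18060 : act 3 n3803 = n3803 := d25_1 D3803 (iv D3803) F12837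
theorem F18061 : act 4 n3803 = n3803 := d30_1 D3803 (iv D3803) F12838 F9150 (iv F12838)
theorem F18062 : act 7 n3803 = n3803 := d36_2 F12839 D3803 (iv D3803)
theorem F18063 : act 9 n3803 = n3803 := d38_2 F12840 D3803 (iv D3803)
def n3804 : Q := act 8 n2637
theorem D3804 : act 8 n2637 = n3804 := rfl
theorem F18064 : act 0 n3804 = n2998 := d7_1 D3804 (iv D2998) (iv F12835)
theorem F18065 : act 2 n3804 = n3804 := d22_1 D3804 (iv D3804) F12836
theorem F18066 : act 4 n3804 = n2639 := d33_1 D3804 (iv D2639) (iv F12838)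
theorem F18067 : act 6 n3804 = n2638 := d40_1 D3804 (iv D2638) D2637
theorem F18068 : act 7 n3804 = n3804 := d42_1 D3804 (iv D3804) F12839
def n3805 : Q := act 3 n2638
theorem D3805 : act 3 n2638 = n3805 := rfl
theorem F18069 : act 0 n3805 = n2999 := d2_1 D3805 (iv D2999) (iv F12841)
theorem F18070 : act 4 n3805 = n3805 := d24_2 (iv F12843) D3805 (iv D3805) F12843 F9155
theorem F18071 : act 7 n3805 = n2653 := d27_2 (iv F12844) D3805 (iv D2653)
theorem F18072 : act 8 n3805 = n3805 := d28_2 D2638 D3805 (iv D3805) (iv D2638) F9144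
def n3806 : Q := act 9 n2638
theorem D3806 : act 9 n2638 = n3806 := rfl
theorem F18074 : act 2 n3806 = n3806 := d23_1 D3806 (iv D3806) F12842
theorem F18075 : act 4 n3806 = n2640 := d34_1 D3806 (iv D2640) (iv F12843)
theorem F18076 : act 7 n3806 = n2654 := d43_1 D3806 (iv D2654) (iv F12844)
theorem F18077 : act 8 n3806 = n3806 := d44_1 D3806 (iv D3806) (iv D2638) F9146 D2638
def n3807 : Q := act 9 n2639
theorem D3807 : act 9 n2639 = n3807 := rfl
theorem F18079 : act 2 n3807 = n3807 := d23_1 D3807 (iv D3807) F12846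
theorem F18080 : act 3 n3807 = n3807 := d29_1 D3807 (iv D3807) F12847
theorem F18081 : act 5 n3807 = n3807 := d38_1 D3807 (iv D3807) F12848
theorem F18082 : act 6 n3807 = n2640 := d41_1 D3807 (iv D2640) (iv F12849)
theorem F18083 : act 7 n3807 = n3807 := d43_1 D3807 (iv D3807) F12850
theorem F18084 : act 8 n3807 = n3807 := d44_1 D3807 (iv D3807) (iv D2639) F9152 D2639
def n3810 : Q := act 4 n2642
theorem D3810 : act 4 n2642 = n3810 := rfl
theorem F18095 : act 0 n3810 = n2647 := d3_1 D3810 (iv D2647) (iv F12862)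
theorem F18096 : act 2 n3810 = n2644 := d18_1 D3810 (iv D2644) (iv F12863)
theorem F18097 : act 6 n3810 = n3810 := d31_2 F12865 D3810 (iv D3810)
theorem F18098 : act 9 n3810 = n3810 := d34_2 F12866 D3810 (iv D3810)
def n3811 : Q := act 8 n2642
theorem D3811 : act 8 n2642 = n3811 := rfl
theorem F18101 : act 5 n3811 = n2643 := d37_1 D3811 (iv D2643) D2642
def n3813 : Q := act 9 n2643
theorem D3813 : act 9 n2643 = n3813 := rfl
def n3814 : Q := act 8 n2644
theorem D3814 : act 8 n2644 = n3814 := rfl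
theorem F18111 : act 0 n3814 = n2651 := d7_1 D3814 (iv D2651) (iv F12870)
def n3815 : Q := act 9 n2645
theorem D3815 : act 9 n2645 = n3815 := rfl
theorem F18118 : act 5 n3815 = n2646 := d38_1 D3815 (iv D2646) (iv F12878)
def n3816 : Q := act 3 n2647
theorem D3816 : act 3 n2647 = n3816 := rfl
theorem F18121 : act 1 n3816 = n3816 := d10_1 D3816 (iv D3816) F12885
theorem F18122 : act 2 n3816 = n3816 := d17_1 D3816 (iv D3816) F12886 F9186 (iv F12886)
theorem F18123 : act 4 n3816 = n3816 := d24_2 D2647 D3816 (iv D3816) (iv D2647) F9179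
theorem F18124 : act 6 n3816 = n3816 := d26_2 F12887 D3816 (iv D3816)
theorem F18125 : act 9 n3816 = n3816 := d29_2 F12888 D3816 (iv D3816)
def n3817 : Q := act 8 n2647
theorem D3817 : act 8 n2647 = n3817 := rfl
theorem F18126 : act 1 n3817 = n3817 := d15_1 D3817 (iv D3817) F12885
theorem F18127 : act 2 n3817 = n2651 := d22_1 D3817 (iv D2651) (iv F12886)
theorem F18128 : act 4 n3817 = n2648 := d33_1 D3817 (iv D2648) D2647
theorem F18129 : act 6 n3817 = n3817 := d40_1 D3817 (iv D3817) F12887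
def n3818 : Q := act 3 n2648
theorem D3818 : act 3 n2648 = n3818 := rfl
theorem F18130 : act 1 n3818 = n3818 := d10_1 D3818 (iv D3818) F12889
theorem F18131 : act 2 n3818 = n3818 := d17_1 D3818 (iv D3818) F12890 F9190 (iv F12890)
theorem F18132 : act 5 n3818 = n2649 := d25_2 (iv F12891) D3818 (iv D2649)
theorem F18133 : act 6 n3818 = n3818 := d26_2 F12892 D3818 (iv D3818)
theorem F18134 : act 8 n3818 = n3818 := d28_2 D2648 D3818 (iv D3818) (iv D2648) F9179
def n3819 : Q := act 9 n2648
theorem D3819 : act 9 n2648 = n3819 := rfl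
theorem F18137 : act 5 n3819 = n2650 := d38_1 D3819 (iv D2650) (iv F12891)
def n3820 : Q := act 4 n2649
theorem D3820 : act 4 n2649 = n3820 := rfl
theorem F18140 : act 1 n3820 = n3820 := d11_1 D3820 (iv D3820) F12893
theorem F18141 : act 2 n3820 = n3820 := d18_1 D3820 (iv D3820) F12894
theorem F18142 : act 6 n3820 = n2658 := d31_2 (iv F12895) D3820 (iv D2658)
theorem F18143 : act 8 n3820 = n3820 := d33_2 F12896 D3820 (iv D3820)
def n3821 : Q := act 9 n2649
theorem D3821 : act 9 n2649 = n3821 := rfl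
theorem F18146 : act 3 n3821 = n2650 := d29_1 D3821 (iv D2650) D2649
def n3822 : Q := act 3 n2651
theorem D3822 : act 3 n2651 = n3822 := rfl
theorem F18148 : act 1 n3822 = n2653 := d10_1 D3822 (iv D2653) (iv F12901)
theorem F18149 : act 4 n3822 = n3822 := d24_2 (iv F12902) D3822 (iv D3822) F12902 F9190
theorem F18150 : act 6 n3822 = n3822 := d26_2 F12903 D3822 (iv D3822)
theorem F18151 : act 8 n3822 = n3822 := d28_2 D2651 D3822 (iv D3822) (iv D2651) F9186
def n3823 : Q := act 9 n2651
theorem D3823 : act 9 n2651 = n3823 := rfl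
def n3824 : Q := act 2 n2653
theorem D3824 : act 2 n2653 = n3824 := rfl
theorem F18156 : act 0 n3824 = n3018 := d1_1 D3824 (iv D3018) (iv F12909)
theorem F18157 : act 3 n3824 = n3824 := d17_2 D2653 D3824 (iv D3824) (iv D2653) F9198
theorem F18158 : act 4 n3824 = n3824 := d18_2 F12910 D3824 (iv D3824)
theorem F18159 : act 6 n3824 = n3824 := d20_2 F12911 D3824 (iv D3824)
theorem F18160 : act 8 n3824 = n3824 := d22_2 F12912 D3824 (iv D3824)
def n3825 : Q := act 9 n2653
theorem D3825 : act 9 n2653 = n3825 := rfl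
theorem F18162 : act 3 n3825 = n2654 := d29_1 D3825 (iv D2654) D2653
theorem F18163 : act 4 n3825 = n3825 := d34_1 D3825 (iv D3825) F12910
theorem F18164 : act 6 n3825 = n3825 := d41_1 D3825 (iv D3825) F12911
def n3828 : Q := act 4 n2656
theorem D3828 : act 4 n2656 = n3828 := rfl
def n3830 : Q := act 5 n2658
theorem D3830 : act 5 n2658 = n3830 := rfl
theorem F18185 : act 1 n3830 = n3830 := d12_1 D3830 (iv D3830) F12933
theorem F18186 : act 2 n3830 = n3830 := d19_1 D3830 (iv D3830) F12934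
theorem F18187 : act 4 n3830 = n3830 := d30_1 D3830 (iv D3830) (iv D2658) F9225 D2658
theorem F18188 : act 7 n3830 = n3830 := d36_2 F12935 D3830 (iv D3830)
theorem F18189 : act 8 n3830 = n3830 := d37_2 F12936 D3830 (iv D3830)
def n3831 : Q := act 9 n2658
theorem D3831 : act 9 n2658 = n3831 := rfl
def n3833 : Q := act 3 n2660
theorem D3833 : act 3 n2660 = n3833 := rfl
theorem F18200 : act 0 n3833 = n3833 := d2_1 D3833 (iv D3833) F12942
theorem F18201 : act 1 n3833 = n2662 := d10_1 D3833 (iv D2662) (iv F12943)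
theorem F18202 : act 4 n3833 = n3833 := d24_2 D2660 D3833 (iv D3833) (iv D2660) F9235
theorem F18203 : act 6 n3833 = n2674 := d26_2 (iv F12945) D3833 (iv D2674)
theorem F18204 : act 7 n3833 = n3833 := d27_2 F12946 D3833 (iv D3833)
def n3834 : Q := act 5 n2660
theorem D3834 : act 5 n2660 = n3834 := rfl
theorem F18205 : act 0 n3834 = n3834 := d4_1 D3834 (iv D3834) F12942
theorem F18206 : act 1 n3834 = n2663 := d12_1 D3834 (iv D2663) (iv F12943)
theorem F18207 : act 2 n3834 = n3834 := d19_1 D3834 (iv D3834) F12944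
theorem F18208 : act 4 n3834 = n3834 := d30_1 D3834 (iv D3834) (iv D2660) F9236 D2660
theorem F18209 : act 6 n3834 = n3834 := d35_2 (iv F12945) D3834 (iv D3834) F12945 F9283
theorem F18210 : act 7 n3834 = n3834 := d36_2 F12946 D3834 (iv D3834)
theorem F18211 : act 8 n3834 = n3834 := d37_2 F12947 D3834 (iv D3834)
def n3835 : Q := act 9 n2660
theorem D3835 : act 9 n2660 = n3835 := rfl
theorem F18213 : act 1 n3835 = n2664 := d16_1 D3835 (iv D2664) (iv F12943)
theorem F18214 : act 2 n3835 = n3835 := d23_1 D3835 (iv D3835) F12944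
theorem F18215 : act 4 n3835 = n2661 := d34_1 D3835 (iv D2661) D2660
theorem F18216 : act 6 n3835 = n2675 := d41_1 D3835 (iv D2675) (iv F12945)
def n3837 : Q := act 5 n2662
theorem D3837 : act 5 n2662 = n3837 := rfl
theorem F18225 : act 2 n3837 = n3837 := d19_1 D3837 (iv D3837) F12955
theorem F18226 : act 3 n3837 = n2663 := d25_1 D3837 (iv D2663) D2662
theorem F18227 : act 6 n3837 = n3837 := d35_2 (iv F12957) D3837 (iv D3837) F12957 F9294
theorem F18228 : act 7 n3837 = n3837 := d36_2 F12958 D3837 (iv D3837)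
def n3838 : Q := act 8 n2662
theorem D3838 : act 8 n2662 = n3838 := rfl
theorem F18229 : act 2 n3838 = n3838 := d22_1 D3838 (iv D3838) F12955
theorem F18230 : act 3 n3838 = n3838 := d28_1 D3838 (iv D3838) (iv D2662) F9243 D2662
theorem F18231 : act 4 n3838 = n3838 := d33_1 D3838 (iv D3838) F12956
theorem F18232 : act 6 n3838 = n2677 := d40_1 D3838 (iv D2677) (iv F12957)
theorem F18233 : act 7 n3838 = n3838 := d42_1 D3838 (iv D3838) F12958
def n3839 : Q := act 9 n2662
theorem D3839 : act 9 n2662 = n3839 := rfl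
theorem F18234 : act 2 n3839 = n3839 := d23_1 D3839 (iv D3839) F12955
theorem F18235 : act 3 n3839 = n2664 := d29_1 D3839 (iv D2664) D2662
theorem F18236 : act 4 n3839 = n3839 := d34_1 D3839 (iv D3839) F12956
theorem F18237 : act 6 n3839 = n2678 := d41_1 D3839 (iv D2678) (iv F12957)
theorem F18238 : act 7 n3839 = n3839 := d43_1 D3839 (iv D3839) F12958
def n3840 : Q := act 9 n2663
theorem D3840 : act 9 n2663 = n3840 := rfl
theorem F18239 : act 2 n3840 = n2666 := d23_1 D3840 (iv D2666) (iv F12959)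
theorem F18240 : act 4 n3840 = n3840 := d34_1 D3840 (iv D3840) F12960
theorem F18241 : act 5 n3840 = n2664 := d38_1 D3840 (iv D2664) D2663
theorem F18242 : act 6 n3840 = n3840 := d41_1 D3840 (iv D3840) F12961
theorem F18243 : act 7 n3840 = n3840 := d43_1 D3840 (iv D3840) F12962
def n3841 : Q := act 8 n2664
theorem D3841 : act 8 n2664 = n3841 := rfl
theorem F18244 : act 2 n3841 = n2667 := d22_1 D3841 (iv D2667) (iv F12964)
theorem F18245 : act 4 n3841 = n2665 := d33_1 D3841 (iv D2665) (iv F12965)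
theorem F18246 : act 6 n3841 = n2679 := d40_1 D3841 (iv D2679) (iv F12966)
def n3843 : Q := act 8 n2666
theorem D3843 : act 8 n2666 = n3843 := rfl
theorem F18254 : act 1 n3843 = n3843 := d15_1 D3843 (iv D3843) F12973
theorem F18255 : act 4 n3843 = n3843 := d33_1 D3843 (iv D3843) F12975
theorem F18256 : act 5 n3843 = n2667 := d37_1 D3843 (iv D2667) (iv F12976)
theorem F18257 : act 6 n3843 = n3843 := d40_1 D3843 (iv D3843) F12977
theorem F18258 : act 7 n3843 = n3843 := d42_1 D3843 (iv D3843) F12978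
theorem F18259 : act 9 n3843 = n3843 := d44_2 D2666 D3843 (iv D3843) (iv D2666) F9254
def n3844 : Q := act 3 n2667
theorem D3844 : act 3 n2667 = n3844 := rfl
theorem F18260 : act 1 n3844 = n3844 := d10_1 D3844 (iv D3844) F12979
theorem F18261 : act 6 n3844 = n2681 := d26_2 (iv F12981) D3844 (iv D2681)
theorem F18262 : act 7 n3844 = n3844 := d27_2 F12982 D3844 (iv D3844)
theorem F18263 : act 8 n3844 = n3844 := d28_2 D2667 D3844 (iv D3844) (iv D2667) F9256
theorem F18264 : act 9 n3844 = n3844 := d29_2 F12983 D3844 (iv D3844)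
def n3845 : Q := act 2 n2668
theorem D3845 : act 2 n2668 = n3845 := rfl
theorem F18266 : act 6 n3845 = n2682 := d20_2 (iv F12986) D3845 (iv D2682)
theorem F18268 : act 8 n3845 = n2669 := d22_2 (iv F12988) D3845 (iv D2669)
def n3846 : Q := act 4 n2668
theorem D3846 : act 4 n2668 = n3846 := rfl
theorem F18270 : act 1 n3846 = n3846 := d11_1 D3846 (iv D3846) F12984
theorem F18271 : act 6 n3846 = n2683 := d31_2 (iv F12986) D3846 (iv D2683)
theorem F18272 : act 7 n3846 = n3846 := d32_2 F12987 D3846 (iv D3846)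
theorem F18273 : act 8 n3846 = n2670 := d33_2 (iv F12988) D3846 (iv D2670)
theorem F18274 : act 9 n3846 = n3846 := d34_2 F12989 D3846 (iv D3846)
def n3847 : Q := act 1 n2669
theorem D3847 : act 1 n2669 = n3847 := rfl
theorem F18275 : act 2 n3847 = n3847 := d9_2 D2669 D3847 (iv D3847) (iv D2669) F9265
theorem F18278 : act 6 n3847 = n2684 := d13_2 (iv F12992) D3847 (iv D2684)
theorem F18280 : act 9 n3847 = n2671 := d16_2 (iv F12994) D3847 (iv D2671)
def n3848 : Q := act 4 n2669
theorem D3848 : act 4 n2669 = n3848 := rfl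
theorem F18281 : act 2 n3848 = n2670 := d18_1 D3848 (iv D2670) D2669
theorem F18282 : act 6 n3848 = n2685 := d31_2 (iv F12992) D3848 (iv D2685)
theorem F18283 : act 7 n3848 = n3848 := d32_2 F12993 D3848 (iv D3848)
theorem F18284 : act 9 n3848 = n2672 := d34_2 (iv F12994) D3848 (iv D2672)
def n3849 : Q := act 5 n2670
theorem D3849 : act 5 n2670 = n3849 := rfl
theorem F18285 : act 1 n3849 = n3849 := d12_1 D3849 (iv D3849) F12995
theorem F18286 : act 3 n3849 = n3849 := d25_1 D3849 (iv D3849) F12996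
theorem F18287 : act 4 n3849 = n3849 := d30_1 D3849 (iv D3849) (iv D2670) F9266 D2670
theorem F18288 : act 7 n3849 = n3849 := d36_2 F12998 D3849 (iv D3849)
theorem F18289 : act 9 n3849 = n2673 := d38_2 (iv F12999) D3849 (iv D2673)
def n3850 : Q := act 0 n2671
theorem D3850 : act 0 n2671 = n3850 := rfl
theorem F18293 : act 6 n3850 = n2687 := d5_2 (iv F13003) D3850 (iv D2687)
def n3851 : Q := act 4 n2671
theorem D3851 : act 4 n2671 = n3851 := rfl
theorem F18296 : act 1 n3851 = n2672 := d11_1 D3851 (iv D2672) D2671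
theorem F18297 : act 2 n3851 = n3851 := d18_1 D3851 (iv D3851) F13000
theorem F18298 : act 6 n3851 = n2688 := d31_2 (iv F13003) D3851 (iv D2688)
theorem F18299 : act 7 n3851 = n3851 := d32_2 F13004 D3851 (iv D3851)
theorem F18300 : act 8 n3851 = n3851 := d33_2 F13005 D3851 (iv D3851)
def n3852 : Q := act 3 n2672
theorem D3852 : act 3 n2672 = n3852 := rfl
theorem F18301 : act 2 n3852 = n3852 := d17_1 D3852 (iv D3852) F13006 F9276 (iv F13006)
theorem F18302 : act 4 n3852 = n3852 := d24_2 D2672 D3852 (iv D3852) (iv D2672) F9270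
theorem F18303 : act 6 n3852 = n2689 := d26_2 (iv F13007) D3852 (iv D2689)
theorem F18304 : act 7 n3852 = n3852 := d27_2 F13008 D3852 (iv D3852)
def n3853 : Q := act 5 n2672
theorem D3853 : act 5 n2672 = n3853 := rfl
theorem F18305 : act 2 n3853 = n2673 := d19_1 D3853 (iv D2673) (iv F13006)
theorem F18306 : act 4 n3853 = n3853 := d30_1 D3853 (iv D3853) (iv D2672) F9271 D2672
theorem F18307 : act 7 n3853 = n3853 := d36_2 F13008 D3853 (iv D3853)
theorem F18308 : act 8 n3853 = n3853 := d37_2 F13009 D3853 (iv D3853)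
def n3854 : Q := act 6 n2673
theorem D3854 : act 6 n2673 = n3854 := rfl
theorem F18309 : act 1 n3854 = n3854 := d13_1 D3854 (iv D3854) F13010
theorem F18310 : act 3 n3854 = n3854 := d26_1 D3854 (iv D3854) F13011
theorem F18311 : act 4 n3854 = n3854 := d31_1 D3854 (iv D3854) F13012
theorem F18312 : act 5 n3854 = n2691 := d35_1 D3854 (iv D2691) (iv D1871) (iv F9277) D2673
theorem F18313 : act 8 n3854 = n3854 := d40_2 F13014 D3854 (iv D3854)
def n3855 : Q := act 2 n2674
theorem D3855 : act 2 n2674 = n3855 := rfl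
theorem F18314 : act 0 n3855 = n3855 := d1_1 D3855 (iv D3855) F13015
theorem F18315 : act 1 n3855 = n3855 := d9_1 D3855 (iv D3855) F13016 F9292 (iv F13016)
theorem F18316 : act 3 n3855 = n3855 := d17_2 D2674 D3855 (iv D3855) (iv D2674) F9282
theorem F18317 : act 4 n3855 = n3855 := d18_2 F13017 D3855 (iv D3855)
theorem F18318 : act 5 n3855 = n3855 := d19_2 F13018 D3855 (iv D3855)
theorem F18319 : act 7 n3855 = n2692 := d21_2 (iv F13019) D3855 (iv D2692)
def n3856 : Q := act 8 n2674
theorem D3856 : act 8 n2674 = n3856 := rfl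
theorem F18320 : act 0 n3856 = n3856 := d7_1 D3856 (iv D3856) F13015
theorem F18321 : act 1 n3856 = n2677 := d15_1 D3856 (iv D2677) (iv F13016)
theorem F18322 : act 3 n3856 = n3856 := d28_1 D3856 (iv D3856) (iv D2674) F9285 D2674
theorem F18323 : act 4 n3856 = n3856 := d33_1 D3856 (iv D3856) F13017
theorem F18324 : act 5 n3856 = n3856 := d37_1 D3856 (iv D3856) F13018
theorem F18325 : act 7 n3856 = n2693 := d42_1 D3856 (iv D2693) (iv F13019)
def n3857 : Q := act 9 n2674
theorem D3857 : act 9 n2674 = n3857 := rfl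
theorem F18327 : act 1 n3857 = n2678 := d16_1 D3857 (iv D2678) (iv F13016)
theorem F18328 : act 3 n3857 = n2675 := d29_1 D3857 (iv D2675) D2674
def n3858 : Q := act 8 n2675
theorem D3858 : act 8 n2675 = n3858 := rfl
theorem F18335 : act 4 n3858 = n2676 := d33_1 D3858 (iv D2676) (iv F13023)
def n3859 : Q := act 3 n2676
theorem D3859 : act 3 n2676 = n3859 := rfl
theorem F18341 : act 5 n3859 = n2719 := d25_2 (iv F13029) D3859 (iv D2719)
def n3860 : Q := act 9 n2677
theorem D3860 : act 9 n2677 = n3860 := rfl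
def n3861 : Q := act 8 n2678
theorem D3861 : act 8 n2678 = n3861 := rfl
def n3862 : Q := act 3 n2679
theorem D3862 : act 3 n2679 = n3862 := rfl
def n3864 : Q := act 4 n2680
theorem D3864 : act 4 n2680 = n3864 := rfl
def n3865 : Q := act 2 n2681
theorem D3865 : act 2 n2681 = n3865 := rfl
def n3866 : Q := act 4 n2681
theorem D3866 : act 4 n2681 = n3866 := rfl
theorem F18369 : act 1 n3866 = n3866 := d11_1 D3866 (iv D3866) F13051
theorem F18370 : act 3 n3866 = n2683 := d24_1 D3866 (iv D2683) (iv D1866) (iv F9305) D2681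
theorem F18371 : act 7 n3866 = n2703 := d32_2 (iv F13053) D3866 (iv D2703)
theorem F18372 : act 8 n3866 = n3866 := d33_2 F13054 D3866 (iv D3866)
theorem F18373 : act 9 n3866 = n3866 := d34_2 F13055 D3866 (iv D3866)
def n3867 : Q := act 1 n2682
theorem D3867 : act 1 n2682 = n3867 := rfl
theorem F18375 : act 5 n3867 = n2722 := d12_2 (iv F13056) D3867 (iv D2722)
theorem F18376 : act 7 n3867 = n2704 := d14_2 (iv F13057) D3867 (iv D2704)
theorem F18377 : act 8 n3867 = n2684 := d15_2 (iv F13058) D3867 (iv D2684)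
def n3868 : Q := act 4 n2682
theorem D3868 : act 4 n2682 = n3868 := rfl
theorem F18379 : act 2 n3868 = n2683 := d18_1 D3868 (iv D2683) D2682
theorem F18380 : act 7 n3868 = n2705 := d32_2 (iv F13057) D3868 (iv D2705)
theorem F18381 : act 8 n3868 = n2685 := d33_2 (iv F13058) D3868 (iv D2685)
def n3869 : Q := act 5 n2683
theorem D3869 : act 5 n2683 = n3869 := rfl
theorem F18383 : act 1 n3869 = n3869 := d12_1 D3869 (iv D3869) F13060
theorem F18384 : act 4 n3869 = n2724 := d30_1 D3869 (iv D2724) (iv D1893) (iv F9310) D2683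
theorem F18385 : act 7 n3869 = n2706 := d36_2 (iv F13061) D3869 (iv D2706)
theorem F18386 : act 8 n3869 = n2686 := d37_2 (iv F13062) D3869 (iv D2686)
theorem F18387 : act 9 n3869 = n3869 := d38_2 F13063 D3869 (iv D3869)
def n3871 : Q := act 4 n2684
theorem D3871 : act 4 n2684 = n3871 := rfl
theorem F18393 : act 1 n3871 = n2685 := d11_1 D3871 (iv D2685) D2684
theorem F18396 : act 9 n3871 = n2688 := d34_2 (iv F13068) D3871 (iv D2688)
def n3872 : Q := act 3 n2685
theorem D3872 : act 3 n2685 = n3872 := rfl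
theorem F18397 : act 2 n3872 = n3872 := d17_1 D3872 (iv D3872) F13069 F9319 (iv F13069)
theorem F18398 : act 4 n3872 = n3872 := d24_2 D2685 D3872 (iv D3872) (iv D2685) F9314
theorem F18399 : act 7 n3872 = n2709 := d27_2 (iv F13070) D3872 (iv D2709)
theorem F18400 : act 9 n3872 = n2689 := d29_2 (iv F13071) D3872 (iv D2689)
def n3873 : Q := act 5 n2685
theorem D3873 : act 5 n2685 = n3873 := rfl
theorem F18401 : act 2 n3873 = n2686 := d19_1 D3873 (iv D2686) (iv F13069)
theorem F18402 : act 4 n3873 = n2728 := d30_1 D3873 (iv D2728) (iv D1895) (iv F9315) D2685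
theorem F18403 : act 7 n3873 = n2710 := d36_2 (iv F13070) D3873 (iv D2710)
theorem F18404 : act 9 n3873 = n2690 := d38_2 (iv F13071) D3873 (iv D2690)
def n3874 : Q := act 6 n2686
theorem D3874 : act 6 n2686 = n3874 := rfl
theorem F18405 : act 1 n3874 = n3874 := d13_1 D3874 (iv D3874) F13072
theorem F18406 : act 3 n3874 = n3874 := d26_1 D3874 (iv D3874) F13073
theorem F18407 : act 4 n3874 = n2729 := d31_1 D3874 (iv D2729) (iv F13074)
theorem F18408 : act 9 n3874 = n2691 := d41_2 (iv F13076) D3874 (iv D2691)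
def n3875 : Q := act 4 n2687
theorem D3875 : act 4 n2687 = n3875 := rfl
theorem F18409 : act 0 n3875 = n2688 := d3_1 D3875 (iv D2688) D2687
theorem F18411 : act 7 n3875 = n2712 := d32_2 (iv F13080) D3875 (iv D2712)
def n3876 : Q := act 3 n2688
theorem D3876 : act 3 n2688 = n3876 := rfl
theorem F18413 : act 1 n3876 = n2689 := d10_1 D3876 (iv D2689) (iv F13082)
theorem F18414 : act 4 n3876 = n3876 := d24_2 D2688 D3876 (iv D3876) (iv D2688) F9323
theorem F18415 : act 7 n3876 = n2713 := d27_2 (iv F13084) D3876 (iv D2713)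
def n3877 : Q := act 5 n2688
theorem D3877 : act 5 n2688 = n3877 := rfl
theorem F18416 : act 1 n3877 = n2690 := d12_1 D3877 (iv D2690) (iv F13082)
theorem F18417 : act 2 n3877 = n3877 := d19_1 D3877 (iv D3877) F13083
theorem F18418 : act 4 n3877 = n2732 := d30_1 D3877 (iv D2732) (iv D1898) (iv F9324) D2688
theorem F18419 : act 7 n3877 = n2714 := d36_2 (iv F13084) D3877 (iv D2714)
theorem F18420 : act 8 n3877 = n3877 := d37_2 F13085 D3877 (iv D3877)
def n3878 : Q := act 5 n2689
theorem D3878 : act 5 n2689 = n3878 := rfl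
theorem F18421 : act 2 n3878 = n3878 := d19_1 D3878 (iv D3878) F13086
theorem F18422 : act 3 n3878 = n2690 := d25_1 D3878 (iv D2690) D2689
theorem F18423 : act 7 n3878 = n2715 := d36_2 (iv F13088) D3878 (iv D2715)
def n3879 : Q := act 8 n2689
theorem D3879 : act 8 n2689 = n3879 := rfl
theorem F18424 : act 2 n3879 = n3879 := d22_1 D3879 (iv D3879) F13086
theorem F18425 : act 3 n3879 = n3879 := d28_1 D3879 (iv D3879) (iv D2689) F9329 D2689
theorem F18426 : act 4 n3879 = n3879 := d33_1 D3879 (iv D3879) F13087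
theorem F18427 : act 7 n3879 = n2716 := d42_1 D3879 (iv D2716) (iv F13088)
def n3880 : Q := act 6 n2690
theorem D3880 : act 6 n2690 = n3880 := rfl
theorem F18428 : act 2 n3880 = n2691 := d20_1 D3880 (iv D2691) (iv F13089)
theorem F18429 : act 4 n3880 = n2735 := d31_1 D3880 (iv D2735) (iv F13090)
theorem F18430 : act 8 n3880 = n3880 := d40_2 F13092 D3880 (iv D3880)
def n3881 : Q := act 7 n2691
theorem D3881 : act 7 n2691 = n3881 := rfl
theorem F18431 : act 1 n3881 = n3881 := d14_1 D3881 (iv D3881) F13093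
theorem F18432 : act 3 n3881 = n3881 := d27_1 D3881 (iv D3881) F13094
theorem F18433 : act 4 n3881 = n2736 := d32_1 D3881 (iv D2736) (iv F13095)
theorem F18434 : act 6 n3881 = n2718 := d39_1 D3881 (iv D2718) (iv D1889) (iv F9333) D2691
theorem F18435 : act 8 n3881 = n3881 := d42_2 F13096 D3881 (iv D3881)
def n3882 : Q := act 8 n2692
theorem D3882 : act 8 n2692 = n3882 := rfl
theorem F18436 : act 0 n3882 = n3882 := d7_1 D3882 (iv D3882) F13097
theorem F18437 : act 1 n3882 = n3882 := d15_1 D3882 (iv D3882) F13098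
theorem F18438 : act 2 n3882 = n2693 := d22_1 D3882 (iv D2693) D2692
theorem F18439 : act 4 n3882 = n3882 := d33_1 D3882 (iv D3882) F13100
theorem F18440 : act 5 n3882 = n3882 := d37_1 D3882 (iv D3882) F13101
theorem F18441 : act 6 n3882 = n3882 := d40_1 D3882 (iv D3882) F13102
def n3883 : Q := act 9 n2692
theorem D3883 : act 9 n2692 = n3883 := rfl
theorem F18444 : act 2 n3883 = n2694 := d23_1 D3883 (iv D2694) D2692
def n3884 : Q := act 9 n2693
theorem D3884 : act 9 n2693 = n3884 := rfl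
def n3885 : Q := act 8 n2694
theorem D3885 : act 8 n2694 = n3885 := rfl
def n3886 : Q := act 3 n2695
theorem D3886 : act 3 n2695 = n3886 := rfl
def n3888 : Q := act 4 n2696
theorem D3888 : act 4 n2696 = n3888 := rfl
def n3889 : Q := act 8 n2697
theorem D3889 : act 8 n2697 = n3889 := rfl
theorem F18480 : act 9 n3889 = n2698 := d44_2 D2697 D3889 (iv D2698) (iv D1876) D1875
def n3890 : Q := act 3 n2698
theorem D3890 : act 3 n2698 = n3890 := rfl
theorem F18483 : act 8 n3890 = n2699 := d28_2 D2698 D3890 (iv D2699) (iv D1877) (iv F9358)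
def n3892 : Q := act 4 n2699
theorem D3892 : act 4 n2699 = n3892 := rfl
theorem F18488 : act 3 n3892 = n2701 := d24_1 D3892 (iv D2701) (iv D1878) (iv F9363) D2699
def n3895 : Q := act 5 n2701
theorem D3895 : act 5 n2701 = n3895 := rfl
theorem F18500 : act 4 n3895 = n2741 := d30_1 D3895 (iv D2741) (iv D1904) (iv F9367) D2701
def n3897 : Q := act 4 n2702
theorem D3897 : act 4 n2702 = n3897 := rfl
theorem F18508 : act 2 n3897 = n2703 := d18_1 D3897 (iv D2703) D2702
def n3898 : Q := act 5 n2703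
theorem D3898 : act 5 n2703 = n3898 := rfl
theorem F18512 : act 1 n3898 = n3898 := d12_1 D3898 (iv D3898) F13152
theorem F18513 : act 3 n3898 = n2706 := d25_1 D3898 (iv D2706) (iv F13153)
theorem F18514 : act 4 n3898 = n3898 := d30_1 D3898 (iv D3898) (iv D2703) F9372 D2703
theorem F18515 : act 8 n3898 = n3898 := d37_2 F13155 D3898 (iv D3898)
theorem F18516 : act 9 n3898 = n3898 := d38_2 F13156 D3898 (iv D3898)
def n3900 : Q := act 4 n2704
theorem D3900 : act 4 n2704 = n3900 := rfl
theorem F18525 : act 8 n3900 = n2708 := d33_2 (iv F13160) D3900 (iv D2708)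
def n3901 : Q := act 3 n2705
theorem D3901 : act 3 n2705 = n3901 := rfl
def n3902 : Q := act 5 n2705
theorem D3902 : act 5 n2705 = n3902 := rfl
theorem F18529 : act 2 n3902 = n2706 := d19_1 D3902 (iv D2706) (iv F13162)
theorem F18530 : act 4 n3902 = n2745 := d30_1 D3902 (iv D2745) (iv D1906) (iv F9376) D2705
theorem F18531 : act 8 n3902 = n2710 := d37_2 (iv F13164) D3902 (iv D2710)
def n3903 : Q := act 6 n2706
theorem D3903 : act 6 n2706 = n3903 := rfl
theorem F18533 : act 1 n3903 = n3903 := d13_1 D3903 (iv D3903) F13166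
theorem F18534 : act 4 n3903 = n2746 := d31_1 D3903 (iv D2746) (iv F13167)
theorem F18535 : act 5 n3903 = n3903 := d35_1 D3903 (iv D3903) (iv D2706) F9381 D2706
theorem F18536 : act 8 n3903 = n2711 := d40_2 (iv F13168) D3903 (iv D2711)
theorem F18537 : act 9 n3903 = n3903 := d41_2 F13169 D3903 (iv D3903)
def n3905 : Q := act 3 n2708
theorem D3905 : act 3 n2708 = n3905 := rfl
theorem F18545 : act 9 n3905 = n2713 := d29_2 (iv F13178) D3905 (iv D2713)
def n3906 : Q := act 5 n2708
theorem D3906 : act 5 n2708 = n3906 := rfl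
theorem F18546 : act 1 n3906 = n2710 := d12_1 D3906 (iv D2710) (iv F13175)
theorem F18548 : act 4 n3906 = n2749 := d30_1 D3906 (iv D2749) (iv D1909) (iv F9386) D2708
theorem F18549 : act 9 n3906 = n2714 := d38_2 (iv F13178) D3906 (iv D2714)
def n3907 : Q := act 5 n2709
theorem D3907 : act 5 n2709 = n3907 := rfl
theorem F18550 : act 2 n3907 = n3907 := d19_1 D3907 (iv D3907) F13179
theorem F18551 : act 3 n3907 = n2710 := d25_1 D3907 (iv D2710) D2709
theorem F18552 : act 9 n3907 = n2715 := d38_2 (iv F13182) D3907 (iv D2715)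
def n3908 : Q := act 8 n2709
theorem D3908 : act 8 n2709 = n3908 := rfl
def n3909 : Q := act 6 n2710
theorem D3909 : act 6 n2710 = n3909 := rfl
theorem F18556 : act 2 n3909 = n2711 := d20_1 D3909 (iv D2711) (iv F13183)
theorem F18557 : act 4 n3909 = n2752 := d31_1 D3909 (iv D2752) (iv F13184)
theorem F18558 : act 5 n3909 = n3909 := d35_1 D3909 (iv D3909) (iv D2710) F9390 D2710
theorem F18559 : act 9 n3909 = n2717 := d41_2 (iv F13185) D3909 (iv D2717)
def n3910 : Q := act 7 n2711
theorem D3910 : act 7 n2711 = n3910 := rfl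
theorem F18560 : act 1 n3910 = n3910 := d14_1 D3910 (iv D3910) F13186
theorem F18561 : act 3 n3910 = n3910 := d27_1 D3910 (iv D3910) F13187
theorem F18562 : act 4 n3910 = n2753 := d32_1 D3910 (iv D2753) (iv F13188)
theorem F18563 : act 5 n3910 = n3910 := d36_1 D3910 (iv D3910) F13189
theorem F18564 : act 9 n3910 = n2718 := d43_2 (iv F13190) D3910 (iv D2718)
def n3911 : Q := act 3 n2712
theorem D3911 : act 3 n2712 = n3911 := rfl
theorem F18565 : act 0 n3911 = n2713 := d2_1 D3911 (iv D2713) (iv F13191)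
def n3912 : Q := act 5 n2712
theorem D3912 : act 5 n2712 = n3912 := rfl
theorem F18568 : act 0 n3912 = n2714 := d4_1 D3912 (iv D2714) (iv F13191)
theorem F18570 : act 4 n3912 = n2755 := d30_1 D3912 (iv D2755) (iv D1913) (iv F9398) D2712
def n3913 : Q := act 2 n2713
theorem D3913 : act 2 n2713 = n3913 := rfl
theorem F18572 : act 1 n3913 = n3913 := d9_1 D3913 (iv D3913) F13195 F9405 (iv F13195)
theorem F18573 : act 3 n3913 = n3913 := d17_2 D2713 D3913 (iv D3913) (iv D2713) F9402
theorem F18574 : act 4 n3913 = n3913 := d18_2 F13196 D3913 (iv D3913)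
theorem F18575 : act 6 n3913 = n3913 := d20_2 F13197 D3913 (iv D3913)
def n3914 : Q := act 5 n2713
theorem D3914 : act 5 n2713 = n3914 := rfl
theorem F18576 : act 1 n3914 = n2715 := d12_1 D3914 (iv D2715) (iv F13195)
theorem F18577 : act 3 n3914 = n2714 := d25_1 D3914 (iv D2714) D2713
def n3915 : Q := act 8 n2713
theorem D3915 : act 8 n2713 = n3915 := rfl
theorem F18578 : act 1 n3915 = n2716 := d15_1 D3915 (iv D2716) (iv F13195)
theorem F18579 : act 3 n3915 = n3915 := d28_1 D3915 (iv D3915) (iv D2713) F9404 D2713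
theorem F18580 : act 4 n3915 = n3915 := d33_1 D3915 (iv D3915) F13196
theorem F18581 : act 6 n3915 = n3915 := d40_1 D3915 (iv D3915) F13197
def n3916 : Q := act 6 n2714
theorem D3916 : act 6 n2714 = n3916 := rfl
theorem F18582 : act 1 n3916 = n2717 := d13_1 D3916 (iv D2717) (iv F13198)
theorem F18583 : act 2 n3916 = n3916 := d20_1 D3916 (iv D3916) F13199
theorem F18584 : act 4 n3916 = n2759 := d31_1 D3916 (iv D2759) (iv F13200)
theorem F18585 : act 5 n3916 = n3916 := d35_1 D3916 (iv D3916) (iv D2714) F9403 D2714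
theorem F18586 : act 8 n3916 = n3916 := d40_2 F13201 D3916 (iv D3916)
def n3917 : Q := act 4 n2715
theorem D3917 : act 4 n2715 = n3917 := rfl
theorem F18587 : act 2 n3917 = n3917 := d18_1 D3917 (iv D3917) F13202
theorem F18588 : act 3 n3917 = n2760 := d24_1 D3917 (iv D2760) F9525 (iv F9409) (iv F13203)
theorem F18589 : act 5 n3917 = n3917 := d30_2 D2715 D3917 (iv D3917) (iv D2715) F9406
def n3918 : Q := act 6 n2715
theorem D3918 : act 6 n2715 = n3918 := rfl
theorem F18590 : act 2 n3918 = n3918 := d20_1 D3918 (iv D3918) F13202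
theorem F18591 : act 3 n3918 = n2717 := d26_1 D3918 (iv D2717) (iv F13203)
theorem F18592 : act 5 n3918 = n3918 := d35_1 D3918 (iv D3918) (iv D2715) F9407 D2715
def n3919 : Q := act 8 n2715
theorem D3919 : act 8 n2715 = n3919 := rfl
theorem F18593 : act 2 n3919 = n3919 := d22_1 D3919 (iv D3919) F13202
theorem F18594 : act 3 n3919 = n3919 := d28_1 D3919 (iv D3919) F13203 F9410 (iv F13203)
theorem F18595 : act 5 n3919 = n2716 := d37_1 D3919 (iv D2716) D2715
def n3920 : Q := act 9 n2716
theorem D3920 : act 9 n2716 = n3920 := rfl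
def n3921 : Q := act 7 n2717
theorem D3921 : act 7 n2717 = n3921 := rfl
theorem F18600 : act 2 n3921 = n2718 := d21_1 D3921 (iv D2718) (iv F13208)
theorem F18601 : act 4 n3921 = n2764 := d32_1 D3921 (iv D2764) (iv F13209)
theorem F18602 : act 5 n3921 = n3921 := d36_1 D3921 (iv D3921) F13210
theorem F18603 : act 8 n3921 = n3921 := d42_2 F13211 D3921 (iv D3921)
def n3923 : Q := act 4 n2719
theorem D3923 : act 4 n2719 = n3923 := rfl
theorem F18611 : act 1 n3923 = n2721 := d11_1 D3923 (iv D2721) (iv F13218)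
def n3924 : Q := act 1 n2720
theorem D3924 : act 1 n2720 = n3924 := rfl
theorem F18617 : act 3 n3924 = n2722 := d10_2 (iv F13223) D3924 (iv D2722)
theorem F18619 : act 7 n3924 = n2739 := d14_2 (iv F13225) D3924 (iv D2739)
def n3925 : Q := act 4 n2720
theorem D3925 : act 4 n2720 = n3925 := rfl
theorem F18622 : act 2 n3925 = n2721 := d18_1 D3925 (iv D2721) D2720
theorem F18624 : act 7 n3925 = n2740 := d32_2 (iv F13225) D3925 (iv D2740)
def n3926 : Q := act 5 n2721
theorem D3926 : act 5 n2721 = n3926 := rfl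
def n3927 : Q := act 0 n2722
theorem D3927 : act 0 n2722 = n3927 := rfl
theorem F18633 : act 7 n3927 = n2742 := d6_2 (iv F13235) D3927 (iv D2742)
def n3928 : Q := act 4 n2722
theorem D3928 : act 4 n2722 = n3928 := rfl
theorem F18636 : act 1 n3928 = n2723 := d11_1 D3928 (iv D2723) D2722
theorem F18639 : act 7 n3928 = n2743 := d32_2 (iv F13235) D3928 (iv D2743)
theorem F18640 : act 8 n3928 = n2726 := d33_2 (iv F13236) D3928 (iv D2726)
def n3929 : Q := act 3 n2723
theorem D3929 : act 3 n2723 = n3929 := rfl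
theorem F18642 : act 2 n3929 = n3929 := d17_1 D3929 (iv D3929) F13238 F9432 (iv F13238)
theorem F18644 : act 7 n3929 = n2744 := d27_2 (iv F13240) D3929 (iv D2744)
def n3930 : Q := act 5 n2723
theorem D3930 : act 5 n2723 = n3930 := rfl
theorem F18646 : act 2 n3930 = n2724 := d19_1 D3930 (iv D2724) (iv F13238)
theorem F18647 : act 7 n3930 = n2745 := d36_2 (iv F13240) D3930 (iv D2745)
theorem F18648 : act 8 n3930 = n2728 := d37_2 (iv F13241) D3930 (iv D2728)
def n3931 : Q := act 6 n2724
theorem D3931 : act 6 n2724 = n3931 := rfl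
theorem F18650 : act 1 n3931 = n3931 := d13_1 D3931 (iv D3931) F13243
theorem F18651 : act 3 n3931 = n3931 := d26_1 D3931 (iv D3931) F13244
theorem F18652 : act 5 n3931 = n3931 := d35_1 D3931 (iv D3931) (iv D2724) F9433 D2724
theorem F18653 : act 8 n3931 = n2729 := d40_2 (iv F13246) D3931 (iv D2729)
theorem F18654 : act 9 n3931 = n3931 := d41_2 F13247 D3931 (iv D3931)
def n3932 : Q := act 4 n2725
theorem D3932 : act 4 n2725 = n3932 := rfl
theorem F18655 : act 0 n3932 = n2726 := d3_1 D3932 (iv D2726) D2725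
theorem F18658 : act 7 n3932 = n2747 := d32_2 (iv F13251) D3932 (iv D2747)
theorem F18659 : act 9 n3932 = n2730 := d34_2 (iv F13252) D3932 (iv D2730)
def n3933 : Q := act 3 n2726
theorem D3933 : act 3 n2726 = n3933 := rfl
theorem F18660 : act 1 n3933 = n2727 := d10_1 D3933 (iv D2727) (iv F13253)
theorem F18663 : act 7 n3933 = n2748 := d27_2 (iv F13256) D3933 (iv D2748)
theorem F18664 : act 9 n3933 = n2731 := d29_2 (iv F13257) D3933 (iv D2731)
def n3934 : Q := act 5 n2726
theorem D3934 : act 5 n2726 = n3934 := rfl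
theorem F18665 : act 1 n3934 = n2728 := d12_1 D3934 (iv D2728) (iv F13253)
theorem F18668 : act 9 n3934 = n2732 := d38_2 (iv F13257) D3934 (iv D2732)
def n3935 : Q := act 5 n2727
theorem D3935 : act 5 n2727 = n3935 := rfl
theorem F18669 : act 2 n3935 = n2810 := d19_1 D3935 (iv D2810) (iv F13258)
theorem F18670 : act 3 n3935 = n2728 := d25_1 D3935 (iv D2728) D2727
theorem F18671 : act 7 n3935 = n2750 := d36_2 (iv F13261) D3935 (iv D2750)
theorem F18672 : act 9 n3935 = n2733 := d38_2 (iv F13262) D3935 (iv D2733)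
def n3936 : Q := act 8 n2727
theorem D3936 : act 8 n2727 = n3936 := rfl
theorem F18673 : act 2 n3936 = n2811 := d22_1 D3936 (iv D2811) (iv F13258)
def n3937 : Q := act 6 n2728
theorem D3937 : act 6 n2728 = n3937 := rfl
theorem F18677 : act 2 n3937 = n2729 := d20_1 D3937 (iv D2729) (iv F13263)
theorem F18678 : act 5 n3937 = n3937 := d35_1 D3937 (iv D3937) (iv D2728) F9443 D2728
theorem F18679 : act 9 n3937 = n2735 := d41_2 (iv F13265) D3937 (iv D2735)
def n3938 : Q := act 7 n2729
theorem D3938 : act 7 n2729 = n3938 := rfl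
theorem F18680 : act 1 n3938 = n3938 := d14_1 D3938 (iv D3938) F13266
theorem F18681 : act 3 n3938 = n2813 := d27_1 D3938 (iv D2813) (iv F13267)
theorem F18682 : act 5 n3938 = n3938 := d36_1 D3938 (iv D3938) F13268
theorem F18683 : act 6 n3938 = n2753 := d39_1 D3938 (iv D2753) (iv D1912) (iv F9448) D2729
theorem F18684 : act 9 n3938 = n2736 := d43_2 (iv F13269) D3938 (iv D2736)
def n3939 : Q := act 3 n2730
theorem D3939 : act 3 n2730 = n3939 := rfl
theorem F18685 : act 0 n3939 = n2731 := d2_1 D3939 (iv D2731) (iv F13270)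
theorem F18688 : act 7 n3939 = n2754 := d27_2 (iv F13273) D3939 (iv D2754)
def n3940 : Q := act 5 n2730
theorem D3940 : act 5 n2730 = n3940 := rfl
theorem F18689 : act 0 n3940 = n2732 := d4_1 D3940 (iv D2732) (iv F13270)
def n3941 : Q := act 2 n2731
theorem D3941 : act 2 n2731 = n3941 := rfl
theorem F18693 : act 1 n3941 = n2816 := d9_1 D3941 (iv D2816) F9687 (iv F9460) (iv F13275)
theorem F18694 : act 3 n3941 = n3941 := d17_2 D2731 D3941 (iv D3941) (iv D2731) F9456
theorem F18695 : act 4 n3941 = n3941 := d18_2 F13276 D3941 (iv D3941)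
theorem F18696 : act 6 n3941 = n3941 := d20_2 F13277 D3941 (iv D3941)
theorem F18697 : act 7 n3941 = n2756 := d21_2 (iv F13278) D3941 (iv D2756)
def n3942 : Q := act 5 n2731
theorem D3942 : act 5 n2731 = n3942 := rfl
theorem F18698 : act 1 n3942 = n2733 := d12_1 D3942 (iv D2733) (iv F13275)
theorem F18699 : act 3 n3942 = n2732 := d25_1 D3942 (iv D2732) D2731
theorem F18700 : act 7 n3942 = n2757 := d36_2 (iv F13278) D3942 (iv D2757)
def n3943 : Q := act 8 n2731
theorem D3943 : act 8 n2731 = n3943 := rfl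
theorem F18701 : act 1 n3943 = n2734 := d15_1 D3943 (iv D2734) (iv F13275)
theorem F18702 : act 3 n3943 = n3943 := d28_1 D3943 (iv D3943) (iv D2731) F9459 D2731
theorem F18703 : act 4 n3943 = n3943 := d33_1 D3943 (iv D3943) F13276
theorem F18704 : act 6 n3943 = n3943 := d40_1 D3943 (iv D3943) F13277
theorem F18705 : act 7 n3943 = n2758 := d42_1 D3943 (iv D2758) (iv F13278)
def n3944 : Q := act 6 n2732
theorem D3944 : act 6 n2732 = n3944 := rfl
theorem F18706 : act 1 n3944 = n2735 := d13_1 D3944 (iv D2735) (iv F13279)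
theorem F18707 : act 2 n3944 = n3944 := d20_1 D3944 (iv D3944) F13280
theorem F18708 : act 5 n3944 = n3944 := d35_1 D3944 (iv D3944) (iv D2732) F9457 D2732
theorem F18709 : act 8 n3944 = n3944 := d40_2 F13282 D3944 (iv D3944)
def n3945 : Q := act 4 n2733
theorem D3945 : act 4 n2733 = n3945 := rfl
theorem F18710 : act 2 n3945 = n2820 := d18_1 D3945 (iv D2820) (iv F13283)
theorem F18711 : act 5 n3945 = n3945 := d30_2 D2733 D3945 (iv D3945) (iv D2733) F9461
theorem F18712 : act 7 n3945 = n2760 := d32_2 (iv F13285) D3945 (iv D2760)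
def n3946 : Q := act 6 n2733
theorem D3946 : act 6 n2733 = n3946 := rfl
theorem F18713 : act 2 n3946 = n2821 := d20_1 D3946 (iv D2821) (iv F13283)
theorem F18714 : act 3 n3946 = n2735 := d26_1 D3946 (iv D2735) (iv F13284)
theorem F18715 : act 5 n3946 = n3946 := d35_1 D3946 (iv D3946) (iv D2733) F9462 D2733
def n3947 : Q := act 8 n2733
theorem D3947 : act 8 n2733 = n3947 := rfl
theorem F18716 : act 2 n3947 = n2822 := d22_1 D3947 (iv D2822) (iv F13283)
theorem F18717 : act 3 n3947 = n3947 := d28_1 D3947 (iv D3947) F13284 F9466 (iv F13284)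
theorem F18718 : act 5 n3947 = n2734 := d37_1 D3947 (iv D2734) D2733
theorem F18719 : act 7 n3947 = n2762 := d42_1 D3947 (iv D2762) (iv F13285)
def n3948 : Q := act 9 n2734
theorem D3948 : act 9 n2734 = n3948 := rfl
def n3949 : Q := act 7 n2735
theorem D3949 : act 7 n2735 = n3949 := rfl
theorem F18725 : act 2 n3949 = n2736 := d21_1 D3949 (iv D2736) (iv F13291)
theorem F18726 : act 5 n3949 = n3949 := d36_1 D3949 (iv D3949) F13292
theorem F18727 : act 6 n3949 = n2764 := d39_1 D3949 (iv D2764) (iv D1918) (iv F9465) D2735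
theorem F18728 : act 8 n3949 = n3949 := d42_2 F13293 D3949 (iv D3949)
def n3952 : Q := act 5 n2738
theorem D3952 : act 5 n2738 = n3952 := rfl
theorem F18740 : act 1 n3952 = n2741 := d12_1 D3952 (iv D2741) (iv F13305)
def n3953 : Q := act 0 n2739
theorem D3953 : act 0 n2739 = n3953 := rfl
theorem F18744 : act 3 n3953 = n2742 := d2_2 (iv F13310) D3953 (iv D2742)
theorem F18745 : act 6 n3953 = n2768 := d5_2 (iv F13311) D3953 (iv D2768)
def n3954 : Q := act 4 n2739
theorem D3954 : act 4 n2739 = n3954 := rfl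
def n3955 : Q := act 3 n2740
theorem D3955 : act 3 n2740 = n3955 := rfl
theorem F18754 : act 6 n3955 = n2770 := d26_2 (iv F13315) D3955 (iv D2770)
def n3956 : Q := act 5 n2740
theorem D3956 : act 5 n2740 = n3956 := rfl
theorem F18756 : act 2 n3956 = n2741 := d19_1 D3956 (iv D2741) (iv F13314)
def n3958 : Q := act 4 n2742
theorem D3958 : act 4 n2742 = n3958 := rfl
theorem F18765 : act 6 n3958 = n2773 := d31_2 (iv F13322) D3958 (iv D2773)
theorem F18766 : act 8 n3958 = n2747 := d33_2 (iv F13323) D3958 (iv D2747)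
def n3959 : Q := act 3 n2743
theorem D3959 : act 3 n2743 = n3959 := rfl
theorem F18769 : act 6 n3959 = n2774 := d26_2 (iv F13327) D3959 (iv D2774)
def n3960 : Q := act 5 n2743
theorem D3960 : act 5 n2743 = n3960 := rfl
theorem F18773 : act 8 n3960 = n2749 := d37_2 (iv F13328) D3960 (iv D2749)
def n3961 : Q := act 5 n2744
theorem D3961 : act 5 n2744 = n3961 := rfl
theorem F18776 : act 3 n3961 = n2745 := d25_1 D3961 (iv D2745) D2744
def n3963 : Q := act 6 n2745
theorem D3963 : act 6 n2745 = n3963 := rfl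
theorem F18781 : act 2 n3963 = n2746 := d20_1 D3963 (iv D2746) (iv F13333)
theorem F18782 : act 5 n3963 = n2778 := d35_1 D3963 (iv D2778) (iv D1928) (iv F9489) D2745
theorem F18783 : act 8 n3963 = n2752 := d40_2 (iv F13334) D3963 (iv D2752)
def n3964 : Q := act 7 n2746
theorem D3964 : act 7 n2746 = n3964 := rfl
theorem F18785 : act 1 n3964 = n3964 := d14_1 D3964 (iv D3964) F13336
theorem F18786 : act 3 n3964 = n3964 := d27_1 D3964 (iv D3964) F13337
theorem F18787 : act 5 n3964 = n2779 := d36_1 D3964 (iv D2779) (iv F13338)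
theorem F18788 : act 8 n3964 = n2753 := d42_2 (iv F13339) D3964 (iv D2753)
theorem F18789 : act 9 n3964 = n3964 := d43_2 F13340 D3964 (iv D3964)
def n3965 : Q := act 3 n2747
theorem D3965 : act 3 n2747 = n3965 := rfl
theorem F18792 : act 6 n3965 = n2780 := d26_2 (iv F13343) D3965 (iv D2780)
theorem F18793 : act 9 n3965 = n2754 := d29_2 (iv F13344) D3965 (iv D2754)
def n3967 : Q := act 2 n2748
theorem D3967 : act 2 n2748 = n3967 := rfl
theorem F18797 : act 1 n3967 = n2827 := d9_1 D3967 (iv D2827) F9716 (iv F9504) (iv F13345)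
theorem F18800 : act 6 n3967 = n2782 := d20_2 (iv F13347) D3967 (iv D2782)
theorem F18801 : act 9 n3967 = n2756 := d23_2 (iv F13348) D3967 (iv D2756)
def n3968 : Q := act 5 n2748
theorem D3968 : act 5 n2748 = n3968 := rfl
theorem F18802 : act 1 n3968 = n2750 := d12_1 D3968 (iv D2750) (iv F13345)
theorem F18803 : act 3 n3968 = n2749 := d25_1 D3968 (iv D2749) D2748
theorem F18804 : act 9 n3968 = n2757 := d38_2 (iv F13348) D3968 (iv D2757)
def n3969 : Q := act 8 n2748
theorem D3969 : act 8 n2748 = n3969 := rfl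
theorem F18805 : act 1 n3969 = n2751 := d15_1 D3969 (iv D2751) (iv F13345)
theorem F18807 : act 6 n3969 = n2784 := d40_1 D3969 (iv D2784) (iv F13347)
def n3970 : Q := act 6 n2749
theorem D3970 : act 6 n2749 = n3970 := rfl
theorem F18808 : act 1 n3970 = n2752 := d13_1 D3970 (iv D2752) (iv F13349)
theorem F18811 : act 9 n3970 = n2759 := d41_2 (iv F13351) D3970 (iv D2759)
def n3971 : Q := act 4 n2750
theorem D3971 : act 4 n2750 = n3971 := rfl
theorem F18812 : act 2 n3971 = n2831 := d18_1 D3971 (iv D2831) (iv F13352)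
theorem F18813 : act 5 n3971 = n3971 := d30_2 D2750 D3971 (iv D3971) (iv D2750) F9505
theorem F18814 : act 9 n3971 = n2760 := d34_2 (iv F13354) D3971 (iv D2760)
def n3972 : Q := act 6 n2750
theorem D3972 : act 6 n2750 = n3972 := rfl
theorem F18815 : act 2 n3972 = n2832 := d20_1 D3972 (iv D2832) (iv F13352)
theorem F18816 : act 3 n3972 = n2752 := d26_1 D3972 (iv D2752) (iv F13353)
theorem F18817 : act 5 n3972 = n2787 := d35_1 D3972 (iv D2787) (iv D1933) (iv F9506) D2750
theorem F18818 : act 9 n3972 = n2761 := d41_2 (iv F13354) D3972 (iv D2761)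
def n3973 : Q := act 8 n2750
theorem D3973 : act 8 n2750 = n3973 := rfl
theorem F18819 : act 2 n3973 = n2833 := d22_1 D3973 (iv D2833) (iv F13352)
def n3974 : Q := act 9 n2751
theorem D3974 : act 9 n2751 = n3974 := rfl
def n3975 : Q := act 7 n2752
theorem D3975 : act 7 n2752 = n3975 := rfl
theorem F18825 : act 2 n3975 = n2753 := d21_1 D3975 (iv D2753) (iv F13358)
theorem F18826 : act 5 n3975 = n2790 := d36_1 D3975 (iv D2790) (iv F13359)
theorem F18827 : act 9 n3975 = n2764 := d43_2 (iv F13360) D3975 (iv D2764)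
def n3976 : Q := act 2 n2754
theorem D3976 : act 2 n2754 = n3976 := rfl
theorem F18828 : act 0 n3976 = n2756 := d1_1 D3976 (iv D2756) (iv F13365)
theorem F18831 : act 6 n3976 = n2791 := d20_2 (iv F13367) D3976 (iv D2791)
def n3977 : Q := act 5 n2754
theorem D3977 : act 5 n2754 = n3977 := rfl
theorem F18832 : act 0 n3977 = n2757 := d4_1 D3977 (iv D2757) (iv F13365)
theorem F18833 : act 3 n3977 = n2755 := d25_1 D3977 (iv D2755) D2754
def n3978 : Q := act 8 n2754
theorem D3978 : act 8 n2754 = n3978 := rfl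
theorem F18834 : act 0 n3978 = n2758 := d7_1 D3978 (iv D2758) (iv F13365)
def n3979 : Q := act 6 n2755
theorem D3979 : act 6 n2755 = n3979 := rfl
theorem F18838 : act 0 n3979 = n2759 := d5_1 D3979 (iv D2759) (iv F13368)
def n3980 : Q := act 5 n2756
theorem D3980 : act 5 n2756 = n3980 := rfl
theorem F18842 : act 1 n3980 = n2840 := d12_1 D3980 (iv D2840) (iv F13371)
theorem F18843 : act 2 n3980 = n2757 := d19_1 D3980 (iv D2757) D2756
theorem F18844 : act 3 n3980 = n3980 := d25_1 D3980 (iv D3980) F13372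
def n3981 : Q := act 8 n2756
theorem D3981 : act 8 n2756 = n3981 := rfl
theorem F18846 : act 2 n3981 = n2758 := d22_1 D3981 (iv D2758) D2756
theorem F18848 : act 6 n3981 = n2796 := d40_1 D3981 (iv D2796) (iv F13374)
def n3982 : Q := act 4 n2757
theorem D3982 : act 4 n2757 = n3982 := rfl
theorem F18849 : act 1 n3982 = n2760 := d11_1 D3982 (iv D2760) (iv F13375)
theorem F18850 : act 5 n3982 = n3982 := d30_2 D2757 D3982 (iv D3982) (iv D2757) F9519
def n3983 : Q := act 6 n2757
theorem D3983 : act 6 n2757 = n3983 := rfl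
theorem F18851 : act 1 n3983 = n2761 := d13_1 D3983 (iv D2761) (iv F13375)
theorem F18852 : act 3 n3983 = n2759 := d26_1 D3983 (iv D2759) (iv F13376)
theorem F18853 : act 5 n3983 = n2798 := d35_1 D3983 (iv D2798) (iv D1940) (iv F9520) D2757
def n3984 : Q := act 8 n2757
theorem D3984 : act 8 n2757 = n3984 := rfl
theorem F18854 : act 1 n3984 = n2762 := d15_1 D3984 (iv D2762) (iv F13375)
theorem F18855 : act 3 n3984 = n3984 := d28_1 D3984 (iv D3984) F13376 F9523 (iv F13376)
theorem F18856 : act 5 n3984 = n2758 := d37_1 D3984 (iv D2758) D2757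
def n3985 : Q := act 9 n2758
theorem D3985 : act 9 n2758 = n3985 := rfl
theorem F18857 : act 1 n3985 = n2763 := d16_1 D3985 (iv D2763) (iv F13377)
theorem F18860 : act 6 n3985 = n2800 := d41_1 D3985 (iv D2800) (iv F13380)
def n3986 : Q := act 7 n2759
theorem D3986 : act 7 n2759 = n3986 := rfl
theorem F18861 : act 1 n3986 = n2764 := d14_1 D3986 (iv D2764) (iv F13381)
theorem F18862 : act 2 n3986 = n3986 := d21_1 D3986 (iv D3986) F13382
theorem F18863 : act 5 n3986 = n2801 := d36_1 D3986 (iv D2801) (iv F13383)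
theorem F18864 : act 8 n3986 = n3986 := d42_2 F13384 D3986 (iv D3986)
def n3987 : Q := act 6 n2760
theorem D3987 : act 6 n2760 = n3987 := rfl
theorem F18865 : act 2 n3987 = n2847 := d20_1 D3987 (iv D2847) (iv F13385)
theorem F18866 : act 4 n3987 = n2761 := d31_1 D3987 (iv D2761) D2760
def n3988 : Q := act 8 n2760
theorem D3988 : act 8 n2760 = n3988 := rfl
theorem F18867 : act 2 n3988 = n2848 := d22_1 D3988 (iv D2848) (iv F13385)
theorem F18868 : act 4 n3988 = n2762 := d33_1 D3988 (iv D2762) D2760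
theorem F18869 : act 5 n3988 = n3988 := d37_1 D3988 (iv D3988) F13386
def n3989 : Q := act 7 n2761
theorem D3989 : act 7 n2761 = n3989 := rfl
theorem F18870 : act 2 n3989 = n2849 := d21_1 D3989 (iv D2849) (iv F13387)
theorem F18871 : act 3 n3989 = n2764 := d27_1 D3989 (iv D2764) (iv F13388)
theorem F18872 : act 5 n3989 = n2804 := d36_1 D3989 (iv D2804) (iv F13389)
def n3990 : Q := act 8 n2761
theorem D3990 : act 8 n2761 = n3990 := rfl
theorem F18873 : act 2 n3990 = n2850 := d22_1 D3990 (iv D2850) (iv F13387)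
theorem F18874 : act 3 n3990 = n3990 := d28_1 D3990 (iv D3990) F13388 F9532 (iv F13388)
theorem F18875 : act 5 n3990 = n2805 := d37_1 D3990 (iv D2805) (iv F13389)
theorem F18876 : act 6 n3990 = n2762 := d40_1 D3990 (iv D2762) D2761
def n3991 : Q := act 9 n2762
theorem D3991 : act 9 n2762 = n3991 := rfl
def n3997 : Q := act 4 n2768
theorem D3997 : act 4 n2768 = n3997 := rfl
def n4000 : Q := act 5 n2770
theorem D4000 : act 5 n2770 = n4000 := rfl
def n4001 : Q := act 8 n2770
theorem D4001 : act 8 n2770 = n4001 := rfl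
def n4004 : Q := act 3 n2773
theorem D4004 : act 3 n2773 = n4004 := rfl
theorem F18939 : act 0 n4004 = n2774 := d2_1 D4004 (iv D2774) (iv F13440)
def n4005 : Q := act 5 n2773
theorem D4005 : act 5 n2773 = n4005 := rfl
theorem F18946 : act 8 n4005 = n2781 := d37_2 (iv F13443) D4005 (iv D2781)
def n4006 : Q := act 2 n2774
theorem D4006 : act 2 n2774 = n4006 := rfl
def n4007 : Q := act 5 n2774
theorem D4007 : act 5 n2774 = n4007 := rfl
theorem F18952 : act 1 n4007 = n2776 := d12_1 D4007 (iv D2776) (iv F13445)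
theorem F18953 : act 3 n4007 = n2775 := d25_1 D4007 (iv D2775) D2774
def n4009 : Q := act 6 n2775
theorem D4009 : act 6 n2775 = n4009 := rfl
theorem F18962 : act 8 n4009 = n2785 := d40_2 (iv F13452) D4009 (iv D2785)
def n4010 : Q := act 4 n2776
theorem D4010 : act 4 n2776 = n4010 := rfl
def n4011 : Q := act 6 n2776
theorem D4011 : act 6 n2776 = n4011 := rfl
theorem F18969 : act 3 n4011 = n2778 := d26_1 D4011 (iv D2778) (iv F13455)
def n4012 : Q := act 8 n2776
theorem D4012 : act 8 n2776 = n4012 := rfl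
theorem F18972 : act 3 n4012 = n2788 := d28_1 D4012 (iv D2788) F9600 (iv F9579) (iv F13455)
def n4014 : Q := act 7 n2778
theorem D4014 : act 7 n2778 = n4014 := rfl
theorem F18979 : act 2 n4014 = n2779 := d21_1 D4014 (iv D2779) (iv F13461)
theorem F18982 : act 8 n4014 = n2790 := d42_2 (iv F13463) D4014 (iv D2790)
def n4015 : Q := act 2 n2780
theorem D4015 : act 2 n2780 = n4015 := rfl
theorem F18984 : act 0 n4015 = n2782 := d1_1 D4015 (iv D2782) (iv F13471)
theorem F18988 : act 9 n4015 = n2791 := d23_2 (iv F13474) D4015 (iv D2791)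
def n4016 : Q := act 5 n2780
theorem D4016 : act 5 n2780 = n4016 := rfl
theorem F18989 : act 0 n4016 = n2783 := d4_1 D4016 (iv D2783) (iv F13471)
theorem F18990 : act 3 n4016 = n2781 := d25_1 D4016 (iv D2781) D2780
theorem F18992 : act 9 n4016 = n2792 := d38_2 (iv F13474) D4016 (iv D2792)
def n4017 : Q := act 8 n2780
theorem D4017 : act 8 n2780 = n4017 := rfl
def n4019 : Q := act 5 n2782
theorem D4019 : act 5 n2782 = n4019 := rfl
theorem F19000 : act 1 n4019 = n2856 := d12_1 D4019 (iv D2856) (iv F13480)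
theorem F19001 : act 2 n4019 = n2783 := d19_1 D4019 (iv D2783) D2782
theorem F19004 : act 9 n4019 = n2795 := d38_2 (iv F13484) D4019 (iv D2795)
def n4020 : Q := act 8 n2782
theorem D4020 : act 8 n2782 = n4020 := rfl
theorem F19006 : act 2 n4020 = n2784 := d22_1 D4020 (iv D2784) D2782
def n4021 : Q := act 4 n2783
theorem D4021 : act 4 n2783 = n4021 := rfl
theorem F19009 : act 1 n4021 = n2786 := d11_1 D4021 (iv D2786) (iv F13485)
theorem F19013 : act 9 n4021 = n2797 := d34_2 (iv F13488) D4021 (iv D2797)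
def n4022 : Q := act 6 n2783
theorem D4022 : act 6 n2783 = n4022 := rfl
theorem F19014 : act 1 n4022 = n2787 := d13_1 D4022 (iv D2787) (iv F13485)
theorem F19015 : act 3 n4022 = n2785 := d26_1 D4022 (iv D2785) (iv F13486)
theorem F19016 : act 9 n4022 = n2798 := d41_2 (iv F13488) D4022 (iv D2798)
def n4023 : Q := act 8 n2783
theorem D4023 : act 8 n2783 = n4023 := rfl
theorem F19017 : act 1 n4023 = n2788 := d15_1 D4023 (iv D2788) (iv F13485)
theorem F19018 : act 5 n4023 = n2784 := d37_1 D4023 (iv D2784) D2783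
def n4024 : Q := act 9 n2784
theorem D4024 : act 9 n2784 = n4024 := rfl
theorem F19020 : act 1 n4024 = n2789 := d16_1 D4024 (iv D2789) (iv F13489)
def n4025 : Q := act 7 n2785
theorem D4025 : act 7 n2785 = n4025 := rfl
theorem F19024 : act 1 n4025 = n2790 := d14_1 D4025 (iv D2790) (iv F13492)
theorem F19028 : act 9 n4025 = n2801 := d43_2 (iv F13495) D4025 (iv D2801)
def n4026 : Q := act 6 n2786
theorem D4026 : act 6 n2786 = n4026 := rfl
theorem F19029 : act 2 n4026 = n2863 := d20_1 D4026 (iv D2863) (iv F13496)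
theorem F19030 : act 3 n4026 = n4026 := d26_1 D4026 (iv D4026) F13497
theorem F19031 : act 4 n4026 = n2787 := d31_1 D4026 (iv D2787) D2786
theorem F19032 : act 9 n4026 = n2802 := d41_2 (iv F13500) D4026 (iv D2802)
def n4027 : Q := act 8 n2786
theorem D4027 : act 8 n2786 = n4027 := rfl
theorem F19033 : act 2 n4027 = n2864 := d22_1 D4027 (iv D2864) (iv F13496)
theorem F19034 : act 4 n4027 = n2788 := d33_1 D4027 (iv D2788) D2786
def n4028 : Q := act 7 n2787
theorem D4028 : act 7 n2787 = n4028 := rfl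
theorem F19037 : act 2 n4028 = n2865 := d21_1 D4028 (iv D2865) (iv F13501)
theorem F19038 : act 3 n4028 = n2790 := d27_1 D4028 (iv D2790) (iv F13502)
theorem F19039 : act 6 n4028 = n4028 := d39_1 D4028 (iv D4028) (iv D2787) F9601 D2787
theorem F19040 : act 9 n4028 = n2804 := d43_2 (iv F13503) D4028 (iv D2804)
def n4029 : Q := act 8 n2787
theorem D4029 : act 8 n2787 = n4029 := rfl
theorem F19041 : act 2 n4029 = n2866 := d22_1 D4029 (iv D2866) (iv F13501)
def n4030 : Q := act 9 n2788
theorem D4030 : act 9 n2788 = n4030 := rfl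
def n4031 : Q := act 1 n2791
theorem D4031 : act 1 n2791 = n4031 := rfl
def n4032 : Q := act 5 n2791
theorem D4032 : act 5 n2791 = n4032 := rfl
theorem F19051 : act 0 n4032 = n2795 := d4_1 D4032 (iv D2795) (iv F13515)
theorem F19052 : act 2 n4032 = n2792 := d19_1 D4032 (iv D2792) D2791
def n4033 : Q := act 8 n2791
theorem D4033 : act 8 n2791 = n4033 := rfl
def n4034 : Q := act 4 n2792
theorem D4034 : act 4 n2792 = n4034 := rfl
theorem F19059 : act 0 n4034 = n2797 := d3_1 D4034 (iv D2797) (iv F13519)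
def n4035 : Q := act 6 n2792
theorem D4035 : act 6 n2792 = n4035 := rfl
theorem F19063 : act 0 n4035 = n2798 := d5_1 D4035 (iv D2798) (iv F13519)
theorem F19064 : act 3 n4035 = n2794 := d26_1 D4035 (iv D2794) (iv F13520)
def n4036 : Q := act 8 n2792
theorem D4036 : act 8 n2792 = n4036 := rfl
theorem F19065 : act 0 n4036 = n2799 := d7_1 D4036 (iv D2799) (iv F13519)
def n4038 : Q := act 7 n2794
theorem D4038 : act 7 n2794 = n4038 := rfl
def n4039 : Q := act 4 n2795
theorem D4039 : act 4 n2795 = n4039 := rfl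
theorem F19078 : act 1 n4039 = n2876 := d11_1 D4039 (iv D2876) (iv F13530)
theorem F19079 : act 2 n4039 = n2797 := d18_1 D4039 (iv D2797) (iv F13531)
theorem F19080 : act 5 n4039 = n4039 := d30_2 D2795 D4039 (iv D4039) (iv D2795) F9624
theorem F19081 : act 7 n4039 = n4039 := d32_2 F13533 D4039 (iv D4039)
def n4040 : Q := act 6 n2795
theorem D4040 : act 6 n2795 = n4040 := rfl
theorem F19082 : act 1 n4040 = n2877 := d13_1 D4040 (iv D2877) (iv F13530)
theorem F19083 : act 2 n4040 = n2798 := d20_1 D4040 (iv D2798) (iv F13531)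
theorem F19084 : act 3 n4040 = n4040 := d26_1 D4040 (iv D4040) F13532
def n4041 : Q := act 8 n2795
theorem D4041 : act 8 n2795 = n4041 := rfl
theorem F19086 : act 2 n4041 = n2799 := d22_1 D4041 (iv D2799) (iv F13531)
theorem F19087 : act 5 n4041 = n2796 := d37_1 D4041 (iv D2796) D2795
def n4042 : Q := act 3 n2796
theorem D4042 : act 3 n2796 = n4042 := rfl
def n4043 : Q := act 9 n2796
theorem D4043 : act 9 n2796 = n4043 := rfl
theorem F19094 : act 2 n4043 = n2800 := d23_1 D4043 (iv D2800) (iv F13535)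
def n4044 : Q := act 6 n2797
theorem D4044 : act 6 n2797 = n4044 := rfl
theorem F19097 : act 1 n4044 = n2802 := d13_1 D4044 (iv D2802) (iv F13538)
theorem F19098 : act 3 n4044 = n4044 := d26_1 D4044 (iv D4044) F13539
theorem F19099 : act 4 n4044 = n2798 := d31_1 D4044 (iv D2798) D2797
def n4045 : Q := act 8 n2797
theorem D4045 : act 8 n2797 = n4045 := rfl
theorem F19100 : act 1 n4045 = n2803 := d15_1 D4045 (iv D2803) (iv F13538)
theorem F19101 : act 4 n4045 = n2799 := d33_1 D4045 (iv D2799) D2797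
theorem F19102 : act 5 n4045 = n4045 := d37_1 D4045 (iv D4045) F13540
theorem F19103 : act 7 n4045 = n4045 := d42_1 D4045 (iv D4045) F13541
def n4046 : Q := act 7 n2798
theorem D4046 : act 7 n2798 = n4046 := rfl
theorem F19104 : act 1 n4046 = n2804 := d14_1 D4046 (iv D2804) (iv F13542)
theorem F19105 : act 3 n4046 = n2801 := d27_1 D4046 (iv D2801) (iv F13543)
theorem F19106 : act 6 n4046 = n4046 := d39_1 D4046 (iv D4046) (iv D2798) F9628 D2798
def n4047 : Q := act 8 n2798
theorem D4047 : act 8 n2798 = n4047 := rfl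
theorem F19107 : act 1 n4047 = n2805 := d15_1 D4047 (iv D2805) (iv F13542)
theorem F19108 : act 3 n4047 = n4047 := d28_1 D4047 (iv D4047) F13543 F9636 (iv F13543)
theorem F19109 : act 6 n4047 = n2799 := d40_1 D4047 (iv D2799) D2798
def n4048 : Q := act 9 n2799
theorem D4048 : act 9 n2799 = n4048 := rfl
theorem F19110 : act 1 n4048 = n2806 := d16_1 D4048 (iv D2806) (iv F13544)
theorem F19112 : act 5 n4048 = n2800 := d38_1 D4048 (iv D2800) (iv F13546)
def n4049 : Q := act 5 n2802
theorem D4049 : act 5 n2802 = n4049 := rfl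
theorem F19114 : act 2 n4049 = n2886 := d19_1 D4049 (iv D2886) (iv F13557)
theorem F19115 : act 3 n4049 = n4049 := d25_1 D4049 (iv D4049) F13558
theorem F19116 : act 6 n4049 = n4049 := d35_2 D2802 D4049 (iv D4049) (iv D2802) F9639
def n4050 : Q := act 7 n2802
theorem D4050 : act 7 n2802 = n4050 := rfl
theorem F19117 : act 2 n4050 = n2887 := d21_1 D4050 (iv D2887) (iv F13557)
theorem F19118 : act 3 n4050 = n4050 := d27_1 D4050 (iv D4050) F13558
theorem F19119 : act 4 n4050 = n2804 := d32_1 D4050 (iv D2804) (iv F13559)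
theorem F19120 : act 6 n4050 = n4050 := d39_1 D4050 (iv D4050) (iv D2802) F9640 D2802
def n4051 : Q := act 8 n2802
theorem D4051 : act 8 n2802 = n4051 := rfl
theorem F19121 : act 2 n4051 = n2888 := d22_1 D4051 (iv D2888) (iv F13557)
theorem F19122 : act 4 n4051 = n2805 := d33_1 D4051 (iv D2805) (iv F13559)
theorem F19123 : act 6 n4051 = n2803 := d40_1 D4051 (iv D2803) D2802
def n4052 : Q := act 3 n2803
theorem D4052 : act 3 n2803 = n4052 := rfl
theorem F19124 : act 2 n4052 = n4052 := d17_1 D4052 (iv D4052) F13560 F9861 (iv F13560)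
theorem F19125 : act 4 n4052 = n4052 := d24_2 (iv F13561) D4052 (iv D4052) F13561 F9644
theorem F19126 : act 5 n4052 = n4052 := d25_2 F13562 D4052 (iv D4052)
theorem F19127 : act 7 n4052 = n4052 := d27_2 F13563 D4052 (iv D4052)
theorem F19128 : act 8 n4052 = n4052 := d28_2 D2803 D4052 (iv D4052) (iv D2803) F9638
def n4053 : Q := act 9 n2803
theorem D4053 : act 9 n2803 = n4053 := rfl
def n4054 : Q := act 8 n2804
theorem D4054 : act 8 n2804 = n4054 := rfl
theorem F19133 : act 2 n4054 = n2890 := d22_1 D4054 (iv D2890) (iv F13564)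
theorem F19134 : act 3 n4054 = n4054 := d28_1 D4054 (iv D4054) F13565 F9654 (iv F13565)
theorem F19135 : act 6 n4054 = n4054 := d40_1 D4054 (iv D4054) F13566
theorem F19136 : act 7 n4054 = n2805 := d42_1 D4054 (iv D2805) D2804
def n4055 : Q := act 9 n2805
theorem D4055 : act 9 n2805 = n4055 := rfl
def n4056 : Q := act 3 n2807
theorem D4056 : act 3 n2807 = n4056 := rfl
theorem F19140 : act 0 n4056 = n2808 := d2_1 D4056 (iv D2808) (iv F13574)
theorem F19141 : act 4 n4056 = n4056 := d24_2 D2807 D4056 (iv D4056) (iv D2807) F9656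
theorem F19142 : act 6 n4056 = n4056 := d26_2 F13576 D4056 (iv D4056)
theorem F19143 : act 7 n4056 = n2825 := d27_2 (iv F13577) D4056 (iv D2825)
theorem F19144 : act 9 n4056 = n2814 := d29_2 (iv F13579) D4056 (iv D2814)
def n4057 : Q := act 5 n2807
theorem D4057 : act 5 n2807 = n4057 := rfl
theorem F19145 : act 0 n4057 = n2809 := d4_1 D4057 (iv D2809) (iv F13574)
theorem F19146 : act 2 n4057 = n4057 := d19_1 D4057 (iv D4057) F13575
theorem F19147 : act 4 n4057 = n4057 := d30_1 D4057 (iv D4057) (iv D2807) F9657 D2807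
theorem F19148 : act 7 n4057 = n2826 := d36_2 (iv F13577) D4057 (iv D2826)
theorem F19149 : act 8 n4057 = n4057 := d37_2 F13578 D4057 (iv D4057)
theorem F19150 : act 9 n4057 = n2815 := d38_2 (iv F13579) D4057 (iv D2815)
def n4058 : Q := act 2 n2808
theorem D4058 : act 2 n2808 = n4058 := rfl
theorem F19154 : act 7 n4058 = n2827 := d21_2 (iv F13583) D4058 (iv D2827)
theorem F19155 : act 9 n4058 = n2816 := d23_2 (iv F13584) D4058 (iv D2816)
def n4059 : Q := act 5 n2808
theorem D4059 : act 5 n2808 = n4059 := rfl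
theorem F19156 : act 1 n4059 = n2810 := d12_1 D4059 (iv D2810) (iv F13580)
theorem F19157 : act 3 n4059 = n2809 := d25_1 D4059 (iv D2809) D2808
theorem F19158 : act 7 n4059 = n2828 := d36_2 (iv F13583) D4059 (iv D2828)
theorem F19159 : act 9 n4059 = n2817 := d38_2 (iv F13584) D4059 (iv D2817)
def n4060 : Q := act 8 n2808
theorem D4060 : act 8 n2808 = n4060 := rfl
theorem F19160 : act 1 n4060 = n2811 := d15_1 D4060 (iv D2811) (iv F13580)
def n4061 : Q := act 6 n2809
theorem D4061 : act 6 n2809 = n4061 := rfl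
theorem F19165 : act 1 n4061 = n2812 := d13_1 D4061 (iv D2812) (iv F13585)
theorem F19166 : act 2 n4061 = n4061 := d20_1 D4061 (iv D4061) F13586
theorem F19167 : act 4 n4061 = n4061 := d31_1 D4061 (iv D4061) F13587
theorem F19168 : act 5 n4061 = n4061 := d35_1 D4061 (iv D4061) (iv D2809) F9664 D2809
theorem F19169 : act 8 n4061 = n4061 := d40_2 F13589 D4061 (iv D4061)
theorem F19170 : act 9 n4061 = n2819 := d41_2 (iv F13590) D4061 (iv D2819)
def n4062 : Q := act 4 n2810
theorem D4062 : act 4 n2810 = n4062 := rfl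
theorem F19171 : act 3 n4062 = n4062 := d24_1 D4062 (iv D4062) F13591 F9673 (iv F13591)
theorem F19172 : act 5 n4062 = n4062 := d30_2 D2810 D4062 (iv D4062) (iv D2810) F9668
theorem F19173 : act 7 n4062 = n2831 := d32_2 (iv F13592) D4062 (iv D2831)
theorem F19174 : act 9 n4062 = n2820 := d34_2 (iv F13593) D4062 (iv D2820)
def n4063 : Q := act 6 n2810
theorem D4063 : act 6 n2810 = n4063 := rfl
theorem F19175 : act 3 n4063 = n2812 := d26_1 D4063 (iv D2812) (iv F13591)
theorem F19176 : act 5 n4063 = n4063 := d35_1 D4063 (iv D4063) (iv D2810) F9669 D2810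
theorem F19177 : act 9 n4063 = n2821 := d41_2 (iv F13593) D4063 (iv D2821)
def n4064 : Q := act 8 n2810
theorem D4064 : act 8 n2810 = n4064 := rfl
theorem F19178 : act 3 n4064 = n4064 := d28_1 D4064 (iv D4064) F13591 F9675 (iv F13591)
theorem F19179 : act 5 n4064 = n2811 := d37_1 D4064 (iv D2811) D2810
theorem F19180 : act 7 n4064 = n2833 := d42_1 D4064 (iv D2833) (iv F13592)
def n4065 : Q := act 9 n2811
theorem D4065 : act 9 n2811 = n4065 := rfl
def n4066 : Q := act 7 n2812
theorem D4066 : act 7 n2812 = n4066 := rfl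
theorem F19186 : act 2 n4066 = n2813 := d21_1 D4066 (iv D2813) (iv F13598)
theorem F19187 : act 4 n4066 = n4066 := d32_1 D4066 (iv D4066) F13599
theorem F19188 : act 5 n4066 = n4066 := d36_1 D4066 (iv D4066) F13600
theorem F19189 : act 6 n4066 = n2835 := d39_1 D4066 (iv D2835) (iv D1965) (iv F9674) D2812
theorem F19190 : act 8 n4066 = n4066 := d42_2 F13601 D4066 (iv D4066)
theorem F19191 : act 9 n4066 = n2824 := d43_2 (iv F13602) D4066 (iv D2824)
def n4067 : Q := act 2 n2814
theorem D4067 : act 2 n2814 = n4067 := rfl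
theorem F19192 : act 0 n4067 = n2816 := d1_1 D4067 (iv D2816) (iv F13609)
def n4068 : Q := act 5 n2814
theorem D4068 : act 5 n2814 = n4068 := rfl
theorem F19197 : act 0 n4068 = n2817 := d4_1 D4068 (iv D2817) (iv F13609)
theorem F19198 : act 3 n4068 = n2815 := d25_1 D4068 (iv D2815) D2814
theorem F19199 : act 7 n4068 = n2837 := d36_2 (iv F13612) D4068 (iv D2837)
def n4069 : Q := act 8 n2814
theorem D4069 : act 8 n2814 = n4069 := rfl
theorem F19201 : act 3 n4069 = n2925 := d28_1 D4069 (iv D2925) (iv D2030) (iv F9686) D2814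
theorem F19204 : act 7 n4069 = n2838 := d42_1 D4069 (iv D2838) (iv F13612)
def n4070 : Q := act 6 n2815
theorem D4070 : act 6 n2815 = n4070 := rfl
theorem F19205 : act 0 n4070 = n2819 := d5_1 D4070 (iv D2819) (iv F13613)
theorem F19206 : act 2 n4070 = n4070 := d20_1 D4070 (iv D4070) F13614
theorem F19207 : act 4 n4070 = n4070 := d31_1 D4070 (iv D4070) F13615
theorem F19208 : act 5 n4070 = n4070 := d35_1 D4070 (iv D4070) (iv D2815) F9684 D2815
theorem F19209 : act 8 n4070 = n2926 := d40_2 (iv F13617) D4070 (iv D2926)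
def n4071 : Q := act 5 n2816
theorem D4071 : act 5 n2816 = n4071 := rfl
theorem F19210 : act 2 n4071 = n2817 := d19_1 D4071 (iv D2817) D2816
def n4072 : Q := act 8 n2816
theorem D4072 : act 8 n2816 = n4072 := rfl
theorem F19213 : act 2 n4072 = n2818 := d22_1 D4072 (iv D2818) D2816
def n4073 : Q := act 4 n2817
theorem D4073 : act 4 n2817 = n4073 := rfl
theorem F19217 : act 1 n4073 = n2820 := d11_1 D4073 (iv D2820) (iv F13622)
theorem F19218 : act 3 n4073 = n4073 := d24_1 D4073 (iv D4073) F13623 F9693 (iv F13623)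
theorem F19219 : act 5 n4073 = n4073 := d30_2 D2817 D4073 (iv D4073) (iv D2817) F9688
theorem F19220 : act 7 n4073 = n2842 := d32_2 (iv F13624) D4073 (iv D2842)
def n4074 : Q := act 6 n2817
theorem D4074 : act 6 n2817 = n4074 := rfl
theorem F19221 : act 1 n4074 = n2821 := d13_1 D4074 (iv D2821) (iv F13622)
theorem F19222 : act 3 n4074 = n2819 := d26_1 D4074 (iv D2819) (iv F13623)
theorem F19223 : act 5 n4074 = n4074 := d35_1 D4074 (iv D4074) (iv D2817) F9689 D2817
def n4075 : Q := act 8 n2817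
theorem D4075 : act 8 n2817 = n4075 := rfl
theorem F19224 : act 1 n4075 = n2822 := d15_1 D4075 (iv D2822) (iv F13622)
theorem F19225 : act 3 n4075 = n2931 := d28_1 D4075 (iv D2931) F10008 (iv F9695) (iv F13623)
def n4076 : Q := act 9 n2818
theorem D4076 : act 9 n2818 = n4076 := rfl
theorem F19228 : act 1 n4076 = n2823 := d16_1 D4076 (iv D2823) (iv F13625)
def n4077 : Q := act 7 n2819
theorem D4077 : act 7 n2819 = n4077 := rfl
theorem F19233 : act 1 n4077 = n2824 := d14_1 D4077 (iv D2824) (iv F13630)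
theorem F19234 : act 2 n4077 = n4077 := d21_1 D4077 (iv D4077) F13631
theorem F19235 : act 4 n4077 = n4077 := d32_1 D4077 (iv D4077) F13632
theorem F19236 : act 5 n4077 = n4077 := d36_1 D4077 (iv D4077) F13633
theorem F19237 : act 6 n4077 = n2846 := d39_1 D4077 (iv D2846) (iv D1972) (iv F9694) D2819
theorem F19238 : act 8 n4077 = n2933 := d42_2 (iv F13634) D4077 (iv D2933)
def n4078 : Q := act 6 n2820
theorem D4078 : act 6 n2820 = n4078 := rfl
theorem F19240 : act 4 n4078 = n2821 := d31_1 D4078 (iv D2821) D2820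
def n4079 : Q := act 8 n2820
theorem D4079 : act 8 n2820 = n4079 := rfl
theorem F19241 : act 4 n4079 = n2822 := d33_1 D4079 (iv D2822) D2820
theorem F19243 : act 7 n4079 = n2848 := d42_1 D4079 (iv D2848) (iv F13637)
def n4080 : Q := act 7 n2821
theorem D4080 : act 7 n2821 = n4080 := rfl
theorem F19244 : act 3 n4080 = n2824 := d27_1 D4080 (iv D2824) (iv F13638)
def n4081 : Q := act 8 n2821
theorem D4081 : act 8 n2821 = n4081 := rfl
theorem F19247 : act 3 n4081 = n2937 := d28_1 D4081 (iv D2937) F10026 (iv F9705) (iv F13638)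
def n4082 : Q := act 9 n2822
theorem D4082 : act 9 n2822 = n4082 := rfl
def n4083 : Q := act 2 n2825
theorem D4083 : act 2 n2825 = n4083 := rfl
theorem F19253 : act 0 n4083 = n2827 := d1_1 D4083 (iv D2827) (iv F13652)
theorem F19256 : act 6 n4083 = n2852 := d20_2 (iv F13654) D4083 (iv D2852)
theorem F19257 : act 9 n4083 = n2836 := d23_2 (iv F13655) D4083 (iv D2836)
def n4084 : Q := act 5 n2825
theorem D4084 : act 5 n2825 = n4084 := rfl
theorem F19258 : act 0 n4084 = n2828 := d4_1 D4084 (iv D2828) (iv F13652)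
theorem F19259 : act 3 n4084 = n2826 := d25_1 D4084 (iv D2826) D2825
theorem F19260 : act 9 n4084 = n2837 := d38_2 (iv F13655) D4084 (iv D2837)
def n4085 : Q := act 8 n2825
theorem D4085 : act 8 n2825 = n4085 := rfl
theorem F19264 : act 6 n4085 = n2854 := d40_1 D4085 (iv D2854) (iv F13654)
def n4086 : Q := act 6 n2826
theorem D4086 : act 6 n2826 = n4086 := rfl
theorem F19265 : act 0 n4086 = n2830 := d5_1 D4086 (iv D2830) (iv F13656)
theorem F19266 : act 2 n4086 = n4086 := d20_1 D4086 (iv D4086) F13657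
theorem F19267 : act 4 n4086 = n4086 := d31_1 D4086 (iv D4086) F13658
theorem F19268 : act 5 n4086 = n2855 := d35_1 D4086 (iv D2855) (iv D1979) (iv F9713) D2826
theorem F19269 : act 8 n4086 = n4086 := d40_2 F13659 D4086 (iv D4086)
theorem F19270 : act 9 n4086 = n2839 := d41_2 (iv F13660) D4086 (iv D2839)
def n4087 : Q := act 5 n2827
theorem D4087 : act 5 n2827 = n4087 := rfl
theorem F19271 : act 2 n4087 = n2828 := d19_1 D4087 (iv D2828) D2827
theorem F19273 : act 9 n4087 = n2840 := d38_2 (iv F13664) D4087 (iv D2840)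
def n4088 : Q := act 8 n2827
theorem D4088 : act 8 n2827 = n4088 := rfl
theorem F19274 : act 2 n4088 = n2829 := d22_1 D4088 (iv D2829) D2827
theorem F19276 : act 6 n4088 = n2857 := d40_1 D4088 (iv D2857) (iv F13663)
def n4089 : Q := act 4 n2828
theorem D4089 : act 4 n2828 = n4089 := rfl
theorem F19277 : act 1 n4089 = n2831 := d11_1 D4089 (iv D2831) (iv F13665)
theorem F19278 : act 3 n4089 = n4089 := d24_1 D4089 (iv D4089) F13666 F9722 (iv F13666)
theorem F19279 : act 5 n4089 = n4089 := d30_2 D2828 D4089 (iv D4089) (iv D2828) F9717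
theorem F19280 : act 9 n4089 = n2842 := d34_2 (iv F13667) D4089 (iv D2842)
def n4090 : Q := act 6 n2828
theorem D4090 : act 6 n2828 = n4090 := rfl
theorem F19281 : act 1 n4090 = n2832 := d13_1 D4090 (iv D2832) (iv F13665)
theorem F19282 : act 3 n4090 = n2830 := d26_1 D4090 (iv D2830) (iv F13666)
theorem F19283 : act 5 n4090 = n2859 := d35_1 D4090 (iv D2859) (iv D1981) (iv F9718) D2828
theorem F19284 : act 9 n4090 = n2843 := d41_2 (iv F13667) D4090 (iv D2843)
def n4091 : Q := act 8 n2828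
theorem D4091 : act 8 n2828 = n4091 := rfl
theorem F19285 : act 1 n4091 = n2833 := d15_1 D4091 (iv D2833) (iv F13665)
def n4092 : Q := act 9 n2829
theorem D4092 : act 9 n2829 = n4092 := rfl
theorem F19288 : act 1 n4092 = n2834 := d16_1 D4092 (iv D2834) (iv F13668)
def n4093 : Q := act 7 n2830
theorem D4093 : act 7 n2830 = n4093 := rfl
theorem F19293 : act 1 n4093 = n2835 := d14_1 D4093 (iv D2835) (iv F13672)
theorem F19294 : act 2 n4093 = n4093 := d21_1 D4093 (iv D4093) F13673
theorem F19295 : act 4 n4093 = n4093 := d32_1 D4093 (iv D4093) F13674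
theorem F19296 : act 5 n4093 = n2862 := d36_1 D4093 (iv D2862) (iv F13675)
theorem F19297 : act 8 n4093 = n4093 := d42_2 F13676 D4093 (iv D4093)
theorem F19298 : act 9 n4093 = n2846 := d43_2 (iv F13677) D4093 (iv D2846)
def n4094 : Q := act 6 n2831
theorem D4094 : act 6 n2831 = n4094 := rfl
theorem F19299 : act 3 n4094 = n4094 := d26_1 D4094 (iv D4094) F13678
theorem F19300 : act 4 n4094 = n2832 := d31_1 D4094 (iv D2832) D2831
theorem F19301 : act 9 n4094 = n2847 := d41_2 (iv F13680) D4094 (iv D2847)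
def n4095 : Q := act 8 n2831
theorem D4095 : act 8 n2831 = n4095 := rfl
theorem F19302 : act 4 n4095 = n2833 := d33_1 D4095 (iv D2833) D2831
theorem F19303 : act 5 n4095 = n4095 := d37_1 D4095 (iv D4095) F13679
def n4096 : Q := act 7 n2832
theorem D4096 : act 7 n2832 = n4096 := rfl
theorem F19304 : act 3 n4096 = n2835 := d27_1 D4096 (iv D2835) (iv F13681)
theorem F19305 : act 5 n4096 = n2865 := d36_1 D4096 (iv D2865) (iv F13682)
theorem F19306 : act 9 n4096 = n2849 := d43_2 (iv F13683) D4096 (iv D2849)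
def n4097 : Q := act 8 n2832
theorem D4097 : act 8 n2832 = n4097 := rfl
theorem F19307 : act 3 n4097 = n4097 := d28_1 D4097 (iv D4097) F13681 F9733 (iv F13681)
theorem F19308 : act 5 n4097 = n2866 := d37_1 D4097 (iv D2866) (iv F13682)
theorem F19309 : act 6 n4097 = n2833 := d40_1 D4097 (iv D2833) D2832
def n4098 : Q := act 9 n2833
theorem D4098 : act 9 n2833 = n4098 := rfl
def n4099 : Q := act 1 n2836
theorem D4099 : act 1 n2836 = n4099 := rfl
theorem F19315 : act 6 n4099 = n2868 := d13_2 (iv F13698) D4099 (iv D2868)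
def n4100 : Q := act 5 n2836
theorem D4100 : act 5 n2836 = n4100 := rfl
theorem F19316 : act 0 n4100 = n2840 := d4_1 D4100 (iv D2840) (iv F13695)
theorem F19317 : act 2 n4100 = n2837 := d19_1 D4100 (iv D2837) D2836
def n4101 : Q := act 8 n2836
theorem D4101 : act 8 n2836 = n4101 := rfl
theorem F19320 : act 2 n4101 = n2838 := d22_1 D4101 (iv D2838) D2836
theorem F19322 : act 6 n4101 = n2870 := d40_1 D4101 (iv D2870) (iv F13698)
def n4102 : Q := act 4 n2837
theorem D4102 : act 4 n2837 = n4102 := rfl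
theorem F19323 : act 0 n4102 = n2842 := d3_1 D4102 (iv D2842) (iv F13699)
theorem F19324 : act 3 n4102 = n4102 := d24_1 D4102 (iv D4102) F13700 F9745 (iv F13700)
theorem F19325 : act 5 n4102 = n4102 := d30_2 D2837 D4102 (iv D4102) (iv D2837) F9741
def n4103 : Q := act 6 n2837
theorem D4103 : act 6 n2837 = n4103 := rfl
theorem F19326 : act 0 n4103 = n2843 := d5_1 D4103 (iv D2843) (iv F13699)
theorem F19327 : act 3 n4103 = n2839 := d26_1 D4103 (iv D2839) (iv F13700)
theorem F19328 : act 5 n4103 = n2872 := d35_1 D4103 (iv D2872) (iv D1990) (iv F9742) D2837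
def n4104 : Q := act 8 n2837
theorem D4104 : act 8 n2837 = n4104 := rfl
theorem F19330 : act 3 n4104 = n2944 := d28_1 D4104 (iv D2944) F10048 (iv F9746) (iv F13700)
def n4105 : Q := act 9 n2838
theorem D4105 : act 9 n2838 = n4105 := rfl
def n4106 : Q := act 7 n2839
theorem D4106 : act 7 n2839 = n4106 := rfl
theorem F19336 : act 0 n4106 = n2846 := d6_1 D4106 (iv D2846) (iv F13705)
theorem F19337 : act 2 n4106 = n4106 := d21_1 D4106 (iv D4106) F13706
theorem F19338 : act 4 n4106 = n4106 := d32_1 D4106 (iv D4106) F13707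
theorem F19339 : act 5 n4106 = n2875 := d36_1 D4106 (iv D2875) (iv F13708)
theorem F19340 : act 8 n4106 = n2946 := d42_2 (iv F13709) D4106 (iv D2946)
def n4107 : Q := act 4 n2840
theorem D4107 : act 4 n2840 = n4107 := rfl
theorem F19341 : act 2 n4107 = n2842 := d18_1 D4107 (iv D2842) (iv F13710)
def n4108 : Q := act 6 n2840
theorem D4108 : act 6 n2840 = n4108 := rfl
theorem F19343 : act 2 n4108 = n2843 := d20_1 D4108 (iv D2843) (iv F13710)
theorem F19345 : act 5 n4108 = n2877 := d35_1 D4108 (iv D2877) (iv D1993) (iv F9749) D2840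
def n4109 : Q := act 8 n2840
theorem D4109 : act 8 n2840 = n4109 := rfl
theorem F19346 : act 2 n4109 = n2844 := d22_1 D4109 (iv D2844) (iv F13710)
def n4112 : Q := act 6 n2842
theorem D4112 : act 6 n2842 = n4112 := rfl
theorem F19354 : act 1 n4112 = n2847 := d13_1 D4112 (iv D2847) (iv F13715)
theorem F19355 : act 3 n4112 = n4112 := d26_1 D4112 (iv D4112) F13716
theorem F19356 : act 4 n4112 = n2843 := d31_1 D4112 (iv D2843) D2842
def n4113 : Q := act 8 n2842
theorem D4113 : act 8 n2842 = n4113 := rfl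
theorem F19357 : act 1 n4113 = n2848 := d15_1 D4113 (iv D2848) (iv F13715)
theorem F19358 : act 4 n4113 = n2844 := d33_1 D4113 (iv D2844) D2842
def n4114 : Q := act 7 n2843
theorem D4114 : act 7 n2843 = n4114 := rfl
theorem F19360 : act 1 n4114 = n2849 := d14_1 D4114 (iv D2849) (iv F13718)
theorem F19361 : act 3 n4114 = n2846 := d27_1 D4114 (iv D2846) (iv F13719)
theorem F19362 : act 5 n4114 = n2883 := d36_1 D4114 (iv D2883) (iv F13720)
def n4115 : Q := act 8 n2843
theorem D4115 : act 8 n2843 = n4115 := rfl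
theorem F19363 : act 1 n4115 = n2850 := d15_1 D4115 (iv D2850) (iv F13718)
theorem F19364 : act 3 n4115 = n2955 := d28_1 D4115 (iv D2955) F10071 (iv F9760) (iv F13719)
def n4116 : Q := act 9 n2844
theorem D4116 : act 9 n2844 = n4116 := rfl
theorem F19367 : act 1 n4116 = n2851 := d16_1 D4116 (iv D2851) (iv F13721)
def n4117 : Q := act 5 n2847
theorem D4117 : act 5 n2847 = n4117 := rfl
theorem F19371 : act 4 n4117 = n2886 := d30_1 D4117 (iv D2886) F9860 (iv F9764) (iv F13734)
def n4118 : Q := act 7 n2847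
theorem D4118 : act 7 n2847 = n4118 := rfl
theorem F19374 : act 4 n4118 = n2849 := d32_1 D4118 (iv D2849) (iv F13734)
def n4119 : Q := act 8 n2847
theorem D4119 : act 8 n2847 = n4119 := rfl
theorem F19375 : act 4 n4119 = n2850 := d33_1 D4119 (iv D2850) (iv F13734)
theorem F19376 : act 6 n4119 = n2848 := d40_1 D4119 (iv D2848) D2847
def n4120 : Q := act 3 n2848
theorem D4120 : act 3 n2848 = n4120 := rfl
theorem F19377 : act 4 n4120 = n2959 := d24_2 (iv F13735) D4120 (iv D2959) F10091 (iv F9765)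
def n4121 : Q := act 9 n2848
theorem D4121 : act 9 n2848 = n4121 := rfl
def n4122 : Q := act 8 n2849
theorem D4122 : act 8 n2849 = n4122 := rfl
theorem F19382 : act 3 n4122 = n2961 := d28_1 D4122 (iv D2961) F10094 (iv F9773) (iv F13737)
theorem F19383 : act 5 n4122 = n2890 := d37_1 D4122 (iv D2890) (iv F13738)
def n4123 : Q := act 9 n2850
theorem D4123 : act 9 n2850 = n4123 := rfl
def n4124 : Q := act 1 n2852
theorem D4124 : act 1 n2852 = n4124 := rfl
theorem F19391 : act 9 n4124 = n2868 := d16_2 (iv F13748) D4124 (iv D2868)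
def n4125 : Q := act 5 n2852
theorem D4125 : act 5 n2852 = n4125 := rfl
theorem F19392 : act 0 n4125 = n2856 := d4_1 D4125 (iv D2856) (iv F13744)
theorem F19393 : act 2 n4125 = n2853 := d19_1 D4125 (iv D2853) D2852
theorem F19396 : act 9 n4125 = n2869 := d38_2 (iv F13748) D4125 (iv D2869)
def n4126 : Q := act 8 n2852
theorem D4126 : act 8 n2852 = n4126 := rfl
def n4127 : Q := act 4 n2853
theorem D4127 : act 4 n2853 = n4127 := rfl
theorem F19401 : act 0 n4127 = n2858 := d3_1 D4127 (iv D2858) (iv F13749)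
theorem F19402 : act 3 n4127 = n2895 := d24_1 D4127 (iv D2895) F9879 (iv F9780) (iv F13750)
theorem F19403 : act 5 n4127 = n4127 := d30_2 D2853 D4127 (iv D4127) (iv D2853) F9775
theorem F19404 : act 7 n4127 = n4127 := d32_2 F13751 D4127 (iv D4127)
theorem F19405 : act 9 n4127 = n2871 := d34_2 (iv F13752) D4127 (iv D2871)
def n4128 : Q := act 6 n2853
theorem D4128 : act 6 n2853 = n4128 := rfl
theorem F19406 : act 0 n4128 = n2859 := d5_1 D4128 (iv D2859) (iv F13749)
theorem F19407 : act 3 n4128 = n2855 := d26_1 D4128 (iv D2855) (iv F13750)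
theorem F19408 : act 9 n4128 = n2872 := d41_2 (iv F13752) D4128 (iv D2872)
def n4129 : Q := act 8 n2853
theorem D4129 : act 8 n2853 = n4129 := rfl
theorem F19411 : act 5 n4129 = n2854 := d37_1 D4129 (iv D2854) D2853
def n4130 : Q := act 9 n2854
theorem D4130 : act 9 n2854 = n4130 := rfl
def n4131 : Q := act 7 n2855
theorem D4131 : act 7 n2855 = n4131 := rfl
theorem F19418 : act 0 n4131 = n2862 := d6_1 D4131 (iv D2862) (iv F13757)
theorem F19419 : act 2 n4131 = n4131 := d21_1 D4131 (iv D4131) F13758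
theorem F19420 : act 4 n4131 = n2898 := d32_1 D4131 (iv D2898) (iv F13759)
theorem F19421 : act 6 n4131 = n4131 := d39_1 D4131 (iv D4131) (iv D2855) F9781 D2855
theorem F19422 : act 8 n4131 = n4131 := d42_2 F13760 D4131 (iv D4131)
theorem F19423 : act 9 n4131 = n2875 := d43_2 (iv F13761) D4131 (iv D2875)
def n4132 : Q := act 4 n2856
theorem D4132 : act 4 n2856 = n4132 := rfl
theorem F19424 : act 2 n4132 = n2858 := d18_1 D4132 (iv D2858) (iv F13762)
theorem F19427 : act 9 n4132 = n2876 := d34_2 (iv F13765) D4132 (iv D2876)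
def n4133 : Q := act 6 n2856
theorem D4133 : act 6 n2856 = n4133 := rfl
theorem F19428 : act 2 n4133 = n2859 := d20_1 D4133 (iv D2859) (iv F13762)
theorem F19430 : act 9 n4133 = n2877 := d41_2 (iv F13765) D4133 (iv D2877)
def n4134 : Q := act 8 n2856
theorem D4134 : act 8 n2856 = n4134 := rfl
theorem F19431 : act 2 n4134 = n2860 := d22_1 D4134 (iv D2860) (iv F13762)
theorem F19432 : act 5 n4134 = n2857 := d37_1 D4134 (iv D2857) D2856
def n4135 : Q := act 3 n2857
theorem D4135 : act 3 n2857 = n4135 := rfl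
def n4136 : Q := act 9 n2857
theorem D4136 : act 9 n2857 = n4136 := rfl
theorem F19437 : act 2 n4136 = n2861 := d23_1 D4136 (iv D2861) (iv F13766)
def n4137 : Q := act 6 n2858
theorem D4137 : act 6 n2858 = n4137 := rfl
theorem F19441 : act 1 n4137 = n2863 := d13_1 D4137 (iv D2863) (iv F13769)
theorem F19442 : act 3 n4137 = n2903 := d26_1 D4137 (iv D2903) (iv F13770)
theorem F19443 : act 4 n4137 = n2859 := d31_1 D4137 (iv D2859) D2858
theorem F19444 : act 9 n4137 = n2881 := d41_2 (iv F13773) D4137 (iv D2881)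
def n4138 : Q := act 8 n2858
theorem D4138 : act 8 n2858 = n4138 := rfl
theorem F19445 : act 1 n4138 = n2864 := d15_1 D4138 (iv D2864) (iv F13769)
theorem F19446 : act 4 n4138 = n2860 := d33_1 D4138 (iv D2860) D2858
def n4139 : Q := act 7 n2859
theorem D4139 : act 7 n2859 = n4139 := rfl
theorem F19449 : act 1 n4139 = n2865 := d14_1 D4139 (iv D2865) (iv F13774)
theorem F19450 : act 3 n4139 = n2862 := d27_1 D4139 (iv D2862) (iv F13775)
theorem F19451 : act 6 n4139 = n4139 := d39_1 D4139 (iv D4139) (iv D2859) F9790 D2859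
theorem F19452 : act 9 n4139 = n2883 := d43_2 (iv F13776) D4139 (iv D2883)
def n4140 : Q := act 8 n2859
theorem D4140 : act 8 n2859 = n4140 := rfl
theorem F19453 : act 1 n4140 = n2866 := d15_1 D4140 (iv D2866) (iv F13774)
def n4141 : Q := act 9 n2860
theorem D4141 : act 9 n2860 = n4141 := rfl
theorem F19456 : act 1 n4141 = n2867 := d16_1 D4141 (iv D2867) (iv F13777)
def n4142 : Q := act 5 n2863
theorem D4142 : act 5 n2863 = n4142 := rfl
theorem F19461 : act 3 n4142 = n2907 := d25_1 D4142 (iv D2907) (iv F13792)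
theorem F19462 : act 6 n4142 = n4142 := d35_2 D2863 D4142 (iv D4142) (iv D2863) F9802
theorem F19463 : act 9 n4142 = n2886 := d38_2 (iv F13794) D4142 (iv D2886)
def n4143 : Q := act 7 n2863
theorem D4143 : act 7 n2863 = n4143 := rfl
theorem F19464 : act 3 n4143 = n2908 := d27_1 D4143 (iv D2908) (iv F13792)
theorem F19465 : act 4 n4143 = n2865 := d32_1 D4143 (iv D2865) (iv F13793)
theorem F19466 : act 6 n4143 = n4143 := d39_1 D4143 (iv D4143) (iv D2863) F9803 D2863
theorem F19467 : act 9 n4143 = n2887 := d43_2 (iv F13794) D4143 (iv D2887)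
def n4144 : Q := act 8 n2863
theorem D4144 : act 8 n2863 = n4144 := rfl
theorem F19468 : act 4 n4144 = n2866 := d33_1 D4144 (iv D2866) (iv F13793)
theorem F19469 : act 6 n4144 = n2864 := d40_1 D4144 (iv D2864) D2863
def n4145 : Q := act 3 n2864
theorem D4145 : act 3 n2864 = n4145 := rfl
theorem F19470 : act 4 n4145 = n4145 := d24_2 (iv F13795) D4145 (iv D4145) F13795 F9807
theorem F19471 : act 5 n4145 = n4145 := d25_2 F13796 D4145 (iv D4145)
theorem F19472 : act 7 n4145 = n4145 := d27_2 F13797 D4145 (iv D4145)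
theorem F19473 : act 8 n4145 = n2910 := d28_2 D2864 D4145 (iv D2910) (iv D2016) (iv F9801)
def n4146 : Q := act 9 n2864
theorem D4146 : act 9 n2864 = n4146 := rfl
theorem F19474 : act 4 n4146 = n2867 := d34_1 D4146 (iv D2867) (iv F13795)
theorem F19477 : act 8 n4146 = n2889 := d44_1 D4146 (iv D2889) (iv D2001) (iv F9804) D2864
def n4147 : Q := act 8 n2865
theorem D4147 : act 8 n2865 = n4147 := rfl
theorem F19478 : act 3 n4147 = n4147 := d28_1 D4147 (iv D4147) F13798 F9817 (iv F13798)
theorem F19479 : act 6 n4147 = n4147 := d40_1 D4147 (iv D4147) F13799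
theorem F19480 : act 7 n4147 = n2866 := d42_1 D4147 (iv D2866) D2865
def n4148 : Q := act 9 n2866
theorem D4148 : act 9 n2866 = n4148 := rfl
def n4149 : Q := act 5 n2868
theorem D4149 : act 5 n2868 = n4149 := rfl
theorem F19484 : act 1 n4149 = n2869 := d12_1 D4149 (iv D2869) D2868
def n4151 : Q := act 4 n2869
theorem D4151 : act 4 n2869 = n4151 := rfl
theorem F19491 : act 2 n4151 = n2871 := d18_1 D4151 (iv D2871) (iv F13811)
def n4152 : Q := act 6 n2869
theorem D4152 : act 6 n2869 = n4152 := rfl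
theorem F19495 : act 2 n4152 = n2872 := d20_1 D4152 (iv D2872) (iv F13811)
def n4153 : Q := act 8 n2869
theorem D4153 : act 8 n2869 = n4153 := rfl
theorem F19499 : act 5 n4153 = n2870 := d37_1 D4153 (iv D2870) D2869
def n4156 : Q := act 6 n2871
theorem D4156 : act 6 n2871 = n4156 := rfl
theorem F19509 : act 0 n4156 = n2881 := d5_1 D4156 (iv D2881) (iv F13818)
theorem F19510 : act 3 n4156 = n2915 := d26_1 D4156 (iv D2915) (iv F13819)
theorem F19511 : act 4 n4156 = n2872 := d31_1 D4156 (iv D2872) D2871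
def n4157 : Q := act 8 n2871
theorem D4157 : act 8 n2871 = n4157 := rfl
theorem F19514 : act 4 n4157 = n2873 := d33_1 D4157 (iv D2873) D2871
def n4158 : Q := act 7 n2872
theorem D4158 : act 7 n2872 = n4158 := rfl
theorem F19517 : act 0 n4158 = n2883 := d6_1 D4158 (iv D2883) (iv F13822)
theorem F19518 : act 3 n4158 = n2875 := d27_1 D4158 (iv D2875) (iv F13823)
theorem F19519 : act 6 n4158 = n4158 := d39_1 D4158 (iv D4158) (iv D2872) F9825 D2872
def n4159 : Q := act 8 n2872
theorem D4159 : act 8 n2872 = n4159 := rfl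
theorem F19521 : act 3 n4159 = n2970 := d28_1 D4159 (iv D2970) F10119 (iv F9833) (iv F13823)
def n4160 : Q := act 9 n2873
theorem D4160 : act 9 n2873 = n4160 := rfl
def n4161 : Q := act 3 n2876
theorem D4161 : act 3 n2876 = n4161 := rfl
theorem F19527 : act 2 n4161 = n2917 := d17_1 D4161 (iv D2917) F9966 (iv F9841) (iv F13837)
def n4162 : Q := act 6 n2876
theorem D4162 : act 6 n2876 = n4162 := rfl
theorem F19531 : act 2 n4162 = n2881 := d20_1 D4162 (iv D2881) (iv F13837)
theorem F19532 : act 4 n4162 = n2877 := d31_1 D4162 (iv D2877) D2876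
def n4164 : Q := act 7 n2877
theorem D4164 : act 7 n2877 = n4164 := rfl
theorem F19537 : act 2 n4164 = n2883 := d21_1 D4164 (iv D2883) (iv F13840)
def n4165 : Q := act 8 n2877
theorem D4165 : act 8 n2877 = n4165 := rfl
theorem F19540 : act 2 n4165 = n2884 := d22_1 D4165 (iv D2884) (iv F13840)
def n4170 : Q := act 5 n2881
theorem D4170 : act 5 n2881 = n4170 := rfl
theorem F19556 : act 1 n4170 = n2886 := d12_1 D4170 (iv D2886) (iv F13851)
theorem F19557 : act 3 n4170 = n2920 := d25_1 D4170 (iv D2920) (iv F13852)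
theorem F19558 : act 6 n4170 = n4170 := d35_2 D2881 D4170 (iv D4170) (iv D2881) F9842
def n4171 : Q := act 7 n2881
theorem D4171 : act 7 n2881 = n4171 := rfl
theorem F19559 : act 1 n4171 = n2887 := d14_1 D4171 (iv D2887) (iv F13851)
theorem F19560 : act 3 n4171 = n2921 := d27_1 D4171 (iv D2921) (iv F13852)
theorem F19561 : act 4 n4171 = n2883 := d32_1 D4171 (iv D2883) (iv F13853)
theorem F19562 : act 6 n4171 = n4171 := d39_1 D4171 (iv D4171) (iv D2881) F9843 D2881
def n4172 : Q := act 8 n2881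
theorem D4172 : act 8 n2881 = n4172 := rfl
theorem F19565 : act 4 n4172 = n2884 := d33_1 D4172 (iv D2884) (iv F13853)
def n4173 : Q := act 9 n2882
theorem D4173 : act 9 n2882 = n4173 := rfl
theorem F19567 : act 1 n4173 = n2889 := d16_1 D4173 (iv D2889) (iv F13854)
def n4174 : Q := act 8 n2883
theorem D4174 : act 8 n2883 = n4174 := rfl
theorem F19573 : act 3 n4174 = n2978 := d28_1 D4174 (iv D2978) F10154 (iv F9858) (iv F13860)
def n4175 : Q := act 9 n2884
theorem D4175 : act 9 n2884 = n4175 := rfl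
def n4176 : Q := act 7 n2886
theorem D4176 : act 7 n2886 = n4176 := rfl
theorem F19579 : act 3 n4176 = n2922 := d27_1 D4176 (iv D2922) (iv F13869)
theorem F19580 : act 5 n4176 = n2887 := d36_1 D4176 (iv D2887) D2886
def n4177 : Q := act 8 n2886
theorem D4177 : act 8 n2886 = n4177 := rfl
def n4178 : Q := act 8 n2887
theorem D4178 : act 8 n2887 = n4178 := rfl
theorem F19585 : act 4 n4178 = n2890 := d33_1 D4178 (iv D2890) (iv F13872)
def n4179 : Q := act 9 n2888
theorem D4179 : act 9 n2888 = n4179 := rfl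
def n4180 : Q := act 9 n2890
theorem D4180 : act 9 n2890 = n4180 := rfl
theorem F19591 : act 3 n4180 = n2980 := d29_1 D4180 (iv D2980) (iv F13881)
def n4181 : Q := act 5 n2892
theorem D4181 : act 5 n2892 = n4181 := rfl
theorem F19594 : act 0 n4181 = n4181 := d4_1 D4181 (iv D4181) F13886
theorem F19595 : act 1 n4181 = n2893 := d12_1 D4181 (iv D2893) D2892
theorem F19596 : act 3 n4181 = n4181 := d25_1 D4181 (iv D4181) F13887
theorem F19597 : act 7 n4181 = n4181 := d36_2 F13890 D4181 (iv D4181)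
theorem F19598 : act 9 n4181 = n2912 := d38_2 (iv F13891) D4181 (iv D2912)
def n4182 : Q := act 8 n2892
theorem D4182 : act 8 n2892 = n4182 := rfl
theorem F19600 : act 1 n4182 = n2894 := d15_1 D4182 (iv D2894) D2892
def n4183 : Q := act 4 n2893
theorem D4183 : act 4 n2893 = n4183 := rfl
theorem F19605 : act 0 n4183 = n2899 := d3_1 D4183 (iv D2899) (iv F13892)
theorem F19606 : act 2 n4183 = n2895 := d18_1 D4183 (iv D2895) (iv F13893)
theorem F19607 : act 5 n4183 = n4183 := d30_2 D2893 D4183 (iv D4183) (iv D2893) F9874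
theorem F19608 : act 7 n4183 = n4183 := d32_2 F13895 D4183 (iv D4183)
theorem F19609 : act 9 n4183 = n2913 := d34_2 (iv F13896) D4183 (iv D2913)
def n4184 : Q := act 6 n2893
theorem D4184 : act 6 n2893 = n4184 := rfl
theorem F19610 : act 0 n4184 = n2900 := d5_1 D4184 (iv D2900) (iv F13892)
theorem F19611 : act 2 n4184 = n2896 := d20_1 D4184 (iv D2896) (iv F13893)
theorem F19612 : act 3 n4184 = n4184 := d26_1 D4184 (iv D4184) F13894
theorem F19613 : act 5 n4184 = n4184 := d35_1 D4184 (iv D4184) (iv D2893) F9875 D2893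
theorem F19614 : act 9 n4184 = n2914 := d41_2 (iv F13896) D4184 (iv D2914)
def n4185 : Q := act 8 n2893
theorem D4185 : act 8 n2893 = n4185 := rfl
theorem F19615 : act 0 n4185 = n2901 := d7_1 D4185 (iv D2901) (iv F13892)
theorem F19616 : act 2 n4185 = n2897 := d22_1 D4185 (iv D2897) (iv F13893)
theorem F19617 : act 5 n4185 = n2894 := d37_1 D4185 (iv D2894) D2893
theorem F19618 : act 7 n4185 = n4185 := d42_1 D4185 (iv D4185) F13895
theorem F19619 : act 9 n4185 = n4185 := d44_2 (iv F13896) D4185 (iv D4185) F13896 F9951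
def n4186 : Q := act 3 n2894
theorem D4186 : act 3 n2894 = n4186 := rfl
theorem F19620 : act 0 n4186 = n2902 := d2_1 D4186 (iv D2902) (iv F13897)
def n4187 : Q := act 6 n2895
theorem D4187 : act 6 n2895 = n4187 := rfl
theorem F19626 : act 0 n4187 = n2903 := d5_1 D4187 (iv D2903) (iv F13903)
theorem F19627 : act 4 n4187 = n2896 := d31_1 D4187 (iv D2896) D2895
theorem F19628 : act 9 n4187 = n2915 := d41_2 (iv F13906) D4187 (iv D2915)
def n4188 : Q := act 8 n2895
theorem D4188 : act 8 n2895 = n4188 := rfl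
theorem F19629 : act 0 n4188 = n2904 := d7_1 D4188 (iv D2904) (iv F13903)
theorem F19630 : act 4 n4188 = n2897 := d33_1 D4188 (iv D2897) D2895
theorem F19631 : act 5 n4188 = n4188 := d37_1 D4188 (iv D4188) F13904
theorem F19632 : act 7 n4188 = n4188 := d42_1 D4188 (iv D4188) F13905
theorem F19633 : act 9 n4188 = n4188 := d44_2 (iv F13906) D4188 (iv D4188) F13906 F9955
def n4189 : Q := act 7 n2896
theorem D4189 : act 7 n2896 = n4189 := rfl
theorem F19634 : act 0 n4189 = n2905 := d6_1 D4189 (iv D2905) (iv F13907)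
theorem F19635 : act 3 n4189 = n2898 := d27_1 D4189 (iv D2898) (iv F13908)
theorem F19636 : act 5 n4189 = n4189 := d36_1 D4189 (iv D4189) F13909
theorem F19637 : act 6 n4189 = n4189 := d39_1 D4189 (iv D4189) (iv D2896) F9880 D2896
theorem F19638 : act 9 n4189 = n2916 := d43_2 (iv F13910) D4189 (iv D2916)
def n4190 : Q := act 8 n2896
theorem D4190 : act 8 n2896 = n4190 := rfl
theorem F19639 : act 0 n4190 = n2906 := d7_1 D4190 (iv D2906) (iv F13907)
theorem F19640 : act 3 n4190 = n4190 := d28_1 D4190 (iv D4190) F13908 F9891 (iv F13908)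
theorem F19641 : act 5 n4190 = n4190 := d37_1 D4190 (iv D4190) F13909
theorem F19642 : act 6 n4190 = n2897 := d40_1 D4190 (iv D2897) D2896
theorem F19643 : act 9 n4190 = n4190 := d44_2 (iv F13910) D4190 (iv D4190) F13910 F9959
def n4191 : Q := act 3 n2899
theorem D4191 : act 3 n2899 = n4191 := rfl
theorem F19644 : act 1 n4191 = n4191 := d10_1 D4191 (iv D4191) F13922
theorem F19645 : act 4 n4191 = n4191 := d24_2 D2899 D4191 (iv D4191) (iv D2899) F9895
theorem F19646 : act 5 n4191 = n4191 := d25_2 F13924 D4191 (iv D4191)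
theorem F19647 : act 7 n4191 = n4191 := d27_2 F13925 D4191 (iv D4191)
theorem F19648 : act 9 n4191 = n2917 := d29_2 (iv F13926) D4191 (iv D2917)
def n4192 : Q := act 6 n2899
theorem D4192 : act 6 n2899 = n4192 := rfl
theorem F19649 : act 1 n4192 = n4192 := d13_1 D4192 (iv D4192) F13922
theorem F19650 : act 2 n4192 = n2903 := d20_1 D4192 (iv D2903) (iv F13923)
theorem F19651 : act 4 n4192 = n2900 := d31_1 D4192 (iv D2900) D2899
theorem F19652 : act 9 n4192 = n2918 := d41_2 (iv F13926) D4192 (iv D2918)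
def n4193 : Q := act 8 n2899
theorem D4193 : act 8 n2899 = n4193 := rfl
theorem F19653 : act 1 n4193 = n4193 := d15_1 D4193 (iv D4193) F13922
theorem F19654 : act 2 n4193 = n2904 := d22_1 D4193 (iv D2904) (iv F13923)
theorem F19655 : act 4 n4193 = n2901 := d33_1 D4193 (iv D2901) D2899
theorem F19656 : act 5 n4193 = n4193 := d37_1 D4193 (iv D4193) F13924
theorem F19657 : act 7 n4193 = n4193 := d42_1 D4193 (iv D4193) F13925
theorem F19658 : act 9 n4193 = n4193 := d44_2 (iv F13926) D4193 (iv D4193) F13926 F9969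
def n4194 : Q := act 7 n2900
theorem D4194 : act 7 n2900 = n4194 := rfl
theorem F19659 : act 1 n4194 = n4194 := d14_1 D4194 (iv D4194) F13927
theorem F19660 : act 2 n4194 = n2905 := d21_1 D4194 (iv D2905) (iv F13928)
theorem F19661 : act 3 n4194 = n4194 := d27_1 D4194 (iv D4194) F13929
theorem F19662 : act 5 n4194 = n4194 := d36_1 D4194 (iv D4194) F13930
theorem F19663 : act 6 n4194 = n4194 := d39_1 D4194 (iv D4194) (iv D2900) F9896 D2900
theorem F19664 : act 9 n4194 = n2919 := d43_2 (iv F13931) D4194 (iv D2919)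
def n4195 : Q := act 8 n2900
theorem D4195 : act 8 n2900 = n4195 := rfl
theorem F19665 : act 1 n4195 = n4195 := d15_1 D4195 (iv D4195) F13927
theorem F19666 : act 2 n4195 = n2906 := d22_1 D4195 (iv D2906) (iv F13928)
theorem F19667 : act 5 n4195 = n4195 := d37_1 D4195 (iv D4195) F13930
theorem F19668 : act 6 n4195 = n2901 := d40_1 D4195 (iv D2901) D2900
theorem F19669 : act 9 n4195 = n4195 := d44_2 (iv F13931) D4195 (iv D4195) F13931 F9974
def n4196 : Q := act 3 n2901
theorem D4196 : act 3 n2901 = n4196 := rfl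
theorem F19670 : act 1 n4196 = n4196 := d10_1 D4196 (iv D4196) F13932
theorem F19671 : act 2 n4196 = n4196 := d17_1 D4196 (iv D4196) F13933 F9913 (iv F13933)
theorem F19672 : act 5 n4196 = n2902 := d25_2 (iv F13934) D4196 (iv D2902)
theorem F19673 : act 7 n4196 = n4196 := d27_2 F13935 D4196 (iv D4196)
theorem F19674 : act 8 n4196 = n4196 := d28_2 D2901 D4196 (iv D4196) (iv D2901) F9895
theorem F19675 : act 9 n4196 = n4196 := d29_2 F13936 D4196 (iv D4196)
def n4197 : Q := act 4 n2902
theorem D4197 : act 4 n2902 = n4197 := rfl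
def n4198 : Q := act 5 n2903
theorem D4198 : act 5 n2903 = n4198 := rfl
theorem F19683 : act 1 n4198 = n2907 := d12_1 D4198 (iv D2907) (iv F13943)
theorem F19684 : act 4 n4198 = n4198 := d30_1 D4198 (iv D4198) F13944 F9910 (iv F13944)
theorem F19685 : act 6 n4198 = n4198 := d35_2 D2903 D4198 (iv D4198) (iv D2903) F9905
theorem F19686 : act 9 n4198 = n2920 := d38_2 (iv F13945) D4198 (iv D2920)
def n4199 : Q := act 7 n2903
theorem D4199 : act 7 n2903 = n4199 := rfl
theorem F19687 : act 1 n4199 = n2908 := d14_1 D4199 (iv D2908) (iv F13943)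
theorem F19688 : act 4 n4199 = n2905 := d32_1 D4199 (iv D2905) (iv F13944)
theorem F19689 : act 6 n4199 = n4199 := d39_1 D4199 (iv D4199) (iv D2903) F9906 D2903
theorem F19690 : act 9 n4199 = n2921 := d43_2 (iv F13945) D4199 (iv D2921)
def n4200 : Q := act 8 n2903
theorem D4200 : act 8 n2903 = n4200 := rfl
theorem F19691 : act 1 n4200 = n2909 := d15_1 D4200 (iv D2909) (iv F13943)
theorem F19692 : act 4 n4200 = n2906 := d33_1 D4200 (iv D2906) (iv F13944)
theorem F19693 : act 6 n4200 = n2904 := d40_1 D4200 (iv D2904) D2903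
theorem F19694 : act 9 n4200 = n4200 := d44_2 (iv F13945) D4200 (iv D4200) F13945 F9977
def n4201 : Q := act 3 n2904
theorem D4201 : act 3 n2904 = n4201 := rfl
theorem F19695 : act 1 n4201 = n2910 := d10_1 D4201 (iv D2910) (iv F13946)
theorem F19696 : act 4 n4201 = n4201 := d24_2 (iv F13947) D4201 (iv D4201) F13947 F9913
theorem F19697 : act 5 n4201 = n4201 := d25_2 F13948 D4201 (iv D4201)
theorem F19698 : act 7 n4201 = n4201 := d27_2 F13949 D4201 (iv D4201)
theorem F19699 : act 9 n4201 = n4201 := d29_2 F13950 D4201 (iv D4201)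
def n4202 : Q := act 8 n2905
theorem D4202 : act 8 n2905 = n4202 := rfl
theorem F19700 : act 1 n4202 = n2911 := d15_1 D4202 (iv D2911) (iv F13951)
theorem F19701 : act 3 n4202 = n4202 := d28_1 D4202 (iv D4202) F13952 F9921 (iv F13952)
theorem F19702 : act 5 n4202 = n4202 := d37_1 D4202 (iv D4202) F13953
theorem F19703 : act 6 n4202 = n4202 := d40_1 D4202 (iv D4202) F13954
theorem F19704 : act 7 n4202 = n2906 := d42_1 D4202 (iv D2906) D2905
theorem F19705 : act 9 n4202 = n4202 := d44_2 (iv F13955) D4202 (iv D4202) F13955 F9982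
def n4203 : Q := act 7 n2907
theorem D4203 : act 7 n2907 = n4203 := rfl
theorem F19706 : act 2 n4203 = n4203 := d21_1 D4203 (iv D4203) F13961
theorem F19707 : act 4 n4203 = n4203 := d32_1 D4203 (iv D4203) F13962
theorem F19708 : act 5 n4203 = n2908 := d36_1 D4203 (iv D2908) D2907
theorem F19709 : act 9 n4203 = n2922 := d43_2 (iv F13964) D4203 (iv D2922)
def n4204 : Q := act 8 n2907
theorem D4204 : act 8 n2907 = n4204 := rfl
theorem F19710 : act 2 n4204 = n4204 := d22_1 D4204 (iv D4204) F13961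
theorem F19711 : act 4 n4204 = n4204 := d33_1 D4204 (iv D4204) F13962
theorem F19712 : act 5 n4204 = n2909 := d37_1 D4204 (iv D2909) D2907
theorem F19713 : act 6 n4204 = n4204 := d40_1 D4204 (iv D4204) F13963
theorem F19714 : act 9 n4204 = n4204 := d44_2 (iv F13964) D4204 (iv D4204) F13964 F9986
def n4205 : Q := act 8 n2908
theorem D4205 : act 8 n2908 = n4205 := rfl
theorem F19715 : act 2 n4205 = n4205 := d22_1 D4205 (iv D4205) F13965
theorem F19716 : act 4 n4205 = n2911 := d33_1 D4205 (iv D2911) (iv F13966)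
theorem F19717 : act 6 n4205 = n4205 := d40_1 D4205 (iv D4205) F13967
theorem F19718 : act 7 n4205 = n2909 := d42_1 D4205 (iv D2909) D2908
theorem F19719 : act 9 n4205 = n4205 := d44_2 (iv F13968) D4205 (iv D4205) F13968 F9990
def n4206 : Q := act 3 n2909
theorem D4206 : act 3 n2909 = n4206 := rfl
theorem F19720 : act 4 n4206 = n4206 := d24_2 (iv F13970) D4206 (iv D4206) F13970 F9937
theorem F19721 : act 6 n4206 = n2910 := d26_2 (iv F13971) D4206 (iv D2910)
theorem F19722 : act 9 n4206 = n4206 := d29_2 F13972 D4206 (iv D4206)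
def n4207 : Q := act 2 n2910
theorem D4207 : act 2 n2910 = n4207 := rfl
theorem F19723 : act 3 n4207 = n4207 := d17_2 D2910 D4207 (iv D4207) (iv D2910) F9926
theorem F19724 : act 4 n4207 = n4207 := d18_2 F13973 D4207 (iv D4207)
theorem F19725 : act 5 n4207 = n4207 := d19_2 F13974 D4207 (iv D4207)
theorem F19726 : act 7 n4207 = n4207 := d21_2 F13975 D4207 (iv D4207)
theorem F19727 : act 9 n4207 = n4207 := d23_2 F13976 D4207 (iv D4207)
def n4208 : Q := act 4 n2912
theorem D4208 : act 4 n2912 = n4208 := rfl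
theorem F19728 : act 0 n4208 = n4208 := d3_1 D4208 (iv D4208) F13983
theorem F19729 : act 1 n4208 = n2913 := d11_1 D4208 (iv D2913) (iv F13984)
theorem F19730 : act 5 n4208 = n4208 := d30_2 D2912 D4208 (iv D4208) (iv D2912) F9943
theorem F19731 : act 7 n4208 = n4208 := d32_2 F13986 D4208 (iv D4208)
theorem F19732 : act 8 n4208 = n4208 := d33_2 F13987 D4208 (iv D4208)
def n4209 : Q := act 6 n2912
theorem D4209 : act 6 n2912 = n4209 := rfl
theorem F19733 : act 0 n4209 = n4209 := d5_1 D4209 (iv D4209) F13983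
theorem F19734 : act 1 n4209 = n2914 := d13_1 D4209 (iv D2914) (iv F13984)
theorem F19735 : act 3 n4209 = n4209 := d26_1 D4209 (iv D4209) F13985
theorem F19736 : act 5 n4209 = n4209 := d35_1 D4209 (iv D4209) (iv D2912) F9944 D2912
theorem F19737 : act 8 n4209 = n4209 := d40_2 F13987 D4209 (iv D4209)
def n4210 : Q := act 3 n2913
theorem D4210 : act 3 n2913 = n4210 := rfl
theorem F19738 : act 0 n4210 = n2917 := d2_1 D4210 (iv D2917) (iv F13988)
theorem F19739 : act 4 n4210 = n4210 := d24_2 D2913 D4210 (iv D4210) (iv D2913) F9949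
theorem F19740 : act 5 n4210 = n4210 := d25_2 F13990 D4210 (iv D4210)
theorem F19741 : act 7 n4210 = n4210 := d27_2 F13991 D4210 (iv D4210)
def n4211 : Q := act 6 n2913
theorem D4211 : act 6 n2913 = n4211 := rfl
theorem F19742 : act 0 n4211 = n2918 := d5_1 D4211 (iv D2918) (iv F13988)
theorem F19743 : act 2 n4211 = n2915 := d20_1 D4211 (iv D2915) (iv F13989)
theorem F19744 : act 4 n4211 = n2914 := d31_1 D4211 (iv D2914) D2913
theorem F19745 : act 8 n4211 = n4211 := d40_2 F13992 D4211 (iv D4211)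
def n4212 : Q := act 7 n2914
theorem D4212 : act 7 n2914 = n4212 := rfl
theorem F19746 : act 0 n4212 = n2919 := d6_1 D4212 (iv D2919) (iv F13993)
theorem F19747 : act 2 n4212 = n2916 := d21_1 D4212 (iv D2916) (iv F13994)
theorem F19748 : act 3 n4212 = n4212 := d27_1 D4212 (iv D4212) F13995
theorem F19749 : act 5 n4212 = n4212 := d36_1 D4212 (iv D4212) F13996
theorem F19750 : act 6 n4212 = n4212 := d39_1 D4212 (iv D4212) (iv D2914) F9950 D2914
theorem F19751 : act 8 n4212 = n4212 := d42_2 F13997 D4212 (iv D4212)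
def n4213 : Q := act 5 n2915
theorem D4213 : act 5 n2915 = n4213 := rfl
theorem F19752 : act 0 n4213 = n2920 := d4_1 D4213 (iv D2920) (iv F13998)
theorem F19753 : act 4 n4213 = n4213 := d30_1 D4213 (iv D4213) F13999 F9958 (iv F13999)
theorem F19754 : act 6 n4213 = n4213 := d35_2 D2915 D4213 (iv D4213) (iv D2915) F9953
theorem F19755 : act 8 n4213 = n4213 := d37_2 F14000 D4213 (iv D4213)
def n4214 : Q := act 7 n2915
theorem D4214 : act 7 n2915 = n4214 := rfl
theorem F19756 : act 0 n4214 = n2921 := d6_1 D4214 (iv D2921) (iv F13998)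
theorem F19757 : act 4 n4214 = n2916 := d32_1 D4214 (iv D2916) (iv F13999)
theorem F19758 : act 6 n4214 = n4214 := d39_1 D4214 (iv D4214) (iv D2915) F9954 D2915
theorem F19759 : act 8 n4214 = n4214 := d42_2 F14000 D4214 (iv D4214)
def n4215 : Q := act 6 n2917
theorem D4215 : act 6 n2917 = n4215 := rfl
theorem F19760 : act 1 n4215 = n4215 := d13_1 D4215 (iv D4215) F14006
theorem F19761 : act 3 n4215 = n2918 := d26_1 D4215 (iv D2918) D2917
theorem F19762 : act 4 n4215 = n4215 := d31_1 D4215 (iv D4215) F14007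
def n4216 : Q := act 8 n2917
theorem D4216 : act 8 n2917 = n4216 := rfl
def n4217 : Q := act 5 n2918
theorem D4217 : act 5 n2918 = n4217 := rfl
theorem F19768 : act 1 n4217 = n4217 := d12_1 D4217 (iv D4217) F14010
theorem F19769 : act 2 n4217 = n2920 := d19_1 D4217 (iv D2920) (iv F14011)
theorem F19770 : act 4 n4217 = n4217 := d30_1 D4217 (iv D4217) F14012 F9973 (iv F14012)
theorem F19771 : act 6 n4217 = n4217 := d35_2 D2918 D4217 (iv D4217) (iv D2918) F9967
theorem F19772 : act 8 n4217 = n4217 := d37_2 F14013 D4217 (iv D4217)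
def n4218 : Q := act 7 n2918
theorem D4218 : act 7 n2918 = n4218 := rfl
theorem F19773 : act 1 n4218 = n4218 := d14_1 D4218 (iv D4218) F14010
theorem F19774 : act 2 n4218 = n2921 := d21_1 D4218 (iv D2921) (iv F14011)
theorem F19775 : act 4 n4218 = n2919 := d32_1 D4218 (iv D2919) (iv F14012)
theorem F19776 : act 6 n4218 = n4218 := d39_1 D4218 (iv D4218) (iv D2918) F9968 D2918
theorem F19777 : act 8 n4218 = n4218 := d42_2 F14013 D4218 (iv D4218)
def n4219 : Q := act 7 n2920
theorem D4219 : act 7 n2920 = n4219 := rfl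
theorem F19778 : act 1 n4219 = n2922 := d14_1 D4219 (iv D2922) (iv F14020)
theorem F19779 : act 4 n4219 = n4219 := d32_1 D4219 (iv D4219) F14021
theorem F19780 : act 5 n4219 = n2921 := d36_1 D4219 (iv D2921) D2920
theorem F19781 : act 8 n4219 = n4219 := d42_2 F14023 D4219 (iv D4219)
def n4221 : Q := act 1 n2923
theorem D4221 : act 1 n2923 = n4221 := rfl
theorem F19789 : act 4 n4221 = n2981 := d11_2 (iv F14034) D4221 (iv D2981)
theorem F19791 : act 7 n4221 = n2939 := d14_2 (iv F14036) D4221 (iv D2939)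
def n4222 : Q := act 5 n2923
theorem D4222 : act 5 n2923 = n4222 := rfl
theorem F19794 : act 2 n4222 = n2924 := d19_1 D4222 (iv D2924) D2923
theorem F19796 : act 7 n4222 = n2940 := d36_2 (iv F14036) D4222 (iv D2940)
def n4223 : Q := act 8 n2923
theorem D4223 : act 8 n2923 = n4223 := rfl
theorem F19799 : act 2 n4223 = n2925 := d22_1 D4223 (iv D2925) D2923
theorem F19800 : act 4 n4223 = n2983 := d33_1 D4223 (iv D2983) (iv F14034)
def n4224 : Q := act 4 n2924
theorem D4224 : act 4 n2924 = n4224 := rfl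
theorem F19803 : act 0 n4224 = n2929 := d3_1 D4224 (iv D2929) (iv F14038)
theorem F19804 : act 3 n4224 = n4224 := d24_1 D4224 (iv D4224) F14039 F9998 (iv F14039)
theorem F19805 : act 5 n4224 = n2984 := d30_2 D2924 D4224 (iv D2984) (iv D2074) (iv F9992)
theorem F19806 : act 7 n4224 = n2942 := d32_2 (iv F14040) D4224 (iv D2942)
theorem F19807 : act 9 n4224 = n4224 := d34_2 F14041 D4224 (iv D4224)
def n4225 : Q := act 6 n2924
theorem D4225 : act 6 n2924 = n4225 := rfl
theorem F19808 : act 0 n4225 = n2930 := d5_1 D4225 (iv D2930) (iv F14038)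
theorem F19809 : act 3 n4225 = n2926 := d26_1 D4225 (iv D2926) (iv F14039)
theorem F19810 : act 5 n4225 = n4225 := d35_1 D4225 (iv D4225) (iv D2924) F9993 D2924
theorem F19811 : act 9 n4225 = n4225 := d41_2 F14041 D4225 (iv D4225)
def n4226 : Q := act 8 n2924
theorem D4226 : act 8 n2924 = n4226 := rfl
def n4228 : Q := act 7 n2926
theorem D4228 : act 7 n2926 = n4228 := rfl
theorem F19820 : act 0 n4228 = n2933 := d6_1 D4228 (iv D2933) (iv F14046)
theorem F19821 : act 2 n4228 = n4228 := d21_1 D4228 (iv D4228) F14047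
theorem F19822 : act 4 n4228 = n4228 := d32_1 D4228 (iv D4228) F14048
theorem F19823 : act 5 n4228 = n4228 := d36_1 D4228 (iv D4228) F14049
theorem F19824 : act 6 n4228 = n2946 := d39_1 D4228 (iv D2946) (iv D2044) (iv F9999) D2926
theorem F19825 : act 9 n4228 = n4228 := d43_2 F14050 D4228 (iv D4228)
def n4229 : Q := act 4 n2927
theorem D4229 : act 4 n2927 = n4229 := rfl
theorem F19827 : act 2 n4229 = n2929 := d18_1 D4229 (iv D2929) (iv F14052)
theorem F19828 : act 5 n4229 = n2988 := d30_2 D2927 D4229 (iv D2988) (iv D2077) (iv F10003)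
def n4230 : Q := act 6 n2927
theorem D4230 : act 6 n2927 = n4230 := rfl
theorem F19832 : act 2 n4230 = n2930 := d20_1 D4230 (iv D2930) (iv F14052)
def n4231 : Q := act 8 n2927
theorem D4231 : act 8 n2927 = n4231 := rfl
theorem F19837 : act 2 n4231 = n2931 := d22_1 D4231 (iv D2931) (iv F14052)
def n4232 : Q := act 3 n2928
theorem D4232 : act 3 n2928 = n4232 := rfl
def n4233 : Q := act 9 n2928
theorem D4233 : act 9 n2928 = n4233 := rfl
theorem F19845 : act 2 n4233 = n2932 := d23_1 D4233 (iv D2932) (iv F14057)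
theorem F19846 : act 4 n4233 = n2992 := d34_1 D4233 (iv D2992) (iv F14058)
def n4234 : Q := act 6 n2929
theorem D4234 : act 6 n2929 = n4234 := rfl
theorem F19850 : act 1 n4234 = n2934 := d13_1 D4234 (iv D2934) (iv F14061)
theorem F19851 : act 3 n4234 = n4234 := d26_1 D4234 (iv D4234) F14062
theorem F19852 : act 4 n4234 = n2930 := d31_1 D4234 (iv D2930) D2929
theorem F19853 : act 9 n4234 = n4234 := d41_2 F14065 D4234 (iv D4234)
def n4235 : Q := act 8 n2929
theorem D4235 : act 8 n2929 = n4235 := rfl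
theorem F19855 : act 4 n4235 = n2931 := d33_1 D4235 (iv D2931) D2929
theorem F19856 : act 5 n4235 = n2994 := d37_1 D4235 (iv D2994) (iv F14063)
def n4236 : Q := act 7 n2930
theorem D4236 : act 7 n2930 = n4236 := rfl
theorem F19858 : act 1 n4236 = n2936 := d14_1 D4236 (iv D2936) (iv F14066)
theorem F19859 : act 3 n4236 = n2933 := d27_1 D4236 (iv D2933) (iv F14067)
theorem F19860 : act 5 n4236 = n4236 := d36_1 D4236 (iv D4236) F14068
theorem F19861 : act 6 n4236 = n2954 := d39_1 D4236 (iv D2954) (iv D2048) (iv F10009) D2930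
theorem F19862 : act 9 n4236 = n4236 := d43_2 F14069 D4236 (iv D4236)
def n4237 : Q := act 8 n2930
theorem D4237 : act 8 n2930 = n4237 := rfl
theorem F19863 : act 1 n4237 = n2937 := d15_1 D4237 (iv D2937) (iv F14066)
def n4238 : Q := act 9 n2931
theorem D4238 : act 9 n2931 = n4238 := rfl
theorem F19866 : act 1 n4238 = n2938 := d16_1 D4238 (iv D2938) (iv F14070)
def n4239 : Q := act 5 n2934
theorem D4239 : act 5 n2934 = n4239 := rfl
theorem F19873 : act 6 n4239 = n2997 := d35_2 D2934 D4239 (iv D2997) (iv D2083) (iv F10022)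
def n4240 : Q := act 7 n2934
theorem D4240 : act 7 n2934 = n4240 := rfl
theorem F19877 : act 4 n4240 = n2936 := d32_1 D4240 (iv D2936) (iv F14086)
theorem F19878 : act 6 n4240 = n2957 := d39_1 D4240 (iv D2957) (iv D2052) (iv F10023) D2934
def n4241 : Q := act 8 n2934
theorem D4241 : act 8 n2934 = n4241 := rfl
theorem F19881 : act 4 n4241 = n2937 := d33_1 D4241 (iv D2937) (iv F14086)
def n4242 : Q := act 3 n2935
theorem D4242 : act 3 n2935 = n4242 := rfl
theorem F19883 : act 5 n4242 = n2999 := d25_2 (iv F14090) D4242 (iv D2999)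
theorem F19884 : act 7 n4242 = n2959 := d27_2 (iv F14091) D4242 (iv D2959)
def n4244 : Q := act 8 n2936
theorem D4244 : act 8 n2936 = n4244 := rfl
theorem F19894 : act 7 n4244 = n2937 := d42_1 D4244 (iv D2937) D2936
def n4245 : Q := act 9 n2937
theorem D4245 : act 9 n2937 = n4245 := rfl
def n4246 : Q := act 5 n2939
theorem D4246 : act 5 n2939 = n4246 := rfl
def n4248 : Q := act 4 n2940
theorem D4248 : act 4 n2940 = n4248 := rfl
theorem F19907 : act 0 n4248 = n2947 := d3_1 D4248 (iv D2947) (iv F14109)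
theorem F19908 : act 2 n4248 = n2942 := d18_1 D4248 (iv D2942) (iv F14110)
def n4249 : Q := act 6 n2940
theorem D4249 : act 6 n2940 = n4249 := rfl
theorem F19912 : act 2 n4249 = n2943 := d20_1 D4249 (iv D2943) (iv F14110)
theorem F19914 : act 5 n4249 = n2965 := d35_1 D4249 (iv D2965) (iv D2058) (iv F10045) D2940
def n4250 : Q := act 8 n2940
theorem D4250 : act 8 n2940 = n4250 := rfl
theorem F19917 : act 2 n4250 = n2944 := d22_1 D4250 (iv D2944) (iv F14110)
def n4252 : Q := act 9 n2941
theorem D4252 : act 9 n2941 = n4252 := rfl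
theorem F19923 : act 2 n4252 = n2945 := d23_1 D4252 (iv D2945) (iv F14114)
theorem F19924 : act 4 n4252 = n3007 := d34_1 D4252 (iv D3007) (iv F14115)
def n4253 : Q := act 6 n2942
theorem D4253 : act 6 n2942 = n4253 := rfl
theorem F19927 : act 0 n4253 = n2952 := d5_1 D4253 (iv D2952) (iv F14117)
theorem F19928 : act 3 n4253 = n4253 := d26_1 D4253 (iv D4253) F14118
theorem F19929 : act 4 n4253 = n2943 := d31_1 D4253 (iv D2943) D2942
theorem F19930 : act 5 n4253 = n4253 := d35_1 D4253 (iv D4253) F14119 F10253 (iv F14119)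
theorem F19931 : act 9 n4253 = n4253 := d41_2 F14120 D4253 (iv D4253)
def n4254 : Q := act 8 n2942
theorem D4254 : act 8 n2942 = n4254 := rfl
theorem F19934 : act 5 n4254 = n3008 := d37_1 D4254 (iv D3008) (iv F14119)
def n4255 : Q := act 7 n2943
theorem D4255 : act 7 n2943 = n4255 := rfl
theorem F19935 : act 0 n4255 = n2954 := d6_1 D4255 (iv D2954) (iv F14121)
theorem F19936 : act 3 n4255 = n2946 := d27_1 D4255 (iv D2946) (iv F14122)
theorem F19937 : act 5 n4255 = n2969 := d36_1 D4255 (iv D2969) (iv F14123)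
theorem F19938 : act 9 n4255 = n4255 := d43_2 F14124 D4255 (iv D4255)
def n4256 : Q := act 8 n2943
theorem D4256 : act 8 n2943 = n4256 := rfl
theorem F19940 : act 5 n4256 = n2970 := d37_1 D4256 (iv D2970) (iv F14123)
theorem F19941 : act 6 n4256 = n2944 := d40_1 D4256 (iv D2944) D2943
def n4259 : Q := act 6 n2947
theorem D4259 : act 6 n2947 = n4259 := rfl
theorem F19951 : act 2 n4259 = n2952 := d20_1 D4259 (iv D2952) (iv F14137)
theorem F19952 : act 4 n4259 = n2948 := d31_1 D4259 (iv D2948) D2947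
def n4260 : Q := act 8 n2947
theorem D4260 : act 8 n2947 = n4260 := rfl
theorem F19956 : act 2 n4260 = n2953 := d22_1 D4260 (iv D2953) (iv F14137)
theorem F19958 : act 5 n4260 = n3011 := d37_1 D4260 (iv D3011) (iv F14138)
def n4261 : Q := act 7 n2948
theorem D4261 : act 7 n2948 = n4261 := rfl
theorem F19962 : act 5 n4261 = n2972 := d36_1 D4261 (iv D2972) (iv F14143)
def n4262 : Q := act 8 n2948
theorem D4262 : act 8 n2948 = n4262 := rfl
theorem F19965 : act 2 n4262 = n2955 := d22_1 D4262 (iv D2955) (iv F14141)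
def n4263 : Q := act 3 n2949
theorem D4263 : act 3 n2949 = n4263 := rfl
def n4264 : Q := act 9 n2949
theorem D4264 : act 9 n2949 = n4264 := rfl
theorem F19972 : act 2 n4264 = n2956 := d23_1 D4264 (iv D2956) (iv F14146)
def n4267 : Q := act 7 n2952
theorem D4267 : act 7 n2952 = n4267 := rfl
theorem F19982 : act 1 n4267 = n2957 := d14_1 D4267 (iv D2957) (iv F14156)
theorem F19983 : act 3 n4267 = n4267 := d27_1 D4267 (iv D4267) F14157
theorem F19984 : act 4 n4267 = n2954 := d32_1 D4267 (iv D2954) (iv F14158)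
theorem F19985 : act 5 n4267 = n4267 := d36_1 D4267 (iv D4267) F14159
theorem F19986 : act 9 n4267 = n4267 := d43_2 F14160 D4267 (iv D4267)
def n4268 : Q := act 8 n2952
theorem D4268 : act 8 n2952 = n4268 := rfl
theorem F19987 : act 1 n4268 = n2958 := d15_1 D4268 (iv D2958) (iv F14156)
theorem F19988 : act 4 n4268 = n2955 := d33_1 D4268 (iv D2955) (iv F14158)
def n4269 : Q := act 3 n2953
theorem D4269 : act 3 n2953 = n4269 := rfl
theorem F19991 : act 1 n4269 = n2959 := d10_1 D4269 (iv D2959) (iv F14161)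
theorem F19992 : act 5 n4269 = n3016 := d25_2 (iv F14163) D4269 (iv D3016)
def n4270 : Q := act 9 n2953
theorem D4270 : act 9 n2953 = n4270 := rfl
theorem F19995 : act 4 n4270 = n2956 := d34_1 D4270 (iv D2956) (iv F14162)
def n4271 : Q := act 8 n2954
theorem D4271 : act 8 n2954 = n4271 := rfl
def n4272 : Q := act 9 n2955
theorem D4272 : act 9 n2955 = n4272 := rfl
theorem F20001 : act 1 n4272 = n2962 := d16_1 D4272 (iv D2962) (iv F14168)
def n4273 : Q := act 8 n2957
theorem D4273 : act 8 n2957 = n4273 := rfl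
theorem F20006 : act 4 n4273 = n2961 := d33_1 D4273 (iv D2961) (iv F14176)
def n4274 : Q := act 3 n2958
theorem D4274 : act 3 n2958 = n4274 := rfl
theorem F20010 : act 6 n4274 = n2959 := d26_2 (iv F14182) D4274 (iv D2959)
def n4276 : Q := act 2 n2959
theorem D4276 : act 2 n2959 = n4276 := rfl
theorem F20018 : act 5 n4276 = n3018 := d19_2 (iv F14183) D4276 (iv D3018)
def n4277 : Q := act 9 n2959
theorem D4277 : act 9 n2959 = n4277 := rfl
theorem F20021 : act 5 n4277 = n3019 := d38_1 D4277 (iv D3019) (iv F14183)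
def n4278 : Q := act 9 n2961
theorem D4278 : act 9 n2961 = n4278 := rfl
def n4283 : Q := act 7 n2965
theorem D4283 : act 7 n2965 = n4283 := rfl
def n4289 : Q := act 8 n2969
theorem D4289 : act 8 n2969 = n4289 := rfl
def n4291 : Q := act 8 n2972
theorem D4291 : act 8 n2972 = n4291 := rfl
theorem F20081 : act 2 n4291 = n2978 := d22_1 D4291 (iv D2978) (iv F14238)
def n4292 : Q := act 3 n2973
theorem D4292 : act 3 n2973 = n4292 := rfl
def n4300 : Q := act 5 n2981
theorem D4300 : act 5 n2981 = n4300 := rfl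
theorem F20119 : act 1 n4300 = n2982 := d12_1 D4300 (iv D2982) D2981
def n4302 : Q := act 4 n2982
theorem D4302 : act 4 n2982 = n4302 := rfl
def n4303 : Q := act 6 n2982
theorem D4303 : act 6 n2982 = n4303 := rfl
theorem F20132 : act 2 n4303 = n2985 := d20_1 D4303 (iv D2985) (iv F14283)
theorem F20133 : act 3 n4303 = n3030 := d26_1 D4303 (iv D3030) (iv F14284)
def n4304 : Q := act 8 n2982
theorem D4304 : act 8 n2982 = n4304 := rfl
theorem F20139 : act 5 n4304 = n2983 := d37_1 D4304 (iv D2983) D2982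
def n4305 : Q := act 3 n2983
theorem D4305 : act 3 n2983 = n4305 := rfl
theorem F20145 : act 8 n4305 = n3032 := d28_2 D2983 D4305 (iv D3032) (iv D2108) (iv F10175)
def n4306 : Q := act 9 n2983
theorem D4306 : act 9 n2983 = n4306 := rfl
theorem F20149 : act 7 n4306 = n3007 := d43_1 D4306 (iv D3007) (iv F14290)
def n4307 : Q := act 6 n2984
theorem D4307 : act 6 n2984 = n4307 := rfl
theorem F20151 : act 0 n4307 = n2993 := d5_1 D4307 (iv D2993) (iv F14291)
theorem F20152 : act 3 n4307 = n4307 := d26_1 D4307 (iv D4307) F14292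
theorem F20153 : act 4 n4307 = n2985 := d31_1 D4307 (iv D2985) D2984
theorem F20154 : act 7 n4307 = n4307 := d39_2 (iv F14293) D4307 (iv D4307) F14293 F10253
theorem F20155 : act 9 n4307 = n4307 := d41_2 F14294 D4307 (iv D4307)
def n4308 : Q := act 8 n2984
theorem D4308 : act 8 n2984 = n4308 := rfl
def n4309 : Q := act 8 n2985
theorem D4309 : act 8 n2985 = n4309 := rfl
theorem F20162 : act 6 n4309 = n2986 := d40_1 D4309 (iv D2986) D2985
def n4311 : Q := act 3 n2988
theorem D4311 : act 3 n2988 = n4311 := rfl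
theorem F20171 : act 4 n4311 = n3038 := d24_2 D2988 D4311 (iv D3038) (iv D2113) (iv F10196)
def n4312 : Q := act 6 n2988
theorem D4312 : act 6 n2988 = n4312 := rfl
theorem F20174 : act 1 n4312 = n4312 := d13_1 D4312 (iv D4312) F14309
theorem F20175 : act 2 n4312 = n2993 := d20_1 D4312 (iv D2993) (iv F14310)
theorem F20176 : act 4 n4312 = n2989 := d31_1 D4312 (iv D2989) D2988
def n4313 : Q := act 8 n2988
theorem D4313 : act 8 n2988 = n4313 := rfl
theorem F20181 : act 4 n4313 = n2990 := d33_1 D4313 (iv D2990) D2988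
def n4314 : Q := act 8 n2989
theorem D4314 : act 8 n2989 = n4314 := rfl
theorem F20186 : act 6 n4314 = n2990 := d40_1 D4314 (iv D2990) D2989
def n4315 : Q := act 3 n2990
theorem D4315 : act 3 n2990 = n4315 := rfl
theorem F20190 : act 5 n4315 = n2991 := d25_2 (iv F14321) D4315 (iv D2991)
theorem F20192 : act 8 n4315 = n3042 := d28_2 D2990 D4315 (iv D3042) (iv D2115) (iv F10196)
def n4316 : Q := act 9 n2990
theorem D4316 : act 9 n2990 = n4316 := rfl
theorem F20195 : act 5 n4316 = n2992 := d38_1 D4316 (iv D2992) (iv F14321)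
def n4317 : Q := act 4 n2991
theorem D4317 : act 4 n2991 = n4317 := rfl
theorem F20201 : act 7 n4317 = n3014 := d32_2 (iv F14326) D4317 (iv D3014)
def n4318 : Q := act 9 n2991
theorem D4318 : act 9 n2991 = n4318 := rfl
theorem F20207 : act 7 n4318 = n3015 := d43_1 D4318 (iv D3015) (iv F14326)
def n4319 : Q := act 5 n2993
theorem D4319 : act 5 n2993 = n4319 := rfl
theorem F20208 : act 1 n4319 = n2997 := d12_1 D4319 (iv D2997) (iv F14333)
theorem F20209 : act 3 n4319 = n4319 := d25_1 D4319 (iv D4319) F14334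
theorem F20210 : act 4 n4319 = n4319 := d30_1 D4319 (iv D4319) F14335 F10209 (iv F14335)
theorem F20211 : act 7 n4319 = n4319 := d36_2 F14336 D4319 (iv D4319)
theorem F20212 : act 9 n4319 = n4319 := d38_2 F14337 D4319 (iv D4319)
def n4320 : Q := act 8 n2993
theorem D4320 : act 8 n2993 = n4320 := rfl
theorem F20213 : act 1 n4320 = n2998 := d15_1 D4320 (iv D2998) (iv F14333)
theorem F20214 : act 4 n4320 = n2995 := d33_1 D4320 (iv D2995) (iv F14335)
theorem F20215 : act 6 n4320 = n2994 := d40_1 D4320 (iv D2994) D2993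
def n4321 : Q := act 3 n2994
theorem D4321 : act 3 n2994 = n4321 := rfl
theorem F20217 : act 1 n4321 = n2999 := d10_1 D4321 (iv D2999) (iv F14338)
def n4323 : Q := act 9 n2995
theorem D4323 : act 9 n2995 = n4323 := rfl
theorem F20228 : act 6 n4323 = n2996 := d41_1 D4323 (iv D2996) (iv F14344)
def n4324 : Q := act 8 n2997
theorem D4324 : act 8 n2997 = n4324 := rfl
theorem F20233 : act 5 n4324 = n2998 := d37_1 D4324 (iv D2998) D2997
def n4325 : Q := act 3 n2998
theorem D4325 : act 3 n2998 = n4325 := rfl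
theorem F20236 : act 6 n4325 = n2999 := d26_2 (iv F14358) D4325 (iv D2999)
def n4326 : Q := act 9 n2998
theorem D4326 : act 9 n2998 = n4326 := rfl
theorem F20243 : act 8 n4326 = n4326 := d44_1 D4326 (iv D4326) (iv D2998) F10225 D2998
def n4327 : Q := act 2 n2999
theorem D4327 : act 2 n2999 = n4327 := rfl
theorem F20246 : act 7 n4327 = n3018 := d21_2 (iv F14361) D4327 (iv D3018)
def n4328 : Q := act 9 n2999
theorem D4328 : act 9 n2999 = n4328 := rfl
def n4335 : Q := act 3 n3005
theorem D4335 : act 3 n3005 = n4335 := rfl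
theorem F20278 : act 5 n4335 = n3006 := d25_2 (iv F14387) D4335 (iv D3006)
theorem F20280 : act 8 n4335 = n3062 := d28_2 D3005 D4335 (iv D3062) (iv D2130) (iv F10245)
def n4336 : Q := act 9 n3005
theorem D4336 : act 9 n3005 = n4336 := rfl
theorem F20283 : act 5 n4336 = n3007 := d38_1 D4336 (iv D3007) (iv F14387)
def n4337 : Q := act 4 n3006
theorem D4337 : act 4 n3006 = n4337 := rfl
def n4338 : Q := act 9 n3006
theorem D4338 : act 9 n3006 = n4338 := rfl
theorem F20292 : act 3 n4338 = n3007 := d29_1 D4338 (iv D3007) D3006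
theorem F20293 : act 6 n4338 = n3023 := d41_1 D4338 (iv D3023) (iv F14391)
def n4340 : Q := act 9 n3008
theorem D4340 : act 9 n3008 = n4340 := rfl
def n4342 : Q := act 3 n3011
theorem D4342 : act 3 n3011 = n4342 := rfl
def n4344 : Q := act 4 n3012
theorem D4344 : act 4 n3012 = n4344 := rfl
theorem F20316 : act 8 n4344 = n3071 := d33_2 (iv F14418) D4344 (iv D3071)
def n4345 : Q := act 9 n3012
theorem D4345 : act 9 n3012 = n4345 := rfl
theorem F20320 : act 5 n4345 = n3015 := d38_1 D4345 (iv D3015) (iv F14416)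
def n4347 : Q := act 9 n3014
theorem D4347 : act 9 n3014 = n4347 := rfl
theorem F20327 : act 4 n4347 = n3015 := d34_1 D4347 (iv D3015) D3014
def n4348 : Q := act 8 n3015
theorem D4348 : act 8 n3015 = n4348 := rfl
theorem F20333 : act 9 n4348 = n3075 := d44_2 D3015 D4348 (iv D3075) (iv D2140) (iv F10274)
def n4351 : Q := act 1 n3018
theorem D4351 : act 1 n3018 = n4351 := rfl
def n4352 : Q := act 9 n3018
theorem D4352 : act 9 n3018 = n4352 := rfl
def n4358 : Q := act 9 n3022
theorem D4358 : act 9 n3022 = n4358 := rfl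
theorem F20374 : act 4 n4358 = n3023 := d34_1 D4358 (iv D3023) D3022
def n4369 : Q := act 6 n3029
theorem D4369 : act 6 n3029 = n4369 := rfl
theorem F20430 : act 2 n4369 = n3034 := d20_1 D4369 (iv D3034) (iv F14493)
theorem F20431 : act 4 n4369 = n3030 := d31_1 D4369 (iv D3030) D3029
def n4371 : Q := act 8 n3030
theorem D4371 : act 8 n3030 = n4371 := rfl
theorem F20440 : act 2 n4371 = n3036 := d22_1 D4371 (iv D3036) (iv F14498)
def n4372 : Q := act 3 n3031
theorem D4372 : act 3 n3031 = n4372 := rfl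
def n4376 : Q := act 5 n3034
theorem D4376 : act 5 n3034 = n4376 := rfl
theorem F20463 : act 0 n4376 = n3046 := d4_1 D4376 (iv D3046) (iv F14516)
theorem F20464 : act 1 n4376 = n4376 := d12_1 D4376 (iv D4376) F14517
theorem F20465 : act 3 n4376 = n4376 := d25_1 D4376 (iv D4376) F14518
theorem F20466 : act 4 n4376 = n4376 := d30_1 D4376 (iv D4376) F14519 F10341 (iv F14519)
theorem F20467 : act 6 n4376 = n4376 := d35_2 D3034 D4376 (iv D4376) (iv D3034) F10335
theorem F20468 : act 7 n4376 = n4376 := d36_2 F14520 D4376 (iv D4376)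
theorem F20469 : act 9 n4376 = n4376 := d38_2 F14521 D4376 (iv D4376)
def n4377 : Q := act 8 n3034
theorem D4377 : act 8 n3034 = n4377 := rfl
theorem F20470 : act 0 n4377 = n3047 := d7_1 D4377 (iv D3047) (iv F14516)
theorem F20472 : act 4 n4377 = n3036 := d33_1 D4377 (iv D3036) (iv F14519)
def n4381 : Q := act 6 n3038
theorem D4381 : act 6 n3038 = n4381 := rfl
theorem F20494 : act 1 n4381 = n4381 := d13_1 D4381 (iv D4381) F14539
theorem F20495 : act 2 n4381 = n4381 := d20_1 D4381 (iv D4381) F14540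
theorem F20496 : act 3 n4381 = n3039 := d26_1 D4381 (iv D3039) D3038
theorem F20498 : act 9 n4381 = n4381 := d41_2 F14543 D4381 (iv D4381)
def n4383 : Q := act 5 n3039
theorem D4383 : act 5 n3039 = n4383 := rfl
theorem F20505 : act 4 n4383 = n4383 := d30_1 D4383 (iv D4383) F14546 F10363 (iv F14546)
def n4384 : Q := act 8 n3039
theorem D4384 : act 8 n3039 = n4384 := rfl
theorem F20510 : act 2 n4384 = n3047 := d22_1 D4384 (iv D3047) (iv F14545)
theorem F20511 : act 4 n4384 = n3041 := d33_1 D4384 (iv D3041) (iv F14546)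
def n4385 : Q := act 3 n3040
theorem D4385 : act 3 n3040 = n4385 := rfl
def n4387 : Q := act 3 n3041
theorem D4387 : act 3 n3041 = n4387 := rfl
def n4389 : Q := act 4 n3042
theorem D4389 : act 4 n3042 = n4389 := rfl
def n4394 : Q := act 8 n3046
theorem D4394 : act 8 n3046 = n4394 := rfl
theorem F20557 : act 1 n4394 = n3051 := d15_1 D4394 (iv D3051) (iv F14578)
theorem F20558 : act 4 n4394 = n4394 := d33_1 D4394 (iv D4394) F14580
theorem F20559 : act 5 n4394 = n3047 := d37_1 D4394 (iv D3047) D3046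
def n4395 : Q := act 3 n3047
theorem D4395 : act 3 n3047 = n4395 := rfl
theorem F20562 : act 1 n4395 = n3052 := d10_1 D4395 (iv D3052) (iv F14584)
theorem F20563 : act 4 n4395 = n4395 := d24_2 (iv F14585) D4395 (iv D4395) F14585 F10390
def n4396 : Q := act 9 n3047
theorem D4396 : act 9 n3047 = n4396 := rfl
theorem F20567 : act 1 n4396 = n3053 := d16_1 D4396 (iv D3053) (iv F14584)
theorem F20571 : act 8 n4396 = n4396 := d44_1 D4396 (iv D4396) (iv D3047) F10384 D3047
def n4397 : Q := act 2 n3048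
theorem D4397 : act 2 n3048 = n4397 := rfl
def n4399 : Q := act 3 n3051
theorem D4399 : act 3 n3051 = n4399 := rfl
theorem F20581 : act 0 n4399 = n4399 := d2_1 D4399 (iv D4399) F14604
theorem F20582 : act 5 n4399 = n3052 := d25_2 (iv F14607) D4399 (iv D3052)
theorem F20583 : act 6 n4399 = n4399 := d26_2 F14608 D4399 (iv D4399)
theorem F20584 : act 7 n4399 = n4399 := d27_2 F14609 D4399 (iv D4399)
theorem F20585 : act 8 n4399 = n4399 := d28_2 D3051 D4399 (iv D4399) (iv D3051) F10401
def n4400 : Q := act 9 n3051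
theorem D4400 : act 9 n3051 = n4400 := rfl
theorem F20592 : act 8 n4400 = n4400 := d44_1 D4400 (iv D4400) (iv D3051) F10405 D3051
def n4401 : Q := act 2 n3052
theorem D4401 : act 2 n3052 = n4401 := rfl
theorem F20593 : act 0 n4401 = n4401 := d1_1 D4401 (iv D4401) F14610
theorem F20594 : act 3 n4401 = n4401 := d17_2 D3052 D4401 (iv D4401) (iv D3052) F10407
theorem F20595 : act 4 n4401 = n4401 := d18_2 F14611 D4401 (iv D4401)
theorem F20596 : act 6 n4401 = n3054 := d20_2 (iv F14612) D4401 (iv D3054)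
theorem F20597 : act 7 n4401 = n4401 := d21_2 F14613 D4401 (iv D4401)
theorem F20598 : act 8 n4401 = n4401 := d22_2 F14614 D4401 (iv D4401)
def n4402 : Q := act 9 n3052
theorem D4402 : act 9 n3052 = n4402 := rfl
theorem F20599 : act 0 n4402 = n4402 := d8_1 D4402 (iv D4402) F14610
theorem F20600 : act 3 n4402 = n3053 := d29_1 D4402 (iv D3053) D3052
theorem F20601 : act 4 n4402 = n4402 := d34_1 D4402 (iv D4402) F14611
def n4403 : Q := act 1 n3054
theorem D4403 : act 1 n3054 = n4403 := rfl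
def n4404 : Q := act 9 n3054
theorem D4404 : act 9 n3054 = n4404 := rfl
def n4425 : Q := act 2 n3069
theorem D4425 : act 2 n3069 = n4425 := rfl
theorem F20707 : act 3 n4425 = n3076 := d17_2 D3069 D4425 (iv D3076) (iv D2141) (iv F10473)
def n4426 : Q := act 4 n3069
theorem D4426 : act 4 n3069 = n4426 := rfl
theorem F20711 : act 3 n4426 = n3071 := d24_1 D4426 (iv D3071) (iv D2137) (iv F10474) D3069
def n4430 : Q := act 8 n3072
theorem D4430 : act 8 n3072 = n4430 := rfl
def n4434 : Q := act 1 n3076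
theorem D4434 : act 1 n3076 = n4434 := rfl
theorem F20741 : act 2 n4434 = n3078 := d9_2 D3076 D4434 (iv D3078) (iv D2143) (iv F10494)
def n4452 : Q := act 9 n3090
theorem D4452 : act 9 n3090 = n4452 := rfl
theorem F20831 : act 0 n4452 = n4452 := d8_1 D4452 (iv D4452) F14793
theorem F20832 : act 1 n4452 = n4452 := d16_1 D4452 (iv D4452) F14794
theorem F20833 : act 2 n4452 = n4452 := d23_1 D4452 (iv D4452) F14795
theorem F20834 : act 3 n4452 = n4452 := d29_1 D4452 (iv D4452) F14796
theorem F20835 : act 4 n4452 = n4452 := d34_1 D4452 (iv D4452) F14797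
theorem F20836 : act 5 n4452 = n3091 := d38_1 D4452 (iv D3091) D3090
theorem F20837 : act 6 n4452 = n4452 := d41_1 D4452 (iv D4452) F14798
theorem F20838 : act 7 n4452 = n4452 := d43_1 D4452 (iv D4452) F14799
def n4453 : Q := act 8 n3091
theorem D4453 : act 8 n3091 = n4453 := rfl
theorem F20839 : act 0 n4453 = n4453 := d7_1 D4453 (iv D4453) F14801
theorem F20840 : act 1 n4453 = n4453 := d15_1 D4453 (iv D4453) F14802
theorem F20841 : act 2 n4453 = n4453 := d22_1 D4453 (iv D4453) F14803
theorem F20842 : act 4 n4453 = n3094 := d33_1 D4453 (iv D3094) (iv F14805)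
theorem F20843 : act 6 n4453 = n3092 := d40_1 D4453 (iv D3092) (iv F14806)
theorem F20844 : act 7 n4453 = n4453 := d42_1 D4453 (iv D4453) F14807
theorem F20845 : act 9 n4453 = n4453 := d44_2 D3091 D4453 (iv D4453) (iv D3091) F10556
def n4454 : Q := act 3 n3092
theorem D4454 : act 3 n3092 = n4454 := rfl
theorem F20846 : act 0 n4454 = n4454 := d2_1 D4454 (iv D4454) F14808
theorem F20847 : act 1 n4454 = n4454 := d10_1 D4454 (iv D4454) F14809
theorem F20848 : act 5 n4454 = n4454 := d25_2 F14812 D4454 (iv D4454)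
theorem F20849 : act 7 n4454 = n3093 := d27_2 (iv F14813) D4454 (iv D3093)
theorem F20850 : act 8 n4454 = n4454 := d28_2 D3092 D4454 (iv D4454) (iv D3092) F10560
theorem F20851 : act 9 n4454 = n4454 := d29_2 F14814 D4454 (iv D4454)
def n4455 : Q := act 2 n3093
theorem D4455 : act 2 n3093 = n4455 := rfl
theorem F20852 : act 0 n4455 = n4455 := d1_1 D4455 (iv D4455) F14815
theorem F20853 : act 3 n4455 = n4455 := d17_2 D3093 D4455 (iv D4455) (iv D3093) F10566
theorem F20854 : act 5 n4455 = n4455 := d19_2 F14817 D4455 (iv D4455)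
theorem F20855 : act 6 n4455 = n4455 := d20_2 F14818 D4455 (iv D4455)
theorem F20856 : act 8 n4455 = n4455 := d22_2 F14819 D4455 (iv D4455)
theorem F20857 : act 9 n4455 = n4455 := d23_2 F14820 D4455 (iv D4455)
def n4456 : Q := act 4 n3093
theorem D4456 : act 4 n3093 = n4456 := rfl
theorem F20858 : act 0 n4456 = n4456 := d3_1 D4456 (iv D4456) F14815
theorem F20859 : act 1 n4456 = n4456 := d11_1 D4456 (iv D4456) F14816
theorem F20860 : act 3 n4456 = n3097 := d24_1 D4456 (iv D3097) (iv D2157) (iv F10567) D3093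
theorem F20861 : act 6 n4456 = n4456 := d31_2 F14818 D4456 (iv D4456)
theorem F20862 : act 8 n4456 = n4456 := d33_2 F14819 D4456 (iv D4456)
theorem F20863 : act 9 n4456 = n4456 := d34_2 F14820 D4456 (iv D4456)
def n4457 : Q := act 3 n3094
theorem D4457 : act 3 n3094 = n4457 := rfl
theorem F20864 : act 0 n4457 = n4457 := d2_1 D4457 (iv D4457) F14821
theorem F20865 : act 1 n4457 = n4457 := d10_1 D4457 (iv D4457) F14822
theorem F20866 : act 5 n4457 = n4457 := d25_2 F14824 D4457 (iv D4457)
theorem F20867 : act 6 n4457 = n3095 := d26_2 (iv F14825) D4457 (iv D3095)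
theorem F20868 : act 7 n4457 = n4457 := d27_2 F14826 D4457 (iv D4457)
theorem F20869 : act 8 n4457 = n3109 := d28_2 D3094 D4457 (iv D3109) (iv D2165) (iv F10574)
theorem F20870 : act 9 n4457 = n4457 := d29_2 F14827 D4457 (iv D4457)
def n4458 : Q := act 2 n3095
theorem D4458 : act 2 n3095 = n4458 := rfl
theorem F20871 : act 0 n4458 = n4458 := d1_1 D4458 (iv D4458) F14828
theorem F20872 : act 3 n4458 = n4458 := d17_2 D3095 D4458 (iv D4458) (iv D3095) F10580
theorem F20873 : act 5 n4458 = n3098 := d19_2 (iv F14830) D4458 (iv D3098)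
theorem F20874 : act 7 n4458 = n3096 := d21_2 (iv F14831) D4458 (iv D3096)
theorem F20875 : act 8 n4458 = n3111 := d22_2 (iv F14832) D4458 (iv D3111)
theorem F20876 : act 9 n4458 = n4458 := d23_2 F14833 D4458 (iv D4458)
def n4459 : Q := act 4 n3095
theorem D4459 : act 4 n3095 = n4459 := rfl
theorem F20877 : act 0 n4459 = n4459 := d3_1 D4459 (iv D4459) F14828
theorem F20878 : act 1 n4459 = n4459 := d11_1 D4459 (iv D4459) F14829
theorem F20879 : act 7 n4459 = n3097 := d32_2 (iv F14831) D4459 (iv D3097)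
theorem F20880 : act 8 n4459 = n3112 := d33_2 (iv F14832) D4459 (iv D3112)
theorem F20881 : act 9 n4459 = n4459 := d34_2 F14833 D4459 (iv D4459)
def n4460 : Q := act 1 n3096
theorem D4460 : act 1 n3096 = n4460 := rfl
theorem F20882 : act 2 n4460 = n4460 := d9_2 D3096 D4460 (iv D4460) (iv D3096) F10585
theorem F20883 : act 3 n4460 = n4460 := d10_2 F14835 D4460 (iv D4460)
theorem F20884 : act 5 n4460 = n3100 := d12_2 (iv F14836) D4460 (iv D3100)
theorem F20885 : act 6 n4460 = n4460 := d13_2 F14837 D4460 (iv D4460)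
theorem F20886 : act 8 n4460 = n3115 := d15_2 (iv F14838) D4460 (iv D3115)
theorem F20887 : act 9 n4460 = n4460 := d16_2 F14839 D4460 (iv D4460)
def n4461 : Q := act 4 n3096
theorem D4461 : act 4 n3096 = n4461 := rfl
theorem F20888 : act 0 n4461 = n4461 := d3_1 D4461 (iv D4461) F14834
theorem F20889 : act 2 n4461 = n3097 := d18_1 D4461 (iv D3097) D3096
theorem F20890 : act 6 n4461 = n4461 := d31_2 F14837 D4461 (iv D4461)
theorem F20891 : act 8 n4461 = n3116 := d33_2 (iv F14838) D4461 (iv D3116)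
theorem F20892 : act 9 n4461 = n4461 := d34_2 F14839 D4461 (iv D4461)
def n4462 : Q := act 5 n3097
theorem D4462 : act 5 n3097 = n4462 := rfl
theorem F20893 : act 0 n4462 = n4462 := d4_1 D4462 (iv D4462) F14840
theorem F20894 : act 1 n4462 = n4462 := d12_1 D4462 (iv D4462) F14841
theorem F20895 : act 4 n4462 = n3102 := d30_1 D4462 (iv D3102) (iv D2160) (iv F10586) D3097
theorem F20896 : act 8 n4462 = n3117 := d37_2 (iv F14843) D4462 (iv D3117)
theorem F20897 : act 9 n4462 = n4462 := d38_2 F14844 D4462 (iv D4462)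
def n4463 : Q := act 1 n3098
theorem D4463 : act 1 n3098 = n4463 := rfl
theorem F20898 : act 2 n4463 = n4463 := d9_2 D3098 D4463 (iv D4463) (iv D3098) F10591
theorem F20899 : act 3 n4463 = n4463 := d10_2 F14846 D4463 (iv D4463)
theorem F20900 : act 6 n4463 = n4463 := d13_2 F14847 D4463 (iv D4463)
theorem F20901 : act 7 n4463 = n3100 := d14_2 (iv F14848) D4463 (iv D3100)
theorem F20902 : act 8 n4463 = n3120 := d15_2 (iv F14849) D4463 (iv D3120)
theorem F20903 : act 9 n4463 = n4463 := d16_2 F14850 D4463 (iv D4463)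
def n4464 : Q := act 4 n3098
theorem D4464 : act 4 n3098 = n4464 := rfl
theorem F20904 : act 0 n4464 = n4464 := d3_1 D4464 (iv D4464) F14845
theorem F20905 : act 2 n4464 = n3099 := d18_1 D4464 (iv D3099) D3098
theorem F20906 : act 6 n4464 = n4464 := d31_2 F14847 D4464 (iv D4464)
theorem F20907 : act 7 n4464 = n3101 := d32_2 (iv F14848) D4464 (iv D3101)
theorem F20908 : act 8 n4464 = n3121 := d33_2 (iv F14849) D4464 (iv D3121)
theorem F20909 : act 9 n4464 = n4464 := d34_2 F14850 D4464 (iv D4464)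
def n4465 : Q := act 5 n3099
theorem D4465 : act 5 n3099 = n4465 := rfl
theorem F20910 : act 0 n4465 = n4465 := d4_1 D4465 (iv D4465) F14851
theorem F20911 : act 1 n4465 = n4465 := d12_1 D4465 (iv D4465) F14852
theorem F20912 : act 3 n4465 = n4465 := d25_1 D4465 (iv D4465) F14853
theorem F20913 : act 7 n4465 = n3102 := d36_2 (iv F14855) D4465 (iv D3102)
theorem F20914 : act 8 n4465 = n3122 := d37_2 (iv F14856) D4465 (iv D3122)
theorem F20915 : act 9 n4465 = n4465 := d38_2 F14857 D4465 (iv D4465)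
def n4466 : Q := act 0 n3100
theorem D4466 : act 0 n3100 = n4466 := rfl
theorem F20916 : act 1 n4466 = n4466 := d0_2 D3100 D4466 (iv D4466) (iv D3100) F10596
theorem F20917 : act 2 n4466 = n4466 := d1_2 F14858 D4466 (iv D4466)
theorem F20918 : act 3 n4466 = n4466 := d2_2 F14859 D4466 (iv D4466)
theorem F20919 : act 6 n4466 = n3103 := d5_2 (iv F14860) D4466 (iv D3103)
theorem F20920 : act 8 n4466 = n3126 := d7_2 (iv F14861) D4466 (iv D3126)
theorem F20921 : act 9 n4466 = n4466 := d8_2 F14862 D4466 (iv D4466)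
def n4467 : Q := act 4 n3100
theorem D4467 : act 4 n3100 = n4467 := rfl
theorem F20922 : act 1 n4467 = n3101 := d11_1 D4467 (iv D3101) D3100
theorem F20923 : act 2 n4467 = n4467 := d18_1 D4467 (iv D4467) F14858
theorem F20924 : act 6 n4467 = n3104 := d31_2 (iv F14860) D4467 (iv D3104)
theorem F20925 : act 8 n4467 = n3127 := d33_2 (iv F14861) D4467 (iv D3127)
theorem F20926 : act 9 n4467 = n4467 := d34_2 F14862 D4467 (iv D4467)
def n4468 : Q := act 3 n3101
theorem D4468 : act 3 n3101 = n4468 := rfl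
theorem F20927 : act 0 n4468 = n4468 := d2_1 D4468 (iv D4468) F14863
theorem F20928 : act 2 n4468 = n4468 := d17_1 D4468 (iv D4468) F14864 F10603 (iv F14864)
theorem F20929 : act 4 n4468 = n4468 := d24_2 D3101 D4468 (iv D4468) (iv D3101) F10597
theorem F20930 : act 6 n4468 = n3105 := d26_2 (iv F14865) D4468 (iv D3105)
theorem F20931 : act 9 n4468 = n4468 := d29_2 F14867 D4468 (iv D4468)
def n4469 : Q := act 5 n3101
theorem D4469 : act 5 n3101 = n4469 := rfl
theorem F20932 : act 0 n4469 = n4469 := d4_1 D4469 (iv D4469) F14863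
theorem F20933 : act 2 n4469 = n3102 := d19_1 D4469 (iv D3102) (iv F14864)
theorem F20934 : act 8 n4469 = n3129 := d37_2 (iv F14866) D4469 (iv D3129)
theorem F20935 : act 9 n4469 = n4469 := d38_2 F14867 D4469 (iv D4469)
def n4470 : Q := act 6 n3102
theorem D4470 : act 6 n3102 = n4470 := rfl
theorem F20936 : act 0 n4470 = n4470 := d5_1 D4470 (iv D4470) F14868
theorem F20937 : act 1 n4470 = n4470 := d13_1 D4470 (iv D4470) F14869
theorem F20938 : act 3 n4470 = n4470 := d26_1 D4470 (iv D4470) F14870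
theorem F20939 : act 5 n4470 = n3107 := d35_1 D4470 (iv D3107) (iv D2163) (iv F10604) D3102
theorem F20940 : act 8 n4470 = n3130 := d40_2 (iv F14871) D4470 (iv D3130)
theorem F20941 : act 9 n4470 = n4470 := d41_2 F14872 D4470 (iv D4470)
def n4471 : Q := act 4 n3103
theorem D4471 : act 4 n3103 = n4471 := rfl
theorem F20942 : act 0 n4471 = n3104 := d3_1 D4471 (iv D3104) D3103
theorem F20943 : act 1 n4471 = n4471 := d11_1 D4471 (iv D4471) F14873
theorem F20944 : act 2 n4471 = n4471 := d18_1 D4471 (iv D4471) F14874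
theorem F20945 : act 7 n4471 = n4471 := d32_2 F14877 D4471 (iv D4471)
theorem F20946 : act 8 n4471 = n3136 := d33_2 (iv F14878) D4471 (iv D3136)
theorem F20947 : act 9 n4471 = n4471 := d34_2 F14879 D4471 (iv D4471)
def n4472 : Q := act 3 n3104
theorem D4472 : act 3 n3104 = n4472 := rfl
theorem F20948 : act 1 n4472 = n3105 := d10_1 D4472 (iv D3105) (iv F14880)
theorem F20949 : act 4 n4472 = n4472 := d24_2 D3104 D4472 (iv D4472) (iv D3104) F10608
theorem F20950 : act 7 n4472 = n4472 := d27_2 F14882 D4472 (iv D4472)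
theorem F20951 : act 9 n4472 = n4472 := d29_2 F14884 D4472 (iv D4472)
def n4473 : Q := act 5 n3104
theorem D4473 : act 5 n3104 = n4473 := rfl
theorem F20952 : act 1 n4473 = n3106 := d12_1 D4473 (iv D3106) (iv F14880)
theorem F20953 : act 2 n4473 = n4473 := d19_1 D4473 (iv D4473) F14881
theorem F20954 : act 4 n4473 = n4473 := d30_1 D4473 (iv D4473) (iv D3104) F10609 D3104
theorem F20955 : act 7 n4473 = n4473 := d36_2 F14882 D4473 (iv D4473)
theorem F20956 : act 8 n4473 = n3138 := d37_2 (iv F14883) D4473 (iv D3138)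
theorem F20957 : act 9 n4473 = n4473 := d38_2 F14884 D4473 (iv D4473)
def n4474 : Q := act 5 n3105
theorem D4474 : act 5 n3105 = n4474 := rfl
theorem F20958 : act 0 n4474 = n4474 := d4_1 D4474 (iv D4474) F14885
theorem F20959 : act 2 n4474 = n4474 := d19_1 D4474 (iv D4474) F14886
theorem F20960 : act 3 n4474 = n3106 := d25_1 D4474 (iv D3106) D3105
theorem F20961 : act 7 n4474 = n4474 := d36_2 F14888 D4474 (iv D4474)
theorem F20962 : act 9 n4474 = n4474 := d38_2 F14889 D4474 (iv D4474)
def n4475 : Q := act 8 n3105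
theorem D4475 : act 8 n3105 = n4475 := rfl
theorem F20963 : act 0 n4475 = n4475 := d7_1 D4475 (iv D4475) F14885
theorem F20964 : act 2 n4475 = n4475 := d22_1 D4475 (iv D4475) F14886
theorem F20965 : act 3 n4475 = n3140 := d28_1 D4475 (iv D3140) (iv D2184) (iv F10616) D3105
theorem F20966 : act 4 n4475 = n4475 := d33_1 D4475 (iv D4475) F14887
theorem F20967 : act 7 n4475 = n4475 := d42_1 D4475 (iv D4475) F14888
def n4476 : Q := act 6 n3106
theorem D4476 : act 6 n3106 = n4476 := rfl
theorem F20968 : act 0 n4476 = n4476 := d5_1 D4476 (iv D4476) F14890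
theorem F20969 : act 2 n4476 = n3107 := d20_1 D4476 (iv D3107) (iv F14891)
theorem F20970 : act 4 n4476 = n4476 := d31_1 D4476 (iv D4476) F14892
theorem F20971 : act 8 n4476 = n3141 := d40_2 (iv F14894) D4476 (iv D3141)
theorem F20972 : act 9 n4476 = n4476 := d41_2 F14895 D4476 (iv D4476)
def n4477 : Q := act 7 n3107
theorem D4477 : act 7 n3107 = n4477 := rfl
theorem F20973 : act 0 n4477 = n4477 := d6_1 D4477 (iv D4477) F14896
theorem F20974 : act 1 n4477 = n4477 := d14_1 D4477 (iv D4477) F14897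
theorem F20975 : act 3 n4477 = n4477 := d27_1 D4477 (iv D4477) F14898
theorem F20976 : act 4 n4477 = n4477 := d32_1 D4477 (iv D4477) F14899
theorem F20977 : act 6 n4477 = n4477 := d39_1 D4477 (iv D4477) (iv D3107) F10622 D3107
theorem F20978 : act 8 n4477 = n3142 := d42_2 (iv F14900) D4477 (iv D3142)
theorem F20979 : act 9 n4477 = n4477 := d43_2 F14901 D4477 (iv D4477)
def n4478 : Q := act 3 n3108
theorem D4478 : act 3 n3108 = n4478 := rfl
theorem F20980 : act 0 n4478 = n4478 := d2_1 D4478 (iv D4478) F14902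
theorem F20981 : act 1 n4478 = n4478 := d10_1 D4478 (iv D4478) F14903
theorem F20982 : act 5 n4478 = n4478 := d25_2 F14906 D4478 (iv D4478)
theorem F20983 : act 6 n4478 = n3110 := d26_2 (iv F14907) D4478 (iv D3110)
theorem F20984 : act 7 n4478 = n4478 := d27_2 F14908 D4478 (iv D4478)
theorem F20985 : act 8 n4478 = n4478 := d28_2 D3108 D4478 (iv D4478) (iv D3108) F10628
theorem F20986 : act 9 n4478 = n3109 := d29_2 (iv F14909) D4478 (iv D3109)
def n4479 : Q := act 2 n3109
theorem D4479 : act 2 n3109 = n4479 := rfl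
theorem F20987 : act 0 n4479 = n4479 := d1_1 D4479 (iv D4479) F14910
theorem F20988 : act 3 n4479 = n3234 := d17_2 D3109 D4479 (iv D3234) (iv D2247) (iv F10635)
theorem F20989 : act 5 n4479 = n4479 := d19_2 F14912 D4479 (iv D4479)
theorem F20990 : act 6 n4479 = n3111 := d20_2 (iv F14913) D4479 (iv D3111)
theorem F20991 : act 7 n4479 = n4479 := d21_2 F14914 D4479 (iv D4479)
def n4480 : Q := act 4 n3109
theorem D4480 : act 4 n3109 = n4480 := rfl
theorem F20992 : act 0 n4480 = n4480 := d3_1 D4480 (iv D4480) F14910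
theorem F20993 : act 1 n4480 = n4480 := d11_1 D4480 (iv D4480) F14911
theorem F20994 : act 3 n4480 = n4480 := d24_1 D4480 (iv D4480) (iv D3109) F10636 D3109
theorem F20995 : act 6 n4480 = n3112 := d31_2 (iv F14913) D4480 (iv D3112)
theorem F20996 : act 7 n4480 = n4480 := d32_2 F14914 D4480 (iv D4480)
def n4481 : Q := act 2 n3110
theorem D4481 : act 2 n3110 = n4481 := rfl
theorem F20997 : act 0 n4481 = n4481 := d1_1 D4481 (iv D4481) F14915
theorem F20998 : act 3 n4481 = n3238 := d17_2 D3110 D4481 (iv D3238) (iv D2250) (iv F10642)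
theorem F20999 : act 5 n4481 = n3118 := d19_2 (iv F14917) D4481 (iv D3118)
theorem F21000 : act 7 n4481 = n3113 := d21_2 (iv F14918) D4481 (iv D3113)
theorem F21001 : act 8 n4481 = n4481 := d22_2 F14919 D4481 (iv D4481)
theorem F21002 : act 9 n4481 = n3111 := d23_2 (iv F14920) D4481 (iv D3111)
def n4482 : Q := act 4 n3110
theorem D4482 : act 4 n3110 = n4482 := rfl
theorem F21003 : act 0 n4482 = n4482 := d3_1 D4482 (iv D4482) F14915
theorem F21004 : act 1 n4482 = n4482 := d11_1 D4482 (iv D4482) F14916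
theorem F21005 : act 3 n4482 = n4482 := d24_1 D4482 (iv D4482) (iv D3110) F10643 D3110
theorem F21006 : act 7 n4482 = n3114 := d32_2 (iv F14918) D4482 (iv D3114)
theorem F21007 : act 8 n4482 = n4482 := d33_2 F14919 D4482 (iv D4482)
theorem F21008 : act 9 n4482 = n3112 := d34_2 (iv F14920) D4482 (iv D3112)
def n4483 : Q := act 1 n3111
theorem D4483 : act 1 n3111 = n4483 := rfl
theorem F21009 : act 2 n4483 = n4483 := d9_2 D3111 D4483 (iv D4483) (iv D3111) F10648
theorem F21010 : act 3 n4483 = n3240 := d10_2 (iv F14922) D4483 (iv D3240)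
theorem F21011 : act 5 n4483 = n3120 := d12_2 (iv F14923) D4483 (iv D3120)
theorem F21012 : act 7 n4483 = n3115 := d14_2 (iv F14924) D4483 (iv D3115)
def n4484 : Q := act 4 n3111
theorem D4484 : act 4 n3111 = n4484 := rfl
theorem F21013 : act 0 n4484 = n4484 := d3_1 D4484 (iv D4484) F14921
theorem F21014 : act 2 n4484 = n3112 := d18_1 D4484 (iv D3112) D3111
theorem F21015 : act 7 n4484 = n3116 := d32_2 (iv F14924) D4484 (iv D3116)
def n4485 : Q := act 5 n3112
theorem D4485 : act 5 n3112 = n4485 := rfl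
theorem F21016 : act 0 n4485 = n4485 := d4_1 D4485 (iv D4485) F14925
theorem F21017 : act 1 n4485 = n4485 := d12_1 D4485 (iv D4485) F14926
theorem F21018 : act 3 n4485 = n4485 := d25_1 D4485 (iv D4485) F14927
theorem F21019 : act 4 n4485 = n3122 := d30_1 D4485 (iv D3122) (iv D2173) (iv F10649) D3112
theorem F21020 : act 7 n4485 = n3117 := d36_2 (iv F14928) D4485 (iv D3117)
def n4486 : Q := act 1 n3113
theorem D4486 : act 1 n3113 = n4486 := rfl
theorem F21021 : act 2 n4486 = n4486 := d9_2 D3113 D4486 (iv D4486) (iv D3113) F10652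
theorem F21022 : act 3 n4486 = n3246 := d10_2 (iv F14930) D4486 (iv D3246)
theorem F21023 : act 5 n4486 = n3123 := d12_2 (iv F14931) D4486 (iv D3123)
theorem F21024 : act 6 n4486 = n4486 := d13_2 F14932 D4486 (iv D4486)
theorem F21025 : act 8 n4486 = n4486 := d15_2 F14933 D4486 (iv D4486)
theorem F21026 : act 9 n4486 = n3115 := d16_2 (iv F14934) D4486 (iv D3115)
def n4487 : Q := act 4 n3113
theorem D4487 : act 4 n3113 = n4487 := rfl
theorem F21027 : act 0 n4487 = n4487 := d3_1 D4487 (iv D4487) F14929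
theorem F21028 : act 2 n4487 = n3114 := d18_1 D4487 (iv D3114) D3113
theorem F21029 : act 6 n4487 = n4487 := d31_2 F14932 D4487 (iv D4487)
theorem F21030 : act 8 n4487 = n4487 := d33_2 F14933 D4487 (iv D4487)
theorem F21031 : act 9 n4487 = n3116 := d34_2 (iv F14934) D4487 (iv D3116)
def n4488 : Q := act 5 n3114
theorem D4488 : act 5 n3114 = n4488 := rfl
theorem F21032 : act 0 n4488 = n4488 := d4_1 D4488 (iv D4488) F14935
theorem F21033 : act 1 n4488 = n4488 := d12_1 D4488 (iv D4488) F14936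
theorem F21034 : act 3 n4488 = n4488 := d25_1 D4488 (iv D4488) F14937
theorem F21035 : act 4 n4488 = n3125 := d30_1 D4488 (iv D3125) (iv D2175) (iv F10653) D3114
theorem F21036 : act 8 n4488 = n4488 := d37_2 F14939 D4488 (iv D4488)
theorem F21037 : act 9 n4488 = n3117 := d38_2 (iv F14940) D4488 (iv D3117)
def n4489 : Q := act 0 n3115
theorem D4489 : act 0 n3115 = n4489 := rfl
theorem F21038 : act 1 n4489 = n4489 := d0_2 D3115 D4489 (iv D4489) (iv D3115) F10657
theorem F21039 : act 2 n4489 = n4489 := d1_2 F14941 D4489 (iv D4489)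
theorem F21040 : act 3 n4489 = n3249 := d2_2 (iv F14942) D4489 (iv D3249)
theorem F21041 : act 5 n4489 = n3126 := d4_2 (iv F14943) D4489 (iv D3126)
theorem F21042 : act 6 n4489 = n4489 := d5_2 F14944 D4489 (iv D4489)
def n4490 : Q := act 4 n3115
theorem D4490 : act 4 n3115 = n4490 := rfl
theorem F21043 : act 1 n4490 = n3116 := d11_1 D4490 (iv D3116) D3115
theorem F21044 : act 2 n4490 = n4490 := d18_1 D4490 (iv D4490) F14941
theorem F21045 : act 6 n4490 = n4490 := d31_2 F14944 D4490 (iv D4490)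
def n4491 : Q := act 3 n3116
theorem D4491 : act 3 n3116 = n4491 := rfl
theorem F21046 : act 0 n4491 = n4491 := d2_1 D4491 (iv D4491) F14945
theorem F21047 : act 2 n4491 = n4491 := d17_1 D4491 (iv D4491) F14946 F10663 (iv F14946)
theorem F21048 : act 4 n4491 = n3251 := d24_2 D3116 D4491 (iv D3251) (iv D2258) (iv F10658)
theorem F21049 : act 6 n4491 = n4491 := d26_2 F14947 D4491 (iv D4491)
def n4492 : Q := act 5 n3116
theorem D4492 : act 5 n3116 = n4492 := rfl
theorem F21050 : act 0 n4492 = n4492 := d4_1 D4492 (iv D4492) F14945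
theorem F21051 : act 2 n4492 = n3117 := d19_1 D4492 (iv D3117) (iv F14946)
theorem F21052 : act 4 n4492 = n3129 := d30_1 D4492 (iv D3129) (iv D2177) (iv F10659) D3116
def n4493 : Q := act 6 n3117
theorem D4493 : act 6 n3117 = n4493 := rfl
theorem F21053 : act 0 n4493 = n4493 := d5_1 D4493 (iv D4493) F14948
theorem F21054 : act 1 n4493 = n4493 := d13_1 D4493 (iv D4493) F14949
theorem F21055 : act 3 n4493 = n4493 := d26_1 D4493 (iv D4493) F14950
theorem F21056 : act 4 n4493 = n3130 := d31_1 D4493 (iv D3130) (iv F14951)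
theorem F21057 : act 5 n4493 = n4493 := d35_1 D4493 (iv D4493) (iv D3117) F10664 D3117
def n4494 : Q := act 1 n3118
theorem D4494 : act 1 n3118 = n4494 := rfl
theorem F21058 : act 2 n4494 = n4494 := d9_2 D3118 D4494 (iv D4494) (iv D3118) F10666
theorem F21059 : act 3 n4494 = n3256 := d10_2 (iv F14953) D4494 (iv D3256)
theorem F21060 : act 6 n4494 = n4494 := d13_2 F14954 D4494 (iv D4494)
theorem F21061 : act 7 n4494 = n3123 := d14_2 (iv F14955) D4494 (iv D3123)
theorem F21062 : act 8 n4494 = n4494 := d15_2 F14956 D4494 (iv D4494)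
theorem F21063 : act 9 n4494 = n3120 := d16_2 (iv F14957) D4494 (iv D3120)
def n4495 : Q := act 4 n3118
theorem D4495 : act 4 n3118 = n4495 := rfl
theorem F21064 : act 0 n4495 = n4495 := d3_1 D4495 (iv D4495) F14952
theorem F21065 : act 2 n4495 = n3119 := d18_1 D4495 (iv D3119) D3118
theorem F21066 : act 6 n4495 = n4495 := d31_2 F14954 D4495 (iv D4495)
theorem F21067 : act 7 n4495 = n3124 := d32_2 (iv F14955) D4495 (iv D3124)
theorem F21068 : act 8 n4495 = n4495 := d33_2 F14956 D4495 (iv D4495)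
theorem F21069 : act 9 n4495 = n3121 := d34_2 (iv F14957) D4495 (iv D3121)
def n4496 : Q := act 5 n3119
theorem D4496 : act 5 n3119 = n4496 := rfl
theorem F21070 : act 0 n4496 = n4496 := d4_1 D4496 (iv D4496) F14958
theorem F21071 : act 1 n4496 = n4496 := d12_1 D4496 (iv D4496) F14959
theorem F21072 : act 3 n4496 = n3147 := d25_1 D4496 (iv D3147) (iv F14960)
theorem F21073 : act 7 n4496 = n3125 := d36_2 (iv F14962) D4496 (iv D3125)
theorem F21074 : act 8 n4496 = n4496 := d37_2 F14963 D4496 (iv D4496)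
theorem F21075 : act 9 n4496 = n3122 := d38_2 (iv F14964) D4496 (iv D3122)
def n4497 : Q := act 0 n3120
theorem D4497 : act 0 n3120 = n4497 := rfl
theorem F21076 : act 1 n4497 = n4497 := d0_2 D3120 D4497 (iv D4497) (iv D3120) F10671
theorem F21077 : act 2 n4497 = n4497 := d1_2 F14965 D4497 (iv D4497)
theorem F21078 : act 3 n4497 = n3259 := d2_2 (iv F14966) D4497 (iv D3259)
theorem F21079 : act 6 n4497 = n4497 := d5_2 F14967 D4497 (iv D4497)
theorem F21080 : act 7 n4497 = n3126 := d6_2 (iv F14968) D4497 (iv D3126)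
def n4498 : Q := act 4 n3120
theorem D4498 : act 4 n3120 = n4498 := rfl
theorem F21081 : act 1 n4498 = n3121 := d11_1 D4498 (iv D3121) D3120
theorem F21082 : act 2 n4498 = n4498 := d18_1 D4498 (iv D4498) F14965
theorem F21083 : act 6 n4498 = n4498 := d31_2 F14967 D4498 (iv D4498)
theorem F21084 : act 7 n4498 = n3127 := d32_2 (iv F14968) D4498 (iv D3127)
def n4499 : Q := act 3 n3121
theorem D4499 : act 3 n3121 = n4499 := rfl
theorem F21085 : act 0 n4499 = n4499 := d2_1 D4499 (iv D4499) F14969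
theorem F21086 : act 2 n4499 = n3150 := d17_1 D4499 (iv D3150) F10763 (iv F10677) (iv F14970)
theorem F21087 : act 4 n4499 = n3261 := d24_2 D3121 D4499 (iv D3261) (iv D2264) (iv F10672)
theorem F21088 : act 6 n4499 = n4499 := d26_2 F14971 D4499 (iv D4499)
theorem F21089 : act 7 n4499 = n3128 := d27_2 (iv F14972) D4499 (iv D3128)
def n4500 : Q := act 5 n3121
theorem D4500 : act 5 n3121 = n4500 := rfl
theorem F21090 : act 0 n4500 = n4500 := d4_1 D4500 (iv D4500) F14969
theorem F21091 : act 2 n4500 = n3122 := d19_1 D4500 (iv D3122) (iv F14970)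
theorem F21092 : act 7 n4500 = n3129 := d36_2 (iv F14972) D4500 (iv D3129)
def n4501 : Q := act 6 n3122
theorem D4501 : act 6 n3122 = n4501 := rfl
theorem F21093 : act 0 n4501 = n4501 := d5_1 D4501 (iv D4501) F14973
theorem F21094 : act 1 n4501 = n4501 := d13_1 D4501 (iv D4501) F14974
theorem F21095 : act 3 n4501 = n3152 := d26_1 D4501 (iv D3152) (iv F14975)
theorem F21096 : act 5 n4501 = n4501 := d35_1 D4501 (iv D4501) (iv D3122) F10678 D3122
def n4502 : Q := act 0 n3123
theorem D4502 : act 0 n3123 = n4502 := rfl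
theorem F21099 : act 3 n4502 = n3267 := d2_2 (iv F14978) D4502 (iv D3267)
theorem F21102 : act 9 n4502 = n3126 := d8_2 (iv F14981) D4502 (iv D3126)
def n4503 : Q := act 4 n3123
theorem D4503 : act 4 n3123 = n4503 := rfl
theorem F21103 : act 1 n4503 = n3124 := d11_1 D4503 (iv D3124) D3123
theorem F21104 : act 2 n4503 = n4503 := d18_1 D4503 (iv D4503) F14977
theorem F21105 : act 6 n4503 = n3132 := d31_2 (iv F14979) D4503 (iv D3132)
theorem F21106 : act 8 n4503 = n4503 := d33_2 F14980 D4503 (iv D4503)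
theorem F21107 : act 9 n4503 = n3127 := d34_2 (iv F14981) D4503 (iv D3127)
def n4504 : Q := act 3 n3124
theorem D4504 : act 3 n3124 = n4504 := rfl
theorem F21108 : act 0 n4504 = n4504 := d2_1 D4504 (iv D4504) F14982
theorem F21109 : act 2 n4504 = n3158 := d17_1 D4504 (iv D3158) F10790 (iv F10687) (iv F14983)
theorem F21110 : act 4 n4504 = n3269 := d24_2 D3124 D4504 (iv D3269) (iv D2269) (iv F10681)
theorem F21111 : act 6 n4504 = n3133 := d26_2 (iv F14984) D4504 (iv D3133)
theorem F21112 : act 9 n4504 = n3128 := d29_2 (iv F14986) D4504 (iv D3128)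
def n4505 : Q := act 5 n3124
theorem D4505 : act 5 n3124 = n4505 := rfl
theorem F21113 : act 0 n4505 = n4505 := d4_1 D4505 (iv D4505) F14982
theorem F21114 : act 2 n4505 = n3125 := d19_1 D4505 (iv D3125) (iv F14983)
theorem F21115 : act 8 n4505 = n4505 := d37_2 F14985 D4505 (iv D4505)
theorem F21116 : act 9 n4505 = n3129 := d38_2 (iv F14986) D4505 (iv D3129)
def n4506 : Q := act 6 n3125
theorem D4506 : act 6 n3125 = n4506 := rfl
theorem F21117 : act 0 n4506 = n4506 := d5_1 D4506 (iv D4506) F14987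
theorem F21118 : act 1 n4506 = n4506 := d13_1 D4506 (iv D4506) F14988
theorem F21119 : act 3 n4506 = n3160 := d26_1 D4506 (iv D3160) (iv F14989)
theorem F21120 : act 5 n4506 = n3135 := d35_1 D4506 (iv D3135) (iv D2181) (iv F10688) D3125
theorem F21121 : act 8 n4506 = n4506 := d40_2 F14990 D4506 (iv D4506)
theorem F21122 : act 9 n4506 = n3130 := d41_2 (iv F14991) D4506 (iv D3130)
def n4507 : Q := act 4 n3126
theorem D4507 : act 4 n3126 = n4507 := rfl
theorem F21123 : act 0 n4507 = n3127 := d3_1 D4507 (iv D3127) D3126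
theorem F21124 : act 1 n4507 = n4507 := d11_1 D4507 (iv D4507) F14992
theorem F21125 : act 2 n4507 = n4507 := d18_1 D4507 (iv D4507) F14993
theorem F21126 : act 6 n4507 = n3136 := d31_2 (iv F14995) D4507 (iv D3136)
def n4508 : Q := act 3 n3127
theorem D4508 : act 3 n3127 = n4508 := rfl
theorem F21127 : act 1 n4508 = n3128 := d10_1 D4508 (iv D3128) (iv F14996)
theorem F21128 : act 4 n4508 = n3273 := d24_2 D3127 D4508 (iv D3273) (iv D2272) (iv F10692)
theorem F21129 : act 6 n4508 = n3137 := d26_2 (iv F14998) D4508 (iv D3137)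
def n4509 : Q := act 5 n3127
theorem D4509 : act 5 n3127 = n4509 := rfl
theorem F21130 : act 1 n4509 = n3129 := d12_1 D4509 (iv D3129) (iv F14996)
theorem F21131 : act 2 n4509 = n4509 := d19_1 D4509 (iv D4509) F14997
def n4510 : Q := act 5 n3128
theorem D4510 : act 5 n3128 = n4510 := rfl
theorem F21132 : act 0 n4510 = n4510 := d4_1 D4510 (iv D4510) F14999
theorem F21133 : act 2 n4510 = n3164 := d19_1 D4510 (iv D3164) (iv F15000)
theorem F21134 : act 3 n4510 = n3129 := d25_1 D4510 (iv D3129) D3128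
def n4511 : Q := act 8 n3128
theorem D4511 : act 8 n3128 = n4511 := rfl
theorem F21135 : act 0 n4511 = n4511 := d7_1 D4511 (iv D4511) F14999
theorem F21136 : act 2 n4511 = n3165 := d22_1 D4511 (iv D3165) (iv F15000)
theorem F21137 : act 4 n4511 = n3276 := d33_1 D4511 (iv D3276) (iv F15001)
theorem F21138 : act 6 n4511 = n3140 := d40_1 D4511 (iv D3140) (iv F15002)
def n4512 : Q := act 6 n3129
theorem D4512 : act 6 n3129 = n4512 := rfl
theorem F21139 : act 0 n4512 = n4512 := d5_1 D4512 (iv D4512) F15003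
theorem F21140 : act 2 n4512 = n3130 := d20_1 D4512 (iv D3130) (iv F15004)
theorem F21141 : act 5 n4512 = n3141 := d35_1 D4512 (iv D3141) (iv D2185) (iv F10696) D3129
def n4513 : Q := act 7 n3130
theorem D4513 : act 7 n3130 = n4513 := rfl
theorem F21142 : act 0 n4513 = n4513 := d6_1 D4513 (iv D4513) F15005
theorem F21143 : act 1 n4513 = n4513 := d14_1 D4513 (iv D4513) F15006
theorem F21144 : act 3 n4513 = n3167 := d27_1 D4513 (iv D3167) (iv F15007)
theorem F21145 : act 5 n4513 = n3142 := d36_1 D4513 (iv D3142) (iv F15008)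
def n4514 : Q := act 4 n3131
theorem D4514 : act 4 n3131 = n4514 := rfl
theorem F21146 : act 0 n4514 = n3132 := d3_1 D4514 (iv D3132) D3131
theorem F21151 : act 9 n4514 = n3136 := d34_2 (iv F15015) D4514 (iv D3136)
def n4515 : Q := act 3 n3132
theorem D4515 : act 3 n3132 = n4515 := rfl
theorem F21152 : act 1 n4515 = n3133 := d10_1 D4515 (iv D3133) (iv F15016)
theorem F21153 : act 4 n4515 = n3285 := d24_2 D3132 D4515 (iv D3285) (iv D2280) (iv F10701)
theorem F21154 : act 7 n4515 = n4515 := d27_2 F15018 D4515 (iv D4515)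
theorem F21155 : act 9 n4515 = n3137 := d29_2 (iv F15020) D4515 (iv D3137)
def n4516 : Q := act 5 n3132
theorem D4516 : act 5 n3132 = n4516 := rfl
theorem F21156 : act 1 n4516 = n3134 := d12_1 D4516 (iv D3134) (iv F15016)
theorem F21157 : act 2 n4516 = n4516 := d19_1 D4516 (iv D4516) F15017
theorem F21158 : act 4 n4516 = n4516 := d30_1 D4516 (iv D4516) (iv D3132) F10702 D3132
theorem F21159 : act 7 n4516 = n4516 := d36_2 F15018 D4516 (iv D4516)
theorem F21160 : act 8 n4516 = n4516 := d37_2 F15019 D4516 (iv D4516)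
theorem F21161 : act 9 n4516 = n3138 := d38_2 (iv F15020) D4516 (iv D3138)
def n4517 : Q := act 5 n3133
theorem D4517 : act 5 n3133 = n4517 := rfl
theorem F21162 : act 0 n4517 = n4517 := d4_1 D4517 (iv D4517) F15021
theorem F21163 : act 2 n4517 = n3176 := d19_1 D4517 (iv D3176) (iv F15022)
theorem F21164 : act 3 n4517 = n3134 := d25_1 D4517 (iv D3134) D3133
theorem F21165 : act 7 n4517 = n4517 := d36_2 F15024 D4517 (iv D4517)
theorem F21166 : act 9 n4517 = n3139 := d38_2 (iv F15025) D4517 (iv D3139)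
def n4518 : Q := act 8 n3133
theorem D4518 : act 8 n3133 = n4518 := rfl
theorem F21167 : act 0 n4518 = n4518 := d7_1 D4518 (iv D4518) F15021
theorem F21168 : act 2 n4518 = n3177 := d22_1 D4518 (iv D3177) (iv F15022)
theorem F21169 : act 3 n4518 = n4518 := d28_1 D4518 (iv D4518) (iv D3133) F10709 D3133
theorem F21170 : act 4 n4518 = n3288 := d33_1 D4518 (iv D3288) (iv F15023)
theorem F21171 : act 7 n4518 = n4518 := d42_1 D4518 (iv D4518) F15024
def n4519 : Q := act 6 n3134
theorem D4519 : act 6 n3134 = n4519 := rfl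
theorem F21172 : act 0 n4519 = n4519 := d5_1 D4519 (iv D4519) F15026
theorem F21173 : act 2 n4519 = n3135 := d20_1 D4519 (iv D3135) (iv F15027)
theorem F21174 : act 4 n4519 = n4519 := d31_1 D4519 (iv D4519) F15028
theorem F21175 : act 8 n4519 = n4519 := d40_2 F15030 D4519 (iv D4519)
theorem F21176 : act 9 n4519 = n3141 := d41_2 (iv F15031) D4519 (iv D3141)
def n4520 : Q := act 7 n3135
theorem D4520 : act 7 n3135 = n4520 := rfl
theorem F21177 : act 0 n4520 = n4520 := d6_1 D4520 (iv D4520) F15032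
theorem F21178 : act 1 n4520 = n4520 := d14_1 D4520 (iv D4520) F15033
theorem F21179 : act 3 n4520 = n3179 := d27_1 D4520 (iv D3179) (iv F15034)
theorem F21180 : act 4 n4520 = n4520 := d32_1 D4520 (iv D4520) F15035
theorem F21181 : act 6 n4520 = n4520 := d39_1 D4520 (iv D4520) (iv D3135) F10715 D3135
theorem F21182 : act 8 n4520 = n4520 := d42_2 F15036 D4520 (iv D4520)
theorem F21183 : act 9 n4520 = n3142 := d43_2 (iv F15037) D4520 (iv D3142)
def n4521 : Q := act 3 n3136
theorem D4521 : act 3 n3136 = n4521 := rfl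
theorem F21184 : act 0 n4521 = n3137 := d2_1 D4521 (iv D3137) (iv F15038)
theorem F21185 : act 1 n4521 = n4521 := d10_1 D4521 (iv D4521) F15039
theorem F21186 : act 4 n4521 = n3291 := d24_2 D3136 D4521 (iv D3291) (iv D2284) (iv F10720)
theorem F21187 : act 7 n4521 = n4521 := d27_2 F15041 D4521 (iv D4521)
def n4522 : Q := act 5 n3136
theorem D4522 : act 5 n3136 = n4522 := rfl
theorem F21188 : act 0 n4522 = n3138 := d4_1 D4522 (iv D3138) (iv F15038)
theorem F21189 : act 1 n4522 = n4522 := d12_1 D4522 (iv D4522) F15039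
theorem F21190 : act 2 n4522 = n4522 := d19_1 D4522 (iv D4522) F15040
theorem F21191 : act 4 n4522 = n4522 := d30_1 D4522 (iv D4522) (iv D3136) F10721 D3136
theorem F21192 : act 7 n4522 = n4522 := d36_2 F15041 D4522 (iv D4522)
def n4523 : Q := act 2 n3137
theorem D4523 : act 2 n3137 = n4523 := rfl
theorem F21193 : act 1 n4523 = n3182 := d9_1 D4523 (iv D3182) F10865 (iv F10727) (iv F15042)
theorem F21194 : act 3 n4523 = n4523 := d17_2 D3137 D4523 (iv D4523) (iv D3137) F10724
theorem F21195 : act 4 n4523 = n3293 := d18_2 (iv F15043) D4523 (iv D3293)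
theorem F21196 : act 7 n4523 = n4523 := d21_2 F15044 D4523 (iv D4523)
def n4524 : Q := act 5 n3137
theorem D4524 : act 5 n3137 = n4524 := rfl
theorem F21197 : act 1 n4524 = n3139 := d12_1 D4524 (iv D3139) (iv F15042)
theorem F21198 : act 3 n4524 = n3138 := d25_1 D4524 (iv D3138) D3137
theorem F21199 : act 7 n4524 = n4524 := d36_2 F15044 D4524 (iv D4524)
def n4525 : Q := act 8 n3137
theorem D4525 : act 8 n3137 = n4525 := rfl
theorem F21200 : act 1 n4525 = n3140 := d15_1 D4525 (iv D3140) (iv F15042)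
theorem F21201 : act 4 n4525 = n3295 := d33_1 D4525 (iv D3295) (iv F15043)
theorem F21202 : act 7 n4525 = n4525 := d42_1 D4525 (iv D4525) F15044
def n4526 : Q := act 6 n3138
theorem D4526 : act 6 n3138 = n4526 := rfl
theorem F21203 : act 1 n4526 = n3141 := d13_1 D4526 (iv D3141) (iv F15045)
theorem F21204 : act 2 n4526 = n4526 := d20_1 D4526 (iv D4526) F15046
theorem F21205 : act 4 n4526 = n4526 := d31_1 D4526 (iv D4526) F15047
def n4527 : Q := act 4 n3139
theorem D4527 : act 4 n3139 = n4527 := rfl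
theorem F21206 : act 0 n4527 = n4527 := d3_1 D4527 (iv D4527) F15049
theorem F21207 : act 2 n4527 = n3186 := d18_1 D4527 (iv D3186) (iv F15050)
theorem F21208 : act 3 n4527 = n4527 := d24_1 D4527 (iv D4527) F15051 F10732 (iv F15051)
theorem F21209 : act 5 n4527 = n3297 := d30_2 D3139 D4527 (iv D3297) (iv D2287) (iv F10728)
theorem F21210 : act 7 n4527 = n4527 := d32_2 F15052 D4527 (iv D4527)
def n4528 : Q := act 6 n3139
theorem D4528 : act 6 n3139 = n4528 := rfl
theorem F21211 : act 0 n4528 = n4528 := d5_1 D4528 (iv D4528) F15049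
theorem F21212 : act 2 n4528 = n3187 := d20_1 D4528 (iv D3187) (iv F15050)
theorem F21213 : act 3 n4528 = n3141 := d26_1 D4528 (iv D3141) (iv F15051)
def n4529 : Q := act 8 n3139
theorem D4529 : act 8 n3139 = n4529 := rfl
theorem F21214 : act 0 n4529 = n4529 := d7_1 D4529 (iv D4529) F15049
theorem F21215 : act 2 n4529 = n3188 := d22_1 D4529 (iv D3188) (iv F15050)
theorem F21216 : act 5 n4529 = n3140 := d37_1 D4529 (iv D3140) D3139
theorem F21217 : act 7 n4529 = n4529 := d42_1 D4529 (iv D4529) F15052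
def n4530 : Q := act 9 n3140
theorem D4530 : act 9 n3140 = n4530 := rfl
theorem F21218 : act 0 n4530 = n4530 := d8_1 D4530 (iv D4530) F15053
theorem F21219 : act 2 n4530 = n3189 := d23_1 D4530 (iv D3189) (iv F15054)
theorem F21220 : act 4 n4530 = n3300 := d34_1 D4530 (iv D3300) (iv F15055)
theorem F21221 : act 7 n4530 = n4530 := d43_1 D4530 (iv D4530) F15056
def n4531 : Q := act 7 n3141
theorem D4531 : act 7 n3141 = n4531 := rfl
theorem F21222 : act 0 n4531 = n4531 := d6_1 D4531 (iv D4531) F15057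
theorem F21223 : act 2 n4531 = n3142 := d21_1 D4531 (iv D3142) (iv F15058)
theorem F21224 : act 4 n4531 = n4531 := d32_1 D4531 (iv D4531) F15059
theorem F21225 : act 6 n4531 = n4531 := d39_1 D4531 (iv D4531) (iv D3141) F10733 D3141
def n4532 : Q := act 1 n3143
theorem D4532 : act 1 n3143 = n4532 := rfl
theorem F21226 : act 2 n4532 = n4532 := d9_2 D3143 D4532 (iv D4532) (iv D3143) F10739
theorem F21227 : act 3 n4532 = n4532 := d10_2 F15066 D4532 (iv D4532)
theorem F21228 : act 5 n4532 = n4532 := d12_2 F15067 D4532 (iv D4532)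
theorem F21229 : act 6 n4532 = n4532 := d13_2 F15068 D4532 (iv D4532)
theorem F21230 : act 7 n4532 = n3153 := d14_2 (iv F15069) D4532 (iv D3153)
theorem F21231 : act 8 n4532 = n3145 := d15_2 (iv F15070) D4532 (iv D3145)
theorem F21232 : act 9 n4532 = n4532 := d16_2 F15071 D4532 (iv D4532)
def n4533 : Q := act 4 n3143
theorem D4533 : act 4 n3143 = n4533 := rfl
theorem F21233 : act 0 n4533 = n4533 := d3_1 D4533 (iv D4533) F15065
theorem F21234 : act 2 n4533 = n3144 := d18_1 D4533 (iv D3144) D3143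
theorem F21235 : act 6 n4533 = n4533 := d31_2 F15068 D4533 (iv D4533)
theorem F21236 : act 7 n4533 = n3154 := d32_2 (iv F15069) D4533 (iv D3154)
theorem F21237 : act 8 n4533 = n3146 := d33_2 (iv F15070) D4533 (iv D3146)
theorem F21238 : act 9 n4533 = n4533 := d34_2 F15071 D4533 (iv D4533)
def n4534 : Q := act 5 n3144
theorem D4534 : act 5 n3144 = n4534 := rfl
theorem F21239 : act 0 n4534 = n4534 := d4_1 D4534 (iv D4534) F15072
theorem F21240 : act 1 n4534 = n4534 := d12_1 D4534 (iv D4534) F15073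
theorem F21241 : act 3 n4534 = n4534 := d25_1 D4534 (iv D4534) F15074
theorem F21242 : act 4 n4534 = n4534 := d30_1 D4534 (iv D4534) (iv D3144) F10740 D3144
theorem F21243 : act 7 n4534 = n3155 := d36_2 (iv F15076) D4534 (iv D3155)
theorem F21244 : act 8 n4534 = n3147 := d37_2 (iv F15077) D4534 (iv D3147)
theorem F21245 : act 9 n4534 = n4534 := d38_2 F15078 D4534 (iv D4534)
def n4535 : Q := act 0 n3145
theorem D4535 : act 0 n3145 = n4535 := rfl
theorem F21246 : act 1 n4535 = n4535 := d0_2 D3145 D4535 (iv D4535) (iv D3145) F10745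
theorem F21247 : act 2 n4535 = n4535 := d1_2 F15079 D4535 (iv D4535)
theorem F21248 : act 3 n4535 = n3302 := d2_2 (iv F15080) D4535 (iv D3302)
theorem F21249 : act 5 n4535 = n4535 := d4_2 F15081 D4535 (iv D4535)
theorem F21250 : act 6 n4535 = n4535 := d5_2 F15082 D4535 (iv D4535)
theorem F21251 : act 7 n4535 = n3156 := d6_2 (iv F15083) D4535 (iv D3156)
theorem F21252 : act 9 n4535 = n3148 := d8_2 (iv F15084) D4535 (iv D3148)
def n4536 : Q := act 4 n3145
theorem D4536 : act 4 n3145 = n4536 := rfl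
theorem F21253 : act 1 n4536 = n3146 := d11_1 D4536 (iv D3146) D3145
theorem F21254 : act 2 n4536 = n4536 := d18_1 D4536 (iv D4536) F15079
theorem F21255 : act 6 n4536 = n4536 := d31_2 F15082 D4536 (iv D4536)
theorem F21256 : act 7 n4536 = n3157 := d32_2 (iv F15083) D4536 (iv D3157)
theorem F21257 : act 9 n4536 = n3149 := d34_2 (iv F15084) D4536 (iv D3149)
def n4537 : Q := act 3 n3146
theorem D4537 : act 3 n3146 = n4537 := rfl
theorem F21258 : act 0 n4537 = n4537 := d2_1 D4537 (iv D4537) F15085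
theorem F21259 : act 4 n4537 = n3304 := d24_2 D3146 D4537 (iv D3304) (iv D2292) (iv F10746)
theorem F21260 : act 6 n4537 = n4537 := d26_2 F15087 D4537 (iv D4537)
theorem F21261 : act 7 n4537 = n3158 := d27_2 (iv F15088) D4537 (iv D3158)
theorem F21262 : act 9 n4537 = n3150 := d29_2 (iv F15089) D4537 (iv D3150)
def n4538 : Q := act 5 n3146
theorem D4538 : act 5 n3146 = n4538 := rfl
theorem F21263 : act 0 n4538 = n4538 := d4_1 D4538 (iv D4538) F15085
theorem F21264 : act 2 n4538 = n3147 := d19_1 D4538 (iv D3147) (iv F15086)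
theorem F21265 : act 4 n4538 = n4538 := d30_1 D4538 (iv D4538) (iv D3146) F10747 D3146
theorem F21266 : act 7 n4538 = n3159 := d36_2 (iv F15088) D4538 (iv D3159)
theorem F21267 : act 9 n4538 = n3151 := d38_2 (iv F15089) D4538 (iv D3151)
def n4539 : Q := act 6 n3147
theorem D4539 : act 6 n3147 = n4539 := rfl
theorem F21268 : act 0 n4539 = n4539 := d5_1 D4539 (iv D4539) F15090
theorem F21269 : act 1 n4539 = n4539 := d13_1 D4539 (iv D4539) F15091
theorem F21270 : act 4 n4539 = n4539 := d31_1 D4539 (iv D4539) F15092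
theorem F21271 : act 5 n4539 = n4539 := d35_1 D4539 (iv D4539) (iv D3147) F10753 D3147
theorem F21272 : act 9 n4539 = n3152 := d41_2 (iv F15094) D4539 (iv D3152)
def n4540 : Q := act 4 n3148
theorem D4540 : act 4 n3148 = n4540 := rfl
theorem F21273 : act 0 n4540 = n3149 := d3_1 D4540 (iv D3149) D3148
theorem F21274 : act 1 n4540 = n4540 := d11_1 D4540 (iv D4540) F15095
theorem F21275 : act 2 n4540 = n4540 := d18_1 D4540 (iv D4540) F15096
theorem F21276 : act 6 n4540 = n4540 := d31_2 F15099 D4540 (iv D4540)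
theorem F21277 : act 7 n4540 = n3161 := d32_2 (iv F15100) D4540 (iv D3161)
theorem F21278 : act 8 n4540 = n4540 := d33_2 F15101 D4540 (iv D4540)
def n4541 : Q := act 3 n3149
theorem D4541 : act 3 n3149 = n4541 := rfl
theorem F21279 : act 1 n4541 = n3150 := d10_1 D4541 (iv D3150) (iv F15102)
theorem F21280 : act 4 n4541 = n3308 := d24_2 D3149 D4541 (iv D3308) (iv D2295) (iv F10757)
theorem F21281 : act 6 n4541 = n4541 := d26_2 F15104 D4541 (iv D4541)
theorem F21282 : act 7 n4541 = n3162 := d27_2 (iv F15105) D4541 (iv D3162)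
def n4542 : Q := act 5 n3149
theorem D4542 : act 5 n3149 = n4542 := rfl
theorem F21283 : act 1 n4542 = n3151 := d12_1 D4542 (iv D3151) (iv F15102)
theorem F21284 : act 2 n4542 = n4542 := d19_1 D4542 (iv D4542) F15103
theorem F21285 : act 4 n4542 = n4542 := d30_1 D4542 (iv D4542) (iv D3149) F10758 D3149
theorem F21286 : act 7 n4542 = n3163 := d36_2 (iv F15105) D4542 (iv D3163)
theorem F21287 : act 8 n4542 = n4542 := d37_2 F15106 D4542 (iv D4542)
def n4543 : Q := act 5 n3150
theorem D4543 : act 5 n3150 = n4543 := rfl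
theorem F21288 : act 0 n4543 = n4543 := d4_1 D4543 (iv D4543) F15107
theorem F21289 : act 3 n4543 = n3151 := d25_1 D4543 (iv D3151) D3150
theorem F21290 : act 7 n4543 = n3164 := d36_2 (iv F15110) D4543 (iv D3164)
def n4544 : Q := act 8 n3150
theorem D4544 : act 8 n3150 = n4544 := rfl
theorem F21291 : act 0 n4544 = n4544 := d7_1 D4544 (iv D4544) F15107
theorem F21292 : act 3 n4544 = n4544 := d28_1 D4544 (iv D4544) (iv D3150) F10766 D3150
theorem F21293 : act 4 n4544 = n3311 := d33_1 D4544 (iv D3311) (iv F15108)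
theorem F21294 : act 6 n4544 = n4544 := d40_1 D4544 (iv D4544) F15109
theorem F21295 : act 7 n4544 = n3165 := d42_1 D4544 (iv D3165) (iv F15110)
def n4545 : Q := act 6 n3151
theorem D4545 : act 6 n3151 = n4545 := rfl
theorem F21296 : act 0 n4545 = n4545 := d5_1 D4545 (iv D4545) F15111
theorem F21297 : act 2 n4545 = n3152 := d20_1 D4545 (iv D3152) (iv F15112)
theorem F21298 : act 4 n4545 = n4545 := d31_1 D4545 (iv D4545) F15113
theorem F21299 : act 5 n4545 = n4545 := d35_1 D4545 (iv D4545) (iv D3151) F10764 D3151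
theorem F21300 : act 8 n4545 = n4545 := d40_2 F15115 D4545 (iv D4545)
def n4546 : Q := act 7 n3152
theorem D4546 : act 7 n3152 = n4546 := rfl
theorem F21301 : act 0 n4546 = n4546 := d6_1 D4546 (iv D4546) F15116
theorem F21302 : act 1 n4546 = n4546 := d14_1 D4546 (iv D4546) F15117
theorem F21303 : act 4 n4546 = n4546 := d32_1 D4546 (iv D4546) F15118
theorem F21304 : act 5 n4546 = n4546 := d36_1 D4546 (iv D4546) F15119
theorem F21305 : act 6 n4546 = n3167 := d39_1 D4546 (iv D3167) (iv D2202) (iv F10770) D3152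
theorem F21306 : act 8 n4546 = n4546 := d42_2 F15120 D4546 (iv D4546)
def n4547 : Q := act 0 n3153
theorem D4547 : act 0 n3153 = n4547 := rfl
theorem F21307 : act 1 n4547 = n4547 := d0_2 D3153 D4547 (iv D4547) (iv D3153) F10772
theorem F21308 : act 2 n4547 = n4547 := d1_2 F15121 D4547 (iv D4547)
theorem F21309 : act 3 n4547 = n4547 := d2_2 F15122 D4547 (iv D4547)
theorem F21310 : act 5 n4547 = n4547 := d4_2 F15123 D4547 (iv D4547)
theorem F21311 : act 6 n4547 = n3168 := d5_2 (iv F15124) D4547 (iv D3168)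
theorem F21312 : act 8 n4547 = n3156 := d7_2 (iv F15125) D4547 (iv D3156)
theorem F21313 : act 9 n4547 = n4547 := d8_2 F15126 D4547 (iv D4547)
def n4548 : Q := act 4 n3153
theorem D4548 : act 4 n3153 = n4548 := rfl
theorem F21314 : act 1 n4548 = n3154 := d11_1 D4548 (iv D3154) D3153
theorem F21315 : act 2 n4548 = n4548 := d18_1 D4548 (iv D4548) F15121
theorem F21316 : act 6 n4548 = n3169 := d31_2 (iv F15124) D4548 (iv D3169)
theorem F21317 : act 8 n4548 = n3157 := d33_2 (iv F15125) D4548 (iv D3157)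
theorem F21318 : act 9 n4548 = n4548 := d34_2 F15126 D4548 (iv D4548)
def n4549 : Q := act 3 n3154
theorem D4549 : act 3 n3154 = n4549 := rfl
theorem F21319 : act 0 n4549 = n4549 := d2_1 D4549 (iv D4549) F15127
theorem F21320 : act 2 n4549 = n4549 := d17_1 D4549 (iv D4549) F15128 F10780 (iv F15128)
theorem F21321 : act 4 n4549 = n4549 := d24_2 D3154 D4549 (iv D4549) (iv D3154) F10773
theorem F21322 : act 6 n4549 = n3170 := d26_2 (iv F15129) D4549 (iv D3170)
theorem F21323 : act 9 n4549 = n4549 := d29_2 F15131 D4549 (iv D4549)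
def n4550 : Q := act 5 n3154
theorem D4550 : act 5 n3154 = n4550 := rfl
theorem F21324 : act 0 n4550 = n4550 := d4_1 D4550 (iv D4550) F15127
theorem F21325 : act 2 n4550 = n3155 := d19_1 D4550 (iv D3155) (iv F15128)
theorem F21326 : act 4 n4550 = n4550 := d30_1 D4550 (iv D4550) (iv D3154) F10774 D3154
theorem F21327 : act 8 n4550 = n3159 := d37_2 (iv F15130) D4550 (iv D3159)
theorem F21328 : act 9 n4550 = n4550 := d38_2 F15131 D4550 (iv D4550)
def n4551 : Q := act 6 n3155
theorem D4551 : act 6 n3155 = n4551 := rfl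
theorem F21329 : act 0 n4551 = n4551 := d5_1 D4551 (iv D4551) F15132
theorem F21330 : act 1 n4551 = n4551 := d13_1 D4551 (iv D4551) F15133
theorem F21331 : act 3 n4551 = n4551 := d26_1 D4551 (iv D4551) F15134
theorem F21332 : act 4 n4551 = n4551 := d31_1 D4551 (iv D4551) F15135
theorem F21333 : act 5 n4551 = n3172 := d35_1 D4551 (iv D3172) (iv D2205) (iv F10781) D3155
theorem F21334 : act 8 n4551 = n3160 := d40_2 (iv F15136) D4551 (iv D3160)
theorem F21335 : act 9 n4551 = n4551 := d41_2 F15137 D4551 (iv D4551)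
def n4552 : Q := act 4 n3156
theorem D4552 : act 4 n3156 = n4552 := rfl
theorem F21336 : act 0 n4552 = n3157 := d3_1 D4552 (iv D3157) D3156
theorem F21337 : act 1 n4552 = n4552 := d11_1 D4552 (iv D4552) F15138
theorem F21338 : act 2 n4552 = n4552 := d18_1 D4552 (iv D4552) F15139
theorem F21339 : act 6 n4552 = n3173 := d31_2 (iv F15142) D4552 (iv D3173)
theorem F21340 : act 9 n4552 = n3161 := d34_2 (iv F15143) D4552 (iv D3161)
def n4553 : Q := act 3 n3157
theorem D4553 : act 3 n3157 = n4553 := rfl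
theorem F21341 : act 1 n4553 = n3158 := d10_1 D4553 (iv D3158) (iv F15144)
theorem F21342 : act 4 n4553 = n3315 := d24_2 D3157 D4553 (iv D3315) (iv D2300) (iv F10785)
theorem F21343 : act 6 n4553 = n3174 := d26_2 (iv F15146) D4553 (iv D3174)
theorem F21344 : act 9 n4553 = n3162 := d29_2 (iv F15147) D4553 (iv D3162)
def n4554 : Q := act 5 n3157
theorem D4554 : act 5 n3157 = n4554 := rfl
theorem F21345 : act 1 n4554 = n3159 := d12_1 D4554 (iv D3159) (iv F15144)
theorem F21346 : act 2 n4554 = n4554 := d19_1 D4554 (iv D4554) F15145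
theorem F21347 : act 4 n4554 = n4554 := d30_1 D4554 (iv D4554) (iv D3157) F10786 D3157
theorem F21348 : act 9 n4554 = n3163 := d38_2 (iv F15147) D4554 (iv D3163)
def n4555 : Q := act 5 n3158
theorem D4555 : act 5 n3158 = n4555 := rfl
theorem F21349 : act 0 n4555 = n4555 := d4_1 D4555 (iv D4555) F15148
theorem F21350 : act 3 n4555 = n3159 := d25_1 D4555 (iv D3159) D3158
theorem F21351 : act 9 n4555 = n3164 := d38_2 (iv F15151) D4555 (iv D3164)
def n4556 : Q := act 8 n3158
theorem D4556 : act 8 n3158 = n4556 := rfl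
theorem F21352 : act 0 n4556 = n4556 := d7_1 D4556 (iv D4556) F15148
theorem F21353 : act 4 n4556 = n3318 := d33_1 D4556 (iv D3318) (iv F15149)
theorem F21354 : act 6 n4556 = n3177 := d40_1 D4556 (iv D3177) (iv F15150)
def n4557 : Q := act 6 n3159
theorem D4557 : act 6 n3159 = n4557 := rfl
theorem F21355 : act 0 n4557 = n4557 := d5_1 D4557 (iv D4557) F15152
theorem F21356 : act 2 n4557 = n3160 := d20_1 D4557 (iv D3160) (iv F15153)
theorem F21357 : act 4 n4557 = n4557 := d31_1 D4557 (iv D4557) F15154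
theorem F21358 : act 5 n4557 = n3178 := d35_1 D4557 (iv D3178) (iv D2209) (iv F10791) D3159
theorem F21359 : act 9 n4557 = n3166 := d41_2 (iv F15155) D4557 (iv D3166)
def n4558 : Q := act 7 n3160
theorem D4558 : act 7 n3160 = n4558 := rfl
theorem F21360 : act 0 n4558 = n4558 := d6_1 D4558 (iv D4558) F15156
theorem F21361 : act 1 n4558 = n4558 := d14_1 D4558 (iv D4558) F15157
theorem F21362 : act 4 n4558 = n4558 := d32_1 D4558 (iv D4558) F15158
theorem F21363 : act 5 n4558 = n3179 := d36_1 D4558 (iv D3179) (iv F15159)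
theorem F21364 : act 9 n4558 = n3167 := d43_2 (iv F15160) D4558 (iv D3167)
def n4559 : Q := act 3 n3161
theorem D4559 : act 3 n3161 = n4559 := rfl
theorem F21365 : act 0 n4559 = n3162 := d2_1 D4559 (iv D3162) (iv F15161)
theorem F21366 : act 1 n4559 = n4559 := d10_1 D4559 (iv D4559) F15162
theorem F21367 : act 4 n4559 = n3321 := d24_2 D3161 D4559 (iv D3321) (iv D2304) (iv F10799)
theorem F21368 : act 6 n4559 = n3180 := d26_2 (iv F15164) D4559 (iv D3180)
def n4560 : Q := act 5 n3161
theorem D4560 : act 5 n3161 = n4560 := rfl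
theorem F21369 : act 0 n4560 = n3163 := d4_1 D4560 (iv D3163) (iv F15161)
theorem F21370 : act 1 n4560 = n4560 := d12_1 D4560 (iv D4560) F15162
theorem F21371 : act 2 n4560 = n4560 := d19_1 D4560 (iv D4560) F15163
theorem F21372 : act 4 n4560 = n4560 := d30_1 D4560 (iv D4560) (iv D3161) F10800 D3161
theorem F21373 : act 8 n4560 = n4560 := d37_2 F15165 D4560 (iv D4560)
def n4561 : Q := act 2 n3162
theorem D4561 : act 2 n3162 = n4561 := rfl
theorem F21374 : act 3 n4561 = n4561 := d17_2 D3162 D4561 (iv D4561) (iv D3162) F10804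
theorem F21375 : act 4 n4561 = n3323 := d18_2 (iv F15167) D4561 (iv D3323)
theorem F21376 : act 6 n4561 = n3182 := d20_2 (iv F15168) D4561 (iv D3182)
def n4562 : Q := act 5 n3162
theorem D4562 : act 5 n3162 = n4562 := rfl
theorem F21377 : act 1 n4562 = n3164 := d12_1 D4562 (iv D3164) (iv F15166)
theorem F21378 : act 3 n4562 = n3163 := d25_1 D4562 (iv D3163) D3162
def n4563 : Q := act 8 n3162
theorem D4563 : act 8 n3162 = n4563 := rfl
theorem F21379 : act 1 n4563 = n3165 := d15_1 D4563 (iv D3165) (iv F15166)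
theorem F21380 : act 3 n4563 = n4563 := d28_1 D4563 (iv D4563) (iv D3162) F10806 D3162
theorem F21381 : act 4 n4563 = n3325 := d33_1 D4563 (iv D3325) (iv F15167)
theorem F21382 : act 6 n4563 = n3184 := d40_1 D4563 (iv D3184) (iv F15168)
def n4564 : Q := act 6 n3163
theorem D4564 : act 6 n3163 = n4564 := rfl
theorem F21383 : act 1 n4564 = n3166 := d13_1 D4564 (iv D3166) (iv F15169)
theorem F21384 : act 2 n4564 = n4564 := d20_1 D4564 (iv D4564) F15170
theorem F21385 : act 4 n4564 = n4564 := d31_1 D4564 (iv D4564) F15171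
theorem F21386 : act 5 n4564 = n3185 := d35_1 D4564 (iv D3185) (iv D2213) (iv F10805) D3163
theorem F21387 : act 8 n4564 = n4564 := d40_2 F15172 D4564 (iv D4564)
def n4565 : Q := act 4 n3164
theorem D4565 : act 4 n3164 = n4565 := rfl
theorem F21388 : act 0 n4565 = n4565 := d3_1 D4565 (iv D4565) F15173
theorem F21389 : act 3 n4565 = n4565 := d24_1 D4565 (iv D4565) F15174 F10812 (iv F15174)
theorem F21390 : act 5 n4565 = n3327 := d30_2 D3164 D4565 (iv D3327) (iv D2307) (iv F10808)
def n4566 : Q := act 6 n3164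
theorem D4566 : act 6 n3164 = n4566 := rfl
theorem F21391 : act 0 n4566 = n4566 := d5_1 D4566 (iv D4566) F15173
theorem F21392 : act 3 n4566 = n3166 := d26_1 D4566 (iv D3166) (iv F15174)
theorem F21393 : act 5 n4566 = n3187 := d35_1 D4566 (iv D3187) (iv D2214) (iv F10809) D3164
def n4567 : Q := act 8 n3164
theorem D4567 : act 8 n3164 = n4567 := rfl
theorem F21394 : act 0 n4567 = n4567 := d7_1 D4567 (iv D4567) F15173
theorem F21395 : act 3 n4567 = n4567 := d28_1 D4567 (iv D4567) F15174 F10813 (iv F15174)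
theorem F21396 : act 5 n4567 = n3165 := d37_1 D4567 (iv D3165) D3164
def n4568 : Q := act 9 n3165
theorem D4568 : act 9 n3165 = n4568 := rfl
theorem F21397 : act 0 n4568 = n4568 := d8_1 D4568 (iv D4568) F15175
theorem F21398 : act 3 n4568 = n4568 := d29_1 D4568 (iv D4568) F15176
theorem F21399 : act 4 n4568 = n3330 := d34_1 D4568 (iv D3330) (iv F15177)
theorem F21400 : act 6 n4568 = n3189 := d41_1 D4568 (iv D3189) (iv F15178)
def n4569 : Q := act 7 n3166
theorem D4569 : act 7 n3166 = n4569 := rfl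
theorem F21401 : act 0 n4569 = n4569 := d6_1 D4569 (iv D4569) F15179
theorem F21402 : act 2 n4569 = n3167 := d21_1 D4569 (iv D3167) (iv F15180)
theorem F21403 : act 4 n4569 = n4569 := d32_1 D4569 (iv D4569) F15181
theorem F21404 : act 5 n4569 = n3190 := d36_1 D4569 (iv D3190) (iv F15182)
theorem F21405 : act 8 n4569 = n4569 := d42_2 F15183 D4569 (iv D4569)
def n4570 : Q := act 4 n3168
theorem D4570 : act 4 n3168 = n4570 := rfl
theorem F21406 : act 0 n4570 = n3169 := d3_1 D4570 (iv D3169) D3168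
theorem F21407 : act 1 n4570 = n4570 := d11_1 D4570 (iv D4570) F15189
theorem F21408 : act 2 n4570 = n4570 := d18_1 D4570 (iv D4570) F15190
theorem F21409 : act 7 n4570 = n4570 := d32_2 F15193 D4570 (iv D4570)
theorem F21410 : act 8 n4570 = n3173 := d33_2 (iv F15194) D4570 (iv D3173)
theorem F21411 : act 9 n4570 = n4570 := d34_2 F15195 D4570 (iv D4570)
def n4571 : Q := act 3 n3169
theorem D4571 : act 3 n3169 = n4571 := rfl
theorem F21412 : act 1 n4571 = n3170 := d10_1 D4571 (iv D3170) (iv F15196)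
theorem F21413 : act 4 n4571 = n4571 := d24_2 D3169 D4571 (iv D4571) (iv D3169) F10820
theorem F21414 : act 7 n4571 = n4571 := d27_2 F15198 D4571 (iv D4571)
theorem F21415 : act 9 n4571 = n4571 := d29_2 F15200 D4571 (iv D4571)
def n4572 : Q := act 5 n3169
theorem D4572 : act 5 n3169 = n4572 := rfl
theorem F21416 : act 1 n4572 = n3171 := d12_1 D4572 (iv D3171) (iv F15196)
theorem F21417 : act 2 n4572 = n4572 := d19_1 D4572 (iv D4572) F15197
theorem F21418 : act 4 n4572 = n3198 := d30_1 D4572 (iv D3198) (iv D2222) (iv F10821) D3169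
theorem F21419 : act 7 n4572 = n4572 := d36_2 F15198 D4572 (iv D4572)
theorem F21420 : act 8 n4572 = n3175 := d37_2 (iv F15199) D4572 (iv D3175)
theorem F21421 : act 9 n4572 = n4572 := d38_2 F15200 D4572 (iv D4572)
def n4573 : Q := act 5 n3170
theorem D4573 : act 5 n3170 = n4573 := rfl
theorem F21422 : act 0 n4573 = n4573 := d4_1 D4573 (iv D4573) F15201
theorem F21423 : act 2 n4573 = n4573 := d19_1 D4573 (iv D4573) F15202
theorem F21424 : act 3 n4573 = n3171 := d25_1 D4573 (iv D3171) D3170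
theorem F21425 : act 7 n4573 = n4573 := d36_2 F15204 D4573 (iv D4573)
theorem F21426 : act 9 n4573 = n4573 := d38_2 F15205 D4573 (iv D4573)
def n4574 : Q := act 8 n3170
theorem D4574 : act 8 n3170 = n4574 := rfl
theorem F21427 : act 0 n4574 = n4574 := d7_1 D4574 (iv D4574) F15201
theorem F21428 : act 2 n4574 = n4574 := d22_1 D4574 (iv D4574) F15202
theorem F21429 : act 3 n4574 = n3177 := d28_1 D4574 (iv D3177) (iv D2208) (iv F10828) D3170
theorem F21430 : act 4 n4574 = n4574 := d33_1 D4574 (iv D4574) F15203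
theorem F21431 : act 7 n4574 = n4574 := d42_1 D4574 (iv D4574) F15204
def n4575 : Q := act 6 n3171
theorem D4575 : act 6 n3171 = n4575 := rfl
theorem F21432 : act 0 n4575 = n4575 := d5_1 D4575 (iv D4575) F15206
theorem F21433 : act 2 n4575 = n3172 := d20_1 D4575 (iv D3172) (iv F15207)
theorem F21434 : act 4 n4575 = n3201 := d31_1 D4575 (iv D3201) (iv F15208)
theorem F21435 : act 8 n4575 = n3178 := d40_2 (iv F15210) D4575 (iv D3178)
theorem F21436 : act 9 n4575 = n4575 := d41_2 F15211 D4575 (iv D4575)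
def n4576 : Q := act 7 n3172
theorem D4576 : act 7 n3172 = n4576 := rfl
theorem F21437 : act 0 n4576 = n4576 := d6_1 D4576 (iv D4576) F15212
theorem F21438 : act 1 n4576 = n4576 := d14_1 D4576 (iv D4576) F15213
theorem F21439 : act 3 n4576 = n4576 := d27_1 D4576 (iv D4576) F15214
theorem F21440 : act 4 n4576 = n3202 := d32_1 D4576 (iv D3202) (iv F15215)
theorem F21441 : act 6 n4576 = n4576 := d39_1 D4576 (iv D4576) (iv D3172) F10834 D3172
theorem F21442 : act 8 n4576 = n3179 := d42_2 (iv F15216) D4576 (iv D3179)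
theorem F21443 : act 9 n4576 = n4576 := d43_2 F15217 D4576 (iv D4576)
def n4577 : Q := act 3 n3173
theorem D4577 : act 3 n3173 = n4577 := rfl
theorem F21444 : act 0 n4577 = n3174 := d2_1 D4577 (iv D3174) (iv F15218)
theorem F21445 : act 1 n4577 = n4577 := d10_1 D4577 (iv D4577) F15219
theorem F21446 : act 4 n4577 = n3332 := d24_2 D3173 D4577 (iv D3332) (iv D2311) (iv F10839)
theorem F21447 : act 7 n4577 = n4577 := d27_2 F15221 D4577 (iv D4577)
theorem F21448 : act 9 n4577 = n3180 := d29_2 (iv F15222) D4577 (iv D3180)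
def n4578 : Q := act 5 n3173
theorem D4578 : act 5 n3173 = n4578 := rfl
theorem F21449 : act 0 n4578 = n3175 := d4_1 D4578 (iv D3175) (iv F15218)
theorem F21450 : act 1 n4578 = n4578 := d12_1 D4578 (iv D4578) F15219
theorem F21451 : act 2 n4578 = n4578 := d19_1 D4578 (iv D4578) F15220
theorem F21452 : act 4 n4578 = n3204 := d30_1 D4578 (iv D3204) (iv D2226) (iv F10840) D3173
theorem F21453 : act 7 n4578 = n4578 := d36_2 F15221 D4578 (iv D4578)
theorem F21454 : act 9 n4578 = n3181 := d38_2 (iv F15222) D4578 (iv D3181)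
def n4579 : Q := act 2 n3174
theorem D4579 : act 2 n3174 = n4579 := rfl
theorem F21455 : act 3 n4579 = n4579 := d17_2 D3174 D4579 (iv D4579) (iv D3174) F10844
theorem F21456 : act 4 n4579 = n3334 := d18_2 (iv F15224) D4579 (iv D3334)
theorem F21457 : act 7 n4579 = n4579 := d21_2 F15225 D4579 (iv D4579)
theorem F21458 : act 9 n4579 = n3182 := d23_2 (iv F15226) D4579 (iv D3182)
def n4580 : Q := act 5 n3174
theorem D4580 : act 5 n3174 = n4580 := rfl
theorem F21459 : act 1 n4580 = n3176 := d12_1 D4580 (iv D3176) (iv F15223)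
theorem F21460 : act 3 n4580 = n3175 := d25_1 D4580 (iv D3175) D3174
theorem F21461 : act 7 n4580 = n4580 := d36_2 F15225 D4580 (iv D4580)
theorem F21462 : act 9 n4580 = n3183 := d38_2 (iv F15226) D4580 (iv D3183)
def n4581 : Q := act 8 n3174
theorem D4581 : act 8 n3174 = n4581 := rfl
theorem F21463 : act 1 n4581 = n3177 := d15_1 D4581 (iv D3177) (iv F15223)
theorem F21464 : act 4 n4581 = n3336 := d33_1 D4581 (iv D3336) (iv F15224)
theorem F21465 : act 7 n4581 = n4581 := d42_1 D4581 (iv D4581) F15225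
def n4582 : Q := act 6 n3175
theorem D4582 : act 6 n3175 = n4582 := rfl
theorem F21466 : act 1 n4582 = n3178 := d13_1 D4582 (iv D3178) (iv F15227)
theorem F21467 : act 2 n4582 = n4582 := d20_1 D4582 (iv D4582) F15228
theorem F21468 : act 4 n4582 = n3208 := d31_1 D4582 (iv D3208) (iv F15229)
theorem F21469 : act 9 n4582 = n3185 := d41_2 (iv F15231) D4582 (iv D3185)
def n4583 : Q := act 4 n3176
theorem D4583 : act 4 n3176 = n4583 := rfl
theorem F21470 : act 0 n4583 = n4583 := d3_1 D4583 (iv D4583) F15232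
theorem F21471 : act 3 n4583 = n3209 := d24_1 D4583 (iv D3209) F10954 (iv F10853) (iv F15233)
theorem F21472 : act 5 n4583 = n3338 := d30_2 D3176 D4583 (iv D3338) (iv D2314) (iv F10848)
theorem F21473 : act 7 n4583 = n4583 := d32_2 F15234 D4583 (iv D4583)
theorem F21474 : act 9 n4583 = n3186 := d34_2 (iv F15235) D4583 (iv D3186)
def n4584 : Q := act 6 n3176
theorem D4584 : act 6 n3176 = n4584 := rfl
theorem F21475 : act 0 n4584 = n4584 := d5_1 D4584 (iv D4584) F15232
theorem F21476 : act 3 n4584 = n3178 := d26_1 D4584 (iv D3178) (iv F15233)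
theorem F21477 : act 9 n4584 = n3187 := d41_2 (iv F15235) D4584 (iv D3187)
def n4585 : Q := act 8 n3176
theorem D4585 : act 8 n3176 = n4585 := rfl
theorem F21478 : act 0 n4585 = n4585 := d7_1 D4585 (iv D4585) F15232
theorem F21479 : act 5 n4585 = n3177 := d37_1 D4585 (iv D3177) D3176
theorem F21480 : act 7 n4585 = n4585 := d42_1 D4585 (iv D4585) F15234
def n4586 : Q := act 9 n3177
theorem D4586 : act 9 n3177 = n4586 := rfl
theorem F21481 : act 0 n4586 = n4586 := d8_1 D4586 (iv D4586) F15236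
theorem F21482 : act 4 n4586 = n3341 := d34_1 D4586 (iv D3341) (iv F15237)
theorem F21483 : act 7 n4586 = n4586 := d43_1 D4586 (iv D4586) F15238
theorem F21484 : act 8 n4586 = n3189 := d44_1 D4586 (iv D3189) (iv D2215) (iv F10850) D3177
def n4587 : Q := act 7 n3178
theorem D4587 : act 7 n3178 = n4587 := rfl
theorem F21485 : act 0 n4587 = n4587 := d6_1 D4587 (iv D4587) F15239
theorem F21486 : act 2 n4587 = n3179 := d21_1 D4587 (iv D3179) (iv F15240)
theorem F21487 : act 4 n4587 = n3213 := d32_1 D4587 (iv D3213) (iv F15241)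
theorem F21488 : act 6 n4587 = n4587 := d39_1 D4587 (iv D4587) (iv D3178) F10854 D3178
theorem F21489 : act 9 n4587 = n3190 := d43_2 (iv F15242) D4587 (iv D3190)
def n4588 : Q := act 2 n3180
theorem D4588 : act 2 n3180 = n4588 := rfl
theorem F21490 : act 0 n4588 = n3182 := d1_1 D4588 (iv D3182) (iv F15248)
theorem F21491 : act 3 n4588 = n4588 := d17_2 D3180 D4588 (iv D4588) (iv D3180) F10862
theorem F21492 : act 4 n4588 = n3343 := d18_2 (iv F15250) D4588 (iv D3343)
theorem F21493 : act 7 n4588 = n4588 := d21_2 F15251 D4588 (iv D4588)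
def n4589 : Q := act 5 n3180
theorem D4589 : act 5 n3180 = n4589 := rfl
theorem F21494 : act 0 n4589 = n3183 := d4_1 D4589 (iv D3183) (iv F15248)
theorem F21495 : act 1 n4589 = n4589 := d12_1 D4589 (iv D4589) F15249
theorem F21496 : act 3 n4589 = n3181 := d25_1 D4589 (iv D3181) D3180
theorem F21497 : act 7 n4589 = n4589 := d36_2 F15251 D4589 (iv D4589)
def n4590 : Q := act 8 n3180
theorem D4590 : act 8 n3180 = n4590 := rfl
theorem F21498 : act 0 n4590 = n3184 := d7_1 D4590 (iv D3184) (iv F15248)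
theorem F21499 : act 1 n4590 = n4590 := d15_1 D4590 (iv D4590) F15249
theorem F21500 : act 3 n4590 = n4590 := d28_1 D4590 (iv D4590) (iv D3180) F10864 D3180
theorem F21501 : act 4 n4590 = n3345 := d33_1 D4590 (iv D3345) (iv F15250)
theorem F21502 : act 7 n4590 = n4590 := d42_1 D4590 (iv D4590) F15251
def n4591 : Q := act 6 n3181
theorem D4591 : act 6 n3181 = n4591 := rfl
theorem F21503 : act 0 n4591 = n3185 := d5_1 D4591 (iv D3185) (iv F15252)
theorem F21504 : act 1 n4591 = n4591 := d13_1 D4591 (iv D4591) F15253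
theorem F21505 : act 2 n4591 = n4591 := d20_1 D4591 (iv D4591) F15254
theorem F21506 : act 4 n4591 = n3217 := d31_1 D4591 (iv D3217) (iv F15255)
theorem F21507 : act 8 n4591 = n4591 := d40_2 F15257 D4591 (iv D4591)
def n4592 : Q := act 5 n3182
theorem D4592 : act 5 n3182 = n4592 := rfl
theorem F21508 : act 2 n4592 = n3183 := d19_1 D4592 (iv D3183) D3182
theorem F21509 : act 3 n4592 = n4592 := d25_1 D4592 (iv D4592) F15258
theorem F21510 : act 7 n4592 = n4592 := d36_2 F15260 D4592 (iv D4592)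
def n4593 : Q := act 8 n3182
theorem D4593 : act 8 n3182 = n4593 := rfl
theorem F21511 : act 2 n4593 = n3184 := d22_1 D4593 (iv D3184) D3182
theorem F21512 : act 4 n4593 = n3348 := d33_1 D4593 (iv D3348) (iv F15259)
theorem F21513 : act 7 n4593 = n4593 := d42_1 D4593 (iv D4593) F15260
def n4594 : Q := act 4 n3183
theorem D4594 : act 4 n3183 = n4594 := rfl
theorem F21514 : act 1 n4594 = n3186 := d11_1 D4594 (iv D3186) (iv F15261)
theorem F21515 : act 3 n4594 = n3220 := d24_1 D4594 (iv D3220) F10988 (iv F10870) (iv F15262)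
theorem F21516 : act 5 n4594 = n3349 := d30_2 D3183 D4594 (iv D3349) (iv D2321) (iv F10866)
theorem F21517 : act 7 n4594 = n4594 := d32_2 F15263 D4594 (iv D4594)
def n4595 : Q := act 6 n3183
theorem D4595 : act 6 n3183 = n4595 := rfl
theorem F21518 : act 1 n4595 = n3187 := d13_1 D4595 (iv D3187) (iv F15261)
theorem F21519 : act 3 n4595 = n3185 := d26_1 D4595 (iv D3185) (iv F15262)
def n4596 : Q := act 8 n3183
theorem D4596 : act 8 n3183 = n4596 := rfl
theorem F21520 : act 1 n4596 = n3188 := d15_1 D4596 (iv D3188) (iv F15261)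
theorem F21521 : act 3 n4596 = n4596 := d28_1 D4596 (iv D4596) F15262 F10872 (iv F15262)
theorem F21522 : act 5 n4596 = n3184 := d37_1 D4596 (iv D3184) D3183
theorem F21523 : act 7 n4596 = n4596 := d42_1 D4596 (iv D4596) F15263
def n4597 : Q := act 9 n3184
theorem D4597 : act 9 n3184 = n4597 := rfl
theorem F21524 : act 1 n4597 = n3189 := d16_1 D4597 (iv D3189) (iv F15264)
theorem F21525 : act 3 n4597 = n4597 := d29_1 D4597 (iv D4597) F15265
theorem F21526 : act 4 n4597 = n3352 := d34_1 D4597 (iv D3352) (iv F15266)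
theorem F21527 : act 7 n4597 = n4597 := d43_1 D4597 (iv D4597) F15267
def n4598 : Q := act 7 n3185
theorem D4598 : act 7 n3185 = n4598 := rfl
theorem F21528 : act 1 n4598 = n3190 := d14_1 D4598 (iv D3190) (iv F15268)
theorem F21529 : act 2 n4598 = n4598 := d21_1 D4598 (iv D4598) F15269
theorem F21530 : act 4 n4598 = n3224 := d32_1 D4598 (iv D3224) (iv F15270)
theorem F21531 : act 6 n4598 = n4598 := d39_1 D4598 (iv D4598) (iv D3185) F10871 D3185
theorem F21532 : act 8 n4598 = n4598 := d42_2 F15271 D4598 (iv D4598)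
def n4599 : Q := act 6 n3186
theorem D4599 : act 6 n3186 = n4599 := rfl
theorem F21533 : act 0 n4599 = n4599 := d5_1 D4599 (iv D4599) F15272
theorem F21534 : act 3 n4599 = n3225 := d26_1 D4599 (iv D3225) (iv F15273)
theorem F21535 : act 4 n4599 = n3187 := d31_1 D4599 (iv D3187) D3186
def n4600 : Q := act 8 n3186
theorem D4600 : act 8 n3186 = n4600 := rfl
theorem F21536 : act 0 n4600 = n4600 := d7_1 D4600 (iv D4600) F15272
theorem F21537 : act 4 n4600 = n3188 := d33_1 D4600 (iv D3188) D3186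
theorem F21538 : act 5 n4600 = n3355 := d37_1 D4600 (iv D3355) (iv F15274)
theorem F21539 : act 7 n4600 = n4600 := d42_1 D4600 (iv D4600) F15275
def n4601 : Q := act 7 n3187
theorem D4601 : act 7 n3187 = n4601 := rfl
theorem F21540 : act 0 n4601 = n4601 := d6_1 D4601 (iv D4601) F15276
theorem F21541 : act 3 n4601 = n3190 := d27_1 D4601 (iv D3190) (iv F15277)
theorem F21542 : act 6 n4601 = n4601 := d39_1 D4601 (iv D4601) (iv D3187) F10875 D3187
def n4602 : Q := act 8 n3187
theorem D4602 : act 8 n3187 = n4602 := rfl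
theorem F21543 : act 0 n4602 = n4602 := d7_1 D4602 (iv D4602) F15276
theorem F21544 : act 3 n4602 = n4602 := d28_1 D4602 (iv D4602) F15277 F10883 (iv F15277)
theorem F21545 : act 6 n4602 = n3188 := d40_1 D4602 (iv D3188) D3187
def n4603 : Q := act 9 n3188
theorem D4603 : act 9 n3188 = n4603 := rfl
theorem F21546 : act 0 n4603 = n4603 := d8_1 D4603 (iv D4603) F15278
theorem F21547 : act 3 n4603 = n4603 := d29_1 D4603 (iv D4603) F15279
theorem F21548 : act 5 n4603 = n3189 := d38_1 D4603 (iv D3189) (iv F15280)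
theorem F21549 : act 7 n4603 = n4603 := d43_1 D4603 (iv D4603) F15281
def n4604 : Q := act 4 n3191
theorem D4604 : act 4 n3191 = n4604 := rfl
theorem F21550 : act 0 n4604 = n3192 := d3_1 D4604 (iv D3192) D3191
theorem F21551 : act 1 n4604 = n4604 := d11_1 D4604 (iv D4604) F15291
theorem F21553 : act 6 n4604 = n4604 := d31_2 F15295 D4604 (iv D4604)
def n4605 : Q := act 3 n3192
theorem D4605 : act 3 n3192 = n4605 := rfl
theorem F21557 : act 1 n4605 = n3193 := d10_1 D4605 (iv D3193) (iv F15299)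
theorem F21559 : act 6 n4605 = n4605 := d26_2 F15301 D4605 (iv D4605)
def n4606 : Q := act 5 n3192
theorem D4606 : act 5 n3192 = n4606 := rfl
theorem F21562 : act 1 n4606 = n3194 := d12_1 D4606 (iv D3194) (iv F15299)
theorem F21563 : act 2 n4606 = n4606 := d19_1 D4606 (iv D4606) F15300
theorem F21564 : act 4 n4606 = n4606 := d30_1 D4606 (iv D4606) (iv D3192) F10891 D3192
theorem F21565 : act 7 n4606 = n4606 := d36_2 F15302 D4606 (iv D4606)
theorem F21566 : act 8 n4606 = n4606 := d37_2 F15303 D4606 (iv D4606)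
theorem F21567 : act 9 n4606 = n4606 := d38_2 F15304 D4606 (iv D4606)
def n4607 : Q := act 5 n3193
theorem D4607 : act 5 n3193 = n4607 := rfl
theorem F21568 : act 0 n4607 = n4607 := d4_1 D4607 (iv D4607) F15305
theorem F21569 : act 2 n4607 = n3199 := d19_1 D4607 (iv D3199) (iv F15306)
theorem F21570 : act 3 n4607 = n3194 := d25_1 D4607 (iv D3194) D3193
theorem F21571 : act 7 n4607 = n4607 := d36_2 F15309 D4607 (iv D4607)
theorem F21572 : act 9 n4607 = n4607 := d38_2 F15310 D4607 (iv D4607)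
def n4609 : Q := act 6 n3194
theorem D4609 : act 6 n3194 = n4609 := rfl
theorem F21579 : act 0 n4609 = n4609 := d5_1 D4609 (iv D4609) F15311
theorem F21580 : act 2 n4609 = n3195 := d20_1 D4609 (iv D3195) (iv F15312)
theorem F21581 : act 4 n4609 = n4609 := d31_1 D4609 (iv D4609) F15313
theorem F21582 : act 5 n4609 = n4609 := d35_1 D4609 (iv D4609) (iv D3194) F10898 D3194
theorem F21583 : act 8 n4609 = n4609 := d40_2 F15315 D4609 (iv D4609)
theorem F21584 : act 9 n4609 = n4609 := d41_2 F15316 D4609 (iv D4609)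
def n4610 : Q := act 7 n3195
theorem D4610 : act 7 n3195 = n4610 := rfl
theorem F21585 : act 0 n4610 = n4610 := d6_1 D4610 (iv D4610) F15317
theorem F21586 : act 1 n4610 = n4610 := d14_1 D4610 (iv D4610) F15318
theorem F21587 : act 3 n4610 = n3202 := d27_1 D4610 (iv D3202) (iv F15319)
theorem F21588 : act 4 n4610 = n4610 := d32_1 D4610 (iv D4610) F15320
theorem F21589 : act 5 n4610 = n4610 := d36_1 D4610 (iv D4610) F15321
theorem F21590 : act 6 n4610 = n4610 := d39_1 D4610 (iv D4610) (iv D3195) F10906 D3195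
theorem F21591 : act 8 n4610 = n4610 := d42_2 F15322 D4610 (iv D4610)
theorem F21592 : act 9 n4610 = n4610 := d43_2 F15323 D4610 (iv D4610)
def n4611 : Q := act 3 n3196
theorem D4611 : act 3 n3196 = n4611 := rfl
theorem F21593 : act 0 n4611 = n3197 := d2_1 D4611 (iv D3197) (iv F15324)
theorem F21596 : act 6 n4611 = n4611 := d26_2 F15327 D4611 (iv D4611)
def n4612 : Q := act 5 n3196
theorem D4612 : act 5 n3196 = n4612 := rfl
theorem F21599 : act 0 n4612 = n3198 := d4_1 D4612 (iv D3198) (iv F15324)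
theorem F21600 : act 1 n4612 = n4612 := d12_1 D4612 (iv D4612) F15325
theorem F21601 : act 2 n4612 = n4612 := d19_1 D4612 (iv D4612) F15326
theorem F21602 : act 7 n4612 = n4612 := d36_2 F15328 D4612 (iv D4612)
theorem F21603 : act 8 n4612 = n3204 := d37_2 (iv F15329) D4612 (iv D3204)
theorem F21604 : act 9 n4612 = n4612 := d38_2 F15330 D4612 (iv D4612)
def n4613 : Q := act 2 n3197
theorem D4613 : act 2 n3197 = n4613 := rfl
theorem F21607 : act 6 n4613 = n4613 := d20_2 F15333 D4613 (iv D4613)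
def n4614 : Q := act 5 n3197
theorem D4614 : act 5 n3197 = n4614 := rfl
theorem F21610 : act 1 n4614 = n3199 := d12_1 D4614 (iv D3199) (iv F15331)
theorem F21611 : act 3 n4614 = n3198 := d25_1 D4614 (iv D3198) D3197
theorem F21612 : act 7 n4614 = n4614 := d36_2 F15334 D4614 (iv D4614)
theorem F21613 : act 9 n4614 = n4614 := d38_2 F15335 D4614 (iv D4614)
def n4616 : Q := act 6 n3198
theorem D4616 : act 6 n3198 = n4616 := rfl
theorem F21619 : act 1 n4616 = n3201 := d13_1 D4616 (iv D3201) (iv F15336)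
theorem F21620 : act 2 n4616 = n4616 := d20_1 D4616 (iv D4616) F15337
theorem F21621 : act 5 n4616 = n4616 := d35_1 D4616 (iv D4616) (iv D3198) F10918 D3198
theorem F21622 : act 8 n4616 = n3208 := d40_2 (iv F15339) D4616 (iv D3208)
theorem F21623 : act 9 n4616 = n4616 := d41_2 F15340 D4616 (iv D4616)
def n4617 : Q := act 4 n3199
theorem D4617 : act 4 n3199 = n4617 := rfl
theorem F21624 : act 0 n4617 = n4617 := d3_1 D4617 (iv D4617) F15341
theorem F21625 : act 5 n4617 = n4617 := d30_2 D3199 D4617 (iv D4617) (iv D3199) F10923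
theorem F21626 : act 7 n4617 = n4617 := d32_2 F15343 D4617 (iv D4617)
theorem F21627 : act 9 n4617 = n4617 := d34_2 F15344 D4617 (iv D4617)
def n4618 : Q := act 6 n3199
theorem D4618 : act 6 n3199 = n4618 := rfl
theorem F21628 : act 0 n4618 = n4618 := d5_1 D4618 (iv D4618) F15341
theorem F21629 : act 3 n4618 = n3201 := d26_1 D4618 (iv D3201) (iv F15342)
theorem F21630 : act 5 n4618 = n4618 := d35_1 D4618 (iv D4618) (iv D3199) F10924 D3199
theorem F21631 : act 9 n4618 = n4618 := d41_2 F15344 D4618 (iv D4618)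
def n4619 : Q := act 8 n3199
theorem D4619 : act 8 n3199 = n4619 := rfl
theorem F21632 : act 0 n4619 = n4619 := d7_1 D4619 (iv D4619) F15341
theorem F21633 : act 3 n4619 = n3211 := d28_1 D4619 (iv D3211) F10954 (iv F10930) (iv F15342)
theorem F21634 : act 5 n4619 = n3200 := d37_1 D4619 (iv D3200) D3199
theorem F21635 : act 7 n4619 = n4619 := d42_1 D4619 (iv D4619) F15343
def n4620 : Q := act 9 n3200
theorem D4620 : act 9 n3200 = n4620 := rfl
theorem F21637 : act 3 n4620 = n3212 := d29_1 D4620 (iv D3212) (iv F15346)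
def n4621 : Q := act 7 n3201
theorem D4621 : act 7 n3201 = n4621 := rfl
theorem F21642 : act 0 n4621 = n4621 := d6_1 D4621 (iv D4621) F15350
theorem F21643 : act 2 n4621 = n3202 := d21_1 D4621 (iv D3202) (iv F15351)
theorem F21644 : act 5 n4621 = n4621 := d36_1 D4621 (iv D4621) F15352
theorem F21645 : act 6 n4621 = n4621 := d39_1 D4621 (iv D4621) (iv D3201) F10929 D3201
theorem F21646 : act 8 n4621 = n3213 := d42_2 (iv F15353) D4621 (iv D3213)
theorem F21647 : act 9 n4621 = n4621 := d43_2 F15354 D4621 (iv D4621)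
def n4622 : Q := act 2 n3203
theorem D4622 : act 2 n3203 = n4622 := rfl
theorem F21648 : act 0 n4622 = n3205 := d1_1 D4622 (iv D3205) (iv F15361)
theorem F21650 : act 4 n4622 = n3359 := d18_2 (iv F15363) D4622 (iv D3359)
theorem F21653 : act 9 n4622 = n3214 := d23_2 (iv F15366) D4622 (iv D3214)
def n4623 : Q := act 5 n3203
theorem D4623 : act 5 n3203 = n4623 := rfl
theorem F21654 : act 0 n4623 = n3206 := d4_1 D4623 (iv D3206) (iv F15361)
theorem F21655 : act 1 n4623 = n4623 := d12_1 D4623 (iv D4623) F15362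
theorem F21656 : act 3 n4623 = n3204 := d25_1 D4623 (iv D3204) D3203
theorem F21657 : act 7 n4623 = n4623 := d36_2 F15365 D4623 (iv D4623)
theorem F21658 : act 9 n4623 = n3215 := d38_2 (iv F15366) D4623 (iv D3215)
def n4625 : Q := act 6 n3204
theorem D4625 : act 6 n3204 = n4625 := rfl
theorem F21664 : act 0 n4625 = n3208 := d5_1 D4625 (iv D3208) (iv F15367)
theorem F21665 : act 1 n4625 = n4625 := d13_1 D4625 (iv D4625) F15368
theorem F21666 : act 2 n4625 = n4625 := d20_1 D4625 (iv D4625) F15369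
theorem F21667 : act 5 n4625 = n4625 := d35_1 D4625 (iv D4625) (iv D3204) F10940 D3204
theorem F21668 : act 9 n4625 = n3217 := d41_2 (iv F15371) D4625 (iv D3217)
def n4626 : Q := act 5 n3205
theorem D4626 : act 5 n3205 = n4626 := rfl
theorem F21669 : act 1 n4626 = n4626 := d12_1 D4626 (iv D4626) F15372
theorem F21670 : act 2 n4626 = n3206 := d19_1 D4626 (iv D3206) D3205
theorem F21671 : act 3 n4626 = n4626 := d25_1 D4626 (iv D4626) F15373
theorem F21672 : act 7 n4626 = n4626 := d36_2 F15376 D4626 (iv D4626)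
theorem F21673 : act 9 n4626 = n3218 := d38_2 (iv F15377) D4626 (iv D3218)
def n4627 : Q := act 8 n3205
theorem D4627 : act 8 n3205 = n4627 := rfl
theorem F21675 : act 2 n4627 = n3207 := d22_1 D4627 (iv D3207) D3205
theorem F21676 : act 4 n4627 = n3364 := d33_1 D4627 (iv D3364) (iv F15374)
def n4628 : Q := act 4 n3206
theorem D4628 : act 4 n3206 = n4628 := rfl
theorem F21679 : act 1 n4628 = n3209 := d11_1 D4628 (iv D3209) (iv F15378)
theorem F21680 : act 5 n4628 = n3365 := d30_2 D3206 D4628 (iv D3365) (iv D2332) (iv F10944)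
theorem F21681 : act 7 n4628 = n4628 := d32_2 F15380 D4628 (iv D4628)
theorem F21682 : act 9 n4628 = n3220 := d34_2 (iv F15381) D4628 (iv D3220)
def n4629 : Q := act 6 n3206
theorem D4629 : act 6 n3206 = n4629 := rfl
theorem F21683 : act 1 n4629 = n3210 := d13_1 D4629 (iv D3210) (iv F15378)
theorem F21684 : act 3 n4629 = n3208 := d26_1 D4629 (iv D3208) (iv F15379)
theorem F21685 : act 5 n4629 = n4629 := d35_1 D4629 (iv D4629) (iv D3206) F10945 D3206
theorem F21686 : act 9 n4629 = n3221 := d41_2 (iv F15381) D4629 (iv D3221)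
def n4630 : Q := act 8 n3206
theorem D4630 : act 8 n3206 = n4630 := rfl
theorem F21687 : act 1 n4630 = n3211 := d15_1 D4630 (iv D3211) (iv F15378)
theorem F21688 : act 5 n4630 = n3207 := d37_1 D4630 (iv D3207) D3206
theorem F21689 : act 7 n4630 = n4630 := d42_1 D4630 (iv D4630) F15380
def n4631 : Q := act 9 n3207
theorem D4631 : act 9 n3207 = n4631 := rfl
theorem F21690 : act 1 n4631 = n3212 := d16_1 D4631 (iv D3212) (iv F15382)
theorem F21694 : act 8 n4631 = n3223 := d44_1 D4631 (iv D3223) (iv D2237) (iv F10947) D3207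
def n4632 : Q := act 7 n3208
theorem D4632 : act 7 n3208 = n4632 := rfl
theorem F21695 : act 1 n4632 = n3213 := d14_1 D4632 (iv D3213) (iv F15386)
theorem F21696 : act 2 n4632 = n4632 := d21_1 D4632 (iv D4632) F15387
theorem F21697 : act 5 n4632 = n4632 := d36_1 D4632 (iv D4632) F15388
theorem F21698 : act 6 n4632 = n4632 := d39_1 D4632 (iv D4632) (iv D3208) F10950 D3208
theorem F21699 : act 9 n4632 = n3224 := d43_2 (iv F15389) D4632 (iv D3224)
def n4633 : Q := act 6 n3209
theorem D4633 : act 6 n3209 = n4633 := rfl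
theorem F21700 : act 0 n4633 = n4633 := d5_1 D4633 (iv D4633) F15390
theorem F21701 : act 2 n4633 = n4633 := d20_1 D4633 (iv D4633) F15391
theorem F21702 : act 4 n4633 = n3210 := d31_1 D4633 (iv D3210) D3209
theorem F21703 : act 9 n4633 = n3225 := d41_2 (iv F15394) D4633 (iv D3225)
def n4634 : Q := act 8 n3209
theorem D4634 : act 8 n3209 = n4634 := rfl
theorem F21704 : act 0 n4634 = n4634 := d7_1 D4634 (iv D4634) F15390
theorem F21705 : act 2 n4634 = n4634 := d22_1 D4634 (iv D4634) F15391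
theorem F21706 : act 4 n4634 = n3211 := d33_1 D4634 (iv D3211) D3209
theorem F21707 : act 5 n4634 = n3371 := d37_1 D4634 (iv D3371) (iv F15392)
theorem F21708 : act 7 n4634 = n4634 := d42_1 D4634 (iv D4634) F15393
def n4635 : Q := act 7 n3210
theorem D4635 : act 7 n3210 = n4635 := rfl
theorem F21709 : act 0 n4635 = n4635 := d6_1 D4635 (iv D4635) F15395
theorem F21710 : act 2 n4635 = n4635 := d21_1 D4635 (iv D4635) F15396
theorem F21711 : act 3 n4635 = n3213 := d27_1 D4635 (iv D3213) (iv F15397)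
theorem F21712 : act 5 n4635 = n4635 := d36_1 D4635 (iv D4635) F15398
theorem F21713 : act 6 n4635 = n4635 := d39_1 D4635 (iv D4635) (iv D3210) F10955 D3210
theorem F21714 : act 9 n4635 = n3227 := d43_2 (iv F15399) D4635 (iv D3227)
def n4636 : Q := act 8 n3210
theorem D4636 : act 8 n3210 = n4636 := rfl
theorem F21715 : act 0 n4636 = n4636 := d7_1 D4636 (iv D4636) F15395
theorem F21716 : act 2 n4636 = n4636 := d22_1 D4636 (iv D4636) F15396
theorem F21717 : act 5 n4636 = n4636 := d37_1 D4636 (iv D4636) F15398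
theorem F21718 : act 6 n4636 = n3211 := d40_1 D4636 (iv D3211) D3210
def n4637 : Q := act 9 n3211
theorem D4637 : act 9 n3211 = n4637 := rfl
theorem F21719 : act 0 n4637 = n4637 := d8_1 D4637 (iv D4637) F15400
theorem F21720 : act 2 n4637 = n4637 := d23_1 D4637 (iv D4637) F15401
theorem F21721 : act 5 n4637 = n3212 := d38_1 D4637 (iv D3212) (iv F15402)
theorem F21722 : act 7 n4637 = n4637 := d43_1 D4637 (iv D4637) F15403
theorem F21723 : act 8 n4637 = n3229 := d44_1 D4637 (iv D3229) (iv D2241) (iv F10956) D3211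
def n4639 : Q := act 5 n3214
theorem D4639 : act 5 n3214 = n4639 := rfl
theorem F21730 : act 0 n4639 = n3218 := d4_1 D4639 (iv D3218) (iv F15415)
theorem F21731 : act 2 n4639 = n3215 := d19_1 D4639 (iv D3215) D3214
theorem F21732 : act 3 n4639 = n4639 := d25_1 D4639 (iv D4639) F15416
theorem F21733 : act 7 n4639 = n4639 := d36_2 F15419 D4639 (iv D4639)
def n4640 : Q := act 8 n3214
theorem D4640 : act 8 n3214 = n4640 := rfl
def n4641 : Q := act 4 n3215
theorem D4641 : act 4 n3215 = n4641 := rfl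
theorem F21739 : act 0 n4641 = n3220 := d3_1 D4641 (iv D3220) (iv F15420)
theorem F21740 : act 1 n4641 = n4641 := d11_1 D4641 (iv D4641) F15421
theorem F21741 : act 5 n4641 = n3378 := d30_2 D3215 D4641 (iv D3378) (iv D2341) (iv F10974)
theorem F21742 : act 7 n4641 = n4641 := d32_2 F15423 D4641 (iv D4641)
def n4642 : Q := act 6 n3215
theorem D4642 : act 6 n3215 = n4642 := rfl
theorem F21743 : act 0 n4642 = n3221 := d5_1 D4642 (iv D3221) (iv F15420)
theorem F21744 : act 1 n4642 = n4642 := d13_1 D4642 (iv D4642) F15421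
theorem F21745 : act 3 n4642 = n3217 := d26_1 D4642 (iv D3217) (iv F15422)
theorem F21746 : act 5 n4642 = n4642 := d35_1 D4642 (iv D4642) (iv D3215) F10975 D3215
def n4643 : Q := act 8 n3215
theorem D4643 : act 8 n3215 = n4643 := rfl
theorem F21747 : act 0 n4643 = n3222 := d7_1 D4643 (iv D3222) (iv F15420)
theorem F21748 : act 1 n4643 = n4643 := d15_1 D4643 (iv D4643) F15421
theorem F21749 : act 3 n4643 = n4643 := d28_1 D4643 (iv D4643) F15422 F10981 (iv F15422)
theorem F21750 : act 5 n4643 = n3216 := d37_1 D4643 (iv D3216) D3215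
theorem F21751 : act 7 n4643 = n4643 := d42_1 D4643 (iv D4643) F15423
def n4645 : Q := act 7 n3217
theorem D4645 : act 7 n3217 = n4645 := rfl
theorem F21758 : act 0 n4645 = n3224 := d6_1 D4645 (iv D3224) (iv F15430)
theorem F21759 : act 1 n4645 = n4645 := d14_1 D4645 (iv D4645) F15431
theorem F21760 : act 2 n4645 = n4645 := d21_1 D4645 (iv D4645) F15432
theorem F21761 : act 5 n4645 = n4645 := d36_1 D4645 (iv D4645) F15433
theorem F21762 : act 6 n4645 = n4645 := d39_1 D4645 (iv D4645) (iv D3217) F10980 D3217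
theorem F21763 : act 8 n4645 = n4645 := d42_2 F15434 D4645 (iv D4645)
def n4646 : Q := act 4 n3218
theorem D4646 : act 4 n3218 = n4646 := rfl
theorem F21764 : act 1 n4646 = n4646 := d11_1 D4646 (iv D4646) F15435
theorem F21765 : act 2 n4646 = n3220 := d18_1 D4646 (iv D3220) (iv F15436)
theorem F21766 : act 5 n4646 = n3383 := d30_2 D3218 D4646 (iv D3383) (iv D2344) (iv F10984)
theorem F21767 : act 7 n4646 = n4646 := d32_2 F15438 D4646 (iv D4646)
def n4647 : Q := act 6 n3218
theorem D4647 : act 6 n3218 = n4647 := rfl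
theorem F21768 : act 1 n4647 = n4647 := d13_1 D4647 (iv D4647) F15435
theorem F21769 : act 2 n4647 = n3221 := d20_1 D4647 (iv D3221) (iv F15436)
theorem F21770 : act 3 n4647 = n4647 := d26_1 D4647 (iv D4647) F15437
theorem F21771 : act 5 n4647 = n4647 := d35_1 D4647 (iv D4647) (iv D3218) F10985 D3218
def n4648 : Q := act 8 n3218
theorem D4648 : act 8 n3218 = n4648 := rfl
theorem F21772 : act 1 n4648 = n4648 := d15_1 D4648 (iv D4648) F15435
theorem F21773 : act 2 n4648 = n3222 := d22_1 D4648 (iv D3222) (iv F15436)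
theorem F21774 : act 5 n4648 = n3219 := d37_1 D4648 (iv D3219) D3218
theorem F21775 : act 7 n4648 = n4648 := d42_1 D4648 (iv D4648) F15438
def n4649 : Q := act 3 n3219
theorem D4649 : act 3 n3219 = n4649 := rfl
def n4650 : Q := act 9 n3219
theorem D4650 : act 9 n3219 = n4650 := rfl
def n4651 : Q := act 6 n3220
theorem D4651 : act 6 n3220 = n4651 := rfl
theorem F21787 : act 1 n4651 = n3225 := d13_1 D4651 (iv D3225) (iv F15444)
theorem F21788 : act 4 n4651 = n3221 := d31_1 D4651 (iv D3221) D3220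
def n4652 : Q := act 8 n3220
theorem D4652 : act 8 n3220 = n4652 := rfl
theorem F21789 : act 1 n4652 = n3226 := d15_1 D4652 (iv D3226) (iv F15444)
theorem F21790 : act 4 n4652 = n3222 := d33_1 D4652 (iv D3222) D3220
theorem F21791 : act 5 n4652 = n3388 := d37_1 D4652 (iv D3388) (iv F15445)
theorem F21792 : act 7 n4652 = n4652 := d42_1 D4652 (iv D4652) F15446
def n4653 : Q := act 7 n3221
theorem D4653 : act 7 n3221 = n4653 := rfl
theorem F21793 : act 1 n4653 = n3227 := d14_1 D4653 (iv D3227) (iv F15447)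
theorem F21794 : act 3 n4653 = n3224 := d27_1 D4653 (iv D3224) (iv F15448)
theorem F21795 : act 5 n4653 = n4653 := d36_1 D4653 (iv D4653) F15449
theorem F21796 : act 6 n4653 = n4653 := d39_1 D4653 (iv D4653) (iv D3221) F10989 D3221
def n4654 : Q := act 8 n3221
theorem D4654 : act 8 n3221 = n4654 := rfl
theorem F21797 : act 1 n4654 = n3228 := d15_1 D4654 (iv D3228) (iv F15447)
theorem F21798 : act 3 n4654 = n4654 := d28_1 D4654 (iv D4654) F15448 F10998 (iv F15448)
theorem F21799 : act 5 n4654 = n4654 := d37_1 D4654 (iv D4654) F15449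
theorem F21800 : act 6 n4654 = n3222 := d40_1 D4654 (iv D3222) D3221
def n4655 : Q := act 9 n3222
theorem D4655 : act 9 n3222 = n4655 := rfl
theorem F21801 : act 1 n4655 = n3229 := d16_1 D4655 (iv D3229) (iv F15450)
theorem F21802 : act 3 n4655 = n4655 := d29_1 D4655 (iv D4655) F15451
theorem F21803 : act 5 n4655 = n3223 := d38_1 D4655 (iv D3223) (iv F15452)
theorem F21804 : act 7 n4655 = n4655 := d43_1 D4655 (iv D4655) F15453
def n4656 : Q := act 5 n3225
theorem D4656 : act 5 n3225 = n4656 := rfl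
theorem F21805 : act 0 n4656 = n4656 := d4_1 D4656 (iv D4656) F15464
theorem F21806 : act 2 n4656 = n4656 := d19_1 D4656 (iv D4656) F15465
theorem F21807 : act 4 n4656 = n4656 := d30_1 D4656 (iv D4656) F15466 F11006 (iv F15466)
theorem F21808 : act 6 n4656 = n3392 := d35_2 D3225 D4656 (iv D3392) (iv D2351) (iv F11001)
def n4657 : Q := act 7 n3225
theorem D4657 : act 7 n3225 = n4657 := rfl
theorem F21809 : act 0 n4657 = n4657 := d6_1 D4657 (iv D4657) F15464
theorem F21810 : act 2 n4657 = n4657 := d21_1 D4657 (iv D4657) F15465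
theorem F21811 : act 4 n4657 = n3227 := d32_1 D4657 (iv D3227) (iv F15466)
theorem F21812 : act 6 n4657 = n4657 := d39_1 D4657 (iv D4657) (iv D3225) F11002 D3225
def n4658 : Q := act 8 n3225
theorem D4658 : act 8 n3225 = n4658 := rfl
theorem F21813 : act 0 n4658 = n4658 := d7_1 D4658 (iv D4658) F15464
theorem F21814 : act 2 n4658 = n4658 := d22_1 D4658 (iv D4658) F15465
theorem F21815 : act 4 n4658 = n3228 := d33_1 D4658 (iv D3228) (iv F15466)
theorem F21816 : act 6 n4658 = n3226 := d40_1 D4658 (iv D3226) D3225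
def n4659 : Q := act 3 n3226
theorem D4659 : act 3 n3226 = n4659 := rfl
theorem F21817 : act 0 n4659 = n4659 := d2_1 D4659 (iv D4659) F15467
theorem F21818 : act 4 n4659 = n4659 := d24_2 (iv F15469) D4659 (iv D4659) F15469 F11009
theorem F21819 : act 5 n4659 = n3395 := d25_2 (iv F15470) D4659 (iv D3395)
theorem F21820 : act 7 n4659 = n4659 := d27_2 F15471 D4659 (iv D4659)
def n4660 : Q := act 9 n3226
theorem D4660 : act 9 n3226 = n4660 := rfl
theorem F21821 : act 0 n4660 = n4660 := d8_1 D4660 (iv D4660) F15467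
theorem F21822 : act 2 n4660 = n4660 := d23_1 D4660 (iv D4660) F15468
theorem F21823 : act 4 n4660 = n3229 := d34_1 D4660 (iv D3229) (iv F15469)
theorem F21824 : act 5 n4660 = n3396 := d38_1 D4660 (iv D3396) (iv F15470)
theorem F21825 : act 7 n4660 = n4660 := d43_1 D4660 (iv D4660) F15471
def n4661 : Q := act 8 n3227
theorem D4661 : act 8 n3227 = n4661 := rfl
theorem F21826 : act 0 n4661 = n4661 := d7_1 D4661 (iv D4661) F15472
theorem F21827 : act 2 n4661 = n4661 := d22_1 D4661 (iv D4661) F15473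
theorem F21828 : act 3 n4661 = n4661 := d28_1 D4661 (iv D4661) F15474 F11022 (iv F15474)
theorem F21829 : act 5 n4661 = n4661 := d37_1 D4661 (iv D4661) F15475
theorem F21830 : act 6 n4661 = n4661 := d40_1 D4661 (iv D4661) F15476
theorem F21831 : act 7 n4661 = n3228 := d42_1 D4661 (iv D3228) D3227
def n4662 : Q := act 9 n3228
theorem D4662 : act 9 n3228 = n4662 := rfl
theorem F21832 : act 0 n4662 = n4662 := d8_1 D4662 (iv D4662) F15477
theorem F21833 : act 2 n4662 = n4662 := d23_1 D4662 (iv D4662) F15478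
theorem F21834 : act 3 n4662 = n4662 := d29_1 D4662 (iv D4662) F15479
theorem F21835 : act 5 n4662 = n4662 := d38_1 D4662 (iv D4662) F15480
theorem F21836 : act 6 n4662 = n3229 := d41_1 D4662 (iv D3229) (iv F15481)
def n4663 : Q := act 9 n3230
theorem D4663 : act 9 n3230 = n4663 := rfl
theorem F21837 : act 0 n4663 = n4663 := d8_1 D4663 (iv D4663) F15487
theorem F21838 : act 1 n4663 = n3486 := d16_1 D4663 (iv D3486) (iv F15488)
theorem F21839 : act 2 n4663 = n4663 := d23_1 D4663 (iv D4663) F15489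
theorem F21840 : act 3 n4663 = n4663 := d29_1 D4663 (iv D4663) F15490
theorem F21841 : act 4 n4663 = n4663 := d34_1 D4663 (iv D4663) F15491
theorem F21842 : act 5 n4663 = n3231 := d38_1 D4663 (iv D3231) D3230
theorem F21843 : act 6 n4663 = n4663 := d41_1 D4663 (iv D4663) F15492
theorem F21844 : act 7 n4663 = n4663 := d43_1 D4663 (iv D4663) F15493
def n4664 : Q := act 8 n3231
theorem D4664 : act 8 n3231 = n4664 := rfl
theorem F21845 : act 0 n4664 = n4664 := d7_1 D4664 (iv D4664) F15495
theorem F21846 : act 1 n4664 = n3487 := d15_1 D4664 (iv D3487) (iv F15496)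
theorem F21847 : act 2 n4664 = n4664 := d22_1 D4664 (iv D4664) F15497
theorem F21848 : act 4 n4664 = n3232 := d33_1 D4664 (iv D3232) (iv F15499)
theorem F21849 : act 6 n4664 = n3236 := d40_1 D4664 (iv D3236) (iv F15500)
theorem F21850 : act 7 n4664 = n4664 := d42_1 D4664 (iv D4664) F15501
theorem F21851 : act 9 n4664 = n4664 := d44_2 D3231 D4664 (iv D4664) (iv D3231) F11029
def n4665 : Q := act 3 n3232
theorem D4665 : act 3 n3232 = n4665 := rfl
theorem F21852 : act 0 n4665 = n4665 := d2_1 D4665 (iv D4665) F15502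
theorem F21853 : act 1 n4665 = n3488 := d10_1 D4665 (iv D3488) (iv F15503)
theorem F21854 : act 5 n4665 = n4665 := d25_2 F15505 D4665 (iv D4665)
theorem F21855 : act 6 n4665 = n3237 := d26_2 (iv F15506) D4665 (iv D3237)
theorem F21856 : act 7 n4665 = n4665 := d27_2 F15507 D4665 (iv D4665)
theorem F21857 : act 8 n4665 = n3233 := d28_2 D3232 D4665 (iv D3233) (iv D2246) (iv F11033)
theorem F21858 : act 9 n4665 = n4665 := d29_2 F15508 D4665 (iv D4665)
def n4666 : Q := act 2 n3233
theorem D4666 : act 2 n3233 = n4666 := rfl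
theorem F21859 : act 0 n4666 = n4666 := d1_1 D4666 (iv D4666) F15509
theorem F21860 : act 5 n4666 = n4666 := d19_2 F15511 D4666 (iv D4666)
theorem F21861 : act 6 n4666 = n3238 := d20_2 (iv F15512) D4666 (iv D3238)
theorem F21862 : act 7 n4666 = n4666 := d21_2 F15513 D4666 (iv D4666)
theorem F21863 : act 9 n4666 = n3234 := d23_2 (iv F15514) D4666 (iv D3234)
def n4667 : Q := act 4 n3233
theorem D4667 : act 4 n3233 = n4667 := rfl
theorem F21864 : act 0 n4667 = n4667 := d3_1 D4667 (iv D4667) F15509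
theorem F21865 : act 1 n4667 = n3490 := d11_1 D4667 (iv D3490) (iv F15510)
theorem F21866 : act 3 n4667 = n4667 := d24_1 D4667 (iv D4667) (iv D3233) F11039 D3233
theorem F21867 : act 6 n4667 = n3239 := d31_2 (iv F15512) D4667 (iv D3239)
theorem F21868 : act 7 n4667 = n4667 := d32_2 F15513 D4667 (iv D4667)
theorem F21869 : act 9 n4667 = n3235 := d34_2 (iv F15514) D4667 (iv D3235)
def n4668 : Q := act 1 n3234
theorem D4668 : act 1 n3234 = n4668 := rfl
theorem F21870 : act 2 n4668 = n3491 := d9_2 D3234 D4668 (iv D3491) (iv D2421) (iv F11045)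
theorem F21871 : act 5 n4668 = n4668 := d12_2 F15516 D4668 (iv D4668)
theorem F21872 : act 6 n4668 = n3240 := d13_2 (iv F15517) D4668 (iv D3240)
theorem F21873 : act 7 n4668 = n4668 := d14_2 F15518 D4668 (iv D4668)
theorem F21874 : act 8 n4668 = n4668 := d15_2 F15519 D4668 (iv D4668)
def n4669 : Q := act 4 n3234
theorem D4669 : act 4 n3234 = n4669 := rfl
theorem F21875 : act 0 n4669 = n4669 := d3_1 D4669 (iv D4669) F15515
theorem F21876 : act 2 n4669 = n3235 := d18_1 D4669 (iv D3235) D3234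
theorem F21877 : act 6 n4669 = n3241 := d31_2 (iv F15517) D4669 (iv D3241)
theorem F21878 : act 7 n4669 = n4669 := d32_2 F15518 D4669 (iv D4669)
theorem F21879 : act 8 n4669 = n4669 := d33_2 F15519 D4669 (iv D4669)
def n4670 : Q := act 5 n3235
theorem D4670 : act 5 n3235 = n4670 := rfl
theorem F21880 : act 0 n4670 = n4670 := d4_1 D4670 (iv D4670) F15520
theorem F21881 : act 1 n4670 = n3493 := d12_1 D4670 (iv D3493) (iv F15521)
theorem F21882 : act 3 n4670 = n4670 := d25_1 D4670 (iv D4670) F15522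
theorem F21883 : act 4 n4670 = n4670 := d30_1 D4670 (iv D4670) (iv D3235) F11046 D3235
theorem F21884 : act 7 n4670 = n4670 := d36_2 F15524 D4670 (iv D4670)
theorem F21885 : act 8 n4670 = n4670 := d37_2 F15525 D4670 (iv D4670)
def n4671 : Q := act 3 n3236
theorem D4671 : act 3 n3236 = n4671 := rfl
theorem F21886 : act 0 n4671 = n4671 := d2_1 D4671 (iv D4671) F15526
theorem F21887 : act 1 n4671 = n3498 := d10_1 D4671 (iv D3498) (iv F15527)
theorem F21888 : act 5 n4671 = n4671 := d25_2 F15530 D4671 (iv D4671)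
theorem F21889 : act 7 n4671 = n3243 := d27_2 (iv F15531) D4671 (iv D3243)
theorem F21890 : act 8 n4671 = n4671 := d28_2 D3236 D4671 (iv D4671) (iv D3236) F11053
theorem F21891 : act 9 n4671 = n4671 := d29_2 F15532 D4671 (iv D4671)
def n4672 : Q := act 2 n3237
theorem D4672 : act 2 n3237 = n4672 := rfl
theorem F21892 : act 0 n4672 = n4672 := d1_1 D4672 (iv D4672) F15533
theorem F21893 : act 3 n4672 = n4672 := d17_2 D3237 D4672 (iv D4672) (iv D3237) F11059
theorem F21894 : act 5 n4672 = n3254 := d19_2 (iv F15535) D4672 (iv D3254)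
theorem F21895 : act 7 n4672 = n3244 := d21_2 (iv F15536) D4672 (iv D3244)
theorem F21896 : act 8 n4672 = n3238 := d22_2 (iv F15537) D4672 (iv D3238)
theorem F21897 : act 9 n4672 = n4672 := d23_2 F15538 D4672 (iv D4672)
def n4673 : Q := act 4 n3237
theorem D4673 : act 4 n3237 = n4673 := rfl
theorem F21898 : act 0 n4673 = n4673 := d3_1 D4673 (iv D4673) F15533
theorem F21899 : act 1 n4673 = n3500 := d11_1 D4673 (iv D3500) (iv F15534)
theorem F21900 : act 7 n4673 = n3245 := d32_2 (iv F15536) D4673 (iv D3245)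
theorem F21901 : act 8 n4673 = n3239 := d33_2 (iv F15537) D4673 (iv D3239)
theorem F21902 : act 9 n4673 = n4673 := d34_2 F15538 D4673 (iv D4673)
def n4674 : Q := act 1 n3238
theorem D4674 : act 1 n3238 = n4674 := rfl
theorem F21903 : act 2 n4674 = n3501 := d9_2 D3238 D4674 (iv D3501) (iv D2428) (iv F11064)
theorem F21904 : act 5 n4674 = n3256 := d12_2 (iv F15540) D4674 (iv D3256)
theorem F21905 : act 7 n4674 = n3246 := d14_2 (iv F15541) D4674 (iv D3246)
theorem F21906 : act 9 n4674 = n3240 := d16_2 (iv F15542) D4674 (iv D3240)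
def n4675 : Q := act 4 n3238
theorem D4675 : act 4 n3238 = n4675 := rfl
theorem F21907 : act 0 n4675 = n4675 := d3_1 D4675 (iv D4675) F15539
theorem F21908 : act 2 n4675 = n3239 := d18_1 D4675 (iv D3239) D3238
theorem F21909 : act 7 n4675 = n3247 := d32_2 (iv F15541) D4675 (iv D3247)
theorem F21910 : act 9 n4675 = n3241 := d34_2 (iv F15542) D4675 (iv D3241)
def n4676 : Q := act 5 n3239
theorem D4676 : act 5 n3239 = n4676 := rfl
theorem F21911 : act 0 n4676 = n4676 := d4_1 D4676 (iv D4676) F15543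
theorem F21912 : act 1 n4676 = n3503 := d12_1 D4676 (iv D3503) (iv F15544)
theorem F21913 : act 3 n4676 = n4676 := d25_1 D4676 (iv D4676) F15545
theorem F21914 : act 4 n4676 = n3258 := d30_1 D4676 (iv D3258) (iv D2262) (iv F11065) D3239
theorem F21915 : act 7 n4676 = n3248 := d36_2 (iv F15546) D4676 (iv D3248)
theorem F21916 : act 9 n4676 = n3242 := d38_2 (iv F15547) D4676 (iv D3242)
def n4677 : Q := act 0 n3240
theorem D4677 : act 0 n3240 = n4677 := rfl
theorem F21917 : act 1 n4677 = n4677 := d0_2 D3240 D4677 (iv D4677) (iv D3240) F11068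
theorem F21918 : act 2 n4677 = n3504 := d1_2 (iv F15548) D4677 (iv D3504)
theorem F21919 : act 5 n4677 = n3259 := d4_2 (iv F15549) D4677 (iv D3259)
theorem F21920 : act 7 n4677 = n3249 := d6_2 (iv F15550) D4677 (iv D3249)
theorem F21921 : act 8 n4677 = n4677 := d7_2 F15551 D4677 (iv D4677)
def n4678 : Q := act 4 n3240
theorem D4678 : act 4 n3240 = n4678 := rfl
theorem F21922 : act 1 n4678 = n3241 := d11_1 D4678 (iv D3241) D3240
theorem F21923 : act 2 n4678 = n3505 := d18_1 D4678 (iv D3505) (iv F15548)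
theorem F21924 : act 7 n4678 = n3250 := d32_2 (iv F15550) D4678 (iv D3250)
theorem F21925 : act 8 n4678 = n4678 := d33_2 F15551 D4678 (iv D4678)
def n4679 : Q := act 3 n3241
theorem D4679 : act 3 n3241 = n4679 := rfl
theorem F21926 : act 0 n4679 = n4679 := d2_1 D4679 (iv D4679) F15552
theorem F21927 : act 2 n4679 = n4679 := d17_1 D4679 (iv D4679) F15553 F11074 (iv F15553)
theorem F21928 : act 7 n4679 = n3251 := d27_2 (iv F15554) D4679 (iv D3251)
def n4680 : Q := act 5 n3241
theorem D4680 : act 5 n3241 = n4680 := rfl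
theorem F21929 : act 0 n4680 = n4680 := d4_1 D4680 (iv D4680) F15552
theorem F21930 : act 2 n4680 = n3242 := d19_1 D4680 (iv D3242) (iv F15553)
theorem F21931 : act 4 n4680 = n3262 := d30_1 D4680 (iv D3262) (iv D2264) (iv F11069) D3241
theorem F21932 : act 7 n4680 = n3252 := d36_2 (iv F15554) D4680 (iv D3252)
theorem F21933 : act 8 n4680 = n4680 := d37_2 F15555 D4680 (iv D4680)
def n4681 : Q := act 6 n3242
theorem D4681 : act 6 n3242 = n4681 := rfl
theorem F21934 : act 0 n4681 = n4681 := d5_1 D4681 (iv D4681) F15556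
theorem F21935 : act 1 n4681 = n3508 := d13_1 D4681 (iv D3508) (iv F15557)
theorem F21936 : act 3 n4681 = n4681 := d26_1 D4681 (iv D4681) F15558
theorem F21937 : act 4 n4681 = n3263 := d31_1 D4681 (iv D3263) (iv F15559)
theorem F21938 : act 8 n4681 = n4681 := d40_2 F15561 D4681 (iv D4681)
def n4682 : Q := act 2 n3243
theorem D4682 : act 2 n3243 = n4682 := rfl
theorem F21939 : act 0 n4682 = n4682 := d1_1 D4682 (iv D4682) F15562
theorem F21940 : act 3 n4682 = n4682 := d17_2 D3243 D4682 (iv D4682) (iv D3243) F11079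
theorem F21941 : act 5 n4682 = n4682 := d19_2 F15564 D4682 (iv D4682)
theorem F21942 : act 6 n4682 = n4682 := d20_2 F15565 D4682 (iv D4682)
theorem F21943 : act 8 n4682 = n4682 := d22_2 F15566 D4682 (iv D4682)
theorem F21944 : act 9 n4682 = n4682 := d23_2 F15567 D4682 (iv D4682)
def n4683 : Q := act 4 n3243
theorem D4683 : act 4 n3243 = n4683 := rfl
theorem F21945 : act 0 n4683 = n4683 := d3_1 D4683 (iv D4683) F15562
theorem F21946 : act 1 n4683 = n3515 := d11_1 D4683 (iv D3515) (iv F15563)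
theorem F21947 : act 3 n4683 = n3245 := d24_1 D4683 (iv D3245) (iv D2254) (iv F11080) D3243
theorem F21948 : act 6 n4683 = n4683 := d31_2 F15565 D4683 (iv D4683)
theorem F21949 : act 8 n4683 = n4683 := d33_2 F15566 D4683 (iv D4683)
theorem F21950 : act 9 n4683 = n4683 := d34_2 F15567 D4683 (iv D4683)
def n4684 : Q := act 1 n3244
theorem D4684 : act 1 n3244 = n4684 := rfl
theorem F21955 : act 8 n4684 = n3246 := d15_2 (iv F15572) D4684 (iv D3246)
def n4685 : Q := act 4 n3244
theorem D4685 : act 4 n3244 = n4685 := rfl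
theorem F21957 : act 0 n4685 = n4685 := d3_1 D4685 (iv D4685) F15568
theorem F21958 : act 2 n4685 = n3245 := d18_1 D4685 (iv D3245) D3244
theorem F21959 : act 6 n4685 = n4685 := d31_2 F15571 D4685 (iv D4685)
theorem F21960 : act 8 n4685 = n3247 := d33_2 (iv F15572) D4685 (iv D3247)
theorem F21961 : act 9 n4685 = n4685 := d34_2 F15573 D4685 (iv D4685)
def n4686 : Q := act 5 n3245
theorem D4686 : act 5 n3245 = n4686 := rfl
theorem F21962 : act 0 n4686 = n4686 := d4_1 D4686 (iv D4686) F15574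
theorem F21963 : act 1 n4686 = n3518 := d12_1 D4686 (iv D3518) (iv F15575)
theorem F21964 : act 4 n4686 = n3266 := d30_1 D4686 (iv D3266) (iv D2267) (iv F11086) D3245
theorem F21965 : act 8 n4686 = n3248 := d37_2 (iv F15577) D4686 (iv D3248)
theorem F21966 : act 9 n4686 = n4686 := d38_2 F15578 D4686 (iv D4686)
def n4687 : Q := act 0 n3246
theorem D4687 : act 0 n3246 = n4687 := rfl
theorem F21971 : act 9 n4687 = n3249 := d8_2 (iv F15582) D4687 (iv D3249)
def n4688 : Q := act 4 n3246
theorem D4688 : act 4 n3246 = n4688 := rfl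
theorem F21972 : act 1 n4688 = n3247 := d11_1 D4688 (iv D3247) D3246
theorem F21973 : act 2 n4688 = n3520 := d18_1 D4688 (iv D3520) (iv F15579)
theorem F21974 : act 6 n4688 = n4688 := d31_2 F15581 D4688 (iv D4688)
theorem F21975 : act 9 n4688 = n3250 := d34_2 (iv F15582) D4688 (iv D3250)
def n4689 : Q := act 3 n3247
theorem D4689 : act 3 n3247 = n4689 := rfl
theorem F21976 : act 0 n4689 = n4689 := d2_1 D4689 (iv D4689) F15583
theorem F21977 : act 2 n4689 = n4689 := d17_1 D4689 (iv D4689) F15584 F11096 (iv F15584)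
theorem F21978 : act 6 n4689 = n4689 := d26_2 F15585 D4689 (iv D4689)
theorem F21979 : act 9 n4689 = n3251 := d29_2 (iv F15586) D4689 (iv D3251)
def n4690 : Q := act 5 n3247
theorem D4690 : act 5 n3247 = n4690 := rfl
theorem F21980 : act 0 n4690 = n4690 := d4_1 D4690 (iv D4690) F15583
theorem F21981 : act 2 n4690 = n3248 := d19_1 D4690 (iv D3248) (iv F15584)
theorem F21982 : act 4 n4690 = n3270 := d30_1 D4690 (iv D3270) (iv D2269) (iv F11091) D3247
theorem F21983 : act 9 n4690 = n3252 := d38_2 (iv F15586) D4690 (iv D3252)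
def n4691 : Q := act 6 n3248
theorem D4691 : act 6 n3248 = n4691 := rfl
theorem F21984 : act 0 n4691 = n4691 := d5_1 D4691 (iv D4691) F15587
theorem F21985 : act 1 n4691 = n3523 := d13_1 D4691 (iv D3523) (iv F15588)
theorem F21986 : act 3 n4691 = n4691 := d26_1 D4691 (iv D4691) F15589
theorem F21987 : act 4 n4691 = n3271 := d31_1 D4691 (iv D3271) (iv F15590)
theorem F21988 : act 5 n4691 = n4691 := d35_1 D4691 (iv D4691) (iv D3248) F11097 D3248
theorem F21989 : act 9 n4691 = n3253 := d41_2 (iv F15591) D4691 (iv D3253)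
def n4692 : Q := act 4 n3249
theorem D4692 : act 4 n3249 = n4692 := rfl
theorem F21990 : act 0 n4692 = n3250 := d3_1 D4692 (iv D3250) D3249
theorem F21991 : act 1 n4692 = n4692 := d11_1 D4692 (iv D4692) F15592
theorem F21992 : act 2 n4692 = n3524 := d18_1 D4692 (iv D3524) (iv F15593)
theorem F21993 : act 6 n4692 = n4692 := d31_2 F15595 D4692 (iv D4692)
theorem F21994 : act 8 n4692 = n4692 := d33_2 F15596 D4692 (iv D4692)
def n4693 : Q := act 3 n3250
theorem D4693 : act 3 n3250 = n4693 := rfl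
theorem F21995 : act 1 n4693 = n3251 := d10_1 D4693 (iv D3251) (iv F15597)
theorem F21996 : act 6 n4693 = n4693 := d26_2 F15599 D4693 (iv D4693)
def n4694 : Q := act 5 n3250
theorem D4694 : act 5 n3250 = n4694 := rfl
theorem F21997 : act 1 n4694 = n3252 := d12_1 D4694 (iv D3252) (iv F15597)
theorem F21998 : act 2 n4694 = n3526 := d19_1 D4694 (iv D3526) (iv F15598)
theorem F21999 : act 4 n4694 = n3274 := d30_1 D4694 (iv D3274) (iv D2272) (iv F11100) D3250
theorem F22000 : act 8 n4694 = n4694 := d37_2 F15600 D4694 (iv D4694)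
def n4695 : Q := act 5 n3251
theorem D4695 : act 5 n3251 = n4695 := rfl
theorem F22001 : act 0 n4695 = n4695 := d4_1 D4695 (iv D4695) F15601
theorem F22002 : act 2 n4695 = n4695 := d19_1 D4695 (iv D4695) F15602
theorem F22003 : act 3 n4695 = n3252 := d25_1 D4695 (iv D3252) D3251
def n4696 : Q := act 8 n3251
theorem D4696 : act 8 n3251 = n4696 := rfl
theorem F22004 : act 0 n4696 = n4696 := d7_1 D4696 (iv D4696) F15601
theorem F22005 : act 2 n4696 = n4696 := d22_1 D4696 (iv D4696) F15602
theorem F22006 : act 3 n4696 = n4696 := d28_1 D4696 (iv D4696) (iv D3251) F11106 D3251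
theorem F22007 : act 6 n4696 = n4696 := d40_1 D4696 (iv D4696) F15603
def n4697 : Q := act 6 n3252
theorem D4697 : act 6 n3252 = n4697 := rfl
theorem F22008 : act 0 n4697 = n4697 := d5_1 D4697 (iv D4697) F15604
theorem F22009 : act 2 n4697 = n3253 := d20_1 D4697 (iv D3253) (iv F15605)
theorem F22010 : act 4 n4697 = n3277 := d31_1 D4697 (iv D3277) (iv F15606)
theorem F22011 : act 5 n4697 = n4697 := d35_1 D4697 (iv D4697) (iv D3252) F11105 D3252
theorem F22012 : act 8 n4697 = n4697 := d40_2 F15607 D4697 (iv D4697)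
def n4698 : Q := act 7 n3253
theorem D4698 : act 7 n3253 = n4698 := rfl
theorem F22013 : act 0 n4698 = n4698 := d6_1 D4698 (iv D4698) F15608
theorem F22014 : act 1 n4698 = n3530 := d14_1 D4698 (iv D3530) (iv F15609)
theorem F22015 : act 3 n4698 = n4698 := d27_1 D4698 (iv D4698) F15610
theorem F22016 : act 4 n4698 = n3278 := d32_1 D4698 (iv D3278) (iv F15611)
theorem F22017 : act 5 n4698 = n4698 := d36_1 D4698 (iv D4698) F15612
theorem F22018 : act 8 n4698 = n4698 := d42_2 F15613 D4698 (iv D4698)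
def n4699 : Q := act 1 n3254
theorem D4699 : act 1 n3254 = n4699 := rfl
theorem F22022 : act 7 n4699 = n3264 := d14_2 (iv F15617) D4699 (iv D3264)
theorem F22023 : act 8 n4699 = n3256 := d15_2 (iv F15618) D4699 (iv D3256)
def n4700 : Q := act 4 n3254
theorem D4700 : act 4 n3254 = n4700 := rfl
theorem F22025 : act 0 n4700 = n4700 := d3_1 D4700 (iv D4700) F15614
theorem F22026 : act 2 n4700 = n3255 := d18_1 D4700 (iv D3255) D3254
theorem F22027 : act 6 n4700 = n4700 := d31_2 F15616 D4700 (iv D4700)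
theorem F22028 : act 7 n4700 = n3265 := d32_2 (iv F15617) D4700 (iv D3265)
theorem F22029 : act 8 n4700 = n3257 := d33_2 (iv F15618) D4700 (iv D3257)
theorem F22030 : act 9 n4700 = n4700 := d34_2 F15619 D4700 (iv D4700)
def n4701 : Q := act 5 n3255
theorem D4701 : act 5 n3255 = n4701 := rfl
theorem F22031 : act 0 n4701 = n4701 := d4_1 D4701 (iv D4701) F15620
theorem F22032 : act 1 n4701 = n3535 := d12_1 D4701 (iv D3535) (iv F15621)
theorem F22033 : act 3 n4701 = n4701 := d25_1 D4701 (iv D4701) F15622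
theorem F22034 : act 7 n4701 = n3266 := d36_2 (iv F15624) D4701 (iv D3266)
theorem F22035 : act 8 n4701 = n3258 := d37_2 (iv F15625) D4701 (iv D3258)
theorem F22036 : act 9 n4701 = n4701 := d38_2 F15626 D4701 (iv D4701)
def n4702 : Q := act 0 n3256
theorem D4702 : act 0 n3256 = n4702 := rfl
theorem F22038 : act 2 n4702 = n3536 := d1_2 (iv F15627) D4702 (iv D3536)
theorem F22040 : act 7 n4702 = n3267 := d6_2 (iv F15629) D4702 (iv D3267)
theorem F22041 : act 9 n4702 = n3259 := d8_2 (iv F15630) D4702 (iv D3259)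
def n4703 : Q := act 4 n3256
theorem D4703 : act 4 n3256 = n4703 := rfl
theorem F22042 : act 1 n4703 = n3257 := d11_1 D4703 (iv D3257) D3256
theorem F22043 : act 2 n4703 = n3537 := d18_1 D4703 (iv D3537) (iv F15627)
theorem F22044 : act 6 n4703 = n4703 := d31_2 F15628 D4703 (iv D4703)
theorem F22045 : act 7 n4703 = n3268 := d32_2 (iv F15629) D4703 (iv D3268)
theorem F22046 : act 9 n4703 = n3260 := d34_2 (iv F15630) D4703 (iv D3260)
def n4704 : Q := act 3 n3257
theorem D4704 : act 3 n3257 = n4704 := rfl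
theorem F22047 : act 0 n4704 = n4704 := d2_1 D4704 (iv D4704) F15631
theorem F22048 : act 2 n4704 = n3304 := d17_1 D4704 (iv D3304) F11261 (iv F11124) (iv F15632)
theorem F22049 : act 6 n4704 = n4704 := d26_2 F15633 D4704 (iv D4704)
theorem F22050 : act 7 n4704 = n3269 := d27_2 (iv F15634) D4704 (iv D3269)
theorem F22051 : act 9 n4704 = n3261 := d29_2 (iv F15635) D4704 (iv D3261)
def n4705 : Q := act 5 n3257
theorem D4705 : act 5 n3257 = n4705 := rfl
theorem F22052 : act 0 n4705 = n4705 := d4_1 D4705 (iv D4705) F15631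
theorem F22053 : act 2 n4705 = n3258 := d19_1 D4705 (iv D3258) (iv F15632)
theorem F22054 : act 7 n4705 = n3270 := d36_2 (iv F15634) D4705 (iv D3270)
theorem F22055 : act 9 n4705 = n3262 := d38_2 (iv F15635) D4705 (iv D3262)
def n4706 : Q := act 6 n3258
theorem D4706 : act 6 n3258 = n4706 := rfl
theorem F22056 : act 0 n4706 = n4706 := d5_1 D4706 (iv D4706) F15636
theorem F22057 : act 1 n4706 = n3540 := d13_1 D4706 (iv D3540) (iv F15637)
theorem F22058 : act 3 n4706 = n3306 := d26_1 D4706 (iv D3306) (iv F15638)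
theorem F22059 : act 5 n4706 = n4706 := d35_1 D4706 (iv D4706) (iv D3258) F11125 D3258
theorem F22060 : act 9 n4706 = n3263 := d41_2 (iv F15640) D4706 (iv D3263)
def n4707 : Q := act 4 n3259
theorem D4707 : act 4 n3259 = n4707 := rfl
theorem F22061 : act 0 n4707 = n3260 := d3_1 D4707 (iv D3260) D3259
theorem F22062 : act 1 n4707 = n4707 := d11_1 D4707 (iv D4707) F15641
theorem F22063 : act 2 n4707 = n3541 := d18_1 D4707 (iv D3541) (iv F15642)
theorem F22064 : act 6 n4707 = n4707 := d31_2 F15643 D4707 (iv D4707)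
theorem F22065 : act 7 n4707 = n3272 := d32_2 (iv F15644) D4707 (iv D3272)
theorem F22066 : act 8 n4707 = n4707 := d33_2 F15645 D4707 (iv D4707)
def n4708 : Q := act 3 n3260
theorem D4708 : act 3 n3260 = n4708 := rfl
theorem F22067 : act 1 n4708 = n3261 := d10_1 D4708 (iv D3261) (iv F15646)
theorem F22068 : act 6 n4708 = n4708 := d26_2 F15648 D4708 (iv D4708)
theorem F22069 : act 7 n4708 = n3273 := d27_2 (iv F15649) D4708 (iv D3273)
def n4709 : Q := act 5 n3260
theorem D4709 : act 5 n3260 = n4709 := rfl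
theorem F22070 : act 1 n4709 = n3262 := d12_1 D4709 (iv D3262) (iv F15646)
theorem F22071 : act 2 n4709 = n3543 := d19_1 D4709 (iv D3543) (iv F15647)
theorem F22072 : act 7 n4709 = n3274 := d36_2 (iv F15649) D4709 (iv D3274)
theorem F22073 : act 8 n4709 = n4709 := d37_2 F15650 D4709 (iv D4709)
def n4710 : Q := act 5 n3261
theorem D4710 : act 5 n3261 = n4710 := rfl
theorem F22074 : act 0 n4710 = n4710 := d4_1 D4710 (iv D4710) F15651
theorem F22075 : act 2 n4710 = n3310 := d19_1 D4710 (iv D3310) (iv F15652)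
theorem F22076 : act 3 n4710 = n3262 := d25_1 D4710 (iv D3262) D3261
theorem F22077 : act 7 n4710 = n3275 := d36_2 (iv F15654) D4710 (iv D3275)
def n4711 : Q := act 8 n3261
theorem D4711 : act 8 n3261 = n4711 := rfl
theorem F22078 : act 0 n4711 = n4711 := d7_1 D4711 (iv D4711) F15651
theorem F22079 : act 2 n4711 = n3311 := d22_1 D4711 (iv D3311) (iv F15652)
theorem F22080 : act 3 n4711 = n4711 := d28_1 D4711 (iv D4711) (iv D3261) F11136 D3261
theorem F22081 : act 6 n4711 = n4711 := d40_1 D4711 (iv D4711) F15653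
theorem F22082 : act 7 n4711 = n3276 := d42_1 D4711 (iv D3276) (iv F15654)
def n4712 : Q := act 6 n3262
theorem D4712 : act 6 n3262 = n4712 := rfl
theorem F22083 : act 0 n4712 = n4712 := d5_1 D4712 (iv D4712) F15655
theorem F22084 : act 2 n4712 = n3263 := d20_1 D4712 (iv D3263) (iv F15656)
theorem F22085 : act 5 n4712 = n4712 := d35_1 D4712 (iv D4712) (iv D3262) F11134 D3262
theorem F22086 : act 8 n4712 = n4712 := d40_2 F15658 D4712 (iv D4712)
def n4713 : Q := act 7 n3263
theorem D4713 : act 7 n3263 = n4713 := rfl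
theorem F22087 : act 0 n4713 = n4713 := d6_1 D4713 (iv D4713) F15659
theorem F22088 : act 1 n4713 = n3547 := d14_1 D4713 (iv D3547) (iv F15660)
theorem F22089 : act 3 n4713 = n3313 := d27_1 D4713 (iv D3313) (iv F15661)
theorem F22090 : act 5 n4713 = n4713 := d36_1 D4713 (iv D4713) F15662
theorem F22091 : act 6 n4713 = n3278 := d39_1 D4713 (iv D3278) (iv D2275) (iv F11140) D3263
theorem F22092 : act 8 n4713 = n4713 := d42_2 F15663 D4713 (iv D4713)
def n4714 : Q := act 0 n3264
theorem D4714 : act 0 n3264 = n4714 := rfl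
theorem F22096 : act 6 n4714 = n3279 := d5_2 (iv F15666) D4714 (iv D3279)
theorem F22097 : act 8 n4714 = n3267 := d7_2 (iv F15667) D4714 (iv D3267)
def n4715 : Q := act 4 n3264
theorem D4715 : act 4 n3264 = n4715 := rfl
theorem F22099 : act 1 n4715 = n3265 := d11_1 D4715 (iv D3265) D3264
theorem F22100 : act 2 n4715 = n3552 := d18_1 D4715 (iv D3552) (iv F15664)
theorem F22102 : act 8 n4715 = n3268 := d33_2 (iv F15667) D4715 (iv D3268)
def n4716 : Q := act 3 n3265
theorem D4716 : act 3 n3265 = n4716 := rfl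
theorem F22104 : act 0 n4716 = n4716 := d2_1 D4716 (iv D4716) F15669
theorem F22105 : act 2 n4716 = n4716 := d17_1 D4716 (iv D4716) F15670 F11149 (iv F15670)
theorem F22106 : act 4 n4716 = n4716 := d24_2 D3265 D4716 (iv D4716) (iv D3265) F11143
theorem F22107 : act 6 n4716 = n3281 := d26_2 (iv F15671) D4716 (iv D3281)
theorem F22108 : act 9 n4716 = n4716 := d29_2 F15673 D4716 (iv D4716)
def n4717 : Q := act 5 n3265
theorem D4717 : act 5 n3265 = n4717 := rfl
theorem F22109 : act 0 n4717 = n4717 := d4_1 D4717 (iv D4717) F15669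
theorem F22110 : act 2 n4717 = n3266 := d19_1 D4717 (iv D3266) (iv F15670)
theorem F22111 : act 8 n4717 = n3270 := d37_2 (iv F15672) D4717 (iv D3270)
theorem F22112 : act 9 n4717 = n4717 := d38_2 F15673 D4717 (iv D4717)
def n4718 : Q := act 6 n3266
theorem D4718 : act 6 n3266 = n4718 := rfl
theorem F22113 : act 0 n4718 = n4718 := d5_1 D4718 (iv D4718) F15674
theorem F22114 : act 1 n4718 = n3555 := d13_1 D4718 (iv D3555) (iv F15675)
theorem F22115 : act 3 n4718 = n4718 := d26_1 D4718 (iv D4718) F15676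
theorem F22116 : act 5 n4718 = n3283 := d35_1 D4718 (iv D3283) (iv D2278) (iv F11150) D3266
theorem F22117 : act 8 n4718 = n3271 := d40_2 (iv F15677) D4718 (iv D3271)
theorem F22118 : act 9 n4718 = n4718 := d41_2 F15678 D4718 (iv D4718)
def n4719 : Q := act 4 n3267
theorem D4719 : act 4 n3267 = n4719 := rfl
theorem F22119 : act 0 n4719 = n3268 := d3_1 D4719 (iv D3268) D3267
theorem F22121 : act 2 n4719 = n3556 := d18_1 D4719 (iv D3556) (iv F15680)
theorem F22122 : act 6 n4719 = n3284 := d31_2 (iv F15681) D4719 (iv D3284)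
theorem F22123 : act 9 n4719 = n3272 := d34_2 (iv F15682) D4719 (iv D3272)
def n4720 : Q := act 3 n3268
theorem D4720 : act 3 n3268 = n4720 := rfl
theorem F22124 : act 1 n4720 = n3269 := d10_1 D4720 (iv D3269) (iv F15683)
theorem F22125 : act 6 n4720 = n3285 := d26_2 (iv F15685) D4720 (iv D3285)
theorem F22126 : act 9 n4720 = n3273 := d29_2 (iv F15686) D4720 (iv D3273)
def n4721 : Q := act 5 n3268
theorem D4721 : act 5 n3268 = n4721 := rfl
theorem F22127 : act 1 n4721 = n3270 := d12_1 D4721 (iv D3270) (iv F15683)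
theorem F22128 : act 2 n4721 = n3558 := d19_1 D4721 (iv D3558) (iv F15684)
theorem F22129 : act 9 n4721 = n3274 := d38_2 (iv F15686) D4721 (iv D3274)
def n4722 : Q := act 5 n3269
theorem D4722 : act 5 n3269 = n4722 := rfl
theorem F22130 : act 0 n4722 = n4722 := d4_1 D4722 (iv D4722) F15687
theorem F22131 : act 2 n4722 = n3317 := d19_1 D4722 (iv D3317) (iv F15688)
theorem F22132 : act 3 n4722 = n3270 := d25_1 D4722 (iv D3270) D3269
theorem F22133 : act 9 n4722 = n3275 := d38_2 (iv F15690) D4722 (iv D3275)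
def n4723 : Q := act 8 n3269
theorem D4723 : act 8 n3269 = n4723 := rfl
theorem F22134 : act 0 n4723 = n4723 := d7_1 D4723 (iv D4723) F15687
theorem F22135 : act 2 n4723 = n3318 := d22_1 D4723 (iv D3318) (iv F15688)
theorem F22136 : act 6 n4723 = n3288 := d40_1 D4723 (iv D3288) (iv F15689)
def n4724 : Q := act 6 n3270
theorem D4724 : act 6 n3270 = n4724 := rfl
theorem F22137 : act 0 n4724 = n4724 := d5_1 D4724 (iv D4724) F15691
theorem F22138 : act 2 n4724 = n3271 := d20_1 D4724 (iv D3271) (iv F15692)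
theorem F22139 : act 5 n4724 = n3289 := d35_1 D4724 (iv D3289) (iv D2282) (iv F11158) D3270
theorem F22140 : act 9 n4724 = n3277 := d41_2 (iv F15693) D4724 (iv D3277)
def n4725 : Q := act 7 n3271
theorem D4725 : act 7 n3271 = n4725 := rfl
theorem F22141 : act 0 n4725 = n4725 := d6_1 D4725 (iv D4725) F15694
theorem F22142 : act 1 n4725 = n3562 := d14_1 D4725 (iv D3562) (iv F15695)
theorem F22143 : act 3 n4725 = n3320 := d27_1 D4725 (iv D3320) (iv F15696)
theorem F22144 : act 5 n4725 = n3290 := d36_1 D4725 (iv D3290) (iv F15697)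
theorem F22145 : act 9 n4725 = n3278 := d43_2 (iv F15698) D4725 (iv D3278)
def n4726 : Q := act 3 n3272
theorem D4726 : act 3 n3272 = n4726 := rfl
theorem F22146 : act 0 n4726 = n3273 := d2_1 D4726 (iv D3273) (iv F15699)
theorem F22147 : act 1 n4726 = n4726 := d10_1 D4726 (iv D4726) F15700
theorem F22148 : act 6 n4726 = n3291 := d26_2 (iv F15702) D4726 (iv D3291)
def n4727 : Q := act 5 n3272
theorem D4727 : act 5 n3272 = n4727 := rfl
theorem F22149 : act 0 n4727 = n3274 := d4_1 D4727 (iv D3274) (iv F15699)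
theorem F22150 : act 1 n4727 = n4727 := d12_1 D4727 (iv D4727) F15700
theorem F22151 : act 2 n4727 = n3564 := d19_1 D4727 (iv D3564) (iv F15701)
theorem F22152 : act 8 n4727 = n4727 := d37_2 F15703 D4727 (iv D4727)
def n4728 : Q := act 2 n3273
theorem D4728 : act 2 n3273 = n4728 := rfl
theorem F22153 : act 1 n4728 = n3323 := d9_1 D4728 (iv D3323) F11326 (iv F11173) (iv F15704)
theorem F22154 : act 3 n4728 = n3565 := d17_2 D3273 D4728 (iv D3565) (iv D2470) (iv F11169)
theorem F22155 : act 6 n4728 = n3293 := d20_2 (iv F15705) D4728 (iv D3293)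
def n4729 : Q := act 5 n3273
theorem D4729 : act 5 n3273 = n4729 := rfl
theorem F22156 : act 1 n4729 = n3275 := d12_1 D4729 (iv D3275) (iv F15704)
theorem F22157 : act 3 n4729 = n3274 := d25_1 D4729 (iv D3274) D3273
def n4730 : Q := act 8 n3273
theorem D4730 : act 8 n3273 = n4730 := rfl
theorem F22158 : act 1 n4730 = n3276 := d15_1 D4730 (iv D3276) (iv F15704)
theorem F22159 : act 3 n4730 = n4730 := d28_1 D4730 (iv D4730) (iv D3273) F11171 D3273
theorem F22160 : act 6 n4730 = n3295 := d40_1 D4730 (iv D3295) (iv F15705)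
def n4731 : Q := act 6 n3274
theorem D4731 : act 6 n3274 = n4731 := rfl
theorem F22161 : act 1 n4731 = n3277 := d13_1 D4731 (iv D3277) (iv F15706)
theorem F22162 : act 2 n4731 = n3568 := d20_1 D4731 (iv D3568) (iv F15707)
theorem F22163 : act 5 n4731 = n3296 := d35_1 D4731 (iv D3296) (iv D2286) (iv F11170) D3274
theorem F22164 : act 8 n4731 = n4731 := d40_2 F15708 D4731 (iv D4731)
def n4732 : Q := act 4 n3275
theorem D4732 : act 4 n3275 = n4732 := rfl
theorem F22165 : act 0 n4732 = n4732 := d3_1 D4732 (iv D4732) F15709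
theorem F22166 : act 2 n4732 = n3327 := d18_1 D4732 (iv D3327) (iv F15710)
def n4733 : Q := act 6 n3275
theorem D4733 : act 6 n3275 = n4733 := rfl
theorem F22167 : act 0 n4733 = n4733 := d5_1 D4733 (iv D4733) F15709
theorem F22168 : act 2 n4733 = n3328 := d20_1 D4733 (iv D3328) (iv F15710)
theorem F22169 : act 3 n4733 = n3277 := d26_1 D4733 (iv D3277) (iv F15711)
theorem F22170 : act 5 n4733 = n3298 := d35_1 D4733 (iv D3298) (iv D2287) (iv F11174) D3275
def n4734 : Q := act 8 n3275
theorem D4734 : act 8 n3275 = n4734 := rfl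
theorem F22171 : act 0 n4734 = n4734 := d7_1 D4734 (iv D4734) F15709
theorem F22172 : act 2 n4734 = n3329 := d22_1 D4734 (iv D3329) (iv F15710)
theorem F22173 : act 3 n4734 = n4734 := d28_1 D4734 (iv D4734) F15711 F11177 (iv F15711)
theorem F22174 : act 5 n4734 = n3276 := d37_1 D4734 (iv D3276) D3275
def n4735 : Q := act 9 n3276
theorem D4735 : act 9 n3276 = n4735 := rfl
theorem F22175 : act 0 n4735 = n4735 := d8_1 D4735 (iv D4735) F15712
theorem F22176 : act 2 n4735 = n3330 := d23_1 D4735 (iv D3330) (iv F15713)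
theorem F22177 : act 3 n4735 = n4735 := d29_1 D4735 (iv D4735) F15714
theorem F22178 : act 6 n4735 = n3300 := d41_1 D4735 (iv D3300) (iv F15715)
def n4736 : Q := act 7 n3277
theorem D4736 : act 7 n3277 = n4736 := rfl
theorem F22179 : act 0 n4736 = n4736 := d6_1 D4736 (iv D4736) F15716
theorem F22180 : act 2 n4736 = n3278 := d21_1 D4736 (iv D3278) (iv F15717)
theorem F22181 : act 5 n4736 = n3301 := d36_1 D4736 (iv D3301) (iv F15718)
theorem F22182 : act 8 n4736 = n4736 := d42_2 F15719 D4736 (iv D4736)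
def n4737 : Q := act 4 n3279
theorem D4737 : act 4 n3279 = n4737 := rfl
theorem F22187 : act 8 n4737 = n3284 := d33_2 (iv F15730) D4737 (iv D3284)
def n4738 : Q := act 3 n3280
theorem D4738 : act 3 n3280 = n4738 := rfl
theorem F22189 : act 1 n4738 = n3281 := d10_1 D4738 (iv D3281) (iv F15732)
def n4739 : Q := act 5 n3280
theorem D4739 : act 5 n3280 = n4739 := rfl
theorem F22193 : act 1 n4739 = n3282 := d12_1 D4739 (iv D3282) (iv F15732)
theorem F22197 : act 8 n4739 = n3286 := d37_2 (iv F15735) D4739 (iv D3286)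
def n4740 : Q := act 5 n3281
theorem D4740 : act 5 n3281 = n4740 := rfl
theorem F22199 : act 0 n4740 = n4740 := d4_1 D4740 (iv D4740) F15737
theorem F22200 : act 2 n4740 = n4740 := d19_1 D4740 (iv D4740) F15738
theorem F22201 : act 3 n4740 = n3282 := d25_1 D4740 (iv D3282) D3281
theorem F22202 : act 7 n4740 = n4740 := d36_2 F15740 D4740 (iv D4740)
theorem F22203 : act 9 n4740 = n4740 := d38_2 F15741 D4740 (iv D4740)
def n4741 : Q := act 8 n3281
theorem D4741 : act 8 n3281 = n4741 := rfl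
theorem F22204 : act 0 n4741 = n4741 := d7_1 D4741 (iv D4741) F15737
theorem F22205 : act 2 n4741 = n4741 := d22_1 D4741 (iv D4741) F15738
theorem F22206 : act 3 n4741 = n3288 := d28_1 D4741 (iv D3288) (iv D2281) (iv F11192) D3281
theorem F22207 : act 4 n4741 = n4741 := d33_1 D4741 (iv D4741) F15739
theorem F22208 : act 7 n4741 = n4741 := d42_1 D4741 (iv D4741) F15740
def n4742 : Q := act 6 n3282
theorem D4742 : act 6 n3282 = n4742 := rfl
theorem F22209 : act 0 n4742 = n4742 := d5_1 D4742 (iv D4742) F15742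
theorem F22210 : act 2 n4742 = n3283 := d20_1 D4742 (iv D3283) (iv F15743)
theorem F22211 : act 4 n4742 = n4742 := d31_1 D4742 (iv D4742) F15744
theorem F22212 : act 8 n4742 = n3289 := d40_2 (iv F15746) D4742 (iv D3289)
theorem F22213 : act 9 n4742 = n4742 := d41_2 F15747 D4742 (iv D4742)
def n4743 : Q := act 7 n3283
theorem D4743 : act 7 n3283 = n4743 := rfl
theorem F22214 : act 0 n4743 = n4743 := d6_1 D4743 (iv D4743) F15748
theorem F22215 : act 1 n4743 = n3585 := d14_1 D4743 (iv D3585) (iv F15749)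
theorem F22216 : act 3 n4743 = n4743 := d27_1 D4743 (iv D4743) F15750
theorem F22217 : act 4 n4743 = n4743 := d32_1 D4743 (iv D4743) F15751
theorem F22218 : act 6 n4743 = n4743 := d39_1 D4743 (iv D4743) (iv D3283) F11198 D3283
theorem F22219 : act 8 n4743 = n3290 := d42_2 (iv F15752) D4743 (iv D3290)
theorem F22220 : act 9 n4743 = n4743 := d43_2 F15753 D4743 (iv D4743)
def n4744 : Q := act 3 n3284
theorem D4744 : act 3 n3284 = n4744 := rfl
theorem F22221 : act 0 n4744 = n3285 := d2_1 D4744 (iv D3285) (iv F15754)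
theorem F22224 : act 9 n4744 = n3291 := d29_2 (iv F15758) D4744 (iv D3291)
def n4745 : Q := act 5 n3284
theorem D4745 : act 5 n3284 = n4745 := rfl
theorem F22225 : act 0 n4745 = n3286 := d4_1 D4745 (iv D3286) (iv F15754)
theorem F22227 : act 2 n4745 = n3587 := d19_1 D4745 (iv D3587) (iv F15756)
theorem F22230 : act 9 n4745 = n3292 := d38_2 (iv F15758) D4745 (iv D3292)
def n4746 : Q := act 2 n3285
theorem D4746 : act 2 n3285 = n4746 := rfl
theorem F22231 : act 1 n4746 = n3334 := d9_1 D4746 (iv D3334) F11353 (iv F11211) (iv F15759)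
theorem F22232 : act 3 n4746 = n3588 := d17_2 D3285 D4746 (iv D3588) (iv D2485) (iv F11207)
theorem F22233 : act 7 n4746 = n4746 := d21_2 F15760 D4746 (iv D4746)
theorem F22234 : act 9 n4746 = n3293 := d23_2 (iv F15761) D4746 (iv D3293)
def n4747 : Q := act 5 n3285
theorem D4747 : act 5 n3285 = n4747 := rfl
theorem F22235 : act 1 n4747 = n3287 := d12_1 D4747 (iv D3287) (iv F15759)
theorem F22236 : act 3 n4747 = n3286 := d25_1 D4747 (iv D3286) D3285
theorem F22237 : act 7 n4747 = n4747 := d36_2 F15760 D4747 (iv D4747)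
theorem F22238 : act 9 n4747 = n3294 := d38_2 (iv F15761) D4747 (iv D3294)
def n4748 : Q := act 8 n3285
theorem D4748 : act 8 n3285 = n4748 := rfl
theorem F22239 : act 1 n4748 = n3288 := d15_1 D4748 (iv D3288) (iv F15759)
theorem F22240 : act 7 n4748 = n4748 := d42_1 D4748 (iv D4748) F15760
def n4749 : Q := act 6 n3286
theorem D4749 : act 6 n3286 = n4749 := rfl
theorem F22241 : act 1 n4749 = n3289 := d13_1 D4749 (iv D3289) (iv F15762)
theorem F22242 : act 2 n4749 = n3591 := d20_1 D4749 (iv D3591) (iv F15763)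
theorem F22243 : act 4 n4749 = n4749 := d31_1 D4749 (iv D4749) F15764
theorem F22244 : act 9 n4749 = n3296 := d41_2 (iv F15766) D4749 (iv D3296)
def n4750 : Q := act 4 n3287
theorem D4750 : act 4 n3287 = n4750 := rfl
theorem F22245 : act 0 n4750 = n4750 := d3_1 D4750 (iv D4750) F15767
theorem F22246 : act 2 n4750 = n3338 := d18_1 D4750 (iv D3338) (iv F15768)
theorem F22247 : act 3 n4750 = n4750 := d24_1 D4750 (iv D4750) F15769 F11216 (iv F15769)
theorem F22248 : act 7 n4750 = n4750 := d32_2 F15770 D4750 (iv D4750)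
theorem F22249 : act 9 n4750 = n3297 := d34_2 (iv F15771) D4750 (iv D3297)
def n4751 : Q := act 6 n3287
theorem D4751 : act 6 n3287 = n4751 := rfl
theorem F22250 : act 0 n4751 = n4751 := d5_1 D4751 (iv D4751) F15767
theorem F22251 : act 2 n4751 = n3339 := d20_1 D4751 (iv D3339) (iv F15768)
theorem F22252 : act 3 n4751 = n3289 := d26_1 D4751 (iv D3289) (iv F15769)
theorem F22253 : act 9 n4751 = n3298 := d41_2 (iv F15771) D4751 (iv D3298)
def n4752 : Q := act 8 n3287
theorem D4752 : act 8 n3287 = n4752 := rfl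
theorem F22254 : act 0 n4752 = n4752 := d7_1 D4752 (iv D4752) F15767
theorem F22255 : act 2 n4752 = n3340 := d22_1 D4752 (iv D3340) (iv F15768)
theorem F22256 : act 5 n4752 = n3288 := d37_1 D4752 (iv D3288) D3287
theorem F22257 : act 7 n4752 = n4752 := d42_1 D4752 (iv D4752) F15770
def n4753 : Q := act 9 n3288
theorem D4753 : act 9 n3288 = n4753 := rfl
theorem F22258 : act 0 n4753 = n4753 := d8_1 D4753 (iv D4753) F15772
theorem F22259 : act 2 n4753 = n3341 := d23_1 D4753 (iv D3341) (iv F15773)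
theorem F22260 : act 7 n4753 = n4753 := d43_1 D4753 (iv D4753) F15774
theorem F22261 : act 8 n4753 = n3300 := d44_1 D4753 (iv D3300) (iv D2288) (iv F11213) D3288
def n4754 : Q := act 7 n3289
theorem D4754 : act 7 n3289 = n4754 := rfl
theorem F22262 : act 0 n4754 = n4754 := d6_1 D4754 (iv D4754) F15775
theorem F22263 : act 2 n4754 = n3290 := d21_1 D4754 (iv D3290) (iv F15776)
theorem F22264 : act 4 n4754 = n4754 := d32_1 D4754 (iv D4754) F15777
theorem F22265 : act 6 n4754 = n4754 := d39_1 D4754 (iv D4754) (iv D3289) F11217 D3289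
theorem F22266 : act 9 n4754 = n3301 := d43_2 (iv F15778) D4754 (iv D3301)
def n4755 : Q := act 2 n3291
theorem D4755 : act 2 n3291 = n4755 := rfl
theorem F22267 : act 0 n4755 = n3293 := d1_1 D4755 (iv D3293) (iv F15785)
theorem F22268 : act 3 n4755 = n3597 := d17_2 D3291 D4755 (iv D3597) (iv D2491) (iv F11226)
theorem F22269 : act 7 n4755 = n4755 := d21_2 F15787 D4755 (iv D4755)
def n4756 : Q := act 5 n3291
theorem D4756 : act 5 n3291 = n4756 := rfl
theorem F22270 : act 0 n4756 = n3294 := d4_1 D4756 (iv D3294) (iv F15785)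
theorem F22271 : act 1 n4756 = n4756 := d12_1 D4756 (iv D4756) F15786
theorem F22272 : act 3 n4756 = n3292 := d25_1 D4756 (iv D3292) D3291
theorem F22273 : act 7 n4756 = n4756 := d36_2 F15787 D4756 (iv D4756)
def n4757 : Q := act 8 n3291
theorem D4757 : act 8 n3291 = n4757 := rfl
theorem F22274 : act 0 n4757 = n3295 := d7_1 D4757 (iv D3295) (iv F15785)
theorem F22275 : act 1 n4757 = n4757 := d15_1 D4757 (iv D4757) F15786
theorem F22276 : act 3 n4757 = n4757 := d28_1 D4757 (iv D4757) (iv D3291) F11228 D3291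
theorem F22277 : act 7 n4757 = n4757 := d42_1 D4757 (iv D4757) F15787
def n4758 : Q := act 6 n3292
theorem D4758 : act 6 n3292 = n4758 := rfl
theorem F22278 : act 0 n4758 = n3296 := d5_1 D4758 (iv D3296) (iv F15788)
theorem F22279 : act 1 n4758 = n4758 := d13_1 D4758 (iv D4758) F15789
theorem F22280 : act 2 n4758 = n3600 := d20_1 D4758 (iv D3600) (iv F15790)
theorem F22281 : act 4 n4758 = n4758 := d31_1 D4758 (iv D4758) F15791
theorem F22282 : act 8 n4758 = n4758 := d40_2 F15793 D4758 (iv D4758)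
def n4759 : Q := act 5 n3293
theorem D4759 : act 5 n3293 = n4759 := rfl
theorem F22283 : act 1 n4759 = n3347 := d12_1 D4759 (iv D3347) (iv F15794)
theorem F22284 : act 2 n4759 = n3294 := d19_1 D4759 (iv D3294) D3293
theorem F22285 : act 3 n4759 = n3601 := d25_1 D4759 (iv D3601) (iv F15795)
theorem F22286 : act 7 n4759 = n4759 := d36_2 F15796 D4759 (iv D4759)
def n4760 : Q := act 8 n3293
theorem D4760 : act 8 n3293 = n4760 := rfl
theorem F22287 : act 1 n4760 = n3348 := d15_1 D4760 (iv D3348) (iv F15794)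
theorem F22288 : act 2 n4760 = n3295 := d22_1 D4760 (iv D3295) D3293
theorem F22289 : act 7 n4760 = n4760 := d42_1 D4760 (iv D4760) F15796
def n4761 : Q := act 4 n3294
theorem D4761 : act 4 n3294 = n4761 := rfl
theorem F22290 : act 1 n4761 = n3297 := d11_1 D4761 (iv D3297) (iv F15797)
theorem F22291 : act 3 n4761 = n4761 := d24_1 D4761 (iv D4761) F15798 F11233 (iv F15798)
theorem F22292 : act 7 n4761 = n4761 := d32_2 F15799 D4761 (iv D4761)
def n4762 : Q := act 6 n3294
theorem D4762 : act 6 n3294 = n4762 := rfl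
theorem F22293 : act 1 n4762 = n3298 := d13_1 D4762 (iv D3298) (iv F15797)
theorem F22294 : act 3 n4762 = n3296 := d26_1 D4762 (iv D3296) (iv F15798)
def n4763 : Q := act 8 n3294
theorem D4763 : act 8 n3294 = n4763 := rfl
theorem F22295 : act 1 n4763 = n3299 := d15_1 D4763 (iv D3299) (iv F15797)
theorem F22296 : act 3 n4763 = n4763 := d28_1 D4763 (iv D4763) F15798 F11235 (iv F15798)
theorem F22297 : act 5 n4763 = n3295 := d37_1 D4763 (iv D3295) D3294
theorem F22298 : act 7 n4763 = n4763 := d42_1 D4763 (iv D4763) F15799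
def n4764 : Q := act 9 n3295
theorem D4764 : act 9 n3295 = n4764 := rfl
theorem F22299 : act 1 n4764 = n3300 := d16_1 D4764 (iv D3300) (iv F15800)
theorem F22300 : act 3 n4764 = n4764 := d29_1 D4764 (iv D4764) F15801
theorem F22301 : act 7 n4764 = n4764 := d43_1 D4764 (iv D4764) F15802
def n4765 : Q := act 7 n3296
theorem D4765 : act 7 n3296 = n4765 := rfl
theorem F22302 : act 1 n4765 = n3301 := d14_1 D4765 (iv D3301) (iv F15803)
theorem F22303 : act 2 n4765 = n3607 := d21_1 D4765 (iv D3607) (iv F15804)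
theorem F22304 : act 4 n4765 = n4765 := d32_1 D4765 (iv D4765) F15805
theorem F22305 : act 6 n4765 = n4765 := d39_1 D4765 (iv D4765) (iv D3296) F11234 D3296
theorem F22306 : act 8 n4765 = n4765 := d42_2 F15806 D4765 (iv D4765)
def n4766 : Q := act 6 n3297
theorem D4766 : act 6 n3297 = n4766 := rfl
theorem F22307 : act 0 n4766 = n4766 := d5_1 D4766 (iv D4766) F15807
theorem F22308 : act 2 n4766 = n3354 := d20_1 D4766 (iv D3354) (iv F15808)
theorem F22309 : act 3 n4766 = n4766 := d26_1 D4766 (iv D4766) F15809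
theorem F22310 : act 4 n4766 = n3298 := d31_1 D4766 (iv D3298) D3297
def n4767 : Q := act 8 n3297
theorem D4767 : act 8 n3297 = n4767 := rfl
theorem F22311 : act 0 n4767 = n4767 := d7_1 D4767 (iv D4767) F15807
theorem F22312 : act 2 n4767 = n3355 := d22_1 D4767 (iv D3355) (iv F15808)
theorem F22313 : act 4 n4767 = n3299 := d33_1 D4767 (iv D3299) D3297
theorem F22314 : act 7 n4767 = n4767 := d42_1 D4767 (iv D4767) F15810
def n4768 : Q := act 7 n3298
theorem D4768 : act 7 n3298 = n4768 := rfl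
theorem F22315 : act 0 n4768 = n4768 := d6_1 D4768 (iv D4768) F15811
theorem F22316 : act 2 n4768 = n3356 := d21_1 D4768 (iv D3356) (iv F15812)
theorem F22317 : act 3 n4768 = n3301 := d27_1 D4768 (iv D3301) (iv F15813)
theorem F22318 : act 6 n4768 = n4768 := d39_1 D4768 (iv D4768) (iv D3298) F11239 D3298
def n4769 : Q := act 8 n3298
theorem D4769 : act 8 n3298 = n4769 := rfl
theorem F22319 : act 0 n4769 = n4769 := d7_1 D4769 (iv D4769) F15811
theorem F22320 : act 2 n4769 = n3357 := d22_1 D4769 (iv D3357) (iv F15812)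
theorem F22321 : act 3 n4769 = n4769 := d28_1 D4769 (iv D4769) F15813 F11247 (iv F15813)
theorem F22322 : act 6 n4769 = n3299 := d40_1 D4769 (iv D3299) D3298
def n4770 : Q := act 9 n3299
theorem D4770 : act 9 n3299 = n4770 := rfl
theorem F22323 : act 0 n4770 = n4770 := d8_1 D4770 (iv D4770) F15814
theorem F22324 : act 2 n4770 = n3358 := d23_1 D4770 (iv D3358) (iv F15815)
theorem F22325 : act 3 n4770 = n4770 := d29_1 D4770 (iv D4770) F15816
theorem F22326 : act 5 n4770 = n3300 := d38_1 D4770 (iv D3300) (iv F15817)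
theorem F22327 : act 7 n4770 = n4770 := d43_1 D4770 (iv D4770) F15818
def n4771 : Q := act 4 n3302
theorem D4771 : act 4 n3302 = n4771 := rfl
theorem F22328 : act 0 n4771 = n3303 := d3_1 D4771 (iv D3303) D3302
theorem F22329 : act 1 n4771 = n4771 := d11_1 D4771 (iv D4771) F15828
theorem F22330 : act 2 n4771 = n3613 := d18_1 D4771 (iv D3613) (iv F15829)
theorem F22331 : act 6 n4771 = n4771 := d31_2 F15831 D4771 (iv D4771)
theorem F22332 : act 7 n4771 = n3314 := d32_2 (iv F15832) D4771 (iv D3314)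
theorem F22333 : act 8 n4771 = n4771 := d33_2 F15833 D4771 (iv D4771)
theorem F22334 : act 9 n4771 = n3307 := d34_2 (iv F15834) D4771 (iv D3307)
def n4772 : Q := act 3 n3303
theorem D4772 : act 3 n3303 = n4772 := rfl
theorem F22335 : act 1 n4772 = n3304 := d10_1 D4772 (iv D3304) (iv F15835)
theorem F22336 : act 6 n4772 = n4772 := d26_2 F15837 D4772 (iv D4772)
theorem F22337 : act 7 n4772 = n3315 := d27_2 (iv F15838) D4772 (iv D3315)
theorem F22338 : act 9 n4772 = n3308 := d29_2 (iv F15840) D4772 (iv D3308)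
def n4773 : Q := act 5 n3303
theorem D4773 : act 5 n3303 = n4773 := rfl
theorem F22339 : act 1 n4773 = n3305 := d12_1 D4773 (iv D3305) (iv F15835)
theorem F22340 : act 2 n4773 = n3615 := d19_1 D4773 (iv D3615) (iv F15836)
theorem F22341 : act 4 n4773 = n4773 := d30_1 D4773 (iv D4773) (iv D3303) F11255 D3303
theorem F22342 : act 7 n4773 = n3316 := d36_2 (iv F15838) D4773 (iv D3316)
theorem F22343 : act 8 n4773 = n4773 := d37_2 F15839 D4773 (iv D4773)
theorem F22344 : act 9 n4773 = n3309 := d38_2 (iv F15840) D4773 (iv D3309)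
def n4774 : Q := act 5 n3304
theorem D4774 : act 5 n3304 = n4774 := rfl
theorem F22345 : act 0 n4774 = n4774 := d4_1 D4774 (iv D4774) F15841
theorem F22346 : act 3 n4774 = n3305 := d25_1 D4774 (iv D3305) D3304
theorem F22347 : act 7 n4774 = n3317 := d36_2 (iv F15843) D4774 (iv D3317)
theorem F22348 : act 9 n4774 = n3310 := d38_2 (iv F15844) D4774 (iv D3310)
def n4775 : Q := act 8 n3304
theorem D4775 : act 8 n3304 = n4775 := rfl
theorem F22349 : act 0 n4775 = n4775 := d7_1 D4775 (iv D4775) F15841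
theorem F22350 : act 3 n4775 = n4775 := d28_1 D4775 (iv D4775) (iv D3304) F11264 D3304
theorem F22351 : act 6 n4775 = n4775 := d40_1 D4775 (iv D4775) F15842
theorem F22352 : act 7 n4775 = n3318 := d42_1 D4775 (iv D3318) (iv F15843)
def n4776 : Q := act 6 n3305
theorem D4776 : act 6 n3305 = n4776 := rfl
theorem F22353 : act 0 n4776 = n4776 := d5_1 D4776 (iv D4776) F15845
theorem F22354 : act 2 n4776 = n3306 := d20_1 D4776 (iv D3306) (iv F15846)
theorem F22355 : act 4 n4776 = n4776 := d31_1 D4776 (iv D4776) F15847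
theorem F22356 : act 5 n4776 = n4776 := d35_1 D4776 (iv D4776) (iv D3305) F11262 D3305
theorem F22357 : act 8 n4776 = n4776 := d40_2 F15849 D4776 (iv D4776)
theorem F22358 : act 9 n4776 = n3312 := d41_2 (iv F15850) D4776 (iv D3312)
def n4777 : Q := act 7 n3306
theorem D4777 : act 7 n3306 = n4777 := rfl
theorem F22359 : act 0 n4777 = n4777 := d6_1 D4777 (iv D4777) F15851
theorem F22360 : act 1 n4777 = n3619 := d14_1 D4777 (iv D3619) (iv F15852)
theorem F22361 : act 4 n4777 = n4777 := d32_1 D4777 (iv D4777) F15853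
theorem F22362 : act 5 n4777 = n4777 := d36_1 D4777 (iv D4777) F15854
theorem F22363 : act 6 n4777 = n3320 := d39_1 D4777 (iv D3320) (iv D2303) (iv F11269) D3306
theorem F22364 : act 8 n4777 = n4777 := d42_2 F15855 D4777 (iv D4777)
theorem F22365 : act 9 n4777 = n3313 := d43_2 (iv F15856) D4777 (iv D3313)
def n4778 : Q := act 3 n3307
theorem D4778 : act 3 n3307 = n4778 := rfl
theorem F22366 : act 0 n4778 = n3308 := d2_1 D4778 (iv D3308) (iv F15857)
theorem F22367 : act 1 n4778 = n4778 := d10_1 D4778 (iv D4778) F15858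
theorem F22368 : act 6 n4778 = n4778 := d26_2 F15860 D4778 (iv D4778)
theorem F22369 : act 7 n4778 = n3321 := d27_2 (iv F15861) D4778 (iv D3321)
def n4779 : Q := act 5 n3307
theorem D4779 : act 5 n3307 = n4779 := rfl
theorem F22370 : act 0 n4779 = n3309 := d4_1 D4779 (iv D3309) (iv F15857)
theorem F22371 : act 1 n4779 = n4779 := d12_1 D4779 (iv D4779) F15858
theorem F22372 : act 2 n4779 = n3621 := d19_1 D4779 (iv D3621) (iv F15859)
theorem F22373 : act 4 n4779 = n4779 := d30_1 D4779 (iv D4779) (iv D3307) F11274 D3307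
theorem F22374 : act 7 n4779 = n3322 := d36_2 (iv F15861) D4779 (iv D3322)
theorem F22375 : act 8 n4779 = n3400 := d37_2 (iv F15862) D4779 (iv D3400)
def n4780 : Q := act 2 n3308
theorem D4780 : act 2 n3308 = n4780 := rfl
theorem F22376 : act 3 n4780 = n3622 := d17_2 D3308 D4780 (iv D3622) (iv D2508) (iv F11279)
theorem F22377 : act 6 n4780 = n4780 := d20_2 F15864 D4780 (iv D4780)
theorem F22378 : act 7 n4780 = n3323 := d21_2 (iv F15865) D4780 (iv D3323)
def n4781 : Q := act 5 n3308
theorem D4781 : act 5 n3308 = n4781 := rfl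
theorem F22379 : act 1 n4781 = n3310 := d12_1 D4781 (iv D3310) (iv F15863)
theorem F22380 : act 3 n4781 = n3309 := d25_1 D4781 (iv D3309) D3308
theorem F22381 : act 7 n4781 = n3324 := d36_2 (iv F15865) D4781 (iv D3324)
def n4782 : Q := act 8 n3308
theorem D4782 : act 8 n3308 = n4782 := rfl
theorem F22382 : act 1 n4782 = n3311 := d15_1 D4782 (iv D3311) (iv F15863)
theorem F22383 : act 3 n4782 = n3403 := d28_1 D4782 (iv D3403) (iv D2357) (iv F11282) D3308
theorem F22384 : act 6 n4782 = n4782 := d40_1 D4782 (iv D4782) F15864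
theorem F22385 : act 7 n4782 = n3325 := d42_1 D4782 (iv D3325) (iv F15865)
def n4783 : Q := act 6 n3309
theorem D4783 : act 6 n3309 = n4783 := rfl
theorem F22386 : act 1 n4783 = n3312 := d13_1 D4783 (iv D3312) (iv F15866)
theorem F22387 : act 2 n4783 = n3625 := d20_1 D4783 (iv D3625) (iv F15867)
theorem F22388 : act 4 n4783 = n4783 := d31_1 D4783 (iv D4783) F15868
theorem F22389 : act 5 n4783 = n4783 := d35_1 D4783 (iv D4783) (iv D3309) F11280 D3309
theorem F22390 : act 8 n4783 = n3404 := d40_2 (iv F15870) D4783 (iv D3404)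
def n4784 : Q := act 4 n3310
theorem D4784 : act 4 n3310 = n4784 := rfl
theorem F22391 : act 0 n4784 = n4784 := d3_1 D4784 (iv D4784) F15871
theorem F22392 : act 3 n4784 = n4784 := d24_1 D4784 (iv D4784) F15872 F11288 (iv F15872)
theorem F22393 : act 7 n4784 = n3327 := d32_2 (iv F15873) D4784 (iv D3327)
def n4785 : Q := act 6 n3310
theorem D4785 : act 6 n3310 = n4785 := rfl
theorem F22394 : act 0 n4785 = n4785 := d5_1 D4785 (iv D4785) F15871
theorem F22395 : act 3 n4785 = n3312 := d26_1 D4785 (iv D3312) (iv F15872)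
theorem F22396 : act 5 n4785 = n4785 := d35_1 D4785 (iv D4785) (iv D3310) F11284 D3310
def n4786 : Q := act 8 n3310
theorem D4786 : act 8 n3310 = n4786 := rfl
theorem F22397 : act 0 n4786 = n4786 := d7_1 D4786 (iv D4786) F15871
theorem F22398 : act 3 n4786 = n3407 := d28_1 D4786 (iv D3407) F11558 (iv F11290) (iv F15872)
theorem F22399 : act 5 n4786 = n3311 := d37_1 D4786 (iv D3311) D3310
theorem F22400 : act 7 n4786 = n3329 := d42_1 D4786 (iv D3329) (iv F15873)
def n4787 : Q := act 9 n3311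
theorem D4787 : act 9 n3311 = n4787 := rfl
theorem F22401 : act 0 n4787 = n4787 := d8_1 D4787 (iv D4787) F15874
theorem F22402 : act 3 n4787 = n3408 := d29_1 D4787 (iv D3408) (iv F15875)
theorem F22403 : act 6 n4787 = n4787 := d41_1 D4787 (iv D4787) F15876
theorem F22404 : act 7 n4787 = n3330 := d43_1 D4787 (iv D3330) (iv F15877)
def n4788 : Q := act 7 n3312
theorem D4788 : act 7 n3312 = n4788 := rfl
theorem F22405 : act 0 n4788 = n4788 := d6_1 D4788 (iv D4788) F15878
theorem F22406 : act 2 n4788 = n3313 := d21_1 D4788 (iv D3313) (iv F15879)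
theorem F22407 : act 4 n4788 = n4788 := d32_1 D4788 (iv D4788) F15880
theorem F22408 : act 5 n4788 = n4788 := d36_1 D4788 (iv D4788) F15881
theorem F22409 : act 6 n4788 = n3331 := d39_1 D4788 (iv D3331) (iv D2309) (iv F11289) D3312
theorem F22410 : act 8 n4788 = n3409 := d42_2 (iv F15882) D4788 (iv D3409)
def n4789 : Q := act 3 n3314
theorem D4789 : act 3 n3314 = n4789 := rfl
theorem F22411 : act 0 n4789 = n3315 := d2_1 D4789 (iv D3315) (iv F15889)
theorem F22412 : act 1 n4789 = n4789 := d10_1 D4789 (iv D4789) F15890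
theorem F22413 : act 6 n4789 = n3332 := d26_2 (iv F15892) D4789 (iv D3332)
theorem F22414 : act 9 n4789 = n3321 := d29_2 (iv F15894) D4789 (iv D3321)
def n4790 : Q := act 5 n3314
theorem D4790 : act 5 n3314 = n4790 := rfl
theorem F22415 : act 0 n4790 = n3316 := d4_1 D4790 (iv D3316) (iv F15889)
theorem F22416 : act 1 n4790 = n4790 := d12_1 D4790 (iv D4790) F15890
theorem F22417 : act 2 n4790 = n3632 := d19_1 D4790 (iv D3632) (iv F15891)
theorem F22418 : act 4 n4790 = n4790 := d30_1 D4790 (iv D4790) (iv D3314) F11298 D3314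
theorem F22419 : act 8 n4790 = n4790 := d37_2 F15893 D4790 (iv D4790)
theorem F22420 : act 9 n4790 = n3322 := d38_2 (iv F15894) D4790 (iv D3322)
def n4791 : Q := act 2 n3315
theorem D4791 : act 2 n3315 = n4791 := rfl
theorem F22421 : act 3 n4791 = n3633 := d17_2 D3315 D4791 (iv D3633) (iv D2515) (iv F11303)
theorem F22422 : act 6 n4791 = n3334 := d20_2 (iv F15896) D4791 (iv D3334)
theorem F22423 : act 9 n4791 = n3323 := d23_2 (iv F15897) D4791 (iv D3323)
def n4792 : Q := act 5 n3315
theorem D4792 : act 5 n3315 = n4792 := rfl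
theorem F22424 : act 1 n4792 = n3317 := d12_1 D4792 (iv D3317) (iv F15895)
theorem F22425 : act 3 n4792 = n3316 := d25_1 D4792 (iv D3316) D3315
theorem F22426 : act 9 n4792 = n3324 := d38_2 (iv F15897) D4792 (iv D3324)
def n4793 : Q := act 8 n3315
theorem D4793 : act 8 n3315 = n4793 := rfl
theorem F22427 : act 1 n4793 = n3318 := d15_1 D4793 (iv D3318) (iv F15895)
theorem F22428 : act 3 n4793 = n4793 := d28_1 D4793 (iv D4793) (iv D3315) F11305 D3315
theorem F22429 : act 6 n4793 = n3336 := d40_1 D4793 (iv D3336) (iv F15896)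
def n4794 : Q := act 6 n3316
theorem D4794 : act 6 n3316 = n4794 := rfl
theorem F22430 : act 1 n4794 = n3319 := d13_1 D4794 (iv D3319) (iv F15898)
theorem F22431 : act 2 n4794 = n3636 := d20_1 D4794 (iv D3636) (iv F15899)
theorem F22432 : act 4 n4794 = n4794 := d31_1 D4794 (iv D4794) F15900
theorem F22433 : act 5 n4794 = n3337 := d35_1 D4794 (iv D3337) (iv D2313) (iv F11304) D3316
theorem F22434 : act 8 n4794 = n4794 := d40_2 F15901 D4794 (iv D4794)
theorem F22435 : act 9 n4794 = n3326 := d41_2 (iv F15902) D4794 (iv D3326)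
def n4795 : Q := act 4 n3317
theorem D4795 : act 4 n3317 = n4795 := rfl
theorem F22436 : act 0 n4795 = n4795 := d3_1 D4795 (iv D4795) F15903
theorem F22437 : act 3 n4795 = n4795 := d24_1 D4795 (iv D4795) F15904 F11312 (iv F15904)
theorem F22438 : act 9 n4795 = n3327 := d34_2 (iv F15905) D4795 (iv D3327)
def n4796 : Q := act 6 n3317
theorem D4796 : act 6 n3317 = n4796 := rfl
theorem F22439 : act 0 n4796 = n4796 := d5_1 D4796 (iv D4796) F15903
theorem F22440 : act 3 n4796 = n3319 := d26_1 D4796 (iv D3319) (iv F15904)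
theorem F22441 : act 5 n4796 = n3339 := d35_1 D4796 (iv D3339) (iv D2314) (iv F11308) D3317
theorem F22442 : act 9 n4796 = n3328 := d41_2 (iv F15905) D4796 (iv D3328)
def n4797 : Q := act 8 n3317
theorem D4797 : act 8 n3317 = n4797 := rfl
theorem F22443 : act 0 n4797 = n4797 := d7_1 D4797 (iv D4797) F15903
theorem F22444 : act 3 n4797 = n4797 := d28_1 D4797 (iv D4797) F15904 F11313 (iv F15904)
theorem F22445 : act 5 n4797 = n3318 := d37_1 D4797 (iv D3318) D3317
def n4798 : Q := act 9 n3318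
theorem D4798 : act 9 n3318 = n4798 := rfl
theorem F22446 : act 0 n4798 = n4798 := d8_1 D4798 (iv D4798) F15906
theorem F22447 : act 3 n4798 = n4798 := d29_1 D4798 (iv D4798) F15907
theorem F22448 : act 6 n4798 = n3341 := d41_1 D4798 (iv D3341) (iv F15908)
theorem F22449 : act 8 n4798 = n3330 := d44_1 D4798 (iv D3330) (iv D2308) (iv F11309) D3318
def n4799 : Q := act 7 n3319
theorem D4799 : act 7 n3319 = n4799 := rfl
theorem F22450 : act 0 n4799 = n4799 := d6_1 D4799 (iv D4799) F15909
theorem F22451 : act 2 n4799 = n3320 := d21_1 D4799 (iv D3320) (iv F15910)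
theorem F22452 : act 4 n4799 = n4799 := d32_1 D4799 (iv D4799) F15911
theorem F22453 : act 5 n4799 = n3342 := d36_1 D4799 (iv D3342) (iv F15912)
theorem F22454 : act 8 n4799 = n4799 := d42_2 F15913 D4799 (iv D4799)
theorem F22455 : act 9 n4799 = n3331 := d43_2 (iv F15914) D4799 (iv D3331)
def n4800 : Q := act 2 n3321
theorem D4800 : act 2 n3321 = n4800 := rfl
theorem F22456 : act 0 n4800 = n3323 := d1_1 D4800 (iv D3323) (iv F15921)
theorem F22457 : act 3 n4800 = n3642 := d17_2 D3321 D4800 (iv D3642) (iv D2521) (iv F11323)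
theorem F22458 : act 6 n4800 = n3343 := d20_2 (iv F15923) D4800 (iv D3343)
def n4801 : Q := act 5 n3321
theorem D4801 : act 5 n3321 = n4801 := rfl
theorem F22459 : act 0 n4801 = n3324 := d4_1 D4801 (iv D3324) (iv F15921)
theorem F22460 : act 1 n4801 = n4801 := d12_1 D4801 (iv D4801) F15922
theorem F22461 : act 3 n4801 = n3322 := d25_1 D4801 (iv D3322) D3321
def n4802 : Q := act 8 n3321
theorem D4802 : act 8 n3321 = n4802 := rfl
theorem F22462 : act 0 n4802 = n3325 := d7_1 D4802 (iv D3325) (iv F15921)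
theorem F22463 : act 1 n4802 = n4802 := d15_1 D4802 (iv D4802) F15922
theorem F22464 : act 3 n4802 = n3412 := d28_1 D4802 (iv D3412) (iv D2363) (iv F11325) D3321
theorem F22465 : act 6 n4802 = n3345 := d40_1 D4802 (iv D3345) (iv F15923)
def n4803 : Q := act 6 n3322
theorem D4803 : act 6 n3322 = n4803 := rfl
theorem F22466 : act 0 n4803 = n3326 := d5_1 D4803 (iv D3326) (iv F15924)
theorem F22467 : act 1 n4803 = n4803 := d13_1 D4803 (iv D4803) F15925
theorem F22468 : act 2 n4803 = n3645 := d20_1 D4803 (iv D3645) (iv F15926)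
theorem F22469 : act 4 n4803 = n4803 := d31_1 D4803 (iv D4803) F15927
theorem F22470 : act 5 n4803 = n3346 := d35_1 D4803 (iv D3346) (iv D2319) (iv F11324) D3322
theorem F22471 : act 8 n4803 = n3413 := d40_2 (iv F15928) D4803 (iv D3413)
def n4804 : Q := act 5 n3323
theorem D4804 : act 5 n3323 = n4804 := rfl
theorem F22472 : act 2 n4804 = n3324 := d19_1 D4804 (iv D3324) D3323
theorem F22473 : act 3 n4804 = n3646 := d25_1 D4804 (iv D3646) (iv F15929)
def n4805 : Q := act 8 n3323
theorem D4805 : act 8 n3323 = n4805 := rfl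
theorem F22474 : act 2 n4805 = n3325 := d22_1 D4805 (iv D3325) D3323
theorem F22475 : act 6 n4805 = n3348 := d40_1 D4805 (iv D3348) (iv F15930)
def n4806 : Q := act 4 n3324
theorem D4806 : act 4 n3324 = n4806 := rfl
theorem F22476 : act 1 n4806 = n3327 := d11_1 D4806 (iv D3327) (iv F15931)
theorem F22477 : act 3 n4806 = n4806 := d24_1 D4806 (iv D4806) F15932 F11330 (iv F15932)
def n4807 : Q := act 6 n3324
theorem D4807 : act 6 n3324 = n4807 := rfl
theorem F22478 : act 1 n4807 = n3328 := d13_1 D4807 (iv D3328) (iv F15931)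
theorem F22479 : act 3 n4807 = n3326 := d26_1 D4807 (iv D3326) (iv F15932)
theorem F22480 : act 5 n4807 = n3350 := d35_1 D4807 (iv D3350) (iv D2321) (iv F11327) D3324
def n4808 : Q := act 8 n3324
theorem D4808 : act 8 n3324 = n4808 := rfl
theorem F22481 : act 1 n4808 = n3329 := d15_1 D4808 (iv D3329) (iv F15931)
theorem F22482 : act 3 n4808 = n3418 := d28_1 D4808 (iv D3418) F11594 (iv F11331) (iv F15932)
theorem F22483 : act 5 n4808 = n3325 := d37_1 D4808 (iv D3325) D3324
def n4809 : Q := act 9 n3325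
theorem D4809 : act 9 n3325 = n4809 := rfl
theorem F22484 : act 1 n4809 = n3330 := d16_1 D4809 (iv D3330) (iv F15933)
theorem F22485 : act 3 n4809 = n3419 := d29_1 D4809 (iv D3419) (iv F15934)
theorem F22486 : act 6 n4809 = n3352 := d41_1 D4809 (iv D3352) (iv F15935)
def n4810 : Q := act 7 n3326
theorem D4810 : act 7 n3326 = n4810 := rfl
theorem F22487 : act 1 n4810 = n3331 := d14_1 D4810 (iv D3331) (iv F15936)
theorem F22488 : act 2 n4810 = n3652 := d21_1 D4810 (iv D3652) (iv F15937)
theorem F22489 : act 4 n4810 = n4810 := d32_1 D4810 (iv D4810) F15938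
theorem F22490 : act 5 n4810 = n3353 := d36_1 D4810 (iv D3353) (iv F15939)
theorem F22491 : act 8 n4810 = n3420 := d42_2 (iv F15940) D4810 (iv D3420)
def n4811 : Q := act 6 n3327
theorem D4811 : act 6 n3327 = n4811 := rfl
theorem F22492 : act 0 n4811 = n4811 := d5_1 D4811 (iv D4811) F15941
theorem F22493 : act 3 n4811 = n4811 := d26_1 D4811 (iv D4811) F15942
theorem F22494 : act 4 n4811 = n3328 := d31_1 D4811 (iv D3328) D3327
def n4812 : Q := act 8 n3327
theorem D4812 : act 8 n3327 = n4812 := rfl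
theorem F22495 : act 0 n4812 = n4812 := d7_1 D4812 (iv D4812) F15941
theorem F22496 : act 4 n4812 = n3329 := d33_1 D4812 (iv D3329) D3327
def n4813 : Q := act 7 n3328
theorem D4813 : act 7 n3328 = n4813 := rfl
theorem F22497 : act 0 n4813 = n4813 := d6_1 D4813 (iv D4813) F15943
theorem F22498 : act 3 n4813 = n3331 := d27_1 D4813 (iv D3331) (iv F15944)
theorem F22499 : act 5 n4813 = n3356 := d36_1 D4813 (iv D3356) (iv F15945)
def n4814 : Q := act 8 n3328
theorem D4814 : act 8 n3328 = n4814 := rfl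
theorem F22500 : act 0 n4814 = n4814 := d7_1 D4814 (iv D4814) F15943
theorem F22501 : act 3 n4814 = n3424 := d28_1 D4814 (iv D3424) F11611 (iv F11341) (iv F15944)
theorem F22502 : act 5 n4814 = n3357 := d37_1 D4814 (iv D3357) (iv F15945)
theorem F22503 : act 6 n4814 = n3329 := d40_1 D4814 (iv D3329) D3328
def n4815 : Q := act 9 n3329
theorem D4815 : act 9 n3329 = n4815 := rfl
theorem F22504 : act 0 n4815 = n4815 := d8_1 D4815 (iv D4815) F15946
theorem F22505 : act 3 n4815 = n3425 := d29_1 D4815 (iv D3425) (iv F15947)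
theorem F22506 : act 5 n4815 = n3330 := d38_1 D4815 (iv D3330) (iv F15948)
def n4816 : Q := act 2 n3332
theorem D4816 : act 2 n3332 = n4816 := rfl
theorem F22507 : act 0 n4816 = n3334 := d1_1 D4816 (iv D3334) (iv F15957)
theorem F22508 : act 3 n4816 = n3658 := d17_2 D3332 D4816 (iv D3658) (iv D2532) (iv F11349)
theorem F22509 : act 7 n4816 = n4816 := d21_2 F15959 D4816 (iv D4816)
theorem F22510 : act 9 n4816 = n3343 := d23_2 (iv F15960) D4816 (iv D3343)
def n4817 : Q := act 5 n3332
theorem D4817 : act 5 n3332 = n4817 := rfl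
theorem F22511 : act 0 n4817 = n3335 := d4_1 D4817 (iv D3335) (iv F15957)
theorem F22512 : act 1 n4817 = n4817 := d12_1 D4817 (iv D4817) F15958
theorem F22513 : act 3 n4817 = n3333 := d25_1 D4817 (iv D3333) D3332
theorem F22514 : act 7 n4817 = n4817 := d36_2 F15959 D4817 (iv D4817)
theorem F22515 : act 9 n4817 = n3344 := d38_2 (iv F15960) D4817 (iv D3344)
def n4818 : Q := act 8 n3332
theorem D4818 : act 8 n3332 = n4818 := rfl
theorem F22516 : act 0 n4818 = n3336 := d7_1 D4818 (iv D3336) (iv F15957)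
theorem F22517 : act 1 n4818 = n4818 := d15_1 D4818 (iv D4818) F15958
theorem F22518 : act 3 n4818 = n4818 := d28_1 D4818 (iv D4818) (iv D3332) F11351 D3332
theorem F22519 : act 7 n4818 = n4818 := d42_1 D4818 (iv D4818) F15959
def n4819 : Q := act 6 n3333
theorem D4819 : act 6 n3333 = n4819 := rfl
theorem F22520 : act 0 n4819 = n3337 := d5_1 D4819 (iv D3337) (iv F15961)
theorem F22521 : act 1 n4819 = n4819 := d13_1 D4819 (iv D4819) F15962
theorem F22522 : act 2 n4819 = n3661 := d20_1 D4819 (iv D3661) (iv F15963)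
theorem F22523 : act 4 n4819 = n3362 := d31_1 D4819 (iv D3362) (iv F15964)
theorem F22524 : act 8 n4819 = n4819 := d40_2 F15966 D4819 (iv D4819)
theorem F22525 : act 9 n4819 = n3346 := d41_2 (iv F15967) D4819 (iv D3346)
def n4820 : Q := act 5 n3334
theorem D4820 : act 5 n3334 = n4820 := rfl
theorem F22526 : act 2 n4820 = n3335 := d19_1 D4820 (iv D3335) D3334
theorem F22527 : act 3 n4820 = n3662 := d25_1 D4820 (iv D3662) (iv F15968)
theorem F22528 : act 7 n4820 = n4820 := d36_2 F15969 D4820 (iv D4820)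
theorem F22529 : act 9 n4820 = n3347 := d38_2 (iv F15970) D4820 (iv D3347)
def n4821 : Q := act 8 n3334
theorem D4821 : act 8 n3334 = n4821 := rfl
theorem F22530 : act 2 n4821 = n3336 := d22_1 D4821 (iv D3336) D3334
theorem F22531 : act 7 n4821 = n4821 := d42_1 D4821 (iv D4821) F15969
def n4822 : Q := act 4 n3335
theorem D4822 : act 4 n3335 = n4822 := rfl
theorem F22532 : act 1 n4822 = n3338 := d11_1 D4822 (iv D3338) (iv F15971)
theorem F22533 : act 3 n4822 = n3365 := d24_1 D4822 (iv D3365) F11435 (iv F11358) (iv F15972)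
theorem F22534 : act 7 n4822 = n4822 := d32_2 F15973 D4822 (iv D4822)
theorem F22535 : act 9 n4822 = n3349 := d34_2 (iv F15974) D4822 (iv D3349)
def n4823 : Q := act 6 n3335
theorem D4823 : act 6 n3335 = n4823 := rfl
theorem F22536 : act 1 n4823 = n3339 := d13_1 D4823 (iv D3339) (iv F15971)
theorem F22537 : act 3 n4823 = n3337 := d26_1 D4823 (iv D3337) (iv F15972)
theorem F22538 : act 9 n4823 = n3350 := d41_2 (iv F15974) D4823 (iv D3350)
def n4824 : Q := act 8 n3335
theorem D4824 : act 8 n3335 = n4824 := rfl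
theorem F22539 : act 1 n4824 = n3340 := d15_1 D4824 (iv D3340) (iv F15971)
theorem F22540 : act 3 n4824 = n4824 := d28_1 D4824 (iv D4824) F15972 F11360 (iv F15972)
theorem F22541 : act 5 n4824 = n3336 := d37_1 D4824 (iv D3336) D3335
theorem F22542 : act 7 n4824 = n4824 := d42_1 D4824 (iv D4824) F15973
def n4825 : Q := act 9 n3336
theorem D4825 : act 9 n3336 = n4825 := rfl
theorem F22543 : act 1 n4825 = n3341 := d16_1 D4825 (iv D3341) (iv F15975)
theorem F22544 : act 3 n4825 = n4825 := d29_1 D4825 (iv D4825) F15976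
theorem F22545 : act 7 n4825 = n4825 := d43_1 D4825 (iv D4825) F15977
theorem F22546 : act 8 n4825 = n3352 := d44_1 D4825 (iv D3352) (iv D2322) (iv F11355) D3336
def n4826 : Q := act 7 n3337
theorem D4826 : act 7 n3337 = n4826 := rfl
theorem F22547 : act 1 n4826 = n3342 := d14_1 D4826 (iv D3342) (iv F15978)
theorem F22548 : act 2 n4826 = n3668 := d21_1 D4826 (iv D3668) (iv F15979)
theorem F22549 : act 4 n4826 = n3369 := d32_1 D4826 (iv D3369) (iv F15980)
theorem F22550 : act 6 n4826 = n4826 := d39_1 D4826 (iv D4826) (iv D3337) F11359 D3337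
theorem F22551 : act 8 n4826 = n4826 := d42_2 F15981 D4826 (iv D4826)
theorem F22552 : act 9 n4826 = n3353 := d43_2 (iv F15982) D4826 (iv D3353)
def n4827 : Q := act 6 n3338
theorem D4827 : act 6 n3338 = n4827 := rfl
theorem F22553 : act 0 n4827 = n4827 := d5_1 D4827 (iv D4827) F15983
theorem F22554 : act 3 n4827 = n3370 := d26_1 D4827 (iv D3370) (iv F15984)
theorem F22555 : act 4 n4827 = n3339 := d31_1 D4827 (iv D3339) D3338
theorem F22556 : act 9 n4827 = n3354 := d41_2 (iv F15986) D4827 (iv D3354)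
def n4828 : Q := act 8 n3338
theorem D4828 : act 8 n3338 = n4828 := rfl
theorem F22557 : act 0 n4828 = n4828 := d7_1 D4828 (iv D4828) F15983
theorem F22558 : act 4 n4828 = n3340 := d33_1 D4828 (iv D3340) D3338
theorem F22559 : act 7 n4828 = n4828 := d42_1 D4828 (iv D4828) F15985
def n4829 : Q := act 7 n3339
theorem D4829 : act 7 n3339 = n4829 := rfl
theorem F22560 : act 0 n4829 = n4829 := d6_1 D4829 (iv D4829) F15987
theorem F22561 : act 3 n4829 = n3342 := d27_1 D4829 (iv D3342) (iv F15988)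
theorem F22562 : act 6 n4829 = n4829 := d39_1 D4829 (iv D4829) (iv D3339) F11364 D3339
theorem F22563 : act 9 n4829 = n3356 := d43_2 (iv F15989) D4829 (iv D3356)
def n4830 : Q := act 8 n3339
theorem D4830 : act 8 n3339 = n4830 := rfl
theorem F22564 : act 0 n4830 = n4830 := d7_1 D4830 (iv D4830) F15987
theorem F22565 : act 3 n4830 = n4830 := d28_1 D4830 (iv D4830) F15988 F11372 (iv F15988)
theorem F22566 : act 6 n4830 = n3340 := d40_1 D4830 (iv D3340) D3339
def n4831 : Q := act 9 n3340
theorem D4831 : act 9 n3340 = n4831 := rfl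
theorem F22567 : act 0 n4831 = n4831 := d8_1 D4831 (iv D4831) F15990
theorem F22568 : act 3 n4831 = n4831 := d29_1 D4831 (iv D4831) F15991
theorem F22569 : act 5 n4831 = n3341 := d38_1 D4831 (iv D3341) (iv F15992)
theorem F22570 : act 7 n4831 = n4831 := d43_1 D4831 (iv D4831) F15993
theorem F22571 : act 8 n4831 = n3358 := d44_1 D4831 (iv D3358) (iv D2326) (iv F11365) D3340
def n4832 : Q := act 1 n3343
theorem D4832 : act 1 n3343 = n4832 := rfl
theorem F22572 : act 2 n4832 = n4832 := d9_2 D3343 D4832 (iv D4832) (iv D3343) F11381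
theorem F22573 : act 3 n4832 = n3674 := d10_2 (iv F16005) D4832 (iv D3674)
theorem F22574 : act 7 n4832 = n4832 := d14_2 F16006 D4832 (iv D4832)
def n4833 : Q := act 5 n3343
theorem D4833 : act 5 n3343 = n4833 := rfl
theorem F22575 : act 0 n4833 = n3347 := d4_1 D4833 (iv D3347) (iv F16004)
theorem F22576 : act 2 n4833 = n3344 := d19_1 D4833 (iv D3344) D3343
theorem F22577 : act 3 n4833 = n3675 := d25_1 D4833 (iv D3675) (iv F16005)
theorem F22578 : act 7 n4833 = n4833 := d36_2 F16006 D4833 (iv D4833)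
def n4834 : Q := act 8 n3343
theorem D4834 : act 8 n3343 = n4834 := rfl
theorem F22579 : act 0 n4834 = n3348 := d7_1 D4834 (iv D3348) (iv F16004)
theorem F22580 : act 2 n4834 = n3345 := d22_1 D4834 (iv D3345) D3343
theorem F22581 : act 7 n4834 = n4834 := d42_1 D4834 (iv D4834) F16006
def n4835 : Q := act 4 n3344
theorem D4835 : act 4 n3344 = n4835 := rfl
theorem F22582 : act 0 n4835 = n3349 := d3_1 D4835 (iv D3349) (iv F16007)
theorem F22583 : act 1 n4835 = n4835 := d11_1 D4835 (iv D4835) F16008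
theorem F22584 : act 3 n4835 = n3378 := d24_1 D4835 (iv D3378) F11479 (iv F11386) (iv F16009)
theorem F22585 : act 7 n4835 = n4835 := d32_2 F16010 D4835 (iv D4835)
def n4836 : Q := act 6 n3344
theorem D4836 : act 6 n3344 = n4836 := rfl
theorem F22586 : act 0 n4836 = n3350 := d5_1 D4836 (iv D3350) (iv F16007)
theorem F22587 : act 1 n4836 = n4836 := d13_1 D4836 (iv D4836) F16008
theorem F22588 : act 3 n4836 = n3346 := d26_1 D4836 (iv D3346) (iv F16009)
def n4837 : Q := act 8 n3344
theorem D4837 : act 8 n3344 = n4837 := rfl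
theorem F22589 : act 0 n4837 = n3351 := d7_1 D4837 (iv D3351) (iv F16007)
theorem F22590 : act 1 n4837 = n4837 := d15_1 D4837 (iv D4837) F16008
theorem F22591 : act 3 n4837 = n3431 := d28_1 D4837 (iv D3431) F11634 (iv F11388) (iv F16009)
theorem F22592 : act 5 n4837 = n3345 := d37_1 D4837 (iv D3345) D3344
theorem F22593 : act 7 n4837 = n4837 := d42_1 D4837 (iv D4837) F16010
def n4838 : Q := act 9 n3345
theorem D4838 : act 9 n3345 = n4838 := rfl
theorem F22594 : act 0 n4838 = n3352 := d8_1 D4838 (iv D3352) (iv F16011)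
theorem F22595 : act 1 n4838 = n4838 := d16_1 D4838 (iv D4838) F16012
theorem F22596 : act 3 n4838 = n3432 := d29_1 D4838 (iv D3432) (iv F16013)
theorem F22597 : act 7 n4838 = n4838 := d43_1 D4838 (iv D4838) F16014
def n4839 : Q := act 7 n3346
theorem D4839 : act 7 n3346 = n4839 := rfl
theorem F22598 : act 0 n4839 = n3353 := d6_1 D4839 (iv D3353) (iv F16015)
theorem F22599 : act 1 n4839 = n4839 := d14_1 D4839 (iv D4839) F16016
theorem F22600 : act 2 n4839 = n3681 := d21_1 D4839 (iv D3681) (iv F16017)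
theorem F22601 : act 4 n4839 = n3382 := d32_1 D4839 (iv D3382) (iv F16018)
theorem F22602 : act 6 n4839 = n4839 := d39_1 D4839 (iv D4839) (iv D3346) F11387 D3346
theorem F22603 : act 8 n4839 = n3433 := d42_2 (iv F16019) D4839 (iv D3433)
def n4840 : Q := act 4 n3347
theorem D4840 : act 4 n3347 = n4840 := rfl
theorem F22604 : act 2 n4840 = n3349 := d18_1 D4840 (iv D3349) (iv F16020)
theorem F22605 : act 7 n4840 = n4840 := d32_2 F16022 D4840 (iv D4840)
def n4841 : Q := act 6 n3347
theorem D4841 : act 6 n3347 = n4841 := rfl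
theorem F22606 : act 2 n4841 = n3350 := d20_1 D4841 (iv D3350) (iv F16020)
theorem F22607 : act 3 n4841 = n3683 := d26_1 D4841 (iv D3683) (iv F16021)
def n4842 : Q := act 8 n3347
theorem D4842 : act 8 n3347 = n4842 := rfl
theorem F22608 : act 2 n4842 = n3351 := d22_1 D4842 (iv D3351) (iv F16020)
theorem F22609 : act 5 n4842 = n3348 := d37_1 D4842 (iv D3348) D3347
theorem F22610 : act 7 n4842 = n4842 := d42_1 D4842 (iv D4842) F16022
def n4843 : Q := act 3 n3348
theorem D4843 : act 3 n3348 = n4843 := rfl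
theorem F22611 : act 2 n4843 = n3437 := d17_1 D4843 (iv D3437) F11652 (iv F11395) (iv F16023)
theorem F22612 : act 7 n4843 = n4843 := d27_2 F16024 D4843 (iv D4843)
theorem F22613 : act 8 n4843 = n3685 := d28_2 D3348 D4843 (iv D3685) (iv D2548) (iv F11389)
def n4844 : Q := act 9 n3348
theorem D4844 : act 9 n3348 = n4844 := rfl
theorem F22614 : act 2 n4844 = n3352 := d23_1 D4844 (iv D3352) (iv F16023)
theorem F22615 : act 7 n4844 = n4844 := d43_1 D4844 (iv D4844) F16024
def n4845 : Q := act 6 n3349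
theorem D4845 : act 6 n3349 = n4845 := rfl
theorem F22616 : act 1 n4845 = n3354 := d13_1 D4845 (iv D3354) (iv F16025)
theorem F22617 : act 3 n4845 = n3387 := d26_1 D4845 (iv D3387) (iv F16026)
theorem F22618 : act 4 n4845 = n3350 := d31_1 D4845 (iv D3350) D3349
def n4846 : Q := act 8 n3349
theorem D4846 : act 8 n3349 = n4846 := rfl
theorem F22619 : act 1 n4846 = n3355 := d15_1 D4846 (iv D3355) (iv F16025)
theorem F22620 : act 4 n4846 = n3351 := d33_1 D4846 (iv D3351) D3349
theorem F22621 : act 7 n4846 = n4846 := d42_1 D4846 (iv D4846) F16027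
def n4847 : Q := act 7 n3350
theorem D4847 : act 7 n3350 = n4847 := rfl
theorem F22622 : act 1 n4847 = n3356 := d14_1 D4847 (iv D3356) (iv F16028)
theorem F22623 : act 3 n4847 = n3353 := d27_1 D4847 (iv D3353) (iv F16029)
theorem F22624 : act 6 n4847 = n4847 := d39_1 D4847 (iv D4847) (iv D3350) F11393 D3350
def n4848 : Q := act 8 n3350
theorem D4848 : act 8 n3350 = n4848 := rfl
theorem F22625 : act 1 n4848 = n3357 := d15_1 D4848 (iv D3357) (iv F16028)
theorem F22626 : act 3 n4848 = n3442 := d28_1 D4848 (iv D3442) F11661 (iv F11400) (iv F16029)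
theorem F22627 : act 6 n4848 = n3351 := d40_1 D4848 (iv D3351) D3350
def n4849 : Q := act 9 n3351
theorem D4849 : act 9 n3351 = n4849 := rfl
theorem F22628 : act 1 n4849 = n3358 := d16_1 D4849 (iv D3358) (iv F16030)
theorem F22629 : act 3 n4849 = n3443 := d29_1 D4849 (iv D3443) (iv F16031)
theorem F22630 : act 5 n4849 = n3352 := d38_1 D4849 (iv D3352) (iv F16032)
theorem F22631 : act 7 n4849 = n4849 := d43_1 D4849 (iv D4849) F16033
def n4850 : Q := act 5 n3354
theorem D4850 : act 5 n3354 = n4850 := rfl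
theorem F22632 : act 0 n4850 = n4850 := d4_1 D4850 (iv D4850) F16042
theorem F22633 : act 3 n4850 = n3392 := d25_1 D4850 (iv D3392) (iv F16043)
def n4851 : Q := act 7 n3354
theorem D4851 : act 7 n3354 = n4851 := rfl
theorem F22634 : act 0 n4851 = n4851 := d6_1 D4851 (iv D4851) F16042
theorem F22635 : act 3 n4851 = n3393 := d27_1 D4851 (iv D3393) (iv F16043)
theorem F22636 : act 4 n4851 = n3356 := d32_1 D4851 (iv D3356) (iv F16044)
theorem F22637 : act 6 n4851 = n4851 := d39_1 D4851 (iv D4851) (iv D3354) F11403 D3354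
def n4852 : Q := act 8 n3354
theorem D4852 : act 8 n3354 = n4852 := rfl
theorem F22638 : act 0 n4852 = n4852 := d7_1 D4852 (iv D4852) F16042
theorem F22639 : act 4 n4852 = n3357 := d33_1 D4852 (iv D3357) (iv F16044)
theorem F22640 : act 6 n4852 = n3355 := d40_1 D4852 (iv D3355) D3354
def n4853 : Q := act 3 n3355
theorem D4853 : act 3 n3355 = n4853 := rfl
theorem F22641 : act 0 n4853 = n4853 := d2_1 D4853 (iv D4853) F16045
theorem F22642 : act 4 n4853 = n3447 := d24_2 (iv F16046) D4853 (iv D3447) F11682 (iv F11407)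
theorem F22643 : act 7 n4853 = n4853 := d27_2 F16047 D4853 (iv D4853)
theorem F22644 : act 8 n4853 = n3395 := d28_2 D3355 D4853 (iv D3395) (iv D2352) (iv F11402)
def n4854 : Q := act 9 n3355
theorem D4854 : act 9 n3355 = n4854 := rfl
theorem F22645 : act 0 n4854 = n4854 := d8_1 D4854 (iv D4854) F16045
theorem F22646 : act 4 n4854 = n3358 := d34_1 D4854 (iv D3358) (iv F16046)
theorem F22647 : act 7 n4854 = n4854 := d43_1 D4854 (iv D4854) F16047
def n4855 : Q := act 8 n3356
theorem D4855 : act 8 n3356 = n4855 := rfl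
theorem F22648 : act 0 n4855 = n4855 := d7_1 D4855 (iv D4855) F16048
theorem F22649 : act 3 n4855 = n3449 := d28_1 D4855 (iv D3449) F11687 (iv F11417) (iv F16049)
theorem F22650 : act 6 n4855 = n4855 := d40_1 D4855 (iv D4855) F16050
theorem F22651 : act 7 n4855 = n3357 := d42_1 D4855 (iv D3357) D3356
def n4856 : Q := act 9 n3357
theorem D4856 : act 9 n3357 = n4856 := rfl
theorem F22652 : act 0 n4856 = n4856 := d8_1 D4856 (iv D4856) F16051
theorem F22653 : act 3 n4856 = n3450 := d29_1 D4856 (iv D3450) (iv F16052)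
theorem F22654 : act 6 n4856 = n3358 := d41_1 D4856 (iv D3358) (iv F16053)
def n4857 : Q := act 1 n3359
theorem D4857 : act 1 n3359 = n4857 := rfl
theorem F22657 : act 3 n4857 = n3698 := d10_2 (iv F16059) D4857 (iv D3698)
theorem F22660 : act 9 n4857 = n3375 := d16_2 (iv F16062) D4857 (iv D3375)
def n4858 : Q := act 5 n3359
theorem D4858 : act 5 n3359 = n4858 := rfl
theorem F22661 : act 0 n4858 = n3363 := d4_1 D4858 (iv D3363) (iv F16058)
theorem F22662 : act 2 n4858 = n3360 := d19_1 D4858 (iv D3360) D3359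
theorem F22663 : act 3 n4858 = n3699 := d25_1 D4858 (iv D3699) (iv F16059)
theorem F22665 : act 9 n4858 = n3376 := d38_2 (iv F16062) D4858 (iv D3376)
def n4859 : Q := act 8 n3359
theorem D4859 : act 8 n3359 = n4859 := rfl
def n4860 : Q := act 4 n3360
theorem D4860 : act 4 n3360 = n4860 := rfl
theorem F22670 : act 0 n4860 = n3365 := d3_1 D4860 (iv D3365) (iv F16063)
theorem F22671 : act 1 n4860 = n4860 := d11_1 D4860 (iv D4860) F16064
theorem F22672 : act 7 n4860 = n4860 := d32_2 F16066 D4860 (iv D4860)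
theorem F22673 : act 9 n4860 = n3378 := d34_2 (iv F16067) D4860 (iv D3378)
def n4861 : Q := act 6 n3360
theorem D4861 : act 6 n3360 = n4861 := rfl
theorem F22674 : act 0 n4861 = n3366 := d5_1 D4861 (iv D3366) (iv F16063)
theorem F22675 : act 1 n4861 = n4861 := d13_1 D4861 (iv D4861) F16064
theorem F22676 : act 3 n4861 = n3362 := d26_1 D4861 (iv D3362) (iv F16065)
theorem F22677 : act 5 n4861 = n4861 := d35_1 D4861 (iv D4861) (iv D3360) F11420 D3360
theorem F22678 : act 9 n4861 = n3379 := d41_2 (iv F16067) D4861 (iv D3379)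
def n4862 : Q := act 8 n3360
theorem D4862 : act 8 n3360 = n4862 := rfl
theorem F22679 : act 0 n4862 = n3367 := d7_1 D4862 (iv D3367) (iv F16063)
def n4864 : Q := act 7 n3362
theorem D4864 : act 7 n3362 = n4864 := rfl
theorem F22690 : act 0 n4864 = n3369 := d6_1 D4864 (iv D3369) (iv F16073)
theorem F22691 : act 1 n4864 = n4864 := d14_1 D4864 (iv D4864) F16074
theorem F22692 : act 2 n4864 = n3704 := d21_1 D4864 (iv D3704) (iv F16075)
theorem F22693 : act 5 n4864 = n4864 := d36_1 D4864 (iv D4864) F16076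
theorem F22694 : act 6 n4864 = n4864 := d39_1 D4864 (iv D4864) (iv D3362) F11426 D3362
theorem F22695 : act 8 n4864 = n4864 := d42_2 F16077 D4864 (iv D4864)
theorem F22696 : act 9 n4864 = n3382 := d43_2 (iv F16078) D4864 (iv D3382)
def n4865 : Q := act 4 n3363
theorem D4865 : act 4 n3363 = n4865 := rfl
theorem F22697 : act 1 n4865 = n4865 := d11_1 D4865 (iv D4865) F16079
theorem F22698 : act 2 n4865 = n3365 := d18_1 D4865 (iv D3365) (iv F16080)
theorem F22699 : act 7 n4865 = n4865 := d32_2 F16082 D4865 (iv D4865)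
theorem F22700 : act 9 n4865 = n3383 := d34_2 (iv F16083) D4865 (iv D3383)
def n4866 : Q := act 6 n3363
theorem D4866 : act 6 n3363 = n4866 := rfl
theorem F22701 : act 1 n4866 = n4866 := d13_1 D4866 (iv D4866) F16079
theorem F22702 : act 2 n4866 = n3366 := d20_1 D4866 (iv D3366) (iv F16080)
theorem F22703 : act 3 n4866 = n3706 := d26_1 D4866 (iv D3706) (iv F16081)
theorem F22704 : act 5 n4866 = n4866 := d35_1 D4866 (iv D4866) (iv D3363) F11431 D3363
theorem F22705 : act 9 n4866 = n3384 := d41_2 (iv F16083) D4866 (iv D3384)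
def n4867 : Q := act 8 n3363
theorem D4867 : act 8 n3363 = n4867 := rfl
theorem F22707 : act 2 n4867 = n3367 := d22_1 D4867 (iv D3367) (iv F16080)
def n4868 : Q := act 3 n3364
theorem D4868 : act 3 n3364 = n4868 := rfl
theorem F22714 : act 8 n4868 = n3708 := d28_2 D3364 D4868 (iv D3708) (iv D2564) (iv F11430)
def n4869 : Q := act 9 n3364
theorem D4869 : act 9 n3364 = n4869 := rfl
theorem F22719 : act 8 n4869 = n3386 := d44_1 D4869 (iv D3386) (iv D2345) (iv F11433) D3364
def n4870 : Q := act 6 n3365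
theorem D4870 : act 6 n3365 = n4870 := rfl
theorem F22720 : act 1 n4870 = n3370 := d13_1 D4870 (iv D3370) (iv F16088)
theorem F22721 : act 4 n4870 = n3366 := d31_1 D4870 (iv D3366) D3365
theorem F22722 : act 9 n4870 = n3387 := d41_2 (iv F16090) D4870 (iv D3387)
def n4871 : Q := act 8 n3365
theorem D4871 : act 8 n3365 = n4871 := rfl
theorem F22723 : act 1 n4871 = n3371 := d15_1 D4871 (iv D3371) (iv F16088)
theorem F22724 : act 4 n4871 = n3367 := d33_1 D4871 (iv D3367) D3365
theorem F22725 : act 7 n4871 = n4871 := d42_1 D4871 (iv D4871) F16089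
def n4872 : Q := act 7 n3366
theorem D4872 : act 7 n3366 = n4872 := rfl
theorem F22726 : act 1 n4872 = n3372 := d14_1 D4872 (iv D3372) (iv F16091)
theorem F22727 : act 3 n4872 = n3369 := d27_1 D4872 (iv D3369) (iv F16092)
theorem F22728 : act 5 n4872 = n4872 := d36_1 D4872 (iv D4872) F16093
theorem F22729 : act 6 n4872 = n4872 := d39_1 D4872 (iv D4872) (iv D3366) F11436 D3366
theorem F22730 : act 9 n4872 = n3389 := d43_2 (iv F16094) D4872 (iv D3389)
def n4873 : Q := act 8 n3366
theorem D4873 : act 8 n3366 = n4873 := rfl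
theorem F22731 : act 1 n4873 = n3373 := d15_1 D4873 (iv D3373) (iv F16091)
theorem F22732 : act 3 n4873 = n4873 := d28_1 D4873 (iv D4873) F16092 F11445 (iv F16092)
theorem F22733 : act 5 n4873 = n4873 := d37_1 D4873 (iv D4873) F16093
theorem F22734 : act 6 n4873 = n3367 := d40_1 D4873 (iv D3367) D3366
def n4874 : Q := act 9 n3367
theorem D4874 : act 9 n3367 = n4874 := rfl
theorem F22735 : act 1 n4874 = n3374 := d16_1 D4874 (iv D3374) (iv F16095)
def n4875 : Q := act 5 n3370
theorem D4875 : act 5 n3370 = n4875 := rfl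
theorem F22740 : act 0 n4875 = n4875 := d4_1 D4875 (iv D4875) F16110
theorem F22741 : act 2 n4875 = n4875 := d19_1 D4875 (iv D4875) F16111
theorem F22742 : act 4 n4875 = n4875 := d30_1 D4875 (iv D4875) F16112 F11454 (iv F16112)
theorem F22743 : act 9 n4875 = n3392 := d38_2 (iv F16113) D4875 (iv D3392)
def n4876 : Q := act 7 n3370
theorem D4876 : act 7 n3370 = n4876 := rfl
theorem F22744 : act 0 n4876 = n4876 := d6_1 D4876 (iv D4876) F16110
theorem F22745 : act 2 n4876 = n4876 := d21_1 D4876 (iv D4876) F16111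
theorem F22746 : act 4 n4876 = n3372 := d32_1 D4876 (iv D3372) (iv F16112)
theorem F22747 : act 6 n4876 = n4876 := d39_1 D4876 (iv D4876) (iv D3370) F11449 D3370
theorem F22748 : act 9 n4876 = n3393 := d43_2 (iv F16113) D4876 (iv D3393)
def n4877 : Q := act 8 n3370
theorem D4877 : act 8 n3370 = n4877 := rfl
theorem F22749 : act 0 n4877 = n4877 := d7_1 D4877 (iv D4877) F16110
theorem F22750 : act 2 n4877 = n4877 := d22_1 D4877 (iv D4877) F16111
theorem F22751 : act 4 n4877 = n3373 := d33_1 D4877 (iv D3373) (iv F16112)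
theorem F22752 : act 6 n4877 = n3371 := d40_1 D4877 (iv D3371) D3370
def n4878 : Q := act 3 n3371
theorem D4878 : act 3 n3371 = n4878 := rfl
theorem F22753 : act 0 n4878 = n4878 := d2_1 D4878 (iv D4878) F16114
theorem F22754 : act 4 n4878 = n4878 := d24_2 (iv F16116) D4878 (iv D4878) F16116 F11458
theorem F22755 : act 7 n4878 = n4878 := d27_2 F16117 D4878 (iv D4878)
def n4879 : Q := act 9 n3371
theorem D4879 : act 9 n3371 = n4879 := rfl
theorem F22756 : act 0 n4879 = n4879 := d8_1 D4879 (iv D4879) F16114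
theorem F22757 : act 2 n4879 = n4879 := d23_1 D4879 (iv D4879) F16115
theorem F22758 : act 4 n4879 = n3374 := d34_1 D4879 (iv D3374) (iv F16116)
theorem F22759 : act 7 n4879 = n4879 := d43_1 D4879 (iv D4879) F16117
theorem F22760 : act 8 n4879 = n3396 := d44_1 D4879 (iv D3396) (iv D2352) (iv F11450) D3371
def n4880 : Q := act 8 n3372
theorem D4880 : act 8 n3372 = n4880 := rfl
theorem F22761 : act 0 n4880 = n4880 := d7_1 D4880 (iv D4880) F16118
theorem F22762 : act 2 n4880 = n4880 := d22_1 D4880 (iv D4880) F16119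
theorem F22763 : act 3 n4880 = n4880 := d28_1 D4880 (iv D4880) F16120 F11471 (iv F16120)
theorem F22764 : act 5 n4880 = n4880 := d37_1 D4880 (iv D4880) F16121
theorem F22765 : act 6 n4880 = n4880 := d40_1 D4880 (iv D4880) F16122
theorem F22766 : act 7 n4880 = n3373 := d42_1 D4880 (iv D3373) D3372
def n4881 : Q := act 9 n3373
theorem D4881 : act 9 n3373 = n4881 := rfl
theorem F22767 : act 0 n4881 = n4881 := d8_1 D4881 (iv D4881) F16124
theorem F22768 : act 2 n4881 = n4881 := d23_1 D4881 (iv D4881) F16125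
theorem F22769 : act 3 n4881 = n4881 := d29_1 D4881 (iv D4881) F16126
theorem F22770 : act 5 n4881 = n4881 := d38_1 D4881 (iv D4881) F16127
theorem F22771 : act 6 n4881 = n3374 := d41_1 D4881 (iv D3374) (iv F16128)
theorem F22772 : act 8 n4881 = n3398 := d44_1 D4881 (iv D3398) (iv D2354) (iv F11455) D3373
def n4882 : Q := act 5 n3375
theorem D4882 : act 5 n3375 = n4882 := rfl
theorem F22774 : act 1 n4882 = n3376 := d12_1 D4882 (iv D3376) D3375
theorem F22776 : act 3 n4882 = n3718 := d25_1 D4882 (iv D3718) (iv F16137)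
def n4884 : Q := act 4 n3376
theorem D4884 : act 4 n3376 = n4884 := rfl
theorem F22784 : act 0 n4884 = n3383 := d3_1 D4884 (iv D3383) (iv F16140)
theorem F22785 : act 2 n4884 = n3378 := d18_1 D4884 (iv D3378) (iv F16141)
theorem F22786 : act 7 n4884 = n4884 := d32_2 F16143 D4884 (iv D4884)
def n4885 : Q := act 6 n3376
theorem D4885 : act 6 n3376 = n4885 := rfl
theorem F22787 : act 0 n4885 = n3384 := d5_1 D4885 (iv D3384) (iv F16140)
theorem F22788 : act 2 n4885 = n3379 := d20_1 D4885 (iv D3379) (iv F16141)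
theorem F22789 : act 3 n4885 = n3720 := d26_1 D4885 (iv D3720) (iv F16142)
theorem F22790 : act 5 n4885 = n4885 := d35_1 D4885 (iv D4885) (iv D3376) F11475 D3376
def n4886 : Q := act 8 n3376
theorem D4886 : act 8 n3376 = n4886 := rfl
theorem F22791 : act 0 n4886 = n3385 := d7_1 D4886 (iv D3385) (iv F16140)
theorem F22792 : act 2 n4886 = n3380 := d22_1 D4886 (iv D3380) (iv F16141)
def n4888 : Q := act 6 n3378
theorem D4888 : act 6 n3378 = n4888 := rfl
theorem F22801 : act 0 n4888 = n3387 := d5_1 D4888 (iv D3387) (iv F16149)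
theorem F22802 : act 1 n4888 = n4888 := d13_1 D4888 (iv D4888) F16150
theorem F22803 : act 4 n4888 = n3379 := d31_1 D4888 (iv D3379) D3378
def n4889 : Q := act 8 n3378
theorem D4889 : act 8 n3378 = n4889 := rfl
theorem F22804 : act 0 n4889 = n3388 := d7_1 D4889 (iv D3388) (iv F16149)
theorem F22805 : act 1 n4889 = n4889 := d15_1 D4889 (iv D4889) F16150
theorem F22806 : act 4 n4889 = n3380 := d33_1 D4889 (iv D3380) D3378
theorem F22807 : act 7 n4889 = n4889 := d42_1 D4889 (iv D4889) F16151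
def n4890 : Q := act 7 n3379
theorem D4890 : act 7 n3379 = n4890 := rfl
theorem F22808 : act 0 n4890 = n3389 := d6_1 D4890 (iv D3389) (iv F16152)
theorem F22809 : act 1 n4890 = n4890 := d14_1 D4890 (iv D4890) F16153
theorem F22810 : act 3 n4890 = n3382 := d27_1 D4890 (iv D3382) (iv F16154)
theorem F22811 : act 5 n4890 = n4890 := d36_1 D4890 (iv D4890) F16155
theorem F22812 : act 6 n4890 = n4890 := d39_1 D4890 (iv D4890) (iv D3379) F11480 D3379
def n4891 : Q := act 8 n3379
theorem D4891 : act 8 n3379 = n4891 := rfl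
theorem F22813 : act 0 n4891 = n3390 := d7_1 D4891 (iv D3390) (iv F16152)
theorem F22814 : act 1 n4891 = n4891 := d15_1 D4891 (iv D4891) F16153
theorem F22815 : act 3 n4891 = n3454 := d28_1 D4891 (iv D3454) F11707 (iv F11490) (iv F16154)
theorem F22816 : act 5 n4891 = n4891 := d37_1 D4891 (iv D4891) F16155
theorem F22817 : act 6 n4891 = n3380 := d40_1 D4891 (iv D3380) D3379
def n4892 : Q := act 9 n3380
theorem D4892 : act 9 n3380 = n4892 := rfl
theorem F22818 : act 0 n4892 = n3391 := d8_1 D4892 (iv D3391) (iv F16156)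
def n4893 : Q := act 3 n3383
theorem D4893 : act 3 n3383 = n4893 := rfl
theorem F22823 : act 1 n4893 = n4893 := d10_1 D4893 (iv D4893) F16172
theorem F22824 : act 4 n4893 = n3723 := d24_2 D3383 D4893 (iv D3723) (iv D2578) (iv F11493)
theorem F22825 : act 7 n4893 = n4893 := d27_2 F16174 D4893 (iv D4893)
def n4894 : Q := act 6 n3383
theorem D4894 : act 6 n3383 = n4894 := rfl
theorem F22826 : act 1 n4894 = n4894 := d13_1 D4894 (iv D4894) F16172
theorem F22827 : act 2 n4894 = n3387 := d20_1 D4894 (iv D3387) (iv F16173)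
theorem F22828 : act 4 n4894 = n3384 := d31_1 D4894 (iv D3384) D3383
def n4895 : Q := act 8 n3383
theorem D4895 : act 8 n3383 = n4895 := rfl
theorem F22829 : act 1 n4895 = n4895 := d15_1 D4895 (iv D4895) F16172
theorem F22830 : act 2 n4895 = n3388 := d22_1 D4895 (iv D3388) (iv F16173)
theorem F22831 : act 4 n4895 = n3385 := d33_1 D4895 (iv D3385) D3383
theorem F22832 : act 7 n4895 = n4895 := d42_1 D4895 (iv D4895) F16174
def n4896 : Q := act 7 n3384
theorem D4896 : act 7 n3384 = n4896 := rfl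
theorem F22833 : act 1 n4896 = n4896 := d14_1 D4896 (iv D4896) F16175
theorem F22834 : act 2 n4896 = n3389 := d21_1 D4896 (iv D3389) (iv F16176)
theorem F22835 : act 3 n4896 = n3725 := d27_1 D4896 (iv D3725) (iv F16177)
theorem F22836 : act 5 n4896 = n4896 := d36_1 D4896 (iv D4896) F16178
theorem F22837 : act 6 n4896 = n4896 := d39_1 D4896 (iv D4896) (iv D3384) F11494 D3384
def n4897 : Q := act 8 n3384
theorem D4897 : act 8 n3384 = n4897 := rfl
theorem F22838 : act 1 n4897 = n4897 := d15_1 D4897 (iv D4897) F16175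
theorem F22839 : act 2 n4897 = n3390 := d22_1 D4897 (iv D3390) (iv F16176)
theorem F22840 : act 3 n4897 = n4897 := d28_1 D4897 (iv D4897) F16177 F12573 (iv F16177)
theorem F22841 : act 5 n4897 = n4897 := d37_1 D4897 (iv D4897) F16178
theorem F22842 : act 6 n4897 = n3385 := d40_1 D4897 (iv D3385) D3384
def n4898 : Q := act 9 n3385
theorem D4898 : act 9 n3385 = n4898 := rfl
theorem F22844 : act 2 n4898 = n3391 := d23_1 D4898 (iv D3391) (iv F16180)
def n4899 : Q := act 5 n3387
theorem D4899 : act 5 n3387 = n4899 := rfl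
theorem F22848 : act 1 n4899 = n3392 := d12_1 D4899 (iv D3392) (iv F16189)
theorem F22849 : act 4 n4899 = n4899 := d30_1 D4899 (iv D4899) F16190 F11504 (iv F16190)
def n4900 : Q := act 7 n3387
theorem D4900 : act 7 n3387 = n4900 := rfl
theorem F22850 : act 1 n4900 = n3393 := d14_1 D4900 (iv D3393) (iv F16189)
theorem F22851 : act 4 n4900 = n3389 := d32_1 D4900 (iv D3389) (iv F16190)
theorem F22852 : act 6 n4900 = n4900 := d39_1 D4900 (iv D4900) (iv D3387) F11501 D3387
def n4901 : Q := act 8 n3387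
theorem D4901 : act 8 n3387 = n4901 := rfl
theorem F22853 : act 1 n4901 = n3394 := d15_1 D4901 (iv D3394) (iv F16189)
theorem F22854 : act 4 n4901 = n3390 := d33_1 D4901 (iv D3390) (iv F16190)
theorem F22855 : act 6 n4901 = n3388 := d40_1 D4901 (iv D3388) D3387
def n4902 : Q := act 3 n3388
theorem D4902 : act 3 n3388 = n4902 := rfl
theorem F22856 : act 1 n4902 = n3395 := d10_1 D4902 (iv D3395) (iv F16191)
theorem F22857 : act 4 n4902 = n3459 := d24_2 (iv F16192) D4902 (iv D3459) F11734 (iv F11506)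
theorem F22858 : act 7 n4902 = n4902 := d27_2 F16193 D4902 (iv D4902)
def n4903 : Q := act 9 n3388
theorem D4903 : act 9 n3388 = n4903 := rfl
theorem F22859 : act 1 n4903 = n3396 := d16_1 D4903 (iv D3396) (iv F16191)
theorem F22860 : act 4 n4903 = n3391 := d34_1 D4903 (iv D3391) (iv F16192)
theorem F22861 : act 7 n4903 = n4903 := d43_1 D4903 (iv D4903) F16193
def n4904 : Q := act 8 n3389
theorem D4904 : act 8 n3389 = n4904 := rfl
theorem F22862 : act 1 n4904 = n3397 := d15_1 D4904 (iv D3397) (iv F16194)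
theorem F22863 : act 3 n4904 = n3461 := d28_1 D4904 (iv D3461) F11739 (iv F11517) (iv F16195)
theorem F22864 : act 5 n4904 = n4904 := d37_1 D4904 (iv D4904) F16196
theorem F22865 : act 6 n4904 = n4904 := d40_1 D4904 (iv D4904) F16197
theorem F22866 : act 7 n4904 = n3390 := d42_1 D4904 (iv D3390) D3389
def n4905 : Q := act 9 n3390
theorem D4905 : act 9 n3390 = n4905 := rfl
theorem F22867 : act 1 n4905 = n3398 := d16_1 D4905 (iv D3398) (iv F16198)
theorem F22868 : act 3 n4905 = n3462 := d29_1 D4905 (iv D3462) (iv F16199)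
theorem F22869 : act 5 n4905 = n4905 := d38_1 D4905 (iv D4905) F16200
theorem F22870 : act 6 n4905 = n3391 := d41_1 D4905 (iv D3391) (iv F16201)
def n4906 : Q := act 7 n3392
theorem D4906 : act 7 n3392 = n4906 := rfl
theorem F22871 : act 0 n4906 = n4906 := d6_1 D4906 (iv D4906) F16206
theorem F22872 : act 2 n4906 = n4906 := d21_1 D4906 (iv D4906) F16207
theorem F22873 : act 4 n4906 = n4906 := d32_1 D4906 (iv D4906) F16208
theorem F22874 : act 5 n4906 = n3393 := d36_1 D4906 (iv D3393) D3392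
def n4907 : Q := act 8 n3392
theorem D4907 : act 8 n3392 = n4907 := rfl
theorem F22875 : act 0 n4907 = n4907 := d7_1 D4907 (iv D4907) F16206
theorem F22876 : act 2 n4907 = n4907 := d22_1 D4907 (iv D4907) F16207
theorem F22877 : act 4 n4907 = n4907 := d33_1 D4907 (iv D4907) F16208
theorem F22878 : act 5 n4907 = n3394 := d37_1 D4907 (iv D3394) D3392
def n4908 : Q := act 8 n3393
theorem D4908 : act 8 n3393 = n4908 := rfl
theorem F22879 : act 0 n4908 = n4908 := d7_1 D4908 (iv D4908) F16209
theorem F22880 : act 2 n4908 = n4908 := d22_1 D4908 (iv D4908) F16210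
theorem F22881 : act 4 n4908 = n3397 := d33_1 D4908 (iv D3397) (iv F16211)
theorem F22882 : act 6 n4908 = n4908 := d40_1 D4908 (iv D4908) F16212
theorem F22883 : act 7 n4908 = n3394 := d42_1 D4908 (iv D3394) D3393
def n4909 : Q := act 3 n3394
theorem D4909 : act 3 n3394 = n4909 := rfl
theorem F22884 : act 0 n4909 = n4909 := d2_1 D4909 (iv D4909) F16213
theorem F22885 : act 4 n4909 = n3466 := d24_2 (iv F16215) D4909 (iv D3466) F11764 (iv F11532)
theorem F22886 : act 6 n4909 = n3395 := d26_2 (iv F16216) D4909 (iv D3395)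
def n4910 : Q := act 9 n3394
theorem D4910 : act 9 n3394 = n4910 := rfl
theorem F22887 : act 0 n4910 = n4910 := d8_1 D4910 (iv D4910) F16213
theorem F22888 : act 2 n4910 = n4910 := d23_1 D4910 (iv D4910) F16214
theorem F22889 : act 4 n4910 = n3398 := d34_1 D4910 (iv D3398) (iv F16215)
theorem F22890 : act 6 n4910 = n3396 := d41_1 D4910 (iv D3396) (iv F16216)
def n4911 : Q := act 2 n3395
theorem D4911 : act 2 n3395 = n4911 := rfl
theorem F22891 : act 0 n4911 = n4911 := d1_1 D4911 (iv D4911) F16217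
theorem F22892 : act 3 n4911 = n4911 := d17_2 D3395 D4911 (iv D4911) (iv D3395) F11522
theorem F22893 : act 4 n4911 = n3468 := d18_2 (iv F16218) D4911 (iv D3468)
theorem F22894 : act 7 n4911 = n4911 := d21_2 F16219 D4911 (iv D4911)
def n4912 : Q := act 9 n3395
theorem D4912 : act 9 n3395 = n4912 := rfl
theorem F22895 : act 0 n4912 = n4912 := d8_1 D4912 (iv D4912) F16217
theorem F22896 : act 3 n4912 = n3396 := d29_1 D4912 (iv D3396) D3395
theorem F22897 : act 4 n4912 = n3469 := d34_1 D4912 (iv D3469) (iv F16218)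
theorem F22898 : act 7 n4912 = n4912 := d43_1 D4912 (iv D4912) F16219
def n4913 : Q := act 9 n3397
theorem D4913 : act 9 n3397 = n4913 := rfl
theorem F22899 : act 0 n4913 = n4913 := d8_1 D4913 (iv D4913) F16224
theorem F22900 : act 2 n4913 = n4913 := d23_1 D4913 (iv D4913) F16225
theorem F22901 : act 3 n4913 = n3470 := d29_1 D4913 (iv D3470) (iv F16226)
theorem F22902 : act 5 n4913 = n4913 := d38_1 D4913 (iv D4913) F16227
theorem F22903 : act 6 n4913 = n4913 := d41_1 D4913 (iv D4913) F16228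
theorem F22904 : act 7 n4913 = n3398 := d43_1 D4913 (iv D3398) (iv F16229)
def n4914 : Q := act 2 n3399
theorem D4914 : act 2 n3399 = n4914 := rfl
theorem F22905 : act 0 n4914 = n3401 := d1_1 D4914 (iv D3401) (iv F16235)
theorem F22906 : act 3 n4914 = n3729 := d17_2 D3399 D4914 (iv D3729) (iv D2584) (iv F11542)
theorem F22907 : act 4 n4914 = n4914 := d18_2 F16237 D4914 (iv D4914)
theorem F22908 : act 6 n4914 = n4914 := d20_2 F16238 D4914 (iv D4914)
theorem F22909 : act 7 n4914 = n3410 := d21_2 (iv F16239) D4914 (iv D3410)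
theorem F22910 : act 9 n4914 = n4914 := d23_2 F16240 D4914 (iv D4914)
def n4915 : Q := act 5 n3399
theorem D4915 : act 5 n3399 = n4915 := rfl
theorem F22911 : act 0 n4915 = n3402 := d4_1 D4915 (iv D3402) (iv F16235)
theorem F22912 : act 1 n4915 = n4915 := d12_1 D4915 (iv D4915) F16236
theorem F22913 : act 3 n4915 = n3400 := d25_1 D4915 (iv D3400) D3399
theorem F22914 : act 7 n4915 = n3411 := d36_2 (iv F16239) D4915 (iv D3411)
theorem F22915 : act 9 n4915 = n4915 := d38_2 F16240 D4915 (iv D4915)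
def n4916 : Q := act 8 n3399
theorem D4916 : act 8 n3399 = n4916 := rfl
theorem F22916 : act 0 n4916 = n3403 := d7_1 D4916 (iv D3403) (iv F16235)
theorem F22917 : act 1 n4916 = n4916 := d15_1 D4916 (iv D4916) F16236
theorem F22918 : act 4 n4916 = n4916 := d33_1 D4916 (iv D4916) F16237
theorem F22919 : act 6 n4916 = n4916 := d40_1 D4916 (iv D4916) F16238
theorem F22920 : act 7 n4916 = n3412 := d42_1 D4916 (iv D3412) (iv F16239)
def n4917 : Q := act 6 n3400
theorem D4917 : act 6 n3400 = n4917 := rfl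
theorem F22921 : act 0 n4917 = n3404 := d5_1 D4917 (iv D3404) (iv F16241)
theorem F22922 : act 1 n4917 = n4917 := d13_1 D4917 (iv D4917) F16242
theorem F22923 : act 2 n4917 = n3732 := d20_1 D4917 (iv D3732) (iv F16243)
theorem F22924 : act 4 n4917 = n4917 := d31_1 D4917 (iv D4917) F16244
theorem F22925 : act 5 n4917 = n4917 := d35_1 D4917 (iv D4917) (iv D3400) F11543 D3400
theorem F22926 : act 9 n4917 = n4917 := d41_2 F16246 D4917 (iv D4917)
def n4918 : Q := act 5 n3401
theorem D4918 : act 5 n3401 = n4918 := rfl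
theorem F22927 : act 1 n4918 = n4918 := d12_1 D4918 (iv D4918) F16247
theorem F22928 : act 2 n4918 = n3402 := d19_1 D4918 (iv D3402) D3401
theorem F22929 : act 3 n4918 = n3733 := d25_1 D4918 (iv D3733) (iv F16248)
theorem F22930 : act 7 n4918 = n3414 := d36_2 (iv F16251) D4918 (iv D3414)
theorem F22931 : act 9 n4918 = n4918 := d38_2 F16252 D4918 (iv D4918)
def n4919 : Q := act 8 n3401
theorem D4919 : act 8 n3401 = n4919 := rfl
theorem F22932 : act 1 n4919 = n4919 := d15_1 D4919 (iv D4919) F16247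
theorem F22933 : act 2 n4919 = n3403 := d22_1 D4919 (iv D3403) D3401
theorem F22934 : act 4 n4919 = n4919 := d33_1 D4919 (iv D4919) F16249
theorem F22935 : act 6 n4919 = n4919 := d40_1 D4919 (iv D4919) F16250
theorem F22936 : act 7 n4919 = n3415 := d42_1 D4919 (iv D3415) (iv F16251)
def n4920 : Q := act 4 n3402
theorem D4920 : act 4 n3402 = n4920 := rfl
theorem F22937 : act 1 n4920 = n3405 := d11_1 D4920 (iv D3405) (iv F16253)
theorem F22938 : act 3 n4920 = n4920 := d24_1 D4920 (iv D4920) F16254 F11553 (iv F16254)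
theorem F22939 : act 5 n4920 = n4920 := d30_2 D3402 D4920 (iv D4920) (iv D3402) F11547
theorem F22940 : act 7 n4920 = n3416 := d32_2 (iv F16255) D4920 (iv D3416)
theorem F22941 : act 9 n4920 = n4920 := d34_2 F16256 D4920 (iv D4920)
def n4921 : Q := act 6 n3402
theorem D4921 : act 6 n3402 = n4921 := rfl
theorem F22942 : act 1 n4921 = n3406 := d13_1 D4921 (iv D3406) (iv F16253)
theorem F22943 : act 3 n4921 = n3404 := d26_1 D4921 (iv D3404) (iv F16254)
theorem F22944 : act 5 n4921 = n4921 := d35_1 D4921 (iv D4921) (iv D3402) F11548 D3402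
theorem F22945 : act 9 n4921 = n4921 := d41_2 F16256 D4921 (iv D4921)
def n4922 : Q := act 8 n3402
theorem D4922 : act 8 n3402 = n4922 := rfl
theorem F22946 : act 1 n4922 = n3407 := d15_1 D4922 (iv D3407) (iv F16253)
theorem F22947 : act 5 n4922 = n3403 := d37_1 D4922 (iv D3403) D3402
theorem F22948 : act 7 n4922 = n3418 := d42_1 D4922 (iv D3418) (iv F16255)
def n4923 : Q := act 9 n3403
theorem D4923 : act 9 n3403 = n4923 := rfl
theorem F22949 : act 1 n4923 = n3408 := d16_1 D4923 (iv D3408) (iv F16257)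
theorem F22950 : act 4 n4923 = n4923 := d34_1 D4923 (iv D4923) F16258
theorem F22951 : act 6 n4923 = n4923 := d41_1 D4923 (iv D4923) F16259
theorem F22952 : act 7 n4923 = n3419 := d43_1 D4923 (iv D3419) (iv F16260)
theorem F22953 : act 8 n4923 = n4923 := d44_1 D4923 (iv D4923) (iv D3403) F11550 D3403
def n4924 : Q := act 7 n3404
theorem D4924 : act 7 n3404 = n4924 := rfl
theorem F22954 : act 1 n4924 = n3409 := d14_1 D4924 (iv D3409) (iv F16261)
theorem F22955 : act 2 n4924 = n3739 := d21_1 D4924 (iv D3739) (iv F16262)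
theorem F22956 : act 4 n4924 = n4924 := d32_1 D4924 (iv D4924) F16263
theorem F22957 : act 5 n4924 = n4924 := d36_1 D4924 (iv D4924) F16264
theorem F22958 : act 6 n4924 = n3420 := d39_1 D4924 (iv D3420) (iv D2368) (iv F11554) D3404
theorem F22959 : act 9 n4924 = n4924 := d43_2 F16265 D4924 (iv D4924)
def n4925 : Q := act 6 n3405
theorem D4925 : act 6 n3405 = n4925 := rfl
theorem F22960 : act 0 n4925 = n4925 := d5_1 D4925 (iv D4925) F16266
theorem F22961 : act 2 n4925 = n4925 := d20_1 D4925 (iv D4925) F16267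
theorem F22962 : act 3 n4925 = n4925 := d26_1 D4925 (iv D4925) F16268
theorem F22963 : act 4 n4925 = n3406 := d31_1 D4925 (iv D3406) D3405
theorem F22964 : act 9 n4925 = n4925 := d41_2 F16271 D4925 (iv D4925)
def n4926 : Q := act 8 n3405
theorem D4926 : act 8 n3405 = n4926 := rfl
theorem F22965 : act 0 n4926 = n4926 := d7_1 D4926 (iv D4926) F16266
theorem F22966 : act 2 n4926 = n4926 := d22_1 D4926 (iv D4926) F16267
theorem F22967 : act 4 n4926 = n3407 := d33_1 D4926 (iv D3407) D3405
theorem F22968 : act 5 n4926 = n4926 := d37_1 D4926 (iv D4926) F16269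
theorem F22969 : act 7 n4926 = n3422 := d42_1 D4926 (iv D3422) (iv F16270)
def n4927 : Q := act 7 n3406
theorem D4927 : act 7 n3406 = n4927 := rfl
theorem F22970 : act 0 n4927 = n4927 := d6_1 D4927 (iv D4927) F16272
theorem F22971 : act 2 n4927 = n4927 := d21_1 D4927 (iv D4927) F16273
theorem F22972 : act 3 n4927 = n3409 := d27_1 D4927 (iv D3409) (iv F16274)
theorem F22973 : act 5 n4927 = n4927 := d36_1 D4927 (iv D4927) F16275
theorem F22974 : act 6 n4927 = n3423 := d39_1 D4927 (iv D3423) (iv D2370) (iv F11559) D3406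
theorem F22975 : act 9 n4927 = n4927 := d43_2 F16276 D4927 (iv D4927)
def n4928 : Q := act 8 n3406
theorem D4928 : act 8 n3406 = n4928 := rfl
theorem F22976 : act 0 n4928 = n4928 := d7_1 D4928 (iv D4928) F16272
theorem F22977 : act 2 n4928 = n4928 := d22_1 D4928 (iv D4928) F16273
theorem F22978 : act 5 n4928 = n4928 := d37_1 D4928 (iv D4928) F16275
theorem F22979 : act 6 n4928 = n3407 := d40_1 D4928 (iv D3407) D3406
def n4929 : Q := act 9 n3407
theorem D4929 : act 9 n3407 = n4929 := rfl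
theorem F22980 : act 0 n4929 = n4929 := d8_1 D4929 (iv D4929) F16277
theorem F22981 : act 2 n4929 = n4929 := d23_1 D4929 (iv D4929) F16278
theorem F22982 : act 5 n4929 = n3408 := d38_1 D4929 (iv D3408) (iv F16279)
theorem F22983 : act 7 n4929 = n3425 := d43_1 D4929 (iv D3425) (iv F16280)
theorem F22984 : act 8 n4929 = n4929 := d44_1 D4929 (iv D4929) (iv D3407) F11560 D3407
def n4930 : Q := act 1 n3410
theorem D4930 : act 1 n3410 = n4930 := rfl
theorem F22987 : act 3 n4930 = n3745 := d10_2 (iv F16294) D4930 (iv D3745)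
def n4931 : Q := act 5 n3410
theorem D4931 : act 5 n3410 = n4931 := rfl
theorem F22991 : act 0 n4931 = n3414 := d4_1 D4931 (iv D3414) (iv F16293)
theorem F22992 : act 2 n4931 = n3411 := d19_1 D4931 (iv D3411) D3410
theorem F22993 : act 3 n4931 = n3746 := d25_1 D4931 (iv D3746) (iv F16294)
theorem F22994 : act 9 n4931 = n4931 := d38_2 F16297 D4931 (iv D4931)
def n4932 : Q := act 8 n3410
theorem D4932 : act 8 n3410 = n4932 := rfl
theorem F22995 : act 0 n4932 = n3415 := d7_1 D4932 (iv D3415) (iv F16293)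
theorem F22996 : act 2 n4932 = n3412 := d22_1 D4932 (iv D3412) D3410
theorem F22997 : act 4 n4932 = n4932 := d33_1 D4932 (iv D4932) F16295
theorem F22998 : act 6 n4932 = n3428 := d40_1 D4932 (iv D3428) (iv F16296)
def n4933 : Q := act 4 n3411
theorem D4933 : act 4 n3411 = n4933 := rfl
theorem F22999 : act 0 n4933 = n3416 := d3_1 D4933 (iv D3416) (iv F16298)
theorem F23000 : act 1 n4933 = n4933 := d11_1 D4933 (iv D4933) F16299
theorem F23001 : act 3 n4933 = n4933 := d24_1 D4933 (iv D4933) F16300 F11586 (iv F16300)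
theorem F23002 : act 5 n4933 = n4933 := d30_2 D3411 D4933 (iv D4933) (iv D3411) F11580
theorem F23003 : act 9 n4933 = n4933 := d34_2 F16301 D4933 (iv D4933)
def n4934 : Q := act 6 n3411
theorem D4934 : act 6 n3411 = n4934 := rfl
theorem F23004 : act 0 n4934 = n3417 := d5_1 D4934 (iv D3417) (iv F16298)
theorem F23005 : act 1 n4934 = n4934 := d13_1 D4934 (iv D4934) F16299
theorem F23006 : act 3 n4934 = n3413 := d26_1 D4934 (iv D3413) (iv F16300)
theorem F23007 : act 5 n4934 = n3430 := d35_1 D4934 (iv D3430) (iv D2375) (iv F11581) D3411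
theorem F23008 : act 9 n4934 = n4934 := d41_2 F16301 D4934 (iv D4934)
def n4935 : Q := act 8 n3411
theorem D4935 : act 8 n3411 = n4935 := rfl
theorem F23009 : act 0 n4935 = n3418 := d7_1 D4935 (iv D3418) (iv F16298)
theorem F23010 : act 1 n4935 = n4935 := d15_1 D4935 (iv D4935) F16299
theorem F23011 : act 5 n4935 = n3412 := d37_1 D4935 (iv D3412) D3411
def n4936 : Q := act 9 n3412
theorem D4936 : act 9 n3412 = n4936 := rfl
theorem F23012 : act 0 n4936 = n3419 := d8_1 D4936 (iv D3419) (iv F16302)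
theorem F23013 : act 1 n4936 = n4936 := d16_1 D4936 (iv D4936) F16303
theorem F23014 : act 4 n4936 = n4936 := d34_1 D4936 (iv D4936) F16304
theorem F23015 : act 6 n4936 = n3432 := d41_1 D4936 (iv D3432) (iv F16305)
theorem F23016 : act 8 n4936 = n4936 := d44_1 D4936 (iv D4936) (iv D3412) F11582 D3412
def n4937 : Q := act 7 n3413
theorem D4937 : act 7 n3413 = n4937 := rfl
theorem F23017 : act 0 n4937 = n3420 := d6_1 D4937 (iv D3420) (iv F16306)
theorem F23018 : act 1 n4937 = n4937 := d14_1 D4937 (iv D4937) F16307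
theorem F23019 : act 2 n4937 = n3752 := d21_1 D4937 (iv D3752) (iv F16308)
theorem F23020 : act 4 n4937 = n4937 := d32_1 D4937 (iv D4937) F16309
theorem F23021 : act 5 n4937 = n3433 := d36_1 D4937 (iv D3433) (iv F16310)
theorem F23022 : act 9 n4937 = n4937 := d43_2 F16311 D4937 (iv D4937)
def n4938 : Q := act 4 n3414
theorem D4938 : act 4 n3414 = n4938 := rfl
theorem F23023 : act 1 n4938 = n4938 := d11_1 D4938 (iv D4938) F16312
theorem F23024 : act 2 n4938 = n3416 := d18_1 D4938 (iv D3416) (iv F16313)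
theorem F23025 : act 5 n4938 = n4938 := d30_2 D3414 D4938 (iv D4938) (iv D3414) F11590
theorem F23026 : act 9 n4938 = n4938 := d34_2 F16315 D4938 (iv D4938)
def n4939 : Q := act 6 n3414
theorem D4939 : act 6 n3414 = n4939 := rfl
theorem F23027 : act 1 n4939 = n4939 := d13_1 D4939 (iv D4939) F16312
theorem F23028 : act 2 n4939 = n3417 := d20_1 D4939 (iv D3417) (iv F16313)
theorem F23029 : act 3 n4939 = n3754 := d26_1 D4939 (iv D3754) (iv F16314)
theorem F23030 : act 5 n4939 = n3435 := d35_1 D4939 (iv D3435) (iv D2378) (iv F11591) D3414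
theorem F23031 : act 9 n4939 = n4939 := d41_2 F16315 D4939 (iv D4939)
def n4940 : Q := act 8 n3414
theorem D4940 : act 8 n3414 = n4940 := rfl
theorem F23032 : act 1 n4940 = n4940 := d15_1 D4940 (iv D4940) F16312
theorem F23033 : act 2 n4940 = n3418 := d22_1 D4940 (iv D3418) (iv F16313)
theorem F23034 : act 5 n4940 = n3415 := d37_1 D4940 (iv D3415) D3414
def n4941 : Q := act 3 n3415
theorem D4941 : act 3 n3415 = n4941 := rfl
theorem F23035 : act 1 n4941 = n4941 := d10_1 D4941 (iv D4941) F16316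
theorem F23036 : act 6 n4941 = n3437 := d26_2 (iv F16319) D4941 (iv D3437)
theorem F23037 : act 8 n4941 = n3756 := d28_2 D3415 D4941 (iv D3756) (iv D2600) (iv F11589)
def n4942 : Q := act 9 n3415
theorem D4942 : act 9 n3415 = n4942 := rfl
theorem F23038 : act 1 n4942 = n4942 := d16_1 D4942 (iv D4942) F16316
theorem F23039 : act 2 n4942 = n3419 := d23_1 D4942 (iv D3419) (iv F16317)
theorem F23040 : act 4 n4942 = n4942 := d34_1 D4942 (iv D4942) F16318
theorem F23041 : act 6 n4942 = n3438 := d41_1 D4942 (iv D3438) (iv F16319)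
theorem F23042 : act 8 n4942 = n4942 := d44_1 D4942 (iv D4942) (iv D3415) F11592 D3415
def n4943 : Q := act 6 n3416
theorem D4943 : act 6 n3416 = n4943 := rfl
theorem F23043 : act 1 n4943 = n3421 := d13_1 D4943 (iv D3421) (iv F16320)
theorem F23044 : act 3 n4943 = n4943 := d26_1 D4943 (iv D4943) F16321
theorem F23045 : act 4 n4943 = n3417 := d31_1 D4943 (iv D3417) D3416
theorem F23046 : act 9 n4943 = n4943 := d41_2 F16323 D4943 (iv D4943)
def n4944 : Q := act 8 n3416
theorem D4944 : act 8 n3416 = n4944 := rfl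
theorem F23047 : act 1 n4944 = n3422 := d15_1 D4944 (iv D3422) (iv F16320)
theorem F23048 : act 4 n4944 = n3418 := d33_1 D4944 (iv D3418) D3416
theorem F23049 : act 5 n4944 = n4944 := d37_1 D4944 (iv D4944) F16322
def n4945 : Q := act 7 n3417
theorem D4945 : act 7 n3417 = n4945 := rfl
theorem F23050 : act 1 n4945 = n3423 := d14_1 D4945 (iv D3423) (iv F16324)
theorem F23051 : act 3 n4945 = n3420 := d27_1 D4945 (iv D3420) (iv F16325)
theorem F23052 : act 5 n4945 = n3441 := d36_1 D4945 (iv D3441) (iv F16326)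
theorem F23053 : act 9 n4945 = n4945 := d43_2 F16327 D4945 (iv D4945)
def n4946 : Q := act 8 n3417
theorem D4946 : act 8 n3417 = n4946 := rfl
theorem F23054 : act 1 n4946 = n3424 := d15_1 D4946 (iv D3424) (iv F16324)
theorem F23055 : act 5 n4946 = n3442 := d37_1 D4946 (iv D3442) (iv F16326)
theorem F23056 : act 6 n4946 = n3418 := d40_1 D4946 (iv D3418) D3417
def n4947 : Q := act 9 n3418
theorem D4947 : act 9 n3418 = n4947 := rfl
theorem F23057 : act 1 n4947 = n3425 := d16_1 D4947 (iv D3425) (iv F16328)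
theorem F23058 : act 5 n4947 = n3419 := d38_1 D4947 (iv D3419) (iv F16329)
theorem F23059 : act 8 n4947 = n4947 := d44_1 D4947 (iv D4947) (iv D3418) F11595 D3418
def n4948 : Q := act 5 n3421
theorem D4948 : act 5 n3421 = n4948 := rfl
theorem F23060 : act 0 n4948 = n4948 := d4_1 D4948 (iv D4948) F16339
theorem F23061 : act 2 n4948 = n4948 := d19_1 D4948 (iv D4948) F16340
theorem F23062 : act 3 n4948 = n4948 := d25_1 D4948 (iv D4948) F16341
theorem F23063 : act 4 n4948 = n3444 := d30_1 D4948 (iv D3444) F11678 (iv F11612) (iv F16342)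
theorem F23064 : act 6 n4948 = n4948 := d35_2 D3421 D4948 (iv D4948) (iv D3421) F11607
theorem F23065 : act 9 n4948 = n4948 := d38_2 F16343 D4948 (iv D4948)
def n4949 : Q := act 7 n3421
theorem D4949 : act 7 n3421 = n4949 := rfl
theorem F23066 : act 0 n4949 = n4949 := d6_1 D4949 (iv D4949) F16339
theorem F23067 : act 2 n4949 = n4949 := d21_1 D4949 (iv D4949) F16340
theorem F23068 : act 3 n4949 = n4949 := d27_1 D4949 (iv D4949) F16341
theorem F23069 : act 4 n4949 = n3423 := d32_1 D4949 (iv D3423) (iv F16342)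
theorem F23070 : act 9 n4949 = n4949 := d43_2 F16343 D4949 (iv D4949)
def n4950 : Q := act 8 n3421
theorem D4950 : act 8 n3421 = n4950 := rfl
theorem F23071 : act 0 n4950 = n4950 := d7_1 D4950 (iv D4950) F16339
theorem F23072 : act 2 n4950 = n4950 := d22_1 D4950 (iv D4950) F16340
theorem F23073 : act 4 n4950 = n3424 := d33_1 D4950 (iv D3424) (iv F16342)
theorem F23074 : act 6 n4950 = n3422 := d40_1 D4950 (iv D3422) D3421
def n4951 : Q := act 3 n3422
theorem D4951 : act 3 n3422 = n4951 := rfl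
theorem F23075 : act 0 n4951 = n4951 := d2_1 D4951 (iv D4951) F16344
theorem F23076 : act 5 n4951 = n4951 := d25_2 F16347 D4951 (iv D4951)
theorem F23077 : act 8 n4951 = n4951 := d28_2 D3422 D4951 (iv D4951) (iv D3422) F11606
def n4952 : Q := act 9 n3422
theorem D4952 : act 9 n3422 = n4952 := rfl
theorem F23078 : act 0 n4952 = n4952 := d8_1 D4952 (iv D4952) F16344
theorem F23079 : act 2 n4952 = n4952 := d23_1 D4952 (iv D4952) F16345
theorem F23080 : act 4 n4952 = n3425 := d34_1 D4952 (iv D3425) (iv F16346)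
theorem F23081 : act 5 n4952 = n4952 := d38_1 D4952 (iv D4952) F16347
theorem F23082 : act 8 n4952 = n4952 := d44_1 D4952 (iv D4952) (iv D3422) F11608 D3422
def n4953 : Q := act 8 n3423
theorem D4953 : act 8 n3423 = n4953 := rfl
theorem F23083 : act 0 n4953 = n4953 := d7_1 D4953 (iv D4953) F16348
theorem F23084 : act 2 n4953 = n4953 := d22_1 D4953 (iv D4953) F16349
theorem F23085 : act 5 n4953 = n3449 := d37_1 D4953 (iv D3449) (iv F16351)
theorem F23086 : act 7 n4953 = n3424 := d42_1 D4953 (iv D3424) D3423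
def n4954 : Q := act 9 n3424
theorem D4954 : act 9 n3424 = n4954 := rfl
theorem F23087 : act 0 n4954 = n4954 := d8_1 D4954 (iv D4954) F16353
theorem F23088 : act 2 n4954 = n4954 := d23_1 D4954 (iv D4954) F16354
theorem F23089 : act 5 n4954 = n3450 := d38_1 D4954 (iv D3450) (iv F16355)
theorem F23090 : act 6 n4954 = n3425 := d41_1 D4954 (iv D3425) (iv F16356)
theorem F23091 : act 8 n4954 = n4954 := d44_1 D4954 (iv D4954) (iv D3424) F11613 D3424
def n4957 : Q := act 4 n3427
theorem D4957 : act 4 n3427 = n4957 := rfl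
theorem F23103 : act 0 n4957 = n3434 := d3_1 D4957 (iv D3434) (iv F16367)
theorem F23104 : act 2 n4957 = n3429 := d18_1 D4957 (iv D3429) (iv F16368)
theorem F23105 : act 3 n4957 = n4957 := d24_1 D4957 (iv D4957) F16369 F12719 (iv F16369)
theorem F23106 : act 5 n4957 = n4957 := d30_2 D3427 D4957 (iv D4957) (iv D3427) F11629
theorem F23107 : act 7 n4957 = n4957 := d32_2 F16370 D4957 (iv D4957)
theorem F23108 : act 9 n4957 = n4957 := d34_2 F16371 D4957 (iv D4957)
def n4958 : Q := act 6 n3427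
theorem D4958 : act 6 n3427 = n4958 := rfl
theorem F23109 : act 0 n4958 = n3435 := d5_1 D4958 (iv D3435) (iv F16367)
theorem F23110 : act 2 n4958 = n3430 := d20_1 D4958 (iv D3430) (iv F16368)
theorem F23111 : act 3 n4958 = n3771 := d26_1 D4958 (iv D3771) (iv F16369)
theorem F23112 : act 9 n4958 = n4958 := d41_2 F16371 D4958 (iv D4958)
def n4959 : Q := act 8 n3427
theorem D4959 : act 8 n3427 = n4959 := rfl
theorem F23113 : act 0 n4959 = n3436 := d7_1 D4959 (iv D3436) (iv F16367)
theorem F23114 : act 2 n4959 = n3431 := d22_1 D4959 (iv D3431) (iv F16368)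
theorem F23115 : act 5 n4959 = n3428 := d37_1 D4959 (iv D3428) D3427
theorem F23116 : act 7 n4959 = n4959 := d42_1 D4959 (iv D4959) F16370
def n4960 : Q := act 3 n3428
theorem D4960 : act 3 n3428 = n4960 := rfl
theorem F23119 : act 8 n4960 = n3773 := d28_2 D3428 D4960 (iv D3773) (iv D2613) (iv F11628)
def n4961 : Q := act 9 n3428
theorem D4961 : act 9 n3428 = n4961 := rfl
theorem F23120 : act 0 n4961 = n3438 := d8_1 D4961 (iv D3438) (iv F16372)
theorem F23121 : act 2 n4961 = n3432 := d23_1 D4961 (iv D3432) (iv F16373)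
theorem F23122 : act 4 n4961 = n4961 := d34_1 D4961 (iv D4961) F16374
theorem F23123 : act 7 n4961 = n4961 := d43_1 D4961 (iv D4961) F16375
theorem F23124 : act 8 n4961 = n4961 := d44_1 D4961 (iv D4961) (iv D3428) F11631 D3428
def n4962 : Q := act 6 n3429
theorem D4962 : act 6 n3429 = n4962 := rfl
theorem F23125 : act 0 n4962 = n3439 := d5_1 D4962 (iv D3439) (iv F16376)
theorem F23126 : act 1 n4962 = n4962 := d13_1 D4962 (iv D4962) F16377
theorem F23127 : act 3 n4962 = n3451 := d26_1 D4962 (iv D3451) (iv F16378)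
theorem F23128 : act 4 n4962 = n3430 := d31_1 D4962 (iv D3430) D3429
theorem F23129 : act 9 n4962 = n4962 := d41_2 F16381 D4962 (iv D4962)
def n4963 : Q := act 8 n3429
theorem D4963 : act 8 n3429 = n4963 := rfl
theorem F23130 : act 0 n4963 = n3440 := d7_1 D4963 (iv D3440) (iv F16376)
theorem F23131 : act 1 n4963 = n4963 := d15_1 D4963 (iv D4963) F16377
theorem F23132 : act 4 n4963 = n3431 := d33_1 D4963 (iv D3431) D3429
theorem F23133 : act 5 n4963 = n4963 := d37_1 D4963 (iv D4963) F16379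
theorem F23134 : act 7 n4963 = n4963 := d42_1 D4963 (iv D4963) F16380
def n4964 : Q := act 7 n3430
theorem D4964 : act 7 n3430 = n4964 := rfl
theorem F23135 : act 0 n4964 = n3441 := d6_1 D4964 (iv D3441) (iv F16382)
theorem F23136 : act 1 n4964 = n4964 := d14_1 D4964 (iv D4964) F16383
theorem F23137 : act 3 n4964 = n3433 := d27_1 D4964 (iv D3433) (iv F16384)
theorem F23138 : act 6 n4964 = n4964 := d39_1 D4964 (iv D4964) (iv D3430) F11635 D3430
theorem F23139 : act 9 n4964 = n4964 := d43_2 F16385 D4964 (iv D4964)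
def n4965 : Q := act 8 n3430
theorem D4965 : act 8 n3430 = n4965 := rfl
theorem F23140 : act 0 n4965 = n3442 := d7_1 D4965 (iv D3442) (iv F16382)
theorem F23141 : act 1 n4965 = n4965 := d15_1 D4965 (iv D4965) F16383
theorem F23142 : act 6 n4965 = n3431 := d40_1 D4965 (iv D3431) D3430
def n4966 : Q := act 9 n3431
theorem D4966 : act 9 n3431 = n4966 := rfl
theorem F23143 : act 0 n4966 = n3443 := d8_1 D4966 (iv D3443) (iv F16386)
theorem F23144 : act 1 n4966 = n4966 := d16_1 D4966 (iv D4966) F16387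
theorem F23145 : act 5 n4966 = n3432 := d38_1 D4966 (iv D3432) (iv F16388)
theorem F23146 : act 7 n4966 = n4966 := d43_1 D4966 (iv D4966) F16389
theorem F23147 : act 8 n4966 = n4966 := d44_1 D4966 (iv D4966) (iv D3431) F11636 D3431
def n4967 : Q := act 6 n3434
theorem D4967 : act 6 n3434 = n4967 := rfl
theorem F23148 : act 1 n4967 = n4967 := d13_1 D4967 (iv D4967) F16401
theorem F23149 : act 2 n4967 = n3439 := d20_1 D4967 (iv D3439) (iv F16402)
theorem F23150 : act 3 n4967 = n4967 := d26_1 D4967 (iv D4967) F16403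
theorem F23151 : act 4 n4967 = n3435 := d31_1 D4967 (iv D3435) D3434
theorem F23152 : act 9 n4967 = n4967 := d41_2 F16406 D4967 (iv D4967)
def n4968 : Q := act 8 n3434
theorem D4968 : act 8 n3434 = n4968 := rfl
theorem F23153 : act 1 n4968 = n4968 := d15_1 D4968 (iv D4968) F16401
theorem F23154 : act 2 n4968 = n3440 := d22_1 D4968 (iv D3440) (iv F16402)
theorem F23155 : act 4 n4968 = n3436 := d33_1 D4968 (iv D3436) D3434
theorem F23156 : act 5 n4968 = n4968 := d37_1 D4968 (iv D4968) F16404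
theorem F23157 : act 7 n4968 = n4968 := d42_1 D4968 (iv D4968) F16405
def n4969 : Q := act 7 n3435
theorem D4969 : act 7 n3435 = n4969 := rfl
theorem F23158 : act 1 n4969 = n4969 := d14_1 D4969 (iv D4969) F16407
theorem F23159 : act 2 n4969 = n3441 := d21_1 D4969 (iv D3441) (iv F16408)
theorem F23160 : act 3 n4969 = n3778 := d27_1 D4969 (iv D3778) (iv F16409)
theorem F23161 : act 6 n4969 = n4969 := d39_1 D4969 (iv D4969) (iv D3435) F11649 D3435
theorem F23162 : act 9 n4969 = n4969 := d43_2 F16410 D4969 (iv D4969)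
def n4970 : Q := act 8 n3435
theorem D4970 : act 8 n3435 = n4970 := rfl
theorem F23163 : act 1 n4970 = n4970 := d15_1 D4970 (iv D4970) F16407
theorem F23164 : act 2 n4970 = n3442 := d22_1 D4970 (iv D3442) (iv F16408)
theorem F23165 : act 6 n4970 = n3436 := d40_1 D4970 (iv D3436) D3435
def n4971 : Q := act 3 n3436
theorem D4971 : act 3 n3436 = n4971 := rfl
theorem F23166 : act 1 n4971 = n4971 := d10_1 D4971 (iv D4971) F16411
theorem F23167 : act 5 n4971 = n3437 := d25_2 (iv F16413) D4971 (iv D3437)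
theorem F23168 : act 7 n4971 = n4971 := d27_2 F16414 D4971 (iv D4971)
theorem F23169 : act 8 n4971 = n3780 := d28_2 D3436 D4971 (iv D3780) (iv D2619) (iv F11648)
def n4972 : Q := act 9 n3436
theorem D4972 : act 9 n3436 = n4972 := rfl
theorem F23170 : act 1 n4972 = n4972 := d16_1 D4972 (iv D4972) F16411
theorem F23171 : act 2 n4972 = n3443 := d23_1 D4972 (iv D3443) (iv F16412)
theorem F23172 : act 5 n4972 = n3438 := d38_1 D4972 (iv D3438) (iv F16413)
theorem F23173 : act 7 n4972 = n4972 := d43_1 D4972 (iv D4972) F16414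
theorem F23174 : act 8 n4972 = n4972 := d44_1 D4972 (iv D4972) (iv D3436) F11650 D3436
def n4973 : Q := act 4 n3437
theorem D4973 : act 4 n3437 = n4973 := rfl
theorem F23175 : act 1 n4973 = n4973 := d11_1 D4973 (iv D4973) F16415
theorem F23176 : act 3 n4973 = n4973 := d24_1 D4973 (iv D4973) (iv D3437) F11653 D3437
theorem F23177 : act 7 n4973 = n4973 := d32_2 F16416 D4973 (iv D4973)
theorem F23178 : act 8 n4973 = n3782 := d33_2 (iv F16417) D4973 (iv D3782)
def n4974 : Q := act 9 n3437
theorem D4974 : act 9 n3437 = n4974 := rfl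
theorem F23179 : act 1 n4974 = n4974 := d16_1 D4974 (iv D4974) F16415
theorem F23180 : act 3 n4974 = n3438 := d29_1 D4974 (iv D3438) D3437
theorem F23181 : act 7 n4974 = n4974 := d43_1 D4974 (iv D4974) F16416
def n4975 : Q := act 5 n3439
theorem D4975 : act 5 n3439 = n4975 := rfl
theorem F23182 : act 1 n4975 = n3444 := d12_1 D4975 (iv D3444) (iv F16423)
theorem F23183 : act 3 n4975 = n3456 := d25_1 D4975 (iv D3456) (iv F16424)
theorem F23184 : act 6 n4975 = n4975 := d35_2 D3439 D4975 (iv D4975) (iv D3439) F11657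
theorem F23185 : act 9 n4975 = n4975 := d38_2 F16426 D4975 (iv D4975)
def n4976 : Q := act 7 n3439
theorem D4976 : act 7 n3439 = n4976 := rfl
theorem F23186 : act 1 n4976 = n3445 := d14_1 D4976 (iv D3445) (iv F16423)
theorem F23187 : act 3 n4976 = n3457 := d27_1 D4976 (iv D3457) (iv F16424)
theorem F23188 : act 4 n4976 = n3441 := d32_1 D4976 (iv D3441) (iv F16425)
theorem F23189 : act 6 n4976 = n4976 := d39_1 D4976 (iv D4976) (iv D3439) F11658 D3439
theorem F23190 : act 9 n4976 = n4976 := d43_2 F16426 D4976 (iv D4976)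
def n4977 : Q := act 8 n3439
theorem D4977 : act 8 n3439 = n4977 := rfl
theorem F23191 : act 1 n4977 = n3446 := d15_1 D4977 (iv D3446) (iv F16423)
theorem F23192 : act 4 n4977 = n3442 := d33_1 D4977 (iv D3442) (iv F16425)
theorem F23193 : act 6 n4977 = n3440 := d40_1 D4977 (iv D3440) D3439
def n4978 : Q := act 3 n3440
theorem D4978 : act 3 n3440 = n4978 := rfl
theorem F23194 : act 1 n4978 = n3447 := d10_1 D4978 (iv D3447) (iv F16427)
theorem F23195 : act 5 n4978 = n4978 := d25_2 F16429 D4978 (iv D4978)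
theorem F23196 : act 7 n4978 = n4978 := d27_2 F16430 D4978 (iv D4978)
theorem F23197 : act 8 n4978 = n3459 := d28_2 D3440 D4978 (iv D3459) (iv D2396) (iv F11656)
def n4979 : Q := act 9 n3440
theorem D4979 : act 9 n3440 = n4979 := rfl
theorem F23198 : act 1 n4979 = n3448 := d16_1 D4979 (iv D3448) (iv F16427)
theorem F23199 : act 4 n4979 = n3443 := d34_1 D4979 (iv D3443) (iv F16428)
theorem F23200 : act 5 n4979 = n4979 := d38_1 D4979 (iv D4979) F16429
theorem F23201 : act 7 n4979 = n4979 := d43_1 D4979 (iv D4979) F16430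
theorem F23202 : act 8 n4979 = n4979 := d44_1 D4979 (iv D4979) (iv D3440) F11659 D3440
def n4980 : Q := act 8 n3441
theorem D4980 : act 8 n3441 = n4980 := rfl
theorem F23203 : act 1 n4980 = n3449 := d15_1 D4980 (iv D3449) (iv F16431)
theorem F23204 : act 6 n4980 = n4980 := d40_1 D4980 (iv D4980) F16433
theorem F23205 : act 7 n4980 = n3442 := d42_1 D4980 (iv D3442) D3441
def n4981 : Q := act 9 n3442
theorem D4981 : act 9 n3442 = n4981 := rfl
theorem F23206 : act 1 n4981 = n3450 := d16_1 D4981 (iv D3450) (iv F16435)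
theorem F23207 : act 6 n4981 = n3443 := d41_1 D4981 (iv D3443) (iv F16436)
theorem F23208 : act 8 n4981 = n4981 := d44_1 D4981 (iv D4981) (iv D3442) F11662 D3442
def n4982 : Q := act 7 n3444
theorem D4982 : act 7 n3444 = n4982 := rfl
theorem F23209 : act 0 n4982 = n4982 := d6_1 D4982 (iv D4982) F16441
theorem F23210 : act 2 n4982 = n4982 := d21_1 D4982 (iv D4982) F16442
theorem F23211 : act 3 n4982 = n3463 := d27_1 D4982 (iv D3463) (iv F16443)
theorem F23212 : act 5 n4982 = n3445 := d36_1 D4982 (iv D3445) D3444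
theorem F23213 : act 9 n4982 = n4982 := d43_2 F16445 D4982 (iv D4982)
def n4983 : Q := act 8 n3444
theorem D4983 : act 8 n3444 = n4983 := rfl
theorem F23214 : act 0 n4983 = n4983 := d7_1 D4983 (iv D4983) F16441
theorem F23215 : act 2 n4983 = n4983 := d22_1 D4983 (iv D4983) F16442
theorem F23216 : act 5 n4983 = n3446 := d37_1 D4983 (iv D3446) D3444
theorem F23217 : act 6 n4983 = n4983 := d40_1 D4983 (iv D4983) F16444
def n4984 : Q := act 8 n3445
theorem D4984 : act 8 n3445 = n4984 := rfl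
theorem F23218 : act 0 n4984 = n4984 := d7_1 D4984 (iv D4984) F16446
theorem F23219 : act 2 n4984 = n4984 := d22_1 D4984 (iv D4984) F16447
theorem F23220 : act 4 n4984 = n3449 := d33_1 D4984 (iv D3449) (iv F16449)
theorem F23221 : act 6 n4984 = n4984 := d40_1 D4984 (iv D4984) F16450
theorem F23222 : act 7 n4984 = n3446 := d42_1 D4984 (iv D3446) D3445
def n4985 : Q := act 3 n3446
theorem D4985 : act 3 n3446 = n4985 := rfl
theorem F23223 : act 0 n4985 = n4985 := d2_1 D4985 (iv D4985) F16452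
theorem F23224 : act 6 n4985 = n3447 := d26_2 (iv F16455) D4985 (iv D3447)
theorem F23225 : act 8 n4985 = n3466 := d28_2 D3446 D4985 (iv D3466) (iv D2402) (iv F11677)
def n4986 : Q := act 9 n3446
theorem D4986 : act 9 n3446 = n4986 := rfl
theorem F23226 : act 0 n4986 = n4986 := d8_1 D4986 (iv D4986) F16452
theorem F23227 : act 2 n4986 = n4986 := d23_1 D4986 (iv D4986) F16453
theorem F23228 : act 4 n4986 = n3450 := d34_1 D4986 (iv D3450) (iv F16454)
theorem F23229 : act 6 n4986 = n3448 := d41_1 D4986 (iv D3448) (iv F16455)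
theorem F23230 : act 8 n4986 = n4986 := d44_1 D4986 (iv D4986) (iv D3446) F11679 D3446
def n4987 : Q := act 2 n3447
theorem D4987 : act 2 n3447 = n4987 := rfl
theorem F23231 : act 0 n4987 = n4987 := d1_1 D4987 (iv D4987) F16456
theorem F23232 : act 3 n4987 = n4987 := d17_2 D3447 D4987 (iv D4987) (iv D3447) F11681
theorem F23233 : act 5 n4987 = n4987 := d19_2 F16457 D4987 (iv D4987)
theorem F23234 : act 7 n4987 = n4987 := d21_2 F16458 D4987 (iv D4987)
theorem F23235 : act 8 n4987 = n3468 := d22_2 (iv F16459) D4987 (iv D3468)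
def n4988 : Q := act 9 n3447
theorem D4988 : act 9 n3447 = n4988 := rfl
theorem F23236 : act 0 n4988 = n4988 := d8_1 D4988 (iv D4988) F16456
theorem F23237 : act 3 n4988 = n3448 := d29_1 D4988 (iv D3448) D3447
theorem F23238 : act 5 n4988 = n4988 := d38_1 D4988 (iv D4988) F16457
theorem F23239 : act 7 n4988 = n4988 := d43_1 D4988 (iv D4988) F16458
def n4989 : Q := act 9 n3449
theorem D4989 : act 9 n3449 = n4989 := rfl
theorem F23240 : act 0 n4989 = n4989 := d8_1 D4989 (iv D4989) F16466
theorem F23241 : act 2 n4989 = n4989 := d23_1 D4989 (iv D4989) F16467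
theorem F23242 : act 6 n4989 = n4989 := d41_1 D4989 (iv D4989) F16468
theorem F23243 : act 7 n4989 = n3450 := d43_1 D4989 (iv D3450) (iv F16469)
theorem F23244 : act 8 n4989 = n4989 := d44_1 D4989 (iv D4989) (iv D3449) F11689 D3449
def n4990 : Q := act 5 n3451
theorem D4990 : act 5 n3451 = n4990 := rfl
theorem F23245 : act 0 n4990 = n3456 := d4_1 D4990 (iv D3456) (iv F16474)
theorem F23246 : act 1 n4990 = n4990 := d12_1 D4990 (iv D4990) F16475
theorem F23247 : act 2 n4990 = n4990 := d19_1 D4990 (iv D4990) F16476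
theorem F23248 : act 4 n4990 = n4990 := d30_1 D4990 (iv D4990) F16477 F11708 (iv F16477)
theorem F23249 : act 6 n4990 = n4990 := d35_2 D3451 D4990 (iv D4990) (iv D3451) F11701
theorem F23250 : act 9 n4990 = n4990 := d38_2 F16478 D4990 (iv D4990)
def n4991 : Q := act 7 n3451
theorem D4991 : act 7 n3451 = n4991 := rfl
theorem F23251 : act 0 n4991 = n3457 := d6_1 D4991 (iv D3457) (iv F16474)
theorem F23252 : act 1 n4991 = n4991 := d14_1 D4991 (iv D4991) F16475
theorem F23253 : act 2 n4991 = n4991 := d21_1 D4991 (iv D4991) F16476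
theorem F23254 : act 4 n4991 = n3453 := d32_1 D4991 (iv D3453) (iv F16477)
theorem F23255 : act 6 n4991 = n4991 := d39_1 D4991 (iv D4991) (iv D3451) F11702 D3451
theorem F23256 : act 9 n4991 = n4991 := d43_2 F16478 D4991 (iv D4991)
def n4992 : Q := act 8 n3451
theorem D4992 : act 8 n3451 = n4992 := rfl
theorem F23257 : act 0 n4992 = n3458 := d7_1 D4992 (iv D3458) (iv F16474)
theorem F23258 : act 1 n4992 = n4992 := d15_1 D4992 (iv D4992) F16475
theorem F23259 : act 2 n4992 = n4992 := d22_1 D4992 (iv D4992) F16476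
theorem F23260 : act 4 n4992 = n3454 := d33_1 D4992 (iv D3454) (iv F16477)
theorem F23261 : act 6 n4992 = n3452 := d40_1 D4992 (iv D3452) D3451
def n4993 : Q := act 3 n3452
theorem D4993 : act 3 n3452 = n4993 := rfl
theorem F23262 : act 0 n4993 = n3459 := d2_1 D4993 (iv D3459) (iv F16479)
theorem F23263 : act 1 n4993 = n4993 := d10_1 D4993 (iv D4993) F16480
theorem F23264 : act 5 n4993 = n4993 := d25_2 F16483 D4993 (iv D4993)
theorem F23265 : act 7 n4993 = n4993 := d27_2 F16484 D4993 (iv D4993)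
def n4994 : Q := act 9 n3452
theorem D4994 : act 9 n3452 = n4994 := rfl
theorem F23266 : act 0 n4994 = n3460 := d8_1 D4994 (iv D3460) (iv F16479)
theorem F23267 : act 1 n4994 = n4994 := d16_1 D4994 (iv D4994) F16480
theorem F23268 : act 2 n4994 = n4994 := d23_1 D4994 (iv D4994) F16481
theorem F23269 : act 4 n4994 = n3455 := d34_1 D4994 (iv D3455) (iv F16482)
theorem F23270 : act 5 n4994 = n4994 := d38_1 D4994 (iv D4994) F16483
theorem F23271 : act 7 n4994 = n4994 := d43_1 D4994 (iv D4994) F16484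
theorem F23272 : act 8 n4994 = n4994 := d44_1 D4994 (iv D4994) (iv D3452) F11703 D3452
def n4995 : Q := act 8 n3453
theorem D4995 : act 8 n3453 = n4995 := rfl
theorem F23273 : act 0 n4995 = n3461 := d7_1 D4995 (iv D3461) (iv F16485)
theorem F23274 : act 1 n4995 = n4995 := d15_1 D4995 (iv D4995) F16486
theorem F23275 : act 2 n4995 = n4995 := d22_1 D4995 (iv D4995) F16487
theorem F23276 : act 5 n4995 = n4995 := d37_1 D4995 (iv D4995) F16489
theorem F23277 : act 6 n4995 = n4995 := d40_1 D4995 (iv D4995) F16490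
theorem F23278 : act 7 n4995 = n3454 := d42_1 D4995 (iv D3454) D3453
def n4996 : Q := act 9 n3454
theorem D4996 : act 9 n3454 = n4996 := rfl
theorem F23279 : act 0 n4996 = n3462 := d8_1 D4996 (iv D3462) (iv F16492)
theorem F23280 : act 1 n4996 = n4996 := d16_1 D4996 (iv D4996) F16493
theorem F23281 : act 2 n4996 = n4996 := d23_1 D4996 (iv D4996) F16494
theorem F23282 : act 5 n4996 = n4996 := d38_1 D4996 (iv D4996) F16495
theorem F23283 : act 6 n4996 = n3455 := d41_1 D4996 (iv D3455) (iv F16496)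
theorem F23284 : act 8 n4996 = n4996 := d44_1 D4996 (iv D4996) (iv D3454) F11709 D3454
def n4997 : Q := act 7 n3456
theorem D4997 : act 7 n3456 = n4997 := rfl
theorem F23285 : act 1 n4997 = n3463 := d14_1 D4997 (iv D3463) (iv F16503)
theorem F23286 : act 2 n4997 = n4997 := d21_1 D4997 (iv D4997) F16504
theorem F23287 : act 4 n4997 = n4997 := d32_1 D4997 (iv D4997) F16505
theorem F23288 : act 5 n4997 = n3457 := d36_1 D4997 (iv D3457) D3456
theorem F23289 : act 9 n4997 = n4997 := d43_2 F16507 D4997 (iv D4997)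
def n4998 : Q := act 8 n3456
theorem D4998 : act 8 n3456 = n4998 := rfl
theorem F23290 : act 1 n4998 = n3464 := d15_1 D4998 (iv D3464) (iv F16503)
theorem F23291 : act 2 n4998 = n4998 := d22_1 D4998 (iv D4998) F16504
theorem F23292 : act 4 n4998 = n4998 := d33_1 D4998 (iv D4998) F16505
theorem F23293 : act 5 n4998 = n3458 := d37_1 D4998 (iv D3458) D3456
theorem F23294 : act 6 n4998 = n4998 := d40_1 D4998 (iv D4998) F16506
def n4999 : Q := act 8 n3457
theorem D4999 : act 8 n3457 = n4999 := rfl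
theorem F23295 : act 1 n4999 = n3465 := d15_1 D4999 (iv D3465) (iv F16508)
theorem F23296 : act 2 n4999 = n4999 := d22_1 D4999 (iv D4999) F16509
theorem F23297 : act 4 n4999 = n3461 := d33_1 D4999 (iv D3461) (iv F16510)
theorem F23298 : act 6 n4999 = n4999 := d40_1 D4999 (iv D4999) F16511
theorem F23299 : act 7 n4999 = n3458 := d42_1 D4999 (iv D3458) D3457
def n5000 : Q := act 3 n3458
theorem D5000 : act 3 n3458 = n5000 := rfl
theorem F23300 : act 1 n5000 = n3466 := d10_1 D5000 (iv D3466) (iv F16513)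
theorem F23301 : act 6 n5000 = n3459 := d26_2 (iv F16516) D5000 (iv D3459)
def n5001 : Q := act 9 n3458
theorem D5001 : act 9 n3458 = n5001 := rfl
theorem F23302 : act 1 n5001 = n3467 := d16_1 D5001 (iv D3467) (iv F16513)
theorem F23303 : act 2 n5001 = n5001 := d23_1 D5001 (iv D5001) F16514
theorem F23304 : act 4 n5001 = n3462 := d34_1 D5001 (iv D3462) (iv F16515)
theorem F23305 : act 6 n5001 = n3460 := d41_1 D5001 (iv D3460) (iv F16516)
theorem F23306 : act 8 n5001 = n5001 := d44_1 D5001 (iv D5001) (iv D3458) F11731 D3458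
def n5002 : Q := act 2 n3459
theorem D5002 : act 2 n3459 = n5002 := rfl
theorem F23307 : act 3 n5002 = n5002 := d17_2 D3459 D5002 (iv D5002) (iv D3459) F11733
theorem F23308 : act 5 n5002 = n5002 := d19_2 F16518 D5002 (iv D5002)
theorem F23309 : act 7 n5002 = n5002 := d21_2 F16519 D5002 (iv D5002)
def n5003 : Q := act 9 n3459
theorem D5003 : act 9 n3459 = n5003 := rfl
theorem F23310 : act 1 n5003 = n3469 := d16_1 D5003 (iv D3469) (iv F16517)
theorem F23311 : act 3 n5003 = n3460 := d29_1 D5003 (iv D3460) D3459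
theorem F23312 : act 5 n5003 = n5003 := d38_1 D5003 (iv D5003) F16518
theorem F23313 : act 7 n5003 = n5003 := d43_1 D5003 (iv D5003) F16519
def n5004 : Q := act 9 n3461
theorem D5004 : act 9 n3461 = n5004 := rfl
theorem F23314 : act 1 n5004 = n3470 := d16_1 D5004 (iv D3470) (iv F16526)
theorem F23315 : act 2 n5004 = n5004 := d23_1 D5004 (iv D5004) F16527
theorem F23316 : act 5 n5004 = n5004 := d38_1 D5004 (iv D5004) F16528
theorem F23317 : act 6 n5004 = n5004 := d41_1 D5004 (iv D5004) F16529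
theorem F23318 : act 7 n5004 = n3462 := d43_1 D5004 (iv D3462) (iv F16530)
theorem F23319 : act 8 n5004 = n5004 := d44_1 D5004 (iv D5004) (iv D3461) F11742 D3461
def n5005 : Q := act 6 n3463
theorem D5005 : act 6 n3463 = n5005 := rfl
theorem F23320 : act 0 n5005 = n5005 := d5_1 D5005 (iv D5005) F16536
theorem F23321 : act 2 n5005 = n3471 := d20_1 D5005 (iv D3471) (iv F16537)
theorem F23322 : act 4 n5005 = n5005 := d31_1 D5005 (iv D5005) F16538
theorem F23323 : act 5 n5005 = n5005 := d35_1 D5005 (iv D5005) F16539 F11760 (iv F16539)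
theorem F23324 : act 7 n5005 = n5005 := d39_2 D3463 D5005 (iv D5005) (iv D3463) F11755
theorem F23325 : act 9 n5005 = n5005 := d41_2 F16540 D5005 (iv D5005)
def n5006 : Q := act 8 n3463
theorem D5006 : act 8 n3463 = n5006 := rfl
theorem F23326 : act 0 n5006 = n5006 := d7_1 D5006 (iv D5006) F16536
theorem F23327 : act 2 n5006 = n3472 := d22_1 D5006 (iv D3472) (iv F16537)
theorem F23328 : act 4 n5006 = n5006 := d33_1 D5006 (iv D5006) F16538
theorem F23329 : act 5 n5006 = n3465 := d37_1 D5006 (iv D3465) (iv F16539)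
theorem F23330 : act 7 n5006 = n3464 := d42_1 D5006 (iv D3464) D3463
def n5007 : Q := act 3 n3464
theorem D5007 : act 3 n3464 = n5007 := rfl
theorem F23331 : act 0 n5007 = n5007 := d2_1 D5007 (iv D5007) F16541
theorem F23332 : act 5 n5007 = n3466 := d25_2 (iv F16544) D5007 (iv D3466)
theorem F23333 : act 6 n5007 = n5007 := d26_2 F16545 D5007 (iv D5007)
def n5008 : Q := act 9 n3464
theorem D5008 : act 9 n3464 = n5008 := rfl
theorem F23334 : act 0 n5008 = n5008 := d8_1 D5008 (iv D5008) F16541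
theorem F23335 : act 2 n5008 = n3474 := d23_1 D5008 (iv D3474) (iv F16542)
theorem F23336 : act 4 n5008 = n5008 := d34_1 D5008 (iv D5008) F16543
theorem F23337 : act 5 n5008 = n3467 := d38_1 D5008 (iv D3467) (iv F16544)
theorem F23338 : act 6 n5008 = n5008 := d41_1 D5008 (iv D5008) F16545
theorem F23339 : act 8 n5008 = n5008 := d44_1 D5008 (iv D5008) (iv D3464) F11756 D3464
def n5009 : Q := act 3 n3465
theorem D5009 : act 3 n3465 = n5009 := rfl
theorem F23340 : act 0 n5009 = n5009 := d2_1 D5009 (iv D5009) F16546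
theorem F23341 : act 6 n5009 = n5009 := d26_2 F16549 D5009 (iv D5009)
theorem F23342 : act 7 n5009 = n3466 := d27_2 (iv F16550) D5009 (iv D3466)
def n5010 : Q := act 9 n3465
theorem D5010 : act 9 n3465 = n5010 := rfl
theorem F23343 : act 0 n5010 = n5010 := d8_1 D5010 (iv D5010) F16546
theorem F23344 : act 2 n5010 = n3476 := d23_1 D5010 (iv D3476) (iv F16547)
theorem F23345 : act 4 n5010 = n3470 := d34_1 D5010 (iv D3470) (iv F16548)
theorem F23346 : act 6 n5010 = n5010 := d41_1 D5010 (iv D5010) F16549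
theorem F23347 : act 7 n5010 = n3467 := d43_1 D5010 (iv D3467) (iv F16550)
theorem F23348 : act 8 n5010 = n5010 := d44_1 D5010 (iv D5010) (iv D3465) F11761 D3465
def n5011 : Q := act 2 n3466
theorem D5011 : act 2 n3466 = n5011 := rfl
theorem F23349 : act 0 n5011 = n5011 := d1_1 D5011 (iv D5011) F16551
theorem F23350 : act 3 n5011 = n3477 := d17_2 D3466 D5011 (iv D3477) (iv D2410) (iv F11763)
theorem F23351 : act 6 n5011 = n3468 := d20_2 (iv F16552) D5011 (iv D3468)
def n5012 : Q := act 9 n3466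
theorem D5012 : act 9 n3466 = n5012 := rfl
theorem F23352 : act 0 n5012 = n5012 := d8_1 D5012 (iv D5012) F16551
theorem F23353 : act 3 n5012 = n3467 := d29_1 D5012 (iv D3467) D3466
theorem F23354 : act 6 n5012 = n3469 := d41_1 D5012 (iv D3469) (iv F16552)
def n5013 : Q := act 1 n3468
theorem D5013 : act 1 n3468 = n5013 := rfl
theorem F23355 : act 3 n5013 = n3479 := d10_2 (iv F16559) D5013 (iv D3479)
theorem F23356 : act 5 n5013 = n5013 := d12_2 F16560 D5013 (iv D5013)
theorem F23357 : act 7 n5013 = n5013 := d14_2 F16561 D5013 (iv D5013)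
def n5014 : Q := act 9 n3468
theorem D5014 : act 9 n3468 = n5014 := rfl
theorem F23358 : act 0 n5014 = n5014 := d8_1 D5014 (iv D5014) F16558
theorem F23359 : act 2 n5014 = n3469 := d23_1 D5014 (iv D3469) D3468
theorem F23360 : act 3 n5014 = n3480 := d29_1 D5014 (iv D3480) (iv F16559)
theorem F23361 : act 5 n5014 = n5014 := d38_1 D5014 (iv D5014) F16560
theorem F23362 : act 7 n5014 = n5014 := d43_1 D5014 (iv D5014) F16561
def n5015 : Q := act 8 n3469
theorem D5015 : act 8 n3469 = n5015 := rfl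
theorem F23363 : act 0 n5015 = n5015 := d7_1 D5015 (iv D5015) F16562
theorem F23364 : act 3 n5015 = n5015 := d28_1 D5015 (iv D5015) F16563 F11774 (iv F16563)
theorem F23365 : act 5 n5015 = n5015 := d37_1 D5015 (iv D5015) F16564
theorem F23366 : act 7 n5015 = n5015 := d42_1 D5015 (iv D5015) F16565
def n5016 : Q := act 8 n3471
theorem D5016 : act 8 n3471 = n5016 := rfl
theorem F23371 : act 6 n5016 = n3472 := d40_1 D5016 (iv D3472) D3471
def n5017 : Q := act 3 n3472
theorem D5017 : act 3 n3472 = n5017 := rfl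
theorem F23375 : act 5 n5017 = n3475 := d25_2 (iv F16582) D5017 (iv D3475)
theorem F23376 : act 7 n5017 = n3473 := d27_2 (iv F16583) D5017 (iv D3473)
def n5018 : Q := act 9 n3472
theorem D5018 : act 9 n3472 = n5018 := rfl
theorem F23382 : act 7 n5018 = n3474 := d43_1 D5018 (iv D3474) (iv F16583)
def n5019 : Q := act 2 n3473
theorem D5019 : act 2 n3473 = n5019 := rfl
theorem F23385 : act 5 n5019 = n3477 := d19_2 (iv F16586) D5019 (iv D3477)
def n5020 : Q := act 4 n3473
theorem D5020 : act 4 n3473 = n5020 := rfl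
def n5021 : Q := act 9 n3473
theorem D5021 : act 9 n3473 = n5021 := rfl
theorem F23396 : act 3 n5021 = n3474 := d29_1 D5021 (iv D3474) D3473
def n5022 : Q := act 2 n3475
theorem D5022 : act 2 n3475 = n5022 := rfl
theorem F23402 : act 7 n5022 = n3477 := d21_2 (iv F16599) D5022 (iv D3477)
def n5024 : Q := act 1 n3477
theorem D5024 : act 1 n3477 = n5024 := rfl
theorem F23410 : act 2 n5024 = n5024 := d9_2 D3477 D5024 (iv D5024) (iv D3477) F11802
theorem F23411 : act 4 n5024 = n5024 := d11_2 F16608 D5024 (iv D5024)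
theorem F23412 : act 6 n5024 = n3479 := d13_2 (iv F16609) D5024 (iv D3479)
theorem F23413 : act 8 n5024 = n5024 := d15_2 F16610 D5024 (iv D5024)
def n5025 : Q := act 9 n3477
theorem D5025 : act 9 n3477 = n5025 := rfl
theorem F23415 : act 2 n5025 = n3478 := d23_1 D5025 (iv D3478) D3477
def n5027 : Q := act 0 n3479
theorem D5027 : act 0 n3479 = n5027 := rfl
theorem F23424 : act 1 n5027 = n5027 := d0_2 D3479 D5027 (iv D5027) (iv D3479) F11811
theorem F23425 : act 2 n5027 = n5027 := d1_2 F16616 D5027 (iv D5027)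
theorem F23426 : act 4 n5027 = n5027 := d3_2 F16617 D5027 (iv D5027)
theorem F23427 : act 5 n5027 = n5027 := d4_2 F16618 D5027 (iv D5027)
theorem F23428 : act 7 n5027 = n5027 := d6_2 F16619 D5027 (iv D5027)
theorem F23429 : act 8 n5027 = n5027 := d7_2 F16620 D5027 (iv D5027)
def n5028 : Q := act 9 n3479
theorem D5028 : act 9 n3479 = n5028 := rfl
theorem F23430 : act 1 n5028 = n3480 := d16_1 D5028 (iv D3480) D3479
theorem F23431 : act 2 n5028 = n5028 := d23_1 D5028 (iv D5028) F16616
theorem F23432 : act 4 n5028 = n5028 := d34_1 D5028 (iv D5028) F16617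
theorem F23433 : act 5 n5028 = n5028 := d38_1 D5028 (iv D5028) F16618
theorem F23434 : act 7 n5028 = n5028 := d43_1 D5028 (iv D5028) F16619
def n5029 : Q := act 8 n3480
theorem D5029 : act 8 n3480 = n5029 := rfl
def n5030 : Q := act 5 n3482
theorem D5030 : act 5 n3482 = n5030 := rfl
theorem F23441 : act 0 n5030 = n3837 := d4_1 D5030 (iv D3837) (iv F16633)
theorem F23442 : act 1 n5030 = n5030 := d12_1 D5030 (iv D5030) F16634
theorem F23443 : act 2 n5030 = n5030 := d19_1 D5030 (iv D5030) F16635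
theorem F23444 : act 3 n5030 = n3483 := d25_1 D5030 (iv D3483) D3482
theorem F23445 : act 6 n5030 = n5030 := d35_2 (iv F16637) D5030 (iv D5030) F16637 F11878
theorem F23446 : act 7 n5030 = n5030 := d36_2 F16638 D5030 (iv D5030)
def n5031 : Q := act 8 n3482
theorem D5031 : act 8 n3482 = n5031 := rfl
theorem F23447 : act 0 n5031 = n3838 := d7_1 D5031 (iv D3838) (iv F16633)
theorem F23448 : act 1 n5031 = n5031 := d15_1 D5031 (iv D5031) F16634
theorem F23449 : act 2 n5031 = n5031 := d22_1 D5031 (iv D5031) F16635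
theorem F23450 : act 3 n5031 = n5031 := d28_1 D5031 (iv D5031) (iv D3482) F11834 D3482
theorem F23451 : act 4 n5031 = n5031 := d33_1 D5031 (iv D5031) F16636
theorem F23452 : act 6 n5031 = n3494 := d40_1 D5031 (iv D3494) (iv F16637)
theorem F23453 : act 7 n5031 = n5031 := d42_1 D5031 (iv D5031) F16638
def n5032 : Q := act 9 n3482
theorem D5032 : act 9 n3482 = n5032 := rfl
theorem F23454 : act 0 n5032 = n3839 := d8_1 D5032 (iv D3839) (iv F16633)
theorem F23455 : act 1 n5032 = n5032 := d16_1 D5032 (iv D5032) F16634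
theorem F23456 : act 2 n5032 = n5032 := d23_1 D5032 (iv D5032) F16635
theorem F23457 : act 3 n5032 = n3484 := d29_1 D5032 (iv D3484) D3482
theorem F23458 : act 4 n5032 = n5032 := d34_1 D5032 (iv D5032) F16636
theorem F23459 : act 6 n5032 = n3495 := d41_1 D5032 (iv D3495) (iv F16637)
theorem F23460 : act 7 n5032 = n5032 := d43_1 D5032 (iv D5032) F16638
def n5033 : Q := act 9 n3483
theorem D5033 : act 9 n3483 = n5033 := rfl
theorem F23461 : act 0 n5033 = n3840 := d8_1 D5033 (iv D3840) (iv F16639)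
theorem F23462 : act 1 n5033 = n5033 := d16_1 D5033 (iv D5033) F16640
theorem F23463 : act 2 n5033 = n3486 := d23_1 D5033 (iv D3486) (iv F16641)
theorem F23464 : act 4 n5033 = n5033 := d34_1 D5033 (iv D5033) F16642
theorem F23465 : act 5 n5033 = n3484 := d38_1 D5033 (iv D3484) D3483
theorem F23466 : act 6 n5033 = n5033 := d41_1 D5033 (iv D5033) F16643
theorem F23467 : act 7 n5033 = n5033 := d43_1 D5033 (iv D5033) F16644
def n5034 : Q := act 8 n3484
theorem D5034 : act 8 n3484 = n5034 := rfl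
theorem F23470 : act 2 n5034 = n3487 := d22_1 D5034 (iv D3487) (iv F16648)
theorem F23471 : act 4 n5034 = n3485 := d33_1 D5034 (iv D3485) (iv F16649)
theorem F23472 : act 6 n5034 = n3496 := d40_1 D5034 (iv D3496) (iv F16650)
def n5036 : Q := act 8 n3486
theorem D5036 : act 8 n3486 = n5036 := rfl
theorem F23482 : act 0 n5036 = n3843 := d7_1 D5036 (iv D3843) (iv F16659)
theorem F23483 : act 4 n5036 = n5036 := d33_1 D5036 (iv D5036) F16661
theorem F23484 : act 5 n5036 = n3487 := d37_1 D5036 (iv D3487) (iv F16662)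
theorem F23485 : act 6 n5036 = n5036 := d40_1 D5036 (iv D5036) F16663
theorem F23486 : act 7 n5036 = n5036 := d42_1 D5036 (iv D5036) F16664
theorem F23487 : act 9 n5036 = n5036 := d44_2 D3486 D5036 (iv D5036) (iv D3486) F11847
def n5037 : Q := act 3 n3487
theorem D5037 : act 3 n3487 = n5037 := rfl
theorem F23488 : act 0 n5037 = n3844 := d2_1 D5037 (iv D3844) (iv F16665)
theorem F23489 : act 6 n5037 = n3498 := d26_2 (iv F16667) D5037 (iv D3498)
theorem F23490 : act 7 n5037 = n5037 := d27_2 F16668 D5037 (iv D5037)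
theorem F23491 : act 8 n5037 = n5037 := d28_2 D3487 D5037 (iv D5037) (iv D3487) F11849
theorem F23492 : act 9 n5037 = n5037 := d29_2 F16669 D5037 (iv D5037)
def n5038 : Q := act 2 n3488
theorem D5038 : act 2 n3488 = n5038 := rfl
theorem F23495 : act 6 n5038 = n3499 := d20_2 (iv F16672) D5038 (iv D3499)
theorem F23497 : act 8 n5038 = n3489 := d22_2 (iv F16674) D5038 (iv D3489)
def n5039 : Q := act 4 n3488
theorem D5039 : act 4 n3488 = n5039 := rfl
theorem F23499 : act 0 n5039 = n3846 := d3_1 D5039 (iv D3846) (iv F16670)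
theorem F23500 : act 6 n5039 = n3500 := d31_2 (iv F16672) D5039 (iv D3500)
theorem F23501 : act 7 n5039 = n5039 := d32_2 F16673 D5039 (iv D5039)
theorem F23502 : act 8 n5039 = n3490 := d33_2 (iv F16674) D5039 (iv D3490)
theorem F23503 : act 9 n5039 = n5039 := d34_2 F16675 D5039 (iv D5039)
def n5040 : Q := act 1 n3489
theorem D5040 : act 1 n3489 = n5040 := rfl
theorem F23504 : act 3 n5040 = n5040 := d10_2 F16677 D5040 (iv D5040)
theorem F23505 : act 5 n5040 = n5040 := d12_2 F16678 D5040 (iv D5040)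
theorem F23506 : act 6 n5040 = n3501 := d13_2 (iv F16679) D5040 (iv D3501)
theorem F23507 : act 7 n5040 = n5040 := d14_2 F16680 D5040 (iv D5040)
theorem F23508 : act 9 n5040 = n3491 := d16_2 (iv F16681) D5040 (iv D3491)
def n5041 : Q := act 4 n3489
theorem D5041 : act 4 n3489 = n5041 := rfl
theorem F23509 : act 0 n5041 = n3848 := d3_1 D5041 (iv D3848) (iv F16676)
theorem F23510 : act 2 n5041 = n3490 := d18_1 D5041 (iv D3490) D3489
theorem F23511 : act 6 n5041 = n3502 := d31_2 (iv F16679) D5041 (iv D3502)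
theorem F23512 : act 7 n5041 = n5041 := d32_2 F16680 D5041 (iv D5041)
theorem F23513 : act 9 n5041 = n3492 := d34_2 (iv F16681) D5041 (iv D3492)
def n5042 : Q := act 5 n3490
theorem D5042 : act 5 n3490 = n5042 := rfl
theorem F23514 : act 0 n5042 = n3849 := d4_1 D5042 (iv D3849) (iv F16682)
theorem F23515 : act 3 n5042 = n5042 := d25_1 D5042 (iv D5042) F16683
theorem F23516 : act 4 n5042 = n5042 := d30_1 D5042 (iv D5042) (iv D3490) F11859 D3490
theorem F23517 : act 7 n5042 = n5042 := d36_2 F16685 D5042 (iv D5042)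
theorem F23518 : act 9 n5042 = n3493 := d38_2 (iv F16686) D5042 (iv D3493)
def n5043 : Q := act 0 n3491
theorem D5043 : act 0 n3491 = n5043 := rfl
theorem F23519 : act 1 n5043 = n3850 := d0_2 D3491 D5043 (iv D3850) (iv D2671) (iv F11863)
theorem F23520 : act 3 n5043 = n5043 := d2_2 F16687 D5043 (iv D5043)
theorem F23521 : act 5 n5043 = n5043 := d4_2 F16688 D5043 (iv D5043)
theorem F23522 : act 6 n5043 = n3504 := d5_2 (iv F16689) D5043 (iv D3504)
theorem F23523 : act 7 n5043 = n5043 := d6_2 F16690 D5043 (iv D5043)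
theorem F23524 : act 8 n5043 = n5043 := d7_2 F16691 D5043 (iv D5043)
def n5044 : Q := act 4 n3491
theorem D5044 : act 4 n3491 = n5044 := rfl
theorem F23525 : act 1 n5044 = n3492 := d11_1 D5044 (iv D3492) D3491
theorem F23526 : act 6 n5044 = n3505 := d31_2 (iv F16689) D5044 (iv D3505)
theorem F23527 : act 7 n5044 = n5044 := d32_2 F16690 D5044 (iv D5044)
theorem F23528 : act 8 n5044 = n5044 := d33_2 F16691 D5044 (iv D5044)
def n5045 : Q := act 3 n3492
theorem D5045 : act 3 n3492 = n5045 := rfl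
theorem F23529 : act 0 n5045 = n3852 := d2_1 D5045 (iv D3852) (iv F16692)
theorem F23530 : act 2 n5045 = n5045 := d17_1 D5045 (iv D5045) F16693 F11870 (iv F16693)
theorem F23531 : act 4 n5045 = n5045 := d24_2 D3492 D5045 (iv D5045) (iv D3492) F11864
theorem F23532 : act 6 n5045 = n3506 := d26_2 (iv F16694) D5045 (iv D3506)
theorem F23533 : act 7 n5045 = n5045 := d27_2 F16695 D5045 (iv D5045)
def n5046 : Q := act 5 n3492
theorem D5046 : act 5 n3492 = n5046 := rfl
theorem F23534 : act 0 n5046 = n3853 := d4_1 D5046 (iv D3853) (iv F16692)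
theorem F23535 : act 2 n5046 = n3493 := d19_1 D5046 (iv D3493) (iv F16693)
theorem F23536 : act 4 n5046 = n5046 := d30_1 D5046 (iv D5046) (iv D3492) F11865 D3492
theorem F23537 : act 7 n5046 = n5046 := d36_2 F16695 D5046 (iv D5046)
theorem F23538 : act 8 n5046 = n5046 := d37_2 F16696 D5046 (iv D5046)
def n5047 : Q := act 6 n3493
theorem D5047 : act 6 n3493 = n5047 := rfl
theorem F23539 : act 0 n5047 = n3854 := d5_1 D5047 (iv D3854) (iv F16697)
theorem F23540 : act 3 n5047 = n5047 := d26_1 D5047 (iv D5047) F16698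
theorem F23541 : act 4 n5047 = n5047 := d31_1 D5047 (iv D5047) F16699
theorem F23542 : act 5 n5047 = n3508 := d35_1 D5047 (iv D3508) (iv D2432) (iv F11871) D3493
theorem F23543 : act 8 n5047 = n5047 := d40_2 F16701 D5047 (iv D5047)
def n5048 : Q := act 9 n3494
theorem D5048 : act 9 n3494 = n5048 := rfl
def n5049 : Q := act 8 n3495
theorem D5049 : act 8 n3495 = n5049 := rfl
def n5050 : Q := act 3 n3496
theorem D5050 : act 3 n3496 = n5050 := rfl
def n5052 : Q := act 4 n3497
theorem D5052 : act 4 n3497 = n5052 := rfl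
def n5053 : Q := act 2 n3498
theorem D5053 : act 2 n3498 = n5053 := rfl
def n5054 : Q := act 4 n3498
theorem D5054 : act 4 n3498 = n5054 := rfl
theorem F23578 : act 0 n5054 = n3866 := d3_1 D5054 (iv D3866) (iv F16729)
theorem F23579 : act 3 n5054 = n3500 := d24_1 D5054 (iv D3500) (iv D2427) (iv F11893) D3498
theorem F23580 : act 7 n5054 = n3515 := d32_2 (iv F16731) D5054 (iv D3515)
theorem F23581 : act 8 n5054 = n5054 := d33_2 F16732 D5054 (iv D5054)
theorem F23582 : act 9 n5054 = n5054 := d34_2 F16733 D5054 (iv D5054)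
def n5055 : Q := act 1 n3499
theorem D5055 : act 1 n3499 = n5055 := rfl
theorem F23583 : act 5 n5055 = n3533 := d12_2 (iv F16735) D5055 (iv D3533)
theorem F23584 : act 7 n5055 = n3516 := d14_2 (iv F16736) D5055 (iv D3516)
theorem F23585 : act 8 n5055 = n3501 := d15_2 (iv F16737) D5055 (iv D3501)
def n5056 : Q := act 4 n3499
theorem D5056 : act 4 n3499 = n5056 := rfl
theorem F23588 : act 2 n5056 = n3500 := d18_1 D5056 (iv D3500) D3499
theorem F23589 : act 7 n5056 = n3517 := d32_2 (iv F16736) D5056 (iv D3517)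
theorem F23590 : act 8 n5056 = n3502 := d33_2 (iv F16737) D5056 (iv D3502)
def n5057 : Q := act 5 n3500
theorem D5057 : act 5 n3500 = n5057 := rfl
theorem F23592 : act 0 n5057 = n3869 := d4_1 D5057 (iv D3869) (iv F16739)
theorem F23593 : act 4 n5057 = n3535 := d30_1 D5057 (iv D3535) (iv D2450) (iv F11898) D3500
theorem F23594 : act 7 n5057 = n3518 := d36_2 (iv F16740) D5057 (iv D3518)
theorem F23595 : act 8 n5057 = n3503 := d37_2 (iv F16741) D5057 (iv D3503)
theorem F23596 : act 9 n5057 = n5057 := d38_2 F16742 D5057 (iv D5057)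
def n5058 : Q := act 0 n3501
theorem D5058 : act 0 n3501 = n5058 := rfl
theorem F23599 : act 5 n5058 = n3536 := d4_2 (iv F16744) D5058 (iv D3536)
theorem F23601 : act 9 n5058 = n3504 := d8_2 (iv F16746) D5058 (iv D3504)
def n5059 : Q := act 4 n3501
theorem D5059 : act 4 n3501 = n5059 := rfl
theorem F23602 : act 1 n5059 = n3502 := d11_1 D5059 (iv D3502) D3501
theorem F23603 : act 7 n5059 = n3520 := d32_2 (iv F16745) D5059 (iv D3520)
theorem F23604 : act 9 n5059 = n3505 := d34_2 (iv F16746) D5059 (iv D3505)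
def n5060 : Q := act 3 n3502
theorem D5060 : act 3 n3502 = n5060 := rfl
theorem F23605 : act 0 n5060 = n3872 := d2_1 D5060 (iv D3872) (iv F16747)
theorem F23606 : act 2 n5060 = n5060 := d17_1 D5060 (iv D5060) F16748 F11908 (iv F16748)
theorem F23607 : act 4 n5060 = n5060 := d24_2 D3502 D5060 (iv D5060) (iv D3502) F11903
theorem F23608 : act 7 n5060 = n3521 := d27_2 (iv F16749) D5060 (iv D3521)
theorem F23609 : act 9 n5060 = n3506 := d29_2 (iv F16750) D5060 (iv D3506)
def n5061 : Q := act 5 n3502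
theorem D5061 : act 5 n3502 = n5061 := rfl
theorem F23610 : act 0 n5061 = n3873 := d4_1 D5061 (iv D3873) (iv F16747)
theorem F23611 : act 2 n5061 = n3503 := d19_1 D5061 (iv D3503) (iv F16748)
theorem F23612 : act 4 n5061 = n3539 := d30_1 D5061 (iv D3539) (iv D2452) (iv F11904) D3502
theorem F23613 : act 7 n5061 = n3522 := d36_2 (iv F16749) D5061 (iv D3522)
theorem F23614 : act 9 n5061 = n3507 := d38_2 (iv F16750) D5061 (iv D3507)
def n5062 : Q := act 6 n3503
theorem D5062 : act 6 n3503 = n5062 := rfl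
theorem F23615 : act 0 n5062 = n3874 := d5_1 D5062 (iv D3874) (iv F16751)
theorem F23616 : act 3 n5062 = n5062 := d26_1 D5062 (iv D5062) F16752
theorem F23617 : act 4 n5062 = n3540 := d31_1 D5062 (iv D3540) (iv F16753)
theorem F23618 : act 9 n5062 = n3508 := d41_2 (iv F16755) D5062 (iv D3508)
def n5063 : Q := act 4 n3504
theorem D5063 : act 4 n3504 = n5063 := rfl
theorem F23619 : act 0 n5063 = n3505 := d3_1 D5063 (iv D3505) D3504
theorem F23621 : act 7 n5063 = n3524 := d32_2 (iv F16759) D5063 (iv D3524)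
theorem F23622 : act 8 n5063 = n5063 := d33_2 F16760 D5063 (iv D5063)
def n5064 : Q := act 3 n3505
theorem D5064 : act 3 n3505 = n5064 := rfl
theorem F23623 : act 1 n5064 = n3506 := d10_1 D5064 (iv D3506) (iv F16761)
theorem F23624 : act 4 n5064 = n5064 := d24_2 D3505 D5064 (iv D5064) (iv D3505) F11911
theorem F23625 : act 7 n5064 = n3525 := d27_2 (iv F16762) D5064 (iv D3525)
def n5065 : Q := act 5 n3505
theorem D5065 : act 5 n3505 = n5065 := rfl
theorem F23626 : act 1 n5065 = n3507 := d12_1 D5065 (iv D3507) (iv F16761)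
theorem F23627 : act 4 n5065 = n3543 := d30_1 D5065 (iv D3543) (iv D2455) (iv F11912) D3505
theorem F23628 : act 7 n5065 = n3526 := d36_2 (iv F16762) D5065 (iv D3526)
theorem F23629 : act 8 n5065 = n5065 := d37_2 F16763 D5065 (iv D5065)
def n5066 : Q := act 5 n3506
theorem D5066 : act 5 n3506 = n5066 := rfl
theorem F23630 : act 0 n5066 = n3878 := d4_1 D5066 (iv D3878) (iv F16764)
theorem F23631 : act 2 n5066 = n5066 := d19_1 D5066 (iv D5066) F16765
theorem F23632 : act 3 n5066 = n3507 := d25_1 D5066 (iv D3507) D3506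
theorem F23633 : act 7 n5066 = n3527 := d36_2 (iv F16767) D5066 (iv D3527)
def n5067 : Q := act 8 n3506
theorem D5067 : act 8 n3506 = n5067 := rfl
theorem F23634 : act 0 n5067 = n3879 := d7_1 D5067 (iv D3879) (iv F16764)
theorem F23635 : act 2 n5067 = n5067 := d22_1 D5067 (iv D5067) F16765
theorem F23636 : act 3 n5067 = n5067 := d28_1 D5067 (iv D5067) (iv D3506) F11918 D3506
theorem F23637 : act 4 n5067 = n5067 := d33_1 D5067 (iv D5067) F16766
theorem F23638 : act 7 n5067 = n3528 := d42_1 D5067 (iv D3528) (iv F16767)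
def n5068 : Q := act 6 n3507
theorem D5068 : act 6 n3507 = n5068 := rfl
theorem F23639 : act 0 n5068 = n3880 := d5_1 D5068 (iv D3880) (iv F16768)
theorem F23640 : act 2 n5068 = n3508 := d20_1 D5068 (iv D3508) (iv F16769)
theorem F23641 : act 4 n5068 = n3546 := d31_1 D5068 (iv D3546) (iv F16770)
theorem F23642 : act 8 n5068 = n5068 := d40_2 F16772 D5068 (iv D5068)
def n5069 : Q := act 7 n3508
theorem D5069 : act 7 n3508 = n5069 := rfl
theorem F23643 : act 0 n5069 = n3881 := d6_1 D5069 (iv D3881) (iv F16773)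
theorem F23644 : act 3 n5069 = n5069 := d27_1 D5069 (iv D5069) F16774
theorem F23645 : act 4 n5069 = n3547 := d32_1 D5069 (iv D3547) (iv F16775)
theorem F23646 : act 6 n5069 = n3530 := d39_1 D5069 (iv D3530) (iv D2447) (iv F11922) D3508
theorem F23647 : act 8 n5069 = n5069 := d42_2 F16776 D5069 (iv D5069)
def n5070 : Q := act 8 n3509
theorem D5070 : act 8 n3509 = n5070 := rfl
theorem F23654 : act 9 n5070 = n3510 := d44_2 D3509 D5070 (iv D3510) (iv D2434) D2433
def n5071 : Q := act 3 n3510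
theorem D5071 : act 3 n3510 = n5071 := rfl
theorem F23659 : act 8 n5071 = n3511 := d28_2 D3510 D5071 (iv D3511) (iv D2435) (iv F11934)
def n5073 : Q := act 4 n3511
theorem D5073 : act 4 n3511 = n5073 := rfl
theorem F23667 : act 3 n5073 = n3513 := d24_1 D5073 (iv D3513) (iv D2436) (iv F11941) D3511
def n5076 : Q := act 5 n3513
theorem D5076 : act 5 n3513 = n5076 := rfl
theorem F23683 : act 4 n5076 = n3550 := d30_1 D5076 (iv D3550) (iv D2460) (iv F11947) D3513
def n5077 : Q := act 1 n3514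
theorem D5077 : act 1 n3514 = n5077 := rfl

end Cfsg.Agent.Helper17.Fi23TC
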