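import Cfsg.Agent.Helper17.Fi23TC.Facts2

set_option autoImplicit false
set_option linter.all false

noncomputable section

namespace Cfsg.Agent.Helper17.Fi23TC

def n5078 : Q := act 4 n3514
theorem D5078 : act 4 n3514 = n5078 := rfl
theorem F23691 : act 2 n5078 = n3515 := d18_1 D5078 (iv D3515) D3514
def n5079 : Q := act 5 n3515
theorem D5079 : act 5 n3515 = n5079 := rfl
theorem F23695 : act 0 n5079 = n3898 := d4_1 D5079 (iv D3898) (iv F16811)
theorem F23696 : act 3 n5079 = n3518 := d25_1 D5079 (iv D3518) (iv F16812)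
theorem F23697 : act 4 n5079 = n5079 := d30_1 D5079 (iv D5079) (iv D3515) F11952 D3515
theorem F23698 : act 8 n5079 = n5079 := d37_2 F16814 D5079 (iv D5079)
theorem F23699 : act 9 n5079 = n5079 := d38_2 F16815 D5079 (iv D5079)
def n5080 : Q := act 0 n3516
theorem D5080 : act 0 n3516 = n5080 := rfl
theorem F23701 : act 5 n5080 = n3551 := d4_2 (iv F16816) D5080 (iv D3551)
theorem F23703 : act 8 n5080 = n3519 := d7_2 (iv F16818) D5080 (iv D3519)
def n5081 : Q := act 4 n3516
theorem D5081 : act 4 n3516 = n5081 := rfl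
theorem F23705 : act 1 n5081 = n3517 := d11_1 D5081 (iv D3517) D3516
theorem F23707 : act 8 n5081 = n3520 := d33_2 (iv F16818) D5081 (iv D3520)
def n5082 : Q := act 3 n3517
theorem D5082 : act 3 n3517 = n5082 := rfl
def n5083 : Q := act 5 n3517
theorem D5083 : act 5 n3517 = n5083 := rfl
theorem F23713 : act 2 n5083 = n3518 := d19_1 D5083 (iv D3518) (iv F16821)
theorem F23714 : act 4 n5083 = n3554 := d30_1 D5083 (iv D3554) (iv D2462) (iv F11957) D3517
theorem F23715 : act 8 n5083 = n3522 := d37_2 (iv F16823) D5083 (iv D3522)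
def n5084 : Q := act 6 n3518
theorem D5084 : act 6 n3518 = n5084 := rfl
theorem F23717 : act 0 n5084 = n3903 := d5_1 D5084 (iv D3903) (iv F16825)
theorem F23718 : act 4 n5084 = n3555 := d31_1 D5084 (iv D3555) (iv F16826)
theorem F23719 : act 5 n5084 = n5084 := d35_1 D5084 (iv D5084) (iv D3518) F11962 D3518
theorem F23720 : act 8 n5084 = n3523 := d40_2 (iv F16827) D5084 (iv D3523)
theorem F23721 : act 9 n5084 = n5084 := d41_2 F16828 D5084 (iv D5084)
def n5085 : Q := act 4 n3519
theorem D5085 : act 4 n3519 = n5085 := rfl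
theorem F23722 : act 0 n5085 = n3520 := d3_1 D5085 (iv D3520) D3519
theorem F23725 : act 9 n5085 = n3524 := d34_2 (iv F16833) D5085 (iv D3524)
def n5086 : Q := act 3 n3520
theorem D5086 : act 3 n3520 = n5086 := rfl
theorem F23726 : act 1 n5086 = n3521 := d10_1 D5086 (iv D3521) (iv F16834)
theorem F23727 : act 4 n5086 = n5086 := d24_2 D3520 D5086 (iv D5086) (iv D3520) F11965
theorem F23728 : act 6 n5086 = n5086 := d26_2 F16835 D5086 (iv D5086)
theorem F23729 : act 9 n5086 = n3525 := d29_2 (iv F16836) D5086 (iv D3525)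
def n5087 : Q := act 5 n3520
theorem D5087 : act 5 n3520 = n5087 := rfl
theorem F23730 : act 1 n5087 = n3522 := d12_1 D5087 (iv D3522) (iv F16834)
theorem F23731 : act 4 n5087 = n3558 := d30_1 D5087 (iv D3558) (iv D2465) (iv F11966) D3520
theorem F23732 : act 9 n5087 = n3526 := d38_2 (iv F16836) D5087 (iv D3526)
def n5088 : Q := act 5 n3521
theorem D5088 : act 5 n3521 = n5088 := rfl
theorem F23733 : act 0 n5088 = n3907 := d4_1 D5088 (iv D3907) (iv F16837)
theorem F23734 : act 2 n5088 = n5088 := d19_1 D5088 (iv D5088) F16838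
theorem F23735 : act 3 n5088 = n3522 := d25_1 D5088 (iv D3522) D3521
theorem F23736 : act 9 n5088 = n3527 := d38_2 (iv F16841) D5088 (iv D3527)
def n5089 : Q := act 8 n3521
theorem D5089 : act 8 n3521 = n5089 := rfl
def n5090 : Q := act 6 n3522
theorem D5090 : act 6 n3522 = n5090 := rfl
theorem F23741 : act 0 n5090 = n3909 := d5_1 D5090 (iv D3909) (iv F16842)
theorem F23742 : act 2 n5090 = n3523 := d20_1 D5090 (iv D3523) (iv F16843)
theorem F23743 : act 4 n5090 = n3561 := d31_1 D5090 (iv D3561) (iv F16844)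
theorem F23744 : act 5 n5090 = n5090 := d35_1 D5090 (iv D5090) (iv D3522) F11971 D3522
theorem F23745 : act 9 n5090 = n3529 := d41_2 (iv F16845) D5090 (iv D3529)
def n5091 : Q := act 7 n3523
theorem D5091 : act 7 n3523 = n5091 := rfl
theorem F23746 : act 0 n5091 = n3910 := d6_1 D5091 (iv D3910) (iv F16846)
theorem F23747 : act 3 n5091 = n5091 := d27_1 D5091 (iv D5091) F16847
theorem F23748 : act 4 n5091 = n3562 := d32_1 D5091 (iv D3562) (iv F16848)
theorem F23749 : act 5 n5091 = n5091 := d36_1 D5091 (iv D5091) F16849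
theorem F23750 : act 9 n5091 = n3530 := d43_2 (iv F16850) D5091 (iv D3530)
def n5092 : Q := act 3 n3524
theorem D5092 : act 3 n3524 = n5092 := rfl
theorem F23751 : act 0 n5092 = n3525 := d2_1 D5092 (iv D3525) (iv F16851)
theorem F23753 : act 4 n5092 = n5092 := d24_2 D3524 D5092 (iv D5092) (iv D3524) F11978
theorem F23754 : act 6 n5092 = n5092 := d26_2 F16853 D5092 (iv D5092)
def n5093 : Q := act 5 n3524
theorem D5093 : act 5 n3524 = n5093 := rfl
theorem F23755 : act 0 n5093 = n3526 := d4_1 D5093 (iv D3526) (iv F16851)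
theorem F23756 : act 1 n5093 = n3912 := d12_1 D5093 (iv D3912) (iv F16852)
theorem F23757 : act 4 n5093 = n3564 := d30_1 D5093 (iv D3564) (iv D2469) (iv F11979) D3524
theorem F23758 : act 8 n5093 = n5093 := d37_2 F16854 D5093 (iv D5093)
def n5094 : Q := act 2 n3525
theorem D5094 : act 2 n3525 = n5094 := rfl
theorem F23759 : act 1 n5094 = n5094 := d9_1 D5094 (iv D5094) F16855 F11986 (iv F16855)
theorem F23760 : act 4 n5094 = n5094 := d18_2 F16856 D5094 (iv D5094)
theorem F23761 : act 6 n5094 = n5094 := d20_2 F16857 D5094 (iv D5094)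
def n5095 : Q := act 5 n3525
theorem D5095 : act 5 n3525 = n5095 := rfl
theorem F23762 : act 1 n5095 = n3527 := d12_1 D5095 (iv D3527) (iv F16855)
theorem F23763 : act 3 n5095 = n3526 := d25_1 D5095 (iv D3526) D3525
def n5096 : Q := act 8 n3525
theorem D5096 : act 8 n3525 = n5096 := rfl
theorem F23764 : act 1 n5096 = n3528 := d15_1 D5096 (iv D3528) (iv F16855)
theorem F23765 : act 3 n5096 = n5096 := d28_1 D5096 (iv D5096) (iv D3525) F11984 D3525
theorem F23766 : act 4 n5096 = n5096 := d33_1 D5096 (iv D5096) F16856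
theorem F23767 : act 6 n5096 = n5096 := d40_1 D5096 (iv D5096) F16857
def n5097 : Q := act 6 n3526
theorem D5097 : act 6 n3526 = n5097 := rfl
theorem F23768 : act 1 n5097 = n3529 := d13_1 D5097 (iv D3529) (iv F16858)
theorem F23769 : act 4 n5097 = n3568 := d31_1 D5097 (iv D3568) (iv F16859)
theorem F23770 : act 5 n5097 = n5097 := d35_1 D5097 (iv D5097) (iv D3526) F11983 D3526
theorem F23771 : act 8 n5097 = n5097 := d40_2 F16860 D5097 (iv D5097)
def n5098 : Q := act 4 n3527
theorem D5098 : act 4 n3527 = n5098 := rfl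
theorem F23772 : act 0 n5098 = n3917 := d3_1 D5098 (iv D3917) (iv F16861)
theorem F23773 : act 2 n5098 = n5098 := d18_1 D5098 (iv D5098) F16862
theorem F23774 : act 3 n5098 = n3569 := d24_1 D5098 (iv D3569) F12103 (iv F11991) (iv F16863)
theorem F23775 : act 5 n5098 = n5098 := d30_2 D3527 D5098 (iv D5098) (iv D3527) F11987
def n5099 : Q := act 6 n3527
theorem D5099 : act 6 n3527 = n5099 := rfl
theorem F23776 : act 0 n5099 = n3918 := d5_1 D5099 (iv D3918) (iv F16861)
theorem F23777 : act 2 n5099 = n5099 := d20_1 D5099 (iv D5099) F16862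
theorem F23778 : act 3 n5099 = n3529 := d26_1 D5099 (iv D3529) (iv F16863)
theorem F23779 : act 5 n5099 = n5099 := d35_1 D5099 (iv D5099) (iv D3527) F11988 D3527
def n5100 : Q := act 8 n3527
theorem D5100 : act 8 n3527 = n5100 := rfl
theorem F23780 : act 0 n5100 = n3919 := d7_1 D5100 (iv D3919) (iv F16861)
theorem F23781 : act 2 n5100 = n5100 := d22_1 D5100 (iv D5100) F16862
theorem F23782 : act 3 n5100 = n5100 := d28_1 D5100 (iv D5100) F16863 F11992 (iv F16863)
theorem F23783 : act 5 n5100 = n3528 := d37_1 D5100 (iv D3528) D3527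
def n5101 : Q := act 9 n3528
theorem D5101 : act 9 n3528 = n5101 := rfl
def n5102 : Q := act 7 n3529
theorem D5102 : act 7 n3529 = n5102 := rfl
theorem F23789 : act 0 n5102 = n3921 := d6_1 D5102 (iv D3921) (iv F16869)
theorem F23790 : act 2 n5102 = n3530 := d21_1 D5102 (iv D3530) (iv F16870)
theorem F23791 : act 4 n5102 = n3573 := d32_1 D5102 (iv D3573) (iv F16871)
theorem F23792 : act 5 n5102 = n5102 := d36_1 D5102 (iv D5102) F16872
theorem F23793 : act 8 n5102 = n5102 := d42_2 F16873 D5102 (iv D5102)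
def n5103 : Q := act 1 n3531
theorem D5103 : act 1 n3531 = n5103 := rfl
theorem F23795 : act 3 n5103 = n3533 := d10_2 (iv F16880) D5103 (iv D3533)
theorem F23797 : act 7 n5103 = n3548 := d14_2 (iv F16882) D5103 (iv D3548)
def n5104 : Q := act 4 n3531
theorem D5104 : act 4 n3531 = n5104 := rfl
theorem F23801 : act 2 n5104 = n3532 := d18_1 D5104 (iv D3532) D3531
theorem F23803 : act 7 n5104 = n3549 := d32_2 (iv F16882) D5104 (iv D3549)
def n5105 : Q := act 5 n3532
theorem D5105 : act 5 n3532 = n5105 := rfl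
def n5106 : Q := act 0 n3533
theorem D5106 : act 0 n3533 = n5106 := rfl
theorem F23812 : act 1 n5106 = n3927 := d0_2 D3533 D5106 (iv D3927) (iv D2722) (iv F12004)
theorem F23814 : act 7 n5106 = n3551 := d6_2 (iv F16893) D5106 (iv D3551)
theorem F23815 : act 8 n5106 = n3536 := d7_2 (iv F16894) D5106 (iv D3536)
def n5107 : Q := act 4 n3533
theorem D5107 : act 4 n3533 = n5107 := rfl
theorem F23819 : act 7 n5107 = n3552 := d32_2 (iv F16893) D5107 (iv D3552)
theorem F23820 : act 8 n5107 = n3537 := d33_2 (iv F16894) D5107 (iv D3537)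
def n5108 : Q := act 3 n3534
theorem D5108 : act 3 n3534 = n5108 := rfl
theorem F23822 : act 0 n5108 = n3929 := d2_1 D5108 (iv D3929) (iv F16896)
theorem F23825 : act 7 n5108 = n3553 := d27_2 (iv F16899) D5108 (iv D3553)
def n5109 : Q := act 5 n3534
theorem D5109 : act 5 n3534 = n5109 := rfl
theorem F23828 : act 2 n5109 = n3535 := d19_1 D5109 (iv D3535) (iv F16897)
theorem F23829 : act 7 n5109 = n3554 := d36_2 (iv F16899) D5109 (iv D3554)
theorem F23830 : act 8 n5109 = n3539 := d37_2 (iv F16900) D5109 (iv D3539)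
def n5110 : Q := act 6 n3535
theorem D5110 : act 6 n3535 = n5110 := rfl
theorem F23832 : act 0 n5110 = n3931 := d5_1 D5110 (iv D3931) (iv F16902)
theorem F23833 : act 3 n5110 = n5110 := d26_1 D5110 (iv D5110) F16903
theorem F23834 : act 5 n5110 = n5110 := d35_1 D5110 (iv D5110) (iv D3535) F12011 D3535
theorem F23835 : act 8 n5110 = n3540 := d40_2 (iv F16905) D5110 (iv D3540)
theorem F23836 : act 9 n5110 = n5110 := d41_2 F16906 D5110 (iv D5110)
def n5111 : Q := act 4 n3536
theorem D5111 : act 4 n3536 = n5111 := rfl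
theorem F23837 : act 0 n5111 = n3537 := d3_1 D5111 (iv D3537) D3536
theorem F23838 : act 1 n5111 = n3932 := d11_1 D5111 (iv D3932) (iv F16907)
theorem F23840 : act 7 n5111 = n3556 := d32_2 (iv F16910) D5111 (iv D3556)
theorem F23841 : act 9 n5111 = n3541 := d34_2 (iv F16911) D5111 (iv D3541)
def n5112 : Q := act 3 n3537
theorem D5112 : act 3 n3537 = n5112 := rfl
theorem F23842 : act 1 n5112 = n3538 := d10_1 D5112 (iv D3538) (iv F16912)
theorem F23843 : act 4 n5112 = n5112 := d24_2 D3537 D5112 (iv D5112) (iv D3537) F12015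
theorem F23844 : act 6 n5112 = n5112 := d26_2 F16913 D5112 (iv D5112)
theorem F23845 : act 7 n5112 = n3557 := d27_2 (iv F16914) D5112 (iv D3557)
theorem F23846 : act 9 n5112 = n3542 := d29_2 (iv F16915) D5112 (iv D3542)
def n5113 : Q := act 5 n3537
theorem D5113 : act 5 n3537 = n5113 := rfl
theorem F23847 : act 1 n5113 = n3539 := d12_1 D5113 (iv D3539) (iv F16912)
theorem F23848 : act 7 n5113 = n3558 := d36_2 (iv F16914) D5113 (iv D3558)
theorem F23849 : act 9 n5113 = n3543 := d38_2 (iv F16915) D5113 (iv D3543)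
def n5114 : Q := act 5 n3538
theorem D5114 : act 5 n3538 = n5114 := rfl
theorem F23850 : act 0 n5114 = n3935 := d4_1 D5114 (iv D3935) (iv F16916)
theorem F23851 : act 2 n5114 = n3616 := d19_1 D5114 (iv D3616) (iv F16917)
theorem F23852 : act 3 n5114 = n3539 := d25_1 D5114 (iv D3539) D3538
theorem F23853 : act 7 n5114 = n3559 := d36_2 (iv F16920) D5114 (iv D3559)
theorem F23854 : act 9 n5114 = n3544 := d38_2 (iv F16921) D5114 (iv D3544)
def n5115 : Q := act 8 n3538
theorem D5115 : act 8 n3538 = n5115 := rfl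
theorem F23855 : act 0 n5115 = n3936 := d7_1 D5115 (iv D3936) (iv F16916)
theorem F23856 : act 2 n5115 = n3617 := d22_1 D5115 (iv D3617) (iv F16917)
def n5116 : Q := act 6 n3539
theorem D5116 : act 6 n3539 = n5116 := rfl
theorem F23860 : act 0 n5116 = n3937 := d5_1 D5116 (iv D3937) (iv F16922)
theorem F23861 : act 2 n5116 = n3540 := d20_1 D5116 (iv D3540) (iv F16923)
theorem F23862 : act 5 n5116 = n5116 := d35_1 D5116 (iv D5116) (iv D3539) F12021 D3539
theorem F23863 : act 9 n5116 = n3546 := d41_2 (iv F16925) D5116 (iv D3546)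
def n5117 : Q := act 7 n3540
theorem D5117 : act 7 n3540 = n5117 := rfl
theorem F23864 : act 0 n5117 = n3938 := d6_1 D5117 (iv D3938) (iv F16926)
theorem F23865 : act 3 n5117 = n3619 := d27_1 D5117 (iv D3619) (iv F16927)
theorem F23866 : act 5 n5117 = n5117 := d36_1 D5117 (iv D5117) F16928
theorem F23867 : act 6 n5117 = n3562 := d39_1 D5117 (iv D3562) (iv D2468) (iv F12026) D3540
theorem F23868 : act 9 n5117 = n3547 := d43_2 (iv F16929) D5117 (iv D3547)
def n5118 : Q := act 3 n3541
theorem D5118 : act 3 n3541 = n5118 := rfl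
theorem F23869 : act 0 n5118 = n3542 := d2_1 D5118 (iv D3542) (iv F16930)
theorem F23870 : act 1 n5118 = n3939 := d10_1 D5118 (iv D3939) (iv F16931)
theorem F23871 : act 4 n5118 = n5118 := d24_2 D3541 D5118 (iv D5118) (iv D3541) F12029
theorem F23872 : act 6 n5118 = n5118 := d26_2 F16932 D5118 (iv D5118)
theorem F23873 : act 7 n5118 = n3563 := d27_2 (iv F16933) D5118 (iv D3563)
def n5119 : Q := act 5 n3541
theorem D5119 : act 5 n3541 = n5119 := rfl
theorem F23874 : act 0 n5119 = n3543 := d4_1 D5119 (iv D3543) (iv F16930)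
theorem F23876 : act 7 n5119 = n3564 := d36_2 (iv F16933) D5119 (iv D3564)
theorem F23877 : act 8 n5119 = n5119 := d37_2 F16934 D5119 (iv D5119)
def n5120 : Q := act 2 n3542
theorem D5120 : act 2 n3542 = n5120 := rfl
theorem F23878 : act 1 n5120 = n3622 := d9_1 D5120 (iv D3622) F12267 (iv F12038) (iv F16935)
theorem F23879 : act 4 n5120 = n5120 := d18_2 F16936 D5120 (iv D5120)
theorem F23880 : act 6 n5120 = n5120 := d20_2 F16937 D5120 (iv D5120)
theorem F23881 : act 7 n5120 = n3565 := d21_2 (iv F16938) D5120 (iv D3565)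
def n5121 : Q := act 5 n3542
theorem D5121 : act 5 n3542 = n5121 := rfl
theorem F23882 : act 1 n5121 = n3544 := d12_1 D5121 (iv D3544) (iv F16935)
theorem F23883 : act 3 n5121 = n3543 := d25_1 D5121 (iv D3543) D3542
theorem F23884 : act 7 n5121 = n3566 := d36_2 (iv F16938) D5121 (iv D3566)
def n5122 : Q := act 8 n3542
theorem D5122 : act 8 n3542 = n5122 := rfl
theorem F23885 : act 1 n5122 = n3545 := d15_1 D5122 (iv D3545) (iv F16935)
theorem F23886 : act 3 n5122 = n5122 := d28_1 D5122 (iv D5122) (iv D3542) F12036 D3542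
theorem F23887 : act 4 n5122 = n5122 := d33_1 D5122 (iv D5122) F16936
theorem F23888 : act 6 n5122 = n5122 := d40_1 D5122 (iv D5122) F16937
theorem F23889 : act 7 n5122 = n3567 := d42_1 D5122 (iv D3567) (iv F16938)
def n5123 : Q := act 6 n3543
theorem D5123 : act 6 n3543 = n5123 := rfl
theorem F23890 : act 1 n5123 = n3546 := d13_1 D5123 (iv D3546) (iv F16939)
theorem F23891 : act 5 n5123 = n5123 := d35_1 D5123 (iv D5123) (iv D3543) F12034 D3543
theorem F23892 : act 8 n5123 = n5123 := d40_2 F16941 D5123 (iv D5123)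
def n5124 : Q := act 4 n3544
theorem D5124 : act 4 n3544 = n5124 := rfl
theorem F23893 : act 0 n5124 = n3945 := d3_1 D5124 (iv D3945) (iv F16942)
theorem F23894 : act 2 n5124 = n3626 := d18_1 D5124 (iv D3626) (iv F16943)
theorem F23895 : act 5 n5124 = n5124 := d30_2 D3544 D5124 (iv D5124) (iv D3544) F12039
theorem F23896 : act 7 n5124 = n3569 := d32_2 (iv F16945) D5124 (iv D3569)
def n5125 : Q := act 6 n3544
theorem D5125 : act 6 n3544 = n5125 := rfl
theorem F23897 : act 0 n5125 = n3946 := d5_1 D5125 (iv D3946) (iv F16942)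
theorem F23898 : act 2 n5125 = n3627 := d20_1 D5125 (iv D3627) (iv F16943)
theorem F23899 : act 3 n5125 = n3546 := d26_1 D5125 (iv D3546) (iv F16944)
theorem F23900 : act 5 n5125 = n5125 := d35_1 D5125 (iv D5125) (iv D3544) F12040 D3544
def n5126 : Q := act 8 n3544
theorem D5126 : act 8 n3544 = n5126 := rfl
theorem F23901 : act 0 n5126 = n3947 := d7_1 D5126 (iv D3947) (iv F16942)
theorem F23902 : act 2 n5126 = n3628 := d22_1 D5126 (iv D3628) (iv F16943)
theorem F23903 : act 3 n5126 = n5126 := d28_1 D5126 (iv D5126) F16944 F12045 (iv F16944)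
theorem F23904 : act 5 n5126 = n3545 := d37_1 D5126 (iv D3545) D3544
theorem F23905 : act 7 n5126 = n3571 := d42_1 D5126 (iv D3571) (iv F16945)
def n5127 : Q := act 9 n3545
theorem D5127 : act 9 n3545 = n5127 := rfl
theorem F23907 : act 2 n5127 = n3629 := d23_1 D5127 (iv D3629) (iv F16947)
theorem F23908 : act 3 n5127 = n5127 := d29_1 D5127 (iv D5127) F16948
theorem F23909 : act 4 n5127 = n5127 := d34_1 D5127 (iv D5127) F16949
theorem F23910 : act 6 n5127 = n5127 := d41_1 D5127 (iv D5127) F16950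
theorem F23911 : act 7 n5127 = n3572 := d43_1 D5127 (iv D3572) (iv F16951)
def n5128 : Q := act 7 n3546
theorem D5128 : act 7 n3546 = n5128 := rfl
theorem F23912 : act 0 n5128 = n3949 := d6_1 D5128 (iv D3949) (iv F16952)
theorem F23913 : act 2 n5128 = n3547 := d21_1 D5128 (iv D3547) (iv F16953)
theorem F23914 : act 5 n5128 = n5128 := d36_1 D5128 (iv D5128) F16954
theorem F23915 : act 6 n5128 = n3573 := d39_1 D5128 (iv D3573) (iv D2474) (iv F12044) D3546
theorem F23916 : act 8 n5128 = n5128 := d42_2 F16955 D5128 (iv D5128)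
def n5129 : Q := act 0 n3548
theorem D5129 : act 0 n3548 = n5129 := rfl
theorem F23919 : act 3 n5129 = n3551 := d2_2 (iv F16962) D5129 (iv D3551)
theorem F23920 : act 6 n5129 = n3574 := d5_2 (iv F16963) D5129 (iv D3574)
def n5130 : Q := act 4 n3548
theorem D5130 : act 4 n3548 = n5130 := rfl
theorem F23925 : act 6 n5130 = n3575 := d31_2 (iv F16963) D5130 (iv D3575)
def n5131 : Q := act 3 n3549
theorem D5131 : act 3 n3549 = n5131 := rfl
theorem F23931 : act 6 n5131 = n3576 := d26_2 (iv F16968) D5131 (iv D3576)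
def n5132 : Q := act 5 n3549
theorem D5132 : act 5 n3549 = n5132 := rfl
theorem F23934 : act 2 n5132 = n3550 := d19_1 D5132 (iv D3550) (iv F16967)
def n5134 : Q := act 4 n3551
theorem D5134 : act 4 n3551 = n5134 := rfl
theorem F23943 : act 0 n5134 = n3552 := d3_1 D5134 (iv D3552) D3551
theorem F23944 : act 1 n5134 = n3958 := d11_1 D5134 (iv D3958) (iv F16976)
theorem F23945 : act 6 n5134 = n3579 := d31_2 (iv F16977) D5134 (iv D3579)
theorem F23946 : act 8 n5134 = n3556 := d33_2 (iv F16978) D5134 (iv D3556)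
def n5135 : Q := act 3 n3552
theorem D5135 : act 3 n3552 = n5135 := rfl
theorem F23949 : act 6 n5135 = n3580 := d26_2 (iv F16981) D5135 (iv D3580)
def n5136 : Q := act 5 n3552
theorem D5136 : act 5 n3552 = n5136 := rfl
theorem F23952 : act 8 n5136 = n3558 := d37_2 (iv F16982) D5136 (iv D3558)
def n5137 : Q := act 5 n3553
theorem D5137 : act 5 n3553 = n5137 := rfl
theorem F23956 : act 3 n5137 = n3554 := d25_1 D5137 (iv D3554) D3553
def n5138 : Q := act 8 n3553
theorem D5138 : act 8 n3553 = n5138 := rfl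
theorem F23961 : act 6 n5138 = n3583 := d40_1 D5138 (iv D3583) (iv F16986)
def n5139 : Q := act 6 n3554
theorem D5139 : act 6 n3554 = n5139 := rfl
theorem F23963 : act 2 n5139 = n3555 := d20_1 D5139 (iv D3555) (iv F16989)
theorem F23964 : act 5 n5139 = n3584 := d35_1 D5139 (iv D3584) (iv D2482) (iv F12066) D3554
theorem F23965 : act 8 n5139 = n3561 := d40_2 (iv F16990) D5139 (iv D3561)
def n5140 : Q := act 7 n3555
theorem D5140 : act 7 n3555 = n5140 := rfl
theorem F23967 : act 0 n5140 = n3964 := d6_1 D5140 (iv D3964) (iv F16992)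
theorem F23968 : act 3 n5140 = n5140 := d27_1 D5140 (iv D5140) F16993
theorem F23969 : act 5 n5140 = n3585 := d36_1 D5140 (iv D3585) (iv F16994)
theorem F23970 : act 8 n5140 = n3562 := d42_2 (iv F16995) D5140 (iv D3562)
theorem F23971 : act 9 n5140 = n5140 := d43_2 F16996 D5140 (iv D5140)
def n5141 : Q := act 3 n3556
theorem D5141 : act 3 n3556 = n5141 := rfl
theorem F23972 : act 0 n5141 = n3557 := d2_1 D5141 (iv D3557) (iv F16997)
theorem F23973 : act 1 n5141 = n3965 := d10_1 D5141 (iv D3965) (iv F16998)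
theorem F23975 : act 6 n5141 = n3586 := d26_2 (iv F16999) D5141 (iv D3586)
theorem F23976 : act 9 n5141 = n3563 := d29_2 (iv F17000) D5141 (iv D3563)
def n5142 : Q := act 5 n3556
theorem D5142 : act 5 n3556 = n5142 := rfl
theorem F23977 : act 0 n5142 = n3558 := d4_1 D5142 (iv D3558) (iv F16997)
theorem F23979 : act 9 n5142 = n3564 := d38_2 (iv F17000) D5142 (iv D3564)
def n5143 : Q := act 2 n3557
theorem D5143 : act 2 n3557 = n5143 := rfl
theorem F23980 : act 1 n5143 = n3633 := d9_1 D5143 (iv D3633) F12298 (iv F12081) (iv F17001)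
theorem F23981 : act 4 n5143 = n5143 := d18_2 F17002 D5143 (iv D5143)
theorem F23982 : act 6 n5143 = n3588 := d20_2 (iv F17003) D5143 (iv D3588)
theorem F23983 : act 9 n5143 = n3565 := d23_2 (iv F17004) D5143 (iv D3565)
def n5144 : Q := act 5 n3557
theorem D5144 : act 5 n3557 = n5144 := rfl
theorem F23984 : act 1 n5144 = n3559 := d12_1 D5144 (iv D3559) (iv F17001)
theorem F23985 : act 3 n5144 = n3558 := d25_1 D5144 (iv D3558) D3557
theorem F23986 : act 9 n5144 = n3566 := d38_2 (iv F17004) D5144 (iv D3566)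
def n5145 : Q := act 8 n3557
theorem D5145 : act 8 n3557 = n5145 := rfl
theorem F23989 : act 6 n5145 = n3590 := d40_1 D5145 (iv D3590) (iv F17003)
def n5146 : Q := act 6 n3558
theorem D5146 : act 6 n3558 = n5146 := rfl
theorem F23990 : act 1 n5146 = n3561 := d13_1 D5146 (iv D3561) (iv F17005)
theorem F23991 : act 5 n5146 = n3591 := d35_1 D5146 (iv D3591) (iv D2486) (iv F12078) D3558
theorem F23992 : act 9 n5146 = n3568 := d41_2 (iv F17006) D5146 (iv D3568)
def n5147 : Q := act 4 n3559
theorem D5147 : act 4 n3559 = n5147 := rfl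
theorem F23993 : act 0 n5147 = n3971 := d3_1 D5147 (iv D3971) (iv F17007)
theorem F23994 : act 2 n5147 = n3637 := d18_1 D5147 (iv D3637) (iv F17008)
theorem F23995 : act 5 n5147 = n5147 := d30_2 D3559 D5147 (iv D5147) (iv D3559) F12082
theorem F23996 : act 9 n5147 = n3569 := d34_2 (iv F17010) D5147 (iv D3569)
def n5148 : Q := act 6 n3559
theorem D5148 : act 6 n3559 = n5148 := rfl
theorem F23997 : act 0 n5148 = n3972 := d5_1 D5148 (iv D3972) (iv F17007)
theorem F23998 : act 2 n5148 = n3638 := d20_1 D5148 (iv D3638) (iv F17008)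
theorem F23999 : act 3 n5148 = n3561 := d26_1 D5148 (iv D3561) (iv F17009)
theorem F24000 : act 5 n5148 = n3593 := d35_1 D5148 (iv D3593) (iv D2487) (iv F12083) D3559
theorem F24001 : act 9 n5148 = n3570 := d41_2 (iv F17010) D5148 (iv D3570)
def n5149 : Q := act 8 n3559
theorem D5149 : act 8 n3559 = n5149 := rfl
theorem F24002 : act 0 n5149 = n3973 := d7_1 D5149 (iv D3973) (iv F17007)
theorem F24003 : act 2 n5149 = n3639 := d22_1 D5149 (iv D3639) (iv F17008)
def n5150 : Q := act 9 n3560
theorem D5150 : act 9 n3560 = n5150 := rfl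
theorem F24005 : act 0 n5150 = n3974 := d8_1 D5150 (iv D3974) (iv F17011)
theorem F24006 : act 2 n5150 = n3640 := d23_1 D5150 (iv D3640) (iv F17012)
def n5151 : Q := act 7 n3561
theorem D5151 : act 7 n3561 = n5151 := rfl
theorem F24010 : act 0 n5151 = n3975 := d6_1 D5151 (iv D3975) (iv F17015)
theorem F24011 : act 2 n5151 = n3562 := d21_1 D5151 (iv D3562) (iv F17016)
theorem F24012 : act 5 n5151 = n3596 := d36_1 D5151 (iv D3596) (iv F17017)
theorem F24013 : act 9 n5151 = n3573 := d43_2 (iv F17018) D5151 (iv D3573)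
def n5152 : Q := act 2 n3563
theorem D5152 : act 2 n3563 = n5152 := rfl
theorem F24014 : act 0 n5152 = n3565 := d1_1 D5152 (iv D3565) (iv F17023)
theorem F24015 : act 4 n5152 = n5152 := d18_2 F17025 D5152 (iv D5152)
theorem F24016 : act 6 n5152 = n3597 := d20_2 (iv F17026) D5152 (iv D3597)
def n5153 : Q := act 5 n3563
theorem D5153 : act 5 n3563 = n5153 := rfl
theorem F24017 : act 0 n5153 = n3566 := d4_1 D5153 (iv D3566) (iv F17023)
theorem F24018 : act 1 n5153 = n3977 := d12_1 D5153 (iv D3977) (iv F17024)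
theorem F24019 : act 3 n5153 = n3564 := d25_1 D5153 (iv D3564) D3563
def n5154 : Q := act 8 n3563
theorem D5154 : act 8 n3563 = n5154 := rfl
theorem F24020 : act 0 n5154 = n3567 := d7_1 D5154 (iv D3567) (iv F17023)
theorem F24022 : act 3 n5154 = n5154 := d28_1 D5154 (iv D5154) (iv D3563) F12095 D3563
theorem F24023 : act 4 n5154 = n5154 := d33_1 D5154 (iv D5154) F17025
theorem F24024 : act 6 n5154 = n3599 := d40_1 D5154 (iv D3599) (iv F17026)
def n5155 : Q := act 6 n3564
theorem D5155 : act 6 n3564 = n5155 := rfl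
theorem F24025 : act 0 n5155 = n3568 := d5_1 D5155 (iv D3568) (iv F17027)
theorem F24026 : act 1 n5155 = n3979 := d13_1 D5155 (iv D3979) (iv F17028)
theorem F24027 : act 5 n5155 = n3600 := d35_1 D5155 (iv D3600) (iv D2492) (iv F12094) D3564
theorem F24028 : act 8 n5155 = n5155 := d40_2 F17029 D5155 (iv D5155)
def n5156 : Q := act 5 n3565
theorem D5156 : act 5 n3565 = n5156 := rfl
theorem F24029 : act 1 n5156 = n3646 := d12_1 D5156 (iv D3646) (iv F17030)
theorem F24030 : act 2 n5156 = n3566 := d19_1 D5156 (iv D3566) D3565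
def n5157 : Q := act 8 n3565
theorem D5157 : act 8 n3565 = n5157 := rfl
theorem F24031 : act 1 n5157 = n3647 := d15_1 D5157 (iv D3647) (iv F17030)
theorem F24032 : act 2 n5157 = n3567 := d22_1 D5157 (iv D3567) D3565
theorem F24033 : act 4 n5157 = n5157 := d33_1 D5157 (iv D5157) F17031
theorem F24034 : act 6 n5157 = n3602 := d40_1 D5157 (iv D3602) (iv F17032)
def n5158 : Q := act 4 n3566
theorem D5158 : act 4 n3566 = n5158 := rfl
theorem F24035 : act 1 n5158 = n3569 := d11_1 D5158 (iv D3569) (iv F17033)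
theorem F24036 : act 5 n5158 = n5158 := d30_2 D3566 D5158 (iv D5158) (iv D3566) F12097
def n5159 : Q := act 6 n3566
theorem D5159 : act 6 n3566 = n5159 := rfl
theorem F24037 : act 1 n5159 = n3570 := d13_1 D5159 (iv D3570) (iv F17033)
theorem F24038 : act 3 n5159 = n3568 := d26_1 D5159 (iv D3568) (iv F17034)
theorem F24039 : act 5 n5159 = n3604 := d35_1 D5159 (iv D3604) (iv D2494) (iv F12098) D3566
def n5160 : Q := act 8 n3566
theorem D5160 : act 8 n3566 = n5160 := rfl
theorem F24040 : act 1 n5160 = n3571 := d15_1 D5160 (iv D3571) (iv F17033)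
theorem F24041 : act 3 n5160 = n5160 := d28_1 D5160 (iv D5160) F17034 F12100 (iv F17034)
theorem F24042 : act 5 n5160 = n3567 := d37_1 D5160 (iv D3567) D3566
def n5161 : Q := act 9 n3567
theorem D5161 : act 9 n3567 = n5161 := rfl
theorem F24043 : act 1 n5161 = n3572 := d16_1 D5161 (iv D3572) (iv F17035)
theorem F24044 : act 3 n5161 = n5161 := d29_1 D5161 (iv D5161) F17036
theorem F24045 : act 4 n5161 = n5161 := d34_1 D5161 (iv D5161) F17037
theorem F24046 : act 6 n5161 = n3606 := d41_1 D5161 (iv D3606) (iv F17038)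
def n5162 : Q := act 7 n3568
theorem D5162 : act 7 n3568 = n5162 := rfl
theorem F24047 : act 1 n5162 = n3573 := d14_1 D5162 (iv D3573) (iv F17039)
theorem F24048 : act 5 n5162 = n3607 := d36_1 D5162 (iv D3607) (iv F17040)
theorem F24049 : act 8 n5162 = n5162 := d42_2 F17041 D5162 (iv D5162)
def n5163 : Q := act 6 n3569
theorem D5163 : act 6 n3569 = n5163 := rfl
theorem F24050 : act 0 n5163 = n3987 := d5_1 D5163 (iv D3987) (iv F17042)
theorem F24051 : act 2 n5163 = n3653 := d20_1 D5163 (iv D3653) (iv F17043)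
theorem F24052 : act 4 n5163 = n3570 := d31_1 D5163 (iv D3570) D3569
def n5164 : Q := act 8 n3569
theorem D5164 : act 8 n3569 = n5164 := rfl
theorem F24053 : act 0 n5164 = n3988 := d7_1 D5164 (iv D3988) (iv F17042)
theorem F24054 : act 2 n5164 = n3654 := d22_1 D5164 (iv D3654) (iv F17043)
theorem F24055 : act 4 n5164 = n3571 := d33_1 D5164 (iv D3571) D3569
theorem F24056 : act 5 n5164 = n5164 := d37_1 D5164 (iv D5164) F17044
def n5165 : Q := act 7 n3570
theorem D5165 : act 7 n3570 = n5165 := rfl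
theorem F24057 : act 0 n5165 = n3989 := d6_1 D5165 (iv D3989) (iv F17045)
theorem F24058 : act 2 n5165 = n3655 := d21_1 D5165 (iv D3655) (iv F17046)
theorem F24059 : act 3 n5165 = n3573 := d27_1 D5165 (iv D3573) (iv F17047)
theorem F24060 : act 5 n5165 = n3610 := d36_1 D5165 (iv D3610) (iv F17048)
def n5166 : Q := act 8 n3570
theorem D5166 : act 8 n3570 = n5166 := rfl
theorem F24061 : act 0 n5166 = n3990 := d7_1 D5166 (iv D3990) (iv F17045)
theorem F24062 : act 2 n5166 = n3656 := d22_1 D5166 (iv D3656) (iv F17046)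
theorem F24063 : act 3 n5166 = n5166 := d28_1 D5166 (iv D5166) F17047 F12112 (iv F17047)
theorem F24064 : act 5 n5166 = n3611 := d37_1 D5166 (iv D3611) (iv F17048)
theorem F24065 : act 6 n5166 = n3571 := d40_1 D5166 (iv D3571) D3570
def n5167 : Q := act 9 n3571
theorem D5167 : act 9 n3571 = n5167 := rfl
theorem F24067 : act 2 n5167 = n3657 := d23_1 D5167 (iv D3657) (iv F17050)
theorem F24068 : act 3 n5167 = n5167 := d29_1 D5167 (iv D5167) F17051
theorem F24069 : act 5 n5167 = n3572 := d38_1 D5167 (iv D3572) (iv F17052)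
def n5168 : Q := act 4 n3574
theorem D5168 : act 4 n3574 = n5168 := rfl
def n5169 : Q := act 3 n3575
theorem D5169 : act 3 n3575 = n5169 := rfl
theorem F24077 : act 4 n5169 = n3580 := d24_2 D3575 D5169 (iv D3580) (iv D2480) (iv F12118)
def n5171 : Q := act 5 n3576
theorem D5171 : act 5 n3576 = n5171 := rfl
def n5172 : Q := act 8 n3576
theorem D5172 : act 8 n3576 = n5172 := rfl
def n5175 : Q := act 3 n3579
theorem D5175 : act 3 n3579 = n5175 := rfl
theorem F24108 : act 0 n5175 = n3580 := d2_1 D5175 (iv D3580) (iv F17091)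
theorem F24109 : act 1 n5175 = n4004 := d10_1 D5175 (iv D4004) (iv F17092)
def n5176 : Q := act 5 n3579
theorem D5176 : act 5 n3579 = n5176 := rfl
theorem F24116 : act 8 n5176 = n3587 := d37_2 (iv F17094) D5176 (iv D3587)
def n5177 : Q := act 2 n3580
theorem D5177 : act 2 n3580 = n5177 := rfl
def n5178 : Q := act 5 n3580
theorem D5178 : act 5 n3580 = n5178 := rfl
theorem F24121 : act 1 n5178 = n3582 := d12_1 D5178 (iv D3582) (iv F17096)
theorem F24122 : act 3 n5178 = n3581 := d25_1 D5178 (iv D3581) D3580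
def n5179 : Q := act 8 n3580
theorem D5179 : act 8 n3580 = n5179 := rfl
def n5180 : Q := act 6 n3581
theorem D5180 : act 6 n3581 = n5180 := rfl
theorem F24130 : act 8 n5180 = n3591 := d40_2 (iv F17102) D5180 (iv D3591)
def n5181 : Q := act 4 n3582
theorem D5181 : act 4 n3582 = n5181 := rfl
theorem F24132 : act 0 n5181 = n4010 := d3_1 D5181 (iv D4010) (iv F17104)
def n5182 : Q := act 6 n3582
theorem D5182 : act 6 n3582 = n5182 := rfl
theorem F24137 : act 0 n5182 = n4011 := d5_1 D5182 (iv D4011) (iv F17104)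
theorem F24139 : act 3 n5182 = n3584 := d26_1 D5182 (iv D3584) (iv F17106)
def n5183 : Q := act 8 n3582
theorem D5183 : act 8 n3582 = n5183 := rfl
theorem F24143 : act 3 n5183 = n3594 := d28_1 D5183 (iv D3594) F12173 (iv F12152) (iv F17106)
theorem F24144 : act 5 n5183 = n3583 := d37_1 D5183 (iv D3583) D3582
def n5184 : Q := act 9 n3583
theorem D5184 : act 9 n3583 = n5184 := rfl
def n5185 : Q := act 7 n3584
theorem D5185 : act 7 n3584 = n5185 := rfl
theorem F24152 : act 2 n5185 = n3585 := d21_1 D5185 (iv D3585) (iv F17114)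
theorem F24155 : act 8 n5185 = n3596 := d42_2 (iv F17116) D5185 (iv D3596)
def n5186 : Q := act 2 n3586
theorem D5186 : act 2 n3586 = n5186 := rfl
theorem F24157 : act 0 n5186 = n3588 := d1_1 D5186 (iv D3588) (iv F17124)
theorem F24160 : act 9 n5186 = n3597 := d23_2 (iv F17128) D5186 (iv D3597)
def n5187 : Q := act 5 n3586
theorem D5187 : act 5 n3586 = n5187 := rfl
theorem F24161 : act 0 n5187 = n3589 := d4_1 D5187 (iv D3589) (iv F17124)
theorem F24162 : act 1 n5187 = n4016 := d12_1 D5187 (iv D4016) (iv F17125)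
theorem F24163 : act 3 n5187 = n3587 := d25_1 D5187 (iv D3587) D3586
theorem F24165 : act 9 n5187 = n3598 := d38_2 (iv F17128) D5187 (iv D3598)
def n5188 : Q := act 8 n3586
theorem D5188 : act 8 n3586 = n5188 := rfl
def n5189 : Q := act 6 n3587
theorem D5189 : act 6 n3587 = n5189 := rfl
theorem F24170 : act 0 n5189 = n3591 := d5_1 D5189 (iv D3591) (iv F17129)
theorem F24173 : act 9 n5189 = n3600 := d41_2 (iv F17133) D5189 (iv D3600)
def n5190 : Q := act 5 n3588
theorem D5190 : act 5 n3588 = n5190 := rfl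
theorem F24174 : act 1 n5190 = n3662 := d12_1 D5190 (iv D3662) (iv F17134)
theorem F24175 : act 2 n5190 = n3589 := d19_1 D5190 (iv D3589) D3588
theorem F24176 : act 7 n5190 = n5190 := d36_2 F17136 D5190 (iv D5190)
theorem F24177 : act 9 n5190 = n3601 := d38_2 (iv F17137) D5190 (iv D3601)
def n5191 : Q := act 8 n3588
theorem D5191 : act 8 n3588 = n5191 := rfl
theorem F24178 : act 1 n5191 = n3663 := d15_1 D5191 (iv D3663) (iv F17134)
def n5192 : Q := act 4 n3589
theorem D5192 : act 4 n3589 = n5192 := rfl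
theorem F24182 : act 1 n5192 = n3592 := d11_1 D5192 (iv D3592) (iv F17138)
theorem F24183 : act 3 n5192 = n5192 := d24_1 D5192 (iv D5192) F17139 F12168 (iv F17139)
theorem F24184 : act 5 n5192 = n5192 := d30_2 D3589 D5192 (iv D5192) (iv D3589) F12164
theorem F24185 : act 7 n5192 = n5192 := d32_2 F17140 D5192 (iv D5192)
theorem F24186 : act 9 n5192 = n3603 := d34_2 (iv F17141) D5192 (iv D3603)
def n5193 : Q := act 6 n3589
theorem D5193 : act 6 n3589 = n5193 := rfl
theorem F24187 : act 1 n5193 = n3593 := d13_1 D5193 (iv D3593) (iv F17138)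
theorem F24188 : act 3 n5193 = n3591 := d26_1 D5193 (iv D3591) (iv F17139)
theorem F24189 : act 9 n5193 = n3604 := d41_2 (iv F17141) D5193 (iv D3604)
def n5194 : Q := act 8 n3589
theorem D5194 : act 8 n3589 = n5194 := rfl
theorem F24191 : act 5 n5194 = n3590 := d37_1 D5194 (iv D3590) D3589
def n5195 : Q := act 9 n3590
theorem D5195 : act 9 n3590 = n5195 := rfl
theorem F24196 : act 8 n5195 = n3606 := d44_1 D5195 (iv D3606) (iv D2495) (iv F12166) D3590
def n5196 : Q := act 7 n3591
theorem D5196 : act 7 n3591 = n5196 := rfl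
theorem F24197 : act 1 n5196 = n3596 := d14_1 D5196 (iv D3596) (iv F17145)
theorem F24198 : act 4 n5196 = n5196 := d32_1 D5196 (iv D5196) F17146
theorem F24199 : act 6 n5196 = n5196 := d39_1 D5196 (iv D5196) (iv D3591) F12169 D3591
theorem F24200 : act 9 n5196 = n3607 := d43_2 (iv F17147) D5196 (iv D3607)
def n5197 : Q := act 6 n3592
theorem D5197 : act 6 n3592 = n5197 := rfl
theorem F24201 : act 0 n5197 = n4026 := d5_1 D5197 (iv D4026) (iv F17148)
theorem F24202 : act 2 n5197 = n3669 := d20_1 D5197 (iv D3669) (iv F17149)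
theorem F24203 : act 3 n5197 = n5197 := d26_1 D5197 (iv D5197) F17150
theorem F24204 : act 4 n5197 = n3593 := d31_1 D5197 (iv D3593) D3592
theorem F24205 : act 9 n5197 = n3608 := d41_2 (iv F17153) D5197 (iv D3608)
def n5198 : Q := act 8 n3592
theorem D5198 : act 8 n3592 = n5198 := rfl
theorem F24207 : act 2 n5198 = n3670 := d22_1 D5198 (iv D3670) (iv F17149)
theorem F24208 : act 4 n5198 = n3594 := d33_1 D5198 (iv D3594) D3592
theorem F24209 : act 5 n5198 = n5198 := d37_1 D5198 (iv D5198) F17151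
def n5199 : Q := act 7 n3593
theorem D5199 : act 7 n3593 = n5199 := rfl
theorem F24211 : act 0 n5199 = n4028 := d6_1 D5199 (iv D4028) (iv F17154)
theorem F24212 : act 2 n5199 = n3671 := d21_1 D5199 (iv D3671) (iv F17155)
theorem F24213 : act 3 n5199 = n3596 := d27_1 D5199 (iv D3596) (iv F17156)
theorem F24214 : act 6 n5199 = n5199 := d39_1 D5199 (iv D5199) (iv D3593) F12174 D3593
theorem F24215 : act 9 n5199 = n3610 := d43_2 (iv F17157) D5199 (iv D3610)
def n5200 : Q := act 8 n3593
theorem D5200 : act 8 n3593 = n5200 := rfl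
theorem F24216 : act 0 n5200 = n4029 := d7_1 D5200 (iv D4029) (iv F17154)
theorem F24217 : act 2 n5200 = n3672 := d22_1 D5200 (iv D3672) (iv F17155)
def n5201 : Q := act 9 n3594
theorem D5201 : act 9 n3594 = n5201 := rfl
theorem F24219 : act 0 n5201 = n4030 := d8_1 D5201 (iv D4030) (iv F17158)
theorem F24220 : act 2 n5201 = n3673 := d23_1 D5201 (iv D3673) (iv F17159)
def n5202 : Q := act 1 n3597
theorem D5202 : act 1 n3597 = n5202 := rfl
theorem F24224 : act 0 n5202 = n3674 := d0_1 D5202 (iv D3674) F12411 (iv F12198) (iv F17172)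
theorem F24226 : act 4 n5202 = n5202 := d11_2 F17173 D5202 (iv D5202)
theorem F24227 : act 7 n5202 = n5202 := d14_2 F17174 D5202 (iv D5202)
def n5203 : Q := act 5 n3597
theorem D5203 : act 5 n3597 = n5203 := rfl
theorem F24228 : act 0 n5203 = n3601 := d4_1 D5203 (iv D3601) (iv F17172)
theorem F24229 : act 2 n5203 = n3598 := d19_1 D5203 (iv D3598) D3597
theorem F24230 : act 7 n5203 = n5203 := d36_2 F17174 D5203 (iv D5203)
def n5204 : Q := act 8 n3597
theorem D5204 : act 8 n3597 = n5204 := rfl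
theorem F24231 : act 0 n5204 = n3602 := d7_1 D5204 (iv D3602) (iv F17172)
theorem F24232 : act 2 n5204 = n3599 := d22_1 D5204 (iv D3599) D3597
theorem F24233 : act 4 n5204 = n5204 := d33_1 D5204 (iv D5204) F17173
theorem F24234 : act 7 n5204 = n5204 := d42_1 D5204 (iv D5204) F17174
def n5205 : Q := act 4 n3598
theorem D5205 : act 4 n3598 = n5205 := rfl
theorem F24235 : act 0 n5205 = n3603 := d3_1 D5205 (iv D3603) (iv F17175)
theorem F24236 : act 1 n5205 = n4034 := d11_1 D5205 (iv D4034) (iv F17176)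
theorem F24237 : act 3 n5205 = n5205 := d24_1 D5205 (iv D5205) F17177 F12195 (iv F17177)
theorem F24238 : act 5 n5205 = n5205 := d30_2 D3598 D5205 (iv D5205) (iv D3598) F12191
theorem F24239 : act 7 n5205 = n5205 := d32_2 F17178 D5205 (iv D5205)
def n5206 : Q := act 6 n3598
theorem D5206 : act 6 n3598 = n5206 := rfl
theorem F24240 : act 0 n5206 = n3604 := d5_1 D5206 (iv D3604) (iv F17175)
theorem F24241 : act 1 n5206 = n4035 := d13_1 D5206 (iv D4035) (iv F17176)
theorem F24242 : act 3 n5206 = n3600 := d26_1 D5206 (iv D3600) (iv F17177)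
def n5207 : Q := act 8 n3598
theorem D5207 : act 8 n3598 = n5207 := rfl
theorem F24243 : act 0 n5207 = n3605 := d7_1 D5207 (iv D3605) (iv F17175)
theorem F24245 : act 3 n5207 = n5207 := d28_1 D5207 (iv D5207) F17177 F12197 (iv F17177)
theorem F24246 : act 5 n5207 = n3599 := d37_1 D5207 (iv D3599) D3598
theorem F24247 : act 7 n5207 = n5207 := d42_1 D5207 (iv D5207) F17178
def n5208 : Q := act 9 n3599
theorem D5208 : act 9 n3599 = n5208 := rfl
theorem F24248 : act 0 n5208 = n3606 := d8_1 D5208 (iv D3606) (iv F17179)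
def n5209 : Q := act 7 n3600
theorem D5209 : act 7 n3600 = n5209 := rfl
theorem F24253 : act 0 n5209 = n3607 := d6_1 D5209 (iv D3607) (iv F17184)
theorem F24255 : act 4 n5209 = n5209 := d32_1 D5209 (iv D5209) F17186
theorem F24256 : act 6 n5209 = n5209 := d39_1 D5209 (iv D5209) (iv D3600) F12196 D3600
theorem F24257 : act 8 n5209 = n5209 := d42_2 F17187 D5209 (iv D5209)
def n5210 : Q := act 4 n3601
theorem D5210 : act 4 n3601 = n5210 := rfl
theorem F24258 : act 1 n5210 = n3682 := d11_1 D5210 (iv D3682) (iv F17188)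
theorem F24259 : act 2 n5210 = n3603 := d18_1 D5210 (iv D3603) (iv F17189)
theorem F24260 : act 5 n5210 = n5210 := d30_2 D3601 D5210 (iv D5210) (iv D3601) F12199
theorem F24261 : act 7 n5210 = n5210 := d32_2 F17190 D5210 (iv D5210)
def n5211 : Q := act 6 n3601
theorem D5211 : act 6 n3601 = n5211 := rfl
theorem F24262 : act 1 n5211 = n3683 := d13_1 D5211 (iv D3683) (iv F17188)
theorem F24263 : act 2 n5211 = n3604 := d20_1 D5211 (iv D3604) (iv F17189)
def n5212 : Q := act 8 n3601
theorem D5212 : act 8 n3601 = n5212 := rfl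
theorem F24264 : act 1 n5212 = n3684 := d15_1 D5212 (iv D3684) (iv F17188)
theorem F24265 : act 2 n5212 = n3605 := d22_1 D5212 (iv D3605) (iv F17189)
theorem F24266 : act 5 n5212 = n3602 := d37_1 D5212 (iv D3602) D3601
theorem F24267 : act 7 n5212 = n5212 := d42_1 D5212 (iv D5212) F17190
def n5213 : Q := act 3 n3602
theorem D5213 : act 3 n3602 = n5213 := rfl
theorem F24268 : act 1 n5213 = n3685 := d10_1 D5213 (iv D3685) (iv F17191)
theorem F24269 : act 2 n5213 = n5213 := d17_1 D5213 (iv D5213) F17192 F12205 (iv F17192)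
theorem F24270 : act 7 n5213 = n5213 := d27_2 F17194 D5213 (iv D5213)
def n5214 : Q := act 9 n3602
theorem D5214 : act 9 n3602 = n5214 := rfl
theorem F24272 : act 2 n5214 = n3606 := d23_1 D5214 (iv D3606) (iv F17192)
def n5215 : Q := act 6 n3603
theorem D5215 : act 6 n3603 = n5215 := rfl
theorem F24275 : act 1 n5215 = n3608 := d13_1 D5215 (iv D3608) (iv F17195)
theorem F24276 : act 3 n5215 = n5215 := d26_1 D5215 (iv D5215) F17196
theorem F24277 : act 4 n5215 = n3604 := d31_1 D5215 (iv D3604) D3603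
def n5216 : Q := act 8 n3603
theorem D5216 : act 8 n3603 = n5216 := rfl
theorem F24278 : act 1 n5216 = n3609 := d15_1 D5216 (iv D3609) (iv F17195)
theorem F24279 : act 4 n5216 = n3605 := d33_1 D5216 (iv D3605) D3603
theorem F24280 : act 5 n5216 = n5216 := d37_1 D5216 (iv D5216) F17197
theorem F24281 : act 7 n5216 = n5216 := d42_1 D5216 (iv D5216) F17198
def n5217 : Q := act 7 n3604
theorem D5217 : act 7 n3604 = n5217 := rfl
theorem F24282 : act 1 n5217 = n3610 := d14_1 D5217 (iv D3610) (iv F17199)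
theorem F24283 : act 3 n5217 = n3607 := d27_1 D5217 (iv D3607) (iv F17200)
theorem F24284 : act 6 n5217 = n5217 := d39_1 D5217 (iv D5217) (iv D3604) F12203 D3604
def n5218 : Q := act 8 n3604
theorem D5218 : act 8 n3604 = n5218 := rfl
theorem F24285 : act 1 n5218 = n3611 := d15_1 D5218 (iv D3611) (iv F17199)
theorem F24286 : act 3 n5218 = n5218 := d28_1 D5218 (iv D5218) F17200 F12210 (iv F17200)
theorem F24287 : act 6 n5218 = n3605 := d40_1 D5218 (iv D3605) D3604
def n5219 : Q := act 9 n3605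
theorem D5219 : act 9 n3605 = n5219 := rfl
theorem F24288 : act 1 n5219 = n3612 := d16_1 D5219 (iv D3612) (iv F17201)
theorem F24289 : act 3 n5219 = n5219 := d29_1 D5219 (iv D5219) F17202
theorem F24290 : act 5 n5219 = n3606 := d38_1 D5219 (iv D3606) (iv F17203)
theorem F24291 : act 7 n5219 = n5219 := d43_1 D5219 (iv D5219) F17204
def n5220 : Q := act 5 n3608
theorem D5220 : act 5 n3608 = n5220 := rfl
theorem F24292 : act 0 n5220 = n4049 := d4_1 D5220 (iv D4049) (iv F17213)
theorem F24293 : act 2 n5220 = n3692 := d19_1 D5220 (iv D3692) (iv F17214)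
theorem F24294 : act 3 n5220 = n5220 := d25_1 D5220 (iv D5220) F17215
theorem F24295 : act 6 n5220 = n5220 := d35_2 D3608 D5220 (iv D5220) (iv D3608) F12214
def n5221 : Q := act 7 n3608
theorem D5221 : act 7 n3608 = n5221 := rfl
theorem F24296 : act 0 n5221 = n4050 := d6_1 D5221 (iv D4050) (iv F17213)
theorem F24297 : act 2 n5221 = n3693 := d21_1 D5221 (iv D3693) (iv F17214)
theorem F24298 : act 3 n5221 = n5221 := d27_1 D5221 (iv D5221) F17215
theorem F24299 : act 4 n5221 = n3610 := d32_1 D5221 (iv D3610) (iv F17216)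
theorem F24300 : act 6 n5221 = n5221 := d39_1 D5221 (iv D5221) (iv D3608) F12215 D3608
def n5222 : Q := act 8 n3608
theorem D5222 : act 8 n3608 = n5222 := rfl
theorem F24301 : act 0 n5222 = n4051 := d7_1 D5222 (iv D4051) (iv F17213)
theorem F24302 : act 2 n5222 = n3694 := d22_1 D5222 (iv D3694) (iv F17214)
theorem F24303 : act 4 n5222 = n3611 := d33_1 D5222 (iv D3611) (iv F17216)
theorem F24304 : act 6 n5222 = n3609 := d40_1 D5222 (iv D3609) D3608
def n5223 : Q := act 3 n3609
theorem D5223 : act 3 n3609 = n5223 := rfl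
theorem F24305 : act 0 n5223 = n4052 := d2_1 D5223 (iv D4052) (iv F17217)
theorem F24306 : act 2 n5223 = n5223 := d17_1 D5223 (iv D5223) F17218 F12454 (iv F17218)
theorem F24307 : act 4 n5223 = n5223 := d24_2 (iv F17219) D5223 (iv D5223) F17219 F12221
theorem F24308 : act 5 n5223 = n5223 := d25_2 F17220 D5223 (iv D5223)
theorem F24309 : act 7 n5223 = n5223 := d27_2 F17221 D5223 (iv D5223)
theorem F24310 : act 8 n5223 = n5223 := d28_2 D3609 D5223 (iv D5223) (iv D3609) F12213
def n5224 : Q := act 9 n3609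
theorem D5224 : act 9 n3609 = n5224 := rfl
theorem F24312 : act 2 n5224 = n3695 := d23_1 D5224 (iv D3695) (iv F17218)
theorem F24313 : act 4 n5224 = n3612 := d34_1 D5224 (iv D3612) (iv F17219)
theorem F24314 : act 5 n5224 = n5224 := d38_1 D5224 (iv D5224) F17220
theorem F24315 : act 7 n5224 = n5224 := d43_1 D5224 (iv D5224) F17221
def n5225 : Q := act 8 n3610
theorem D5225 : act 8 n3610 = n5225 := rfl
theorem F24316 : act 0 n5225 = n4054 := d7_1 D5225 (iv D4054) (iv F17222)
theorem F24317 : act 2 n5225 = n3696 := d22_1 D5225 (iv D3696) (iv F17223)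
theorem F24318 : act 3 n5225 = n5225 := d28_1 D5225 (iv D5225) F17224 F12233 (iv F17224)
theorem F24319 : act 6 n5225 = n5225 := d40_1 D5225 (iv D5225) F17225
theorem F24320 : act 7 n5225 = n3611 := d42_1 D5225 (iv D3611) D3610
def n5226 : Q := act 9 n3611
theorem D5226 : act 9 n3611 = n5226 := rfl
theorem F24322 : act 2 n5226 = n3697 := d23_1 D5226 (iv D3697) (iv F17227)
theorem F24323 : act 3 n5226 = n5226 := d29_1 D5226 (iv D5226) F17228
theorem F24324 : act 6 n5226 = n3612 := d41_1 D5226 (iv D3612) (iv F17229)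
def n5227 : Q := act 3 n3613
theorem D5227 : act 3 n3613 = n5227 := rfl
theorem F24325 : act 0 n5227 = n3614 := d2_1 D5227 (iv D3614) (iv F17235)
theorem F24326 : act 1 n5227 = n4056 := d10_1 D5227 (iv D4056) (iv F17236)
theorem F24327 : act 4 n5227 = n5227 := d24_2 D3613 D5227 (iv D5227) (iv D3613) F12235
theorem F24328 : act 6 n5227 = n5227 := d26_2 F17237 D5227 (iv D5227)
theorem F24329 : act 7 n5227 = n3631 := d27_2 (iv F17238) D5227 (iv D3631)
theorem F24330 : act 9 n5227 = n3620 := d29_2 (iv F17240) D5227 (iv D3620)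
def n5228 : Q := act 5 n3613
theorem D5228 : act 5 n3613 = n5228 := rfl
theorem F24331 : act 0 n5228 = n3615 := d4_1 D5228 (iv D3615) (iv F17235)
theorem F24332 : act 1 n5228 = n4057 := d12_1 D5228 (iv D4057) (iv F17236)
theorem F24333 : act 4 n5228 = n5228 := d30_1 D5228 (iv D5228) (iv D3613) F12236 D3613
theorem F24334 : act 7 n5228 = n3632 := d36_2 (iv F17238) D5228 (iv D3632)
theorem F24335 : act 8 n5228 = n5228 := d37_2 F17239 D5228 (iv D5228)
theorem F24336 : act 9 n5228 = n3621 := d38_2 (iv F17240) D5228 (iv D3621)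
def n5229 : Q := act 2 n3614
theorem D5229 : act 2 n3614 = n5229 := rfl
theorem F24337 : act 4 n5229 = n5229 := d18_2 F17242 D5229 (iv D5229)
theorem F24338 : act 6 n5229 = n5229 := d20_2 F17243 D5229 (iv D5229)
theorem F24339 : act 7 n5229 = n3633 := d21_2 (iv F17244) D5229 (iv D3633)
theorem F24340 : act 9 n5229 = n3622 := d23_2 (iv F17245) D5229 (iv D3622)
def n5230 : Q := act 5 n3614
theorem D5230 : act 5 n3614 = n5230 := rfl
theorem F24341 : act 1 n5230 = n3616 := d12_1 D5230 (iv D3616) (iv F17241)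
theorem F24342 : act 3 n5230 = n3615 := d25_1 D5230 (iv D3615) D3614
theorem F24343 : act 7 n5230 = n3634 := d36_2 (iv F17244) D5230 (iv D3634)
theorem F24344 : act 9 n5230 = n3623 := d38_2 (iv F17245) D5230 (iv D3623)
def n5231 : Q := act 8 n3614
theorem D5231 : act 8 n3614 = n5231 := rfl
theorem F24345 : act 1 n5231 = n3617 := d15_1 D5231 (iv D3617) (iv F17241)
theorem F24346 : act 3 n5231 = n5231 := d28_1 D5231 (iv D5231) (iv D3614) F12244 D3614
theorem F24347 : act 4 n5231 = n5231 := d33_1 D5231 (iv D5231) F17242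
theorem F24348 : act 6 n5231 = n5231 := d40_1 D5231 (iv D5231) F17243
theorem F24349 : act 7 n5231 = n3635 := d42_1 D5231 (iv D3635) (iv F17244)
def n5232 : Q := act 6 n3615
theorem D5232 : act 6 n3615 = n5232 := rfl
theorem F24350 : act 1 n5232 = n3618 := d13_1 D5232 (iv D3618) (iv F17246)
theorem F24351 : act 4 n5232 = n5232 := d31_1 D5232 (iv D5232) F17247
theorem F24352 : act 5 n5232 = n5232 := d35_1 D5232 (iv D5232) (iv D3615) F12242 D3615
theorem F24353 : act 8 n5232 = n5232 := d40_2 F17249 D5232 (iv D5232)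
theorem F24354 : act 9 n5232 = n3625 := d41_2 (iv F17250) D5232 (iv D3625)
def n5233 : Q := act 4 n3616
theorem D5233 : act 4 n3616 = n5233 := rfl
theorem F24355 : act 0 n5233 = n4062 := d3_1 D5233 (iv D4062) (iv F17251)
theorem F24356 : act 3 n5233 = n5233 := d24_1 D5233 (iv D5233) F17252 F12253 (iv F17252)
theorem F24357 : act 5 n5233 = n5233 := d30_2 D3616 D5233 (iv D5233) (iv D3616) F12247
theorem F24358 : act 7 n5233 = n3637 := d32_2 (iv F17253) D5233 (iv D3637)
theorem F24359 : act 9 n5233 = n3626 := d34_2 (iv F17254) D5233 (iv D3626)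
def n5234 : Q := act 6 n3616
theorem D5234 : act 6 n3616 = n5234 := rfl
theorem F24360 : act 0 n5234 = n4063 := d5_1 D5234 (iv D4063) (iv F17251)
theorem F24361 : act 3 n5234 = n3618 := d26_1 D5234 (iv D3618) (iv F17252)
theorem F24362 : act 5 n5234 = n5234 := d35_1 D5234 (iv D5234) (iv D3616) F12248 D3616
theorem F24363 : act 9 n5234 = n3627 := d41_2 (iv F17254) D5234 (iv D3627)
def n5235 : Q := act 8 n3616
theorem D5235 : act 8 n3616 = n5235 := rfl
theorem F24364 : act 0 n5235 = n4064 := d7_1 D5235 (iv D4064) (iv F17251)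
theorem F24365 : act 3 n5235 = n5235 := d28_1 D5235 (iv D5235) F17252 F12255 (iv F17252)
theorem F24366 : act 5 n5235 = n3617 := d37_1 D5235 (iv D3617) D3616
theorem F24367 : act 7 n5235 = n3639 := d42_1 D5235 (iv D3639) (iv F17253)
def n5236 : Q := act 9 n3617
theorem D5236 : act 9 n3617 = n5236 := rfl
theorem F24368 : act 0 n5236 = n4065 := d8_1 D5236 (iv D4065) (iv F17255)
theorem F24369 : act 3 n5236 = n5236 := d29_1 D5236 (iv D5236) F17256
theorem F24370 : act 4 n5236 = n5236 := d34_1 D5236 (iv D5236) F17257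
theorem F24371 : act 6 n5236 = n5236 := d41_1 D5236 (iv D5236) F17258
theorem F24372 : act 7 n5236 = n3640 := d43_1 D5236 (iv D3640) (iv F17259)
theorem F24373 : act 8 n5236 = n3629 := d44_1 D5236 (iv D3629) (iv D2511) (iv F12250) D3617
def n5237 : Q := act 7 n3618
theorem D5237 : act 7 n3618 = n5237 := rfl
theorem F24374 : act 0 n5237 = n4066 := d6_1 D5237 (iv D4066) (iv F17260)
theorem F24375 : act 2 n5237 = n3619 := d21_1 D5237 (iv D3619) (iv F17261)
theorem F24376 : act 4 n5237 = n5237 := d32_1 D5237 (iv D5237) F17262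
theorem F24377 : act 5 n5237 = n5237 := d36_1 D5237 (iv D5237) F17263
theorem F24378 : act 6 n5237 = n3641 := d39_1 D5237 (iv D3641) (iv D2519) (iv F12254) D3618
theorem F24379 : act 8 n5237 = n5237 := d42_2 F17264 D5237 (iv D5237)
theorem F24380 : act 9 n5237 = n3630 := d43_2 (iv F17265) D5237 (iv D3630)
def n5238 : Q := act 2 n3620
theorem D5238 : act 2 n3620 = n5238 := rfl
theorem F24381 : act 0 n5238 = n3622 := d1_1 D5238 (iv D3622) (iv F17272)
theorem F24382 : act 4 n5238 = n5238 := d18_2 F17274 D5238 (iv D5238)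
theorem F24383 : act 6 n5238 = n5238 := d20_2 F17275 D5238 (iv D5238)
theorem F24384 : act 7 n5238 = n3642 := d21_2 (iv F17276) D5238 (iv D3642)
def n5239 : Q := act 5 n3620
theorem D5239 : act 5 n3620 = n5239 := rfl
theorem F24385 : act 0 n5239 = n3623 := d4_1 D5239 (iv D3623) (iv F17272)
theorem F24386 : act 1 n5239 = n4068 := d12_1 D5239 (iv D4068) (iv F17273)
theorem F24387 : act 3 n5239 = n3621 := d25_1 D5239 (iv D3621) D3620
theorem F24388 : act 7 n5239 = n3643 := d36_2 (iv F17276) D5239 (iv D3643)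
def n5240 : Q := act 8 n3620
theorem D5240 : act 8 n3620 = n5240 := rfl
theorem F24389 : act 0 n5240 = n3624 := d7_1 D5240 (iv D3624) (iv F17272)
theorem F24391 : act 3 n5240 = n3731 := d28_1 D5240 (iv D3731) (iv D2584) (iv F12266) D3620
def n5241 : Q := act 6 n3621
theorem D5241 : act 6 n3621 = n5241 := rfl
theorem F24395 : act 0 n5241 = n3625 := d5_1 D5241 (iv D3625) (iv F17277)
theorem F24396 : act 1 n5241 = n4070 := d13_1 D5241 (iv D4070) (iv F17278)
theorem F24397 : act 4 n5241 = n5241 := d31_1 D5241 (iv D5241) F17279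
theorem F24398 : act 5 n5241 = n5241 := d35_1 D5241 (iv D5241) (iv D3621) F12264 D3621
theorem F24399 : act 8 n5241 = n3732 := d40_2 (iv F17281) D5241 (iv D3732)
def n5242 : Q := act 5 n3622
theorem D5242 : act 5 n3622 = n5242 := rfl
theorem F24400 : act 2 n5242 = n3623 := d19_1 D5242 (iv D3623) D3622
theorem F24401 : act 7 n5242 = n3646 := d36_2 (iv F17284) D5242 (iv D3646)
def n5243 : Q := act 8 n3622
theorem D5243 : act 8 n3622 = n5243 := rfl
theorem F24402 : act 2 n5243 = n3624 := d22_1 D5243 (iv D3624) D3622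
theorem F24403 : act 4 n5243 = n5243 := d33_1 D5243 (iv D5243) F17282
theorem F24404 : act 6 n5243 = n5243 := d40_1 D5243 (iv D5243) F17283
theorem F24405 : act 7 n5243 = n3647 := d42_1 D5243 (iv D3647) (iv F17284)
def n5244 : Q := act 4 n3623
theorem D5244 : act 4 n3623 = n5244 := rfl
theorem F24406 : act 1 n5244 = n3626 := d11_1 D5244 (iv D3626) (iv F17285)
theorem F24407 : act 3 n5244 = n5244 := d24_1 D5244 (iv D5244) F17286 F12272 (iv F17286)
theorem F24408 : act 5 n5244 = n5244 := d30_2 D3623 D5244 (iv D5244) (iv D3623) F12268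
theorem F24409 : act 7 n5244 = n3648 := d32_2 (iv F17287) D5244 (iv D3648)
def n5245 : Q := act 6 n3623
theorem D5245 : act 6 n3623 = n5245 := rfl
theorem F24410 : act 1 n5245 = n3627 := d13_1 D5245 (iv D3627) (iv F17285)
theorem F24411 : act 3 n5245 = n3625 := d26_1 D5245 (iv D3625) (iv F17286)
theorem F24412 : act 5 n5245 = n5245 := d35_1 D5245 (iv D5245) (iv D3623) F12269 D3623
def n5246 : Q := act 8 n3623
theorem D5246 : act 8 n3623 = n5246 := rfl
theorem F24413 : act 1 n5246 = n3628 := d15_1 D5246 (iv D3628) (iv F17285)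
theorem F24414 : act 3 n5246 = n3737 := d28_1 D5246 (iv D3737) F12609 (iv F12274) (iv F17286)
theorem F24415 : act 5 n5246 = n3624 := d37_1 D5246 (iv D3624) D3623
theorem F24416 : act 7 n5246 = n3650 := d42_1 D5246 (iv D3650) (iv F17287)
def n5247 : Q := act 9 n3624
theorem D5247 : act 9 n3624 = n5247 := rfl
theorem F24417 : act 1 n5247 = n3629 := d16_1 D5247 (iv D3629) (iv F17288)
theorem F24418 : act 3 n5247 = n3738 := d29_1 D5247 (iv D3738) (iv F17289)
theorem F24421 : act 7 n5247 = n3651 := d43_1 D5247 (iv D3651) (iv F17292)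
def n5248 : Q := act 7 n3625
theorem D5248 : act 7 n3625 = n5248 := rfl
theorem F24422 : act 1 n5248 = n3630 := d14_1 D5248 (iv D3630) (iv F17293)
theorem F24423 : act 4 n5248 = n5248 := d32_1 D5248 (iv D5248) F17294
theorem F24424 : act 5 n5248 = n5248 := d36_1 D5248 (iv D5248) F17295
theorem F24425 : act 6 n5248 = n3652 := d39_1 D5248 (iv D3652) (iv D2526) (iv F12273) D3625
theorem F24426 : act 8 n5248 = n3739 := d42_2 (iv F17296) D5248 (iv D3739)
def n5249 : Q := act 6 n3626
theorem D5249 : act 6 n3626 = n5249 := rfl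
theorem F24429 : act 4 n5249 = n3627 := d31_1 D5249 (iv D3627) D3626
def n5250 : Q := act 8 n3626
theorem D5250 : act 8 n3626 = n5250 := rfl
theorem F24431 : act 4 n5250 = n3628 := d33_1 D5250 (iv D3628) D3626
theorem F24433 : act 7 n5250 = n3654 := d42_1 D5250 (iv D3654) (iv F17300)
def n5251 : Q := act 7 n3627
theorem D5251 : act 7 n3627 = n5251 := rfl
theorem F24435 : act 3 n5251 = n3630 := d27_1 D5251 (iv D3630) (iv F17302)
theorem F24437 : act 6 n5251 = n3655 := d39_1 D5251 (iv D3655) (iv D2528) (iv F12277) D3627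
def n5252 : Q := act 8 n3627
theorem D5252 : act 8 n3627 = n5252 := rfl
theorem F24439 : act 3 n5252 = n3743 := d28_1 D5252 (iv D3743) F12628 (iv F12287) (iv F17302)
theorem F24441 : act 6 n5252 = n3628 := d40_1 D5252 (iv D3628) D3627
def n5253 : Q := act 9 n3628
theorem D5253 : act 9 n3628 = n5253 := rfl
theorem F24442 : act 0 n5253 = n4082 := d8_1 D5253 (iv D4082) (iv F17304)
theorem F24443 : act 3 n5253 = n3744 := d29_1 D5253 (iv D3744) (iv F17305)
theorem F24444 : act 5 n5253 = n3629 := d38_1 D5253 (iv D3629) (iv F17306)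
theorem F24445 : act 7 n5253 = n3657 := d43_1 D5253 (iv D3657) (iv F17307)
def n5254 : Q := act 2 n3631
theorem D5254 : act 2 n3631 = n5254 := rfl
theorem F24446 : act 0 n5254 = n3633 := d1_1 D5254 (iv D3633) (iv F17319)
theorem F24447 : act 4 n5254 = n5254 := d18_2 F17321 D5254 (iv D5254)
theorem F24448 : act 6 n5254 = n3658 := d20_2 (iv F17322) D5254 (iv D3658)
theorem F24449 : act 9 n5254 = n3642 := d23_2 (iv F17323) D5254 (iv D3642)
def n5255 : Q := act 5 n3631
theorem D5255 : act 5 n3631 = n5255 := rfl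
theorem F24450 : act 0 n5255 = n3634 := d4_1 D5255 (iv D3634) (iv F17319)
theorem F24451 : act 1 n5255 = n4084 := d12_1 D5255 (iv D4084) (iv F17320)
theorem F24452 : act 3 n5255 = n3632 := d25_1 D5255 (iv D3632) D3631
theorem F24453 : act 9 n5255 = n3643 := d38_2 (iv F17323) D5255 (iv D3643)
def n5256 : Q := act 8 n3631
theorem D5256 : act 8 n3631 = n5256 := rfl
theorem F24458 : act 6 n5256 = n3660 := d40_1 D5256 (iv D3660) (iv F17322)
def n5257 : Q := act 6 n3632
theorem D5257 : act 6 n3632 = n5257 := rfl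
theorem F24459 : act 0 n5257 = n3636 := d5_1 D5257 (iv D3636) (iv F17324)
theorem F24460 : act 1 n5257 = n4086 := d13_1 D5257 (iv D4086) (iv F17325)
theorem F24461 : act 4 n5257 = n5257 := d31_1 D5257 (iv D5257) F17326
theorem F24462 : act 5 n5257 = n3661 := d35_1 D5257 (iv D3661) (iv D2533) (iv F12295) D3632
theorem F24463 : act 8 n5257 = n5257 := d40_2 F17327 D5257 (iv D5257)
theorem F24464 : act 9 n5257 = n3645 := d41_2 (iv F17328) D5257 (iv D3645)
def n5258 : Q := act 5 n3633
theorem D5258 : act 5 n3633 = n5258 := rfl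
theorem F24465 : act 2 n5258 = n3634 := d19_1 D5258 (iv D3634) D3633
theorem F24466 : act 9 n5258 = n3646 := d38_2 (iv F17331) D5258 (iv D3646)
def n5259 : Q := act 8 n3633
theorem D5259 : act 8 n3633 = n5259 := rfl
theorem F24467 : act 2 n5259 = n3635 := d22_1 D5259 (iv D3635) D3633
theorem F24468 : act 4 n5259 = n5259 := d33_1 D5259 (iv D5259) F17329
theorem F24469 : act 6 n5259 = n3663 := d40_1 D5259 (iv D3663) (iv F17330)
def n5260 : Q := act 4 n3634
theorem D5260 : act 4 n3634 = n5260 := rfl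
theorem F24470 : act 1 n5260 = n3637 := d11_1 D5260 (iv D3637) (iv F17332)
theorem F24471 : act 3 n5260 = n5260 := d24_1 D5260 (iv D5260) F17333 F12303 (iv F17333)
theorem F24472 : act 5 n5260 = n5260 := d30_2 D3634 D5260 (iv D5260) (iv D3634) F12299
theorem F24473 : act 9 n5260 = n3648 := d34_2 (iv F17334) D5260 (iv D3648)
def n5261 : Q := act 6 n3634
theorem D5261 : act 6 n3634 = n5261 := rfl
theorem F24474 : act 1 n5261 = n3638 := d13_1 D5261 (iv D3638) (iv F17332)
theorem F24475 : act 3 n5261 = n3636 := d26_1 D5261 (iv D3636) (iv F17333)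
theorem F24476 : act 5 n5261 = n3665 := d35_1 D5261 (iv D3665) (iv D2535) (iv F12300) D3634
theorem F24477 : act 9 n5261 = n3649 := d41_2 (iv F17334) D5261 (iv D3649)
def n5262 : Q := act 8 n3634
theorem D5262 : act 8 n3634 = n5262 := rfl
theorem F24478 : act 1 n5262 = n3639 := d15_1 D5262 (iv D3639) (iv F17332)
theorem F24479 : act 3 n5262 = n5262 := d28_1 D5262 (iv D5262) F17333 F12304 (iv F17333)
theorem F24480 : act 5 n5262 = n3635 := d37_1 D5262 (iv D3635) D3634
def n5263 : Q := act 9 n3635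
theorem D5263 : act 9 n3635 = n5263 := rfl
theorem F24481 : act 1 n5263 = n3640 := d16_1 D5263 (iv D3640) (iv F17335)
theorem F24485 : act 8 n5263 = n3651 := d44_1 D5263 (iv D3651) (iv D2525) (iv F12301) D3635
def n5264 : Q := act 7 n3636
theorem D5264 : act 7 n3636 = n5264 := rfl
theorem F24486 : act 1 n5264 = n3641 := d14_1 D5264 (iv D3641) (iv F17339)
theorem F24487 : act 4 n5264 = n5264 := d32_1 D5264 (iv D5264) F17340
theorem F24488 : act 5 n5264 = n3668 := d36_1 D5264 (iv D3668) (iv F17341)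
theorem F24489 : act 8 n5264 = n5264 := d42_2 F17342 D5264 (iv D5264)
theorem F24490 : act 9 n5264 = n3652 := d43_2 (iv F17343) D5264 (iv D3652)
def n5265 : Q := act 6 n3637
theorem D5265 : act 6 n3637 = n5265 := rfl
theorem F24491 : act 0 n5265 = n4094 := d5_1 D5265 (iv D4094) (iv F17344)
theorem F24492 : act 3 n5265 = n5265 := d26_1 D5265 (iv D5265) F17345
theorem F24493 : act 4 n5265 = n3638 := d31_1 D5265 (iv D3638) D3637
theorem F24494 : act 9 n5265 = n3653 := d41_2 (iv F17347) D5265 (iv D3653)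
def n5266 : Q := act 8 n3637
theorem D5266 : act 8 n3637 = n5266 := rfl
theorem F24495 : act 0 n5266 = n4095 := d7_1 D5266 (iv D4095) (iv F17344)
theorem F24496 : act 4 n5266 = n3639 := d33_1 D5266 (iv D3639) D3637
theorem F24497 : act 5 n5266 = n5266 := d37_1 D5266 (iv D5266) F17346
def n5267 : Q := act 7 n3638
theorem D5267 : act 7 n3638 = n5267 := rfl
theorem F24498 : act 0 n5267 = n4096 := d6_1 D5267 (iv D4096) (iv F17348)
theorem F24499 : act 3 n5267 = n3641 := d27_1 D5267 (iv D3641) (iv F17349)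
theorem F24500 : act 5 n5267 = n3671 := d36_1 D5267 (iv D3671) (iv F17350)
theorem F24501 : act 9 n5267 = n3655 := d43_2 (iv F17351) D5267 (iv D3655)
def n5268 : Q := act 8 n3638
theorem D5268 : act 8 n3638 = n5268 := rfl
theorem F24502 : act 0 n5268 = n4097 := d7_1 D5268 (iv D4097) (iv F17348)
theorem F24503 : act 3 n5268 = n5268 := d28_1 D5268 (iv D5268) F17349 F12317 (iv F17349)
theorem F24504 : act 5 n5268 = n3672 := d37_1 D5268 (iv D3672) (iv F17350)
theorem F24505 : act 6 n5268 = n3639 := d40_1 D5268 (iv D3639) D3638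
def n5269 : Q := act 9 n3639
theorem D5269 : act 9 n3639 = n5269 := rfl
theorem F24506 : act 0 n5269 = n4098 := d8_1 D5269 (iv D4098) (iv F17352)
theorem F24507 : act 3 n5269 = n5269 := d29_1 D5269 (iv D5269) F17353
theorem F24508 : act 5 n5269 = n3640 := d38_1 D5269 (iv D3640) (iv F17354)
theorem F24509 : act 8 n5269 = n3657 := d44_1 D5269 (iv D3657) (iv D2529) (iv F12308) D3639
def n5270 : Q := act 1 n3642
theorem D5270 : act 1 n3642 = n5270 := rfl
theorem F24510 : act 2 n5270 = n4099 := d9_2 D3642 D5270 (iv D4099) (iv D2836) (iv F12325)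
theorem F24512 : act 6 n5270 = n3674 := d13_2 (iv F17368) D5270 (iv D3674)
def n5271 : Q := act 5 n3642
theorem D5271 : act 5 n3642 = n5271 := rfl
theorem F24513 : act 0 n5271 = n3646 := d4_1 D5271 (iv D3646) (iv F17366)
theorem F24514 : act 2 n5271 = n3643 := d19_1 D5271 (iv D3643) D3642
def n5272 : Q := act 8 n3642
theorem D5272 : act 8 n3642 = n5272 := rfl
theorem F24515 : act 0 n5272 = n3647 := d7_1 D5272 (iv D3647) (iv F17366)
theorem F24516 : act 2 n5272 = n3644 := d22_1 D5272 (iv D3644) D3642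
def n5273 : Q := act 4 n3643
theorem D5273 : act 4 n3643 = n5273 := rfl
theorem F24519 : act 0 n5273 = n3648 := d3_1 D5273 (iv D3648) (iv F17369)
theorem F24520 : act 1 n5273 = n4102 := d11_1 D5273 (iv D4102) (iv F17370)
theorem F24521 : act 3 n5273 = n5273 := d24_1 D5273 (iv D5273) F17371 F12330 (iv F17371)
theorem F24522 : act 5 n5273 = n5273 := d30_2 D3643 D5273 (iv D5273) (iv D3643) F12326
def n5274 : Q := act 6 n3643
theorem D5274 : act 6 n3643 = n5274 := rfl
theorem F24523 : act 0 n5274 = n3649 := d5_1 D5274 (iv D3649) (iv F17369)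
theorem F24524 : act 1 n5274 = n4103 := d13_1 D5274 (iv D4103) (iv F17370)
theorem F24525 : act 3 n5274 = n3645 := d26_1 D5274 (iv D3645) (iv F17371)
theorem F24526 : act 5 n5274 = n3678 := d35_1 D5274 (iv D3678) (iv D2544) (iv F12327) D3643
def n5275 : Q := act 8 n3643
theorem D5275 : act 8 n3643 = n5275 := rfl
theorem F24527 : act 0 n5275 = n3650 := d7_1 D5275 (iv D3650) (iv F17369)
theorem F24529 : act 3 n5275 = n3750 := d28_1 D5275 (iv D3750) F12653 (iv F12331) (iv F17371)
def n5276 : Q := act 9 n3644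
theorem D5276 : act 9 n3644 = n5276 := rfl
theorem F24531 : act 0 n5276 = n3651 := d8_1 D5276 (iv D3651) (iv F17372)
theorem F24533 : act 3 n5276 = n3751 := d29_1 D5276 (iv D3751) (iv F17374)
theorem F24535 : act 6 n5276 = n3680 := d41_1 D5276 (iv D3680) (iv F17376)
def n5277 : Q := act 7 n3645
theorem D5277 : act 7 n3645 = n5277 := rfl
theorem F24536 : act 0 n5277 = n3652 := d6_1 D5277 (iv D3652) (iv F17377)
theorem F24537 : act 1 n5277 = n4106 := d14_1 D5277 (iv D4106) (iv F17378)
theorem F24538 : act 4 n5277 = n5277 := d32_1 D5277 (iv D5277) F17379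
theorem F24539 : act 5 n5277 = n3681 := d36_1 D5277 (iv D3681) (iv F17380)
theorem F24540 : act 8 n5277 = n3752 := d42_2 (iv F17381) D5277 (iv D3752)
def n5278 : Q := act 4 n3646
theorem D5278 : act 4 n3646 = n5278 := rfl
theorem F24541 : act 2 n5278 = n3648 := d18_1 D5278 (iv D3648) (iv F17382)
theorem F24542 : act 5 n5278 = n5278 := d30_2 D3646 D5278 (iv D5278) (iv D3646) F12332
def n5279 : Q := act 6 n3646
theorem D5279 : act 6 n3646 = n5279 := rfl
theorem F24543 : act 2 n5279 = n3649 := d20_1 D5279 (iv D3649) (iv F17382)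
theorem F24544 : act 5 n5279 = n3683 := d35_1 D5279 (iv D3683) (iv D2547) (iv F12333) D3646
def n5280 : Q := act 8 n3646
theorem D5280 : act 8 n3646 = n5280 := rfl
theorem F24545 : act 2 n5280 = n3650 := d22_1 D5280 (iv D3650) (iv F17382)
theorem F24546 : act 5 n5280 = n3647 := d37_1 D5280 (iv D3647) D3646
def n5281 : Q := act 3 n3647
theorem D5281 : act 3 n3647 = n5281 := rfl
theorem F24547 : act 2 n5281 = n3756 := d17_1 D5281 (iv D3756) F12668 (iv F12337) (iv F17383)
theorem F24548 : act 6 n5281 = n3685 := d26_2 (iv F17385) D5281 (iv D3685)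
def n5282 : Q := act 9 n3647
theorem D5282 : act 9 n3647 = n5282 := rfl
theorem F24551 : act 6 n5282 = n3686 := d41_1 D5282 (iv D3686) (iv F17385)
def n5283 : Q := act 6 n3648
theorem D5283 : act 6 n3648 = n5283 := rfl
theorem F24552 : act 1 n5283 = n3653 := d13_1 D5283 (iv D3653) (iv F17386)
theorem F24553 : act 3 n5283 = n5283 := d26_1 D5283 (iv D5283) F17387
theorem F24554 : act 4 n5283 = n3649 := d31_1 D5283 (iv D3649) D3648
def n5284 : Q := act 8 n3648
theorem D5284 : act 8 n3648 = n5284 := rfl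
theorem F24555 : act 1 n5284 = n3654 := d15_1 D5284 (iv D3654) (iv F17386)
theorem F24556 : act 4 n5284 = n3650 := d33_1 D5284 (iv D3650) D3648
theorem F24557 : act 5 n5284 = n5284 := d37_1 D5284 (iv D5284) F17388
def n5285 : Q := act 7 n3649
theorem D5285 : act 7 n3649 = n5285 := rfl
theorem F24558 : act 1 n5285 = n3655 := d14_1 D5285 (iv D3655) (iv F17389)
theorem F24559 : act 3 n5285 = n3652 := d27_1 D5285 (iv D3652) (iv F17390)
theorem F24560 : act 5 n5285 = n3689 := d36_1 D5285 (iv D3689) (iv F17391)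
def n5286 : Q := act 8 n3649
theorem D5286 : act 8 n3649 = n5286 := rfl
theorem F24561 : act 1 n5286 = n3656 := d15_1 D5286 (iv D3656) (iv F17389)
theorem F24562 : act 3 n5286 = n3761 := d28_1 D5286 (iv D3761) F12676 (iv F12343) (iv F17390)
theorem F24563 : act 5 n5286 = n3690 := d37_1 D5286 (iv D3690) (iv F17391)
theorem F24564 : act 6 n5286 = n3650 := d40_1 D5286 (iv D3650) D3649
def n5287 : Q := act 9 n3650
theorem D5287 : act 9 n3650 = n5287 := rfl
theorem F24565 : act 1 n5287 = n3657 := d16_1 D5287 (iv D3657) (iv F17392)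
theorem F24566 : act 3 n5287 = n3762 := d29_1 D5287 (iv D3762) (iv F17393)
def n5288 : Q := act 5 n3653
theorem D5288 : act 5 n3653 = n5288 := rfl
theorem F24568 : act 0 n5288 = n4117 := d4_1 D5288 (iv D4117) (iv F17403)
theorem F24570 : act 4 n5288 = n3692 := d30_1 D5288 (iv D3692) F12452 (iv F12349) (iv F17405)
def n5289 : Q := act 7 n3653
theorem D5289 : act 7 n3653 = n5289 := rfl
theorem F24574 : act 4 n5289 = n3655 := d32_1 D5289 (iv D3655) (iv F17405)
def n5290 : Q := act 8 n3653
theorem D5290 : act 8 n3653 = n5290 := rfl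
theorem F24577 : act 6 n5290 = n3654 := d40_1 D5290 (iv D3654) D3653
def n5291 : Q := act 3 n3654
theorem D5291 : act 3 n3654 = n5291 := rfl
theorem F24579 : act 4 n5291 = n3765 := d24_2 (iv F17407) D5291 (iv D3765) F12697 (iv F12351)
def n5292 : Q := act 9 n3654
theorem D5292 : act 9 n3654 = n5292 := rfl
theorem F24583 : act 4 n5292 = n3657 := d34_1 D5292 (iv D3657) (iv F17407)
theorem F24584 : act 5 n5292 = n5292 := d38_1 D5292 (iv D5292) F17408
def n5293 : Q := act 8 n3655
theorem D5293 : act 8 n3655 = n5293 := rfl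
theorem F24586 : act 3 n5293 = n3767 := d28_1 D5293 (iv D3767) F12701 (iv F12361) (iv F17410)
theorem F24587 : act 5 n5293 = n3696 := d37_1 D5293 (iv D3696) (iv F17411)
def n5294 : Q := act 9 n3656
theorem D5294 : act 9 n3656 = n5294 := rfl
theorem F24589 : act 0 n5294 = n4123 := d8_1 D5294 (iv D4123) (iv F17412)
theorem F24590 : act 3 n5294 = n3768 := d29_1 D5294 (iv D3768) (iv F17413)
theorem F24591 : act 5 n5294 = n3697 := d38_1 D5294 (iv D3697) (iv F17414)
theorem F24592 : act 6 n5294 = n3657 := d41_1 D5294 (iv D3657) (iv F17415)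
def n5295 : Q := act 1 n3658
theorem D5295 : act 1 n3658 = n5295 := rfl
theorem F24596 : act 9 n5295 = n3674 := d16_2 (iv F17422) D5295 (iv D3674)
def n5296 : Q := act 5 n3658
theorem D5296 : act 5 n3658 = n5296 := rfl
theorem F24597 : act 0 n5296 = n3662 := d4_1 D5296 (iv D3662) (iv F17419)
theorem F24598 : act 2 n5296 = n3659 := d19_1 D5296 (iv D3659) D3658
theorem F24599 : act 7 n5296 = n5296 := d36_2 F17421 D5296 (iv D5296)
theorem F24600 : act 9 n5296 = n3675 := d38_2 (iv F17422) D5296 (iv D3675)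
def n5297 : Q := act 8 n3658
theorem D5297 : act 8 n3658 = n5297 := rfl
def n5298 : Q := act 4 n3659
theorem D5298 : act 4 n3659 = n5298 := rfl
theorem F24605 : act 0 n5298 = n3664 := d3_1 D5298 (iv D3664) (iv F17423)
theorem F24606 : act 1 n5298 = n4127 := d11_1 D5298 (iv D4127) (iv F17424)
theorem F24607 : act 3 n5298 = n3701 := d24_1 D5298 (iv D3701) F12475 (iv F12369) (iv F17425)
theorem F24608 : act 5 n5298 = n5298 := d30_2 D3659 D5298 (iv D5298) (iv D3659) F12364
theorem F24609 : act 7 n5298 = n5298 := d32_2 F17426 D5298 (iv D5298)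
theorem F24610 : act 9 n5298 = n3677 := d34_2 (iv F17427) D5298 (iv D3677)
def n5299 : Q := act 6 n3659
theorem D5299 : act 6 n3659 = n5299 := rfl
theorem F24611 : act 0 n5299 = n3665 := d5_1 D5299 (iv D3665) (iv F17423)
theorem F24612 : act 1 n5299 = n4128 := d13_1 D5299 (iv D4128) (iv F17424)
theorem F24613 : act 3 n5299 = n3661 := d26_1 D5299 (iv D3661) (iv F17425)
theorem F24614 : act 9 n5299 = n3678 := d41_2 (iv F17427) D5299 (iv D3678)
def n5300 : Q := act 8 n3659
theorem D5300 : act 8 n3659 = n5300 := rfl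
theorem F24618 : act 5 n5300 = n3660 := d37_1 D5300 (iv D3660) D3659
def n5301 : Q := act 9 n3660
theorem D5301 : act 9 n3660 = n5301 := rfl
def n5302 : Q := act 7 n3661
theorem D5302 : act 7 n3661 = n5302 := rfl
theorem F24626 : act 0 n5302 = n3668 := d6_1 D5302 (iv D3668) (iv F17433)
theorem F24627 : act 1 n5302 = n4131 := d14_1 D5302 (iv D4131) (iv F17434)
theorem F24628 : act 4 n5302 = n3704 := d32_1 D5302 (iv D3704) (iv F17435)
theorem F24629 : act 6 n5302 = n5302 := d39_1 D5302 (iv D5302) (iv D3661) F12370 D3661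
theorem F24630 : act 8 n5302 = n5302 := d42_2 F17436 D5302 (iv D5302)
theorem F24631 : act 9 n5302 = n3681 := d43_2 (iv F17437) D5302 (iv D3681)
def n5303 : Q := act 4 n3662
theorem D5303 : act 4 n3662 = n5303 := rfl
theorem F24632 : act 2 n5303 = n3664 := d18_1 D5303 (iv D3664) (iv F17438)
theorem F24633 : act 5 n5303 = n5303 := d30_2 D3662 D5303 (iv D5303) (iv D3662) F12373
theorem F24634 : act 7 n5303 = n5303 := d32_2 F17439 D5303 (iv D5303)
theorem F24635 : act 9 n5303 = n3682 := d34_2 (iv F17440) D5303 (iv D3682)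
def n5304 : Q := act 6 n3662
theorem D5304 : act 6 n3662 = n5304 := rfl
theorem F24636 : act 2 n5304 = n3665 := d20_1 D5304 (iv D3665) (iv F17438)
theorem F24637 : act 9 n5304 = n3683 := d41_2 (iv F17440) D5304 (iv D3683)
def n5305 : Q := act 8 n3662
theorem D5305 : act 8 n3662 = n5305 := rfl
theorem F24638 : act 2 n5305 = n3666 := d22_1 D5305 (iv D3666) (iv F17438)
theorem F24639 : act 5 n5305 = n3663 := d37_1 D5305 (iv D3663) D3662
theorem F24640 : act 7 n5305 = n5305 := d42_1 D5305 (iv D5305) F17439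
def n5306 : Q := act 3 n3663
theorem D5306 : act 3 n3663 = n5306 := rfl
def n5307 : Q := act 9 n3663
theorem D5307 : act 9 n3663 = n5307 := rfl
theorem F24646 : act 8 n5307 = n3686 := d44_1 D5307 (iv D3686) (iv D2548) (iv F12375) D3663
def n5308 : Q := act 6 n3664
theorem D5308 : act 6 n3664 = n5308 := rfl
theorem F24647 : act 1 n5308 = n3669 := d13_1 D5308 (iv D3669) (iv F17444)
theorem F24648 : act 3 n5308 = n3709 := d26_1 D5308 (iv D3709) (iv F17445)
theorem F24649 : act 4 n5308 = n3665 := d31_1 D5308 (iv D3665) D3664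
theorem F24650 : act 9 n5308 = n3687 := d41_2 (iv F17448) D5308 (iv D3687)
def n5309 : Q := act 8 n3664
theorem D5309 : act 8 n3664 = n5309 := rfl
theorem F24651 : act 1 n5309 = n3670 := d15_1 D5309 (iv D3670) (iv F17444)
theorem F24652 : act 4 n5309 = n3666 := d33_1 D5309 (iv D3666) D3664
theorem F24653 : act 5 n5309 = n5309 := d37_1 D5309 (iv D5309) F17446
theorem F24654 : act 7 n5309 = n5309 := d42_1 D5309 (iv D5309) F17447
def n5310 : Q := act 7 n3665
theorem D5310 : act 7 n3665 = n5310 := rfl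
theorem F24655 : act 1 n5310 = n3671 := d14_1 D5310 (iv D3671) (iv F17449)
theorem F24656 : act 3 n5310 = n3668 := d27_1 D5310 (iv D3668) (iv F17450)
theorem F24657 : act 6 n5310 = n5310 := d39_1 D5310 (iv D5310) (iv D3665) F12378 D3665
theorem F24658 : act 9 n5310 = n3689 := d43_2 (iv F17451) D5310 (iv D3689)
def n5311 : Q := act 8 n3665
theorem D5311 : act 8 n3665 = n5311 := rfl
theorem F24659 : act 1 n5311 = n3672 := d15_1 D5311 (iv D3672) (iv F17449)
theorem F24660 : act 3 n5311 = n5311 := d28_1 D5311 (iv D5311) F17450 F12386 (iv F17450)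
theorem F24661 : act 6 n5311 = n3666 := d40_1 D5311 (iv D3666) D3665
def n5312 : Q := act 9 n3666
theorem D5312 : act 9 n3666 = n5312 := rfl
theorem F24662 : act 1 n5312 = n3673 := d16_1 D5312 (iv D3673) (iv F17452)
theorem F24666 : act 8 n5312 = n3691 := d44_1 D5312 (iv D3691) (iv D2551) (iv F12379) D3666
def n5313 : Q := act 5 n3669
theorem D5313 : act 5 n3669 = n5313 := rfl
theorem F24667 : act 0 n5313 = n4142 := d4_1 D5313 (iv D4142) (iv F17466)
theorem F24668 : act 3 n5313 = n3713 := d25_1 D5313 (iv D3713) (iv F17467)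
theorem F24669 : act 6 n5313 = n5313 := d35_2 D3669 D5313 (iv D5313) (iv D3669) F12390
theorem F24670 : act 9 n5313 = n3692 := d38_2 (iv F17469) D5313 (iv D3692)
def n5314 : Q := act 7 n3669
theorem D5314 : act 7 n3669 = n5314 := rfl
theorem F24671 : act 0 n5314 = n4143 := d6_1 D5314 (iv D4143) (iv F17466)
theorem F24672 : act 3 n5314 = n3714 := d27_1 D5314 (iv D3714) (iv F17467)
theorem F24673 : act 4 n5314 = n3671 := d32_1 D5314 (iv D3671) (iv F17468)
theorem F24674 : act 6 n5314 = n5314 := d39_1 D5314 (iv D5314) (iv D3669) F12391 D3669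
theorem F24675 : act 9 n5314 = n3693 := d43_2 (iv F17469) D5314 (iv D3693)
def n5315 : Q := act 8 n3669
theorem D5315 : act 8 n3669 = n5315 := rfl
theorem F24676 : act 0 n5315 = n4144 := d7_1 D5315 (iv D4144) (iv F17466)
theorem F24677 : act 4 n5315 = n3672 := d33_1 D5315 (iv D3672) (iv F17468)
theorem F24678 : act 6 n5315 = n3670 := d40_1 D5315 (iv D3670) D3669
def n5316 : Q := act 3 n3670
theorem D5316 : act 3 n3670 = n5316 := rfl
theorem F24679 : act 0 n5316 = n4145 := d2_1 D5316 (iv D4145) (iv F17470)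
theorem F24680 : act 4 n5316 = n5316 := d24_2 (iv F17471) D5316 (iv D5316) F17471 F12397
theorem F24681 : act 5 n5316 = n5316 := d25_2 F17472 D5316 (iv D5316)
theorem F24682 : act 7 n5316 = n5316 := d27_2 F17473 D5316 (iv D5316)
theorem F24683 : act 8 n5316 = n3716 := d28_2 D3670 D5316 (iv D3716) (iv D2570) (iv F12389)
def n5317 : Q := act 9 n3670
theorem D5317 : act 9 n3670 = n5317 := rfl
theorem F24685 : act 4 n5317 = n3673 := d34_1 D5317 (iv D3673) (iv F17471)
theorem F24686 : act 5 n5317 = n5317 := d38_1 D5317 (iv D5317) F17472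
theorem F24687 : act 7 n5317 = n5317 := d43_1 D5317 (iv D5317) F17473
theorem F24688 : act 8 n5317 = n3695 := d44_1 D5317 (iv D3695) (iv D2555) (iv F12392) D3670
def n5318 : Q := act 8 n3671
theorem D5318 : act 8 n3671 = n5318 := rfl
theorem F24689 : act 0 n5318 = n4147 := d7_1 D5318 (iv D4147) (iv F17474)
theorem F24690 : act 3 n5318 = n5318 := d28_1 D5318 (iv D5318) F17475 F12409 (iv F17475)
theorem F24691 : act 6 n5318 = n5318 := d40_1 D5318 (iv D5318) F17476
theorem F24692 : act 7 n5318 = n3672 := d42_1 D5318 (iv D3672) D3671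
def n5319 : Q := act 9 n3672
theorem D5319 : act 9 n3672 = n5319 := rfl
theorem F24693 : act 0 n5319 = n4148 := d8_1 D5319 (iv D4148) (iv F17478)
theorem F24694 : act 3 n5319 = n5319 := d29_1 D5319 (iv D5319) F17479
theorem F24695 : act 6 n5319 = n3673 := d41_1 D5319 (iv D3673) (iv F17480)
theorem F24696 : act 8 n5319 = n3697 := d44_1 D5319 (iv D3697) (iv D2557) (iv F12395) D3672
def n5320 : Q := act 5 n3674
theorem D5320 : act 5 n3674 = n5320 := rfl
theorem F24697 : act 1 n5320 = n3675 := d12_1 D5320 (iv D3675) D3674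
def n5321 : Q := act 8 n3674
theorem D5321 : act 8 n3674 = n5321 := rfl
def n5322 : Q := act 4 n3675
theorem D5322 : act 4 n3675 = n5322 := rfl
theorem F24704 : act 0 n5322 = n3682 := d3_1 D5322 (iv D3682) (iv F17489)
theorem F24705 : act 2 n5322 = n3677 := d18_1 D5322 (iv D3677) (iv F17490)
theorem F24706 : act 5 n5322 = n5322 := d30_2 D3675 D5322 (iv D5322) (iv D3675) F12412
theorem F24707 : act 7 n5322 = n5322 := d32_2 F17491 D5322 (iv D5322)
def n5323 : Q := act 6 n3675
theorem D5323 : act 6 n3675 = n5323 := rfl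
theorem F24708 : act 0 n5323 = n3683 := d5_1 D5323 (iv D3683) (iv F17489)
theorem F24709 : act 2 n5323 = n3678 := d20_1 D5323 (iv D3678) (iv F17490)
def n5324 : Q := act 8 n3675
theorem D5324 : act 8 n3675 = n5324 := rfl
theorem F24712 : act 5 n5324 = n3676 := d37_1 D5324 (iv D3676) D3675
def n5325 : Q := act 3 n3676
theorem D5325 : act 3 n3676 = n5325 := rfl
theorem F24714 : act 0 n5325 = n3685 := d2_1 D5325 (iv D3685) (iv F17492)
theorem F24715 : act 2 n5325 = n3773 := d17_1 D5325 (iv D3773) F12723 (iv F12420) (iv F17493)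
def n5327 : Q := act 6 n3677
theorem D5327 : act 6 n3677 = n5327 := rfl
theorem F24721 : act 0 n5327 = n3687 := d5_1 D5327 (iv D3687) (iv F17496)
theorem F24722 : act 1 n5327 = n4156 := d13_1 D5327 (iv D4156) (iv F17497)
theorem F24723 : act 3 n5327 = n3721 := d26_1 D5327 (iv D3721) (iv F17498)
theorem F24724 : act 4 n5327 = n3678 := d31_1 D5327 (iv D3678) D3677
def n5328 : Q := act 8 n3677
theorem D5328 : act 8 n3677 = n5328 := rfl
theorem F24728 : act 4 n5328 = n3679 := d33_1 D5328 (iv D3679) D3677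
def n5329 : Q := act 7 n3678
theorem D5329 : act 7 n3678 = n5329 := rfl
theorem F24731 : act 0 n5329 = n3689 := d6_1 D5329 (iv D3689) (iv F17501)
theorem F24732 : act 1 n5329 = n4158 := d14_1 D5329 (iv D4158) (iv F17502)
theorem F24733 : act 3 n5329 = n3681 := d27_1 D5329 (iv D3681) (iv F17503)
theorem F24734 : act 6 n5329 = n5329 := d39_1 D5329 (iv D5329) (iv D3678) F12417 D3678
def n5330 : Q := act 8 n3678
theorem D5330 : act 8 n3678 = n5330 := rfl
def n5331 : Q := act 9 n3679
theorem D5331 : act 9 n3679 = n5331 := rfl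
theorem F24742 : act 5 n5331 = n3680 := d38_1 D5331 (iv D3680) (iv F17507)
def n5332 : Q := act 3 n3682
theorem D5332 : act 3 n3682 = n5332 := rfl
theorem F24744 : act 2 n5332 = n3723 := d17_1 D5332 (iv D3723) F12566 (iv F12433) (iv F17519)
theorem F24745 : act 5 n5332 = n5332 := d25_2 F17520 D5332 (iv D5332)
theorem F24746 : act 7 n5332 = n5332 := d27_2 F17521 D5332 (iv D5332)
def n5333 : Q := act 6 n3682
theorem D5333 : act 6 n3682 = n5333 := rfl
theorem F24747 : act 2 n5333 = n3687 := d20_1 D5333 (iv D3687) (iv F17519)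
theorem F24748 : act 4 n5333 = n3683 := d31_1 D5333 (iv D3683) D3682
def n5334 : Q := act 8 n3682
theorem D5334 : act 8 n3682 = n5334 := rfl
theorem F24749 : act 2 n5334 = n3688 := d22_1 D5334 (iv D3688) (iv F17519)
theorem F24750 : act 4 n5334 = n3684 := d33_1 D5334 (iv D3684) D3682
theorem F24751 : act 5 n5334 = n5334 := d37_1 D5334 (iv D5334) F17520
theorem F24752 : act 7 n5334 = n5334 := d42_1 D5334 (iv D5334) F17521
def n5335 : Q := act 7 n3683
theorem D5335 : act 7 n3683 = n5335 := rfl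
theorem F24753 : act 2 n5335 = n3689 := d21_1 D5335 (iv D3689) (iv F17522)
theorem F24754 : act 6 n5335 = n5335 := d39_1 D5335 (iv D5335) (iv D3683) F12428 D3683
def n5336 : Q := act 8 n3683
theorem D5336 : act 8 n3683 = n5336 := rfl
theorem F24755 : act 2 n5336 = n3690 := d22_1 D5336 (iv D3690) (iv F17522)
theorem F24756 : act 6 n5336 = n3684 := d40_1 D5336 (iv D3684) D3683
def n5337 : Q := act 3 n3684
theorem D5337 : act 3 n3684 = n5337 := rfl
theorem F24757 : act 2 n5337 = n3780 := d17_1 D5337 (iv D3780) F12751 (iv F12439) (iv F17523)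
theorem F24758 : act 5 n5337 = n3685 := d25_2 (iv F17524) D5337 (iv D3685)
theorem F24759 : act 7 n5337 = n5337 := d27_2 F17525 D5337 (iv D5337)
def n5338 : Q := act 9 n3684
theorem D5338 : act 9 n3684 = n5338 := rfl
theorem F24761 : act 5 n5338 = n3686 := d38_1 D5338 (iv D3686) (iv F17524)
def n5339 : Q := act 4 n3685
theorem D5339 : act 4 n3685 = n5339 := rfl
theorem F24763 : act 2 n5339 = n3782 := d18_1 D5339 (iv D3782) (iv F17526)
theorem F24764 : act 3 n5339 = n5339 := d24_1 D5339 (iv D5339) (iv D3685) F12430 D3685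
theorem F24765 : act 7 n5339 = n5339 := d32_2 F17527 D5339 (iv D5339)
def n5340 : Q := act 9 n3685
theorem D5340 : act 9 n3685 = n5340 := rfl
theorem F24767 : act 3 n5340 = n3686 := d29_1 D5340 (iv D3686) D3685
def n5341 : Q := act 5 n3687
theorem D5341 : act 5 n3687 = n5341 := rfl
theorem F24769 : act 1 n5341 = n3692 := d12_1 D5341 (iv D3692) (iv F17531)
theorem F24770 : act 3 n5341 = n3726 := d25_1 D5341 (iv D3726) (iv F17532)
theorem F24771 : act 6 n5341 = n5341 := d35_2 D3687 D5341 (iv D5341) (iv D3687) F12434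
def n5342 : Q := act 7 n3687
theorem D5342 : act 7 n3687 = n5342 := rfl
theorem F24772 : act 1 n5342 = n3693 := d14_1 D5342 (iv D3693) (iv F17531)
theorem F24773 : act 3 n5342 = n3727 := d27_1 D5342 (iv D3727) (iv F17532)
theorem F24774 : act 4 n5342 = n3689 := d32_1 D5342 (iv D3689) (iv F17533)
theorem F24775 : act 6 n5342 = n5342 := d39_1 D5342 (iv D5342) (iv D3687) F12435 D3687
def n5343 : Q := act 8 n3687
theorem D5343 : act 8 n3687 = n5343 := rfl
theorem F24776 : act 1 n5343 = n3694 := d15_1 D5343 (iv D3694) (iv F17531)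
theorem F24777 : act 3 n5343 = n5343 := d28_1 D5343 (iv D5343) F17532 F12576 (iv F17532)
theorem F24778 : act 4 n5343 = n3690 := d33_1 D5343 (iv D3690) (iv F17533)
theorem F24779 : act 6 n5343 = n3688 := d40_1 D5343 (iv D3688) D3687
def n5344 : Q := act 9 n3688
theorem D5344 : act 9 n3688 = n5344 := rfl
theorem F24780 : act 1 n5344 = n3695 := d16_1 D5344 (iv D3695) (iv F17534)
theorem F24782 : act 4 n5344 = n3691 := d34_1 D5344 (iv D3691) (iv F17536)
def n5345 : Q := act 8 n3689
theorem D5345 : act 8 n3689 = n5345 := rfl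
theorem F24785 : act 1 n5345 = n3696 := d15_1 D5345 (iv D3696) (iv F17539)
theorem F24786 : act 3 n5345 = n3784 := d28_1 D5345 (iv D3784) F12763 (iv F12449) (iv F17540)
theorem F24787 : act 6 n5345 = n5345 := d40_1 D5345 (iv D5345) F17541
theorem F24788 : act 7 n5345 = n3690 := d42_1 D5345 (iv D3690) D3689
def n5346 : Q := act 9 n3690
theorem D5346 : act 9 n3690 = n5346 := rfl
theorem F24789 : act 1 n5346 = n3697 := d16_1 D5346 (iv D3697) (iv F17542)
def n5347 : Q := act 7 n3692
theorem D5347 : act 7 n3692 = n5347 := rfl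
theorem F24793 : act 3 n5347 = n3728 := d27_1 D5347 (iv D3728) (iv F17550)
theorem F24794 : act 5 n5347 = n3693 := d36_1 D5347 (iv D3693) D3692
def n5348 : Q := act 8 n3692
theorem D5348 : act 8 n3692 = n5348 := rfl
theorem F24797 : act 5 n5348 = n3694 := d37_1 D5348 (iv D3694) D3692
def n5349 : Q := act 8 n3693
theorem D5349 : act 8 n3693 = n5349 := rfl
theorem F24801 : act 4 n5349 = n3696 := d33_1 D5349 (iv D3696) (iv F17554)
def n5350 : Q := act 9 n3694
theorem D5350 : act 9 n3694 = n5350 := rfl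
theorem F24805 : act 3 n5350 = n5350 := d29_1 D5350 (iv D5350) F17557
theorem F24806 : act 4 n5350 = n3697 := d34_1 D5350 (iv D3697) (iv F17558)
theorem F24807 : act 6 n5350 = n3695 := d41_1 D5350 (iv D3695) (iv F17559)
def n5351 : Q := act 9 n3696
theorem D5351 : act 9 n3696 = n5351 := rfl
theorem F24808 : act 0 n5351 = n4180 := d8_1 D5351 (iv D4180) (iv F17565)
theorem F24809 : act 3 n5351 = n3786 := d29_1 D5351 (iv D3786) (iv F17566)
theorem F24810 : act 6 n5351 = n5351 := d41_1 D5351 (iv D5351) F17567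
theorem F24811 : act 7 n5351 = n3697 := d43_1 D5351 (iv D3697) (iv F17568)
def n5352 : Q := act 5 n3698
theorem D5352 : act 5 n3698 = n5352 := rfl
theorem F24813 : act 1 n5352 = n3699 := d12_1 D5352 (iv D3699) D3698
theorem F24814 : act 2 n5352 = n4181 := d19_1 D5352 (iv D4181) (iv F17573)
theorem F24816 : act 9 n5352 = n3718 := d38_2 (iv F17577) D5352 (iv D3718)
def n5353 : Q := act 8 n3698
theorem D5353 : act 8 n3698 = n5353 := rfl
theorem F24819 : act 2 n5353 = n4182 := d22_1 D5353 (iv D4182) (iv F17573)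
def n5354 : Q := act 4 n3699
theorem D5354 : act 4 n3699 = n5354 := rfl
theorem F24824 : act 0 n5354 = n3705 := d3_1 D5354 (iv D3705) (iv F17578)
theorem F24825 : act 2 n5354 = n3701 := d18_1 D5354 (iv D3701) (iv F17579)
theorem F24826 : act 5 n5354 = n5354 := d30_2 D3699 D5354 (iv D5354) (iv D3699) F12469
theorem F24827 : act 7 n5354 = n5354 := d32_2 F17580 D5354 (iv D5354)
theorem F24828 : act 9 n5354 = n3719 := d34_2 (iv F17581) D5354 (iv D3719)
def n5355 : Q := act 6 n3699
theorem D5355 : act 6 n3699 = n5355 := rfl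
theorem F24829 : act 0 n5355 = n3706 := d5_1 D5355 (iv D3706) (iv F17578)
theorem F24830 : act 2 n5355 = n3702 := d20_1 D5355 (iv D3702) (iv F17579)
theorem F24831 : act 5 n5355 = n5355 := d35_1 D5355 (iv D5355) (iv D3699) F12470 D3699
theorem F24832 : act 9 n5355 = n3720 := d41_2 (iv F17581) D5355 (iv D3720)
def n5356 : Q := act 8 n3699
theorem D5356 : act 8 n3699 = n5356 := rfl
theorem F24833 : act 0 n5356 = n3707 := d7_1 D5356 (iv D3707) (iv F17578)
theorem F24834 : act 2 n5356 = n3703 := d22_1 D5356 (iv D3703) (iv F17579)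
def n5357 : Q := act 3 n3700
theorem D5357 : act 3 n3700 = n5357 := rfl
def n5358 : Q := act 6 n3701
theorem D5358 : act 6 n3701 = n5358 := rfl
theorem F24843 : act 0 n5358 = n3709 := d5_1 D5358 (iv D3709) (iv F17588)
theorem F24844 : act 1 n5358 = n4187 := d13_1 D5358 (iv D4187) (iv F17589)
theorem F24845 : act 4 n5358 = n3702 := d31_1 D5358 (iv D3702) D3701
theorem F24846 : act 9 n5358 = n3721 := d41_2 (iv F17592) D5358 (iv D3721)
def n5359 : Q := act 8 n3701
theorem D5359 : act 8 n3701 = n5359 := rfl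
theorem F24847 : act 0 n5359 = n3710 := d7_1 D5359 (iv D3710) (iv F17588)
theorem F24848 : act 1 n5359 = n4188 := d15_1 D5359 (iv D4188) (iv F17589)
theorem F24849 : act 4 n5359 = n3703 := d33_1 D5359 (iv D3703) D3701
theorem F24850 : act 5 n5359 = n5359 := d37_1 D5359 (iv D5359) F17590
theorem F24851 : act 7 n5359 = n5359 := d42_1 D5359 (iv D5359) F17591
theorem F24852 : act 9 n5359 = n5359 := d44_2 (iv F17592) D5359 (iv D5359) F17592 F12554
def n5360 : Q := act 7 n3702
theorem D5360 : act 7 n3702 = n5360 := rfl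
theorem F24853 : act 0 n5360 = n3711 := d6_1 D5360 (iv D3711) (iv F17593)
theorem F24854 : act 1 n5360 = n4189 := d14_1 D5360 (iv D4189) (iv F17594)
theorem F24855 : act 3 n5360 = n3704 := d27_1 D5360 (iv D3704) (iv F17595)
theorem F24856 : act 5 n5360 = n5360 := d36_1 D5360 (iv D5360) F17596
theorem F24857 : act 6 n5360 = n5360 := d39_1 D5360 (iv D5360) (iv D3702) F12476 D3702
theorem F24858 : act 9 n5360 = n3722 := d43_2 (iv F17597) D5360 (iv D3722)
def n5361 : Q := act 8 n3702
theorem D5361 : act 8 n3702 = n5361 := rfl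
theorem F24859 : act 0 n5361 = n3712 := d7_1 D5361 (iv D3712) (iv F17593)
theorem F24860 : act 1 n5361 = n4190 := d15_1 D5361 (iv D4190) (iv F17594)
theorem F24861 : act 3 n5361 = n5361 := d28_1 D5361 (iv D5361) F17595 F12488 (iv F17595)
theorem F24862 : act 5 n5361 = n5361 := d37_1 D5361 (iv D5361) F17596
theorem F24863 : act 6 n5361 = n3703 := d40_1 D5361 (iv D3703) D3702
theorem F24864 : act 9 n5361 = n5361 := d44_2 (iv F17597) D5361 (iv D5361) F17597 F12559
def n5362 : Q := act 3 n3705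
theorem D5362 : act 3 n3705 = n5362 := rfl
theorem F24865 : act 1 n5362 = n5362 := d10_1 D5362 (iv D5362) F17610
theorem F24866 : act 5 n5362 = n5362 := d25_2 F17612 D5362 (iv D5362)
theorem F24867 : act 7 n5362 = n5362 := d27_2 F17613 D5362 (iv D5362)
theorem F24868 : act 9 n5362 = n3723 := d29_2 (iv F17614) D5362 (iv D3723)
def n5363 : Q := act 6 n3705
theorem D5363 : act 6 n3705 = n5363 := rfl
theorem F24869 : act 1 n5363 = n5363 := d13_1 D5363 (iv D5363) F17610
theorem F24870 : act 2 n5363 = n3709 := d20_1 D5363 (iv D3709) (iv F17611)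
theorem F24871 : act 4 n5363 = n3706 := d31_1 D5363 (iv D3706) D3705
theorem F24872 : act 9 n5363 = n3724 := d41_2 (iv F17614) D5363 (iv D3724)
def n5364 : Q := act 8 n3705
theorem D5364 : act 8 n3705 = n5364 := rfl
theorem F24873 : act 1 n5364 = n5364 := d15_1 D5364 (iv D5364) F17610
theorem F24874 : act 2 n5364 = n3710 := d22_1 D5364 (iv D3710) (iv F17611)
theorem F24875 : act 4 n5364 = n3707 := d33_1 D5364 (iv D3707) D3705
theorem F24876 : act 5 n5364 = n5364 := d37_1 D5364 (iv D5364) F17612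
theorem F24877 : act 7 n5364 = n5364 := d42_1 D5364 (iv D5364) F17613
theorem F24878 : act 9 n5364 = n5364 := d44_2 (iv F17614) D5364 (iv D5364) F17614 F12569
def n5365 : Q := act 7 n3706
theorem D5365 : act 7 n3706 = n5365 := rfl
theorem F24879 : act 1 n5365 = n5365 := d14_1 D5365 (iv D5365) F17615
theorem F24880 : act 2 n5365 = n3711 := d21_1 D5365 (iv D3711) (iv F17616)
theorem F24881 : act 5 n5365 = n5365 := d36_1 D5365 (iv D5365) F17617
theorem F24882 : act 6 n5365 = n5365 := d39_1 D5365 (iv D5365) (iv D3706) F12492 D3706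
theorem F24883 : act 9 n5365 = n3725 := d43_2 (iv F17618) D5365 (iv D3725)
def n5366 : Q := act 8 n3706
theorem D5366 : act 8 n3706 = n5366 := rfl
theorem F24884 : act 1 n5366 = n5366 := d15_1 D5366 (iv D5366) F17615
theorem F24885 : act 2 n5366 = n3712 := d22_1 D5366 (iv D3712) (iv F17616)
theorem F24886 : act 5 n5366 = n5366 := d37_1 D5366 (iv D5366) F17617
theorem F24887 : act 6 n5366 = n3707 := d40_1 D5366 (iv D3707) D3706
theorem F24888 : act 9 n5366 = n5366 := d44_2 (iv F17618) D5366 (iv D5366) F17618 F12573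
def n5367 : Q := act 3 n3707
theorem D5367 : act 3 n3707 = n5367 := rfl
def n5369 : Q := act 5 n3709
theorem D5369 : act 5 n3709 = n5369 := rfl
theorem F24900 : act 1 n5369 = n3713 := d12_1 D5369 (iv D3713) (iv F17629)
theorem F24901 : act 4 n5369 = n5369 := d30_1 D5369 (iv D5369) F17630 F12506 (iv F17630)
theorem F24902 : act 6 n5369 = n5369 := d35_2 D3709 D5369 (iv D5369) (iv D3709) F12501
theorem F24903 : act 9 n5369 = n3726 := d38_2 (iv F17631) D5369 (iv D3726)
def n5370 : Q := act 7 n3709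
theorem D5370 : act 7 n3709 = n5370 := rfl
theorem F24904 : act 1 n5370 = n3714 := d14_1 D5370 (iv D3714) (iv F17629)
theorem F24905 : act 4 n5370 = n3711 := d32_1 D5370 (iv D3711) (iv F17630)
theorem F24906 : act 6 n5370 = n5370 := d39_1 D5370 (iv D5370) (iv D3709) F12502 D3709
theorem F24907 : act 9 n5370 = n3727 := d43_2 (iv F17631) D5370 (iv D3727)
def n5371 : Q := act 8 n3709
theorem D5371 : act 8 n3709 = n5371 := rfl
theorem F24908 : act 1 n5371 = n3715 := d15_1 D5371 (iv D3715) (iv F17629)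
theorem F24909 : act 4 n5371 = n3712 := d33_1 D5371 (iv D3712) (iv F17630)
theorem F24910 : act 6 n5371 = n3710 := d40_1 D5371 (iv D3710) D3709
theorem F24911 : act 9 n5371 = n5371 := d44_2 (iv F17631) D5371 (iv D5371) F17631 F12576
def n5372 : Q := act 3 n3710
theorem D5372 : act 3 n3710 = n5372 := rfl
theorem F24912 : act 1 n5372 = n3716 := d10_1 D5372 (iv D3716) (iv F17632)
theorem F24913 : act 4 n5372 = n5372 := d24_2 (iv F17633) D5372 (iv D5372) F17633 F12509
theorem F24914 : act 5 n5372 = n5372 := d25_2 F17634 D5372 (iv D5372)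
theorem F24915 : act 7 n5372 = n5372 := d27_2 F17635 D5372 (iv D5372)
theorem F24916 : act 9 n5372 = n5372 := d29_2 F17636 D5372 (iv D5372)
def n5373 : Q := act 8 n3711
theorem D5373 : act 8 n3711 = n5373 := rfl
theorem F24917 : act 1 n5373 = n3717 := d15_1 D5373 (iv D3717) (iv F17637)
theorem F24918 : act 3 n5373 = n5373 := d28_1 D5373 (iv D5373) F17638 F12516 (iv F17638)
theorem F24919 : act 5 n5373 = n5373 := d37_1 D5373 (iv D5373) F17639
theorem F24920 : act 6 n5373 = n5373 := d40_1 D5373 (iv D5373) F17640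
theorem F24921 : act 7 n5373 = n3712 := d42_1 D5373 (iv D3712) D3711
theorem F24922 : act 9 n5373 = n5373 := d44_2 (iv F17641) D5373 (iv D5373) F17641 F12581
def n5374 : Q := act 7 n3713
theorem D5374 : act 7 n3713 = n5374 := rfl
theorem F24923 : act 0 n5374 = n4203 := d6_1 D5374 (iv D4203) (iv F17647)
theorem F24924 : act 2 n5374 = n5374 := d21_1 D5374 (iv D5374) F17648
theorem F24925 : act 4 n5374 = n5374 := d32_1 D5374 (iv D5374) F17649
theorem F24926 : act 5 n5374 = n3714 := d36_1 D5374 (iv D3714) D3713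
theorem F24927 : act 9 n5374 = n3728 := d43_2 (iv F17651) D5374 (iv D3728)
def n5375 : Q := act 8 n3713
theorem D5375 : act 8 n3713 = n5375 := rfl
theorem F24928 : act 0 n5375 = n4204 := d7_1 D5375 (iv D4204) (iv F17647)
theorem F24929 : act 2 n5375 = n5375 := d22_1 D5375 (iv D5375) F17648
theorem F24930 : act 4 n5375 = n5375 := d33_1 D5375 (iv D5375) F17649
theorem F24931 : act 5 n5375 = n3715 := d37_1 D5375 (iv D3715) D3713
theorem F24932 : act 6 n5375 = n5375 := d40_1 D5375 (iv D5375) F17650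
theorem F24933 : act 9 n5375 = n5375 := d44_2 (iv F17651) D5375 (iv D5375) F17651 F12586
def n5376 : Q := act 8 n3714
theorem D5376 : act 8 n3714 = n5376 := rfl
theorem F24934 : act 0 n5376 = n4205 := d7_1 D5376 (iv D4205) (iv F17652)
theorem F24935 : act 2 n5376 = n5376 := d22_1 D5376 (iv D5376) F17653
theorem F24936 : act 4 n5376 = n3717 := d33_1 D5376 (iv D3717) (iv F17654)
theorem F24937 : act 6 n5376 = n5376 := d40_1 D5376 (iv D5376) F17655
theorem F24938 : act 7 n5376 = n3715 := d42_1 D5376 (iv D3715) D3714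
theorem F24939 : act 9 n5376 = n5376 := d44_2 (iv F17656) D5376 (iv D5376) F17656 F12591
def n5377 : Q := act 3 n3715
theorem D5377 : act 3 n3715 = n5377 := rfl
theorem F24940 : act 0 n5377 = n4206 := d2_1 D5377 (iv D4206) (iv F17657)
theorem F24941 : act 4 n5377 = n5377 := d24_2 (iv F17659) D5377 (iv D5377) F17659 F12536
theorem F24942 : act 6 n5377 = n3716 := d26_2 (iv F17660) D5377 (iv D3716)
theorem F24943 : act 9 n5377 = n5377 := d29_2 F17661 D5377 (iv D5377)
def n5378 : Q := act 2 n3716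
theorem D5378 : act 2 n3716 = n5378 := rfl
theorem F24944 : act 0 n5378 = n4207 := d1_1 D5378 (iv D4207) (iv F17662)
theorem F24945 : act 3 n5378 = n5378 := d17_2 D3716 D5378 (iv D5378) (iv D3716) F12523
theorem F24946 : act 4 n5378 = n5378 := d18_2 F17663 D5378 (iv D5378)
theorem F24947 : act 5 n5378 = n5378 := d19_2 F17664 D5378 (iv D5378)
theorem F24948 : act 7 n5378 = n5378 := d21_2 F17665 D5378 (iv D5378)
theorem F24949 : act 9 n5378 = n5378 := d23_2 F17666 D5378 (iv D5378)
def n5379 : Q := act 4 n3718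
theorem D5379 : act 4 n3718 = n5379 := rfl
theorem F24950 : act 0 n5379 = n5379 := d3_1 D5379 (iv D5379) F17674
theorem F24951 : act 1 n5379 = n3719 := d11_1 D5379 (iv D3719) (iv F17675)
theorem F24952 : act 2 n5379 = n4208 := d18_1 D5379 (iv D4208) (iv F17676)
theorem F24953 : act 5 n5379 = n5379 := d30_2 D3718 D5379 (iv D5379) (iv D3718) F12542
theorem F24954 : act 7 n5379 = n5379 := d32_2 F17677 D5379 (iv D5379)
theorem F24955 : act 8 n5379 = n5379 := d33_2 F17678 D5379 (iv D5379)
def n5380 : Q := act 6 n3718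
theorem D5380 : act 6 n3718 = n5380 := rfl
theorem F24956 : act 0 n5380 = n5380 := d5_1 D5380 (iv D5380) F17674
theorem F24957 : act 1 n5380 = n3720 := d13_1 D5380 (iv D3720) (iv F17675)
theorem F24958 : act 2 n5380 = n4209 := d20_1 D5380 (iv D4209) (iv F17676)
theorem F24959 : act 5 n5380 = n5380 := d35_1 D5380 (iv D5380) (iv D3718) F12543 D3718
theorem F24960 : act 8 n5380 = n5380 := d40_2 F17678 D5380 (iv D5380)
def n5381 : Q := act 3 n3719
theorem D5381 : act 3 n3719 = n5381 := rfl
theorem F24961 : act 0 n5381 = n3723 := d2_1 D5381 (iv D3723) (iv F17679)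
theorem F24962 : act 5 n5381 = n5381 := d25_2 F17681 D5381 (iv D5381)
theorem F24963 : act 7 n5381 = n5381 := d27_2 F17682 D5381 (iv D5381)
def n5382 : Q := act 6 n3719
theorem D5382 : act 6 n3719 = n5382 := rfl
theorem F24964 : act 0 n5382 = n3724 := d5_1 D5382 (iv D3724) (iv F17679)
theorem F24965 : act 2 n5382 = n3721 := d20_1 D5382 (iv D3721) (iv F17680)
theorem F24966 : act 4 n5382 = n3720 := d31_1 D5382 (iv D3720) D3719
theorem F24967 : act 8 n5382 = n5382 := d40_2 F17683 D5382 (iv D5382)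
def n5383 : Q := act 7 n3720
theorem D5383 : act 7 n3720 = n5383 := rfl
theorem F24968 : act 0 n5383 = n3725 := d6_1 D5383 (iv D3725) (iv F17684)
theorem F24969 : act 2 n5383 = n3722 := d21_1 D5383 (iv D3722) (iv F17685)
theorem F24970 : act 5 n5383 = n5383 := d36_1 D5383 (iv D5383) F17686
theorem F24971 : act 6 n5383 = n5383 := d39_1 D5383 (iv D5383) (iv D3720) F12548 D3720
theorem F24972 : act 8 n5383 = n5383 := d42_2 F17687 D5383 (iv D5383)
def n5384 : Q := act 5 n3721
theorem D5384 : act 5 n3721 = n5384 := rfl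
theorem F24973 : act 0 n5384 = n3726 := d4_1 D5384 (iv D3726) (iv F17688)
theorem F24974 : act 1 n5384 = n4213 := d12_1 D5384 (iv D4213) (iv F17689)
theorem F24975 : act 4 n5384 = n5384 := d30_1 D5384 (iv D5384) F17690 F12558 (iv F17690)
theorem F24976 : act 6 n5384 = n5384 := d35_2 D3721 D5384 (iv D5384) (iv D3721) F12552
theorem F24977 : act 8 n5384 = n5384 := d37_2 F17691 D5384 (iv D5384)
def n5385 : Q := act 7 n3721
theorem D5385 : act 7 n3721 = n5385 := rfl
theorem F24978 : act 0 n5385 = n3727 := d6_1 D5385 (iv D3727) (iv F17688)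
theorem F24979 : act 1 n5385 = n4214 := d14_1 D5385 (iv D4214) (iv F17689)
theorem F24980 : act 4 n5385 = n3722 := d32_1 D5385 (iv D3722) (iv F17690)
theorem F24981 : act 6 n5385 = n5385 := d39_1 D5385 (iv D5385) (iv D3721) F12553 D3721
theorem F24982 : act 8 n5385 = n5385 := d42_2 F17691 D5385 (iv D5385)
def n5386 : Q := act 6 n3723
theorem D5386 : act 6 n3723 = n5386 := rfl
theorem F24983 : act 1 n5386 = n5386 := d13_1 D5386 (iv D5386) F17698
theorem F24984 : act 3 n5386 = n3724 := d26_1 D5386 (iv D3724) D3723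
def n5387 : Q := act 8 n3723
theorem D5387 : act 8 n3723 = n5387 := rfl
theorem F24985 : act 1 n5387 = n5387 := d15_1 D5387 (iv D5387) F17698
theorem F24986 : act 3 n5387 = n5387 := d28_1 D5387 (iv D5387) (iv D3723) F12569 D3723
theorem F24987 : act 5 n5387 = n5387 := d37_1 D5387 (iv D5387) F17699
theorem F24988 : act 7 n5387 = n5387 := d42_1 D5387 (iv D5387) F17700
def n5388 : Q := act 5 n3724
theorem D5388 : act 5 n3724 = n5388 := rfl
theorem F24989 : act 1 n5388 = n5388 := d12_1 D5388 (iv D5388) F17701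
theorem F24990 : act 2 n5388 = n3726 := d19_1 D5388 (iv D3726) (iv F17702)
theorem F24991 : act 4 n5388 = n5388 := d30_1 D5388 (iv D5388) F17703 F12572 (iv F17703)
theorem F24992 : act 6 n5388 = n5388 := d35_2 D3724 D5388 (iv D5388) (iv D3724) F12567
theorem F24993 : act 8 n5388 = n5388 := d37_2 F17704 D5388 (iv D5388)
def n5389 : Q := act 7 n3724
theorem D5389 : act 7 n3724 = n5389 := rfl
theorem F24994 : act 1 n5389 = n5389 := d14_1 D5389 (iv D5389) F17701
theorem F24995 : act 2 n5389 = n3727 := d21_1 D5389 (iv D3727) (iv F17702)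
theorem F24996 : act 4 n5389 = n3725 := d32_1 D5389 (iv D3725) (iv F17703)
theorem F24997 : act 6 n5389 = n5389 := d39_1 D5389 (iv D5389) (iv D3724) F12568 D3724
theorem F24998 : act 8 n5389 = n5389 := d42_2 F17704 D5389 (iv D5389)
def n5390 : Q := act 7 n3726
theorem D5390 : act 7 n3726 = n5390 := rfl
theorem F24999 : act 1 n5390 = n3728 := d14_1 D5390 (iv D3728) (iv F17710)
theorem F25000 : act 4 n5390 = n5390 := d32_1 D5390 (iv D5390) F17711
theorem F25001 : act 5 n5390 = n3727 := d36_1 D5390 (iv D3727) D3726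
theorem F25002 : act 8 n5390 = n5390 := d42_2 F17713 D5390 (iv D5390)
def n5391 : Q := act 6 n3728
theorem D5391 : act 6 n3728 = n5391 := rfl
def n5392 : Q := act 1 n3729
theorem D5392 : act 1 n3729 = n5392 := rfl
theorem F25011 : act 4 n5392 = n3787 := d11_2 (iv F17724) D5392 (iv D3787)
theorem F25013 : act 7 n5392 = n3745 := d14_2 (iv F17726) D5392 (iv D3745)
def n5393 : Q := act 5 n3729
theorem D5393 : act 5 n3729 = n5393 := rfl
theorem F25015 : act 0 n5393 = n3733 := d4_1 D5393 (iv D3733) (iv F17723)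
theorem F25016 : act 2 n5393 = n3730 := d19_1 D5393 (iv D3730) D3729
theorem F25017 : act 7 n5393 = n3746 := d36_2 (iv F17726) D5393 (iv D3746)
theorem F25018 : act 9 n5393 = n5393 := d38_2 F17727 D5393 (iv D5393)
def n5394 : Q := act 8 n3729
theorem D5394 : act 8 n3729 = n5394 := rfl
theorem F25020 : act 2 n5394 = n3731 := d22_1 D5394 (iv D3731) D3729
theorem F25021 : act 4 n5394 = n3789 := d33_1 D5394 (iv D3789) (iv F17724)
theorem F25023 : act 7 n5394 = n3747 := d42_1 D5394 (iv D3747) (iv F17726)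
def n5395 : Q := act 4 n3730
theorem D5395 : act 4 n3730 = n5395 := rfl
theorem F25024 : act 0 n5395 = n3735 := d3_1 D5395 (iv D3735) (iv F17728)
theorem F25025 : act 1 n5395 = n4224 := d11_1 D5395 (iv D4224) (iv F17729)
theorem F25026 : act 3 n5395 = n5395 := d24_1 D5395 (iv D5395) F17730 F12600 (iv F17730)
theorem F25027 : act 5 n5395 = n3790 := d30_2 D3730 D5395 (iv D3790) (iv D2628) (iv F12594)
theorem F25028 : act 7 n5395 = n3748 := d32_2 (iv F17731) D5395 (iv D3748)
theorem F25029 : act 9 n5395 = n5395 := d34_2 F17732 D5395 (iv D5395)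
def n5396 : Q := act 6 n3730
theorem D5396 : act 6 n3730 = n5396 := rfl
theorem F25030 : act 0 n5396 = n3736 := d5_1 D5396 (iv D3736) (iv F17728)
theorem F25031 : act 1 n5396 = n4225 := d13_1 D5396 (iv D4225) (iv F17729)
theorem F25032 : act 3 n5396 = n3732 := d26_1 D5396 (iv D3732) (iv F17730)
theorem F25033 : act 5 n5396 = n5396 := d35_1 D5396 (iv D5396) (iv D3730) F12595 D3730
theorem F25034 : act 9 n5396 = n5396 := d41_2 F17732 D5396 (iv D5396)
def n5397 : Q := act 8 n3730
theorem D5397 : act 8 n3730 = n5397 := rfl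
def n5398 : Q := act 9 n3731
theorem D5398 : act 9 n3731 = n5398 := rfl
theorem F25041 : act 4 n5398 = n3793 := d34_1 D5398 (iv D3793) (iv F17735)
theorem F25043 : act 7 n5398 = n3751 := d43_1 D5398 (iv D3751) (iv F17737)
def n5399 : Q := act 7 n3732
theorem D5399 : act 7 n3732 = n5399 := rfl
theorem F25045 : act 0 n5399 = n3739 := d6_1 D5399 (iv D3739) (iv F17738)
theorem F25046 : act 1 n5399 = n4228 := d14_1 D5399 (iv D4228) (iv F17739)
theorem F25047 : act 4 n5399 = n5399 := d32_1 D5399 (iv D5399) F17740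
theorem F25048 : act 5 n5399 = n5399 := d36_1 D5399 (iv D5399) F17741
theorem F25049 : act 6 n5399 = n3752 := d39_1 D5399 (iv D3752) (iv D2598) (iv F12601) D3732
theorem F25050 : act 9 n5399 = n5399 := d43_2 F17742 D5399 (iv D5399)
def n5400 : Q := act 4 n3733
theorem D5400 : act 4 n3733 = n5400 := rfl
theorem F25051 : act 1 n5400 = n5400 := d11_1 D5400 (iv D5400) F17743
theorem F25052 : act 2 n5400 = n3735 := d18_1 D5400 (iv D3735) (iv F17744)
theorem F25053 : act 5 n5400 = n3794 := d30_2 D3733 D5400 (iv D3794) (iv D2631) (iv F12604)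
theorem F25054 : act 7 n5400 = n3753 := d32_2 (iv F17745) D5400 (iv D3753)
theorem F25055 : act 9 n5400 = n5400 := d34_2 F17746 D5400 (iv D5400)
def n5401 : Q := act 6 n3733
theorem D5401 : act 6 n3733 = n5401 := rfl
theorem F25056 : act 1 n5401 = n5401 := d13_1 D5401 (iv D5401) F17743
theorem F25057 : act 2 n5401 = n3736 := d20_1 D5401 (iv D3736) (iv F17744)
theorem F25058 : act 5 n5401 = n5401 := d35_1 D5401 (iv D5401) (iv D3733) F12605 D3733
theorem F25059 : act 9 n5401 = n5401 := d41_2 F17746 D5401 (iv D5401)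
def n5402 : Q := act 8 n3733
theorem D5402 : act 8 n3733 = n5402 := rfl
theorem F25060 : act 1 n5402 = n5402 := d15_1 D5402 (iv D5402) F17743
theorem F25061 : act 2 n5402 = n3737 := d22_1 D5402 (iv D3737) (iv F17744)
theorem F25062 : act 5 n5402 = n3734 := d37_1 D5402 (iv D3734) D3733
theorem F25063 : act 7 n5402 = n3755 := d42_1 D5402 (iv D3755) (iv F17745)
def n5403 : Q := act 3 n3734
theorem D5403 : act 3 n3734 = n5403 := rfl
theorem F25064 : act 1 n5403 = n5403 := d10_1 D5403 (iv D5403) F17747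
theorem F25065 : act 6 n5403 = n5403 := d26_2 F17750 D5403 (iv D5403)
theorem F25066 : act 7 n5403 = n3756 := d27_2 (iv F17751) D5403 (iv D3756)
def n5404 : Q := act 9 n3734
theorem D5404 : act 9 n3734 = n5404 := rfl
theorem F25069 : act 4 n5404 = n3798 := d34_1 D5404 (iv D3798) (iv F17749)
def n5405 : Q := act 6 n3735
theorem D5405 : act 6 n3735 = n5405 := rfl
theorem F25073 : act 1 n5405 = n3740 := d13_1 D5405 (iv D3740) (iv F17752)
theorem F25074 : act 3 n5405 = n5405 := d26_1 D5405 (iv D5405) F17753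
theorem F25075 : act 4 n5405 = n3736 := d31_1 D5405 (iv D3736) D3735
theorem F25076 : act 9 n5405 = n5405 := d41_2 F17756 D5405 (iv D5405)
def n5406 : Q := act 8 n3735
theorem D5406 : act 8 n3735 = n5406 := rfl
theorem F25077 : act 1 n5406 = n3741 := d15_1 D5406 (iv D3741) (iv F17752)
theorem F25078 : act 4 n5406 = n3737 := d33_1 D5406 (iv D3737) D3735
theorem F25079 : act 5 n5406 = n3800 := d37_1 D5406 (iv D3800) (iv F17754)
theorem F25080 : act 7 n5406 = n3759 := d42_1 D5406 (iv D3759) (iv F17755)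
def n5407 : Q := act 7 n3736
theorem D5407 : act 7 n3736 = n5407 := rfl
theorem F25081 : act 1 n5407 = n3742 := d14_1 D5407 (iv D3742) (iv F17757)
theorem F25082 : act 3 n5407 = n3739 := d27_1 D5407 (iv D3739) (iv F17758)
theorem F25083 : act 5 n5407 = n5407 := d36_1 D5407 (iv D5407) F17759
theorem F25084 : act 6 n5407 = n3760 := d39_1 D5407 (iv D3760) (iv D2602) (iv F12610) D3736
theorem F25085 : act 9 n5407 = n5407 := d43_2 F17760 D5407 (iv D5407)
def n5408 : Q := act 8 n3736
theorem D5408 : act 8 n3736 = n5408 := rfl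
theorem F25086 : act 1 n5408 = n3743 := d15_1 D5408 (iv D3743) (iv F17757)
theorem F25087 : act 5 n5408 = n5408 := d37_1 D5408 (iv D5408) F17759
theorem F25088 : act 6 n5408 = n3737 := d40_1 D5408 (iv D3737) D3736
def n5409 : Q := act 9 n3737
theorem D5409 : act 9 n3737 = n5409 := rfl
theorem F25089 : act 1 n5409 = n3744 := d16_1 D5409 (iv D3744) (iv F17761)
def n5410 : Q := act 5 n3740
theorem D5410 : act 5 n3740 = n5410 := rfl
theorem F25097 : act 6 n5410 = n3803 := d35_2 D3740 D5410 (iv D3803) (iv D2637) (iv F12623)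
def n5411 : Q := act 7 n3740
theorem D5411 : act 7 n3740 = n5411 := rfl
theorem F25103 : act 6 n5411 = n3763 := d39_1 D5411 (iv D3763) (iv D2606) (iv F12624) D3740
def n5412 : Q := act 8 n3740
theorem D5412 : act 8 n3740 = n5412 := rfl
theorem F25107 : act 4 n5412 = n3743 := d33_1 D5412 (iv D3743) (iv F17777)
theorem F25108 : act 6 n5412 = n3741 := d40_1 D5412 (iv D3741) D3740
def n5413 : Q := act 3 n3741
theorem D5413 : act 3 n3741 = n5413 := rfl
theorem F25110 : act 5 n5413 = n3805 := d25_2 (iv F17782) D5413 (iv D3805)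
theorem F25111 : act 7 n5413 = n3765 := d27_2 (iv F17783) D5413 (iv D3765)
def n5414 : Q := act 9 n3741
theorem D5414 : act 9 n3741 = n5414 := rfl
theorem F25114 : act 2 n5414 = n5414 := d23_1 D5414 (iv D5414) F17780
theorem F25115 : act 4 n5414 = n3744 := d34_1 D5414 (iv D3744) (iv F17781)
theorem F25116 : act 5 n5414 = n3806 := d38_1 D5414 (iv D3806) (iv F17782)
theorem F25117 : act 7 n5414 = n3766 := d43_1 D5414 (iv D3766) (iv F17783)
theorem F25118 : act 8 n5414 = n5414 := d44_1 D5414 (iv D5414) (iv D3741) F12625 D3741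
def n5415 : Q := act 8 n3742
theorem D5415 : act 8 n3742 = n5415 := rfl
theorem F25122 : act 6 n5415 = n3767 := d40_1 D5415 (iv D3767) (iv F17788)
theorem F25123 : act 7 n5415 = n3743 := d42_1 D5415 (iv D3743) D3742
def n5416 : Q := act 9 n3743
theorem D5416 : act 9 n3743 = n5416 := rfl
theorem F25125 : act 2 n5416 = n5416 := d23_1 D5416 (iv D5416) F17791
theorem F25126 : act 5 n5416 = n5416 := d38_1 D5416 (iv D5416) F17792
theorem F25127 : act 6 n5416 = n3744 := d41_1 D5416 (iv D3744) (iv F17793)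
theorem F25128 : act 8 n5416 = n5416 := d44_1 D5416 (iv D5416) (iv D3743) F12630 D3743
def n5417 : Q := act 5 n3745
theorem D5417 : act 5 n3745 = n5417 := rfl
theorem F25130 : act 1 n5417 = n3746 := d12_1 D5417 (iv D3746) D3745
theorem F25131 : act 2 n5417 = n4246 := d19_1 D5417 (iv D4246) (iv F17800)
def n5418 : Q := act 8 n3745
theorem D5418 : act 8 n3745 = n5418 := rfl
theorem F25134 : act 1 n5418 = n3747 := d15_1 D5418 (iv D3747) D3745
def n5419 : Q := act 4 n3746
theorem D5419 : act 4 n3746 = n5419 := rfl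
theorem F25138 : act 0 n5419 = n3753 := d3_1 D5419 (iv D3753) (iv F17804)
theorem F25139 : act 2 n5419 = n3748 := d18_1 D5419 (iv D3748) (iv F17805)
theorem F25140 : act 5 n5419 = n3810 := d30_2 D3746 D5419 (iv D3810) (iv D2642) (iv F12648)
theorem F25141 : act 9 n5419 = n5419 := d34_2 F17806 D5419 (iv D5419)
def n5420 : Q := act 6 n3746
theorem D5420 : act 6 n3746 = n5420 := rfl
theorem F25142 : act 0 n5420 = n3754 := d5_1 D5420 (iv D3754) (iv F17804)
theorem F25143 : act 2 n5420 = n3749 := d20_1 D5420 (iv D3749) (iv F17805)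
theorem F25144 : act 5 n5420 = n3771 := d35_1 D5420 (iv D3771) (iv D2612) (iv F12649) D3746
theorem F25145 : act 9 n5420 = n5420 := d41_2 F17806 D5420 (iv D5420)
def n5421 : Q := act 8 n3746
theorem D5421 : act 8 n3746 = n5421 := rfl
theorem F25147 : act 2 n5421 = n3750 := d22_1 D5421 (iv D3750) (iv F17805)
def n5422 : Q := act 3 n3747
theorem D5422 : act 3 n3747 = n5422 := rfl
theorem F25150 : act 6 n5422 = n3773 := d26_2 (iv F17810) D5422 (iv D3773)
def n5423 : Q := act 9 n3747
theorem D5423 : act 9 n3747 = n5423 := rfl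
theorem F25152 : act 2 n5423 = n3751 := d23_1 D5423 (iv D3751) (iv F17808)
theorem F25153 : act 4 n5423 = n3813 := d34_1 D5423 (iv D3813) (iv F17809)
theorem F25154 : act 6 n5423 = n3774 := d41_1 D5423 (iv D3774) (iv F17810)
def n5424 : Q := act 6 n3748
theorem D5424 : act 6 n3748 = n5424 := rfl
theorem F25156 : act 0 n5424 = n3758 := d5_1 D5424 (iv D3758) (iv F17811)
theorem F25157 : act 1 n5424 = n4253 := d13_1 D5424 (iv D4253) (iv F17812)
theorem F25158 : act 3 n5424 = n5424 := d26_1 D5424 (iv D5424) F17813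
theorem F25159 : act 4 n5424 = n3749 := d31_1 D5424 (iv D3749) D3748
theorem F25160 : act 5 n5424 = n5424 := d35_1 D5424 (iv D5424) F17814 F12873 (iv F17814)
theorem F25161 : act 9 n5424 = n5424 := d41_2 F17815 D5424 (iv D5424)
def n5425 : Q := act 8 n3748
theorem D5425 : act 8 n3748 = n5425 := rfl
theorem F25162 : act 0 n5425 = n3759 := d7_1 D5425 (iv D3759) (iv F17811)
theorem F25163 : act 1 n5425 = n4254 := d15_1 D5425 (iv D4254) (iv F17812)
theorem F25164 : act 4 n5425 = n3750 := d33_1 D5425 (iv D3750) D3748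
theorem F25165 : act 5 n5425 = n3814 := d37_1 D5425 (iv D3814) (iv F17814)
def n5426 : Q := act 7 n3749
theorem D5426 : act 7 n3749 = n5426 := rfl
theorem F25166 : act 0 n5426 = n3760 := d6_1 D5426 (iv D3760) (iv F17816)
theorem F25167 : act 1 n5426 = n4255 := d14_1 D5426 (iv D4255) (iv F17817)
theorem F25168 : act 3 n5426 = n3752 := d27_1 D5426 (iv D3752) (iv F17818)
theorem F25169 : act 5 n5426 = n3775 := d36_1 D5426 (iv D3775) (iv F17819)
theorem F25170 : act 9 n5426 = n5426 := d43_2 F17820 D5426 (iv D5426)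
def n5427 : Q := act 8 n3749
theorem D5427 : act 8 n3749 = n5427 := rfl
def n5428 : Q := act 9 n3750
theorem D5428 : act 9 n3750 = n5428 := rfl
def n5429 : Q := act 3 n3753
theorem D5429 : act 3 n3753 = n5429 := rfl
theorem F25179 : act 1 n5429 = n5429 := d10_1 D5429 (iv D5429) F17834
theorem F25180 : act 2 n5429 = n5429 := d17_1 D5429 (iv D5429) F17835 F12672 (iv F17835)
theorem F25181 : act 5 n5429 = n3816 := d25_2 (iv F17836) D5429 (iv D3816)
theorem F25182 : act 9 n5429 = n5429 := d29_2 F17837 D5429 (iv D5429)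
def n5430 : Q := act 6 n3753
theorem D5430 : act 6 n3753 = n5430 := rfl
theorem F25183 : act 1 n5430 = n5430 := d13_1 D5430 (iv D5430) F17834
theorem F25184 : act 2 n5430 = n3758 := d20_1 D5430 (iv D3758) (iv F17835)
theorem F25185 : act 4 n5430 = n3754 := d31_1 D5430 (iv D3754) D3753
theorem F25186 : act 5 n5430 = n5430 := d35_1 D5430 (iv D5430) F17836 F12887 (iv F17836)
theorem F25187 : act 9 n5430 = n5430 := d41_2 F17837 D5430 (iv D5430)
def n5431 : Q := act 8 n3753
theorem D5431 : act 8 n3753 = n5431 := rfl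
theorem F25188 : act 1 n5431 = n5431 := d15_1 D5431 (iv D5431) F17834
theorem F25189 : act 2 n5431 = n3759 := d22_1 D5431 (iv D3759) (iv F17835)
theorem F25190 : act 4 n5431 = n3755 := d33_1 D5431 (iv D3755) D3753
theorem F25191 : act 5 n5431 = n3817 := d37_1 D5431 (iv D3817) (iv F17836)
def n5432 : Q := act 7 n3754
theorem D5432 : act 7 n3754 = n5432 := rfl
theorem F25192 : act 1 n5432 = n5432 := d14_1 D5432 (iv D5432) F17838
theorem F25193 : act 2 n5432 = n3760 := d21_1 D5432 (iv D3760) (iv F17839)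
theorem F25194 : act 5 n5432 = n3778 := d36_1 D5432 (iv D3778) (iv F17840)
theorem F25195 : act 9 n5432 = n5432 := d43_2 F17841 D5432 (iv D5432)
def n5433 : Q := act 8 n3754
theorem D5433 : act 8 n3754 = n5433 := rfl
theorem F25196 : act 1 n5433 = n5433 := d15_1 D5433 (iv D5433) F17838
theorem F25197 : act 2 n5433 = n3761 := d22_1 D5433 (iv D3761) (iv F17839)
theorem F25198 : act 5 n5433 = n3779 := d37_1 D5433 (iv D3779) (iv F17840)
theorem F25199 : act 6 n5433 = n3755 := d40_1 D5433 (iv D3755) D3754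
def n5434 : Q := act 3 n3755
theorem D5434 : act 3 n3755 = n5434 := rfl
theorem F25200 : act 1 n5434 = n5434 := d10_1 D5434 (iv D5434) F17842
theorem F25201 : act 5 n5434 = n3756 := d25_2 (iv F17844) D5434 (iv D3756)
def n5435 : Q := act 9 n3755
theorem D5435 : act 9 n3755 = n5435 := rfl
def n5436 : Q := act 4 n3756
theorem D5436 : act 4 n3756 = n5436 := rfl
theorem F25206 : act 1 n5436 = n5436 := d11_1 D5436 (iv D5436) F17845
theorem F25207 : act 3 n5436 = n3820 := d24_1 D5436 (iv D3820) (iv D2649) (iv F12669) D3756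
theorem F25208 : act 6 n5436 = n3782 := d31_2 (iv F17846) D5436 (iv D3782)
def n5438 : Q := act 7 n3758
theorem D5438 : act 7 n3758 = n5438 := rfl
theorem F25212 : act 1 n5438 = n3763 := d14_1 D5438 (iv D3763) (iv F17852)
theorem F25213 : act 3 n5438 = n5438 := d27_1 D5438 (iv D5438) F17853
theorem F25214 : act 4 n5438 = n3760 := d32_1 D5438 (iv D3760) (iv F17854)
theorem F25215 : act 5 n5438 = n5438 := d36_1 D5438 (iv D5438) F17855
theorem F25216 : act 9 n5438 = n5438 := d43_2 F17856 D5438 (iv D5438)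
def n5439 : Q := act 8 n3758
theorem D5439 : act 8 n3758 = n5439 := rfl
theorem F25217 : act 1 n5439 = n3764 := d15_1 D5439 (iv D3764) (iv F17852)
theorem F25218 : act 4 n5439 = n3761 := d33_1 D5439 (iv D3761) (iv F17854)
theorem F25219 : act 5 n5439 = n5439 := d37_1 D5439 (iv D5439) F17855
theorem F25220 : act 6 n5439 = n3759 := d40_1 D5439 (iv D3759) D3758
def n5440 : Q := act 3 n3759
theorem D5440 : act 3 n3759 = n5440 := rfl
theorem F25221 : act 1 n5440 = n3765 := d10_1 D5440 (iv D3765) (iv F17857)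
theorem F25222 : act 5 n5440 = n3822 := d25_2 (iv F17859) D5440 (iv D3822)
theorem F25223 : act 8 n5440 = n5440 := d28_2 D3759 D5440 (iv D5440) (iv D3759) F12672
def n5441 : Q := act 9 n3759
theorem D5441 : act 9 n3759 = n5441 := rfl
theorem F25226 : act 5 n5441 = n3823 := d38_1 D5441 (iv D3823) (iv F17859)
def n5442 : Q := act 8 n3760
theorem D5442 : act 8 n3760 = n5442 := rfl
theorem F25228 : act 1 n5442 = n3767 := d15_1 D5442 (iv D3767) (iv F17860)
theorem F25229 : act 5 n5442 = n3784 := d37_1 D5442 (iv D3784) (iv F17862)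
theorem F25230 : act 7 n5442 = n3761 := d42_1 D5442 (iv D3761) D3760
def n5443 : Q := act 9 n3761
theorem D5443 : act 9 n3761 = n5443 := rfl
theorem F25231 : act 1 n5443 = n3768 := d16_1 D5443 (iv D3768) (iv F17864)
theorem F25232 : act 5 n5443 = n3785 := d38_1 D5443 (iv D3785) (iv F17865)
def n5444 : Q := act 8 n3763
theorem D5444 : act 8 n3763 = n5444 := rfl
theorem F25237 : act 4 n5444 = n3767 := d33_1 D5444 (iv D3767) (iv F17873)
theorem F25239 : act 7 n5444 = n3764 := d42_1 D5444 (iv D3764) D3763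
def n5445 : Q := act 3 n3764
theorem D5445 : act 3 n3764 = n5445 := rfl
theorem F25242 : act 6 n5445 = n3765 := d26_2 (iv F17880) D5445 (iv D3765)
def n5446 : Q := act 9 n3764
theorem D5446 : act 9 n3764 = n5446 := rfl
theorem F25245 : act 2 n5446 = n5446 := d23_1 D5446 (iv D5446) F17877
theorem F25246 : act 4 n5446 = n3768 := d34_1 D5446 (iv D3768) (iv F17878)
theorem F25247 : act 5 n5446 = n5446 := d38_1 D5446 (iv D5446) F17879
theorem F25248 : act 6 n5446 = n3766 := d41_1 D5446 (iv D3766) (iv F17880)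
theorem F25249 : act 8 n5446 = n5446 := d44_1 D5446 (iv D5446) (iv D3764) F12694 D3764
def n5447 : Q := act 2 n3765
theorem D5447 : act 2 n3765 = n5447 := rfl
theorem F25252 : act 5 n5447 = n3824 := d19_2 (iv F17882) D5447 (iv D3824)
def n5448 : Q := act 9 n3765
theorem D5448 : act 9 n3765 = n5448 := rfl
theorem F25255 : act 3 n5448 = n3766 := d29_1 D5448 (iv D3766) D3765
theorem F25256 : act 5 n5448 = n3825 := d38_1 D5448 (iv D3825) (iv F17882)
def n5449 : Q := act 9 n3767
theorem D5449 : act 9 n3767 = n5449 := rfl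
theorem F25257 : act 0 n5449 = n4278 := d8_1 D5449 (iv D4278) (iv F17889)
theorem F25258 : act 2 n5449 = n5449 := d23_1 D5449 (iv D5449) F17890
theorem F25259 : act 5 n5449 = n3786 := d38_1 D5449 (iv D3786) (iv F17891)
theorem F25260 : act 7 n5449 = n3768 := d43_1 D5449 (iv D3768) (iv F17892)
theorem F25261 : act 8 n5449 = n5449 := d44_1 D5449 (iv D5449) (iv D3767) F12703 D3767
def n5452 : Q := act 3 n3770
theorem D5452 : act 3 n3770 = n5452 := rfl
theorem F25274 : act 1 n5452 = n3773 := d10_1 D5452 (iv D3773) (iv F17905)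
def n5453 : Q := act 9 n3770
theorem D5453 : act 9 n3770 = n5453 := rfl
theorem F25277 : act 1 n5453 = n3774 := d16_1 D5453 (iv D3774) (iv F17905)
def n5454 : Q := act 7 n3771
theorem D5454 : act 7 n3771 = n5454 := rfl
theorem F25282 : act 0 n5454 = n3778 := d6_1 D5454 (iv D3778) (iv F17909)
theorem F25283 : act 2 n5454 = n3775 := d21_1 D5454 (iv D3775) (iv F17910)
theorem F25284 : act 4 n5454 = n5454 := d32_1 D5454 (iv D5454) F17911
theorem F25285 : act 6 n5454 = n5454 := d39_1 D5454 (iv D5454) (iv D3771) F12720 D3771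
theorem F25286 : act 9 n5454 = n5454 := d43_2 F17912 D5454 (iv D5454)
def n5455 : Q := act 8 n3771
theorem D5455 : act 8 n3771 = n5455 := rfl
def n5456 : Q := act 3 n3772
theorem D5456 : act 3 n3772 = n5456 := rfl
theorem F25292 : act 5 n5456 = n3773 := d25_2 (iv F17916) D5456 (iv D3773)
def n5457 : Q := act 9 n3772
theorem D5457 : act 9 n3772 = n5457 := rfl
theorem F25297 : act 5 n5457 = n3774 := d38_1 D5457 (iv D3774) (iv F17916)
def n5458 : Q := act 4 n3773
theorem D5458 : act 4 n3773 = n5458 := rfl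
theorem F25300 : act 0 n5458 = n3782 := d3_1 D5458 (iv D3782) (iv F17918)
theorem F25301 : act 3 n5458 = n3828 := d24_1 D5458 (iv D3828) (iv D2656) (iv F12724) D3773
def n5459 : Q := act 9 n3773
theorem D5459 : act 9 n3773 = n5459 := rfl
theorem F25303 : act 0 n5459 = n3783 := d8_1 D5459 (iv D3783) (iv F17918)
def n5460 : Q := act 8 n3775
theorem D5460 : act 8 n3775 = n5460 := rfl
theorem F25310 : act 7 n5460 = n3776 := d42_1 D5460 (iv D3776) D3775
def n5462 : Q := act 8 n3778
theorem D5462 : act 8 n3778 = n5462 := rfl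
theorem F25316 : act 1 n5462 = n5462 := d15_1 D5462 (iv D5462) F17941
theorem F25317 : act 2 n5462 = n3784 := d22_1 D5462 (iv D3784) (iv F17942)
theorem F25318 : act 4 n5462 = n5462 := d33_1 D5462 (iv D5462) F17943
theorem F25319 : act 6 n5462 = n5462 := d40_1 D5462 (iv D5462) F17944
theorem F25320 : act 7 n5462 = n3779 := d42_1 D5462 (iv D3779) D3778
def n5463 : Q := act 3 n3779
theorem D5463 : act 3 n3779 = n5463 := rfl
theorem F25321 : act 1 n5463 = n5463 := d10_1 D5463 (iv D5463) F17946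
theorem F25322 : act 6 n5463 = n3780 := d26_2 (iv F17949) D5463 (iv D3780)
def n5464 : Q := act 9 n3779
theorem D5464 : act 9 n3779 = n5464 := rfl
def n5465 : Q := act 4 n3780
theorem D5465 : act 4 n3780 = n5465 := rfl
theorem F25328 : act 1 n5465 = n5465 := d11_1 D5465 (iv D5465) F17950
theorem F25329 : act 3 n5465 = n5465 := d24_1 D5465 (iv D5465) (iv D3780) F12752 D3780
theorem F25330 : act 7 n5465 = n5465 := d32_2 F17952 D5465 (iv D5465)
def n5466 : Q := act 9 n3780
theorem D5466 : act 9 n3780 = n5466 := rfl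
theorem F25333 : act 5 n5466 = n3783 := d38_1 D5466 (iv D3783) (iv F17951)
def n5467 : Q := act 5 n3782
theorem D5467 : act 5 n3782 = n5467 := rfl
theorem F25335 : act 1 n5467 = n5467 := d12_1 D5467 (iv D5467) F17959
theorem F25336 : act 3 n5467 = n3830 := d25_1 D5467 (iv D3830) (iv F17960)
theorem F25337 : act 7 n5467 = n5467 := d36_2 F17961 D5467 (iv D5467)
def n5468 : Q := act 9 n3782
theorem D5468 : act 9 n3782 = n5468 := rfl
theorem F25339 : act 3 n5468 = n3831 := d29_1 D5468 (iv D3831) (iv F17960)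
theorem F25340 : act 4 n5468 = n3783 := d34_1 D5468 (iv D3783) D3782
def n5470 : Q := act 9 n3784
theorem D5470 : act 9 n3784 = n5470 := rfl
theorem F25345 : act 1 n5470 = n3786 := d16_1 D5470 (iv D3786) (iv F17965)
def n5471 : Q := act 5 n3787
theorem D5471 : act 5 n3787 = n5471 := rfl
theorem F25351 : act 1 n5471 = n3788 := d12_1 D5471 (iv D3788) D3787
def n5473 : Q := act 4 n3788
theorem D5473 : act 4 n3788 = n5473 := rfl
theorem F25361 : act 0 n5473 = n3794 := d3_1 D5473 (iv D3794) (iv F17985)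
theorem F25362 : act 2 n5473 = n3790 := d18_1 D5473 (iv D3790) (iv F17986)
theorem F25363 : act 7 n5473 = n3810 := d32_2 (iv F17988) D5473 (iv D3810)
theorem F25364 : act 9 n5473 = n5473 := d34_2 F17989 D5473 (iv D5473)
def n5474 : Q := act 6 n3788
theorem D5474 : act 6 n3788 = n5474 := rfl
theorem F25365 : act 0 n5474 = n3795 := d5_1 D5474 (iv D3795) (iv F17985)
theorem F25366 : act 2 n5474 = n3791 := d20_1 D5474 (iv D3791) (iv F17986)
theorem F25367 : act 3 n5474 = n5474 := d26_1 D5474 (iv D5474) F17987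
theorem F25368 : act 5 n5474 = n5474 := d35_1 D5474 (iv D5474) (iv D3788) F12787 D3788
theorem F25369 : act 7 n5474 = n5474 := d39_2 (iv F17988) D5474 (iv D5474) F17988 F12865
theorem F25370 : act 9 n5474 = n5474 := d41_2 F17989 D5474 (iv D5474)
def n5475 : Q := act 8 n3788
theorem D5475 : act 8 n3788 = n5475 := rfl
theorem F25373 : act 5 n5475 = n3789 := d37_1 D5475 (iv D3789) D3788
def n5477 : Q := act 9 n3789
theorem D5477 : act 9 n3789 = n5477 := rfl
def n5478 : Q := act 6 n3790
theorem D5478 : act 6 n3790 = n5478 := rfl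
theorem F25385 : act 0 n5478 = n3799 := d5_1 D5478 (iv D3799) (iv F17994)
theorem F25386 : act 1 n5478 = n4307 := d13_1 D5478 (iv D4307) (iv F17995)
theorem F25387 : act 3 n5478 = n5478 := d26_1 D5478 (iv D5478) F17996
theorem F25388 : act 4 n5478 = n3791 := d31_1 D5478 (iv D3791) D3790
theorem F25389 : act 7 n5478 = n5478 := d39_2 (iv F17997) D5478 (iv D5478) F17997 F12873
theorem F25390 : act 9 n5478 = n5478 := d41_2 F17998 D5478 (iv D5478)
def n5479 : Q := act 8 n3790
theorem D5479 : act 8 n3790 = n5479 := rfl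
theorem F25391 : act 0 n5479 = n3800 := d7_1 D5479 (iv D3800) (iv F17994)
def n5480 : Q := act 8 n3791
theorem D5480 : act 8 n3791 = n5480 := rfl
theorem F25399 : act 6 n5480 = n3792 := d40_1 D5480 (iv D3792) D3791
def n5481 : Q := act 9 n3792
theorem D5481 : act 9 n3792 = n5481 := rfl
theorem F25404 : act 5 n5481 = n3793 := d38_1 D5481 (iv D3793) (iv F18008)
def n5482 : Q := act 3 n3794
theorem D5482 : act 3 n3794 = n5482 := rfl
theorem F25407 : act 1 n5482 = n5482 := d10_1 D5482 (iv D5482) F18016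
theorem F25408 : act 2 n5482 = n5482 := d17_1 D5482 (iv D5482) F18017 F12818 (iv F18017)
theorem F25409 : act 4 n5482 = n5482 := d24_2 D3794 D5482 (iv D5482) (iv D3794) F12810
theorem F25410 : act 7 n5482 = n3816 := d27_2 (iv F18018) D5482 (iv D3816)
theorem F25411 : act 9 n5482 = n5482 := d29_2 F18019 D5482 (iv D5482)
def n5483 : Q := act 6 n3794
theorem D5483 : act 6 n3794 = n5483 := rfl
theorem F25412 : act 1 n5483 = n5483 := d13_1 D5483 (iv D5483) F18016
theorem F25413 : act 2 n5483 = n3799 := d20_1 D5483 (iv D3799) (iv F18017)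
theorem F25414 : act 4 n5483 = n3795 := d31_1 D5483 (iv D3795) D3794
theorem F25415 : act 7 n5483 = n5483 := d39_2 (iv F18018) D5483 (iv D5483) F18018 F12887
theorem F25416 : act 9 n5483 = n5483 := d41_2 F18019 D5483 (iv D5483)
def n5484 : Q := act 8 n3794
theorem D5484 : act 8 n3794 = n5484 := rfl
theorem F25417 : act 1 n5484 = n5484 := d15_1 D5484 (iv D5484) F18016
theorem F25418 : act 2 n5484 = n3800 := d22_1 D5484 (iv D3800) (iv F18017)
theorem F25419 : act 4 n5484 = n3796 := d33_1 D5484 (iv D3796) D3794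
theorem F25420 : act 7 n5484 = n3817 := d42_1 D5484 (iv D3817) (iv F18018)
def n5485 : Q := act 8 n3795
theorem D5485 : act 8 n3795 = n5485 := rfl
theorem F25421 : act 1 n5485 = n5485 := d15_1 D5485 (iv D5485) F18020
theorem F25422 : act 2 n5485 = n3801 := d22_1 D5485 (iv D3801) (iv F18021)
theorem F25423 : act 5 n5485 = n5485 := d37_1 D5485 (iv D5485) F18023
theorem F25424 : act 6 n5485 = n3796 := d40_1 D5485 (iv D3796) D3795
theorem F25425 : act 7 n5485 = n5485 := d42_1 D5485 (iv D5485) F18024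
def n5486 : Q := act 3 n3796
theorem D5486 : act 3 n3796 = n5486 := rfl
theorem F25426 : act 1 n5486 = n5486 := d10_1 D5486 (iv D5486) F18026
theorem F25427 : act 2 n5486 = n5486 := d17_1 D5486 (iv D5486) F18027 F12827 (iv F18027)
theorem F25428 : act 5 n5486 = n3797 := d25_2 (iv F18028) D5486 (iv D3797)
theorem F25429 : act 7 n5486 = n3818 := d27_2 (iv F18029) D5486 (iv D3818)
theorem F25430 : act 8 n5486 = n5486 := d28_2 D3796 D5486 (iv D5486) (iv D3796) F12810
def n5488 : Q := act 4 n3797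
theorem D5488 : act 4 n3797 = n5488 := rfl
theorem F25436 : act 1 n5488 = n5488 := d11_1 D5488 (iv D5488) F18030
theorem F25437 : act 2 n5488 = n5488 := d18_1 D5488 (iv D5488) F18031
theorem F25438 : act 6 n5488 = n5488 := d31_2 F18032 D5488 (iv D5488)
theorem F25439 : act 7 n5488 = n3820 := d32_2 (iv F18033) D5488 (iv D3820)
theorem F25440 : act 8 n5488 = n5488 := d33_2 F18034 D5488 (iv D5488)
def n5490 : Q := act 5 n3799
theorem D5490 : act 5 n3799 = n5490 := rfl
theorem F25446 : act 1 n5490 = n3803 := d12_1 D5490 (iv D3803) (iv F18040)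
theorem F25447 : act 3 n5490 = n5490 := d25_1 D5490 (iv D5490) F18041
theorem F25448 : act 4 n5490 = n5490 := d30_1 D5490 (iv D5490) F18042 F12823 (iv F18042)
theorem F25449 : act 7 n5490 = n5490 := d36_2 F18043 D5490 (iv D5490)
theorem F25450 : act 9 n5490 = n5490 := d38_2 F18044 D5490 (iv D5490)
def n5491 : Q := act 8 n3799
theorem D5491 : act 8 n3799 = n5491 := rfl
theorem F25451 : act 1 n5491 = n3804 := d15_1 D5491 (iv D3804) (iv F18040)
theorem F25452 : act 4 n5491 = n3801 := d33_1 D5491 (iv D3801) (iv F18042)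
theorem F25453 : act 6 n5491 = n3800 := d40_1 D5491 (iv D3800) D3799
theorem F25454 : act 7 n5491 = n5491 := d42_1 D5491 (iv D5491) F18043
def n5492 : Q := act 3 n3800
theorem D5492 : act 3 n3800 = n5492 := rfl
theorem F25455 : act 1 n5492 = n3805 := d10_1 D5492 (iv D3805) (iv F18045)
theorem F25456 : act 4 n5492 = n5492 := d24_2 (iv F18046) D5492 (iv D5492) F18046 F12827
theorem F25457 : act 7 n5492 = n3822 := d27_2 (iv F18047) D5492 (iv D3822)
theorem F25458 : act 8 n5492 = n5492 := d28_2 D3800 D5492 (iv D5492) (iv D3800) F12818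
def n5493 : Q := act 9 n3800
theorem D5493 : act 9 n3800 = n5493 := rfl
theorem F25459 : act 1 n5493 = n3806 := d16_1 D5493 (iv D3806) (iv F18045)
def n5494 : Q := act 9 n3801
theorem D5494 : act 9 n3801 = n5494 := rfl
theorem F25463 : act 1 n5494 = n3807 := d16_1 D5494 (iv D3807) (iv F18048)
theorem F25466 : act 6 n5494 = n3802 := d41_1 D5494 (iv D3802) (iv F18051)
def n5495 : Q := act 8 n3803
theorem D5495 : act 8 n3803 = n5495 := rfl
theorem F25469 : act 0 n5495 = n4324 := d7_1 D5495 (iv D4324) (iv F18058)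
theorem F25472 : act 5 n5495 = n3804 := d37_1 D5495 (iv D3804) D3803
def n5496 : Q := act 3 n3804
theorem D5496 : act 3 n3804 = n5496 := rfl
theorem F25476 : act 6 n5496 = n3805 := d26_2 (iv F18067) D5496 (iv D3805)
def n5497 : Q := act 9 n3804
theorem D5497 : act 9 n3804 = n5497 := rfl
theorem F25480 : act 2 n5497 = n5497 := d23_1 D5497 (iv D5497) F18065
theorem F25481 : act 4 n5497 = n3807 := d34_1 D5497 (iv D3807) (iv F18066)
theorem F25482 : act 6 n5497 = n3806 := d41_1 D5497 (iv D3806) (iv F18067)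
theorem F25483 : act 7 n5497 = n5497 := d43_1 D5497 (iv D5497) F18068
theorem F25484 : act 8 n5497 = n5497 := d44_1 D5497 (iv D5497) (iv D3804) F12840 D3804
def n5498 : Q := act 2 n3805
theorem D5498 : act 2 n3805 = n5498 := rfl
theorem F25488 : act 7 n5498 = n3824 := d21_2 (iv F18071) D5498 (iv D3824)
def n5499 : Q := act 9 n3805
theorem D5499 : act 9 n3805 = n5499 := rfl
theorem F25491 : act 3 n5499 = n3806 := d29_1 D5499 (iv D3806) D3805
theorem F25492 : act 4 n5499 = n5499 := d34_1 D5499 (iv D5499) F18070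
theorem F25493 : act 7 n5499 = n3825 := d43_1 D5499 (iv D3825) (iv F18071)
def n5504 : Q := act 3 n3810
theorem D5504 : act 3 n3810 = n5504 := rfl
theorem F25513 : act 0 n5504 = n3816 := d2_1 D5504 (iv D3816) (iv F18095)
theorem F25514 : act 2 n5504 = n5504 := d17_1 D5504 (iv D5504) F18096 F12872 (iv F18096)
theorem F25515 : act 4 n5504 = n5504 := d24_2 D3810 D5504 (iv D5504) (iv D3810) F12864
theorem F25516 : act 6 n5504 = n5504 := d26_2 F18097 D5504 (iv D5504)
theorem F25517 : act 9 n5504 = n5504 := d29_2 F18098 D5504 (iv D5504)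
def n5505 : Q := act 8 n3810
theorem D5505 : act 8 n3810 = n5505 := rfl
theorem F25518 : act 0 n5505 = n3817 := d7_1 D5505 (iv D3817) (iv F18095)
def n5507 : Q := act 9 n3811
theorem D5507 : act 9 n3811 = n5507 := rfl
theorem F25529 : act 5 n5507 = n3813 := d38_1 D5507 (iv D3813) (iv F18101)
def n5510 : Q := act 3 n3814
theorem D5510 : act 3 n3814 = n5510 := rfl
theorem F25540 : act 0 n5510 = n3822 := d2_1 D5510 (iv D3822) (iv F18111)
def n5511 : Q := act 9 n3814
theorem D5511 : act 9 n3814 = n5511 := rfl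
def n5512 : Q := act 8 n3816
theorem D5512 : act 8 n3816 = n5512 := rfl
theorem F25550 : act 1 n5512 = n5512 := d15_1 D5512 (iv D5512) F18121
theorem F25551 : act 2 n5512 = n5512 := d22_1 D5512 (iv D5512) F18122
theorem F25552 : act 4 n5512 = n5512 := d33_1 D5512 (iv D5512) F18123
theorem F25553 : act 6 n5512 = n5512 := d40_1 D5512 (iv D5512) F18124
def n5513 : Q := act 3 n3817
theorem D5513 : act 3 n3817 = n5513 := rfl
theorem F25554 : act 1 n5513 = n5513 := d10_1 D5513 (iv D5513) F18126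
theorem F25555 : act 6 n5513 = n5513 := d26_2 F18129 D5513 (iv D5513)
def n5514 : Q := act 9 n3817
theorem D5514 : act 9 n3817 = n5514 := rfl
def n5515 : Q := act 4 n3818
theorem D5515 : act 4 n3818 = n5515 := rfl
theorem F25561 : act 1 n5515 = n5515 := d11_1 D5515 (iv D5515) F18130
theorem F25562 : act 2 n5515 = n5515 := d18_1 D5515 (iv D5515) F18131
theorem F25563 : act 6 n5515 = n5515 := d31_2 F18133 D5515 (iv D5515)
theorem F25564 : act 8 n5515 = n5515 := d33_2 F18134 D5515 (iv D5515)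
def n5516 : Q := act 9 n3818
theorem D5516 : act 9 n3818 = n5516 := rfl
theorem F25568 : act 5 n5516 = n3821 := d38_1 D5516 (iv D3821) (iv F18132)
def n5517 : Q := act 5 n3820
theorem D5517 : act 5 n3820 = n5517 := rfl
theorem F25570 : act 1 n5517 = n5517 := d12_1 D5517 (iv D5517) F18140
theorem F25571 : act 2 n5517 = n5517 := d19_1 D5517 (iv D5517) F18141
theorem F25572 : act 8 n5517 = n5517 := d37_2 F18143 D5517 (iv D5517)
def n5520 : Q := act 2 n3822
theorem D5520 : act 2 n3822 = n5520 := rfl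
theorem F25582 : act 4 n5520 = n5520 := d18_2 F18149 D5520 (iv D5520)
theorem F25583 : act 6 n5520 = n5520 := d20_2 F18150 D5520 (iv D5520)
theorem F25584 : act 8 n5520 = n5520 := d22_2 F18151 D5520 (iv D5520)
def n5521 : Q := act 9 n3822
theorem D5521 : act 9 n3822 = n5521 := rfl
theorem F25585 : act 1 n5521 = n3825 := d16_1 D5521 (iv D3825) (iv F18148)
def n5522 : Q := act 1 n3824
theorem D5522 : act 1 n3824 = n5522 := rfl
theorem F25589 : act 3 n5522 = n5522 := d10_2 F18157 D5522 (iv D5522)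
theorem F25590 : act 4 n5522 = n5522 := d11_2 F18158 D5522 (iv D5522)
theorem F25591 : act 6 n5522 = n5522 := d13_2 F18159 D5522 (iv D5522)
theorem F25592 : act 8 n5522 = n5522 := d15_2 F18160 D5522 (iv D5522)
def n5523 : Q := act 9 n3824
theorem D5523 : act 9 n3824 = n5523 := rfl
theorem F25594 : act 2 n5523 = n3825 := d23_1 D5523 (iv D3825) D3824
theorem F25595 : act 3 n5523 = n5523 := d29_1 D5523 (iv D5523) F18157
theorem F25596 : act 4 n5523 = n5523 := d34_1 D5523 (iv D5523) F18158
theorem F25597 : act 6 n5523 = n5523 := d41_1 D5523 (iv D5523) F18159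
def n5524 : Q := act 8 n3825
theorem D5524 : act 8 n3825 = n5524 := rfl
theorem F25599 : act 3 n5524 = n5524 := d28_1 D5524 (iv D5524) F18162 F12917 (iv F18162)
theorem F25600 : act 4 n5524 = n5524 := d33_1 D5524 (iv D5524) F18163
theorem F25601 : act 6 n5524 = n5524 := d40_1 D5524 (iv D5524) F18164
theorem F25602 : act 9 n5524 = n5524 := d44_2 D3825 D5524 (iv D5524) (iv D3825) F12912
def n5528 : Q := act 5 n3828
theorem D5528 : act 5 n3828 = n5528 := rfl
def n5529 : Q := act 9 n3828
theorem D5529 : act 9 n3828 = n5529 := rfl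
def n5531 : Q := act 6 n3830
theorem D5531 : act 6 n3830 = n5531 := rfl
theorem F25633 : act 1 n5531 = n5531 := d13_1 D5531 (iv D5531) F18185
theorem F25634 : act 2 n5531 = n5531 := d20_1 D5531 (iv D5531) F18186
theorem F25635 : act 4 n5531 = n5531 := d31_1 D5531 (iv D5531) F18187
theorem F25636 : act 8 n5531 = n5531 := d40_2 F18189 D5531 (iv D5531)
def n5532 : Q := act 9 n3830
theorem D5532 : act 9 n3830 = n5532 := rfl
theorem F25640 : act 5 n5532 = n3831 := d38_1 D5532 (iv D3831) D3830
def n5534 : Q := act 2 n3833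
theorem D5534 : act 2 n3833 = n5534 := rfl
theorem F25647 : act 0 n5534 = n5534 := d1_1 D5534 (iv D5534) F18200
theorem F25648 : act 1 n5534 = n5534 := d9_1 D5534 (iv D5534) F18201 F12955 (iv F18201)
theorem F25649 : act 3 n5534 = n5534 := d17_2 D3833 D5534 (iv D5534) (iv D3833) F12944
theorem F25650 : act 4 n5534 = n5534 := d18_2 F18202 D5534 (iv D5534)
theorem F25651 : act 6 n5534 = n3855 := d20_2 (iv F18203) D5534 (iv D3855)
theorem F25652 : act 7 n5534 = n5534 := d21_2 F18204 D5534 (iv D5534)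
def n5535 : Q := act 5 n3833
theorem D5535 : act 5 n3833 = n5535 := rfl
theorem F25653 : act 0 n5535 = n5535 := d4_1 D5535 (iv D5535) F18200
theorem F25654 : act 1 n5535 = n3837 := d12_1 D5535 (iv D3837) (iv F18201)
theorem F25655 : act 3 n5535 = n3834 := d25_1 D5535 (iv D3834) D3833
theorem F25656 : act 6 n5535 = n5535 := d35_2 (iv F18203) D5535 (iv D5535) F18203 F13018
theorem F25657 : act 7 n5535 = n5535 := d36_2 F18204 D5535 (iv D5535)
def n5536 : Q := act 8 n3833
theorem D5536 : act 8 n3833 = n5536 := rfl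
theorem F25658 : act 0 n5536 = n5536 := d7_1 D5536 (iv D5536) F18200
theorem F25659 : act 1 n5536 = n3838 := d15_1 D5536 (iv D3838) (iv F18201)
theorem F25660 : act 3 n5536 = n5536 := d28_1 D5536 (iv D5536) (iv D3833) F12947 D3833
theorem F25661 : act 4 n5536 = n5536 := d33_1 D5536 (iv D5536) F18202
theorem F25662 : act 6 n5536 = n3856 := d40_1 D5536 (iv D3856) (iv F18203)
theorem F25663 : act 7 n5536 = n5536 := d42_1 D5536 (iv D5536) F18204
def n5537 : Q := act 9 n3833
theorem D5537 : act 9 n3833 = n5537 := rfl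
theorem F25665 : act 1 n5537 = n3839 := d16_1 D5537 (iv D3839) (iv F18201)
theorem F25666 : act 3 n5537 = n3835 := d29_1 D5537 (iv D3835) D3833
def n5538 : Q := act 9 n3834
theorem D5538 : act 9 n3834 = n5538 := rfl
theorem F25671 : act 1 n5538 = n3840 := d16_1 D5538 (iv D3840) (iv F18206)
theorem F25674 : act 5 n5538 = n3835 := d38_1 D5538 (iv D3835) D3834
def n5539 : Q := act 8 n3835
theorem D5539 : act 8 n3835 = n5539 := rfl
theorem F25681 : act 6 n5539 = n3858 := d40_1 D5539 (iv D3858) (iv F18216)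
def n5541 : Q := act 4 n3837
theorem D5541 : act 4 n3837 = n5541 := rfl
theorem F25691 : act 2 n5541 = n5541 := d18_1 D5541 (iv D5541) F18225
theorem F25692 : act 3 n5541 = n5541 := d24_1 D5541 (iv D5541) F18226 F12960 (iv F18226)
theorem F25693 : act 5 n5541 = n5541 := d30_2 D3837 D5541 (iv D5541) (iv D3837) F12956
theorem F25694 : act 6 n5541 = n5541 := d31_2 F18227 D5541 (iv D5541)
theorem F25695 : act 7 n5541 = n5541 := d32_2 F18228 D5541 (iv D5541)
def n5542 : Q := act 8 n3837
theorem D5542 : act 8 n3837 = n5542 := rfl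
theorem F25696 : act 2 n5542 = n5542 := d22_1 D5542 (iv D5542) F18225
theorem F25697 : act 3 n5542 = n5542 := d28_1 D5542 (iv D5542) F18226 F12963 (iv F18226)
theorem F25698 : act 5 n5542 = n3838 := d37_1 D5542 (iv D3838) D3837
theorem F25699 : act 6 n5542 = n5542 := d40_1 D5542 (iv D5542) F18227
theorem F25700 : act 7 n5542 = n5542 := d42_1 D5542 (iv D5542) F18228
def n5543 : Q := act 9 n3837
theorem D5543 : act 9 n3837 = n5543 := rfl
theorem F25701 : act 2 n5543 = n5543 := d23_1 D5543 (iv D5543) F18225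
theorem F25702 : act 3 n5543 = n3840 := d29_1 D5543 (iv D3840) (iv F18226)
theorem F25703 : act 5 n5543 = n3839 := d38_1 D5543 (iv D3839) D3837
theorem F25704 : act 6 n5543 = n5543 := d41_1 D5543 (iv D5543) F18227
theorem F25705 : act 7 n5543 = n5543 := d43_1 D5543 (iv D5543) F18228
def n5544 : Q := act 9 n3838
theorem D5544 : act 9 n3838 = n5544 := rfl
def n5545 : Q := act 8 n3839
theorem D5545 : act 8 n3839 = n5545 := rfl
def n5546 : Q := act 8 n3840
theorem D5546 : act 8 n3840 = n5546 := rfl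
theorem F25715 : act 2 n5546 = n3843 := d22_1 D5546 (iv D3843) (iv F18239)
theorem F25717 : act 5 n5546 = n3841 := d37_1 D5546 (iv D3841) (iv F18241)
theorem F25720 : act 9 n5546 = n5546 := d44_2 D3840 D5546 (iv D5546) (iv D3840) F12963
def n5547 : Q := act 3 n3841
theorem D5547 : act 3 n3841 = n5547 := rfl
theorem F25721 : act 6 n5547 = n3862 := d26_2 (iv F18246) D5547 (iv D3862)
def n5550 : Q := act 3 n3843
theorem D5550 : act 3 n3843 = n5550 := rfl
theorem F25734 : act 1 n5550 = n5550 := d10_1 D5550 (iv D5550) F18254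
theorem F25735 : act 5 n5550 = n3844 := d25_2 (iv F18256) D5550 (iv D3844)
theorem F25736 : act 6 n5550 = n5550 := d26_2 F18257 D5550 (iv D5550)
theorem F25737 : act 7 n5550 = n5550 := d27_2 F18258 D5550 (iv D5550)
theorem F25738 : act 8 n5550 = n5550 := d28_2 D3843 D5550 (iv D5550) (iv D3843) F12974
theorem F25739 : act 9 n5550 = n5550 := d29_2 F18259 D5550 (iv D5550)
def n5551 : Q := act 2 n3844
theorem D5551 : act 2 n3844 = n5551 := rfl
theorem F25740 : act 6 n5551 = n3865 := d20_2 (iv F18261) D5551 (iv D3865)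
def n5552 : Q := act 4 n3844
theorem D5552 : act 4 n3844 = n5552 := rfl
theorem F25744 : act 1 n5552 = n5552 := d11_1 D5552 (iv D5552) F18260
theorem F25745 : act 3 n5552 = n3846 := d24_1 D5552 (iv D3846) (iv D2668) (iv F12980) D3844
theorem F25746 : act 6 n5552 = n3866 := d31_2 (iv F18261) D5552 (iv D3866)
theorem F25747 : act 7 n5552 = n5552 := d32_2 F18262 D5552 (iv D5552)
theorem F25748 : act 8 n5552 = n5552 := d33_2 F18263 D5552 (iv D5552)
theorem F25749 : act 9 n5552 = n5552 := d34_2 F18264 D5552 (iv D5552)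
def n5553 : Q := act 1 n3845
theorem D5553 : act 1 n3845 = n5553 := rfl
theorem F25752 : act 6 n5553 = n3867 := d13_2 (iv F18266) D5553 (iv D3867)
theorem F25754 : act 8 n5553 = n3847 := d15_2 (iv F18268) D5553 (iv D3847)
def n5554 : Q := act 4 n3845
theorem D5554 : act 4 n3845 = n5554 := rfl
theorem F25756 : act 2 n5554 = n3846 := d18_1 D5554 (iv D3846) D3845
theorem F25757 : act 6 n5554 = n3868 := d31_2 (iv F18266) D5554 (iv D3868)
theorem F25759 : act 8 n5554 = n3848 := d33_2 (iv F18268) D5554 (iv D3848)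
def n5555 : Q := act 5 n3846
theorem D5555 : act 5 n3846 = n5555 := rfl
theorem F25761 : act 1 n5555 = n5555 := d12_1 D5555 (iv D5555) F18270
theorem F25762 : act 4 n5555 = n5555 := d30_1 D5555 (iv D5555) (iv D3846) F12985 D3846
theorem F25763 : act 7 n5555 = n5555 := d36_2 F18272 D5555 (iv D5555)
theorem F25764 : act 8 n5555 = n3849 := d37_2 (iv F18273) D5555 (iv D3849)
theorem F25765 : act 9 n5555 = n5555 := d38_2 F18274 D5555 (iv D5555)
def n5557 : Q := act 4 n3847
theorem D5557 : act 4 n3847 = n5557 := rfl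
theorem F25772 : act 1 n5557 = n3848 := d11_1 D5557 (iv D3848) D3847
theorem F25773 : act 2 n5557 = n5557 := d18_1 D5557 (iv D5557) F18275
theorem F25774 : act 6 n5557 = n3871 := d31_2 (iv F18278) D5557 (iv D3871)
theorem F25776 : act 9 n5557 = n3851 := d34_2 (iv F18280) D5557 (iv D3851)
def n5558 : Q := act 3 n3848
theorem D5558 : act 3 n3848 = n5558 := rfl
theorem F25777 : act 2 n5558 = n5558 := d17_1 D5558 (iv D5558) F18281 F12996 (iv F18281)
theorem F25778 : act 4 n5558 = n5558 := d24_2 D3848 D5558 (iv D5558) (iv D3848) F12990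
theorem F25779 : act 6 n5558 = n3872 := d26_2 (iv F18282) D5558 (iv D3872)
theorem F25780 : act 7 n5558 = n5558 := d27_2 F18283 D5558 (iv D5558)
theorem F25781 : act 9 n5558 = n3852 := d29_2 (iv F18284) D5558 (iv D3852)
def n5559 : Q := act 5 n3848
theorem D5559 : act 5 n3848 = n5559 := rfl
theorem F25782 : act 2 n5559 = n3849 := d19_1 D5559 (iv D3849) (iv F18281)
theorem F25783 : act 4 n5559 = n5559 := d30_1 D5559 (iv D5559) (iv D3848) F12991 D3848
theorem F25784 : act 7 n5559 = n5559 := d36_2 F18283 D5559 (iv D5559)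
theorem F25785 : act 9 n5559 = n3853 := d38_2 (iv F18284) D5559 (iv D3853)
def n5560 : Q := act 6 n3849
theorem D5560 : act 6 n3849 = n5560 := rfl
theorem F25786 : act 1 n5560 = n5560 := d13_1 D5560 (iv D5560) F18285
theorem F25787 : act 3 n5560 = n5560 := d26_1 D5560 (iv D5560) F18286
theorem F25788 : act 4 n5560 = n5560 := d31_1 D5560 (iv D5560) F18287
theorem F25789 : act 5 n5560 = n3874 := d35_1 D5560 (iv D3874) (iv D2686) (iv F12997) D3849
theorem F25790 : act 9 n5560 = n3854 := d41_2 (iv F18289) D5560 (iv D3854)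
def n5561 : Q := act 4 n3850
theorem D5561 : act 4 n3850 = n5561 := rfl
theorem F25791 : act 0 n5561 = n3851 := d3_1 D5561 (iv D3851) D3850
theorem F25793 : act 6 n5561 = n3875 := d31_2 (iv F18293) D5561 (iv D3875)
def n5562 : Q := act 3 n3851
theorem D5562 : act 3 n3851 = n5562 := rfl
theorem F25796 : act 1 n5562 = n3852 := d10_1 D5562 (iv D3852) (iv F18296)
theorem F25797 : act 4 n5562 = n5562 := d24_2 D3851 D5562 (iv D5562) (iv D3851) F13001
theorem F25798 : act 6 n5562 = n3876 := d26_2 (iv F18298) D5562 (iv D3876)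
def n5563 : Q := act 5 n3851
theorem D5563 : act 5 n3851 = n5563 := rfl
theorem F25800 : act 1 n5563 = n3853 := d12_1 D5563 (iv D3853) (iv F18296)
def n5564 : Q := act 5 n3852
theorem D5564 : act 5 n3852 = n5564 := rfl
theorem F25806 : act 3 n5564 = n3853 := d25_1 D5564 (iv D3853) D3852
def n5565 : Q := act 8 n3852
theorem D5565 : act 8 n3852 = n5565 := rfl
theorem F25811 : act 6 n5565 = n3879 := d40_1 D5565 (iv D3879) (iv F18303)
def n5566 : Q := act 6 n3853
theorem D5566 : act 6 n3853 = n5566 := rfl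
theorem F25813 : act 2 n5566 = n3854 := d20_1 D5566 (iv D3854) (iv F18305)
theorem F25815 : act 5 n5566 = n3880 := d35_1 D5566 (iv D3880) (iv D2690) (iv F13007) D3853
def n5567 : Q := act 7 n3854
theorem D5567 : act 7 n3854 = n5567 := rfl
theorem F25820 : act 5 n5567 = n3881 := d36_1 D5567 (iv D3881) (iv F18312)
def n5568 : Q := act 8 n3855
theorem D5568 : act 8 n3855 = n5568 := rfl
theorem F25823 : act 0 n5568 = n5568 := d7_1 D5568 (iv D5568) F18314
theorem F25824 : act 1 n5568 = n5568 := d15_1 D5568 (iv D5568) F18315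
theorem F25825 : act 2 n5568 = n3856 := d22_1 D5568 (iv D3856) D3855
theorem F25826 : act 4 n5568 = n5568 := d33_1 D5568 (iv D5568) F18317
theorem F25827 : act 5 n5568 = n5568 := d37_1 D5568 (iv D5568) F18318
theorem F25828 : act 7 n5568 = n3882 := d42_1 D5568 (iv D3882) (iv F18319)
def n5569 : Q := act 9 n3855
theorem D5569 : act 9 n3855 = n5569 := rfl
theorem F25831 : act 2 n5569 = n3857 := d23_1 D5569 (iv D3857) D3855
def n5570 : Q := act 9 n3856
theorem D5570 : act 9 n3856 = n5570 := rfl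
def n5571 : Q := act 8 n3857
theorem D5571 : act 8 n3857 = n5571 := rfl
def n5572 : Q := act 3 n3858
theorem D5572 : act 3 n3858 = n5572 := rfl
def n5574 : Q := act 4 n3859
theorem D5574 : act 4 n3859 = n5574 := rfl
def n5575 : Q := act 8 n3860
theorem D5575 : act 8 n3860 = n5575 := rfl
theorem F25867 : act 9 n5575 = n3861 := d44_2 D3860 D5575 (iv D3861) (iv D2678) D2677
def n5576 : Q := act 3 n3861
theorem D5576 : act 3 n3861 = n5576 := rfl
theorem F25870 : act 8 n5576 = n3862 := d28_2 D3861 D5576 (iv D3862) (iv D2679) (iv F13038)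
def n5578 : Q := act 4 n3862
theorem D5578 : act 4 n3862 = n5578 := rfl
theorem F25875 : act 3 n5578 = n3864 := d24_1 D5578 (iv D3864) (iv D2680) (iv F13043) D3862
def n5581 : Q := act 5 n3864
theorem D5581 : act 5 n3864 = n5581 := rfl
theorem F25887 : act 4 n5581 = n3926 := d30_1 D5581 (iv D3926) (iv D2721) (iv F13047) D3864
def n5583 : Q := act 4 n3865
theorem D5583 : act 4 n3865 = n5583 := rfl
theorem F25896 : act 2 n5583 = n3866 := d18_1 D5583 (iv D3866) D3865
def n5584 : Q := act 5 n3866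
theorem D5584 : act 5 n3866 = n5584 := rfl
theorem F25900 : act 1 n5584 = n5584 := d12_1 D5584 (iv D5584) F18369
theorem F25901 : act 3 n5584 = n3869 := d25_1 D5584 (iv D3869) (iv F18370)
theorem F25902 : act 4 n5584 = n5584 := d30_1 D5584 (iv D5584) (iv D3866) F13052 D3866
theorem F25903 : act 7 n5584 = n3898 := d36_2 (iv F18371) D5584 (iv D3898)
theorem F25904 : act 8 n5584 = n5584 := d37_2 F18372 D5584 (iv D5584)
theorem F25905 : act 9 n5584 = n5584 := d38_2 F18373 D5584 (iv D5584)
def n5585 : Q := act 0 n3867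
theorem D5585 : act 0 n3867 = n5585 := rfl
theorem F25907 : act 5 n5585 = n3927 := d4_2 (iv F18375) D5585 (iv D3927)
def n5586 : Q := act 4 n3867
theorem D5586 : act 4 n3867 = n5586 := rfl
theorem F25913 : act 7 n5586 = n3900 := d32_2 (iv F18376) D5586 (iv D3900)
theorem F25914 : act 8 n5586 = n3871 := d33_2 (iv F18377) D5586 (iv D3871)
def n5587 : Q := act 3 n3868
theorem D5587 : act 3 n3868 = n5587 := rfl
def n5588 : Q := act 5 n3868
theorem D5588 : act 5 n3868 = n5588 := rfl
theorem F25918 : act 2 n5588 = n3869 := d19_1 D5588 (iv D3869) (iv F18379)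
theorem F25919 : act 4 n5588 = n3930 := d30_1 D5588 (iv D3930) (iv D2723) (iv F13056) D3868
theorem F25920 : act 7 n5588 = n3902 := d36_2 (iv F18380) D5588 (iv D3902)
theorem F25921 : act 8 n5588 = n3873 := d37_2 (iv F18381) D5588 (iv D3873)
def n5589 : Q := act 6 n3869
theorem D5589 : act 6 n3869 = n5589 := rfl
theorem F25923 : act 1 n5589 = n5589 := d13_1 D5589 (iv D5589) F18383
theorem F25924 : act 4 n5589 = n3931 := d31_1 D5589 (iv D3931) (iv F18384)
theorem F25925 : act 8 n5589 = n3874 := d40_2 (iv F18386) D5589 (iv D3874)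
theorem F25926 : act 9 n5589 = n5589 := d41_2 F18387 D5589 (iv D5589)
def n5592 : Q := act 5 n3871
theorem D5592 : act 5 n3871 = n5592 := rfl
theorem F25935 : act 1 n5592 = n3873 := d12_1 D5592 (iv D3873) (iv F18393)
theorem F25939 : act 9 n5592 = n3877 := d38_2 (iv F18396) D5592 (iv D3877)
def n5593 : Q := act 5 n3872
theorem D5593 : act 5 n3872 = n5593 := rfl
theorem F25940 : act 2 n5593 = n5593 := d19_1 D5593 (iv D5593) F18397
theorem F25941 : act 3 n5593 = n3873 := d25_1 D5593 (iv D3873) D3872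
theorem F25942 : act 7 n5593 = n3907 := d36_2 (iv F18399) D5593 (iv D3907)
theorem F25943 : act 9 n5593 = n3878 := d38_2 (iv F18400) D5593 (iv D3878)
def n5594 : Q := act 8 n3872
theorem D5594 : act 8 n3872 = n5594 := rfl
def n5595 : Q := act 6 n3873
theorem D5595 : act 6 n3873 = n5595 := rfl
theorem F25947 : act 2 n5595 = n3874 := d20_1 D5595 (iv D3874) (iv F18401)
theorem F25948 : act 4 n5595 = n3937 := d31_1 D5595 (iv D3937) (iv F18402)
theorem F25949 : act 9 n5595 = n3880 := d41_2 (iv F18404) D5595 (iv D3880)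
def n5596 : Q := act 7 n3874
theorem D5596 : act 7 n3874 = n5596 := rfl
theorem F25950 : act 1 n5596 = n5596 := d14_1 D5596 (iv D5596) F18405
theorem F25951 : act 3 n5596 = n5596 := d27_1 D5596 (iv D5596) F18406
theorem F25952 : act 4 n5596 = n3938 := d32_1 D5596 (iv D3938) (iv F18407)
theorem F25953 : act 6 n5596 = n3910 := d39_1 D5596 (iv D3910) (iv D2711) (iv F13075) D3874
theorem F25954 : act 9 n5596 = n3881 := d43_2 (iv F18408) D5596 (iv D3881)
def n5597 : Q := act 3 n3875
theorem D5597 : act 3 n3875 = n5597 := rfl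
theorem F25955 : act 0 n5597 = n3876 := d2_1 D5597 (iv D3876) (iv F18409)
theorem F25957 : act 7 n5597 = n3911 := d27_2 (iv F18411) D5597 (iv D3911)
def n5598 : Q := act 5 n3875
theorem D5598 : act 5 n3875 = n5598 := rfl
theorem F25958 : act 0 n5598 = n3877 := d4_1 D5598 (iv D3877) (iv F18409)
theorem F25960 : act 4 n5598 = n3940 := d30_1 D5598 (iv D3940) (iv D2730) (iv F13079) D3875
def n5599 : Q := act 2 n3876
theorem D5599 : act 2 n3876 = n5599 := rfl
theorem F25966 : act 7 n5599 = n3913 := d21_2 (iv F18415) D5599 (iv D3913)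
def n5600 : Q := act 5 n3876
theorem D5600 : act 5 n3876 = n5600 := rfl
theorem F25968 : act 3 n5600 = n3877 := d25_1 D5600 (iv D3877) D3876
theorem F25969 : act 7 n5600 = n3914 := d36_2 (iv F18415) D5600 (iv D3914)
def n5601 : Q := act 8 n3876
theorem D5601 : act 8 n3876 = n5601 := rfl
theorem F25970 : act 1 n5601 = n3879 := d15_1 D5601 (iv D3879) (iv F18413)
theorem F25971 : act 3 n5601 = n5601 := d28_1 D5601 (iv D5601) (iv D3876) F13085 D3876
theorem F25972 : act 4 n5601 = n5601 := d33_1 D5601 (iv D5601) F18414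
theorem F25973 : act 7 n5601 = n3915 := d42_1 D5601 (iv D3915) (iv F18415)
def n5602 : Q := act 6 n3877
theorem D5602 : act 6 n3877 = n5602 := rfl
theorem F25974 : act 1 n5602 = n3880 := d13_1 D5602 (iv D3880) (iv F18416)
def n5603 : Q := act 4 n3878
theorem D5603 : act 4 n3878 = n5603 := rfl
theorem F25979 : act 3 n5603 = n3945 := d24_1 D5603 (iv D3945) F13284 (iv F13090) (iv F18422)
theorem F25981 : act 7 n5603 = n3917 := d32_2 (iv F18423) D5603 (iv D3917)
def n5604 : Q := act 6 n3878
theorem D5604 : act 6 n3878 = n5604 := rfl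
theorem F25983 : act 3 n5604 = n3880 := d26_1 D5604 (iv D3880) (iv F18422)
def n5605 : Q := act 8 n3878
theorem D5605 : act 8 n3878 = n5605 := rfl
theorem F25986 : act 5 n5605 = n3879 := d37_1 D5605 (iv D3879) D3878
theorem F25987 : act 7 n5605 = n3919 := d42_1 D5605 (iv D3919) (iv F18423)
def n5606 : Q := act 9 n3879
theorem D5606 : act 9 n3879 = n5606 := rfl
def n5607 : Q := act 7 n3880
theorem D5607 : act 7 n3880 = n5607 := rfl
theorem F25992 : act 2 n5607 = n3881 := d21_1 D5607 (iv D3881) (iv F18428)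
theorem F25993 : act 4 n5607 = n3949 := d32_1 D5607 (iv D3949) (iv F18429)
def n5608 : Q := act 3 n3882
theorem D5608 : act 3 n3882 = n5608 := rfl
theorem F25996 : act 0 n5608 = n5608 := d2_1 D5608 (iv D5608) F18436
theorem F25997 : act 1 n5608 = n5608 := d10_1 D5608 (iv D5608) F18437
theorem F25998 : act 2 n5608 = n5608 := d17_1 D5608 (iv D5608) F18438 F13105 (iv F18438)
theorem F25999 : act 5 n5608 = n5608 := d25_2 F18440 D5608 (iv D5608)
theorem F26000 : act 6 n5608 = n5608 := d26_2 F18441 D5608 (iv D5608)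
theorem F26001 : act 8 n5608 = n5608 := d28_2 D3882 D5608 (iv D5608) (iv D3882) F13099
def n5609 : Q := act 9 n3882
theorem D5609 : act 9 n3882 = n5609 := rfl
def n5610 : Q := act 8 n3883
theorem D5610 : act 8 n3883 = n5610 := rfl
theorem F26010 : act 2 n5610 = n3885 := d22_1 D5610 (iv D3885) (iv F18444)
def n5611 : Q := act 8 n3884
theorem D5611 : act 8 n3884 = n5611 := rfl
theorem F26019 : act 9 n5611 = n3885 := d44_2 D3884 D5611 (iv D3885) (iv D2694) D2693
def n5612 : Q := act 3 n3885
theorem D5612 : act 3 n3885 = n5612 := rfl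
theorem F26024 : act 8 n5612 = n3886 := d28_2 D3885 D5612 (iv D3886) (iv D2695) (iv F13111)
def n5614 : Q := act 4 n3886
theorem D5614 : act 4 n3886 = n5614 := rfl
theorem F26032 : act 3 n5614 = n3888 := d24_1 D5614 (iv D3888) (iv D2696) (iv F13118) D3886
def n5617 : Q := act 5 n3888
theorem D5617 : act 5 n3888 = n5617 := rfl
theorem F26048 : act 4 n5617 = n3952 := d30_1 D5617 (iv D3952) (iv D2738) (iv F13124) D3888
def n5623 : Q := act 5 n3892
theorem D5623 : act 5 n3892 = n5623 := rfl
theorem F26069 : act 3 n5623 = n3895 := d25_1 D5623 (iv D3895) (iv F18488)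
def n5631 : Q := act 3 n3897
theorem D5631 : act 3 n3897 = n5631 := rfl
theorem F26102 : act 2 n5631 = n3901 := d17_1 D5631 (iv D3901) F13162 (iv F13153) (iv F18508)
def n5632 : Q := act 5 n3897
theorem D5632 : act 5 n3897 = n5632 := rfl
theorem F26105 : act 2 n5632 = n3898 := d19_1 D5632 (iv D3898) (iv F18508)
def n5633 : Q := act 6 n3898
theorem D5633 : act 6 n3898 = n5633 := rfl
theorem F26109 : act 1 n5633 = n5633 := d13_1 D5633 (iv D5633) F18512
theorem F26110 : act 3 n5633 = n3903 := d26_1 D5633 (iv D3903) (iv F18513)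
theorem F26111 : act 4 n5633 = n5633 := d31_1 D5633 (iv D5633) F18514
theorem F26112 : act 5 n5633 = n5633 := d35_1 D5633 (iv D5633) (iv D3898) F13154 D3898
theorem F26113 : act 8 n5633 = n5633 := d40_2 F18515 D5633 (iv D5633)
theorem F26114 : act 9 n5633 = n5633 := d41_2 F18516 D5633 (iv D5633)
def n5636 : Q := act 5 n3900
theorem D5636 : act 5 n3900 = n5636 := rfl
theorem F26126 : act 8 n5636 = n3906 := d37_2 (iv F18525) D5636 (iv D3906)
def n5637 : Q := act 5 n3901
theorem D5637 : act 5 n3901 = n5637 := rfl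
theorem F26128 : act 3 n5637 = n3902 := d25_1 D5637 (iv D3902) D3901
def n5639 : Q := act 6 n3902
theorem D5639 : act 6 n3902 = n5639 := rfl
theorem F26132 : act 2 n5639 = n3903 := d20_1 D5639 (iv D3903) (iv F18529)
theorem F26135 : act 8 n5639 = n3909 := d40_2 (iv F18531) D5639 (iv D3909)
def n5640 : Q := act 7 n3903
theorem D5640 : act 7 n3903 = n5640 := rfl
theorem F26137 : act 1 n5640 = n5640 := d14_1 D5640 (iv D5640) F18533
theorem F26138 : act 4 n5640 = n3964 := d32_1 D5640 (iv D3964) (iv F18534)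
theorem F26139 : act 5 n5640 = n5640 := d36_1 D5640 (iv D5640) F18535
theorem F26140 : act 8 n5640 = n3910 := d42_2 (iv F18536) D5640 (iv D3910)
theorem F26141 : act 9 n5640 = n5640 := d43_2 F18537 D5640 (iv D5640)
def n5644 : Q := act 5 n3905
theorem D5644 : act 5 n3905 = n5644 := rfl
theorem F26157 : act 9 n5644 = n3914 := d38_2 (iv F18545) D5644 (iv D3914)
def n5646 : Q := act 6 n3906
theorem D5646 : act 6 n3906 = n5646 := rfl
theorem F26161 : act 1 n5646 = n3909 := d13_1 D5646 (iv D3909) (iv F18546)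
theorem F26165 : act 9 n5646 = n3916 := d41_2 (iv F18549) D5646 (iv D3916)
def n5647 : Q := act 4 n3907
theorem D5647 : act 4 n3907 = n5647 := rfl
theorem F26166 : act 2 n5647 = n5647 := d18_1 D5647 (iv D5647) F18550
theorem F26167 : act 3 n5647 = n3971 := d24_1 D5647 (iv D3971) F13353 (iv F13184) (iv F18551)
theorem F26168 : act 5 n5647 = n5647 := d30_2 D3907 D5647 (iv D5647) (iv D3907) F13180
theorem F26169 : act 9 n5647 = n3917 := d34_2 (iv F18552) D5647 (iv D3917)
def n5648 : Q := act 6 n3907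
theorem D5648 : act 6 n3907 = n5648 := rfl
theorem F26170 : act 2 n5648 = n5648 := d20_1 D5648 (iv D5648) F18550
theorem F26171 : act 3 n5648 = n3909 := d26_1 D5648 (iv D3909) (iv F18551)
theorem F26172 : act 5 n5648 = n5648 := d35_1 D5648 (iv D5648) (iv D3907) F13181 D3907
theorem F26173 : act 9 n5648 = n3918 := d41_2 (iv F18552) D5648 (iv D3918)
def n5649 : Q := act 8 n3907
theorem D5649 : act 8 n3907 = n5649 := rfl
theorem F26175 : act 5 n5649 = n3908 := d37_1 D5649 (iv D3908) D3907
def n5651 : Q := act 7 n3909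
theorem D5651 : act 7 n3909 = n5651 := rfl
theorem F26180 : act 2 n5651 = n3910 := d21_1 D5651 (iv D3910) (iv F18556)
theorem F26181 : act 4 n5651 = n3975 := d32_1 D5651 (iv D3975) (iv F18557)
theorem F26182 : act 5 n5651 = n5651 := d36_1 D5651 (iv D5651) F18558
theorem F26183 : act 9 n5651 = n3921 := d43_2 (iv F18559) D5651 (iv D3921)
def n5652 : Q := act 2 n3911
theorem D5652 : act 2 n3911 = n5652 := rfl
theorem F26184 : act 0 n5652 = n3913 := d1_1 D5652 (iv D3913) (iv F18565)
def n5653 : Q := act 5 n3911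
theorem D5653 : act 5 n3911 = n5653 := rfl
theorem F26188 : act 0 n5653 = n3914 := d4_1 D5653 (iv D3914) (iv F18565)
theorem F26189 : act 3 n5653 = n3912 := d25_1 D5653 (iv D3912) D3911
def n5654 : Q := act 8 n3911
theorem D5654 : act 8 n3911 = n5654 := rfl
theorem F26190 : act 0 n5654 = n3915 := d7_1 D5654 (iv D3915) (iv F18565)
def n5655 : Q := act 6 n3912
theorem D5655 : act 6 n3912 = n5655 := rfl
theorem F26194 : act 0 n5655 = n3916 := d5_1 D5655 (iv D3916) (iv F18568)
theorem F26196 : act 4 n5655 = n3979 := d31_1 D5655 (iv D3979) (iv F18570)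
def n5656 : Q := act 5 n3913
theorem D5656 : act 5 n3913 = n5656 := rfl
theorem F26200 : act 2 n5656 = n3914 := d19_1 D5656 (iv D3914) D3913
def n5657 : Q := act 8 n3913
theorem D5657 : act 8 n3913 = n5657 := rfl
theorem F26202 : act 1 n5657 = n5657 := d15_1 D5657 (iv D5657) F18572
theorem F26203 : act 2 n5657 = n3915 := d22_1 D5657 (iv D3915) D3913
theorem F26204 : act 4 n5657 = n5657 := d33_1 D5657 (iv D5657) F18574
theorem F26205 : act 6 n5657 = n5657 := d40_1 D5657 (iv D5657) F18575
def n5658 : Q := act 4 n3914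
theorem D5658 : act 4 n3914 = n5658 := rfl
theorem F26206 : act 1 n5658 = n3917 := d11_1 D5658 (iv D3917) (iv F18576)
theorem F26207 : act 3 n5658 = n3982 := d24_1 D5658 (iv D3982) F13376 (iv F13200) (iv F18577)
theorem F26208 : act 5 n5658 = n5658 := d30_2 D3914 D5658 (iv D5658) (iv D3914) F13196
def n5659 : Q := act 6 n3914
theorem D5659 : act 6 n3914 = n5659 := rfl
theorem F26210 : act 3 n5659 = n3916 := d26_1 D5659 (iv D3916) (iv F18577)
def n5660 : Q := act 8 n3914
theorem D5660 : act 8 n3914 = n5660 := rfl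
theorem F26212 : act 1 n5660 = n3919 := d15_1 D5660 (iv D3919) (iv F18576)
theorem F26213 : act 3 n5660 = n5660 := d28_1 D5660 (iv D5660) F18577 F13201 (iv F18577)
theorem F26214 : act 5 n5660 = n3915 := d37_1 D5660 (iv D3915) D3914
def n5661 : Q := act 9 n3915
theorem D5661 : act 9 n3915 = n5661 := rfl
def n5662 : Q := act 7 n3916
theorem D5662 : act 7 n3916 = n5662 := rfl
theorem F26219 : act 1 n5662 = n3921 := d14_1 D5662 (iv D3921) (iv F18582)
def n5663 : Q := act 6 n3917
theorem D5663 : act 6 n3917 = n5663 := rfl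
theorem F26225 : act 3 n5663 = n3987 := d26_1 D5663 (iv D3987) (iv F18588)
def n5664 : Q := act 8 n3917
theorem D5664 : act 8 n3917 = n5664 := rfl
theorem F26228 : act 4 n5664 = n3919 := d33_1 D5664 (iv D3919) D3917
def n5665 : Q := act 7 n3918
theorem D5665 : act 7 n3918 = n5665 := rfl
theorem F26231 : act 3 n5665 = n3921 := d27_1 D5665 (iv D3921) (iv F18591)
def n5666 : Q := act 8 n3918
theorem D5666 : act 8 n3918 = n5666 := rfl
theorem F26236 : act 6 n5666 = n3919 := d40_1 D5666 (iv D3919) D3918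
def n5667 : Q := act 9 n3919
theorem D5667 : act 9 n3919 = n5667 := rfl
theorem F26239 : act 5 n5667 = n3920 := d38_1 D5667 (iv D3920) (iv F18595)
def n5670 : Q := act 5 n3923
theorem D5670 : act 5 n3923 = n5670 := rfl
theorem F26253 : act 1 n5670 = n3926 := d12_1 D5670 (iv D3926) (iv F18611)
def n5671 : Q := act 0 n3924
theorem D5671 : act 0 n3924 = n5671 := rfl
theorem F26260 : act 7 n5671 = n3953 := d6_2 (iv F18619) D5671 (iv D3953)
def n5672 : Q := act 4 n3924
theorem D5672 : act 4 n3924 = n5672 := rfl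
theorem F26265 : act 7 n5672 = n3954 := d32_2 (iv F18619) D5672 (iv D3954)
def n5673 : Q := act 3 n3925
theorem D5673 : act 3 n3925 = n5673 := rfl
theorem F26269 : act 4 n5673 = n3929 := d24_2 D3925 D5673 (iv D3929) (iv D2723) (iv F13223)
theorem F26271 : act 7 n5673 = n3955 := d27_2 (iv F18624) D5673 (iv D3955)
def n5674 : Q := act 5 n3925
theorem D5674 : act 5 n3925 = n5674 := rfl
theorem F26273 : act 2 n5674 = n3926 := d19_1 D5674 (iv D3926) (iv F18622)
def n5676 : Q := act 4 n3927
theorem D5676 : act 4 n3927 = n5676 := rfl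
theorem F26281 : act 0 n5676 = n3928 := d3_1 D5676 (iv D3928) D3927
theorem F26284 : act 7 n5676 = n3958 := d32_2 (iv F18633) D5676 (iv D3958)
def n5677 : Q := act 3 n3928
theorem D5677 : act 3 n3928 = n5677 := rfl
theorem F26287 : act 1 n5677 = n3929 := d10_1 D5677 (iv D3929) (iv F18636)
theorem F26289 : act 7 n5677 = n3959 := d27_2 (iv F18639) D5677 (iv D3959)
def n5678 : Q := act 5 n3928
theorem D5678 : act 5 n3928 = n5678 := rfl
theorem F26293 : act 7 n5678 = n3960 := d36_2 (iv F18639) D5678 (iv D3960)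
theorem F26294 : act 8 n5678 = n3934 := d37_2 (iv F18640) D5678 (iv D3934)
def n5679 : Q := act 5 n3929
theorem D5679 : act 5 n3929 = n5679 := rfl
theorem F26297 : act 3 n5679 = n3930 := d25_1 D5679 (iv D3930) D3929
theorem F26298 : act 7 n5679 = n3961 := d36_2 (iv F18644) D5679 (iv D3961)
def n5680 : Q := act 8 n3929
theorem D5680 : act 8 n3929 = n5680 := rfl
def n5681 : Q := act 6 n3930
theorem D5681 : act 6 n3930 = n5681 := rfl
theorem F26304 : act 2 n5681 = n3931 := d20_1 D5681 (iv D3931) (iv F18646)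
theorem F26306 : act 8 n5681 = n3937 := d40_2 (iv F18648) D5681 (iv D3937)
def n5682 : Q := act 7 n3931
theorem D5682 : act 7 n3931 = n5682 := rfl
theorem F26308 : act 1 n5682 = n5682 := d14_1 D5682 (iv D5682) F18650
theorem F26309 : act 3 n5682 = n5682 := d27_1 D5682 (iv D5682) F18651
theorem F26310 : act 5 n5682 = n5682 := d36_1 D5682 (iv D5682) F18652
theorem F26311 : act 6 n5682 = n3964 := d39_1 D5682 (iv D3964) (iv D2746) (iv F13245) D3931
theorem F26312 : act 8 n5682 = n3938 := d42_2 (iv F18653) D5682 (iv D3938)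
theorem F26313 : act 9 n5682 = n5682 := d43_2 F18654 D5682 (iv D5682)
def n5683 : Q := act 3 n3932
theorem D5683 : act 3 n3932 = n5683 := rfl
theorem F26314 : act 0 n5683 = n3933 := d2_1 D5683 (iv D3933) (iv F18655)
theorem F26317 : act 7 n5683 = n3965 := d27_2 (iv F18658) D5683 (iv D3965)
theorem F26318 : act 9 n5683 = n3939 := d29_2 (iv F18659) D5683 (iv D3939)
def n5685 : Q := act 2 n3933
theorem D5685 : act 2 n3933 = n5685 := rfl
theorem F26323 : act 1 n5685 = n4058 := d9_1 D5685 (iv D4058) F13580 (iv F13258) (iv F18660)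
theorem F26327 : act 7 n5685 = n3967 := d21_2 (iv F18663) D5685 (iv D3967)
theorem F26328 : act 9 n5685 = n3941 := d23_2 (iv F18664) D5685 (iv D3941)
def n5686 : Q := act 5 n3933
theorem D5686 : act 5 n3933 = n5686 := rfl
theorem F26329 : act 1 n5686 = n3935 := d12_1 D5686 (iv D3935) (iv F18660)
theorem F26330 : act 3 n5686 = n3934 := d25_1 D5686 (iv D3934) D3933
theorem F26331 : act 7 n5686 = n3968 := d36_2 (iv F18663) D5686 (iv D3968)
theorem F26332 : act 9 n5686 = n3942 := d38_2 (iv F18664) D5686 (iv D3942)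
def n5687 : Q := act 8 n3933
theorem D5687 : act 8 n3933 = n5687 := rfl
theorem F26333 : act 1 n5687 = n3936 := d15_1 D5687 (iv D3936) (iv F18660)
theorem F26336 : act 7 n5687 = n3969 := d42_1 D5687 (iv D3969) (iv F18663)
def n5688 : Q := act 6 n3934
theorem D5688 : act 6 n3934 = n5688 := rfl
theorem F26340 : act 9 n5688 = n3944 := d41_2 (iv F18668) D5688 (iv D3944)
def n5689 : Q := act 4 n3935
theorem D5689 : act 4 n3935 = n5689 := rfl
theorem F26341 : act 2 n5689 = n4062 := d18_1 D5689 (iv D4062) (iv F18669)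
theorem F26342 : act 5 n5689 = n5689 := d30_2 D3935 D5689 (iv D5689) (iv D3935) F13259
theorem F26343 : act 7 n5689 = n3971 := d32_2 (iv F18671) D5689 (iv D3971)
theorem F26344 : act 9 n5689 = n3945 := d34_2 (iv F18672) D5689 (iv D3945)
def n5690 : Q := act 6 n3935
theorem D5690 : act 6 n3935 = n5690 := rfl
theorem F26345 : act 2 n5690 = n4063 := d20_1 D5690 (iv D4063) (iv F18669)
theorem F26346 : act 3 n5690 = n3937 := d26_1 D5690 (iv D3937) (iv F18670)
theorem F26347 : act 5 n5690 = n5690 := d35_1 D5690 (iv D5690) (iv D3935) F13260 D3935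
theorem F26348 : act 9 n5690 = n3946 := d41_2 (iv F18672) D5690 (iv D3946)
def n5691 : Q := act 8 n3935
theorem D5691 : act 8 n3935 = n5691 := rfl
theorem F26349 : act 2 n5691 = n4064 := d22_1 D5691 (iv D4064) (iv F18669)
def n5692 : Q := act 9 n3936
theorem D5692 : act 9 n3936 = n5692 := rfl
theorem F26356 : act 8 n5692 = n3948 := d44_1 D5692 (iv D3948) (iv D2734) (iv F13262) D3936
def n5693 : Q := act 7 n3937
theorem D5693 : act 7 n3937 = n5693 := rfl
theorem F26357 : act 2 n5693 = n3938 := d21_1 D5693 (iv D3938) (iv F18677)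
theorem F26360 : act 9 n5693 = n3949 := d43_2 (iv F18679) D5693 (iv D3949)
def n5694 : Q := act 2 n3939
theorem D5694 : act 2 n3939 = n5694 := rfl
theorem F26361 : act 0 n5694 = n3941 := d1_1 D5694 (iv D3941) (iv F18685)
theorem F26365 : act 7 n5694 = n3976 := d21_2 (iv F18688) D5694 (iv D3976)
def n5695 : Q := act 5 n3939
theorem D5695 : act 5 n3939 = n5695 := rfl
theorem F26366 : act 0 n5695 = n3942 := d4_1 D5695 (iv D3942) (iv F18685)
theorem F26367 : act 3 n5695 = n3940 := d25_1 D5695 (iv D3940) D3939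
theorem F26368 : act 7 n5695 = n3977 := d36_2 (iv F18688) D5695 (iv D3977)
def n5696 : Q := act 8 n3939
theorem D5696 : act 8 n3939 = n5696 := rfl
theorem F26369 : act 0 n5696 = n3943 := d7_1 D5696 (iv D3943) (iv F18685)
def n5697 : Q := act 6 n3940
theorem D5697 : act 6 n3940 = n5697 := rfl
theorem F26374 : act 0 n5697 = n3944 := d5_1 D5697 (iv D3944) (iv F18689)
def n5698 : Q := act 5 n3941
theorem D5698 : act 5 n3941 = n5698 := rfl
theorem F26378 : act 1 n5698 = n4071 := d12_1 D5698 (iv D4071) (iv F18693)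
theorem F26379 : act 2 n5698 = n3942 := d19_1 D5698 (iv D3942) D3941
theorem F26380 : act 3 n5698 = n5698 := d25_1 D5698 (iv D5698) F18694
theorem F26381 : act 7 n5698 = n3980 := d36_2 (iv F18697) D5698 (iv D3980)
def n5699 : Q := act 8 n3941
theorem D5699 : act 8 n3941 = n5699 := rfl
theorem F26383 : act 2 n5699 = n3943 := d22_1 D5699 (iv D3943) D3941
theorem F26386 : act 7 n5699 = n3981 := d42_1 D5699 (iv D3981) (iv F18697)
def n5700 : Q := act 4 n3942
theorem D5700 : act 4 n3942 = n5700 := rfl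
def n5701 : Q := act 6 n3942
theorem D5701 : act 6 n3942 = n5701 := rfl
theorem F26390 : act 1 n5701 = n3946 := d13_1 D5701 (iv D3946) (iv F18698)
theorem F26391 : act 3 n5701 = n3944 := d26_1 D5701 (iv D3944) (iv F18699)
def n5702 : Q := act 8 n3942
theorem D5702 : act 8 n3942 = n5702 := rfl
theorem F26393 : act 1 n5702 = n3947 := d15_1 D5702 (iv D3947) (iv F18698)
theorem F26394 : act 3 n5702 = n5702 := d28_1 D5702 (iv D5702) F18699 F13282 (iv F18699)
theorem F26395 : act 5 n5702 = n3943 := d37_1 D5702 (iv D3943) D3942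
theorem F26396 : act 7 n5702 = n3984 := d42_1 D5702 (iv D3984) (iv F18700)
def n5703 : Q := act 9 n3943
theorem D5703 : act 9 n3943 = n5703 := rfl
theorem F26397 : act 1 n5703 = n3948 := d16_1 D5703 (iv D3948) (iv F18701)
theorem F26401 : act 7 n5703 = n3985 := d43_1 D5703 (iv D3985) (iv F18705)
def n5704 : Q := act 7 n3944
theorem D5704 : act 7 n3944 = n5704 := rfl
theorem F26402 : act 1 n5704 = n3949 := d14_1 D5704 (iv D3949) (iv F18706)
def n5705 : Q := act 6 n3945
theorem D5705 : act 6 n3945 = n5705 := rfl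
theorem F26407 : act 2 n5705 = n4078 := d20_1 D5705 (iv D4078) (iv F18710)
theorem F26408 : act 4 n5705 = n3946 := d31_1 D5705 (iv D3946) D3945
def n5706 : Q := act 8 n3945
theorem D5706 : act 8 n3945 = n5706 := rfl
theorem F26409 : act 2 n5706 = n4079 := d22_1 D5706 (iv D4079) (iv F18710)
theorem F26412 : act 7 n5706 = n3988 := d42_1 D5706 (iv D3988) (iv F18712)
def n5707 : Q := act 7 n3946
theorem D5707 : act 7 n3946 = n5707 := rfl
theorem F26413 : act 2 n5707 = n4080 := d21_1 D5707 (iv D4080) (iv F18713)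
def n5708 : Q := act 8 n3946
theorem D5708 : act 8 n3946 = n5708 := rfl
theorem F26417 : act 2 n5708 = n4081 := d22_1 D5708 (iv D4081) (iv F18713)
def n5709 : Q := act 9 n3947
theorem D5709 : act 9 n3947 = n5709 := rfl
def n5715 : Q := act 4 n3953
theorem D5715 : act 4 n3953 = n5715 := rfl
theorem F26452 : act 6 n5715 = n3997 := d31_2 (iv F18745) D5715 (iv D3997)
def n5716 : Q := act 3 n3954
theorem D5716 : act 3 n3954 = n5716 := rfl
theorem F26456 : act 4 n5716 = n3959 := d24_2 D3954 D5716 (iv D3959) (iv D2743) (iv F13310)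
def n5718 : Q := act 5 n3955
theorem D5718 : act 5 n3955 = n5718 := rfl
theorem F26463 : act 3 n5718 = n3956 := d25_1 D5718 (iv D3956) D3955
def n5719 : Q := act 8 n3955
theorem D5719 : act 8 n3955 = n5719 := rfl
theorem F26468 : act 6 n5719 = n4001 := d40_1 D5719 (iv D4001) (iv F18754)
def n5722 : Q := act 3 n3958
theorem D5722 : act 3 n3958 = n5722 := rfl
theorem F26478 : act 6 n5722 = n4004 := d26_2 (iv F18765) D5722 (iv D4004)
def n5724 : Q := act 2 n3959
theorem D5724 : act 2 n3959 = n5724 := rfl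
theorem F26486 : act 6 n5724 = n4006 := d20_2 (iv F18769) D5724 (iv D4006)
def n5725 : Q := act 5 n3959
theorem D5725 : act 5 n3959 = n5725 := rfl
theorem F26489 : act 3 n5725 = n3960 := d25_1 D5725 (iv D3960) D3959
def n5727 : Q := act 6 n3960
theorem D5727 : act 6 n3960 = n5727 := rfl
theorem F26496 : act 5 n5727 = n4009 := d35_1 D5727 (iv D4009) (iv D2775) (iv F13327) D3960
theorem F26497 : act 8 n5727 = n3970 := d40_2 (iv F18773) D5727 (iv D3970)
def n5728 : Q := act 4 n3961
theorem D5728 : act 4 n3961 = n5728 := rfl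
def n5729 : Q := act 6 n3961
theorem D5729 : act 6 n3961 = n5729 := rfl
theorem F26502 : act 3 n5729 = n3963 := d26_1 D5729 (iv D3963) (iv F18776)
theorem F26503 : act 5 n5729 = n4011 := d35_1 D5729 (iv D4011) (iv D2776) (iv F13331) D3961
def n5730 : Q := act 8 n3961
theorem D5730 : act 8 n3961 = n5730 := rfl
def n5732 : Q := act 7 n3963
theorem D5732 : act 7 n3963 = n5732 := rfl
theorem F26512 : act 2 n5732 = n3964 := d21_1 D5732 (iv D3964) (iv F18781)
theorem F26513 : act 5 n5732 = n4014 := d36_1 D5732 (iv D4014) (iv F18782)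
theorem F26514 : act 8 n5732 = n3975 := d42_2 (iv F18783) D5732 (iv D3975)
def n5733 : Q := act 2 n3965
theorem D5733 : act 2 n3965 = n5733 := rfl
theorem F26519 : act 6 n5733 = n4015 := d20_2 (iv F18792) D5733 (iv D4015)
theorem F26520 : act 9 n5733 = n3976 := d23_2 (iv F18793) D5733 (iv D3976)
def n5734 : Q := act 5 n3965
theorem D5734 : act 5 n3965 = n5734 := rfl
theorem F26523 : act 9 n5734 = n3977 := d38_2 (iv F18793) D5734 (iv D3977)
def n5735 : Q := act 8 n3965
theorem D5735 : act 8 n3965 = n5735 := rfl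
theorem F26526 : act 6 n5735 = n4017 := d40_1 D5735 (iv D4017) (iv F18792)
def n5737 : Q := act 5 n3967
theorem D5737 : act 5 n3967 = n5737 := rfl
theorem F26531 : act 1 n5737 = n4087 := d12_1 D5737 (iv D4087) (iv F18797)
theorem F26532 : act 2 n5737 = n3968 := d19_1 D5737 (iv D3968) D3967
theorem F26534 : act 9 n5737 = n3980 := d38_2 (iv F18801) D5737 (iv D3980)
def n5738 : Q := act 8 n3967
theorem D5738 : act 8 n3967 = n5738 := rfl
theorem F26536 : act 2 n5738 = n3969 := d22_1 D5738 (iv D3969) D3967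
theorem F26538 : act 6 n5738 = n4020 := d40_1 D5738 (iv D4020) (iv F18800)
def n5739 : Q := act 4 n3968
theorem D5739 : act 4 n3968 = n5739 := rfl
theorem F26541 : act 9 n5739 = n3982 := d34_2 (iv F18804) D5739 (iv D3982)
def n5740 : Q := act 6 n3968
theorem D5740 : act 6 n3968 = n5740 := rfl
theorem F26542 : act 1 n5740 = n3972 := d13_1 D5740 (iv D3972) (iv F18802)
theorem F26543 : act 3 n5740 = n3970 := d26_1 D5740 (iv D3970) (iv F18803)
theorem F26544 : act 5 n5740 = n4022 := d35_1 D5740 (iv D4022) (iv D2783) (iv F13347) D3968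
theorem F26545 : act 9 n5740 = n3983 := d41_2 (iv F18804) D5740 (iv D3983)
def n5741 : Q := act 8 n3968
theorem D5741 : act 8 n3968 = n5741 := rfl
theorem F26546 : act 1 n5741 = n3973 := d15_1 D5741 (iv D3973) (iv F18802)
def n5742 : Q := act 9 n3969
theorem D5742 : act 9 n3969 = n5742 := rfl
theorem F26548 : act 1 n5742 = n3974 := d16_1 D5742 (iv D3974) (iv F18805)
theorem F26550 : act 6 n5742 = n4024 := d41_1 D5742 (iv D4024) (iv F18807)
def n5743 : Q := act 7 n3970
theorem D5743 : act 7 n3970 = n5743 := rfl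
theorem F26552 : act 1 n5743 = n3975 := d14_1 D5743 (iv D3975) (iv F18808)
theorem F26555 : act 9 n5743 = n3986 := d43_2 (iv F18811) D5743 (iv D3986)
def n5744 : Q := act 6 n3971
theorem D5744 : act 6 n3971 = n5744 := rfl
theorem F26556 : act 2 n5744 = n4094 := d20_1 D5744 (iv D4094) (iv F18812)
theorem F26557 : act 4 n5744 = n3972 := d31_1 D5744 (iv D3972) D3971
theorem F26558 : act 9 n5744 = n3987 := d41_2 (iv F18814) D5744 (iv D3987)
def n5745 : Q := act 8 n3971
theorem D5745 : act 8 n3971 = n5745 := rfl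
theorem F26559 : act 2 n5745 = n4095 := d22_1 D5745 (iv D4095) (iv F18812)
def n5746 : Q := act 7 n3972
theorem D5746 : act 7 n3972 = n5746 := rfl
theorem F26562 : act 2 n5746 = n4096 := d21_1 D5746 (iv D4096) (iv F18815)
theorem F26563 : act 3 n5746 = n3975 := d27_1 D5746 (iv D3975) (iv F18816)
theorem F26564 : act 5 n5746 = n4028 := d36_1 D5746 (iv D4028) (iv F18817)
theorem F26565 : act 9 n5746 = n3989 := d43_2 (iv F18818) D5746 (iv D3989)
def n5747 : Q := act 8 n3972
theorem D5747 : act 8 n3972 = n5747 := rfl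
theorem F26566 : act 2 n5747 = n4097 := d22_1 D5747 (iv D4097) (iv F18815)
def n5748 : Q := act 9 n3973
theorem D5748 : act 9 n3973 = n5748 := rfl
def n5749 : Q := act 1 n3976
theorem D5749 : act 1 n3976 = n5749 := rfl
theorem F26572 : act 0 n5749 = n4099 := d0_1 D5749 (iv D4099) F13695 (iv F13371) (iv F18828)
theorem F26575 : act 6 n5749 = n4031 := d13_2 (iv F18831) D5749 (iv D4031)
def n5750 : Q := act 5 n3976
theorem D5750 : act 5 n3976 = n5750 := rfl
theorem F26576 : act 0 n5750 = n3980 := d4_1 D5750 (iv D3980) (iv F18828)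
theorem F26577 : act 2 n5750 = n3977 := d19_1 D5750 (iv D3977) D3976
def n5751 : Q := act 8 n3976
theorem D5751 : act 8 n3976 = n5751 := rfl
def n5752 : Q := act 4 n3977
theorem D5752 : act 4 n3977 = n5752 := rfl
theorem F26583 : act 0 n5752 = n3982 := d3_1 D5752 (iv D3982) (iv F18832)
def n5753 : Q := act 6 n3977
theorem D5753 : act 6 n3977 = n5753 := rfl
theorem F26585 : act 0 n5753 = n3983 := d5_1 D5753 (iv D3983) (iv F18832)
theorem F26586 : act 3 n5753 = n3979 := d26_1 D5753 (iv D3979) (iv F18833)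
theorem F26587 : act 5 n5753 = n4035 := d35_1 D5753 (iv D4035) (iv D2792) (iv F13367) D3977
def n5754 : Q := act 8 n3977
theorem D5754 : act 8 n3977 = n5754 := rfl
theorem F26588 : act 0 n5754 = n3984 := d7_1 D5754 (iv D3984) (iv F18832)
def n5756 : Q := act 7 n3979
theorem D5756 : act 7 n3979 = n5756 := rfl
def n5757 : Q := act 4 n3980
theorem D5757 : act 4 n3980 = n5757 := rfl
theorem F26599 : act 1 n5757 = n4107 := d11_1 D5757 (iv D4107) (iv F18842)
theorem F26600 : act 2 n5757 = n3982 := d18_1 D5757 (iv D3982) (iv F18843)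
theorem F26601 : act 5 n5757 = n5757 := d30_2 D3980 D5757 (iv D5757) (iv D3980) F13373
def n5758 : Q := act 6 n3980
theorem D5758 : act 6 n3980 = n5758 := rfl
theorem F26602 : act 1 n5758 = n4108 := d13_1 D5758 (iv D4108) (iv F18842)
theorem F26603 : act 2 n5758 = n3983 := d20_1 D5758 (iv D3983) (iv F18843)
theorem F26604 : act 3 n5758 = n5758 := d26_1 D5758 (iv D5758) F18844
theorem F26605 : act 5 n5758 = n4040 := d35_1 D5758 (iv D4040) (iv D2795) (iv F13374) D3980
def n5759 : Q := act 8 n3980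
theorem D5759 : act 8 n3980 = n5759 := rfl
theorem F26607 : act 2 n5759 = n3984 := d22_1 D5759 (iv D3984) (iv F18843)
def n5760 : Q := act 3 n3981
theorem D5760 : act 3 n3981 = n5760 := rfl
theorem F26611 : act 6 n5760 = n4042 := d26_2 (iv F18848) D5760 (iv D4042)
def n5761 : Q := act 9 n3981
theorem D5761 : act 9 n3981 = n5761 := rfl
theorem F26614 : act 2 n5761 = n3985 := d23_1 D5761 (iv D3985) (iv F18846)
def n5762 : Q := act 6 n3982
theorem D5762 : act 6 n3982 = n5762 := rfl
theorem F26618 : act 4 n5762 = n3983 := d31_1 D5762 (iv D3983) D3982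
def n5763 : Q := act 8 n3982
theorem D5763 : act 8 n3982 = n5763 := rfl
theorem F26619 : act 1 n5763 = n3988 := d15_1 D5763 (iv D3988) (iv F18849)
theorem F26620 : act 4 n5763 = n3984 := d33_1 D5763 (iv D3984) D3982
theorem F26621 : act 5 n5763 = n5763 := d37_1 D5763 (iv D5763) F18850
def n5764 : Q := act 7 n3983
theorem D5764 : act 7 n3983 = n5764 := rfl
theorem F26622 : act 1 n5764 = n3989 := d14_1 D5764 (iv D3989) (iv F18851)
theorem F26623 : act 3 n5764 = n3986 := d27_1 D5764 (iv D3986) (iv F18852)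
def n5765 : Q := act 8 n3983
theorem D5765 : act 8 n3983 = n5765 := rfl
theorem F26625 : act 1 n5765 = n3990 := d15_1 D5765 (iv D3990) (iv F18851)
theorem F26626 : act 3 n5765 = n5765 := d28_1 D5765 (iv D5765) F18852 F13384 (iv F18852)
theorem F26627 : act 5 n5765 = n4047 := d37_1 D5765 (iv D4047) (iv F18853)
theorem F26628 : act 6 n5765 = n3984 := d40_1 D5765 (iv D3984) D3983
def n5766 : Q := act 9 n3984
theorem D5766 : act 9 n3984 = n5766 := rfl
def n5767 : Q := act 5 n3987
theorem D5767 : act 5 n3987 = n5767 := rfl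
theorem F26632 : act 2 n5767 = n4117 := d19_1 D5767 (iv D4117) (iv F18865)
theorem F26633 : act 4 n5767 = n4049 := d30_1 D5767 (iv D4049) F13559 (iv F13389) (iv F18866)
def n5768 : Q := act 7 n3987
theorem D5768 : act 7 n3987 = n5768 := rfl
theorem F26635 : act 2 n5768 = n4118 := d21_1 D5768 (iv D4118) (iv F18865)
theorem F26636 : act 4 n5768 = n3989 := d32_1 D5768 (iv D3989) (iv F18866)
def n5769 : Q := act 8 n3987
theorem D5769 : act 8 n3987 = n5769 := rfl
theorem F26637 : act 2 n5769 = n4119 := d22_1 D5769 (iv D4119) (iv F18865)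
theorem F26638 : act 4 n5769 = n3990 := d33_1 D5769 (iv D3990) (iv F18866)
theorem F26639 : act 6 n5769 = n3988 := d40_1 D5769 (iv D3988) D3987
def n5770 : Q := act 3 n3988
theorem D5770 : act 3 n3988 = n5770 := rfl
def n5771 : Q := act 9 n3988
theorem D5771 : act 9 n3988 = n5771 := rfl
theorem F26642 : act 2 n5771 = n4121 := d23_1 D5771 (iv D4121) (iv F18867)
theorem F26643 : act 4 n5771 = n3991 := d34_1 D5771 (iv D3991) (iv F18868)
def n5772 : Q := act 8 n3989
theorem D5772 : act 8 n3989 = n5772 := rfl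
theorem F26645 : act 2 n5772 = n4122 := d22_1 D5772 (iv D4122) (iv F18870)
theorem F26647 : act 5 n5772 = n4054 := d37_1 D5772 (iv D4054) (iv F18872)
def n5773 : Q := act 9 n3990
theorem D5773 : act 9 n3990 = n5773 := rfl
theorem F26651 : act 5 n5773 = n4055 := d38_1 D5773 (iv D4055) (iv F18875)
def n5781 : Q := act 3 n3997
theorem D5781 : act 3 n3997 = n5781 := rfl
def n5787 : Q := act 4 n4000
theorem D5787 : act 4 n4000 = n5787 := rfl
theorem F26718 : act 5 n5787 = n4010 := d30_2 D4000 D5787 (iv D4010) (iv D2776) (iv F13428)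
def n5788 : Q := act 6 n4000
theorem D5788 : act 6 n4000 = n5788 := rfl
def n5789 : Q := act 8 n4000
theorem D5789 : act 8 n4000 = n5789 := rfl
theorem F26726 : act 5 n5789 = n4001 := d37_1 D5789 (iv D4001) D4000
def n5790 : Q := act 9 n4001
theorem D5790 : act 9 n4001 = n5790 := rfl
def n5792 : Q := act 2 n4004
theorem D5792 : act 2 n4004 = n5792 := rfl
def n5793 : Q := act 5 n4004
theorem D5793 : act 5 n4004 = n5793 := rfl
theorem F26742 : act 0 n5793 = n4007 := d4_1 D5793 (iv D4007) (iv F18939)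
theorem F26743 : act 3 n5793 = n4005 := d25_1 D5793 (iv D4005) D4004
def n5794 : Q := act 8 n4004
theorem D5794 : act 8 n4004 = n5794 := rfl
theorem F26747 : act 3 n5794 = n4017 := d28_1 D5794 (iv D4017) (iv D2780) (iv F13443) D4004
def n5796 : Q := act 5 n4006
theorem D5796 : act 5 n4006 = n5796 := rfl
theorem F26755 : act 2 n5796 = n4007 := d19_1 D5796 (iv D4007) D4006
def n5797 : Q := act 8 n4006
theorem D5797 : act 8 n4006 = n5797 := rfl
def n5798 : Q := act 4 n4007
theorem D5798 : act 4 n4007 = n5798 := rfl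
theorem F26762 : act 1 n5798 = n4010 := d11_1 D5798 (iv D4010) (iv F18952)
def n5799 : Q := act 6 n4007
theorem D5799 : act 6 n4007 = n5799 := rfl
theorem F26766 : act 1 n5799 = n4011 := d13_1 D5799 (iv D4011) (iv F18952)
theorem F26767 : act 3 n5799 = n4009 := d26_1 D5799 (iv D4009) (iv F18953)
def n5802 : Q := act 7 n4009
theorem D5802 : act 7 n4009 = n5802 := rfl
theorem F26781 : act 8 n5802 = n4025 := d42_2 (iv F18962) D5802 (iv D4025)
def n5803 : Q := act 6 n4010
theorem D5803 : act 6 n4010 = n5803 := rfl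
theorem F26785 : act 4 n5803 = n4011 := d31_1 D5803 (iv D4011) D4010
def n5804 : Q := act 8 n4010
theorem D5804 : act 8 n4010 = n5804 := rfl
theorem F26788 : act 4 n5804 = n4012 := d33_1 D5804 (iv D4012) D4010
def n5805 : Q := act 7 n4011
theorem D5805 : act 7 n4011 = n5805 := rfl
theorem F26791 : act 3 n5805 = n4014 := d27_1 D5805 (iv D4014) (iv F18969)
def n5806 : Q := act 8 n4011
theorem D5806 : act 8 n4011 = n5806 := rfl
def n5808 : Q := act 1 n4015
theorem D5808 : act 1 n4015 = n5808 := rfl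
theorem F26802 : act 0 n5808 = n4124 := d0_1 D5808 (iv D4124) F13744 (iv F13480) (iv F18984)
theorem F26806 : act 9 n5808 = n4031 := d16_2 (iv F18988) D5808 (iv D4031)
def n5809 : Q := act 5 n4015
theorem D5809 : act 5 n4015 = n5809 := rfl
theorem F26808 : act 2 n5809 = n4016 := d19_1 D5809 (iv D4016) D4015
theorem F26811 : act 9 n5809 = n4032 := d38_2 (iv F18988) D5809 (iv D4032)
def n5810 : Q := act 8 n4015
theorem D5810 : act 8 n4015 = n5810 := rfl
theorem F26813 : act 2 n5810 = n4017 := d22_1 D5810 (iv D4017) D4015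
def n5811 : Q := act 4 n4016
theorem D5811 : act 4 n4016 = n5811 := rfl
theorem F26816 : act 0 n5811 = n4021 := d3_1 D5811 (iv D4021) (iv F18989)
theorem F26820 : act 9 n5811 = n4034 := d34_2 (iv F18992) D5811 (iv D4034)
def n5812 : Q := act 6 n4016
theorem D5812 : act 6 n4016 = n5812 := rfl
theorem F26823 : act 9 n5812 = n4035 := d41_2 (iv F18992) D5812 (iv D4035)
def n5813 : Q := act 8 n4016
theorem D5813 : act 8 n4016 = n5813 := rfl
theorem F26825 : act 5 n5813 = n4017 := d37_1 D5813 (iv D4017) D4016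
def n5814 : Q := act 9 n4017
theorem D5814 : act 9 n4017 = n5814 := rfl
def n5816 : Q := act 4 n4019
theorem D5816 : act 4 n4019 = n5816 := rfl
theorem F26836 : act 1 n5816 = n4132 := d11_1 D5816 (iv D4132) (iv F19000)
theorem F26837 : act 2 n5816 = n4021 := d18_1 D5816 (iv D4021) (iv F19001)
theorem F26840 : act 9 n5816 = n4039 := d34_2 (iv F19004) D5816 (iv D4039)
def n5817 : Q := act 6 n4019
theorem D5817 : act 6 n4019 = n5817 := rfl
theorem F26841 : act 1 n5817 = n4133 := d13_1 D5817 (iv D4133) (iv F19000)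
theorem F26842 : act 2 n5817 = n4022 := d20_1 D5817 (iv D4022) (iv F19001)
theorem F26844 : act 9 n5817 = n4040 := d41_2 (iv F19004) D5817 (iv D4040)
def n5818 : Q := act 8 n4019
theorem D5818 : act 8 n4019 = n5818 := rfl
theorem F26846 : act 2 n5818 = n4023 := d22_1 D5818 (iv D4023) (iv F19001)
theorem F26847 : act 5 n5818 = n4020 := d37_1 D5818 (iv D4020) D4019
def n5819 : Q := act 3 n4020
theorem D5819 : act 3 n4020 = n5819 := rfl
def n5820 : Q := act 9 n4020
theorem D5820 : act 9 n4020 = n5820 := rfl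
theorem F26853 : act 2 n5820 = n4024 := d23_1 D5820 (iv D4024) (iv F19006)
def n5821 : Q := act 6 n4021
theorem D5821 : act 6 n4021 = n5821 := rfl
theorem F26857 : act 1 n5821 = n4026 := d13_1 D5821 (iv D4026) (iv F19009)
theorem F26859 : act 4 n5821 = n4022 := d31_1 D5821 (iv D4022) D4021
theorem F26860 : act 9 n5821 = n4044 := d41_2 (iv F19013) D5821 (iv D4044)
def n5822 : Q := act 8 n4021
theorem D5822 : act 8 n4021 = n5822 := rfl
theorem F26861 : act 1 n5822 = n4027 := d15_1 D5822 (iv D4027) (iv F19009)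
theorem F26862 : act 4 n5822 = n4023 := d33_1 D5822 (iv D4023) D4021
def n5823 : Q := act 7 n4022
theorem D5823 : act 7 n4022 = n5823 := rfl
theorem F26865 : act 1 n5823 = n4028 := d14_1 D5823 (iv D4028) (iv F19014)
theorem F26866 : act 3 n5823 = n4025 := d27_1 D5823 (iv D4025) (iv F19015)
theorem F26868 : act 9 n5823 = n4046 := d43_2 (iv F19016) D5823 (iv D4046)
def n5824 : Q := act 8 n4022
theorem D5824 : act 8 n4022 = n5824 := rfl
theorem F26869 : act 1 n5824 = n4029 := d15_1 D5824 (iv D4029) (iv F19014)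
def n5825 : Q := act 9 n4023
theorem D5825 : act 9 n4023 = n5825 := rfl
theorem F26871 : act 1 n5825 = n4030 := d16_1 D5825 (iv D4030) (iv F19017)
theorem F26872 : act 5 n5825 = n4024 := d38_1 D5825 (iv D4024) (iv F19018)
def n5826 : Q := act 5 n4026
theorem D5826 : act 5 n4026 = n5826 := rfl
theorem F26875 : act 2 n5826 = n4142 := d19_1 D5826 (iv D4142) (iv F19029)
theorem F26876 : act 3 n5826 = n5826 := d25_1 D5826 (iv D5826) F19030
theorem F26877 : act 6 n5826 = n5826 := d35_2 D4026 D5826 (iv D5826) (iv D4026) F13498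
theorem F26878 : act 9 n5826 = n4049 := d38_2 (iv F19032) D5826 (iv D4049)
def n5827 : Q := act 7 n4026
theorem D5827 : act 7 n4026 = n5827 := rfl
theorem F26879 : act 2 n5827 = n4143 := d21_1 D5827 (iv D4143) (iv F19029)
theorem F26880 : act 3 n5827 = n5827 := d27_1 D5827 (iv D5827) F19030
theorem F26881 : act 4 n5827 = n4028 := d32_1 D5827 (iv D4028) (iv F19031)
theorem F26882 : act 6 n5827 = n5827 := d39_1 D5827 (iv D5827) (iv D4026) F13499 D4026
theorem F26883 : act 9 n5827 = n4050 := d43_2 (iv F19032) D5827 (iv D4050)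
def n5828 : Q := act 8 n4026
theorem D5828 : act 8 n4026 = n5828 := rfl
theorem F26884 : act 2 n5828 = n4144 := d22_1 D5828 (iv D4144) (iv F19029)
theorem F26886 : act 6 n5828 = n4027 := d40_1 D5828 (iv D4027) D4026
def n5829 : Q := act 3 n4027
theorem D5829 : act 3 n4027 = n5829 := rfl
def n5831 : Q := act 8 n4028
theorem D5831 : act 8 n4028 = n5831 := rfl
theorem F26895 : act 2 n5831 = n4147 := d22_1 D5831 (iv D4147) (iv F19037)
theorem F26897 : act 7 n5831 = n4029 := d42_1 D5831 (iv D4029) D4028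
def n5832 : Q := act 9 n4029
theorem D5832 : act 9 n4029 = n5832 := rfl
def n5833 : Q := act 5 n4031
theorem D5833 : act 5 n4031 = n5833 := rfl
def n5835 : Q := act 4 n4032
theorem D5835 : act 4 n4032 = n5835 := rfl
theorem F26909 : act 0 n5835 = n4039 := d3_1 D5835 (iv D4039) (iv F19051)
theorem F26910 : act 2 n5835 = n4034 := d18_1 D5835 (iv D4034) (iv F19052)
def n5836 : Q := act 6 n4032
theorem D5836 : act 6 n4032 = n5836 := rfl
theorem F26913 : act 0 n5836 = n4040 := d5_1 D5836 (iv D4040) (iv F19051)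
theorem F26914 : act 2 n5836 = n4035 := d20_1 D5836 (iv D4035) (iv F19052)
def n5837 : Q := act 8 n4032
theorem D5837 : act 8 n4032 = n5837 := rfl
def n5839 : Q := act 9 n4033
theorem D5839 : act 9 n4033 = n5839 := rfl
def n5840 : Q := act 6 n4034
theorem D5840 : act 6 n4034 = n5840 := rfl
theorem F26928 : act 0 n5840 = n4044 := d5_1 D5840 (iv D4044) (iv F19059)
theorem F26930 : act 4 n5840 = n4035 := d31_1 D5840 (iv D4035) D4034
def n5841 : Q := act 8 n4034
theorem D5841 : act 8 n4034 = n5841 := rfl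
theorem F26931 : act 0 n5841 = n4045 := d7_1 D5841 (iv D4045) (iv F19059)
theorem F26932 : act 4 n5841 = n4036 := d33_1 D5841 (iv D4036) D4034
def n5842 : Q := act 7 n4035
theorem D5842 : act 7 n4035 = n5842 := rfl
theorem F26935 : act 0 n5842 = n4046 := d6_1 D5842 (iv D4046) (iv F19063)
theorem F26936 : act 3 n5842 = n4038 := d27_1 D5842 (iv D4038) (iv F19064)
def n5843 : Q := act 8 n4035
theorem D5843 : act 8 n4035 = n5843 := rfl
theorem F26938 : act 0 n5843 = n4047 := d7_1 D5843 (iv D4047) (iv F19063)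
def n5845 : Q := act 3 n4039
theorem D5845 : act 3 n4039 = n5845 := rfl
theorem F26946 : act 2 n5845 = n5845 := d17_1 D5845 (iv D5845) F19079 F13539 (iv F19079)
theorem F26947 : act 4 n5845 = n5845 := d24_2 D4039 D5845 (iv D5845) (iv D4039) F13532
theorem F26948 : act 5 n5845 = n5845 := d25_2 F19080 D5845 (iv D5845)
theorem F26949 : act 7 n5845 = n5845 := d27_2 F19081 D5845 (iv D5845)
def n5846 : Q := act 6 n4039
theorem D5846 : act 6 n4039 = n5846 := rfl
theorem F26950 : act 1 n5846 = n4162 := d13_1 D5846 (iv D4162) (iv F19078)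
theorem F26951 : act 2 n5846 = n4044 := d20_1 D5846 (iv D4044) (iv F19079)
theorem F26952 : act 4 n5846 = n4040 := d31_1 D5846 (iv D4040) D4039
def n5847 : Q := act 8 n4039
theorem D5847 : act 8 n4039 = n5847 := rfl
theorem F26954 : act 2 n5847 = n4045 := d22_1 D5847 (iv D4045) (iv F19079)
theorem F26955 : act 4 n5847 = n4041 := d33_1 D5847 (iv D4041) D4039
def n5848 : Q := act 7 n4040
theorem D5848 : act 7 n4040 = n5848 := rfl
theorem F26958 : act 1 n5848 = n4164 := d14_1 D5848 (iv D4164) (iv F19082)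
theorem F26959 : act 2 n5848 = n4046 := d21_1 D5848 (iv D4046) (iv F19083)
theorem F26960 : act 3 n5848 = n5848 := d27_1 D5848 (iv D5848) F19084
theorem F26961 : act 6 n5848 = n5848 := d39_1 D5848 (iv D5848) (iv D4040) F13533 D4040
def n5849 : Q := act 8 n4040
theorem D5849 : act 8 n4040 = n5849 := rfl
theorem F26963 : act 2 n5849 = n4047 := d22_1 D5849 (iv D4047) (iv F19083)
def n5850 : Q := act 3 n4041
theorem D5850 : act 3 n4041 = n5850 := rfl
theorem F26967 : act 5 n5850 = n4042 := d25_2 (iv F19087) D5850 (iv D4042)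
def n5851 : Q := act 9 n4041
theorem D5851 : act 9 n4041 = n5851 := rfl
theorem F26971 : act 2 n5851 = n4048 := d23_1 D5851 (iv D4048) (iv F19086)
def n5853 : Q := act 9 n4042
theorem D5853 : act 9 n4042 = n5853 := rfl
theorem F26981 : act 3 n5853 = n4043 := d29_1 D5853 (iv D4043) D4042
def n5854 : Q := act 5 n4044
theorem D5854 : act 5 n4044 = n5854 := rfl
def n5855 : Q := act 7 n4044
theorem D5855 : act 7 n4044 = n5855 := rfl
theorem F26986 : act 1 n5855 = n4050 := d14_1 D5855 (iv D4050) (iv F19097)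
theorem F26988 : act 4 n5855 = n4046 := d32_1 D5855 (iv D4046) (iv F19099)
def n5856 : Q := act 8 n4044
theorem D5856 : act 8 n4044 = n5856 := rfl
theorem F26990 : act 1 n5856 = n4051 := d15_1 D5856 (iv D4051) (iv F19097)
theorem F26991 : act 4 n5856 = n4047 := d33_1 D5856 (iv D4047) (iv F19099)
theorem F26992 : act 6 n5856 = n4045 := d40_1 D5856 (iv D4045) D4044
def n5857 : Q := act 3 n4045
theorem D5857 : act 3 n4045 = n5857 := rfl
theorem F26993 : act 1 n5857 = n4052 := d10_1 D5857 (iv D4052) (iv F19100)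
theorem F26994 : act 4 n5857 = n5857 := d24_2 (iv F19101) D5857 (iv D5857) F19101 F13545
theorem F26995 : act 5 n5857 = n5857 := d25_2 F19102 D5857 (iv D5857)
theorem F26996 : act 7 n5857 = n5857 := d27_2 F19103 D5857 (iv D5857)
theorem F26997 : act 8 n5857 = n5857 := d28_2 D4045 D5857 (iv D5857) (iv D4045) F13539
def n5858 : Q := act 9 n4045
theorem D5858 : act 9 n4045 = n5858 := rfl
theorem F26998 : act 1 n5858 = n4053 := d16_1 D5858 (iv D4053) (iv F19100)
theorem F26999 : act 4 n5858 = n4048 := d34_1 D5858 (iv D4048) (iv F19101)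
def n5859 : Q := act 8 n4046
theorem D5859 : act 8 n4046 = n5859 := rfl
theorem F27002 : act 1 n5859 = n4054 := d15_1 D5859 (iv D4054) (iv F19104)
theorem F27003 : act 3 n5859 = n5859 := d28_1 D5859 (iv D5859) F19105 F13556 (iv F19105)
theorem F27004 : act 6 n5859 = n5859 := d40_1 D5859 (iv D5859) F19106
theorem F27005 : act 7 n5859 = n4047 := d42_1 D5859 (iv D4047) D4046
def n5860 : Q := act 9 n4047
theorem D5860 : act 9 n4047 = n5860 := rfl
def n5861 : Q := act 7 n4049
theorem D5861 : act 7 n4049 = n5861 := rfl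
theorem F27011 : act 5 n5861 = n4050 := d36_1 D5861 (iv D4050) D4049
def n5862 : Q := act 8 n4049
theorem D5862 : act 8 n4049 = n5862 := rfl
theorem F27013 : act 5 n5862 = n4051 := d37_1 D5862 (iv D4051) D4049
def n5863 : Q := act 8 n4050
theorem D5863 : act 8 n4050 = n5863 := rfl
theorem F27016 : act 4 n5863 = n4054 := d33_1 D5863 (iv D4054) (iv F19119)
def n5864 : Q := act 3 n4051
theorem D5864 : act 3 n4051 = n5864 := rfl
theorem F27021 : act 6 n5864 = n4052 := d26_2 (iv F19123) D5864 (iv D4052)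
def n5865 : Q := act 9 n4051
theorem D5865 : act 9 n4051 = n5865 := rfl
def n5866 : Q := act 9 n4052
theorem D5866 : act 9 n4052 = n5866 := rfl
theorem F27027 : act 3 n5866 = n4053 := d29_1 D5866 (iv D4053) D4052
def n5867 : Q := act 9 n4054
theorem D5867 : act 9 n4054 = n5867 := rfl
def n5868 : Q := act 2 n4056
theorem D5868 : act 2 n4056 = n5868 := rfl
theorem F27035 : act 0 n5868 = n4058 := d1_1 D5868 (iv D4058) (iv F19140)
theorem F27039 : act 7 n5868 = n4083 := d21_2 (iv F19143) D5868 (iv D4083)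
theorem F27040 : act 9 n5868 = n4067 := d23_2 (iv F19144) D5868 (iv D4067)
def n5869 : Q := act 5 n4056
theorem D5869 : act 5 n4056 = n5869 := rfl
theorem F27041 : act 0 n5869 = n4059 := d4_1 D5869 (iv D4059) (iv F19140)
theorem F27042 : act 3 n5869 = n4057 := d25_1 D5869 (iv D4057) D4056
theorem F27043 : act 7 n5869 = n4084 := d36_2 (iv F19143) D5869 (iv D4084)
theorem F27044 : act 9 n5869 = n4068 := d38_2 (iv F19144) D5869 (iv D4068)
def n5870 : Q := act 8 n4056
theorem D5870 : act 8 n4056 = n5870 := rfl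
theorem F27049 : act 7 n5870 = n4085 := d42_1 D5870 (iv D4085) (iv F19143)
def n5871 : Q := act 6 n4057
theorem D5871 : act 6 n4057 = n5871 := rfl
theorem F27050 : act 0 n5871 = n4061 := d5_1 D5871 (iv D4061) (iv F19145)
theorem F27051 : act 2 n5871 = n5871 := d20_1 D5871 (iv D5871) F19146
theorem F27052 : act 4 n5871 = n5871 := d31_1 D5871 (iv D5871) F19147
theorem F27053 : act 5 n5871 = n5871 := d35_1 D5871 (iv D5871) (iv D4057) F13576 D4057
theorem F27054 : act 8 n5871 = n5871 := d40_2 F19149 D5871 (iv D5871)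
theorem F27055 : act 9 n5871 = n4070 := d41_2 (iv F19150) D5871 (iv D4070)
def n5872 : Q := act 5 n4058
theorem D5872 : act 5 n4058 = n5872 := rfl
theorem F27056 : act 2 n5872 = n4059 := d19_1 D5872 (iv D4059) D4058
theorem F27058 : act 7 n5872 = n4087 := d36_2 (iv F19154) D5872 (iv D4087)
theorem F27059 : act 9 n5872 = n4071 := d38_2 (iv F19155) D5872 (iv D4071)
def n5873 : Q := act 8 n4058
theorem D5873 : act 8 n4058 = n5873 := rfl
theorem F27060 : act 2 n5873 = n4060 := d22_1 D5873 (iv D4060) D4058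
theorem F27063 : act 7 n5873 = n4088 := d42_1 D5873 (iv D4088) (iv F19154)
def n5874 : Q := act 4 n4059
theorem D5874 : act 4 n4059 = n5874 := rfl
theorem F27064 : act 1 n5874 = n4062 := d11_1 D5874 (iv D4062) (iv F19156)
theorem F27065 : act 3 n5874 = n5874 := d24_1 D5874 (iv D5874) F19157 F13587 (iv F19157)
theorem F27066 : act 5 n5874 = n5874 := d30_2 D4059 D5874 (iv D5874) (iv D4059) F13581
theorem F27067 : act 7 n5874 = n4089 := d32_2 (iv F19158) D5874 (iv D4089)
theorem F27068 : act 9 n5874 = n4073 := d34_2 (iv F19159) D5874 (iv D4073)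
def n5875 : Q := act 6 n4059
theorem D5875 : act 6 n4059 = n5875 := rfl
theorem F27069 : act 1 n5875 = n4063 := d13_1 D5875 (iv D4063) (iv F19156)
theorem F27070 : act 3 n5875 = n4061 := d26_1 D5875 (iv D4061) (iv F19157)
theorem F27071 : act 5 n5875 = n5875 := d35_1 D5875 (iv D5875) (iv D4059) F13582 D4059
theorem F27072 : act 9 n5875 = n4074 := d41_2 (iv F19159) D5875 (iv D4074)
def n5876 : Q := act 8 n4059
theorem D5876 : act 8 n4059 = n5876 := rfl
theorem F27073 : act 1 n5876 = n4064 := d15_1 D5876 (iv D4064) (iv F19156)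
theorem F27074 : act 3 n5876 = n5876 := d28_1 D5876 (iv D5876) F19157 F13589 (iv F19157)
def n5877 : Q := act 9 n4060
theorem D5877 : act 9 n4060 = n5877 := rfl
theorem F27077 : act 1 n5877 = n4065 := d16_1 D5877 (iv D4065) (iv F19160)
def n5878 : Q := act 7 n4061
theorem D5878 : act 7 n4061 = n5878 := rfl
theorem F27083 : act 1 n5878 = n4066 := d14_1 D5878 (iv D4066) (iv F19165)
theorem F27084 : act 2 n5878 = n5878 := d21_1 D5878 (iv D5878) F19166
theorem F27085 : act 4 n5878 = n5878 := d32_1 D5878 (iv D5878) F19167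
theorem F27086 : act 5 n5878 = n5878 := d36_1 D5878 (iv D5878) F19168
theorem F27087 : act 6 n5878 = n4093 := d39_1 D5878 (iv D4093) (iv D2830) (iv F13588) D4061
theorem F27088 : act 8 n5878 = n5878 := d42_2 F19169 D5878 (iv D5878)
theorem F27089 : act 9 n5878 = n4077 := d43_2 (iv F19170) D5878 (iv D4077)
def n5879 : Q := act 6 n4062
theorem D5879 : act 6 n4062 = n5879 := rfl
theorem F27091 : act 4 n5879 = n4063 := d31_1 D5879 (iv D4063) D4062
def n5880 : Q := act 8 n4062
theorem D5880 : act 8 n4062 = n5880 := rfl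
theorem F27093 : act 4 n5880 = n4064 := d33_1 D5880 (iv D4064) D4062
theorem F27095 : act 7 n5880 = n4095 := d42_1 D5880 (iv D4095) (iv F19173)
def n5881 : Q := act 7 n4063
theorem D5881 : act 7 n4063 = n5881 := rfl
theorem F27096 : act 3 n5881 = n4066 := d27_1 D5881 (iv D4066) (iv F19175)
def n5882 : Q := act 8 n4063
theorem D5882 : act 8 n4063 = n5882 := rfl
theorem F27102 : act 6 n5882 = n4064 := d40_1 D5882 (iv D4064) D4063
def n5883 : Q := act 9 n4064
theorem D5883 : act 9 n4064 = n5883 := rfl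
def n5884 : Q := act 1 n4067
theorem D5884 : act 1 n4067 = n5884 := rfl
def n5885 : Q := act 5 n4067
theorem D5885 : act 5 n4067 = n5885 := rfl
theorem F27111 : act 0 n5885 = n4071 := d4_1 D5885 (iv D4071) (iv F19192)
theorem F27112 : act 2 n5885 = n4068 := d19_1 D5885 (iv D4068) D4067
def n5886 : Q := act 8 n4067
theorem D5886 : act 8 n4067 = n5886 := rfl
theorem F27116 : act 2 n5886 = n4069 := d22_1 D5886 (iv D4069) D4067
def n5887 : Q := act 4 n4068
theorem D5887 : act 4 n4068 = n5887 := rfl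
theorem F27120 : act 0 n5887 = n4073 := d3_1 D5887 (iv D4073) (iv F19197)
theorem F27121 : act 3 n5887 = n5887 := d24_1 D5887 (iv D5887) F19198 F13615 (iv F19198)
theorem F27122 : act 5 n5887 = n5887 := d30_2 D4068 D5887 (iv D5887) (iv D4068) F13610
theorem F27123 : act 7 n5887 = n4102 := d32_2 (iv F19199) D5887 (iv D4102)
def n5888 : Q := act 6 n4068
theorem D5888 : act 6 n4068 = n5888 := rfl
theorem F27124 : act 0 n5888 = n4074 := d5_1 D5888 (iv D4074) (iv F19197)
theorem F27125 : act 3 n5888 = n4070 := d26_1 D5888 (iv D4070) (iv F19198)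
theorem F27126 : act 5 n5888 = n5888 := d35_1 D5888 (iv D5888) (iv D4068) F13611 D4068
def n5889 : Q := act 8 n4068
theorem D5889 : act 8 n4068 = n5889 := rfl
theorem F27128 : act 3 n5889 = n4226 := d28_1 D5889 (iv D4226) F14039 (iv F13617) (iv F19198)
theorem F27130 : act 7 n5889 = n4104 := d42_1 D5889 (iv D4104) (iv F19199)
def n5890 : Q := act 9 n4069
theorem D5890 : act 9 n4069 = n5890 := rfl
def n5891 : Q := act 7 n4070
theorem D5891 : act 7 n4070 = n5891 := rfl
theorem F27136 : act 0 n5891 = n4077 := d6_1 D5891 (iv D4077) (iv F19205)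
theorem F27137 : act 2 n5891 = n5891 := d21_1 D5891 (iv D5891) F19206
theorem F27138 : act 4 n5891 = n5891 := d32_1 D5891 (iv D5891) F19207
theorem F27139 : act 5 n5891 = n5891 := d36_1 D5891 (iv D5891) F19208
theorem F27140 : act 6 n5891 = n4106 := d39_1 D5891 (iv D4106) (iv D2839) (iv F13616) D4070
theorem F27141 : act 8 n5891 = n4228 := d42_2 (iv F19209) D5891 (iv D4228)
def n5892 : Q := act 4 n4071
theorem D5892 : act 4 n4071 = n5892 := rfl
def n5893 : Q := act 6 n4071
theorem D5893 : act 6 n4071 = n5893 := rfl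
theorem F27145 : act 2 n5893 = n4074 := d20_1 D5893 (iv D4074) (iv F19210)
def n5894 : Q := act 8 n4071
theorem D5894 : act 8 n4071 = n5894 := rfl
theorem F27148 : act 2 n5894 = n4075 := d22_1 D5894 (iv D4075) (iv F19210)
def n5895 : Q := act 3 n4072
theorem D5895 : act 3 n4072 = n5895 := rfl
theorem F27151 : act 2 n5895 = n4232 := d17_1 D5895 (iv D4232) F14057 (iv F13626) (iv F19213)
def n5896 : Q := act 9 n4072
theorem D5896 : act 9 n4072 = n5896 := rfl
theorem F27155 : act 2 n5896 = n4076 := d23_1 D5896 (iv D4076) (iv F19213)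
def n5897 : Q := act 6 n4073
theorem D5897 : act 6 n4073 = n5897 := rfl
theorem F27159 : act 1 n5897 = n4078 := d13_1 D5897 (iv D4078) (iv F19217)
theorem F27161 : act 4 n5897 = n4074 := d31_1 D5897 (iv D4074) D4073
def n5898 : Q := act 8 n4073
theorem D5898 : act 8 n4073 = n5898 := rfl
theorem F27162 : act 1 n5898 = n4079 := d15_1 D5898 (iv D4079) (iv F19217)
theorem F27163 : act 4 n5898 = n4075 := d33_1 D5898 (iv D4075) D4073
theorem F27165 : act 7 n5898 = n4113 := d42_1 D5898 (iv D4113) (iv F19220)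
def n5899 : Q := act 7 n4074
theorem D5899 : act 7 n4074 = n5899 := rfl
theorem F27167 : act 3 n5899 = n4077 := d27_1 D5899 (iv D4077) (iv F19222)
def n5900 : Q := act 8 n4074
theorem D5900 : act 8 n4074 = n5900 := rfl
theorem F27171 : act 3 n5900 = n4237 := d28_1 D5900 (iv D4237) F14067 (iv F13634) (iv F19222)
def n5901 : Q := act 9 n4075
theorem D5901 : act 9 n4075 = n5901 := rfl
theorem F27174 : act 1 n5901 = n4082 := d16_1 D5901 (iv D4082) (iv F19224)
def n5902 : Q := act 5 n4078
theorem D5902 : act 5 n4078 = n5902 := rfl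
def n5903 : Q := act 7 n4078
theorem D5903 : act 7 n4078 = n5903 := rfl
theorem F27182 : act 4 n5903 = n4080 := d32_1 D5903 (iv D4080) (iv F19240)
theorem F27183 : act 6 n5903 = n4118 := d39_1 D5903 (iv D4118) (iv D2847) (iv F13637) D4078
def n5904 : Q := act 8 n4078
theorem D5904 : act 8 n4078 = n5904 := rfl
theorem F27184 : act 4 n5904 = n4081 := d33_1 D5904 (iv D4081) (iv F19240)
theorem F27185 : act 6 n5904 = n4079 := d40_1 D5904 (iv D4079) D4078
def n5905 : Q := act 3 n4079
theorem D5905 : act 3 n4079 = n5905 := rfl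
theorem F27186 : act 4 n5905 = n4242 := d24_2 (iv F19241) D5905 (iv D4242) F14089 (iv F13640)
theorem F27188 : act 7 n5905 = n4120 := d27_2 (iv F19243) D5905 (iv D4120)
def n5906 : Q := act 9 n4079
theorem D5906 : act 9 n4079 = n5906 := rfl
def n5907 : Q := act 8 n4080
theorem D5907 : act 8 n4080 = n5907 := rfl
theorem F27193 : act 3 n5907 = n4244 := d28_1 D5907 (iv D4244) F14093 (iv F13651) (iv F19244)
def n5908 : Q := act 9 n4081
theorem D5908 : act 9 n4081 = n5908 := rfl
def n5909 : Q := act 1 n4083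
theorem D5909 : act 1 n4083 = n5909 := rfl
theorem F27202 : act 6 n5909 = n4124 := d13_2 (iv F19256) D5909 (iv D4124)
theorem F27203 : act 9 n5909 = n4099 := d16_2 (iv F19257) D5909 (iv D4099)
def n5910 : Q := act 5 n4083
theorem D5910 : act 5 n4083 = n5910 := rfl
theorem F27204 : act 0 n5910 = n4087 := d4_1 D5910 (iv D4087) (iv F19253)
theorem F27205 : act 2 n5910 = n4084 := d19_1 D5910 (iv D4084) D4083
theorem F27207 : act 9 n5910 = n4100 := d38_2 (iv F19257) D5910 (iv D4100)
def n5911 : Q := act 8 n4083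
theorem D5911 : act 8 n4083 = n5911 := rfl
theorem F27211 : act 6 n5911 = n4126 := d40_1 D5911 (iv D4126) (iv F19256)
def n5912 : Q := act 4 n4084
theorem D5912 : act 4 n4084 = n5912 := rfl
theorem F27212 : act 0 n5912 = n4089 := d3_1 D5912 (iv D4089) (iv F19258)
theorem F27213 : act 3 n5912 = n5912 := d24_1 D5912 (iv D5912) F19259 F13658 (iv F19259)
theorem F27214 : act 5 n5912 = n5912 := d30_2 D4084 D5912 (iv D5912) (iv D4084) F13653
theorem F27215 : act 9 n5912 = n4102 := d34_2 (iv F19260) D5912 (iv D4102)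
def n5913 : Q := act 6 n4084
theorem D5913 : act 6 n4084 = n5913 := rfl
theorem F27216 : act 0 n5913 = n4090 := d5_1 D5913 (iv D4090) (iv F19258)
theorem F27217 : act 3 n5913 = n4086 := d26_1 D5913 (iv D4086) (iv F19259)
theorem F27218 : act 5 n5913 = n4128 := d35_1 D5913 (iv D4128) (iv D2853) (iv F13654) D4084
theorem F27219 : act 9 n5913 = n4103 := d41_2 (iv F19260) D5913 (iv D4103)
def n5914 : Q := act 8 n4084
theorem D5914 : act 8 n4084 = n5914 := rfl
def n5915 : Q := act 9 n4085
theorem D5915 : act 9 n4085 = n5915 := rfl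
theorem F27226 : act 6 n5915 = n4130 := d41_1 D5915 (iv D4130) (iv F19264)
def n5916 : Q := act 7 n4086
theorem D5916 : act 7 n4086 = n5916 := rfl
theorem F27228 : act 0 n5916 = n4093 := d6_1 D5916 (iv D4093) (iv F19265)
theorem F27229 : act 2 n5916 = n5916 := d21_1 D5916 (iv D5916) F19266
theorem F27230 : act 4 n5916 = n5916 := d32_1 D5916 (iv D5916) F19267
theorem F27231 : act 5 n5916 = n4131 := d36_1 D5916 (iv D4131) (iv F19268)
theorem F27232 : act 8 n5916 = n5916 := d42_2 F19269 D5916 (iv D5916)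
theorem F27233 : act 9 n5916 = n4106 := d43_2 (iv F19270) D5916 (iv D4106)
def n5918 : Q := act 6 n4087
theorem D5918 : act 6 n4087 = n5918 := rfl
theorem F27237 : act 2 n5918 = n4090 := d20_1 D5918 (iv D4090) (iv F19271)
theorem F27239 : act 5 n5918 = n4133 := d35_1 D5918 (iv D4133) (iv D2856) (iv F13663) D4087
theorem F27240 : act 9 n5918 = n4108 := d41_2 (iv F19273) D5918 (iv D4108)
def n5919 : Q := act 8 n4087
theorem D5919 : act 8 n4087 = n5919 := rfl
theorem F27241 : act 2 n5919 = n4091 := d22_1 D5919 (iv D4091) (iv F19271)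
def n5920 : Q := act 3 n4088
theorem D5920 : act 3 n4088 = n5920 := rfl
theorem F27244 : act 6 n5920 = n4135 := d26_2 (iv F19276) D5920 (iv D4135)
def n5921 : Q := act 9 n4088
theorem D5921 : act 9 n4088 = n5921 := rfl
theorem F27246 : act 2 n5921 = n4092 := d23_1 D5921 (iv D4092) (iv F19274)
def n5922 : Q := act 6 n4089
theorem D5922 : act 6 n4089 = n5922 := rfl
theorem F27250 : act 1 n5922 = n4094 := d13_1 D5922 (iv D4094) (iv F19277)
theorem F27251 : act 3 n5922 = n5922 := d26_1 D5922 (iv D5922) F19278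
theorem F27252 : act 4 n5922 = n4090 := d31_1 D5922 (iv D4090) D4089
theorem F27253 : act 9 n5922 = n4112 := d41_2 (iv F19280) D5922 (iv D4112)
def n5923 : Q := act 8 n4089
theorem D5923 : act 8 n4089 = n5923 := rfl
theorem F27254 : act 1 n5923 = n4095 := d15_1 D5923 (iv D4095) (iv F19277)
theorem F27255 : act 4 n5923 = n4091 := d33_1 D5923 (iv D4091) D4089
def n5924 : Q := act 7 n4090
theorem D5924 : act 7 n4090 = n5924 := rfl
theorem F27257 : act 1 n5924 = n4096 := d14_1 D5924 (iv D4096) (iv F19281)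
theorem F27258 : act 3 n5924 = n4093 := d27_1 D5924 (iv D4093) (iv F19282)
theorem F27259 : act 5 n5924 = n4139 := d36_1 D5924 (iv D4139) (iv F19283)
theorem F27260 : act 9 n5924 = n4114 := d43_2 (iv F19284) D5924 (iv D4114)
def n5925 : Q := act 8 n4090
theorem D5925 : act 8 n4090 = n5925 := rfl
theorem F27261 : act 1 n5925 = n4097 := d15_1 D5925 (iv D4097) (iv F19281)
def n5926 : Q := act 9 n4091
theorem D5926 : act 9 n4091 = n5926 := rfl
theorem F27265 : act 1 n5926 = n4098 := d16_1 D5926 (iv D4098) (iv F19285)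
def n5927 : Q := act 5 n4094
theorem D5927 : act 5 n4094 = n5927 := rfl
theorem F27272 : act 9 n5927 = n4117 := d38_2 (iv F19301) D5927 (iv D4117)
def n5928 : Q := act 7 n4094
theorem D5928 : act 7 n4094 = n5928 := rfl
theorem F27274 : act 4 n5928 = n4096 := d32_1 D5928 (iv D4096) (iv F19300)
def n5929 : Q := act 8 n4094
theorem D5929 : act 8 n4094 = n5929 := rfl
theorem F27276 : act 4 n5929 = n4097 := d33_1 D5929 (iv D4097) (iv F19300)
theorem F27277 : act 6 n5929 = n4095 := d40_1 D5929 (iv D4095) D4094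
def n5930 : Q := act 3 n4095
theorem D5930 : act 3 n4095 = n5930 := rfl
def n5931 : Q := act 9 n4095
theorem D5931 : act 9 n4095 = n5931 := rfl
theorem F27283 : act 8 n5931 = n4121 := d44_1 D5931 (iv D4121) (iv D2848) (iv F13680) D4095
def n5932 : Q := act 8 n4096
theorem D5932 : act 8 n4096 = n5932 := rfl
theorem F27285 : act 5 n5932 = n4147 := d37_1 D5932 (iv D4147) (iv F19305)
theorem F27286 : act 7 n5932 = n4097 := d42_1 D5932 (iv D4097) D4096
def n5933 : Q := act 9 n4097
theorem D5933 : act 9 n4097 = n5933 := rfl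
def n5934 : Q := act 5 n4099
theorem D5934 : act 5 n4099 = n5934 := rfl
def n5936 : Q := act 4 n4100
theorem D5936 : act 4 n4100 = n5936 := rfl
theorem F27296 : act 0 n5936 = n4107 := d3_1 D5936 (iv D4107) (iv F19316)
theorem F27297 : act 2 n5936 = n4102 := d18_1 D5936 (iv D4102) (iv F19317)
def n5937 : Q := act 6 n4100
theorem D5937 : act 6 n4100 = n5937 := rfl
theorem F27300 : act 2 n5937 = n4103 := d20_1 D5937 (iv D4103) (iv F19317)
theorem F27302 : act 5 n5937 = n4152 := d35_1 D5937 (iv D4152) (iv D2869) (iv F13698) D4100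
def n5938 : Q := act 8 n4100
theorem D5938 : act 8 n4100 = n5938 := rfl
theorem F27304 : act 2 n5938 = n4104 := d22_1 D5938 (iv D4104) (iv F19317)
def n5941 : Q := act 6 n4102
theorem D5941 : act 6 n4102 = n5941 := rfl
theorem F27314 : act 0 n5941 = n4112 := d5_1 D5941 (iv D4112) (iv F19323)
theorem F27315 : act 3 n5941 = n5941 := d26_1 D5941 (iv D5941) F19324
theorem F27316 : act 4 n5941 = n4103 := d31_1 D5941 (iv D4103) D4102
def n5942 : Q := act 8 n4102
theorem D5942 : act 8 n4102 = n5942 := rfl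
theorem F27318 : act 4 n5942 = n4104 := d33_1 D5942 (iv D4104) D4102
def n5943 : Q := act 7 n4103
theorem D5943 : act 7 n4103 = n5943 := rfl
theorem F27320 : act 0 n5943 = n4114 := d6_1 D5943 (iv D4114) (iv F19326)
theorem F27321 : act 3 n5943 = n4106 := d27_1 D5943 (iv D4106) (iv F19327)
theorem F27322 : act 5 n5943 = n4158 := d36_1 D5943 (iv D4158) (iv F19328)
def n5944 : Q := act 8 n4103
theorem D5944 : act 8 n4103 = n5944 := rfl
theorem F27324 : act 3 n5944 = n4256 := d28_1 D5944 (iv D4256) F14122 (iv F13709) (iv F19327)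
theorem F27325 : act 5 n5944 = n4159 := d37_1 D5944 (iv D4159) (iv F19328)
def n5945 : Q := act 9 n4104
theorem D5945 : act 9 n4104 = n5945 := rfl
def n5947 : Q := act 6 n4107
theorem D5947 : act 6 n4107 = n5947 := rfl
theorem F27334 : act 4 n5947 = n4108 := d31_1 D5947 (iv D4108) D4107
def n5948 : Q := act 8 n4107
theorem D5948 : act 8 n4107 = n5948 := rfl
theorem F27335 : act 2 n5948 = n4113 := d22_1 D5948 (iv D4113) (iv F19341)
def n5949 : Q := act 7 n4108
theorem D5949 : act 7 n4108 = n5949 := rfl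
theorem F27338 : act 2 n5949 = n4114 := d21_1 D5949 (iv D4114) (iv F19343)
def n5950 : Q := act 8 n4108
theorem D5950 : act 8 n4108 = n5950 := rfl
theorem F27341 : act 2 n5950 = n4115 := d22_1 D5950 (iv D4115) (iv F19343)
def n5955 : Q := act 5 n4112
theorem D5955 : act 5 n4112 = n5955 := rfl
theorem F27356 : act 1 n5955 = n4117 := d12_1 D5955 (iv D4117) (iv F19354)
theorem F27358 : act 4 n5955 = n4170 := d30_1 D5955 (iv D4170) F13853 (iv F13720) (iv F19356)
def n5956 : Q := act 7 n4112
theorem D5956 : act 7 n4112 = n5956 := rfl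
theorem F27360 : act 1 n5956 = n4118 := d14_1 D5956 (iv D4118) (iv F19354)
theorem F27362 : act 4 n5956 = n4114 := d32_1 D5956 (iv D4114) (iv F19356)
def n5957 : Q := act 8 n4112
theorem D5957 : act 8 n4112 = n5957 := rfl
theorem F27363 : act 1 n5957 = n4119 := d15_1 D5957 (iv D4119) (iv F19354)
theorem F27364 : act 4 n5957 = n4115 := d33_1 D5957 (iv D4115) (iv F19356)
theorem F27365 : act 6 n5957 = n4113 := d40_1 D5957 (iv D4113) D4112
def n5958 : Q := act 3 n4113
theorem D5958 : act 3 n4113 = n5958 := rfl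
theorem F27366 : act 1 n5958 = n4120 := d10_1 D5958 (iv D4120) (iv F19357)
theorem F27367 : act 4 n5958 = n4269 := d24_2 (iv F19358) D5958 (iv D4269) F14162 (iv F13722)
def n5959 : Q := act 9 n4113
theorem D5959 : act 9 n4113 = n5959 := rfl
def n5960 : Q := act 8 n4114
theorem D5960 : act 8 n4114 = n5960 := rfl
theorem F27374 : act 3 n5960 = n4271 := d28_1 D5960 (iv D4271) F14165 (iv F13732) (iv F19361)
theorem F27375 : act 5 n5960 = n4174 := d37_1 D5960 (iv D4174) (iv F19362)
def n5961 : Q := act 9 n4115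
theorem D5961 : act 9 n4115 = n5961 := rfl
theorem F27377 : act 1 n5961 = n4123 := d16_1 D5961 (iv D4123) (iv F19363)
def n5962 : Q := act 7 n4117
theorem D5962 : act 7 n4117 = n5962 := rfl
theorem F27382 : act 4 n5962 = n4176 := d32_1 D5962 (iv D4176) (iv F19371)
theorem F27383 : act 5 n5962 = n4118 := d36_1 D5962 (iv D4118) D4117
def n5963 : Q := act 8 n4117
theorem D5963 : act 8 n4117 = n5963 := rfl
theorem F27384 : act 4 n5963 = n4177 := d33_1 D5963 (iv D4177) (iv F19371)
theorem F27385 : act 5 n5963 = n4119 := d37_1 D5963 (iv D4119) D4117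
def n5964 : Q := act 8 n4118
theorem D5964 : act 8 n4118 = n5964 := rfl
theorem F27387 : act 4 n5964 = n4122 := d33_1 D5964 (iv D4122) (iv F19374)
theorem F27388 : act 7 n5964 = n4119 := d42_1 D5964 (iv D4119) D4118
def n5965 : Q := act 3 n4119
theorem D5965 : act 3 n4119 = n5965 := rfl
theorem F27389 : act 4 n5965 = n4274 := d24_2 (iv F19375) D5965 (iv D4274) F14180 (iv F13739)
theorem F27390 : act 6 n5965 = n4120 := d26_2 (iv F19376) D5965 (iv D4120)
def n5966 : Q := act 9 n4119
theorem D5966 : act 9 n4119 = n5966 := rfl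
theorem F27393 : act 6 n5966 = n4121 := d41_1 D5966 (iv D4121) (iv F19376)
def n5967 : Q := act 2 n4120
theorem D5967 : act 2 n4120 = n5967 := rfl
theorem F27394 : act 4 n5967 = n4276 := d18_2 (iv F19377) D5967 (iv D4276)
def n5968 : Q := act 9 n4120
theorem D5968 : act 9 n4120 = n5968 := rfl
theorem F27397 : act 3 n5968 = n4121 := d29_1 D5968 (iv D4121) D4120
theorem F27398 : act 4 n5968 = n4277 := d34_1 D5968 (iv D4277) (iv F19377)
def n5969 : Q := act 9 n4122
theorem D5969 : act 9 n4122 = n5969 := rfl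
theorem F27401 : act 5 n5969 = n4180 := d38_1 D5969 (iv D4180) (iv F19383)
def n5970 : Q := act 5 n4124
theorem D5970 : act 5 n4124 = n5970 := rfl
theorem F27403 : act 1 n5970 = n4125 := d12_1 D5970 (iv D4125) D4124
theorem F27406 : act 9 n5970 = n4149 := d38_2 (iv F19391) D5970 (iv D4149)
def n5971 : Q := act 8 n4124
theorem D5971 : act 8 n4124 = n5971 := rfl
def n5972 : Q := act 4 n4125
theorem D5972 : act 4 n4125 = n5972 := rfl
theorem F27410 : act 0 n5972 = n4132 := d3_1 D5972 (iv D4132) (iv F19392)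
theorem F27411 : act 2 n5972 = n4127 := d18_1 D5972 (iv D4127) (iv F19393)
theorem F27414 : act 9 n5972 = n4151 := d34_2 (iv F19396) D5972 (iv D4151)
def n5973 : Q := act 6 n4125
theorem D5973 : act 6 n4125 = n5973 := rfl
theorem F27415 : act 0 n5973 = n4133 := d5_1 D5973 (iv D4133) (iv F19392)
theorem F27416 : act 2 n5973 = n4128 := d20_1 D5973 (iv D4128) (iv F19393)
def n5974 : Q := act 8 n4125
theorem D5974 : act 8 n4125 = n5974 := rfl
theorem F27421 : act 5 n5974 = n4126 := d37_1 D5974 (iv D4126) D4125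
def n5976 : Q := act 9 n4126
theorem D5976 : act 9 n4126 = n5976 := rfl
def n5977 : Q := act 6 n4127
theorem D5977 : act 6 n4127 = n5977 := rfl
theorem F27432 : act 0 n5977 = n4137 := d5_1 D5977 (iv D4137) (iv F19401)
theorem F27433 : act 3 n5977 = n4187 := d26_1 D5977 (iv D4187) (iv F19402)
theorem F27434 : act 4 n5977 = n4128 := d31_1 D5977 (iv D4128) D4127
theorem F27435 : act 9 n5977 = n4156 := d41_2 (iv F19405) D5977 (iv D4156)
def n5978 : Q := act 8 n4127
theorem D5978 : act 8 n4127 = n5978 := rfl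
theorem F27436 : act 0 n5978 = n4138 := d7_1 D5978 (iv D4138) (iv F19401)
theorem F27437 : act 4 n5978 = n4129 := d33_1 D5978 (iv D4129) D4127
def n5979 : Q := act 7 n4128
theorem D5979 : act 7 n4128 = n5979 := rfl
theorem F27440 : act 0 n5979 = n4139 := d6_1 D5979 (iv D4139) (iv F19406)
theorem F27441 : act 3 n5979 = n4131 := d27_1 D5979 (iv D4131) (iv F19407)
theorem F27442 : act 6 n5979 = n5979 := d39_1 D5979 (iv D5979) (iv D4128) F13751 D4128
theorem F27443 : act 9 n5979 = n4158 := d43_2 (iv F19408) D5979 (iv D4158)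
def n5980 : Q := act 8 n4128
theorem D5980 : act 8 n4128 = n5980 := rfl
def n5981 : Q := act 9 n4129
theorem D5981 : act 9 n4129 = n5981 := rfl
theorem F27449 : act 5 n5981 = n4130 := d38_1 D5981 (iv D4130) (iv F19411)
def n5982 : Q := act 3 n4132
theorem D5982 : act 3 n4132 = n5982 := rfl
theorem F27452 : act 2 n5982 = n4191 := d17_1 D5982 (iv D4191) F13923 (iv F13770) (iv F19424)
theorem F27456 : act 9 n5982 = n4161 := d29_2 (iv F19427) D5982 (iv D4161)
def n5983 : Q := act 6 n4132
theorem D5983 : act 6 n4132 = n5983 := rfl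
theorem F27457 : act 2 n5983 = n4137 := d20_1 D5983 (iv D4137) (iv F19424)
theorem F27458 : act 4 n5983 = n4133 := d31_1 D5983 (iv D4133) D4132
theorem F27459 : act 9 n5983 = n4162 := d41_2 (iv F19427) D5983 (iv D4162)
def n5984 : Q := act 8 n4132
theorem D5984 : act 8 n4132 = n5984 := rfl
theorem F27461 : act 4 n5984 = n4134 := d33_1 D5984 (iv D4134) D4132
def n5985 : Q := act 7 n4133
theorem D5985 : act 7 n4133 = n5985 := rfl
theorem F27464 : act 2 n5985 = n4139 := d21_1 D5985 (iv D4139) (iv F19428)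
theorem F27467 : act 9 n5985 = n4164 := d43_2 (iv F19430) D5985 (iv D4164)
def n5986 : Q := act 8 n4133
theorem D5986 : act 8 n4133 = n5986 := rfl
theorem F27468 : act 2 n5986 = n4140 := d22_1 D5986 (iv D4140) (iv F19428)
def n5987 : Q := act 3 n4134
theorem D5987 : act 3 n4134 = n5987 := rfl
theorem F27471 : act 5 n5987 = n4135 := d25_2 (iv F19432) D5987 (iv D4135)
def n5988 : Q := act 9 n4134
theorem D5988 : act 9 n4134 = n5988 := rfl
theorem F27474 : act 2 n5988 = n4141 := d23_1 D5988 (iv D4141) (iv F19431)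
def n5990 : Q := act 9 n4135
theorem D5990 : act 9 n4135 = n5990 := rfl
theorem F27483 : act 3 n5990 = n4136 := d29_1 D5990 (iv D4136) D4135
def n5991 : Q := act 5 n4137
theorem D5991 : act 5 n4137 = n5991 := rfl
theorem F27485 : act 1 n5991 = n4142 := d12_1 D5991 (iv D4142) (iv F19441)
theorem F27486 : act 3 n5991 = n4198 := d25_1 D5991 (iv D4198) (iv F19442)
theorem F27487 : act 6 n5991 = n5991 := d35_2 D4137 D5991 (iv D5991) (iv D4137) F13771
theorem F27488 : act 9 n5991 = n4170 := d38_2 (iv F19444) D5991 (iv D4170)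
def n5992 : Q := act 7 n4137
theorem D5992 : act 7 n4137 = n5992 := rfl
theorem F27489 : act 1 n5992 = n4143 := d14_1 D5992 (iv D4143) (iv F19441)
theorem F27490 : act 3 n5992 = n4199 := d27_1 D5992 (iv D4199) (iv F19442)
theorem F27491 : act 4 n5992 = n4139 := d32_1 D5992 (iv D4139) (iv F19443)
theorem F27492 : act 6 n5992 = n5992 := d39_1 D5992 (iv D5992) (iv D4137) F13772 D4137
theorem F27493 : act 9 n5992 = n4171 := d43_2 (iv F19444) D5992 (iv D4171)
def n5993 : Q := act 8 n4137
theorem D5993 : act 8 n4137 = n5993 := rfl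
theorem F27494 : act 1 n5993 = n4144 := d15_1 D5993 (iv D4144) (iv F19441)
theorem F27495 : act 4 n5993 = n4140 := d33_1 D5993 (iv D4140) (iv F19443)
def n5994 : Q := act 3 n4138
theorem D5994 : act 3 n4138 = n5994 := rfl
theorem F27497 : act 1 n5994 = n4145 := d10_1 D5994 (iv D4145) (iv F19445)
theorem F27501 : act 8 n5994 = n4201 := d28_2 D4138 D5994 (iv D4201) (iv D2904) (iv F13770)
def n5995 : Q := act 9 n4138
theorem D5995 : act 9 n4138 = n5995 := rfl
theorem F27503 : act 4 n5995 = n4141 := d34_1 D5995 (iv D4141) (iv F19446)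
def n5996 : Q := act 8 n4139
theorem D5996 : act 8 n4139 = n5996 := rfl
def n5997 : Q := act 9 n4140
theorem D5997 : act 9 n4140 = n5997 := rfl
theorem F27511 : act 1 n5997 = n4148 := d16_1 D5997 (iv D4148) (iv F19453)
def n5998 : Q := act 7 n4142
theorem D5998 : act 7 n4142 = n5998 := rfl
theorem F27516 : act 5 n5998 = n4143 := d36_1 D5998 (iv D4143) D4142
def n5999 : Q := act 8 n4142
theorem D5999 : act 8 n4142 = n5999 := rfl
theorem F27518 : act 5 n5999 = n4144 := d37_1 D5999 (iv D4144) D4142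
def n6000 : Q := act 8 n4143
theorem D6000 : act 8 n4143 = n6000 := rfl
theorem F27520 : act 4 n6000 = n4147 := d33_1 D6000 (iv D4147) (iv F19465)
theorem F27522 : act 7 n6000 = n4144 := d42_1 D6000 (iv D4144) D4143
def n6001 : Q := act 3 n4144
theorem D6001 : act 3 n4144 = n6001 := rfl
theorem F27523 : act 4 n6001 = n6001 := d24_2 (iv F19468) D6001 (iv D6001) F19468 F13801
theorem F27524 : act 6 n6001 = n4145 := d26_2 (iv F19469) D6001 (iv D4145)
theorem F27525 : act 8 n6001 = n4206 := d28_2 D4144 D6001 (iv D4206) (iv D2909) (iv F13792)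
def n6002 : Q := act 9 n4144
theorem D6002 : act 9 n4144 = n6002 := rfl
theorem F27526 : act 4 n6002 = n4148 := d34_1 D6002 (iv D4148) (iv F19468)
theorem F27528 : act 8 n6002 = n4179 := d44_1 D6002 (iv D4179) (iv D2888) (iv F13794) D4144
def n6003 : Q := act 2 n4145
theorem D6003 : act 2 n4145 = n6003 := rfl
theorem F27532 : act 8 n6003 = n4207 := d22_2 (iv F19473) D6003 (iv D4207)
def n6004 : Q := act 9 n4145
theorem D6004 : act 9 n4145 = n6004 := rfl
def n6005 : Q := act 9 n4147
theorem D6005 : act 9 n4147 = n6005 := rfl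
def n6006 : Q := act 4 n4149
theorem D6006 : act 4 n4149 = n6006 := rfl
theorem F27542 : act 1 n6006 = n4151 := d11_1 D6006 (iv D4151) (iv F19484)
def n6007 : Q := act 6 n4149
theorem D6007 : act 6 n4149 = n6007 := rfl
def n6011 : Q := act 3 n4151
theorem D6011 : act 3 n4151 = n6011 := rfl
theorem F27557 : act 2 n6011 = n4210 := d17_1 D6011 (iv D4210) F13989 (iv F13819) (iv F19491)
def n6012 : Q := act 6 n4151
theorem D6012 : act 6 n4151 = n6012 := rfl
theorem F27562 : act 2 n6012 = n4156 := d20_1 D6012 (iv D4156) (iv F19491)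
theorem F27563 : act 4 n6012 = n4152 := d31_1 D6012 (iv D4152) D4151
def n6013 : Q := act 8 n4151
theorem D6013 : act 8 n4151 = n6013 := rfl
theorem F27566 : act 4 n6013 = n4153 := d33_1 D6013 (iv D4153) D4151
def n6014 : Q := act 7 n4152
theorem D6014 : act 7 n4152 = n6014 := rfl
theorem F27570 : act 2 n6014 = n4158 := d21_1 D6014 (iv D4158) (iv F19495)
def n6015 : Q := act 8 n4152
theorem D6015 : act 8 n4152 = n6015 := rfl
theorem F27574 : act 2 n6015 = n4159 := d22_1 D6015 (iv D4159) (iv F19495)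
def n6020 : Q := act 5 n4156
theorem D6020 : act 5 n4156 = n6020 := rfl
theorem F27594 : act 0 n6020 = n4170 := d4_1 D6020 (iv D4170) (iv F19509)
theorem F27595 : act 3 n6020 = n4213 := d25_1 D6020 (iv D4213) (iv F19510)
theorem F27596 : act 6 n6020 = n6020 := d35_2 D4156 D6020 (iv D6020) (iv D4156) F13820
def n6021 : Q := act 7 n4156
theorem D6021 : act 7 n4156 = n6021 := rfl
theorem F27597 : act 0 n6021 = n4171 := d6_1 D6021 (iv D4171) (iv F19509)
theorem F27598 : act 3 n6021 = n4214 := d27_1 D6021 (iv D4214) (iv F19510)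
theorem F27599 : act 4 n6021 = n4158 := d32_1 D6021 (iv D4158) (iv F19511)
theorem F27600 : act 6 n6021 = n6021 := d39_1 D6021 (iv D6021) (iv D4156) F13821 D4156
def n6022 : Q := act 8 n4156
theorem D6022 : act 8 n4156 = n6022 := rfl
theorem F27603 : act 4 n6022 = n4159 := d33_1 D6022 (iv D4159) (iv F19511)
def n6023 : Q := act 9 n4157
theorem D6023 : act 9 n4157 = n6023 := rfl
def n6024 : Q := act 8 n4158
theorem D6024 : act 8 n4158 = n6024 := rfl
theorem F27611 : act 3 n6024 = n4289 := d28_1 D6024 (iv D4289) F14225 (iv F13836) (iv F19518)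
def n6025 : Q := act 9 n4159
theorem D6025 : act 9 n4159 = n6025 := rfl
def n6026 : Q := act 6 n4161
theorem D6026 : act 6 n4161 = n6026 := rfl
theorem F27617 : act 2 n6026 = n4215 := d20_1 D6026 (iv D4215) (iv F19527)
theorem F27618 : act 3 n6026 = n4162 := d26_1 D6026 (iv D4162) D4161
def n6028 : Q := act 5 n4162
theorem D6028 : act 5 n4162 = n6028 := rfl
def n6029 : Q := act 7 n4162
theorem D6029 : act 7 n4162 = n6029 := rfl
theorem F27626 : act 2 n6029 = n4171 := d21_1 D6029 (iv D4171) (iv F19531)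
def n6033 : Q := act 8 n4164
theorem D6033 : act 8 n4164 = n6033 := rfl
theorem F27639 : act 2 n6033 = n4174 := d22_1 D6033 (iv D4174) (iv F19537)
def n6041 : Q := act 7 n4170
theorem D6041 : act 7 n4170 = n6041 := rfl
theorem F27666 : act 3 n6041 = n4219 := d27_1 D6041 (iv D4219) (iv F19557)
def n6042 : Q := act 8 n4170
theorem D6042 : act 8 n4170 = n6042 := rfl
theorem F27670 : act 5 n6042 = n4172 := d37_1 D6042 (iv D4172) D4170
def n6043 : Q := act 8 n4171
theorem D6043 : act 8 n4171 = n6043 := rfl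
theorem F27674 : act 4 n6043 = n4174 := d33_1 D6043 (iv D4174) (iv F19561)
def n6044 : Q := act 9 n4172
theorem D6044 : act 9 n4172 = n6044 := rfl
def n6047 : Q := act 8 n4176
theorem D6047 : act 8 n4176 = n6047 := rfl
theorem F27689 : act 5 n6047 = n4178 := d37_1 D6047 (iv D4178) (iv F19580)
def n6048 : Q := act 9 n4177
theorem D6048 : act 9 n4177 = n6048 := rfl
def n6049 : Q := act 9 n4178
theorem D6049 : act 9 n4178 = n6049 := rfl
def n6050 : Q := act 4 n4181
theorem D6050 : act 4 n4181 = n6050 := rfl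
theorem F27698 : act 0 n6050 = n6050 := d3_1 D6050 (iv D6050) F19594
theorem F27699 : act 1 n6050 = n4183 := d11_1 D6050 (iv D4183) (iv F19595)
theorem F27700 : act 5 n6050 = n6050 := d30_2 D4181 D6050 (iv D6050) (iv D4181) F13888
theorem F27701 : act 7 n6050 = n6050 := d32_2 F19597 D6050 (iv D6050)
theorem F27702 : act 9 n6050 = n4208 := d34_2 (iv F19598) D6050 (iv D4208)
def n6051 : Q := act 6 n4181
theorem D6051 : act 6 n4181 = n6051 := rfl
theorem F27703 : act 0 n6051 = n6051 := d5_1 D6051 (iv D6051) F19594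
theorem F27704 : act 1 n6051 = n4184 := d13_1 D6051 (iv D4184) (iv F19595)
theorem F27705 : act 3 n6051 = n6051 := d26_1 D6051 (iv D6051) F19596
theorem F27706 : act 5 n6051 = n6051 := d35_1 D6051 (iv D6051) (iv D4181) F13889 D4181
theorem F27707 : act 9 n6051 = n4209 := d41_2 (iv F19598) D6051 (iv D4209)
def n6052 : Q := act 8 n4181
theorem D6052 : act 8 n4181 = n6052 := rfl
theorem F27709 : act 1 n6052 = n4185 := d15_1 D6052 (iv D4185) (iv F19595)
def n6054 : Q := act 3 n4183
theorem D6054 : act 3 n4183 = n6054 := rfl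
theorem F27719 : act 0 n6054 = n4191 := d2_1 D6054 (iv D4191) (iv F19605)
theorem F27720 : act 4 n6054 = n6054 := d24_2 D4183 D6054 (iv D6054) (iv D4183) F13894
theorem F27721 : act 5 n6054 = n6054 := d25_2 F19607 D6054 (iv D6054)
theorem F27722 : act 7 n6054 = n6054 := d27_2 F19608 D6054 (iv D6054)
theorem F27723 : act 9 n6054 = n4210 := d29_2 (iv F19609) D6054 (iv D4210)
def n6055 : Q := act 6 n4183
theorem D6055 : act 6 n4183 = n6055 := rfl
theorem F27724 : act 0 n6055 = n4192 := d5_1 D6055 (iv D4192) (iv F19605)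
theorem F27725 : act 2 n6055 = n4187 := d20_1 D6055 (iv D4187) (iv F19606)
theorem F27726 : act 4 n6055 = n4184 := d31_1 D6055 (iv D4184) D4183
theorem F27727 : act 9 n6055 = n4211 := d41_2 (iv F19609) D6055 (iv D4211)
def n6056 : Q := act 8 n4183
theorem D6056 : act 8 n4183 = n6056 := rfl
theorem F27728 : act 0 n6056 = n4193 := d7_1 D6056 (iv D4193) (iv F19605)
theorem F27729 : act 2 n6056 = n4188 := d22_1 D6056 (iv D4188) (iv F19606)
theorem F27730 : act 4 n6056 = n4185 := d33_1 D6056 (iv D4185) D4183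
theorem F27731 : act 5 n6056 = n6056 := d37_1 D6056 (iv D6056) F19607
theorem F27732 : act 7 n6056 = n6056 := d42_1 D6056 (iv D6056) F19608
theorem F27733 : act 9 n6056 = n6056 := d44_2 (iv F19609) D6056 (iv D6056) F19609 F13992
def n6057 : Q := act 7 n4184
theorem D6057 : act 7 n4184 = n6057 := rfl
theorem F27734 : act 0 n6057 = n4194 := d6_1 D6057 (iv D4194) (iv F19610)
theorem F27735 : act 2 n6057 = n4189 := d21_1 D6057 (iv D4189) (iv F19611)
theorem F27736 : act 3 n6057 = n6057 := d27_1 D6057 (iv D6057) F19612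
theorem F27737 : act 5 n6057 = n6057 := d36_1 D6057 (iv D6057) F19613
theorem F27738 : act 6 n6057 = n6057 := d39_1 D6057 (iv D6057) (iv D4184) F13895 D4184
theorem F27739 : act 9 n6057 = n4212 := d43_2 (iv F19614) D6057 (iv D4212)
def n6058 : Q := act 8 n4184
theorem D6058 : act 8 n4184 = n6058 := rfl
theorem F27740 : act 0 n6058 = n4195 := d7_1 D6058 (iv D4195) (iv F19610)
theorem F27741 : act 2 n6058 = n4190 := d22_1 D6058 (iv D4190) (iv F19611)
theorem F27742 : act 5 n6058 = n6058 := d37_1 D6058 (iv D6058) F19613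
theorem F27743 : act 6 n6058 = n4185 := d40_1 D6058 (iv D4185) D4184
theorem F27744 : act 9 n6058 = n6058 := d44_2 (iv F19614) D6058 (iv D6058) F19614 F13997
def n6059 : Q := act 3 n4185
theorem D6059 : act 3 n4185 = n6059 := rfl
theorem F27745 : act 0 n6059 = n4196 := d2_1 D6059 (iv D4196) (iv F19615)
def n6061 : Q := act 5 n4187
theorem D6061 : act 5 n4187 = n6061 := rfl
theorem F27758 : act 0 n6061 = n4198 := d4_1 D6061 (iv D4198) (iv F19626)
theorem F27759 : act 4 n6061 = n6061 := d30_1 D6061 (iv D6061) F19627 F13909 (iv F19627)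
theorem F27760 : act 6 n6061 = n6061 := d35_2 D4187 D6061 (iv D6061) (iv D4187) F13904
theorem F27761 : act 9 n6061 = n4213 := d38_2 (iv F19628) D6061 (iv D4213)
def n6062 : Q := act 7 n4187
theorem D6062 : act 7 n4187 = n6062 := rfl
theorem F27762 : act 0 n6062 = n4199 := d6_1 D6062 (iv D4199) (iv F19626)
theorem F27763 : act 4 n6062 = n4189 := d32_1 D6062 (iv D4189) (iv F19627)
theorem F27764 : act 6 n6062 = n6062 := d39_1 D6062 (iv D6062) (iv D4187) F13905 D4187
theorem F27765 : act 9 n6062 = n4214 := d43_2 (iv F19628) D6062 (iv D4214)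
def n6063 : Q := act 8 n4187
theorem D6063 : act 8 n4187 = n6063 := rfl
theorem F27766 : act 0 n6063 = n4200 := d7_1 D6063 (iv D4200) (iv F19626)
theorem F27767 : act 4 n6063 = n4190 := d33_1 D6063 (iv D4190) (iv F19627)
theorem F27768 : act 6 n6063 = n4188 := d40_1 D6063 (iv D4188) D4187
theorem F27769 : act 9 n6063 = n6063 := d44_2 (iv F19628) D6063 (iv D6063) F19628 F14000
def n6064 : Q := act 3 n4188
theorem D6064 : act 3 n4188 = n6064 := rfl
theorem F27770 : act 0 n6064 = n4201 := d2_1 D6064 (iv D4201) (iv F19629)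
theorem F27771 : act 4 n6064 = n6064 := d24_2 (iv F19630) D6064 (iv D6064) F19630 F13912
theorem F27772 : act 5 n6064 = n6064 := d25_2 F19631 D6064 (iv D6064)
theorem F27773 : act 7 n6064 = n6064 := d27_2 F19632 D6064 (iv D6064)
theorem F27774 : act 9 n6064 = n6064 := d29_2 F19633 D6064 (iv D6064)
def n6065 : Q := act 8 n4189
theorem D6065 : act 8 n4189 = n6065 := rfl
theorem F27775 : act 0 n6065 = n4202 := d7_1 D6065 (iv D4202) (iv F19634)
theorem F27776 : act 3 n6065 = n6065 := d28_1 D6065 (iv D6065) F19635 F13920 (iv F19635)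
theorem F27777 : act 5 n6065 = n6065 := d37_1 D6065 (iv D6065) F19636
theorem F27778 : act 6 n6065 = n6065 := d40_1 D6065 (iv D6065) F19637
theorem F27779 : act 7 n6065 = n4190 := d42_1 D6065 (iv D4190) D4189
theorem F27780 : act 9 n6065 = n6065 := d44_2 (iv F19638) D6065 (iv D6065) F19638 F14005
def n6066 : Q := act 6 n4191
theorem D6066 : act 6 n4191 = n6066 := rfl
theorem F27781 : act 1 n6066 = n6066 := d13_1 D6066 (iv D6066) F19644
theorem F27782 : act 3 n6066 = n4192 := d26_1 D6066 (iv D4192) D4191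
theorem F27783 : act 4 n6066 = n6066 := d31_1 D6066 (iv D6066) F19645
theorem F27784 : act 9 n6066 = n4215 := d41_2 (iv F19648) D6066 (iv D4215)
def n6067 : Q := act 8 n4191
theorem D6067 : act 8 n4191 = n6067 := rfl
def n6068 : Q := act 5 n4192
theorem D6068 : act 5 n4192 = n6068 := rfl
theorem F27789 : act 1 n6068 = n6068 := d12_1 D6068 (iv D6068) F19649
theorem F27790 : act 2 n6068 = n4198 := d19_1 D6068 (iv D4198) (iv F19650)
theorem F27791 : act 4 n6068 = n6068 := d30_1 D6068 (iv D6068) F19651 F13930 (iv F19651)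
theorem F27792 : act 6 n6068 = n6068 := d35_2 D4192 D6068 (iv D6068) (iv D4192) F13924
theorem F27793 : act 9 n6068 = n4217 := d38_2 (iv F19652) D6068 (iv D4217)
def n6069 : Q := act 7 n4192
theorem D6069 : act 7 n4192 = n6069 := rfl
theorem F27794 : act 1 n6069 = n6069 := d14_1 D6069 (iv D6069) F19649
theorem F27795 : act 2 n6069 = n4199 := d21_1 D6069 (iv D4199) (iv F19650)
theorem F27796 : act 4 n6069 = n4194 := d32_1 D6069 (iv D4194) (iv F19651)
theorem F27797 : act 6 n6069 = n6069 := d39_1 D6069 (iv D6069) (iv D4192) F13925 D4192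
theorem F27798 : act 9 n6069 = n4218 := d43_2 (iv F19652) D6069 (iv D4218)
def n6070 : Q := act 8 n4192
theorem D6070 : act 8 n4192 = n6070 := rfl
theorem F27799 : act 1 n6070 = n6070 := d15_1 D6070 (iv D6070) F19649
theorem F27800 : act 2 n6070 = n4200 := d22_1 D6070 (iv D4200) (iv F19650)
theorem F27801 : act 4 n6070 = n4195 := d33_1 D6070 (iv D4195) (iv F19651)
theorem F27802 : act 6 n6070 = n4193 := d40_1 D6070 (iv D4193) D4192
theorem F27803 : act 9 n6070 = n6070 := d44_2 (iv F19652) D6070 (iv D6070) F19652 F14013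
def n6071 : Q := act 3 n4193
theorem D6071 : act 3 n4193 = n6071 := rfl
def n6072 : Q := act 8 n4194
theorem D6072 : act 8 n4194 = n6072 := rfl
theorem F27808 : act 1 n6072 = n6072 := d15_1 D6072 (iv D6072) F19659
theorem F27809 : act 2 n6072 = n4202 := d22_1 D6072 (iv D4202) (iv F19660)
theorem F27810 : act 5 n6072 = n6072 := d37_1 D6072 (iv D6072) F19662
theorem F27811 : act 6 n6072 = n6072 := d40_1 D6072 (iv D6072) F19663
theorem F27812 : act 7 n6072 = n4195 := d42_1 D6072 (iv D4195) D4194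
theorem F27813 : act 9 n6072 = n6072 := d44_2 (iv F19664) D6072 (iv D6072) F19664 F14019
def n6073 : Q := act 3 n4195
theorem D6073 : act 3 n4195 = n6073 := rfl
theorem F27814 : act 1 n6073 = n6073 := d10_1 D6073 (iv D6073) F19665
theorem F27815 : act 2 n6073 = n6073 := d17_1 D6073 (iv D6073) F19666 F13957 (iv F19666)
theorem F27816 : act 5 n6073 = n6073 := d25_2 F19667 D6073 (iv D6073)
theorem F27817 : act 6 n6073 = n4196 := d26_2 (iv F19668) D6073 (iv D4196)
theorem F27818 : act 8 n6073 = n6073 := d28_2 D4195 D6073 (iv D6073) (iv D4195) F13929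
theorem F27819 : act 9 n6073 = n6073 := d29_2 F19669 D6073 (iv D6073)
def n6074 : Q := act 4 n4196
theorem D6074 : act 4 n4196 = n6074 := rfl
def n6076 : Q := act 7 n4198
theorem D6076 : act 7 n4198 = n6076 := rfl
theorem F27831 : act 1 n6076 = n4203 := d14_1 D6076 (iv D4203) (iv F19683)
theorem F27833 : act 5 n6076 = n4199 := d36_1 D6076 (iv D4199) D4198
def n6077 : Q := act 8 n4198
theorem D6077 : act 8 n4198 = n6077 := rfl
theorem F27835 : act 1 n6077 = n4204 := d15_1 D6077 (iv D4204) (iv F19683)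
theorem F27836 : act 4 n6077 = n6077 := d33_1 D6077 (iv D6077) F19684
theorem F27837 : act 5 n6077 = n4200 := d37_1 D6077 (iv D4200) D4198
theorem F27838 : act 6 n6077 = n6077 := d40_1 D6077 (iv D6077) F19685
theorem F27839 : act 9 n6077 = n6077 := d44_2 (iv F19686) D6077 (iv D6077) F19686 F14023
def n6078 : Q := act 8 n4199
theorem D6078 : act 8 n4199 = n6078 := rfl
theorem F27840 : act 1 n6078 = n4205 := d15_1 D6078 (iv D4205) (iv F19687)
theorem F27841 : act 4 n6078 = n4202 := d33_1 D6078 (iv D4202) (iv F19688)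
theorem F27842 : act 6 n6078 = n6078 := d40_1 D6078 (iv D6078) F19689
theorem F27843 : act 7 n6078 = n4200 := d42_1 D6078 (iv D4200) D4199
theorem F27844 : act 9 n6078 = n6078 := d44_2 (iv F19690) D6078 (iv D6078) F19690 F14027
def n6079 : Q := act 3 n4200
theorem D6079 : act 3 n4200 = n6079 := rfl
theorem F27845 : act 1 n6079 = n4206 := d10_1 D6079 (iv D4206) (iv F19691)
theorem F27846 : act 4 n6079 = n6079 := d24_2 (iv F19692) D6079 (iv D6079) F19692 F13957
theorem F27847 : act 6 n6079 = n4201 := d26_2 (iv F19693) D6079 (iv D4201)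
theorem F27848 : act 9 n6079 = n6079 := d29_2 F19694 D6079 (iv D6079)
def n6080 : Q := act 2 n4201
theorem D6080 : act 2 n4201 = n6080 := rfl
def n6081 : Q := act 6 n4203
theorem D6081 : act 6 n4203 = n6081 := rfl
def n6082 : Q := act 8 n4203
theorem D6082 : act 8 n4203 = n6082 := rfl
theorem F27860 : act 5 n6082 = n4205 := d37_1 D6082 (iv D4205) (iv F19708)
theorem F27861 : act 7 n6082 = n4204 := d42_1 D6082 (iv D4204) D4203
def n6083 : Q := act 3 n4204
theorem D6083 : act 3 n4204 = n6083 := rfl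
theorem F27863 : act 5 n6083 = n4206 := d25_2 (iv F19712) D6083 (iv D4206)
def n6084 : Q := act 3 n4205
theorem D6084 : act 3 n4205 = n6084 := rfl
theorem F27868 : act 7 n6084 = n4206 := d27_2 (iv F19718) D6084 (iv D4206)
def n6085 : Q := act 2 n4206
theorem D6085 : act 2 n4206 = n6085 := rfl
theorem F27870 : act 3 n6085 = n6085 := d17_2 D4206 D6085 (iv D6085) (iv D4206) F13969
theorem F27871 : act 4 n6085 = n6085 := d18_2 F19720 D6085 (iv D6085)
theorem F27872 : act 6 n6085 = n4207 := d20_2 (iv F19721) D6085 (iv D4207)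
theorem F27873 : act 9 n6085 = n6085 := d23_2 F19722 D6085 (iv D6085)
def n6086 : Q := act 1 n4207
theorem D6086 : act 1 n4207 = n6086 := rfl
def n6087 : Q := act 3 n4208
theorem D6087 : act 3 n4208 = n6087 := rfl
theorem F27879 : act 0 n6087 = n6087 := d2_1 D6087 (iv D6087) F19728
theorem F27880 : act 1 n6087 = n4210 := d10_1 D6087 (iv D4210) (iv F19729)
theorem F27881 : act 4 n6087 = n6087 := d24_2 D4208 D6087 (iv D6087) (iv D4208) F13985
theorem F27882 : act 5 n6087 = n6087 := d25_2 F19730 D6087 (iv D6087)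
theorem F27883 : act 7 n6087 = n6087 := d27_2 F19731 D6087 (iv D6087)
def n6088 : Q := act 6 n4208
theorem D6088 : act 6 n4208 = n6088 := rfl
theorem F27884 : act 0 n6088 = n6088 := d5_1 D6088 (iv D6088) F19728
theorem F27885 : act 1 n6088 = n4211 := d13_1 D6088 (iv D4211) (iv F19729)
theorem F27886 : act 4 n6088 = n4209 := d31_1 D6088 (iv D4209) D4208
theorem F27887 : act 8 n6088 = n6088 := d40_2 F19732 D6088 (iv D6088)
def n6089 : Q := act 7 n4209
theorem D6089 : act 7 n4209 = n6089 := rfl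
theorem F27888 : act 0 n6089 = n6089 := d6_1 D6089 (iv D6089) F19733
theorem F27889 : act 1 n6089 = n4212 := d14_1 D6089 (iv D4212) (iv F19734)
theorem F27890 : act 3 n6089 = n6089 := d27_1 D6089 (iv D6089) F19735
theorem F27891 : act 5 n6089 = n6089 := d36_1 D6089 (iv D6089) F19736
theorem F27892 : act 6 n6089 = n6089 := d39_1 D6089 (iv D6089) (iv D4209) F13986 D4209
theorem F27893 : act 8 n6089 = n6089 := d42_2 F19737 D6089 (iv D6089)
def n6090 : Q := act 6 n4210
theorem D6090 : act 6 n4210 = n6090 := rfl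
theorem F27894 : act 0 n6090 = n4215 := d5_1 D6090 (iv D4215) (iv F19738)
theorem F27895 : act 3 n6090 = n4211 := d26_1 D6090 (iv D4211) D4210
theorem F27896 : act 4 n6090 = n6090 := d31_1 D6090 (iv D6090) F19739
def n6091 : Q := act 8 n4210
theorem D6091 : act 8 n4210 = n6091 := rfl
def n6092 : Q := act 5 n4211
theorem D6092 : act 5 n4211 = n6092 := rfl
theorem F27902 : act 0 n6092 = n4217 := d4_1 D6092 (iv D4217) (iv F19742)
theorem F27903 : act 2 n6092 = n4213 := d19_1 D6092 (iv D4213) (iv F19743)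
theorem F27904 : act 4 n6092 = n6092 := d30_1 D6092 (iv D6092) F19744 F13996 (iv F19744)
theorem F27905 : act 6 n6092 = n6092 := d35_2 D4211 D6092 (iv D6092) (iv D4211) F13990
theorem F27906 : act 8 n6092 = n6092 := d37_2 F19745 D6092 (iv D6092)
def n6093 : Q := act 7 n4211
theorem D6093 : act 7 n4211 = n6093 := rfl
theorem F27907 : act 0 n6093 = n4218 := d6_1 D6093 (iv D4218) (iv F19742)
theorem F27908 : act 2 n6093 = n4214 := d21_1 D6093 (iv D4214) (iv F19743)
theorem F27909 : act 4 n6093 = n4212 := d32_1 D6093 (iv D4212) (iv F19744)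
theorem F27910 : act 6 n6093 = n6093 := d39_1 D6093 (iv D6093) (iv D4211) F13991 D4211
theorem F27911 : act 8 n6093 = n6093 := d42_2 F19745 D6093 (iv D6093)
def n6094 : Q := act 7 n4213
theorem D6094 : act 7 n4213 = n6094 := rfl
theorem F27912 : act 0 n6094 = n4219 := d6_1 D6094 (iv D4219) (iv F19752)
theorem F27913 : act 4 n6094 = n6094 := d32_1 D6094 (iv D6094) F19753
theorem F27914 : act 5 n6094 = n4214 := d36_1 D6094 (iv D4214) D4213
theorem F27915 : act 8 n6094 = n6094 := d42_2 F19755 D6094 (iv D6094)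
def n6095 : Q := act 5 n4215
theorem D6095 : act 5 n4215 = n6095 := rfl
def n6096 : Q := act 7 n4215
theorem D6096 : act 7 n4215 = n6096 := rfl
theorem F27920 : act 3 n6096 = n4218 := d27_1 D6096 (iv D4218) (iv F19761)
def n6097 : Q := act 8 n4215
theorem D6097 : act 8 n4215 = n6097 := rfl
def n6099 : Q := act 7 n4217
theorem D6099 : act 7 n4217 = n6099 := rfl
theorem F27933 : act 2 n6099 = n4219 := d21_1 D6099 (iv D4219) (iv F19769)
theorem F27935 : act 5 n6099 = n4218 := d36_1 D6099 (iv D4218) D4217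
def n6101 : Q := act 5 n4221
theorem D6101 : act 5 n4221 = n6101 := rfl
theorem F27945 : act 7 n6101 = n4246 := d36_2 (iv F19791) D6101 (iv D4246)
def n6103 : Q := act 4 n4222
theorem D6103 : act 4 n4222 = n6103 := rfl
theorem F27953 : act 2 n6103 = n4224 := d18_1 D6103 (iv D4224) (iv F19794)
theorem F27954 : act 5 n6103 = n4302 := d30_2 D4222 D6103 (iv D4302) (iv D2982) (iv F14034)
theorem F27955 : act 7 n6103 = n4248 := d32_2 (iv F19796) D6103 (iv D4248)
def n6104 : Q := act 6 n4222
theorem D6104 : act 6 n4222 = n6104 := rfl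
theorem F27958 : act 2 n6104 = n4225 := d20_1 D6104 (iv D4225) (iv F19794)
def n6105 : Q := act 8 n4222
theorem D6105 : act 8 n4222 = n6105 := rfl
theorem F27963 : act 2 n6105 = n4226 := d22_1 D6105 (iv D4226) (iv F19794)
theorem F27965 : act 7 n6105 = n4250 := d42_1 D6105 (iv D4250) (iv F19796)
def n6106 : Q := act 3 n4223
theorem D6106 : act 3 n4223 = n6106 := rfl
def n6107 : Q := act 9 n4223
theorem D6107 : act 9 n4223 = n6107 := rfl
theorem F27972 : act 4 n6107 = n4306 := d34_1 D6107 (iv D4306) (iv F19800)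
def n6108 : Q := act 6 n4224
theorem D6108 : act 6 n4224 = n6108 := rfl
theorem F27976 : act 0 n6108 = n4234 := d5_1 D6108 (iv D4234) (iv F19803)
theorem F27977 : act 3 n6108 = n6108 := d26_1 D6108 (iv D6108) F19804
theorem F27978 : act 4 n6108 = n4225 := d31_1 D6108 (iv D4225) D4224
theorem F27979 : act 9 n6108 = n6108 := d41_2 F19807 D6108 (iv D6108)
def n6109 : Q := act 8 n4224
theorem D6109 : act 8 n4224 = n6109 := rfl
theorem F27981 : act 4 n6109 = n4226 := d33_1 D6109 (iv D4226) D4224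
theorem F27982 : act 5 n6109 = n4308 := d37_1 D6109 (iv D4308) (iv F19805)
def n6110 : Q := act 7 n4225
theorem D6110 : act 7 n4225 = n6110 := rfl
theorem F27984 : act 0 n6110 = n4236 := d6_1 D6110 (iv D4236) (iv F19808)
theorem F27985 : act 3 n6110 = n4228 := d27_1 D6110 (iv D4228) (iv F19809)
theorem F27986 : act 5 n6110 = n6110 := d36_1 D6110 (iv D6110) F19810
theorem F27987 : act 6 n6110 = n4255 := d39_1 D6110 (iv D4255) (iv D2943) (iv F14040) D4225
theorem F27988 : act 9 n6110 = n6110 := d43_2 F19811 D6110 (iv D6110)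
def n6111 : Q := act 8 n4225
theorem D6111 : act 8 n4225 = n6111 := rfl
def n6112 : Q := act 9 n4226
theorem D6112 : act 9 n4226 = n6112 := rfl
def n6114 : Q := act 6 n4229
theorem D6114 : act 6 n4229 = n6114 := rfl
theorem F28004 : act 4 n6114 = n4230 := d31_1 D6114 (iv D4230) D4229
def n6115 : Q := act 8 n4229
theorem D6115 : act 8 n4229 = n6115 := rfl
theorem F28007 : act 2 n6115 = n4235 := d22_1 D6115 (iv D4235) (iv F19827)
theorem F28009 : act 5 n6115 = n4313 := d37_1 D6115 (iv D4313) (iv F19828)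
def n6116 : Q := act 7 n4230
theorem D6116 : act 7 n4230 = n6116 := rfl
theorem F28015 : act 6 n6116 = n4261 := d39_1 D6116 (iv D4261) (iv D2948) (iv F14054) D4230
def n6117 : Q := act 8 n4230
theorem D6117 : act 8 n4230 = n6117 := rfl
theorem F28018 : act 2 n6117 = n4237 := d22_1 D6117 (iv D4237) (iv F19832)
def n6118 : Q := act 3 n4231
theorem D6118 : act 3 n4231 = n6118 := rfl
def n6119 : Q := act 9 n4231
theorem D6119 : act 9 n4231 = n6119 := rfl
theorem F28026 : act 2 n6119 = n4238 := d23_1 D6119 (iv D4238) (iv F19837)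
def n6120 : Q := act 4 n4232
theorem D6120 : act 4 n4232 = n6120 := rfl
theorem F28031 : act 3 n6120 = n4317 := d24_1 D6120 (iv D4317) (iv D2991) (iv F14058) D4232
def n6121 : Q := act 9 n4232
theorem D6121 : act 9 n4232 = n6121 := rfl
theorem F28036 : act 3 n6121 = n4233 := d29_1 D6121 (iv D4233) D4232
def n6122 : Q := act 5 n4234
theorem D6122 : act 5 n4234 = n6122 := rfl
theorem F28042 : act 6 n6122 = n4319 := d35_2 D4234 D6122 (iv D4319) (iv D2993) (iv F14063)
def n6123 : Q := act 7 n4234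
theorem D6123 : act 7 n4234 = n6123 := rfl
theorem F28046 : act 4 n6123 = n4236 := d32_1 D6123 (iv D4236) (iv F19852)
def n6124 : Q := act 8 n4234
theorem D6124 : act 8 n4234 = n6124 := rfl
theorem F28050 : act 4 n6124 = n4237 := d33_1 D6124 (iv D4237) (iv F19852)
def n6125 : Q := act 3 n4235
theorem D6125 : act 3 n4235 = n6125 := rfl
theorem F28053 : act 5 n6125 = n4321 := d25_2 (iv F19856) D6125 (iv D4321)
def n6126 : Q := act 9 n4235
theorem D6126 : act 9 n4235 = n6126 := rfl
theorem F28057 : act 4 n6126 = n4238 := d34_1 D6126 (iv D4238) (iv F19855)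
def n6127 : Q := act 8 n4236
theorem D6127 : act 8 n4236 = n6127 := rfl
def n6130 : Q := act 8 n4239
theorem D6130 : act 8 n4239 = n6130 := rfl
theorem F28077 : act 5 n6130 = n4241 := d37_1 D6130 (iv D4241) D4239
theorem F28078 : act 6 n6130 = n4324 := d40_1 D6130 (iv D4324) (iv F19873)
def n6131 : Q := act 8 n4240
theorem D6131 : act 8 n4240 = n6131 := rfl
theorem F28081 : act 6 n6131 = n4273 := d40_1 D6131 (iv D4273) (iv F19878)
theorem F28082 : act 7 n6131 = n4241 := d42_1 D6131 (iv D4241) D4240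
def n6132 : Q := act 3 n4241
theorem D6132 : act 3 n4241 = n6132 := rfl
def n6133 : Q := act 9 n4241
theorem D6133 : act 9 n4241 = n6133 := rfl
theorem F28086 : act 4 n6133 = n4245 := d34_1 D6133 (iv D4245) (iv F19881)
def n6134 : Q := act 2 n4242
theorem D6134 : act 2 n4242 = n6134 := rfl
theorem F28090 : act 5 n6134 = n4327 := d19_2 (iv F19883) D6134 (iv D4327)
def n6135 : Q := act 9 n4242
theorem D6135 : act 9 n4242 = n6135 := rfl
theorem F28094 : act 5 n6135 = n4328 := d38_1 D6135 (iv D4328) (iv F19883)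
theorem F28095 : act 7 n6135 = n4277 := d43_1 D6135 (iv D4277) (iv F19884)
def n6137 : Q := act 4 n4246
theorem D6137 : act 4 n4246 = n6137 := rfl
def n6143 : Q := act 6 n4248
theorem D6143 : act 6 n4248 = n6143 := rfl
theorem F28127 : act 0 n6143 = n4259 := d5_1 D6143 (iv D4259) (iv F19907)
theorem F28128 : act 2 n6143 = n4253 := d20_1 D6143 (iv D4253) (iv F19908)
def n6144 : Q := act 8 n4248
theorem D6144 : act 8 n4248 = n6144 := rfl
theorem F28133 : act 2 n6144 = n4254 := d22_1 D6144 (iv D4254) (iv F19908)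
def n6145 : Q := act 7 n4249
theorem D6145 : act 7 n4249 = n6145 := rfl
theorem F28137 : act 2 n6145 = n4255 := d21_1 D6145 (iv D4255) (iv F19912)
theorem F28139 : act 5 n6145 = n4283 := d36_1 D6145 (iv D4283) (iv F19914)
def n6147 : Q := act 3 n4250
theorem D6147 : act 3 n4250 = n6147 := rfl
def n6151 : Q := act 7 n4253
theorem D6151 : act 7 n4253 = n6151 := rfl
theorem F28159 : act 0 n6151 = n4267 := d6_1 D6151 (iv D4267) (iv F19927)
theorem F28160 : act 3 n6151 = n6151 := d27_1 D6151 (iv D6151) F19928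
theorem F28161 : act 4 n6151 = n4255 := d32_1 D6151 (iv D4255) (iv F19929)
theorem F28162 : act 5 n6151 = n6151 := d36_1 D6151 (iv D6151) F19930
theorem F28163 : act 9 n6151 = n6151 := d43_2 F19931 D6151 (iv D6151)
def n6152 : Q := act 8 n4253
theorem D6152 : act 8 n4253 = n6152 := rfl
theorem F28165 : act 4 n6152 = n4256 := d33_1 D6152 (iv D4256) (iv F19929)
def n6154 : Q := act 9 n4254
theorem D6154 : act 9 n4254 = n6154 := rfl
theorem F28173 : act 5 n6154 = n4340 := d38_1 D6154 (iv D4340) (iv F19934)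
def n6155 : Q := act 8 n4255
theorem D6155 : act 8 n4255 = n6155 := rfl
theorem F28176 : act 5 n6155 = n4289 := d37_1 D6155 (iv D4289) (iv F19937)
def n6159 : Q := act 7 n4259
theorem D6159 : act 7 n4259 = n6159 := rfl
theorem F28193 : act 2 n6159 = n4267 := d21_1 D6159 (iv D4267) (iv F19951)
theorem F28194 : act 4 n6159 = n4261 := d32_1 D6159 (iv D4261) (iv F19952)
def n6160 : Q := act 8 n4259
theorem D6160 : act 8 n4259 = n6160 := rfl
theorem F28198 : act 2 n6160 = n4268 := d22_1 D6160 (iv D4268) (iv F19951)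
def n6161 : Q := act 3 n4260
theorem D6161 : act 3 n4260 = n6161 := rfl
theorem F28203 : act 5 n6161 = n4342 := d25_2 (iv F19958) D6161 (iv D4342)
def n6163 : Q := act 8 n4261
theorem D6163 : act 8 n4261 = n6163 := rfl
theorem F28211 : act 5 n6163 = n4291 := d37_1 D6163 (iv D4291) (iv F19962)
def n6164 : Q := act 3 n4262
theorem D6164 : act 3 n4262 = n6164 := rfl
def n6165 : Q := act 9 n4262
theorem D6165 : act 9 n4262 = n6165 := rfl
theorem F28218 : act 2 n6165 = n4272 := d23_1 D6165 (iv D4272) (iv F19965)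
def n6171 : Q := act 8 n4267
theorem D6171 : act 8 n4267 = n6171 := rfl
theorem F28239 : act 4 n6171 = n4271 := d33_1 D6171 (iv D4271) (iv F19984)
def n6172 : Q := act 3 n4268
theorem D6172 : act 3 n4268 = n6172 := rfl
def n6173 : Q := act 9 n4268
theorem D6173 : act 9 n4268 = n6173 := rfl
theorem F28247 : act 4 n6173 = n4272 := d34_1 D6173 (iv D4272) (iv F19988)
def n6174 : Q := act 2 n4269
theorem D6174 : act 2 n4269 = n6174 := rfl
def n6177 : Q := act 3 n4273
theorem D6177 : act 3 n4273 = n6177 := rfl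
def n6178 : Q := act 9 n4273
theorem D6178 : act 9 n4273 = n6178 := rfl
theorem F28264 : act 4 n6178 = n4278 := d34_1 D6178 (iv D4278) (iv F20006)
def n6179 : Q := act 2 n4274
theorem D6179 : act 2 n4274 = n6179 := rfl
def n6181 : Q := act 1 n4276
theorem D6181 : act 1 n4276 = n6181 := rfl
theorem F28276 : act 5 n6181 = n4351 := d12_2 (iv F20018) D6181 (iv D4351)
def n6182 : Q := act 9 n4276
theorem D6182 : act 9 n4276 = n6182 := rfl
theorem F28280 : act 5 n6182 = n4352 := d38_1 D6182 (iv D4352) (iv F20018)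
def n6183 : Q := act 8 n4277
theorem D6183 : act 8 n4277 = n6183 := rfl
def n6191 : Q := act 8 n4283
theorem D6191 : act 8 n4283 = n6191 := rfl
def n6201 : Q := act 9 n4291
theorem D6201 : act 9 n4291 = n6201 := rfl
def n6210 : Q := act 4 n4300
theorem D6210 : act 4 n4300 = n6210 := rfl
theorem F28398 : act 1 n6210 = n4302 := d11_1 D6210 (iv D4302) (iv F20119)
def n6216 : Q := act 6 n4302
theorem D6216 : act 6 n4302 = n6216 := rfl
theorem F28428 : act 4 n6216 = n4303 := d31_1 D6216 (iv D4303) D4302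
def n6217 : Q := act 8 n4302
theorem D6217 : act 8 n4302 = n6217 := rfl
theorem F28433 : act 4 n6217 = n4304 := d33_1 D6217 (iv D4304) D4302
def n6218 : Q := act 8 n4303
theorem D6218 : act 8 n4303 = n6218 := rfl
theorem F28438 : act 6 n6218 = n4304 := d40_1 D6218 (iv D4304) D4303
def n6219 : Q := act 3 n4304
theorem D6219 : act 3 n4304 = n6219 := rfl
theorem F28442 : act 5 n6219 = n4305 := d25_2 (iv F20139) D6219 (iv D4305)
theorem F28444 : act 8 n6219 = n4372 := d28_2 D4304 D6219 (iv D4372) (iv D3031) (iv F14284)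
def n6220 : Q := act 9 n4304
theorem D6220 : act 9 n4304 = n6220 := rfl
theorem F28447 : act 5 n6220 = n4306 := d38_1 D6220 (iv D4306) (iv F20139)
def n6223 : Q := act 5 n4307
theorem D6223 : act 5 n4307 = n6223 := rfl
theorem F28460 : act 0 n6223 = n4319 := d4_1 D6223 (iv D4319) (iv F20151)
theorem F28461 : act 3 n6223 = n6223 := d25_1 D6223 (iv D6223) F20152
theorem F28462 : act 4 n6223 = n6223 := d30_1 D6223 (iv D6223) F20153 F14297 (iv F20153)
theorem F28463 : act 7 n6223 = n6223 := d36_2 F20154 D6223 (iv D6223)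
theorem F28464 : act 9 n6223 = n6223 := d38_2 F20155 D6223 (iv D6223)
def n6224 : Q := act 8 n4307
theorem D6224 : act 8 n4307 = n6224 := rfl
theorem F28467 : act 6 n6224 = n4308 := d40_1 D6224 (iv D4308) D4307
def n6225 : Q := act 3 n4308
theorem D6225 : act 3 n4308 = n6225 := rfl
def n6226 : Q := act 9 n4308
theorem D6226 : act 9 n4308 = n6226 := rfl
def n6228 : Q := act 6 n4311
theorem D6228 : act 6 n4311 = n6228 := rfl
theorem F28485 : act 3 n6228 = n4312 := d26_1 D6228 (iv D4312) D4311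
theorem F28486 : act 4 n6228 = n4381 := d31_1 D6228 (iv D4381) (iv F20171)
def n6230 : Q := act 5 n4312
theorem D6230 : act 5 n4312 = n6230 := rfl
theorem F28493 : act 1 n6230 = n6230 := d12_1 D6230 (iv D6230) F20174
theorem F28494 : act 2 n6230 = n4319 := d19_1 D6230 (iv D4319) (iv F20175)
def n6232 : Q := act 3 n4313
theorem D6232 : act 3 n4313 = n6232 := rfl
def n6234 : Q := act 3 n4314
theorem D6234 : act 3 n4314 = n6234 := rfl
theorem F28513 : act 6 n6234 = n4315 := d26_2 (iv F20186) D6234 (iv D4315)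
theorem F28515 : act 8 n6234 = n4387 := d28_2 D4314 D6234 (iv D4387) (iv D3041) (iv F14315)
def n6235 : Q := act 9 n4314
theorem D6235 : act 9 n4314 = n6235 := rfl
theorem F28519 : act 6 n6235 = n4316 := d41_1 D6235 (iv D4316) (iv F20186)
def n6236 : Q := act 4 n4315
theorem D6236 : act 4 n4315 = n6236 := rfl
theorem F28525 : act 8 n6236 = n4389 := d33_2 (iv F20192) D6236 (iv D4389)
def n6237 : Q := act 9 n4315
theorem D6237 : act 9 n4315 = n6237 := rfl
theorem F28529 : act 5 n6237 = n4318 := d38_1 D6237 (iv D4318) (iv F20190)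
def n6239 : Q := act 9 n4317
theorem D6239 : act 9 n4317 = n6239 := rfl
theorem F28537 : act 4 n6239 = n4318 := d34_1 D6239 (iv D4318) D4317
def n6241 : Q := act 8 n4319
theorem D6241 : act 8 n4319 = n6241 := rfl
theorem F28546 : act 1 n6241 = n4324 := d15_1 D6241 (iv D4324) (iv F20208)
theorem F28548 : act 5 n6241 = n4320 := d37_1 D6241 (iv D4320) D4319
def n6242 : Q := act 3 n4320
theorem D6242 : act 3 n4320 = n6242 := rfl
theorem F28551 : act 4 n6242 = n6242 := d24_2 (iv F20214) D6242 (iv D6242) F20214 F14342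
theorem F28552 : act 6 n6242 = n4321 := d26_2 (iv F20215) D6242 (iv D4321)
def n6245 : Q := act 9 n4321
theorem D6245 : act 9 n4321 = n6245 := rfl
def n6246 : Q := act 3 n4324
theorem D6246 : act 3 n4324 = n6246 := rfl
theorem F28567 : act 5 n6246 = n4325 := d25_2 (iv F20233) D6246 (iv D4325)
def n6248 : Q := act 2 n4325
theorem D6248 : act 2 n4325 = n6248 := rfl
theorem F28577 : act 6 n6248 = n4327 := d20_2 (iv F20236) D6248 (iv D4327)
def n6249 : Q := act 9 n4325
theorem D6249 : act 9 n4325 = n6249 := rfl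
theorem F28580 : act 3 n6249 = n4326 := d29_1 D6249 (iv D4326) D4325
theorem F28582 : act 6 n6249 = n4328 := d41_1 D6249 (iv D4328) (iv F20236)
def n6251 : Q := act 9 n4327
theorem D6251 : act 9 n4327 = n6251 := rfl
def n6252 : Q := act 8 n4328
theorem D6252 : act 8 n4328 = n6252 := rfl
def n6264 : Q := act 9 n4335
theorem D6264 : act 9 n4335 = n6264 := rfl
theorem F28645 : act 5 n6264 = n4338 := d38_1 D6264 (iv D4338) (iv F20278)
def n6266 : Q := act 9 n4337
theorem D6266 : act 9 n4337 = n6266 := rfl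
theorem F28652 : act 4 n6266 = n4338 := d34_1 D6266 (iv D4338) D4337
def n6273 : Q := act 4 n4342
theorem D6273 : act 4 n4342 = n6273 := rfl
theorem F28678 : act 3 n6273 = n4344 := d24_1 D6273 (iv D4344) (iv D3012) (iv F14412) D4342
def n6277 : Q := act 8 n4345
theorem D6277 : act 8 n4345 = n6277 := rfl
theorem F28696 : act 9 n6277 = n4430 := d44_2 D4345 D6277 (iv D4430) (iv D3072) (iv F14418)
def n6311 : Q := act 8 n4369
theorem D6311 : act 8 n4369 = n6311 := rfl
theorem F28855 : act 2 n6311 = n4377 := d22_1 D6311 (iv D4377) (iv F20430)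
theorem F28856 : act 4 n6311 = n4371 := d33_1 D6311 (iv D4371) (iv F20431)
def n6314 : Q := act 3 n4371
theorem D6314 : act 3 n4371 = n6314 := rfl
def n6321 : Q := act 8 n4376
theorem D6321 : act 8 n4376 = n6321 := rfl
theorem F28902 : act 0 n6321 = n4394 := d7_1 D6321 (iv D4394) (iv F20463)
theorem F28903 : act 1 n6321 = n6321 := d15_1 D6321 (iv D6321) F20464
theorem F28904 : act 4 n6321 = n6321 := d33_1 D6321 (iv D6321) F20466
theorem F28905 : act 5 n6321 = n4377 := d37_1 D6321 (iv D4377) D4376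
def n6322 : Q := act 3 n4377
theorem D6322 : act 3 n4377 = n6322 := rfl
theorem F28908 : act 0 n6322 = n4395 := d2_1 D6322 (iv D4395) (iv F20470)
def n6323 : Q := act 9 n4377
theorem D6323 : act 9 n4377 = n6323 := rfl
theorem F28914 : act 0 n6323 = n4396 := d8_1 D6323 (iv D4396) (iv F20470)
theorem F28919 : act 8 n6323 = n6323 := d44_1 D6323 (iv D6323) (iv D4377) F14521 D4377
def n6326 : Q := act 5 n4381
theorem D6326 : act 5 n4381 = n6326 := rfl
theorem F28931 : act 1 n6326 = n6326 := d12_1 D6326 (iv D6326) F20494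
theorem F28932 : act 2 n6326 = n6326 := d19_1 D6326 (iv D6326) F20495
theorem F28933 : act 3 n6326 = n4383 := d25_1 D6326 (iv D4383) (iv F20496)
theorem F28936 : act 9 n6326 = n6326 := d38_2 F20498 D6326 (iv D6326)
def n6331 : Q := act 3 n4384
theorem D6331 : act 3 n4384 = n6331 := rfl
def n6332 : Q := act 9 n4384
theorem D6332 : act 9 n4384 = n6332 := rfl
theorem F28960 : act 2 n6332 = n4396 := d23_1 D6332 (iv D4396) (iv F20510)
def n6333 : Q := act 2 n4385
theorem D6333 : act 2 n4385 = n6333 := rfl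
theorem F28965 : act 3 n6333 = n4397 := d17_2 D4385 D6333 (iv D4397) (iv D3048) (iv F14550)
def n6334 : Q := act 4 n4385
theorem D6334 : act 4 n4385 = n6334 := rfl
theorem F28969 : act 3 n6334 = n4389 := d24_1 D6334 (iv D4389) (iv D3042) (iv F14551) D4385
def n6336 : Q := act 4 n4387
theorem D6336 : act 4 n4387 = n6336 := rfl
def n6344 : Q := act 3 n4394
theorem D6344 : act 3 n4394 = n6344 := rfl
theorem F29012 : act 1 n6344 = n4399 := d10_1 D6344 (iv D4399) (iv F20557)
theorem F29013 : act 5 n6344 = n4395 := d25_2 (iv F20559) D6344 (iv D4395)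
def n6345 : Q := act 9 n4394
theorem D6345 : act 9 n4394 = n6345 := rfl
theorem F29022 : act 8 n6345 = n6345 := d44_1 D6345 (iv D6345) (iv D4394) F14583 D4394
def n6346 : Q := act 2 n4395
theorem D6346 : act 2 n4395 = n6346 := rfl
def n6347 : Q := act 9 n4395
theorem D6347 : act 9 n4395 = n6347 := rfl
theorem F29027 : act 1 n6347 = n4402 := d16_1 D6347 (iv D4402) (iv F20562)
theorem F29028 : act 3 n6347 = n4396 := d29_1 D6347 (iv D4396) D4395
theorem F29029 : act 4 n6347 = n6347 := d34_1 D6347 (iv D6347) F20563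
def n6348 : Q := act 1 n4397
theorem D6348 : act 1 n4397 = n6348 := rfl
theorem F29032 : act 2 n6348 = n4403 := d9_2 D4397 D6348 (iv D4403) (iv D3054) (iv F14588)
def n6351 : Q := act 2 n4399
theorem D6351 : act 2 n4399 = n6351 := rfl
theorem F29047 : act 0 n6351 = n6351 := d1_1 D6351 (iv D6351) F20581
theorem F29048 : act 3 n6351 = n6351 := d17_2 D4399 D6351 (iv D6351) (iv D4399) F14605
theorem F29049 : act 5 n6351 = n4401 := d19_2 (iv F20582) D6351 (iv D4401)
theorem F29050 : act 6 n6351 = n6351 := d20_2 F20583 D6351 (iv D6351)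
theorem F29051 : act 7 n6351 = n6351 := d21_2 F20584 D6351 (iv D6351)
theorem F29052 : act 8 n6351 = n6351 := d22_2 F20585 D6351 (iv D6351)
def n6352 : Q := act 4 n4399
theorem D6352 : act 4 n4399 = n6352 := rfl
theorem F29053 : act 0 n6352 = n6352 := d3_1 D6352 (iv D6352) F20581
theorem F29054 : act 3 n6352 = n6352 := d24_1 D6352 (iv D6352) (iv D4399) F14606 D4399
theorem F29055 : act 5 n6352 = n6352 := d30_2 (iv F20582) D6352 (iv D6352) F20582 F14611
theorem F29056 : act 6 n6352 = n6352 := d31_2 F20583 D6352 (iv D6352)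
theorem F29057 : act 7 n6352 = n6352 := d32_2 F20584 D6352 (iv D6352)
theorem F29058 : act 8 n6352 = n6352 := d33_2 F20585 D6352 (iv D6352)
def n6353 : Q := act 9 n4399
theorem D6353 : act 9 n4399 = n6353 := rfl
theorem F29059 : act 0 n6353 = n6353 := d8_1 D6353 (iv D6353) F20581
theorem F29060 : act 3 n6353 = n4400 := d29_1 D6353 (iv D4400) D4399
theorem F29061 : act 5 n6353 = n4402 := d38_1 D6353 (iv D4402) (iv F20582)
def n6354 : Q := act 1 n4401
theorem D6354 : act 1 n4401 = n6354 := rfl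
def n6355 : Q := act 9 n4401
theorem D6355 : act 9 n4401 = n6355 := rfl
theorem F29069 : act 0 n6355 = n6355 := d8_1 D6355 (iv D6355) F20593
theorem F29070 : act 2 n6355 = n4402 := d23_1 D6355 (iv D4402) D4401
theorem F29071 : act 3 n6355 = n6355 := d29_1 D6355 (iv D6355) F20594
theorem F29072 : act 4 n6355 = n6355 := d34_1 D6355 (iv D6355) F20595
def n6356 : Q := act 8 n4402
theorem D6356 : act 8 n4402 = n6356 := rfl
theorem F29075 : act 0 n6356 = n6356 := d7_1 D6356 (iv D6356) F20599
theorem F29076 : act 3 n6356 = n6356 := d28_1 D6356 (iv D6356) F20600 F14620 (iv F20600)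
def n6389 : Q := act 1 n4425
theorem D6389 : act 1 n4425 = n6389 := rfl
theorem F29226 : act 3 n6389 = n4434 := d10_2 (iv F20707) D6389 (iv D4434)
def n6390 : Q := act 4 n4425
theorem D6390 : act 4 n4425 = n6390 := rfl
theorem F29229 : act 2 n6390 = n4426 := d18_1 D6390 (iv D4426) D4425
def n6423 : Q := act 8 n4452
theorem D6423 : act 8 n4452 = n6423 := rfl
theorem F29378 : act 0 n6423 = n6423 := d7_1 D6423 (iv D6423) F20831
theorem F29379 : act 1 n6423 = n6423 := d15_1 D6423 (iv D6423) F20832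
theorem F29380 : act 2 n6423 = n6423 := d22_1 D6423 (iv D6423) F20833
theorem F29381 : act 4 n6423 = n6423 := d33_1 D6423 (iv D6423) F20835
theorem F29382 : act 5 n6423 = n4453 := d37_1 D6423 (iv D4453) (iv F20836)
theorem F29383 : act 6 n6423 = n6423 := d40_1 D6423 (iv D6423) F20837
theorem F29384 : act 7 n6423 = n6423 := d42_1 D6423 (iv D6423) F20838
theorem F29385 : act 9 n6423 = n6423 := d44_2 D4452 D6423 (iv D6423) (iv D4452) F14800
def n6424 : Q := act 3 n4453
theorem D6424 : act 3 n4453 = n6424 := rfl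
theorem F29386 : act 0 n6424 = n6424 := d2_1 D6424 (iv D6424) F20839
theorem F29387 : act 1 n6424 = n6424 := d10_1 D6424 (iv D6424) F20840
theorem F29388 : act 6 n6424 = n4454 := d26_2 (iv F20843) D6424 (iv D4454)
theorem F29389 : act 7 n6424 = n6424 := d27_2 F20844 D6424 (iv D6424)
theorem F29390 : act 8 n6424 = n6424 := d28_2 D4453 D6424 (iv D6424) (iv D4453) F14804
theorem F29391 : act 9 n6424 = n6424 := d29_2 F20845 D6424 (iv D6424)
def n6425 : Q := act 2 n4454
theorem D6425 : act 2 n4454 = n6425 := rfl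
theorem F29392 : act 0 n6425 = n6425 := d1_1 D6425 (iv D6425) F20846
theorem F29393 : act 3 n6425 = n6425 := d17_2 D4454 D6425 (iv D6425) (iv D4454) F14810
theorem F29394 : act 5 n6425 = n6425 := d19_2 F20848 D6425 (iv D6425)
theorem F29395 : act 7 n6425 = n4455 := d21_2 (iv F20849) D6425 (iv D4455)
theorem F29396 : act 8 n6425 = n6425 := d22_2 F20850 D6425 (iv D6425)
theorem F29397 : act 9 n6425 = n6425 := d23_2 F20851 D6425 (iv D6425)
def n6426 : Q := act 4 n4454
theorem D6426 : act 4 n4454 = n6426 := rfl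
theorem F29398 : act 0 n6426 = n6426 := d3_1 D6426 (iv D6426) F20846
theorem F29399 : act 1 n6426 = n6426 := d11_1 D6426 (iv D6426) F20847
theorem F29400 : act 3 n6426 = n4459 := d24_1 D6426 (iv D4459) (iv D3095) (iv F14811) D4454
theorem F29401 : act 7 n6426 = n4456 := d32_2 (iv F20849) D6426 (iv D4456)
theorem F29402 : act 8 n6426 = n6426 := d33_2 F20850 D6426 (iv D6426)
theorem F29403 : act 9 n6426 = n6426 := d34_2 F20851 D6426 (iv D6426)
def n6427 : Q := act 1 n4455
theorem D6427 : act 1 n4455 = n6427 := rfl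
theorem F29404 : act 2 n6427 = n6427 := d9_2 D4455 D6427 (iv D6427) (iv D4455) F14816
theorem F29405 : act 3 n6427 = n6427 := d10_2 F20853 D6427 (iv D6427)
theorem F29406 : act 5 n6427 = n6427 := d12_2 F20854 D6427 (iv D6427)
theorem F29407 : act 6 n6427 = n6427 := d13_2 F20855 D6427 (iv D6427)
theorem F29408 : act 8 n6427 = n6427 := d15_2 F20856 D6427 (iv D6427)
theorem F29409 : act 9 n6427 = n6427 := d16_2 F20857 D6427 (iv D6427)
def n6428 : Q := act 4 n4455
theorem D6428 : act 4 n4455 = n6428 := rfl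
theorem F29410 : act 0 n6428 = n6428 := d3_1 D6428 (iv D6428) F20852
theorem F29411 : act 2 n6428 = n4456 := d18_1 D6428 (iv D4456) D4455
theorem F29412 : act 6 n6428 = n6428 := d31_2 F20855 D6428 (iv D6428)
theorem F29413 : act 8 n6428 = n6428 := d33_2 F20856 D6428 (iv D6428)
theorem F29414 : act 9 n6428 = n6428 := d34_2 F20857 D6428 (iv D6428)
def n6429 : Q := act 5 n4456
theorem D6429 : act 5 n4456 = n6429 := rfl
theorem F29415 : act 0 n6429 = n6429 := d4_1 D6429 (iv D6429) F20858
theorem F29416 : act 1 n6429 = n6429 := d12_1 D6429 (iv D6429) F20859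
theorem F29417 : act 3 n6429 = n4462 := d25_1 D6429 (iv D4462) (iv F20860)
theorem F29418 : act 4 n6429 = n6429 := d30_1 D6429 (iv D6429) (iv D4456) F14817 D4456
theorem F29419 : act 8 n6429 = n6429 := d37_2 F20862 D6429 (iv D6429)
theorem F29420 : act 9 n6429 = n6429 := d38_2 F20863 D6429 (iv D6429)
def n6430 : Q := act 2 n4457
theorem D6430 : act 2 n4457 = n6430 := rfl
theorem F29421 : act 0 n6430 = n6430 := d1_1 D6430 (iv D6430) F20864
theorem F29422 : act 3 n6430 = n6430 := d17_2 D4457 D6430 (iv D6430) (iv D4457) F14823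
theorem F29423 : act 5 n6430 = n6430 := d19_2 F20866 D6430 (iv D6430)
theorem F29424 : act 6 n6430 = n4458 := d20_2 (iv F20867) D6430 (iv D4458)
theorem F29425 : act 7 n6430 = n6430 := d21_2 F20868 D6430 (iv D6430)
theorem F29426 : act 8 n6430 = n4479 := d22_2 (iv F20869) D6430 (iv D4479)
theorem F29427 : act 9 n6430 = n6430 := d23_2 F20870 D6430 (iv D6430)
def n6431 : Q := act 4 n4457
theorem D6431 : act 4 n4457 = n6431 := rfl
theorem F29428 : act 0 n6431 = n6431 := d3_1 D6431 (iv D6431) F20864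
theorem F29429 : act 1 n6431 = n6431 := d11_1 D6431 (iv D6431) F20865
theorem F29430 : act 6 n6431 = n4459 := d31_2 (iv F20867) D6431 (iv D4459)
theorem F29431 : act 7 n6431 = n6431 := d32_2 F20868 D6431 (iv D6431)
theorem F29432 : act 8 n6431 = n4480 := d33_2 (iv F20869) D6431 (iv D4480)
theorem F29433 : act 9 n6431 = n6431 := d34_2 F20870 D6431 (iv D6431)
def n6432 : Q := act 1 n4458
theorem D6432 : act 1 n4458 = n6432 := rfl
theorem F29434 : act 2 n6432 = n6432 := d9_2 D4458 D6432 (iv D6432) (iv D4458) F14829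
theorem F29435 : act 3 n6432 = n6432 := d10_2 F20872 D6432 (iv D6432)
theorem F29436 : act 5 n6432 = n4463 := d12_2 (iv F20873) D6432 (iv D4463)
theorem F29437 : act 7 n6432 = n4460 := d14_2 (iv F20874) D6432 (iv D4460)
theorem F29438 : act 8 n6432 = n4483 := d15_2 (iv F20875) D6432 (iv D4483)
theorem F29439 : act 9 n6432 = n6432 := d16_2 F20876 D6432 (iv D6432)
def n6433 : Q := act 4 n4458
theorem D6433 : act 4 n4458 = n6433 := rfl
theorem F29440 : act 0 n6433 = n6433 := d3_1 D6433 (iv D6433) F20871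
theorem F29441 : act 2 n6433 = n4459 := d18_1 D6433 (iv D4459) D4458
theorem F29442 : act 7 n6433 = n4461 := d32_2 (iv F20874) D6433 (iv D4461)
theorem F29443 : act 8 n6433 = n4484 := d33_2 (iv F20875) D6433 (iv D4484)
theorem F29444 : act 9 n6433 = n6433 := d34_2 F20876 D6433 (iv D6433)
def n6434 : Q := act 5 n4459
theorem D6434 : act 5 n4459 = n6434 := rfl
theorem F29445 : act 0 n6434 = n6434 := d4_1 D6434 (iv D6434) F20877
theorem F29446 : act 1 n6434 = n6434 := d12_1 D6434 (iv D6434) F20878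
theorem F29447 : act 4 n6434 = n4465 := d30_1 D6434 (iv D4465) (iv D3099) (iv F14830) D4459
theorem F29448 : act 7 n6434 = n4462 := d36_2 (iv F20879) D6434 (iv D4462)
theorem F29449 : act 8 n6434 = n4485 := d37_2 (iv F20880) D6434 (iv D4485)
theorem F29450 : act 9 n6434 = n6434 := d38_2 F20881 D6434 (iv D6434)
def n6435 : Q := act 0 n4460
theorem D6435 : act 0 n4460 = n6435 := rfl
theorem F29451 : act 1 n6435 = n6435 := d0_2 D4460 D6435 (iv D6435) (iv D4460) F14834
theorem F29452 : act 2 n6435 = n6435 := d1_2 F20882 D6435 (iv D6435)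
theorem F29453 : act 3 n6435 = n6435 := d2_2 F20883 D6435 (iv D6435)
theorem F29454 : act 5 n6435 = n4466 := d4_2 (iv F20884) D6435 (iv D4466)
theorem F29455 : act 6 n6435 = n6435 := d5_2 F20885 D6435 (iv D6435)
theorem F29456 : act 8 n6435 = n4489 := d7_2 (iv F20886) D6435 (iv D4489)
theorem F29457 : act 9 n6435 = n6435 := d8_2 F20887 D6435 (iv D6435)
def n6436 : Q := act 4 n4460
theorem D6436 : act 4 n4460 = n6436 := rfl
theorem F29458 : act 1 n6436 = n4461 := d11_1 D6436 (iv D4461) D4460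
theorem F29459 : act 2 n6436 = n6436 := d18_1 D6436 (iv D6436) F20882
theorem F29460 : act 6 n6436 = n6436 := d31_2 F20885 D6436 (iv D6436)
theorem F29461 : act 8 n6436 = n4490 := d33_2 (iv F20886) D6436 (iv D4490)
theorem F29462 : act 9 n6436 = n6436 := d34_2 F20887 D6436 (iv D6436)
def n6437 : Q := act 3 n4461
theorem D6437 : act 3 n4461 = n6437 := rfl
theorem F29463 : act 0 n6437 = n6437 := d2_1 D6437 (iv D6437) F20888
theorem F29464 : act 4 n6437 = n6437 := d24_2 D4461 D6437 (iv D6437) (iv D4461) F14835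
theorem F29465 : act 6 n6437 = n6437 := d26_2 F20890 D6437 (iv D6437)
theorem F29466 : act 9 n6437 = n6437 := d29_2 F20892 D6437 (iv D6437)
def n6438 : Q := act 5 n4461
theorem D6438 : act 5 n4461 = n6438 := rfl
theorem F29467 : act 0 n6438 = n6438 := d4_1 D6438 (iv D6438) F20888
theorem F29468 : act 2 n6438 = n4462 := d19_1 D6438 (iv D4462) (iv F20889)
theorem F29469 : act 4 n6438 = n4469 := d30_1 D6438 (iv D4469) (iv D3101) (iv F14836) D4461
theorem F29470 : act 8 n6438 = n4492 := d37_2 (iv F20891) D6438 (iv D4492)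
theorem F29471 : act 9 n6438 = n6438 := d38_2 F20892 D6438 (iv D6438)
def n6439 : Q := act 6 n4462
theorem D6439 : act 6 n4462 = n6439 := rfl
theorem F29472 : act 0 n6439 = n6439 := d5_1 D6439 (iv D6439) F20893
theorem F29473 : act 1 n6439 = n6439 := d13_1 D6439 (iv D6439) F20894
theorem F29474 : act 4 n6439 = n4470 := d31_1 D6439 (iv D4470) (iv F20895)
theorem F29475 : act 5 n6439 = n6439 := d35_1 D6439 (iv D6439) (iv D4462) F14842 D4462
theorem F29476 : act 8 n6439 = n4493 := d40_2 (iv F20896) D6439 (iv D4493)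
theorem F29477 : act 9 n6439 = n6439 := d41_2 F20897 D6439 (iv D6439)
def n6440 : Q := act 0 n4463
theorem D6440 : act 0 n4463 = n6440 := rfl
theorem F29478 : act 1 n6440 = n6440 := d0_2 D4463 D6440 (iv D6440) (iv D4463) F14845
theorem F29479 : act 2 n6440 = n6440 := d1_2 F20898 D6440 (iv D6440)
theorem F29480 : act 3 n6440 = n6440 := d2_2 F20899 D6440 (iv D6440)
theorem F29481 : act 6 n6440 = n6440 := d5_2 F20900 D6440 (iv D6440)
theorem F29482 : act 7 n6440 = n4466 := d6_2 (iv F20901) D6440 (iv D4466)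
theorem F29483 : act 8 n6440 = n4497 := d7_2 (iv F20902) D6440 (iv D4497)
theorem F29484 : act 9 n6440 = n6440 := d8_2 F20903 D6440 (iv D6440)
def n6441 : Q := act 4 n4463
theorem D6441 : act 4 n4463 = n6441 := rfl
theorem F29485 : act 1 n6441 = n4464 := d11_1 D6441 (iv D4464) D4463
theorem F29486 : act 2 n6441 = n6441 := d18_1 D6441 (iv D6441) F20898
theorem F29487 : act 6 n6441 = n6441 := d31_2 F20900 D6441 (iv D6441)
theorem F29488 : act 7 n6441 = n4467 := d32_2 (iv F20901) D6441 (iv D4467)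
theorem F29489 : act 8 n6441 = n4498 := d33_2 (iv F20902) D6441 (iv D4498)
theorem F29490 : act 9 n6441 = n6441 := d34_2 F20903 D6441 (iv D6441)
def n6442 : Q := act 3 n4464
theorem D6442 : act 3 n4464 = n6442 := rfl
theorem F29491 : act 0 n6442 = n6442 := d2_1 D6442 (iv D6442) F20904
theorem F29492 : act 2 n6442 = n6442 := d17_1 D6442 (iv D6442) F20905 F14853 (iv F20905)
theorem F29493 : act 4 n6442 = n6442 := d24_2 D4464 D6442 (iv D6442) (iv D4464) F14846
theorem F29494 : act 6 n6442 = n6442 := d26_2 F20906 D6442 (iv D6442)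
theorem F29495 : act 7 n6442 = n4468 := d27_2 (iv F20907) D6442 (iv D4468)
theorem F29496 : act 9 n6442 = n6442 := d29_2 F20909 D6442 (iv D6442)
def n6443 : Q := act 5 n4464
theorem D6443 : act 5 n4464 = n6443 := rfl
theorem F29497 : act 0 n6443 = n6443 := d4_1 D6443 (iv D6443) F20904
theorem F29498 : act 2 n6443 = n4465 := d19_1 D6443 (iv D4465) (iv F20905)
theorem F29499 : act 7 n6443 = n4469 := d36_2 (iv F20907) D6443 (iv D4469)
theorem F29500 : act 8 n6443 = n4500 := d37_2 (iv F20908) D6443 (iv D4500)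
theorem F29501 : act 9 n6443 = n6443 := d38_2 F20909 D6443 (iv D6443)
def n6444 : Q := act 6 n4465
theorem D6444 : act 6 n4465 = n6444 := rfl
theorem F29502 : act 0 n6444 = n6444 := d5_1 D6444 (iv D6444) F20910
theorem F29503 : act 1 n6444 = n6444 := d13_1 D6444 (iv D6444) F20911
theorem F29504 : act 3 n6444 = n6444 := d26_1 D6444 (iv D6444) F20912
theorem F29505 : act 5 n6444 = n6444 := d35_1 D6444 (iv D6444) (iv D4465) F14854 D4465
theorem F29506 : act 8 n6444 = n4501 := d40_2 (iv F20914) D6444 (iv D4501)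
theorem F29507 : act 9 n6444 = n6444 := d41_2 F20915 D6444 (iv D6444)
def n6445 : Q := act 4 n4466
theorem D6445 : act 4 n4466 = n6445 := rfl
theorem F29508 : act 0 n6445 = n4467 := d3_1 D6445 (iv D4467) D4466
theorem F29509 : act 1 n6445 = n6445 := d11_1 D6445 (iv D6445) F20916
theorem F29510 : act 2 n6445 = n6445 := d18_1 D6445 (iv D6445) F20917
theorem F29511 : act 6 n6445 = n4471 := d31_2 (iv F20919) D6445 (iv D4471)
theorem F29512 : act 8 n6445 = n4507 := d33_2 (iv F20920) D6445 (iv D4507)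
theorem F29513 : act 9 n6445 = n6445 := d34_2 F20921 D6445 (iv D6445)
def n6446 : Q := act 3 n4467
theorem D6446 : act 3 n4467 = n6446 := rfl
theorem F29514 : act 1 n6446 = n4468 := d10_1 D6446 (iv D4468) (iv F20922)
theorem F29515 : act 4 n6446 = n6446 := d24_2 D4467 D6446 (iv D6446) (iv D4467) F14859
theorem F29516 : act 6 n6446 = n4472 := d26_2 (iv F20924) D6446 (iv D4472)
theorem F29517 : act 9 n6446 = n6446 := d29_2 F20926 D6446 (iv D6446)
def n6447 : Q := act 5 n4467
theorem D6447 : act 5 n4467 = n6447 := rfl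
theorem F29518 : act 1 n6447 = n4469 := d12_1 D6447 (iv D4469) (iv F20922)
theorem F29519 : act 2 n6447 = n6447 := d19_1 D6447 (iv D6447) F20923
theorem F29520 : act 8 n6447 = n4509 := d37_2 (iv F20925) D6447 (iv D4509)
theorem F29521 : act 9 n6447 = n6447 := d38_2 F20926 D6447 (iv D6447)
def n6448 : Q := act 5 n4468
theorem D6448 : act 5 n4468 = n6448 := rfl
theorem F29522 : act 0 n6448 = n6448 := d4_1 D6448 (iv D6448) F20927
theorem F29523 : act 2 n6448 = n6448 := d19_1 D6448 (iv D6448) F20928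
theorem F29524 : act 3 n6448 = n4469 := d25_1 D6448 (iv D4469) D4468
theorem F29525 : act 9 n6448 = n6448 := d38_2 F20931 D6448 (iv D6448)
def n6449 : Q := act 8 n4468
theorem D6449 : act 8 n4468 = n6449 := rfl
theorem F29526 : act 0 n6449 = n6449 := d7_1 D6449 (iv D6449) F20927
theorem F29527 : act 2 n6449 = n6449 := d22_1 D6449 (iv D6449) F20928
theorem F29528 : act 3 n6449 = n4511 := d28_1 D6449 (iv D4511) (iv D3128) (iv F14866) D4468
theorem F29529 : act 4 n6449 = n6449 := d33_1 D6449 (iv D6449) F20929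
theorem F29530 : act 6 n6449 = n4475 := d40_1 D6449 (iv D4475) (iv F20930)
def n6450 : Q := act 6 n4469
theorem D6450 : act 6 n4469 = n6450 := rfl
theorem F29531 : act 0 n6450 = n6450 := d5_1 D6450 (iv D6450) F20932
theorem F29532 : act 2 n6450 = n4470 := d20_1 D6450 (iv D4470) (iv F20933)
theorem F29533 : act 5 n6450 = n4476 := d35_1 D6450 (iv D4476) (iv D3106) (iv F14865) D4469
theorem F29534 : act 8 n6450 = n4512 := d40_2 (iv F20934) D6450 (iv D4512)
theorem F29535 : act 9 n6450 = n6450 := d41_2 F20935 D6450 (iv D6450)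
def n6451 : Q := act 7 n4470
theorem D6451 : act 7 n4470 = n6451 := rfl
theorem F29536 : act 0 n6451 = n6451 := d6_1 D6451 (iv D6451) F20936
theorem F29537 : act 1 n6451 = n6451 := d14_1 D6451 (iv D6451) F20937
theorem F29538 : act 3 n6451 = n6451 := d27_1 D6451 (iv D6451) F20938
theorem F29539 : act 5 n6451 = n4477 := d36_1 D6451 (iv D4477) (iv F20939)
theorem F29540 : act 8 n6451 = n4513 := d42_2 (iv F20940) D6451 (iv D4513)
theorem F29541 : act 9 n6451 = n6451 := d43_2 F20941 D6451 (iv D6451)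
def n6452 : Q := act 3 n4471
theorem D6452 : act 3 n4471 = n6452 := rfl
theorem F29542 : act 0 n6452 = n4472 := d2_1 D6452 (iv D4472) (iv F20942)
theorem F29543 : act 1 n6452 = n6452 := d10_1 D6452 (iv D6452) F20943
theorem F29544 : act 4 n6452 = n6452 := d24_2 D4471 D6452 (iv D6452) (iv D4471) F14875
theorem F29545 : act 7 n6452 = n6452 := d27_2 F20945 D6452 (iv D6452)
theorem F29546 : act 9 n6452 = n6452 := d29_2 F20947 D6452 (iv D6452)
def n6453 : Q := act 5 n4471
theorem D6453 : act 5 n4471 = n6453 := rfl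
theorem F29547 : act 0 n6453 = n4473 := d4_1 D6453 (iv D4473) (iv F20942)
theorem F29548 : act 1 n6453 = n6453 := d12_1 D6453 (iv D6453) F20943
theorem F29549 : act 2 n6453 = n6453 := d19_1 D6453 (iv D6453) F20944
theorem F29550 : act 4 n6453 = n6453 := d30_1 D6453 (iv D6453) (iv D4471) F14876 D4471
theorem F29551 : act 7 n6453 = n6453 := d36_2 F20945 D6453 (iv D6453)
theorem F29552 : act 8 n6453 = n4522 := d37_2 (iv F20946) D6453 (iv D4522)
theorem F29553 : act 9 n6453 = n6453 := d38_2 F20947 D6453 (iv D6453)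
def n6454 : Q := act 2 n4472
theorem D6454 : act 2 n4472 = n6454 := rfl
theorem F29554 : act 1 n6454 = n6454 := d9_1 D6454 (iv D6454) F20948 F14886 (iv F20948)
theorem F29555 : act 3 n6454 = n6454 := d17_2 D4472 D6454 (iv D6454) (iv D4472) F14881
theorem F29556 : act 4 n6454 = n6454 := d18_2 F20949 D6454 (iv D6454)
theorem F29557 : act 7 n6454 = n6454 := d21_2 F20950 D6454 (iv D6454)
theorem F29558 : act 9 n6454 = n6454 := d23_2 F20951 D6454 (iv D6454)
def n6455 : Q := act 5 n4472
theorem D6455 : act 5 n4472 = n6455 := rfl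
theorem F29559 : act 1 n6455 = n4474 := d12_1 D6455 (iv D4474) (iv F20948)
theorem F29560 : act 3 n6455 = n4473 := d25_1 D6455 (iv D4473) D4472
theorem F29561 : act 7 n6455 = n6455 := d36_2 F20950 D6455 (iv D6455)
theorem F29562 : act 9 n6455 = n6455 := d38_2 F20951 D6455 (iv D6455)
def n6456 : Q := act 8 n4472
theorem D6456 : act 8 n4472 = n6456 := rfl
theorem F29563 : act 1 n6456 = n4475 := d15_1 D6456 (iv D4475) (iv F20948)
theorem F29564 : act 3 n6456 = n4525 := d28_1 D6456 (iv D4525) (iv D3137) (iv F14883) D4472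
theorem F29565 : act 4 n6456 = n6456 := d33_1 D6456 (iv D6456) F20949
theorem F29566 : act 7 n6456 = n6456 := d42_1 D6456 (iv D6456) F20950
def n6457 : Q := act 6 n4473
theorem D6457 : act 6 n4473 = n6457 := rfl
theorem F29567 : act 1 n6457 = n4476 := d13_1 D6457 (iv D4476) (iv F20952)
theorem F29568 : act 2 n6457 = n6457 := d20_1 D6457 (iv D6457) F20953
theorem F29569 : act 4 n6457 = n6457 := d31_1 D6457 (iv D6457) F20954
theorem F29570 : act 8 n6457 = n4526 := d40_2 (iv F20956) D6457 (iv D4526)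
theorem F29571 : act 9 n6457 = n6457 := d41_2 F20957 D6457 (iv D6457)
def n6458 : Q := act 4 n4474
theorem D6458 : act 4 n4474 = n6458 := rfl
theorem F29572 : act 0 n6458 = n6458 := d3_1 D6458 (iv D6458) F20958
theorem F29573 : act 2 n6458 = n6458 := d18_1 D6458 (iv D6458) F20959
theorem F29574 : act 3 n6458 = n6458 := d24_1 D6458 (iv D6458) F20960 F14892 (iv F20960)
theorem F29575 : act 5 n6458 = n6458 := d30_2 D4474 D6458 (iv D6458) (iv D4474) F14887
theorem F29576 : act 7 n6458 = n6458 := d32_2 F20961 D6458 (iv D6458)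
theorem F29577 : act 9 n6458 = n6458 := d34_2 F20962 D6458 (iv D6458)
def n6459 : Q := act 6 n4474
theorem D6459 : act 6 n4474 = n6459 := rfl
theorem F29578 : act 0 n6459 = n6459 := d5_1 D6459 (iv D6459) F20958
theorem F29579 : act 2 n6459 = n6459 := d20_1 D6459 (iv D6459) F20959
theorem F29580 : act 3 n6459 = n4476 := d26_1 D6459 (iv D4476) (iv F20960)
theorem F29581 : act 9 n6459 = n6459 := d41_2 F20962 D6459 (iv D6459)
def n6460 : Q := act 8 n4474
theorem D6460 : act 8 n4474 = n6460 := rfl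
theorem F29582 : act 0 n6460 = n6460 := d7_1 D6460 (iv D6460) F20958
theorem F29583 : act 2 n6460 = n6460 := d22_1 D6460 (iv D6460) F20959
theorem F29584 : act 3 n6460 = n4529 := d28_1 D6460 (iv D4529) F15051 (iv F14894) (iv F20960)
theorem F29585 : act 5 n6460 = n4475 := d37_1 D6460 (iv D4475) D4474
theorem F29586 : act 7 n6460 = n6460 := d42_1 D6460 (iv D6460) F20961
def n6461 : Q := act 9 n4475
theorem D6461 : act 9 n4475 = n6461 := rfl
theorem F29587 : act 0 n6461 = n6461 := d8_1 D6461 (iv D6461) F20963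
theorem F29588 : act 2 n6461 = n6461 := d23_1 D6461 (iv D6461) F20964
theorem F29589 : act 3 n6461 = n4530 := d29_1 D6461 (iv D4530) (iv F20965)
theorem F29590 : act 4 n6461 = n6461 := d34_1 D6461 (iv D6461) F20966
theorem F29591 : act 7 n6461 = n6461 := d43_1 D6461 (iv D6461) F20967
theorem F29592 : act 8 n6461 = n6461 := d44_1 D6461 (iv D6461) (iv D4475) F14889 D4475
def n6462 : Q := act 7 n4476
theorem D6462 : act 7 n4476 = n6462 := rfl
theorem F29593 : act 0 n6462 = n6462 := d6_1 D6462 (iv D6462) F20968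
theorem F29594 : act 2 n6462 = n4477 := d21_1 D6462 (iv D4477) (iv F20969)
theorem F29595 : act 4 n6462 = n6462 := d32_1 D6462 (iv D6462) F20970
theorem F29596 : act 6 n6462 = n6462 := d39_1 D6462 (iv D6462) (iv D4476) F14893 D4476
theorem F29597 : act 8 n6462 = n4531 := d42_2 (iv F20971) D6462 (iv D4531)
theorem F29598 : act 9 n6462 = n6462 := d43_2 F20972 D6462 (iv D6462)
def n6463 : Q := act 2 n4478
theorem D6463 : act 2 n4478 = n6463 := rfl
theorem F29599 : act 0 n6463 = n6463 := d1_1 D6463 (iv D6463) F20980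
theorem F29600 : act 3 n6463 = n4666 := d17_2 D4478 D6463 (iv D4666) (iv D3233) (iv F14904)
theorem F29601 : act 5 n6463 = n6463 := d19_2 F20982 D6463 (iv D6463)
theorem F29602 : act 6 n6463 = n4481 := d20_2 (iv F20983) D6463 (iv D4481)
theorem F29603 : act 7 n6463 = n6463 := d21_2 F20984 D6463 (iv D6463)
theorem F29604 : act 8 n6463 = n6463 := d22_2 F20985 D6463 (iv D6463)
theorem F29605 : act 9 n6463 = n4479 := d23_2 (iv F20986) D6463 (iv D4479)
def n6464 : Q := act 4 n4478
theorem D6464 : act 4 n4478 = n6464 := rfl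
theorem F29606 : act 0 n6464 = n6464 := d3_1 D6464 (iv D6464) F20980
theorem F29607 : act 1 n6464 = n6464 := d11_1 D6464 (iv D6464) F20981
theorem F29608 : act 3 n6464 = n6464 := d24_1 D6464 (iv D6464) (iv D4478) F14905 D4478
theorem F29609 : act 6 n6464 = n4482 := d31_2 (iv F20983) D6464 (iv D4482)
theorem F29610 : act 7 n6464 = n6464 := d32_2 F20984 D6464 (iv D6464)
theorem F29611 : act 8 n6464 = n6464 := d33_2 F20985 D6464 (iv D6464)
theorem F29612 : act 9 n6464 = n4480 := d34_2 (iv F20986) D6464 (iv D4480)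
def n6465 : Q := act 1 n4479
theorem D6465 : act 1 n4479 = n6465 := rfl
theorem F29613 : act 2 n6465 = n6465 := d9_2 D4479 D6465 (iv D6465) (iv D4479) F14911
theorem F29614 : act 3 n6465 = n4668 := d10_2 (iv F20988) D6465 (iv D4668)
theorem F29615 : act 5 n6465 = n6465 := d12_2 F20989 D6465 (iv D6465)
theorem F29616 : act 6 n6465 = n4483 := d13_2 (iv F20990) D6465 (iv D4483)
theorem F29617 : act 7 n6465 = n6465 := d14_2 F20991 D6465 (iv D6465)
def n6466 : Q := act 4 n4479
theorem D6466 : act 4 n4479 = n6466 := rfl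
theorem F29618 : act 0 n6466 = n6466 := d3_1 D6466 (iv D6466) F20987
theorem F29619 : act 2 n6466 = n4480 := d18_1 D6466 (iv D4480) D4479
theorem F29620 : act 6 n6466 = n4484 := d31_2 (iv F20990) D6466 (iv D4484)
theorem F29621 : act 7 n6466 = n6466 := d32_2 F20991 D6466 (iv D6466)
def n6467 : Q := act 5 n4480
theorem D6467 : act 5 n4480 = n6467 := rfl
theorem F29622 : act 0 n6467 = n6467 := d4_1 D6467 (iv D6467) F20992
theorem F29623 : act 1 n6467 = n6467 := d12_1 D6467 (iv D6467) F20993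
theorem F29624 : act 3 n6467 = n6467 := d25_1 D6467 (iv D6467) F20994
theorem F29625 : act 4 n6467 = n6467 := d30_1 D6467 (iv D6467) (iv D4480) F14912 D4480
theorem F29626 : act 7 n6467 = n6467 := d36_2 F20996 D6467 (iv D6467)
def n6468 : Q := act 1 n4481
theorem D6468 : act 1 n4481 = n6468 := rfl
theorem F29627 : act 2 n6468 = n6468 := d9_2 D4481 D6468 (iv D6468) (iv D4481) F14916
theorem F29628 : act 3 n6468 = n4674 := d10_2 (iv F20998) D6468 (iv D4674)
theorem F29629 : act 5 n6468 = n4494 := d12_2 (iv F20999) D6468 (iv D4494)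
theorem F29630 : act 7 n6468 = n4486 := d14_2 (iv F21000) D6468 (iv D4486)
theorem F29631 : act 8 n6468 = n6468 := d15_2 F21001 D6468 (iv D6468)
theorem F29632 : act 9 n6468 = n4483 := d16_2 (iv F21002) D6468 (iv D4483)
def n6469 : Q := act 4 n4481
theorem D6469 : act 4 n4481 = n6469 := rfl
theorem F29633 : act 0 n6469 = n6469 := d3_1 D6469 (iv D6469) F20997
theorem F29634 : act 2 n6469 = n4482 := d18_1 D6469 (iv D4482) D4481
theorem F29635 : act 7 n6469 = n4487 := d32_2 (iv F21000) D6469 (iv D4487)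
theorem F29636 : act 8 n6469 = n6469 := d33_2 F21001 D6469 (iv D6469)
theorem F29637 : act 9 n6469 = n4484 := d34_2 (iv F21002) D6469 (iv D4484)
def n6470 : Q := act 5 n4482
theorem D6470 : act 5 n4482 = n6470 := rfl
theorem F29638 : act 0 n6470 = n6470 := d4_1 D6470 (iv D6470) F21003
theorem F29639 : act 1 n6470 = n6470 := d12_1 D6470 (iv D6470) F21004
theorem F29640 : act 3 n6470 = n6470 := d25_1 D6470 (iv D6470) F21005
theorem F29641 : act 4 n6470 = n4496 := d30_1 D6470 (iv D4496) (iv D3119) (iv F14917) D4482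
theorem F29642 : act 7 n6470 = n4488 := d36_2 (iv F21006) D6470 (iv D4488)
theorem F29643 : act 8 n6470 = n6470 := d37_2 F21007 D6470 (iv D6470)
theorem F29644 : act 9 n6470 = n4485 := d38_2 (iv F21008) D6470 (iv D4485)
def n6471 : Q := act 0 n4483
theorem D6471 : act 0 n4483 = n6471 := rfl
theorem F29645 : act 1 n6471 = n6471 := d0_2 D4483 D6471 (iv D6471) (iv D4483) F14921
theorem F29646 : act 2 n6471 = n6471 := d1_2 F21009 D6471 (iv D6471)
theorem F29647 : act 3 n6471 = n4677 := d2_2 (iv F21010) D6471 (iv D4677)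
theorem F29648 : act 5 n6471 = n4497 := d4_2 (iv F21011) D6471 (iv D4497)
theorem F29649 : act 7 n6471 = n4489 := d6_2 (iv F21012) D6471 (iv D4489)
def n6472 : Q := act 4 n4483
theorem D6472 : act 4 n4483 = n6472 := rfl
theorem F29650 : act 1 n6472 = n4484 := d11_1 D6472 (iv D4484) D4483
theorem F29651 : act 2 n6472 = n6472 := d18_1 D6472 (iv D6472) F21009
theorem F29652 : act 7 n6472 = n4490 := d32_2 (iv F21012) D6472 (iv D4490)
def n6473 : Q := act 3 n4484
theorem D6473 : act 3 n4484 = n6473 := rfl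
theorem F29653 : act 0 n6473 = n6473 := d2_1 D6473 (iv D6473) F21013
theorem F29654 : act 2 n6473 = n6473 := d17_1 D6473 (iv D6473) F21014 F14927 (iv F21014)
theorem F29655 : act 4 n6473 = n4679 := d24_2 D4484 D6473 (iv D4679) (iv D3241) (iv F14922)
theorem F29656 : act 7 n6473 = n4491 := d27_2 (iv F21015) D6473 (iv D4491)
def n6474 : Q := act 5 n4484
theorem D6474 : act 5 n4484 = n6474 := rfl
theorem F29657 : act 0 n6474 = n6474 := d4_1 D6474 (iv D6474) F21013
theorem F29658 : act 2 n6474 = n4485 := d19_1 D6474 (iv D4485) (iv F21014)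
theorem F29659 : act 4 n6474 = n4500 := d30_1 D6474 (iv D4500) (iv D3121) (iv F14923) D4484
theorem F29660 : act 7 n6474 = n4492 := d36_2 (iv F21015) D6474 (iv D4492)
def n6475 : Q := act 6 n4485
theorem D6475 : act 6 n4485 = n6475 := rfl
theorem F29661 : act 0 n6475 = n6475 := d5_1 D6475 (iv D6475) F21016
theorem F29662 : act 1 n6475 = n6475 := d13_1 D6475 (iv D6475) F21017
theorem F29663 : act 3 n6475 = n6475 := d26_1 D6475 (iv D6475) F21018
theorem F29664 : act 4 n6475 = n4501 := d31_1 D6475 (iv D4501) (iv F21019)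
def n6476 : Q := act 0 n4486
theorem D6476 : act 0 n4486 = n6476 := rfl
theorem F29667 : act 3 n6476 = n4687 := d2_2 (iv F21022) D6476 (iv D4687)
theorem F29668 : act 5 n6476 = n4502 := d4_2 (iv F21023) D6476 (iv D4502)
theorem F29671 : act 9 n6476 = n4489 := d8_2 (iv F21026) D6476 (iv D4489)
def n6477 : Q := act 4 n4486
theorem D6477 : act 4 n4486 = n6477 := rfl
theorem F29672 : act 1 n6477 = n4487 := d11_1 D6477 (iv D4487) D4486
theorem F29673 : act 2 n6477 = n6477 := d18_1 D6477 (iv D6477) F21021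
theorem F29674 : act 6 n6477 = n6477 := d31_2 F21024 D6477 (iv D6477)
theorem F29675 : act 8 n6477 = n6477 := d33_2 F21025 D6477 (iv D6477)
theorem F29676 : act 9 n6477 = n4490 := d34_2 (iv F21026) D6477 (iv D4490)
def n6478 : Q := act 3 n4487
theorem D6478 : act 3 n4487 = n6478 := rfl
theorem F29677 : act 0 n6478 = n6478 := d2_1 D6478 (iv D6478) F21027
theorem F29678 : act 2 n6478 = n6478 := d17_1 D6478 (iv D6478) F21028 F14937 (iv F21028)
theorem F29679 : act 4 n6478 = n4689 := d24_2 D4487 D6478 (iv D4689) (iv D3247) (iv F14930)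
theorem F29680 : act 6 n6478 = n6478 := d26_2 F21029 D6478 (iv D6478)
theorem F29681 : act 9 n6478 = n4491 := d29_2 (iv F21031) D6478 (iv D4491)
def n6479 : Q := act 5 n4487
theorem D6479 : act 5 n4487 = n6479 := rfl
theorem F29682 : act 0 n6479 = n6479 := d4_1 D6479 (iv D6479) F21027
theorem F29683 : act 2 n6479 = n4488 := d19_1 D6479 (iv D4488) (iv F21028)
theorem F29684 : act 4 n6479 = n4505 := d30_1 D6479 (iv D4505) (iv D3124) (iv F14931) D4487
theorem F29685 : act 8 n6479 = n6479 := d37_2 F21030 D6479 (iv D6479)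
theorem F29686 : act 9 n6479 = n4492 := d38_2 (iv F21031) D6479 (iv D4492)
def n6480 : Q := act 6 n4488
theorem D6480 : act 6 n4488 = n6480 := rfl
theorem F29687 : act 0 n6480 = n6480 := d5_1 D6480 (iv D6480) F21032
theorem F29688 : act 1 n6480 = n6480 := d13_1 D6480 (iv D6480) F21033
theorem F29689 : act 3 n6480 = n6480 := d26_1 D6480 (iv D6480) F21034
theorem F29690 : act 4 n6480 = n4506 := d31_1 D6480 (iv D4506) (iv F21035)
theorem F29691 : act 5 n6480 = n6480 := d35_1 D6480 (iv D6480) (iv D4488) F14938 D4488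
theorem F29692 : act 8 n6480 = n6480 := d40_2 F21036 D6480 (iv D6480)
theorem F29693 : act 9 n6480 = n4493 := d41_2 (iv F21037) D6480 (iv D4493)
def n6481 : Q := act 4 n4489
theorem D6481 : act 4 n4489 = n6481 := rfl
theorem F29694 : act 0 n6481 = n4490 := d3_1 D6481 (iv D4490) D4489
theorem F29695 : act 1 n6481 = n6481 := d11_1 D6481 (iv D6481) F21038
theorem F29696 : act 2 n6481 = n6481 := d18_1 D6481 (iv D6481) F21039
theorem F29697 : act 6 n6481 = n6481 := d31_2 F21042 D6481 (iv D6481)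
def n6482 : Q := act 3 n4490
theorem D6482 : act 3 n4490 = n6482 := rfl
theorem F29698 : act 1 n6482 = n4491 := d10_1 D6482 (iv D4491) (iv F21043)
theorem F29699 : act 4 n6482 = n4693 := d24_2 D4490 D6482 (iv D4693) (iv D3250) (iv F14942)
theorem F29700 : act 6 n6482 = n6482 := d26_2 F21045 D6482 (iv D6482)
def n6483 : Q := act 5 n4490
theorem D6483 : act 5 n4490 = n6483 := rfl
theorem F29701 : act 1 n6483 = n4492 := d12_1 D6483 (iv D4492) (iv F21043)
theorem F29702 : act 2 n6483 = n6483 := d19_1 D6483 (iv D6483) F21044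
theorem F29703 : act 4 n6483 = n4509 := d30_1 D6483 (iv D4509) (iv D3127) (iv F14943) D4490
def n6484 : Q := act 5 n4491
theorem D6484 : act 5 n4491 = n6484 := rfl
theorem F29704 : act 0 n6484 = n6484 := d4_1 D6484 (iv D6484) F21046
theorem F29705 : act 2 n6484 = n6484 := d19_1 D6484 (iv D6484) F21047
theorem F29706 : act 3 n6484 = n4492 := d25_1 D6484 (iv D4492) D4491
def n6485 : Q := act 8 n4491
theorem D6485 : act 8 n4491 = n6485 := rfl
theorem F29707 : act 0 n6485 = n6485 := d7_1 D6485 (iv D6485) F21046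
theorem F29708 : act 2 n6485 = n6485 := d22_1 D6485 (iv D6485) F21047
theorem F29709 : act 4 n6485 = n4696 := d33_1 D6485 (iv D4696) (iv F21048)
theorem F29710 : act 6 n6485 = n6485 := d40_1 D6485 (iv D6485) F21049
def n6486 : Q := act 6 n4492
theorem D6486 : act 6 n4492 = n6486 := rfl
theorem F29711 : act 0 n6486 = n6486 := d5_1 D6486 (iv D6486) F21050
theorem F29712 : act 2 n6486 = n4493 := d20_1 D6486 (iv D4493) (iv F21051)
theorem F29713 : act 4 n6486 = n4512 := d31_1 D6486 (iv D4512) (iv F21052)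
theorem F29714 : act 5 n6486 = n6486 := d35_1 D6486 (iv D6486) (iv D4492) F14947 D4492
def n6487 : Q := act 7 n4493
theorem D6487 : act 7 n4493 = n6487 := rfl
theorem F29715 : act 0 n6487 = n6487 := d6_1 D6487 (iv D6487) F21053
theorem F29716 : act 1 n6487 = n6487 := d14_1 D6487 (iv D6487) F21054
theorem F29717 : act 3 n6487 = n6487 := d27_1 D6487 (iv D6487) F21055
theorem F29718 : act 4 n6487 = n4513 := d32_1 D6487 (iv D4513) (iv F21056)
theorem F29719 : act 5 n6487 = n6487 := d36_1 D6487 (iv D6487) F21057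
def n6488 : Q := act 0 n4494
theorem D6488 : act 0 n4494 = n6488 := rfl
theorem F29722 : act 3 n6488 = n4702 := d2_2 (iv F21059) D6488 (iv D4702)
theorem F29724 : act 7 n6488 = n4502 := d6_2 (iv F21061) D6488 (iv D4502)
theorem F29726 : act 9 n6488 = n4497 := d8_2 (iv F21063) D6488 (iv D4497)
def n6489 : Q := act 4 n4494
theorem D6489 : act 4 n4494 = n6489 := rfl
theorem F29727 : act 1 n6489 = n4495 := d11_1 D6489 (iv D4495) D4494
theorem F29728 : act 2 n6489 = n6489 := d18_1 D6489 (iv D6489) F21058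
theorem F29729 : act 6 n6489 = n6489 := d31_2 F21060 D6489 (iv D6489)
theorem F29730 : act 7 n6489 = n4503 := d32_2 (iv F21061) D6489 (iv D4503)
theorem F29731 : act 8 n6489 = n6489 := d33_2 F21062 D6489 (iv D6489)
theorem F29732 : act 9 n6489 = n4498 := d34_2 (iv F21063) D6489 (iv D4498)
def n6490 : Q := act 3 n4495
theorem D6490 : act 3 n4495 = n6490 := rfl
theorem F29733 : act 0 n6490 = n6490 := d2_1 D6490 (iv D6490) F21064
theorem F29734 : act 2 n6490 = n4537 := d17_1 D6490 (iv D4537) F15086 (iv F14960) (iv F21065)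
theorem F29735 : act 4 n6490 = n4704 := d24_2 D4495 D6490 (iv D4704) (iv D3257) (iv F14953)
theorem F29736 : act 6 n6490 = n6490 := d26_2 F21066 D6490 (iv D6490)
theorem F29737 : act 7 n6490 = n4504 := d27_2 (iv F21067) D6490 (iv D4504)
theorem F29738 : act 9 n6490 = n4499 := d29_2 (iv F21069) D6490 (iv D4499)
def n6491 : Q := act 5 n4495
theorem D6491 : act 5 n4495 = n6491 := rfl
theorem F29739 : act 0 n6491 = n6491 := d4_1 D6491 (iv D6491) F21064
theorem F29740 : act 2 n6491 = n4496 := d19_1 D6491 (iv D4496) (iv F21065)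
theorem F29741 : act 7 n6491 = n4505 := d36_2 (iv F21067) D6491 (iv D4505)
theorem F29742 : act 8 n6491 = n6491 := d37_2 F21068 D6491 (iv D6491)
theorem F29743 : act 9 n6491 = n4500 := d38_2 (iv F21069) D6491 (iv D4500)
def n6492 : Q := act 6 n4496
theorem D6492 : act 6 n4496 = n6492 := rfl
theorem F29744 : act 0 n6492 = n6492 := d5_1 D6492 (iv D6492) F21070
theorem F29745 : act 1 n6492 = n6492 := d13_1 D6492 (iv D6492) F21071
theorem F29746 : act 3 n6492 = n4539 := d26_1 D6492 (iv D4539) (iv F21072)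
theorem F29747 : act 5 n6492 = n6492 := d35_1 D6492 (iv D6492) (iv D4496) F14961 D4496
theorem F29748 : act 8 n6492 = n6492 := d40_2 F21074 D6492 (iv D6492)
theorem F29749 : act 9 n6492 = n4501 := d41_2 (iv F21075) D6492 (iv D4501)
def n6493 : Q := act 4 n4497
theorem D6493 : act 4 n4497 = n6493 := rfl
theorem F29750 : act 0 n6493 = n4498 := d3_1 D6493 (iv D4498) D4497
theorem F29751 : act 1 n6493 = n6493 := d11_1 D6493 (iv D6493) F21076
theorem F29752 : act 2 n6493 = n6493 := d18_1 D6493 (iv D6493) F21077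
theorem F29753 : act 6 n6493 = n6493 := d31_2 F21079 D6493 (iv D6493)
theorem F29754 : act 7 n6493 = n4507 := d32_2 (iv F21080) D6493 (iv D4507)
def n6494 : Q := act 3 n4498
theorem D6494 : act 3 n4498 = n6494 := rfl
theorem F29755 : act 1 n6494 = n4499 := d10_1 D6494 (iv D4499) (iv F21081)
theorem F29756 : act 4 n6494 = n4708 := d24_2 D4498 D6494 (iv D4708) (iv D3260) (iv F14966)
theorem F29757 : act 6 n6494 = n6494 := d26_2 F21083 D6494 (iv D6494)
theorem F29758 : act 7 n6494 = n4508 := d27_2 (iv F21084) D6494 (iv D4508)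
def n6495 : Q := act 5 n4498
theorem D6495 : act 5 n4498 = n6495 := rfl
theorem F29759 : act 1 n6495 = n4500 := d12_1 D6495 (iv D4500) (iv F21081)
theorem F29760 : act 2 n6495 = n6495 := d19_1 D6495 (iv D6495) F21082
theorem F29761 : act 7 n6495 = n4509 := d36_2 (iv F21084) D6495 (iv D4509)
def n6496 : Q := act 5 n4499
theorem D6496 : act 5 n4499 = n6496 := rfl
theorem F29762 : act 0 n6496 = n6496 := d4_1 D6496 (iv D6496) F21085
theorem F29763 : act 2 n6496 = n4543 := d19_1 D6496 (iv D4543) (iv F21086)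
theorem F29764 : act 3 n6496 = n4500 := d25_1 D6496 (iv D4500) D4499
theorem F29765 : act 7 n6496 = n4510 := d36_2 (iv F21089) D6496 (iv D4510)
def n6497 : Q := act 8 n4499
theorem D6497 : act 8 n4499 = n6497 := rfl
theorem F29766 : act 0 n6497 = n6497 := d7_1 D6497 (iv D6497) F21085
theorem F29767 : act 2 n6497 = n4544 := d22_1 D6497 (iv D4544) (iv F21086)
theorem F29768 : act 4 n6497 = n4711 := d33_1 D6497 (iv D4711) (iv F21087)
theorem F29769 : act 6 n6497 = n6497 := d40_1 D6497 (iv D6497) F21088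
theorem F29770 : act 7 n6497 = n4511 := d42_1 D6497 (iv D4511) (iv F21089)
def n6498 : Q := act 6 n4500
theorem D6498 : act 6 n4500 = n6498 := rfl
theorem F29771 : act 0 n6498 = n6498 := d5_1 D6498 (iv D6498) F21090
theorem F29772 : act 2 n6498 = n4501 := d20_1 D6498 (iv D4501) (iv F21091)
theorem F29773 : act 5 n6498 = n6498 := d35_1 D6498 (iv D6498) (iv D4500) F14971 D4500
def n6499 : Q := act 7 n4501
theorem D6499 : act 7 n4501 = n6499 := rfl
theorem F29774 : act 0 n6499 = n6499 := d6_1 D6499 (iv D6499) F21093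
theorem F29775 : act 1 n6499 = n6499 := d14_1 D6499 (iv D6499) F21094
theorem F29776 : act 3 n6499 = n4546 := d27_1 D6499 (iv D4546) (iv F21095)
theorem F29777 : act 5 n6499 = n6499 := d36_1 D6499 (iv D6499) F21096
theorem F29778 : act 6 n6499 = n4513 := d39_1 D6499 (iv D4513) (iv D3130) (iv F14976) D4501
def n6500 : Q := act 4 n4502
theorem D6500 : act 4 n4502 = n6500 := rfl
theorem F29779 : act 0 n6500 = n4503 := d3_1 D6500 (iv D4503) D4502
theorem F29784 : act 9 n6500 = n4507 := d34_2 (iv F21102) D6500 (iv D4507)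
def n6501 : Q := act 3 n4503
theorem D6501 : act 3 n4503 = n6501 := rfl
theorem F29785 : act 1 n6501 = n4504 := d10_1 D6501 (iv D4504) (iv F21103)
theorem F29786 : act 4 n6501 = n4720 := d24_2 D4503 D6501 (iv D4720) (iv D3268) (iv F14978)
theorem F29787 : act 6 n6501 = n4515 := d26_2 (iv F21105) D6501 (iv D4515)
theorem F29788 : act 9 n6501 = n4508 := d29_2 (iv F21107) D6501 (iv D4508)
def n6502 : Q := act 5 n4503
theorem D6502 : act 5 n4503 = n6502 := rfl
theorem F29789 : act 1 n6502 = n4505 := d12_1 D6502 (iv D4505) (iv F21103)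
theorem F29790 : act 2 n6502 = n6502 := d19_1 D6502 (iv D6502) F21104
theorem F29791 : act 8 n6502 = n6502 := d37_2 F21106 D6502 (iv D6502)
theorem F29792 : act 9 n6502 = n4509 := d38_2 (iv F21107) D6502 (iv D4509)
def n6503 : Q := act 5 n4504
theorem D6503 : act 5 n4504 = n6503 := rfl
theorem F29793 : act 0 n6503 = n6503 := d4_1 D6503 (iv D6503) F21108
theorem F29794 : act 2 n6503 = n4555 := d19_1 D6503 (iv D4555) (iv F21109)
theorem F29795 : act 3 n6503 = n4505 := d25_1 D6503 (iv D4505) D4504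
theorem F29796 : act 9 n6503 = n4510 := d38_2 (iv F21112) D6503 (iv D4510)
def n6504 : Q := act 8 n4504
theorem D6504 : act 8 n4504 = n6504 := rfl
theorem F29797 : act 0 n6504 = n6504 := d7_1 D6504 (iv D6504) F21108
theorem F29798 : act 2 n6504 = n4556 := d22_1 D6504 (iv D4556) (iv F21109)
theorem F29799 : act 3 n6504 = n6504 := d28_1 D6504 (iv D6504) (iv D4504) F14985 D4504
theorem F29800 : act 4 n6504 = n4723 := d33_1 D6504 (iv D4723) (iv F21110)
theorem F29801 : act 6 n6504 = n4518 := d40_1 D6504 (iv D4518) (iv F21111)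
def n6505 : Q := act 6 n4505
theorem D6505 : act 6 n4505 = n6505 := rfl
theorem F29802 : act 0 n6505 = n6505 := d5_1 D6505 (iv D6505) F21113
theorem F29803 : act 2 n6505 = n4506 := d20_1 D6505 (iv D4506) (iv F21114)
theorem F29804 : act 5 n6505 = n4519 := d35_1 D6505 (iv D4519) (iv D3134) (iv F14984) D4505
theorem F29805 : act 8 n6505 = n6505 := d40_2 F21115 D6505 (iv D6505)
theorem F29806 : act 9 n6505 = n4512 := d41_2 (iv F21116) D6505 (iv D4512)
def n6506 : Q := act 7 n4506
theorem D6506 : act 7 n4506 = n6506 := rfl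
theorem F29807 : act 0 n6506 = n6506 := d6_1 D6506 (iv D6506) F21117
theorem F29808 : act 1 n6506 = n6506 := d14_1 D6506 (iv D6506) F21118
theorem F29809 : act 3 n6506 = n4558 := d27_1 D6506 (iv D4558) (iv F21119)
theorem F29810 : act 5 n6506 = n4520 := d36_1 D6506 (iv D4520) (iv F21120)
theorem F29811 : act 8 n6506 = n6506 := d42_2 F21121 D6506 (iv D6506)
theorem F29812 : act 9 n6506 = n4513 := d43_2 (iv F21122) D6506 (iv D4513)
def n6507 : Q := act 3 n4507
theorem D6507 : act 3 n4507 = n6507 := rfl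
theorem F29813 : act 0 n6507 = n4508 := d2_1 D6507 (iv D4508) (iv F21123)
theorem F29814 : act 1 n6507 = n6507 := d10_1 D6507 (iv D6507) F21124
theorem F29815 : act 4 n6507 = n4726 := d24_2 D4507 D6507 (iv D4726) (iv D3272) (iv F14994)
theorem F29816 : act 6 n6507 = n4521 := d26_2 (iv F21126) D6507 (iv D4521)
def n6508 : Q := act 5 n4507
theorem D6508 : act 5 n4507 = n6508 := rfl
theorem F29817 : act 0 n6508 = n4509 := d4_1 D6508 (iv D4509) (iv F21123)
theorem F29818 : act 1 n6508 = n6508 := d12_1 D6508 (iv D6508) F21124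
theorem F29819 : act 2 n6508 = n6508 := d19_1 D6508 (iv D6508) F21125
def n6509 : Q := act 2 n4508
theorem D6509 : act 2 n4508 = n6509 := rfl
theorem F29820 : act 1 n6509 = n4561 := d9_1 D6509 (iv D4561) F15166 (iv F15000) (iv F21127)
theorem F29821 : act 3 n6509 = n6509 := d17_2 D4508 D6509 (iv D6509) (iv D4508) F14997
theorem F29822 : act 4 n6509 = n4728 := d18_2 (iv F21128) D6509 (iv D4728)
theorem F29823 : act 6 n6509 = n4523 := d20_2 (iv F21129) D6509 (iv D4523)
def n6510 : Q := act 5 n4508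
theorem D6510 : act 5 n4508 = n6510 := rfl
theorem F29824 : act 1 n6510 = n4510 := d12_1 D6510 (iv D4510) (iv F21127)
theorem F29825 : act 3 n6510 = n4509 := d25_1 D6510 (iv D4509) D4508
def n6511 : Q := act 8 n4508
theorem D6511 : act 8 n4508 = n6511 := rfl
theorem F29826 : act 1 n6511 = n4511 := d15_1 D6511 (iv D4511) (iv F21127)
theorem F29827 : act 4 n6511 = n4730 := d33_1 D6511 (iv D4730) (iv F21128)
theorem F29828 : act 6 n6511 = n4525 := d40_1 D6511 (iv D4525) (iv F21129)
def n6512 : Q := act 6 n4509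
theorem D6512 : act 6 n4509 = n6512 := rfl
theorem F29829 : act 1 n6512 = n4512 := d13_1 D6512 (iv D4512) (iv F21130)
theorem F29830 : act 2 n6512 = n6512 := d20_1 D6512 (iv D6512) F21131
theorem F29831 : act 5 n6512 = n4526 := d35_1 D6512 (iv D4526) (iv D3138) (iv F14998) D4509
def n6513 : Q := act 4 n4510
theorem D6513 : act 4 n4510 = n6513 := rfl
theorem F29832 : act 0 n6513 = n6513 := d3_1 D6513 (iv D6513) F21132
theorem F29833 : act 2 n6513 = n4565 := d18_1 D6513 (iv D4565) (iv F21133)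
theorem F29834 : act 5 n6513 = n4732 := d30_2 D4510 D6513 (iv D4732) (iv D3275) (iv F15001)
def n6514 : Q := act 6 n4510
theorem D6514 : act 6 n4510 = n6514 := rfl
theorem F29835 : act 0 n6514 = n6514 := d5_1 D6514 (iv D6514) F21132
theorem F29836 : act 2 n6514 = n4566 := d20_1 D6514 (iv D4566) (iv F21133)
theorem F29837 : act 3 n6514 = n4512 := d26_1 D6514 (iv D4512) (iv F21134)
theorem F29838 : act 5 n6514 = n4528 := d35_1 D6514 (iv D4528) (iv D3139) (iv F15002) D4510
def n6515 : Q := act 8 n4510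
theorem D6515 : act 8 n4510 = n6515 := rfl
theorem F29839 : act 0 n6515 = n6515 := d7_1 D6515 (iv D6515) F21132
theorem F29840 : act 2 n6515 = n4567 := d22_1 D6515 (iv D4567) (iv F21133)
theorem F29841 : act 5 n6515 = n4511 := d37_1 D6515 (iv D4511) D4510
def n6516 : Q := act 9 n4511
theorem D6516 : act 9 n4511 = n6516 := rfl
theorem F29842 : act 0 n6516 = n6516 := d8_1 D6516 (iv D6516) F21135
theorem F29843 : act 2 n6516 = n4568 := d23_1 D6516 (iv D4568) (iv F21136)
theorem F29844 : act 4 n6516 = n4735 := d34_1 D6516 (iv D4735) (iv F21137)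
theorem F29845 : act 6 n6516 = n4530 := d41_1 D6516 (iv D4530) (iv F21138)
def n6517 : Q := act 7 n4512
theorem D6517 : act 7 n4512 = n6517 := rfl
theorem F29846 : act 0 n6517 = n6517 := d6_1 D6517 (iv D6517) F21139
theorem F29847 : act 2 n6517 = n4513 := d21_1 D6517 (iv D4513) (iv F21140)
theorem F29848 : act 5 n6517 = n4531 := d36_1 D6517 (iv D4531) (iv F21141)
def n6518 : Q := act 3 n4514
theorem D6518 : act 3 n4514 = n6518 := rfl
theorem F29849 : act 0 n6518 = n4515 := d2_1 D6518 (iv D4515) (iv F21146)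
theorem F29851 : act 4 n6518 = n4744 := d24_2 D4514 D6518 (iv D4744) (iv D3284) (iv F15011)
theorem F29853 : act 9 n6518 = n4521 := d29_2 (iv F21151) D6518 (iv D4521)
def n6519 : Q := act 5 n4514
theorem D6519 : act 5 n4514 = n6519 := rfl
theorem F29854 : act 0 n6519 = n4516 := d4_1 D6519 (iv D4516) (iv F21146)
theorem F29860 : act 9 n6519 = n4522 := d38_2 (iv F21151) D6519 (iv D4522)
def n6520 : Q := act 2 n4515
theorem D6520 : act 2 n4515 = n6520 := rfl
theorem F29861 : act 1 n6520 = n4579 := d9_1 D6520 (iv D4579) F15223 (iv F15022) (iv F21152)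
theorem F29862 : act 3 n6520 = n6520 := d17_2 D4515 D6520 (iv D6520) (iv D4515) F15017
theorem F29863 : act 4 n6520 = n4746 := d18_2 (iv F21153) D6520 (iv D4746)
theorem F29864 : act 7 n6520 = n6520 := d21_2 F21154 D6520 (iv D6520)
theorem F29865 : act 9 n6520 = n4523 := d23_2 (iv F21155) D6520 (iv D4523)
def n6521 : Q := act 5 n4515
theorem D6521 : act 5 n4515 = n6521 := rfl
theorem F29866 : act 1 n6521 = n4517 := d12_1 D6521 (iv D4517) (iv F21152)
theorem F29867 : act 3 n6521 = n4516 := d25_1 D6521 (iv D4516) D4515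
theorem F29868 : act 7 n6521 = n6521 := d36_2 F21154 D6521 (iv D6521)
theorem F29869 : act 9 n6521 = n4524 := d38_2 (iv F21155) D6521 (iv D4524)
def n6522 : Q := act 8 n4515
theorem D6522 : act 8 n4515 = n6522 := rfl
theorem F29870 : act 1 n6522 = n4518 := d15_1 D6522 (iv D4518) (iv F21152)
theorem F29871 : act 3 n6522 = n6522 := d28_1 D6522 (iv D6522) (iv D4515) F15019 D4515
theorem F29872 : act 4 n6522 = n4748 := d33_1 D6522 (iv D4748) (iv F21153)
theorem F29873 : act 7 n6522 = n6522 := d42_1 D6522 (iv D6522) F21154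
def n6523 : Q := act 6 n4516
theorem D6523 : act 6 n4516 = n6523 := rfl
theorem F29874 : act 1 n6523 = n4519 := d13_1 D6523 (iv D4519) (iv F21156)
theorem F29875 : act 2 n6523 = n6523 := d20_1 D6523 (iv D6523) F21157
theorem F29876 : act 4 n6523 = n6523 := d31_1 D6523 (iv D6523) F21158
theorem F29877 : act 8 n6523 = n6523 := d40_2 F21160 D6523 (iv D6523)
theorem F29878 : act 9 n6523 = n4526 := d41_2 (iv F21161) D6523 (iv D4526)
def n6524 : Q := act 4 n4517
theorem D6524 : act 4 n4517 = n6524 := rfl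
theorem F29879 : act 0 n6524 = n6524 := d3_1 D6524 (iv D6524) F21162
theorem F29880 : act 2 n6524 = n4583 := d18_1 D6524 (iv D4583) (iv F21163)
theorem F29881 : act 3 n6524 = n6524 := d24_1 D6524 (iv D6524) F21164 F15028 (iv F21164)
theorem F29882 : act 5 n6524 = n4750 := d30_2 D4517 D6524 (iv D4750) (iv D3287) (iv F15023)
theorem F29883 : act 7 n6524 = n6524 := d32_2 F21165 D6524 (iv D6524)
theorem F29884 : act 9 n6524 = n4527 := d34_2 (iv F21166) D6524 (iv D4527)
def n6525 : Q := act 6 n4517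
theorem D6525 : act 6 n4517 = n6525 := rfl
theorem F29885 : act 0 n6525 = n6525 := d5_1 D6525 (iv D6525) F21162
theorem F29886 : act 2 n6525 = n4584 := d20_1 D6525 (iv D4584) (iv F21163)
theorem F29887 : act 3 n6525 = n4519 := d26_1 D6525 (iv D4519) (iv F21164)
theorem F29888 : act 9 n6525 = n4528 := d41_2 (iv F21166) D6525 (iv D4528)
def n6526 : Q := act 8 n4517
theorem D6526 : act 8 n4517 = n6526 := rfl
theorem F29889 : act 0 n6526 = n6526 := d7_1 D6526 (iv D6526) F21162
theorem F29890 : act 2 n6526 = n4585 := d22_1 D6526 (iv D4585) (iv F21163)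
theorem F29891 : act 3 n6526 = n6526 := d28_1 D6526 (iv D6526) F21164 F15030 (iv F21164)
theorem F29892 : act 5 n6526 = n4518 := d37_1 D6526 (iv D4518) D4517
theorem F29893 : act 7 n6526 = n6526 := d42_1 D6526 (iv D6526) F21165
def n6527 : Q := act 9 n4518
theorem D6527 : act 9 n4518 = n6527 := rfl
theorem F29894 : act 0 n6527 = n6527 := d8_1 D6527 (iv D6527) F21167
theorem F29895 : act 2 n6527 = n4586 := d23_1 D6527 (iv D4586) (iv F21168)
theorem F29896 : act 3 n6527 = n6527 := d29_1 D6527 (iv D6527) F21169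
theorem F29897 : act 4 n6527 = n4753 := d34_1 D6527 (iv D4753) (iv F21170)
theorem F29898 : act 7 n6527 = n6527 := d43_1 D6527 (iv D6527) F21171
theorem F29899 : act 8 n6527 = n4530 := d44_1 D6527 (iv D4530) (iv D3140) (iv F15025) D4518
def n6528 : Q := act 7 n4519
theorem D6528 : act 7 n4519 = n6528 := rfl
theorem F29900 : act 0 n6528 = n6528 := d6_1 D6528 (iv D6528) F21172
theorem F29901 : act 2 n6528 = n4520 := d21_1 D6528 (iv D4520) (iv F21173)
theorem F29902 : act 4 n6528 = n6528 := d32_1 D6528 (iv D6528) F21174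
theorem F29903 : act 6 n6528 = n6528 := d39_1 D6528 (iv D6528) (iv D4519) F15029 D4519
theorem F29904 : act 8 n6528 = n6528 := d42_2 F21175 D6528 (iv D6528)
theorem F29905 : act 9 n6528 = n4531 := d43_2 (iv F21176) D6528 (iv D4531)
def n6529 : Q := act 2 n4521
theorem D6529 : act 2 n4521 = n6529 := rfl
theorem F29906 : act 0 n6529 = n4523 := d1_1 D6529 (iv D4523) (iv F21184)
theorem F29907 : act 3 n6529 = n6529 := d17_2 D4521 D6529 (iv D6529) (iv D4521) F15040
theorem F29908 : act 4 n6529 = n4755 := d18_2 (iv F21186) D6529 (iv D4755)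
theorem F29909 : act 7 n6529 = n6529 := d21_2 F21187 D6529 (iv D6529)
def n6530 : Q := act 5 n4521
theorem D6530 : act 5 n4521 = n6530 := rfl
theorem F29910 : act 0 n6530 = n4524 := d4_1 D6530 (iv D4524) (iv F21184)
theorem F29911 : act 1 n6530 = n6530 := d12_1 D6530 (iv D6530) F21185
theorem F29912 : act 3 n6530 = n4522 := d25_1 D6530 (iv D4522) D4521
theorem F29913 : act 7 n6530 = n6530 := d36_2 F21187 D6530 (iv D6530)
def n6531 : Q := act 8 n4521
theorem D6531 : act 8 n4521 = n6531 := rfl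
theorem F29914 : act 0 n6531 = n4525 := d7_1 D6531 (iv D4525) (iv F21184)
theorem F29915 : act 1 n6531 = n6531 := d15_1 D6531 (iv D6531) F21185
theorem F29916 : act 4 n6531 = n4757 := d33_1 D6531 (iv D4757) (iv F21186)
theorem F29917 : act 7 n6531 = n6531 := d42_1 D6531 (iv D6531) F21187
def n6532 : Q := act 6 n4522
theorem D6532 : act 6 n4522 = n6532 := rfl
theorem F29918 : act 0 n6532 = n4526 := d5_1 D6532 (iv D4526) (iv F21188)
theorem F29919 : act 1 n6532 = n6532 := d13_1 D6532 (iv D6532) F21189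
theorem F29920 : act 2 n6532 = n6532 := d20_1 D6532 (iv D6532) F21190
theorem F29921 : act 4 n6532 = n6532 := d31_1 D6532 (iv D6532) F21191
def n6533 : Q := act 5 n4523
theorem D6533 : act 5 n4523 = n6533 := rfl
theorem F29922 : act 1 n6533 = n4592 := d12_1 D6533 (iv D4592) (iv F21193)
theorem F29923 : act 2 n6533 = n4524 := d19_1 D6533 (iv D4524) D4523
theorem F29924 : act 3 n6533 = n6533 := d25_1 D6533 (iv D6533) F21194
theorem F29925 : act 7 n6533 = n6533 := d36_2 F21196 D6533 (iv D6533)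
def n6534 : Q := act 8 n4523
theorem D6534 : act 8 n4523 = n6534 := rfl
theorem F29926 : act 1 n6534 = n4593 := d15_1 D6534 (iv D4593) (iv F21193)
theorem F29927 : act 2 n6534 = n4525 := d22_1 D6534 (iv D4525) D4523
theorem F29928 : act 4 n6534 = n4760 := d33_1 D6534 (iv D4760) (iv F21195)
theorem F29929 : act 7 n6534 = n6534 := d42_1 D6534 (iv D6534) F21196
def n6535 : Q := act 4 n4524
theorem D6535 : act 4 n4524 = n6535 := rfl
theorem F29930 : act 1 n6535 = n4527 := d11_1 D6535 (iv D4527) (iv F21197)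
theorem F29931 : act 3 n6535 = n6535 := d24_1 D6535 (iv D6535) F21198 F15047 (iv F21198)
theorem F29932 : act 5 n6535 = n4761 := d30_2 D4524 D6535 (iv D4761) (iv D3294) (iv F15043)
theorem F29933 : act 7 n6535 = n6535 := d32_2 F21199 D6535 (iv D6535)
def n6536 : Q := act 6 n4524
theorem D6536 : act 6 n4524 = n6536 := rfl
theorem F29934 : act 1 n6536 = n4528 := d13_1 D6536 (iv D4528) (iv F21197)
theorem F29935 : act 3 n6536 = n4526 := d26_1 D6536 (iv D4526) (iv F21198)
def n6537 : Q := act 8 n4524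
theorem D6537 : act 8 n4524 = n6537 := rfl
theorem F29936 : act 1 n6537 = n4529 := d15_1 D6537 (iv D4529) (iv F21197)
theorem F29937 : act 5 n6537 = n4525 := d37_1 D6537 (iv D4525) D4524
theorem F29938 : act 7 n6537 = n6537 := d42_1 D6537 (iv D6537) F21199
def n6538 : Q := act 9 n4525
theorem D6538 : act 9 n4525 = n6538 := rfl
theorem F29939 : act 1 n6538 = n4530 := d16_1 D6538 (iv D4530) (iv F21200)
theorem F29940 : act 4 n6538 = n4764 := d34_1 D6538 (iv D4764) (iv F21201)
theorem F29941 : act 7 n6538 = n6538 := d43_1 D6538 (iv D6538) F21202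
def n6539 : Q := act 7 n4526
theorem D6539 : act 7 n4526 = n6539 := rfl
theorem F29942 : act 1 n6539 = n4531 := d14_1 D6539 (iv D4531) (iv F21203)
theorem F29943 : act 2 n6539 = n6539 := d21_1 D6539 (iv D6539) F21204
theorem F29944 : act 4 n6539 = n6539 := d32_1 D6539 (iv D6539) F21205
theorem F29945 : act 6 n6539 = n6539 := d39_1 D6539 (iv D6539) (iv D4526) F15048 D4526
def n6540 : Q := act 6 n4527
theorem D6540 : act 6 n4527 = n6540 := rfl
theorem F29946 : act 0 n6540 = n6540 := d5_1 D6540 (iv D6540) F21206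
theorem F29947 : act 2 n6540 = n4599 := d20_1 D6540 (iv D4599) (iv F21207)
theorem F29948 : act 3 n6540 = n6540 := d26_1 D6540 (iv D6540) F21208
theorem F29949 : act 4 n6540 = n4528 := d31_1 D6540 (iv D4528) D4527
def n6541 : Q := act 8 n4527
theorem D6541 : act 8 n4527 = n6541 := rfl
theorem F29950 : act 0 n6541 = n6541 := d7_1 D6541 (iv D6541) F21206
theorem F29951 : act 2 n6541 = n4600 := d22_1 D6541 (iv D4600) (iv F21207)
theorem F29952 : act 4 n6541 = n4529 := d33_1 D6541 (iv D4529) D4527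
theorem F29953 : act 5 n6541 = n4767 := d37_1 D6541 (iv D4767) (iv F21209)
theorem F29954 : act 7 n6541 = n6541 := d42_1 D6541 (iv D6541) F21210
def n6542 : Q := act 7 n4528
theorem D6542 : act 7 n4528 = n6542 := rfl
theorem F29955 : act 0 n6542 = n6542 := d6_1 D6542 (iv D6542) F21211
theorem F29956 : act 2 n6542 = n4601 := d21_1 D6542 (iv D4601) (iv F21212)
theorem F29957 : act 3 n6542 = n4531 := d27_1 D6542 (iv D4531) (iv F21213)
theorem F29958 : act 6 n6542 = n6542 := d39_1 D6542 (iv D6542) (iv D4528) F15052 D4528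
def n6543 : Q := act 8 n4528
theorem D6543 : act 8 n4528 = n6543 := rfl
theorem F29959 : act 0 n6543 = n6543 := d7_1 D6543 (iv D6543) F21211
theorem F29960 : act 2 n6543 = n4602 := d22_1 D6543 (iv D4602) (iv F21212)
theorem F29961 : act 6 n6543 = n4529 := d40_1 D6543 (iv D4529) D4528
def n6544 : Q := act 9 n4529
theorem D6544 : act 9 n4529 = n6544 := rfl
theorem F29962 : act 0 n6544 = n6544 := d8_1 D6544 (iv D6544) F21214
theorem F29963 : act 2 n6544 = n4603 := d23_1 D6544 (iv D4603) (iv F21215)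
theorem F29964 : act 5 n6544 = n4530 := d38_1 D6544 (iv D4530) (iv F21216)
theorem F29965 : act 7 n6544 = n6544 := d43_1 D6544 (iv D6544) F21217
def n6545 : Q := act 0 n4532
theorem D6545 : act 0 n4532 = n6545 := rfl
theorem F29966 : act 1 n6545 = n6545 := d0_2 D4532 D6545 (iv D6545) (iv D4532) F15065
theorem F29967 : act 2 n6545 = n6545 := d1_2 F21226 D6545 (iv D6545)
theorem F29968 : act 3 n6545 = n6545 := d2_2 F21227 D6545 (iv D6545)
theorem F29969 : act 5 n6545 = n6545 := d4_2 F21228 D6545 (iv D6545)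
theorem F29970 : act 6 n6545 = n6545 := d5_2 F21229 D6545 (iv D6545)
theorem F29971 : act 7 n6545 = n4547 := d6_2 (iv F21230) D6545 (iv D4547)
theorem F29972 : act 8 n6545 = n4535 := d7_2 (iv F21231) D6545 (iv D4535)
theorem F29973 : act 9 n6545 = n6545 := d8_2 F21232 D6545 (iv D6545)
def n6546 : Q := act 4 n4532
theorem D6546 : act 4 n4532 = n6546 := rfl
theorem F29974 : act 1 n6546 = n4533 := d11_1 D6546 (iv D4533) D4532
theorem F29975 : act 2 n6546 = n6546 := d18_1 D6546 (iv D6546) F21226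
theorem F29976 : act 6 n6546 = n6546 := d31_2 F21229 D6546 (iv D6546)
theorem F29977 : act 7 n6546 = n4548 := d32_2 (iv F21230) D6546 (iv D4548)
theorem F29978 : act 8 n6546 = n4536 := d33_2 (iv F21231) D6546 (iv D4536)
theorem F29979 : act 9 n6546 = n6546 := d34_2 F21232 D6546 (iv D6546)
def n6547 : Q := act 3 n4533
theorem D6547 : act 3 n4533 = n6547 := rfl
theorem F29980 : act 0 n6547 = n6547 := d2_1 D6547 (iv D6547) F21233
theorem F29981 : act 2 n6547 = n6547 := d17_1 D6547 (iv D6547) F21234 F15074 (iv F21234)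
theorem F29982 : act 4 n6547 = n6547 := d24_2 D4533 D6547 (iv D6547) (iv D4533) F15066
theorem F29983 : act 6 n6547 = n6547 := d26_2 F21235 D6547 (iv D6547)
theorem F29984 : act 7 n6547 = n4549 := d27_2 (iv F21236) D6547 (iv D4549)
theorem F29985 : act 9 n6547 = n6547 := d29_2 F21238 D6547 (iv D6547)
def n6548 : Q := act 5 n4533
theorem D6548 : act 5 n4533 = n6548 := rfl
theorem F29986 : act 0 n6548 = n6548 := d4_1 D6548 (iv D6548) F21233
theorem F29987 : act 2 n6548 = n4534 := d19_1 D6548 (iv D4534) (iv F21234)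
theorem F29988 : act 4 n6548 = n6548 := d30_1 D6548 (iv D6548) (iv D4533) F15067 D4533
theorem F29989 : act 7 n6548 = n4550 := d36_2 (iv F21236) D6548 (iv D4550)
theorem F29990 : act 8 n6548 = n4538 := d37_2 (iv F21237) D6548 (iv D4538)
theorem F29991 : act 9 n6548 = n6548 := d38_2 F21238 D6548 (iv D6548)
def n6549 : Q := act 6 n4534
theorem D6549 : act 6 n4534 = n6549 := rfl
theorem F29992 : act 0 n6549 = n6549 := d5_1 D6549 (iv D6549) F21239
theorem F29993 : act 1 n6549 = n6549 := d13_1 D6549 (iv D6549) F21240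
theorem F29994 : act 3 n6549 = n6549 := d26_1 D6549 (iv D6549) F21241
theorem F29995 : act 4 n6549 = n6549 := d31_1 D6549 (iv D6549) F21242
theorem F29996 : act 5 n6549 = n6549 := d35_1 D6549 (iv D6549) (iv D4534) F15075 D4534
theorem F29997 : act 8 n6549 = n4539 := d40_2 (iv F21244) D6549 (iv D4539)
theorem F29998 : act 9 n6549 = n6549 := d41_2 F21245 D6549 (iv D6549)
def n6550 : Q := act 4 n4535
theorem D6550 : act 4 n4535 = n6550 := rfl
theorem F29999 : act 0 n6550 = n4536 := d3_1 D6550 (iv D4536) D4535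
theorem F30000 : act 1 n6550 = n6550 := d11_1 D6550 (iv D6550) F21246
theorem F30001 : act 2 n6550 = n6550 := d18_1 D6550 (iv D6550) F21247
theorem F30002 : act 6 n6550 = n6550 := d31_2 F21250 D6550 (iv D6550)
theorem F30003 : act 7 n6550 = n4552 := d32_2 (iv F21251) D6550 (iv D4552)
theorem F30004 : act 9 n6550 = n4540 := d34_2 (iv F21252) D6550 (iv D4540)
def n6551 : Q := act 3 n4536
theorem D6551 : act 3 n4536 = n6551 := rfl
theorem F30005 : act 1 n6551 = n4537 := d10_1 D6551 (iv D4537) (iv F21253)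
theorem F30006 : act 4 n6551 = n4772 := d24_2 D4536 D6551 (iv D4772) (iv D3303) (iv F15080)
theorem F30007 : act 6 n6551 = n6551 := d26_2 F21255 D6551 (iv D6551)
theorem F30008 : act 7 n6551 = n4553 := d27_2 (iv F21256) D6551 (iv D4553)
theorem F30009 : act 9 n6551 = n4541 := d29_2 (iv F21257) D6551 (iv D4541)
def n6552 : Q := act 5 n4536
theorem D6552 : act 5 n4536 = n6552 := rfl
theorem F30010 : act 1 n6552 = n4538 := d12_1 D6552 (iv D4538) (iv F21253)
theorem F30011 : act 2 n6552 = n6552 := d19_1 D6552 (iv D6552) F21254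
theorem F30012 : act 4 n6552 = n6552 := d30_1 D6552 (iv D6552) (iv D4536) F15081 D4536
theorem F30013 : act 7 n6552 = n4554 := d36_2 (iv F21256) D6552 (iv D4554)
theorem F30014 : act 9 n6552 = n4542 := d38_2 (iv F21257) D6552 (iv D4542)
def n6553 : Q := act 5 n4537
theorem D6553 : act 5 n4537 = n6553 := rfl
theorem F30015 : act 0 n6553 = n6553 := d4_1 D6553 (iv D6553) F21258
theorem F30016 : act 3 n6553 = n4538 := d25_1 D6553 (iv D4538) D4537
theorem F30017 : act 7 n6553 = n4555 := d36_2 (iv F21261) D6553 (iv D4555)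
theorem F30018 : act 9 n6553 = n4543 := d38_2 (iv F21262) D6553 (iv D4543)
def n6554 : Q := act 8 n4537
theorem D6554 : act 8 n4537 = n6554 := rfl
theorem F30019 : act 0 n6554 = n6554 := d7_1 D6554 (iv D6554) F21258
theorem F30020 : act 4 n6554 = n4775 := d33_1 D6554 (iv D4775) (iv F21259)
theorem F30021 : act 6 n6554 = n6554 := d40_1 D6554 (iv D6554) F21260
theorem F30022 : act 7 n6554 = n4556 := d42_1 D6554 (iv D4556) (iv F21261)
def n6555 : Q := act 6 n4538
theorem D6555 : act 6 n4538 = n6555 := rfl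
theorem F30023 : act 0 n6555 = n6555 := d5_1 D6555 (iv D6555) F21263
theorem F30024 : act 2 n6555 = n4539 := d20_1 D6555 (iv D4539) (iv F21264)
theorem F30025 : act 4 n6555 = n6555 := d31_1 D6555 (iv D6555) F21265
theorem F30026 : act 5 n6555 = n6555 := d35_1 D6555 (iv D6555) (iv D4538) F15087 D4538
theorem F30027 : act 9 n6555 = n4545 := d41_2 (iv F21267) D6555 (iv D4545)
def n6556 : Q := act 7 n4539
theorem D6556 : act 7 n4539 = n6556 := rfl
theorem F30028 : act 0 n6556 = n6556 := d6_1 D6556 (iv D6556) F21268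
theorem F30029 : act 1 n6556 = n6556 := d14_1 D6556 (iv D6556) F21269
theorem F30030 : act 4 n6556 = n6556 := d32_1 D6556 (iv D6556) F21270
theorem F30031 : act 5 n6556 = n6556 := d36_1 D6556 (iv D6556) F21271
theorem F30032 : act 6 n6556 = n4558 := d39_1 D6556 (iv D4558) (iv D3160) (iv F15093) D4539
theorem F30033 : act 9 n6556 = n4546 := d43_2 (iv F21272) D6556 (iv D4546)
def n6557 : Q := act 3 n4540
theorem D6557 : act 3 n4540 = n6557 := rfl
theorem F30034 : act 0 n6557 = n4541 := d2_1 D6557 (iv D4541) (iv F21273)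
theorem F30035 : act 1 n6557 = n6557 := d10_1 D6557 (iv D6557) F21274
theorem F30036 : act 4 n6557 = n4778 := d24_2 D4540 D6557 (iv D4778) (iv D3307) (iv F15097)
theorem F30037 : act 6 n6557 = n6557 := d26_2 F21276 D6557 (iv D6557)
theorem F30038 : act 7 n6557 = n4559 := d27_2 (iv F21277) D6557 (iv D4559)
def n6558 : Q := act 5 n4540
theorem D6558 : act 5 n4540 = n6558 := rfl
theorem F30039 : act 0 n6558 = n4542 := d4_1 D6558 (iv D4542) (iv F21273)
theorem F30040 : act 1 n6558 = n6558 := d12_1 D6558 (iv D6558) F21274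
theorem F30041 : act 2 n6558 = n6558 := d19_1 D6558 (iv D6558) F21275
theorem F30042 : act 4 n6558 = n6558 := d30_1 D6558 (iv D6558) (iv D4540) F15098 D4540
theorem F30043 : act 7 n6558 = n4560 := d36_2 (iv F21277) D6558 (iv D4560)
theorem F30044 : act 8 n6558 = n6558 := d37_2 F21278 D6558 (iv D6558)
def n6559 : Q := act 2 n4541
theorem D6559 : act 2 n4541 = n6559 := rfl
theorem F30045 : act 3 n6559 = n6559 := d17_2 D4541 D6559 (iv D6559) (iv D4541) F15103
theorem F30046 : act 4 n6559 = n4780 := d18_2 (iv F21280) D6559 (iv D4780)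
theorem F30047 : act 6 n6559 = n6559 := d20_2 F21281 D6559 (iv D6559)
theorem F30048 : act 7 n6559 = n4561 := d21_2 (iv F21282) D6559 (iv D4561)
def n6560 : Q := act 5 n4541
theorem D6560 : act 5 n4541 = n6560 := rfl
theorem F30049 : act 1 n6560 = n4543 := d12_1 D6560 (iv D4543) (iv F21279)
theorem F30050 : act 3 n6560 = n4542 := d25_1 D6560 (iv D4542) D4541
theorem F30051 : act 7 n6560 = n4562 := d36_2 (iv F21282) D6560 (iv D4562)
def n6561 : Q := act 8 n4541
theorem D6561 : act 8 n4541 = n6561 := rfl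
theorem F30052 : act 1 n6561 = n4544 := d15_1 D6561 (iv D4544) (iv F21279)
theorem F30053 : act 3 n6561 = n6561 := d28_1 D6561 (iv D6561) (iv D4541) F15106 D4541
theorem F30054 : act 4 n6561 = n4782 := d33_1 D6561 (iv D4782) (iv F21280)
theorem F30055 : act 6 n6561 = n6561 := d40_1 D6561 (iv D6561) F21281
theorem F30056 : act 7 n6561 = n4563 := d42_1 D6561 (iv D4563) (iv F21282)
def n6562 : Q := act 6 n4542
theorem D6562 : act 6 n4542 = n6562 := rfl
theorem F30057 : act 1 n6562 = n4545 := d13_1 D6562 (iv D4545) (iv F21283)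
theorem F30058 : act 2 n6562 = n6562 := d20_1 D6562 (iv D6562) F21284
theorem F30059 : act 4 n6562 = n6562 := d31_1 D6562 (iv D6562) F21285
theorem F30060 : act 5 n6562 = n6562 := d35_1 D6562 (iv D6562) (iv D4542) F15104 D4542
theorem F30061 : act 8 n6562 = n6562 := d40_2 F21287 D6562 (iv D6562)
def n6563 : Q := act 4 n4543
theorem D6563 : act 4 n4543 = n6563 := rfl
theorem F30062 : act 0 n6563 = n6563 := d3_1 D6563 (iv D6563) F21288
theorem F30063 : act 3 n6563 = n6563 := d24_1 D6563 (iv D6563) F21289 F15113 (iv F21289)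
theorem F30064 : act 5 n6563 = n4784 := d30_2 D4543 D6563 (iv D4784) (iv D3310) (iv F15108)
theorem F30065 : act 7 n6563 = n4565 := d32_2 (iv F21290) D6563 (iv D4565)
def n6564 : Q := act 6 n4543
theorem D6564 : act 6 n4543 = n6564 := rfl
theorem F30066 : act 0 n6564 = n6564 := d5_1 D6564 (iv D6564) F21288
theorem F30067 : act 3 n6564 = n4545 := d26_1 D6564 (iv D4545) (iv F21289)
theorem F30068 : act 5 n6564 = n6564 := d35_1 D6564 (iv D6564) (iv D4543) F15109 D4543
def n6565 : Q := act 8 n4543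
theorem D6565 : act 8 n4543 = n6565 := rfl
theorem F30069 : act 0 n6565 = n6565 := d7_1 D6565 (iv D6565) F21288
theorem F30070 : act 3 n6565 = n6565 := d28_1 D6565 (iv D6565) F21289 F15115 (iv F21289)
theorem F30071 : act 5 n6565 = n4544 := d37_1 D6565 (iv D4544) D4543
theorem F30072 : act 7 n6565 = n4567 := d42_1 D6565 (iv D4567) (iv F21290)
def n6566 : Q := act 9 n4544
theorem D6566 : act 9 n4544 = n6566 := rfl
theorem F30073 : act 0 n6566 = n6566 := d8_1 D6566 (iv D6566) F21291
theorem F30074 : act 3 n6566 = n6566 := d29_1 D6566 (iv D6566) F21292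
theorem F30075 : act 4 n6566 = n4787 := d34_1 D6566 (iv D4787) (iv F21293)
theorem F30076 : act 6 n6566 = n6566 := d41_1 D6566 (iv D6566) F21294
theorem F30077 : act 7 n6566 = n4568 := d43_1 D6566 (iv D4568) (iv F21295)
def n6567 : Q := act 7 n4545
theorem D6567 : act 7 n4545 = n6567 := rfl
theorem F30078 : act 0 n6567 = n6567 := d6_1 D6567 (iv D6567) F21296
theorem F30079 : act 2 n6567 = n4546 := d21_1 D6567 (iv D4546) (iv F21297)
theorem F30080 : act 4 n6567 = n6567 := d32_1 D6567 (iv D6567) F21298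
theorem F30081 : act 5 n6567 = n6567 := d36_1 D6567 (iv D6567) F21299
theorem F30082 : act 6 n6567 = n4569 := d39_1 D6567 (iv D4569) (iv D3166) (iv F15114) D4545
theorem F30083 : act 8 n6567 = n6567 := d42_2 F21300 D6567 (iv D6567)
def n6568 : Q := act 4 n4547
theorem D6568 : act 4 n4547 = n6568 := rfl
theorem F30084 : act 0 n6568 = n4548 := d3_1 D6568 (iv D4548) D4547
theorem F30085 : act 1 n6568 = n6568 := d11_1 D6568 (iv D6568) F21307
theorem F30086 : act 2 n6568 = n6568 := d18_1 D6568 (iv D6568) F21308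
theorem F30087 : act 6 n6568 = n4570 := d31_2 (iv F21311) D6568 (iv D4570)
theorem F30088 : act 8 n6568 = n4552 := d33_2 (iv F21312) D6568 (iv D4552)
theorem F30089 : act 9 n6568 = n6568 := d34_2 F21313 D6568 (iv D6568)
def n6569 : Q := act 3 n4548
theorem D6569 : act 3 n4548 = n6569 := rfl
theorem F30090 : act 1 n6569 = n4549 := d10_1 D6569 (iv D4549) (iv F21314)
theorem F30091 : act 4 n6569 = n6569 := d24_2 D4548 D6569 (iv D6569) (iv D4548) F15122
theorem F30092 : act 6 n6569 = n4571 := d26_2 (iv F21316) D6569 (iv D4571)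
theorem F30093 : act 9 n6569 = n6569 := d29_2 F21318 D6569 (iv D6569)
def n6570 : Q := act 5 n4548
theorem D6570 : act 5 n4548 = n6570 := rfl
theorem F30094 : act 1 n6570 = n4550 := d12_1 D6570 (iv D4550) (iv F21314)
theorem F30095 : act 2 n6570 = n6570 := d19_1 D6570 (iv D6570) F21315
theorem F30096 : act 4 n6570 = n6570 := d30_1 D6570 (iv D6570) (iv D4548) F15123 D4548
theorem F30097 : act 8 n6570 = n4554 := d37_2 (iv F21317) D6570 (iv D4554)
theorem F30098 : act 9 n6570 = n6570 := d38_2 F21318 D6570 (iv D6570)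
def n6571 : Q := act 5 n4549
theorem D6571 : act 5 n4549 = n6571 := rfl
theorem F30099 : act 0 n6571 = n6571 := d4_1 D6571 (iv D6571) F21319
theorem F30100 : act 2 n6571 = n6571 := d19_1 D6571 (iv D6571) F21320
theorem F30101 : act 3 n6571 = n4550 := d25_1 D6571 (iv D4550) D4549
theorem F30102 : act 9 n6571 = n6571 := d38_2 F21323 D6571 (iv D6571)
def n6572 : Q := act 8 n4549
theorem D6572 : act 8 n4549 = n6572 := rfl
theorem F30103 : act 0 n6572 = n6572 := d7_1 D6572 (iv D6572) F21319
theorem F30104 : act 2 n6572 = n6572 := d22_1 D6572 (iv D6572) F21320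
theorem F30105 : act 3 n6572 = n4556 := d28_1 D6572 (iv D4556) (iv D3158) (iv F15130) D4549
theorem F30106 : act 4 n6572 = n6572 := d33_1 D6572 (iv D6572) F21321
theorem F30107 : act 6 n6572 = n4574 := d40_1 D6572 (iv D4574) (iv F21322)
def n6573 : Q := act 6 n4550
theorem D6573 : act 6 n4550 = n6573 := rfl
theorem F30108 : act 0 n6573 = n6573 := d5_1 D6573 (iv D6573) F21324
theorem F30109 : act 2 n6573 = n4551 := d20_1 D6573 (iv D4551) (iv F21325)
theorem F30110 : act 4 n6573 = n6573 := d31_1 D6573 (iv D6573) F21326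
theorem F30111 : act 5 n6573 = n4575 := d35_1 D6573 (iv D4575) (iv D3171) (iv F15129) D4550
theorem F30112 : act 8 n6573 = n4557 := d40_2 (iv F21327) D6573 (iv D4557)
theorem F30113 : act 9 n6573 = n6573 := d41_2 F21328 D6573 (iv D6573)
def n6574 : Q := act 7 n4551
theorem D6574 : act 7 n4551 = n6574 := rfl
theorem F30114 : act 0 n6574 = n6574 := d6_1 D6574 (iv D6574) F21329
theorem F30115 : act 1 n6574 = n6574 := d14_1 D6574 (iv D6574) F21330
theorem F30116 : act 3 n6574 = n6574 := d27_1 D6574 (iv D6574) F21331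
theorem F30117 : act 4 n6574 = n6574 := d32_1 D6574 (iv D6574) F21332
theorem F30118 : act 5 n6574 = n4576 := d36_1 D6574 (iv D4576) (iv F21333)
theorem F30119 : act 8 n6574 = n4558 := d42_2 (iv F21334) D6574 (iv D4558)
theorem F30120 : act 9 n6574 = n6574 := d43_2 F21335 D6574 (iv D6574)
def n6575 : Q := act 3 n4552
theorem D6575 : act 3 n4552 = n6575 := rfl
theorem F30121 : act 0 n6575 = n4553 := d2_1 D6575 (iv D4553) (iv F21336)
theorem F30122 : act 1 n6575 = n6575 := d10_1 D6575 (iv D6575) F21337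
theorem F30123 : act 4 n6575 = n4789 := d24_2 D4552 D6575 (iv D4789) (iv D3314) (iv F15140)
theorem F30124 : act 6 n6575 = n4577 := d26_2 (iv F21339) D6575 (iv D4577)
theorem F30125 : act 9 n6575 = n4559 := d29_2 (iv F21340) D6575 (iv D4559)
def n6576 : Q := act 5 n4552
theorem D6576 : act 5 n4552 = n6576 := rfl
theorem F30126 : act 0 n6576 = n4554 := d4_1 D6576 (iv D4554) (iv F21336)
theorem F30127 : act 1 n6576 = n6576 := d12_1 D6576 (iv D6576) F21337
theorem F30128 : act 2 n6576 = n6576 := d19_1 D6576 (iv D6576) F21338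
theorem F30129 : act 4 n6576 = n6576 := d30_1 D6576 (iv D6576) (iv D4552) F15141 D4552
theorem F30130 : act 9 n6576 = n4560 := d38_2 (iv F21340) D6576 (iv D4560)
def n6577 : Q := act 2 n4553
theorem D6577 : act 2 n4553 = n6577 := rfl
theorem F30131 : act 3 n6577 = n6577 := d17_2 D4553 D6577 (iv D6577) (iv D4553) F15145
theorem F30132 : act 4 n6577 = n4791 := d18_2 (iv F21342) D6577 (iv D4791)
theorem F30133 : act 6 n6577 = n4579 := d20_2 (iv F21343) D6577 (iv D4579)
theorem F30134 : act 9 n6577 = n4561 := d23_2 (iv F21344) D6577 (iv D4561)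
def n6578 : Q := act 5 n4553
theorem D6578 : act 5 n4553 = n6578 := rfl
theorem F30135 : act 1 n6578 = n4555 := d12_1 D6578 (iv D4555) (iv F21341)
theorem F30136 : act 3 n6578 = n4554 := d25_1 D6578 (iv D4554) D4553
theorem F30137 : act 9 n6578 = n4562 := d38_2 (iv F21344) D6578 (iv D4562)
def n6579 : Q := act 8 n4553
theorem D6579 : act 8 n4553 = n6579 := rfl
theorem F30138 : act 1 n6579 = n4556 := d15_1 D6579 (iv D4556) (iv F21341)
theorem F30139 : act 4 n6579 = n4793 := d33_1 D6579 (iv D4793) (iv F21342)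
theorem F30140 : act 6 n6579 = n4581 := d40_1 D6579 (iv D4581) (iv F21343)
def n6580 : Q := act 6 n4554
theorem D6580 : act 6 n4554 = n6580 := rfl
theorem F30141 : act 1 n6580 = n4557 := d13_1 D6580 (iv D4557) (iv F21345)
theorem F30142 : act 2 n6580 = n6580 := d20_1 D6580 (iv D6580) F21346
theorem F30143 : act 4 n6580 = n6580 := d31_1 D6580 (iv D6580) F21347
theorem F30144 : act 5 n6580 = n4582 := d35_1 D6580 (iv D4582) (iv D3175) (iv F15146) D4554
theorem F30145 : act 9 n6580 = n4564 := d41_2 (iv F21348) D6580 (iv D4564)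
def n6581 : Q := act 4 n4555
theorem D6581 : act 4 n4555 = n6581 := rfl
theorem F30146 : act 0 n6581 = n6581 := d3_1 D6581 (iv D6581) F21349
theorem F30147 : act 3 n6581 = n6581 := d24_1 D6581 (iv D6581) F21350 F15154 (iv F21350)
theorem F30148 : act 5 n6581 = n4795 := d30_2 D4555 D6581 (iv D4795) (iv D3317) (iv F15149)
theorem F30149 : act 9 n6581 = n4565 := d34_2 (iv F21351) D6581 (iv D4565)
def n6582 : Q := act 6 n4555
theorem D6582 : act 6 n4555 = n6582 := rfl
theorem F30150 : act 0 n6582 = n6582 := d5_1 D6582 (iv D6582) F21349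
theorem F30151 : act 3 n6582 = n4557 := d26_1 D6582 (iv D4557) (iv F21350)
theorem F30152 : act 5 n6582 = n4584 := d35_1 D6582 (iv D4584) (iv D3176) (iv F15150) D4555
theorem F30153 : act 9 n6582 = n4566 := d41_2 (iv F21351) D6582 (iv D4566)
def n6583 : Q := act 8 n4555
theorem D6583 : act 8 n4555 = n6583 := rfl
theorem F30154 : act 0 n6583 = n6583 := d7_1 D6583 (iv D6583) F21349
theorem F30155 : act 5 n6583 = n4556 := d37_1 D6583 (iv D4556) D4555
def n6584 : Q := act 9 n4556
theorem D6584 : act 9 n4556 = n6584 := rfl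
theorem F30156 : act 0 n6584 = n6584 := d8_1 D6584 (iv D6584) F21352
theorem F30157 : act 4 n6584 = n4798 := d34_1 D6584 (iv D4798) (iv F21353)
theorem F30158 : act 6 n6584 = n4586 := d41_1 D6584 (iv D4586) (iv F21354)
theorem F30159 : act 8 n6584 = n4568 := d44_1 D6584 (iv D4568) (iv D3165) (iv F15151) D4556
def n6585 : Q := act 7 n4557
theorem D6585 : act 7 n4557 = n6585 := rfl
theorem F30160 : act 0 n6585 = n6585 := d6_1 D6585 (iv D6585) F21355
theorem F30161 : act 2 n6585 = n4558 := d21_1 D6585 (iv D4558) (iv F21356)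
theorem F30162 : act 4 n6585 = n6585 := d32_1 D6585 (iv D6585) F21357
theorem F30163 : act 5 n6585 = n4587 := d36_1 D6585 (iv D4587) (iv F21358)
theorem F30164 : act 9 n6585 = n4569 := d43_2 (iv F21359) D6585 (iv D4569)
def n6586 : Q := act 2 n4559
theorem D6586 : act 2 n4559 = n6586 := rfl
theorem F30165 : act 0 n6586 = n4561 := d1_1 D6586 (iv D4561) (iv F21365)
theorem F30166 : act 3 n6586 = n6586 := d17_2 D4559 D6586 (iv D6586) (iv D4559) F15163
theorem F30167 : act 4 n6586 = n4800 := d18_2 (iv F21367) D6586 (iv D4800)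
theorem F30168 : act 6 n6586 = n4588 := d20_2 (iv F21368) D6586 (iv D4588)
def n6587 : Q := act 5 n4559
theorem D6587 : act 5 n4559 = n6587 := rfl
theorem F30169 : act 0 n6587 = n4562 := d4_1 D6587 (iv D4562) (iv F21365)
theorem F30170 : act 1 n6587 = n6587 := d12_1 D6587 (iv D6587) F21366
theorem F30171 : act 3 n6587 = n4560 := d25_1 D6587 (iv D4560) D4559
def n6588 : Q := act 8 n4559
theorem D6588 : act 8 n4559 = n6588 := rfl
theorem F30172 : act 0 n6588 = n4563 := d7_1 D6588 (iv D4563) (iv F21365)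
theorem F30173 : act 1 n6588 = n6588 := d15_1 D6588 (iv D6588) F21366
theorem F30174 : act 3 n6588 = n6588 := d28_1 D6588 (iv D6588) (iv D4559) F15165 D4559
theorem F30175 : act 4 n6588 = n4802 := d33_1 D6588 (iv D4802) (iv F21367)
theorem F30176 : act 6 n6588 = n4590 := d40_1 D6588 (iv D4590) (iv F21368)
def n6589 : Q := act 6 n4560
theorem D6589 : act 6 n4560 = n6589 := rfl
theorem F30177 : act 0 n6589 = n4564 := d5_1 D6589 (iv D4564) (iv F21369)
theorem F30178 : act 1 n6589 = n6589 := d13_1 D6589 (iv D6589) F21370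
theorem F30179 : act 2 n6589 = n6589 := d20_1 D6589 (iv D6589) F21371
theorem F30180 : act 4 n6589 = n6589 := d31_1 D6589 (iv D6589) F21372
theorem F30181 : act 5 n6589 = n4591 := d35_1 D6589 (iv D4591) (iv D3181) (iv F15164) D4560
theorem F30182 : act 8 n6589 = n6589 := d40_2 F21373 D6589 (iv D6589)
def n6590 : Q := act 5 n4561
theorem D6590 : act 5 n4561 = n6590 := rfl
theorem F30183 : act 2 n6590 = n4562 := d19_1 D6590 (iv D4562) D4561
theorem F30184 : act 3 n6590 = n6590 := d25_1 D6590 (iv D6590) F21374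
def n6591 : Q := act 8 n4561
theorem D6591 : act 8 n4561 = n6591 := rfl
theorem F30185 : act 2 n6591 = n4563 := d22_1 D6591 (iv D4563) D4561
theorem F30186 : act 4 n6591 = n4805 := d33_1 D6591 (iv D4805) (iv F21375)
theorem F30187 : act 6 n6591 = n4593 := d40_1 D6591 (iv D4593) (iv F21376)
def n6592 : Q := act 4 n4562
theorem D6592 : act 4 n4562 = n6592 := rfl
theorem F30188 : act 1 n6592 = n4565 := d11_1 D6592 (iv D4565) (iv F21377)
theorem F30189 : act 3 n6592 = n6592 := d24_1 D6592 (iv D6592) F21378 F15171 (iv F21378)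
theorem F30190 : act 5 n6592 = n4806 := d30_2 D4562 D6592 (iv D4806) (iv D3324) (iv F15167)
def n6593 : Q := act 6 n4562
theorem D6593 : act 6 n4562 = n6593 := rfl
theorem F30191 : act 1 n6593 = n4566 := d13_1 D6593 (iv D4566) (iv F21377)
theorem F30192 : act 3 n6593 = n4564 := d26_1 D6593 (iv D4564) (iv F21378)
theorem F30193 : act 5 n6593 = n4595 := d35_1 D6593 (iv D4595) (iv D3183) (iv F15168) D4562
def n6594 : Q := act 8 n4562
theorem D6594 : act 8 n4562 = n6594 := rfl
theorem F30194 : act 1 n6594 = n4567 := d15_1 D6594 (iv D4567) (iv F21377)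
theorem F30195 : act 3 n6594 = n6594 := d28_1 D6594 (iv D6594) F21378 F15172 (iv F21378)
theorem F30196 : act 5 n6594 = n4563 := d37_1 D6594 (iv D4563) D4562
def n6595 : Q := act 9 n4563
theorem D6595 : act 9 n4563 = n6595 := rfl
theorem F30197 : act 1 n6595 = n4568 := d16_1 D6595 (iv D4568) (iv F21379)
theorem F30198 : act 3 n6595 = n6595 := d29_1 D6595 (iv D6595) F21380
theorem F30199 : act 4 n6595 = n4809 := d34_1 D6595 (iv D4809) (iv F21381)
theorem F30200 : act 6 n6595 = n4597 := d41_1 D6595 (iv D4597) (iv F21382)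
def n6596 : Q := act 7 n4564
theorem D6596 : act 7 n4564 = n6596 := rfl
theorem F30201 : act 1 n6596 = n4569 := d14_1 D6596 (iv D4569) (iv F21383)
theorem F30202 : act 2 n6596 = n6596 := d21_1 D6596 (iv D6596) F21384
theorem F30203 : act 4 n6596 = n6596 := d32_1 D6596 (iv D6596) F21385
theorem F30204 : act 5 n6596 = n4598 := d36_1 D6596 (iv D4598) (iv F21386)
theorem F30205 : act 8 n6596 = n6596 := d42_2 F21387 D6596 (iv D6596)
def n6597 : Q := act 6 n4565
theorem D6597 : act 6 n4565 = n6597 := rfl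
theorem F30206 : act 0 n6597 = n6597 := d5_1 D6597 (iv D6597) F21388
theorem F30207 : act 3 n6597 = n6597 := d26_1 D6597 (iv D6597) F21389
theorem F30208 : act 4 n6597 = n4566 := d31_1 D6597 (iv D4566) D4565
def n6598 : Q := act 8 n4565
theorem D6598 : act 8 n4565 = n6598 := rfl
theorem F30209 : act 0 n6598 = n6598 := d7_1 D6598 (iv D6598) F21388
theorem F30210 : act 4 n6598 = n4567 := d33_1 D6598 (iv D4567) D4565
theorem F30211 : act 5 n6598 = n4812 := d37_1 D6598 (iv D4812) (iv F21390)
def n6599 : Q := act 7 n4566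
theorem D6599 : act 7 n4566 = n6599 := rfl
theorem F30212 : act 0 n6599 = n6599 := d6_1 D6599 (iv D6599) F21391
theorem F30213 : act 3 n6599 = n4569 := d27_1 D6599 (iv D4569) (iv F21392)
theorem F30214 : act 5 n6599 = n4601 := d36_1 D6599 (iv D4601) (iv F21393)
def n6600 : Q := act 8 n4566
theorem D6600 : act 8 n4566 = n6600 := rfl
theorem F30215 : act 0 n6600 = n6600 := d7_1 D6600 (iv D6600) F21391
theorem F30216 : act 3 n6600 = n6600 := d28_1 D6600 (iv D6600) F21392 F15183 (iv F21392)
theorem F30217 : act 5 n6600 = n4602 := d37_1 D6600 (iv D4602) (iv F21393)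
theorem F30218 : act 6 n6600 = n4567 := d40_1 D6600 (iv D4567) D4566
def n6601 : Q := act 9 n4567
theorem D6601 : act 9 n4567 = n6601 := rfl
theorem F30219 : act 0 n6601 = n6601 := d8_1 D6601 (iv D6601) F21394
theorem F30220 : act 3 n6601 = n6601 := d29_1 D6601 (iv D6601) F21395
theorem F30221 : act 5 n6601 = n4568 := d38_1 D6601 (iv D4568) (iv F21396)
def n6602 : Q := act 3 n4570
theorem D6602 : act 3 n4570 = n6602 := rfl
theorem F30222 : act 0 n6602 = n4571 := d2_1 D6602 (iv D4571) (iv F21406)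
theorem F30223 : act 1 n6602 = n6602 := d10_1 D6602 (iv D6602) F21407
theorem F30224 : act 4 n6602 = n6602 := d24_2 D4570 D6602 (iv D6602) (iv D4570) F15191
theorem F30225 : act 7 n6602 = n6602 := d27_2 F21409 D6602 (iv D6602)
theorem F30226 : act 9 n6602 = n6602 := d29_2 F21411 D6602 (iv D6602)
def n6603 : Q := act 5 n4570
theorem D6603 : act 5 n4570 = n6603 := rfl
theorem F30227 : act 0 n6603 = n4572 := d4_1 D6603 (iv D4572) (iv F21406)
theorem F30228 : act 1 n6603 = n6603 := d12_1 D6603 (iv D6603) F21407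
theorem F30229 : act 2 n6603 = n6603 := d19_1 D6603 (iv D6603) F21408
theorem F30230 : act 4 n6603 = n4612 := d30_1 D6603 (iv D4612) (iv D3196) (iv F15192) D4570
theorem F30231 : act 7 n6603 = n6603 := d36_2 F21409 D6603 (iv D6603)
theorem F30232 : act 8 n6603 = n4578 := d37_2 (iv F21410) D6603 (iv D4578)
theorem F30233 : act 9 n6603 = n6603 := d38_2 F21411 D6603 (iv D6603)
def n6604 : Q := act 2 n4571
theorem D6604 : act 2 n4571 = n6604 := rfl
theorem F30234 : act 1 n6604 = n6604 := d9_1 D6604 (iv D6604) F21412 F15202 (iv F21412)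
theorem F30235 : act 3 n6604 = n6604 := d17_2 D4571 D6604 (iv D6604) (iv D4571) F15197
theorem F30236 : act 4 n6604 = n6604 := d18_2 F21413 D6604 (iv D6604)
theorem F30237 : act 7 n6604 = n6604 := d21_2 F21414 D6604 (iv D6604)
theorem F30238 : act 9 n6604 = n6604 := d23_2 F21415 D6604 (iv D6604)
def n6605 : Q := act 5 n4571
theorem D6605 : act 5 n4571 = n6605 := rfl
theorem F30239 : act 1 n6605 = n4573 := d12_1 D6605 (iv D4573) (iv F21412)
theorem F30240 : act 3 n6605 = n4572 := d25_1 D6605 (iv D4572) D4571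
theorem F30241 : act 7 n6605 = n6605 := d36_2 F21414 D6605 (iv D6605)
theorem F30242 : act 9 n6605 = n6605 := d38_2 F21415 D6605 (iv D6605)
def n6606 : Q := act 8 n4571
theorem D6606 : act 8 n4571 = n6606 := rfl
theorem F30243 : act 1 n6606 = n4574 := d15_1 D6606 (iv D4574) (iv F21412)
theorem F30244 : act 3 n6606 = n4581 := d28_1 D6606 (iv D4581) (iv D3174) (iv F15199) D4571
theorem F30245 : act 4 n6606 = n6606 := d33_1 D6606 (iv D6606) F21413
theorem F30246 : act 7 n6606 = n6606 := d42_1 D6606 (iv D6606) F21414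
def n6607 : Q := act 6 n4572
theorem D6607 : act 6 n4572 = n6607 := rfl
theorem F30247 : act 1 n6607 = n4575 := d13_1 D6607 (iv D4575) (iv F21416)
theorem F30248 : act 2 n6607 = n6607 := d20_1 D6607 (iv D6607) F21417
theorem F30249 : act 4 n6607 = n4616 := d31_1 D6607 (iv D4616) (iv F21418)
theorem F30250 : act 8 n6607 = n4582 := d40_2 (iv F21420) D6607 (iv D4582)
theorem F30251 : act 9 n6607 = n6607 := d41_2 F21421 D6607 (iv D6607)
def n6608 : Q := act 4 n4573
theorem D6608 : act 4 n4573 = n6608 := rfl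
theorem F30252 : act 0 n6608 = n6608 := d3_1 D6608 (iv D6608) F21422
theorem F30253 : act 2 n6608 = n6608 := d18_1 D6608 (iv D6608) F21423
theorem F30254 : act 3 n6608 = n4617 := d24_1 D6608 (iv D4617) F15342 (iv F15208) (iv F21424)
theorem F30255 : act 5 n6608 = n6608 := d30_2 D4573 D6608 (iv D6608) (iv D4573) F15203
theorem F30256 : act 7 n6608 = n6608 := d32_2 F21425 D6608 (iv D6608)
theorem F30257 : act 9 n6608 = n6608 := d34_2 F21426 D6608 (iv D6608)
def n6609 : Q := act 6 n4573
theorem D6609 : act 6 n4573 = n6609 := rfl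
theorem F30258 : act 0 n6609 = n6609 := d5_1 D6609 (iv D6609) F21422
theorem F30259 : act 2 n6609 = n6609 := d20_1 D6609 (iv D6609) F21423
theorem F30260 : act 3 n6609 = n4575 := d26_1 D6609 (iv D4575) (iv F21424)
theorem F30261 : act 9 n6609 = n6609 := d41_2 F21426 D6609 (iv D6609)
def n6610 : Q := act 8 n4573
theorem D6610 : act 8 n4573 = n6610 := rfl
theorem F30262 : act 0 n6610 = n6610 := d7_1 D6610 (iv D6610) F21422
theorem F30263 : act 2 n6610 = n6610 := d22_1 D6610 (iv D6610) F21423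
theorem F30264 : act 3 n6610 = n4585 := d28_1 D6610 (iv D4585) F15233 (iv F15210) (iv F21424)
theorem F30265 : act 5 n6610 = n4574 := d37_1 D6610 (iv D4574) D4573
theorem F30266 : act 7 n6610 = n6610 := d42_1 D6610 (iv D6610) F21425
def n6611 : Q := act 9 n4574
theorem D6611 : act 9 n4574 = n6611 := rfl
theorem F30267 : act 0 n6611 = n6611 := d8_1 D6611 (iv D6611) F21427
theorem F30268 : act 2 n6611 = n6611 := d23_1 D6611 (iv D6611) F21428
theorem F30269 : act 3 n6611 = n4586 := d29_1 D6611 (iv D4586) (iv F21429)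
theorem F30270 : act 4 n6611 = n6611 := d34_1 D6611 (iv D6611) F21430
theorem F30271 : act 7 n6611 = n6611 := d43_1 D6611 (iv D6611) F21431
theorem F30272 : act 8 n6611 = n6611 := d44_1 D6611 (iv D6611) (iv D4574) F15205 D4574
def n6612 : Q := act 7 n4575
theorem D6612 : act 7 n4575 = n6612 := rfl
theorem F30273 : act 0 n6612 = n6612 := d6_1 D6612 (iv D6612) F21432
theorem F30274 : act 2 n6612 = n4576 := d21_1 D6612 (iv D4576) (iv F21433)
theorem F30275 : act 4 n6612 = n4621 := d32_1 D6612 (iv D4621) (iv F21434)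
theorem F30276 : act 6 n6612 = n6612 := d39_1 D6612 (iv D6612) (iv D4575) F15209 D4575
theorem F30277 : act 8 n6612 = n4587 := d42_2 (iv F21435) D6612 (iv D4587)
theorem F30278 : act 9 n6612 = n6612 := d43_2 F21436 D6612 (iv D6612)
def n6613 : Q := act 2 n4577
theorem D6613 : act 2 n4577 = n6613 := rfl
theorem F30279 : act 0 n6613 = n4579 := d1_1 D6613 (iv D4579) (iv F21444)
theorem F30280 : act 3 n6613 = n6613 := d17_2 D4577 D6613 (iv D6613) (iv D4577) F15220
theorem F30281 : act 4 n6613 = n4816 := d18_2 (iv F21446) D6613 (iv D4816)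
theorem F30282 : act 7 n6613 = n6613 := d21_2 F21447 D6613 (iv D6613)
theorem F30283 : act 9 n6613 = n4588 := d23_2 (iv F21448) D6613 (iv D4588)
def n6614 : Q := act 5 n4577
theorem D6614 : act 5 n4577 = n6614 := rfl
theorem F30284 : act 0 n6614 = n4580 := d4_1 D6614 (iv D4580) (iv F21444)
theorem F30285 : act 1 n6614 = n6614 := d12_1 D6614 (iv D6614) F21445
theorem F30286 : act 3 n6614 = n4578 := d25_1 D6614 (iv D4578) D4577
theorem F30287 : act 7 n6614 = n6614 := d36_2 F21447 D6614 (iv D6614)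
theorem F30288 : act 9 n6614 = n4589 := d38_2 (iv F21448) D6614 (iv D4589)
def n6615 : Q := act 8 n4577
theorem D6615 : act 8 n4577 = n6615 := rfl
theorem F30289 : act 0 n6615 = n4581 := d7_1 D6615 (iv D4581) (iv F21444)
theorem F30290 : act 1 n6615 = n6615 := d15_1 D6615 (iv D6615) F21445
theorem F30291 : act 4 n6615 = n4818 := d33_1 D6615 (iv D4818) (iv F21446)
theorem F30292 : act 7 n6615 = n6615 := d42_1 D6615 (iv D6615) F21447
def n6616 : Q := act 6 n4578
theorem D6616 : act 6 n4578 = n6616 := rfl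
theorem F30293 : act 0 n6616 = n4582 := d5_1 D6616 (iv D4582) (iv F21449)
theorem F30294 : act 1 n6616 = n6616 := d13_1 D6616 (iv D6616) F21450
theorem F30295 : act 2 n6616 = n6616 := d20_1 D6616 (iv D6616) F21451
theorem F30296 : act 4 n6616 = n4625 := d31_1 D6616 (iv D4625) (iv F21452)
theorem F30297 : act 9 n6616 = n4591 := d41_2 (iv F21454) D6616 (iv D4591)
def n6617 : Q := act 5 n4579
theorem D6617 : act 5 n4579 = n6617 := rfl
theorem F30298 : act 2 n6617 = n4580 := d19_1 D6617 (iv D4580) D4579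
theorem F30299 : act 3 n6617 = n6617 := d25_1 D6617 (iv D6617) F21455
theorem F30300 : act 7 n6617 = n6617 := d36_2 F21457 D6617 (iv D6617)
theorem F30301 : act 9 n6617 = n4592 := d38_2 (iv F21458) D6617 (iv D4592)
def n6618 : Q := act 8 n4579
theorem D6618 : act 8 n4579 = n6618 := rfl
theorem F30302 : act 2 n6618 = n4581 := d22_1 D6618 (iv D4581) D4579
theorem F30303 : act 4 n6618 = n4821 := d33_1 D6618 (iv D4821) (iv F21456)
theorem F30304 : act 7 n6618 = n6618 := d42_1 D6618 (iv D6618) F21457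
def n6619 : Q := act 4 n4580
theorem D6619 : act 4 n4580 = n6619 := rfl
theorem F30305 : act 1 n6619 = n4583 := d11_1 D6619 (iv D4583) (iv F21459)
theorem F30306 : act 3 n6619 = n4628 := d24_1 D6619 (iv D4628) F15379 (iv F15229) (iv F21460)
theorem F30307 : act 5 n6619 = n4822 := d30_2 D4580 D6619 (iv D4822) (iv D3335) (iv F15224)
theorem F30308 : act 7 n6619 = n6619 := d32_2 F21461 D6619 (iv D6619)
theorem F30309 : act 9 n6619 = n4594 := d34_2 (iv F21462) D6619 (iv D4594)
def n6620 : Q := act 6 n4580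
theorem D6620 : act 6 n4580 = n6620 := rfl
theorem F30310 : act 1 n6620 = n4584 := d13_1 D6620 (iv D4584) (iv F21459)
theorem F30311 : act 3 n6620 = n4582 := d26_1 D6620 (iv D4582) (iv F21460)
theorem F30312 : act 9 n6620 = n4595 := d41_2 (iv F21462) D6620 (iv D4595)
def n6621 : Q := act 8 n4580
theorem D6621 : act 8 n4580 = n6621 := rfl
theorem F30313 : act 1 n6621 = n4585 := d15_1 D6621 (iv D4585) (iv F21459)
theorem F30314 : act 5 n6621 = n4581 := d37_1 D6621 (iv D4581) D4580
theorem F30315 : act 7 n6621 = n6621 := d42_1 D6621 (iv D6621) F21461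
def n6622 : Q := act 9 n4581
theorem D6622 : act 9 n4581 = n6622 := rfl
theorem F30316 : act 1 n6622 = n4586 := d16_1 D6622 (iv D4586) (iv F21463)
theorem F30317 : act 4 n6622 = n4825 := d34_1 D6622 (iv D4825) (iv F21464)
theorem F30318 : act 7 n6622 = n6622 := d43_1 D6622 (iv D6622) F21465
theorem F30319 : act 8 n6622 = n4597 := d44_1 D6622 (iv D4597) (iv D3184) (iv F15226) D4581
def n6623 : Q := act 7 n4582
theorem D6623 : act 7 n4582 = n6623 := rfl
theorem F30320 : act 1 n6623 = n4587 := d14_1 D6623 (iv D4587) (iv F21466)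
theorem F30321 : act 2 n6623 = n6623 := d21_1 D6623 (iv D6623) F21467
theorem F30322 : act 4 n6623 = n4632 := d32_1 D6623 (iv D4632) (iv F21468)
theorem F30323 : act 6 n6623 = n6623 := d39_1 D6623 (iv D6623) (iv D4582) F15230 D4582
theorem F30324 : act 9 n6623 = n4598 := d43_2 (iv F21469) D6623 (iv D4598)
def n6624 : Q := act 6 n4583
theorem D6624 : act 6 n4583 = n6624 := rfl
theorem F30325 : act 0 n6624 = n6624 := d5_1 D6624 (iv D6624) F21470
theorem F30326 : act 3 n6624 = n4633 := d26_1 D6624 (iv D4633) (iv F21471)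
theorem F30327 : act 4 n6624 = n4584 := d31_1 D6624 (iv D4584) D4583
theorem F30328 : act 9 n6624 = n4599 := d41_2 (iv F21474) D6624 (iv D4599)
def n6625 : Q := act 8 n4583
theorem D6625 : act 8 n4583 = n6625 := rfl
theorem F30329 : act 0 n6625 = n6625 := d7_1 D6625 (iv D6625) F21470
theorem F30330 : act 4 n6625 = n4585 := d33_1 D6625 (iv D4585) D4583
theorem F30331 : act 5 n6625 = n4828 := d37_1 D6625 (iv D4828) (iv F21472)
theorem F30332 : act 7 n6625 = n6625 := d42_1 D6625 (iv D6625) F21473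
def n6626 : Q := act 7 n4584
theorem D6626 : act 7 n4584 = n6626 := rfl
theorem F30333 : act 0 n6626 = n6626 := d6_1 D6626 (iv D6626) F21475
theorem F30334 : act 3 n6626 = n4587 := d27_1 D6626 (iv D4587) (iv F21476)
theorem F30335 : act 6 n6626 = n6626 := d39_1 D6626 (iv D6626) (iv D4584) F15234 D4584
theorem F30336 : act 9 n6626 = n4601 := d43_2 (iv F21477) D6626 (iv D4601)
def n6627 : Q := act 8 n4584
theorem D6627 : act 8 n4584 = n6627 := rfl
theorem F30337 : act 0 n6627 = n6627 := d7_1 D6627 (iv D6627) F21475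
theorem F30338 : act 6 n6627 = n4585 := d40_1 D6627 (iv D4585) D4584
def n6628 : Q := act 9 n4585
theorem D6628 : act 9 n4585 = n6628 := rfl
theorem F30339 : act 0 n6628 = n6628 := d8_1 D6628 (iv D6628) F21478
theorem F30340 : act 5 n6628 = n4586 := d38_1 D6628 (iv D4586) (iv F21479)
theorem F30341 : act 7 n6628 = n6628 := d43_1 D6628 (iv D6628) F21480
theorem F30342 : act 8 n6628 = n4603 := d44_1 D6628 (iv D4603) (iv D3188) (iv F15235) D4585
def n6629 : Q := act 1 n4588
theorem D6629 : act 1 n4588 = n6629 := rfl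
theorem F30343 : act 2 n6629 = n6629 := d9_2 D4588 D6629 (iv D6629) (iv D4588) F15249
theorem F30344 : act 3 n6629 = n6629 := d10_2 F21491 D6629 (iv D6629)
theorem F30345 : act 4 n6629 = n4832 := d11_2 (iv F21492) D6629 (iv D4832)
theorem F30346 : act 7 n6629 = n6629 := d14_2 F21493 D6629 (iv D6629)
def n6630 : Q := act 5 n4588
theorem D6630 : act 5 n4588 = n6630 := rfl
theorem F30347 : act 0 n6630 = n4592 := d4_1 D6630 (iv D4592) (iv F21490)
theorem F30348 : act 2 n6630 = n4589 := d19_1 D6630 (iv D4589) D4588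
theorem F30349 : act 3 n6630 = n6630 := d25_1 D6630 (iv D6630) F21491
theorem F30350 : act 7 n6630 = n6630 := d36_2 F21493 D6630 (iv D6630)
def n6631 : Q := act 8 n4588
theorem D6631 : act 8 n4588 = n6631 := rfl
theorem F30351 : act 0 n6631 = n4593 := d7_1 D6631 (iv D4593) (iv F21490)
theorem F30352 : act 2 n6631 = n4590 := d22_1 D6631 (iv D4590) D4588
theorem F30353 : act 4 n6631 = n4834 := d33_1 D6631 (iv D4834) (iv F21492)
theorem F30354 : act 7 n6631 = n6631 := d42_1 D6631 (iv D6631) F21493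
def n6632 : Q := act 4 n4589
theorem D6632 : act 4 n4589 = n6632 := rfl
theorem F30355 : act 0 n6632 = n4594 := d3_1 D6632 (iv D4594) (iv F21494)
theorem F30356 : act 1 n6632 = n6632 := d11_1 D6632 (iv D6632) F21495
theorem F30357 : act 3 n6632 = n4641 := d24_1 D6632 (iv D4641) F15422 (iv F15255) (iv F21496)
theorem F30358 : act 5 n6632 = n4835 := d30_2 D4589 D6632 (iv D4835) (iv D3344) (iv F15250)
theorem F30359 : act 7 n6632 = n6632 := d32_2 F21497 D6632 (iv D6632)
def n6633 : Q := act 6 n4589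
theorem D6633 : act 6 n4589 = n6633 := rfl
theorem F30360 : act 0 n6633 = n4595 := d5_1 D6633 (iv D4595) (iv F21494)
theorem F30361 : act 1 n6633 = n6633 := d13_1 D6633 (iv D6633) F21495
theorem F30362 : act 3 n6633 = n4591 := d26_1 D6633 (iv D4591) (iv F21496)
def n6634 : Q := act 8 n4589
theorem D6634 : act 8 n4589 = n6634 := rfl
theorem F30363 : act 0 n6634 = n4596 := d7_1 D6634 (iv D4596) (iv F21494)
theorem F30364 : act 1 n6634 = n6634 := d15_1 D6634 (iv D6634) F21495
theorem F30365 : act 3 n6634 = n6634 := d28_1 D6634 (iv D6634) F21496 F15257 (iv F21496)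
theorem F30366 : act 5 n6634 = n4590 := d37_1 D6634 (iv D4590) D4589
theorem F30367 : act 7 n6634 = n6634 := d42_1 D6634 (iv D6634) F21497
def n6635 : Q := act 9 n4590
theorem D6635 : act 9 n4590 = n6635 := rfl
theorem F30368 : act 0 n6635 = n4597 := d8_1 D6635 (iv D4597) (iv F21498)
theorem F30369 : act 1 n6635 = n6635 := d16_1 D6635 (iv D6635) F21499
theorem F30370 : act 3 n6635 = n6635 := d29_1 D6635 (iv D6635) F21500
theorem F30371 : act 4 n6635 = n4838 := d34_1 D6635 (iv D4838) (iv F21501)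
theorem F30372 : act 7 n6635 = n6635 := d43_1 D6635 (iv D6635) F21502
def n6636 : Q := act 7 n4591
theorem D6636 : act 7 n4591 = n6636 := rfl
theorem F30373 : act 0 n6636 = n4598 := d6_1 D6636 (iv D4598) (iv F21503)
theorem F30374 : act 1 n6636 = n6636 := d14_1 D6636 (iv D6636) F21504
theorem F30375 : act 2 n6636 = n6636 := d21_1 D6636 (iv D6636) F21505
theorem F30376 : act 4 n6636 = n4645 := d32_1 D6636 (iv D4645) (iv F21506)
theorem F30377 : act 6 n6636 = n6636 := d39_1 D6636 (iv D6636) (iv D4591) F15256 D4591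
theorem F30378 : act 8 n6636 = n6636 := d42_2 F21507 D6636 (iv D6636)
def n6637 : Q := act 4 n4592
theorem D6637 : act 4 n4592 = n6637 := rfl
theorem F30379 : act 2 n6637 = n4594 := d18_1 D6637 (iv D4594) (iv F21508)
theorem F30380 : act 5 n6637 = n4840 := d30_2 D4592 D6637 (iv D4840) (iv D3347) (iv F15259)
theorem F30381 : act 7 n6637 = n6637 := d32_2 F21510 D6637 (iv D6637)
def n6638 : Q := act 6 n4592
theorem D6638 : act 6 n4592 = n6638 := rfl
theorem F30382 : act 2 n6638 = n4595 := d20_1 D6638 (iv D4595) (iv F21508)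
theorem F30383 : act 3 n6638 = n6638 := d26_1 D6638 (iv D6638) F21509
def n6639 : Q := act 8 n4592
theorem D6639 : act 8 n4592 = n6639 := rfl
theorem F30384 : act 2 n6639 = n4596 := d22_1 D6639 (iv D4596) (iv F21508)
theorem F30385 : act 5 n6639 = n4593 := d37_1 D6639 (iv D4593) D4592
theorem F30386 : act 7 n6639 = n6639 := d42_1 D6639 (iv D6639) F21510
def n6640 : Q := act 3 n4593
theorem D6640 : act 3 n4593 = n6640 := rfl
theorem F30387 : act 2 n6640 = n6640 := d17_1 D6640 (iv D6640) F21511 F15265 (iv F21511)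
theorem F30388 : act 7 n6640 = n6640 := d27_2 F21513 D6640 (iv D6640)
theorem F30389 : act 8 n6640 = n6640 := d28_2 D4593 D6640 (iv D6640) (iv D4593) F15258
def n6641 : Q := act 9 n4593
theorem D6641 : act 9 n4593 = n6641 := rfl
theorem F30390 : act 2 n6641 = n4597 := d23_1 D6641 (iv D4597) (iv F21511)
theorem F30391 : act 4 n6641 = n4844 := d34_1 D6641 (iv D4844) (iv F21512)
theorem F30392 : act 7 n6641 = n6641 := d43_1 D6641 (iv D6641) F21513
def n6642 : Q := act 6 n4594
theorem D6642 : act 6 n4594 = n6642 := rfl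
theorem F30393 : act 1 n6642 = n4599 := d13_1 D6642 (iv D4599) (iv F21514)
theorem F30394 : act 3 n6642 = n4651 := d26_1 D6642 (iv D4651) (iv F21515)
theorem F30395 : act 4 n6642 = n4595 := d31_1 D6642 (iv D4595) D4594
def n6643 : Q := act 8 n4594
theorem D6643 : act 8 n4594 = n6643 := rfl
theorem F30396 : act 1 n6643 = n4600 := d15_1 D6643 (iv D4600) (iv F21514)
theorem F30397 : act 4 n6643 = n4596 := d33_1 D6643 (iv D4596) D4594
theorem F30398 : act 5 n6643 = n4846 := d37_1 D6643 (iv D4846) (iv F21516)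
theorem F30399 : act 7 n6643 = n6643 := d42_1 D6643 (iv D6643) F21517
def n6644 : Q := act 7 n4595
theorem D6644 : act 7 n4595 = n6644 := rfl
theorem F30400 : act 1 n6644 = n4601 := d14_1 D6644 (iv D4601) (iv F21518)
theorem F30401 : act 3 n6644 = n4598 := d27_1 D6644 (iv D4598) (iv F21519)
theorem F30402 : act 6 n6644 = n6644 := d39_1 D6644 (iv D6644) (iv D4595) F15263 D4595
def n6645 : Q := act 8 n4595
theorem D6645 : act 8 n4595 = n6645 := rfl
theorem F30403 : act 1 n6645 = n4602 := d15_1 D6645 (iv D4602) (iv F21518)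
theorem F30404 : act 3 n6645 = n6645 := d28_1 D6645 (iv D6645) F21519 F15271 (iv F21519)
theorem F30405 : act 6 n6645 = n4596 := d40_1 D6645 (iv D4596) D4595
def n6646 : Q := act 9 n4596
theorem D6646 : act 9 n4596 = n6646 := rfl
theorem F30406 : act 1 n6646 = n4603 := d16_1 D6646 (iv D4603) (iv F21520)
theorem F30407 : act 3 n6646 = n6646 := d29_1 D6646 (iv D6646) F21521
theorem F30408 : act 5 n6646 = n4597 := d38_1 D6646 (iv D4597) (iv F21522)
theorem F30409 : act 7 n6646 = n6646 := d43_1 D6646 (iv D6646) F21523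
def n6647 : Q := act 5 n4599
theorem D6647 : act 5 n4599 = n6647 := rfl
theorem F30410 : act 0 n6647 = n6647 := d4_1 D6647 (iv D6647) F21533
theorem F30411 : act 3 n6647 = n4656 := d25_1 D6647 (iv D4656) (iv F21534)
theorem F30412 : act 6 n6647 = n4850 := d35_2 D4599 D6647 (iv D4850) (iv D3354) (iv F15274)
def n6648 : Q := act 7 n4599
theorem D6648 : act 7 n4599 = n6648 := rfl
theorem F30413 : act 0 n6648 = n6648 := d6_1 D6648 (iv D6648) F21533
theorem F30414 : act 3 n6648 = n4657 := d27_1 D6648 (iv D4657) (iv F21534)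
theorem F30415 : act 4 n6648 = n4601 := d32_1 D6648 (iv D4601) (iv F21535)
theorem F30416 : act 6 n6648 = n6648 := d39_1 D6648 (iv D6648) (iv D4599) F15275 D4599
def n6649 : Q := act 8 n4599
theorem D6649 : act 8 n4599 = n6649 := rfl
theorem F30417 : act 0 n6649 = n6649 := d7_1 D6649 (iv D6649) F21533
theorem F30418 : act 4 n6649 = n4602 := d33_1 D6649 (iv D4602) (iv F21535)
theorem F30419 : act 6 n6649 = n4600 := d40_1 D6649 (iv D4600) D4599
def n6650 : Q := act 3 n4600
theorem D6650 : act 3 n4600 = n6650 := rfl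
theorem F30420 : act 0 n6650 = n6650 := d2_1 D6650 (iv D6650) F21536
theorem F30421 : act 4 n6650 = n6650 := d24_2 (iv F21537) D6650 (iv D6650) F21537 F15279
theorem F30422 : act 5 n6650 = n4853 := d25_2 (iv F21538) D6650 (iv D4853)
theorem F30423 : act 7 n6650 = n6650 := d27_2 F21539 D6650 (iv D6650)
theorem F30424 : act 8 n6650 = n4659 := d28_2 D4600 D6650 (iv D4659) (iv D3226) (iv F15273)
def n6651 : Q := act 9 n4600
theorem D6651 : act 9 n4600 = n6651 := rfl
theorem F30425 : act 0 n6651 = n6651 := d8_1 D6651 (iv D6651) F21536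
theorem F30426 : act 4 n6651 = n4603 := d34_1 D6651 (iv D4603) (iv F21537)
theorem F30427 : act 5 n6651 = n4854 := d38_1 D6651 (iv D4854) (iv F21538)
theorem F30428 : act 7 n6651 = n6651 := d43_1 D6651 (iv D6651) F21539
def n6652 : Q := act 8 n4601
theorem D6652 : act 8 n4601 = n6652 := rfl
theorem F30429 : act 0 n6652 = n6652 := d7_1 D6652 (iv D6652) F21540
theorem F30430 : act 3 n6652 = n6652 := d28_1 D6652 (iv D6652) F21541 F15290 (iv F21541)
theorem F30431 : act 6 n6652 = n6652 := d40_1 D6652 (iv D6652) F21542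
theorem F30432 : act 7 n6652 = n4602 := d42_1 D6652 (iv D4602) D4601
def n6653 : Q := act 9 n4602
theorem D6653 : act 9 n4602 = n6653 := rfl
theorem F30433 : act 0 n6653 = n6653 := d8_1 D6653 (iv D6653) F21543
theorem F30434 : act 3 n6653 = n6653 := d29_1 D6653 (iv D6653) F21544
theorem F30435 : act 6 n6653 = n4603 := d41_1 D6653 (iv D4603) (iv F21545)
def n6654 : Q := act 3 n4604
theorem D6654 : act 3 n4604 = n6654 := rfl
theorem F30436 : act 0 n6654 = n4605 := d2_1 D6654 (iv D4605) (iv F21550)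
theorem F30437 : act 1 n6654 = n6654 := d10_1 D6654 (iv D6654) F21551
theorem F30439 : act 6 n6654 = n6654 := d26_2 F21553 D6654 (iv D6654)
def n6656 : Q := act 2 n4605
theorem D6656 : act 2 n4605 = n6656 := rfl
theorem F30449 : act 1 n6656 = n4613 := d9_1 D6656 (iv D4613) F15331 (iv F15306) (iv F21557)
theorem F30452 : act 6 n6656 = n6656 := d20_2 F21559 D6656 (iv D6656)
def n6657 : Q := act 5 n4605
theorem D6657 : act 5 n4605 = n6657 := rfl
theorem F30455 : act 1 n6657 = n4607 := d12_1 D6657 (iv D4607) (iv F21557)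
theorem F30456 : act 3 n6657 = n4606 := d25_1 D6657 (iv D4606) D4605
def n6658 : Q := act 8 n4605
theorem D6658 : act 8 n4605 = n6658 := rfl
def n6659 : Q := act 6 n4606
theorem D6659 : act 6 n4606 = n6659 := rfl
theorem F30464 : act 1 n6659 = n4609 := d13_1 D6659 (iv D4609) (iv F21562)
theorem F30465 : act 2 n6659 = n6659 := d20_1 D6659 (iv D6659) F21563
theorem F30466 : act 4 n6659 = n6659 := d31_1 D6659 (iv D6659) F21564
theorem F30467 : act 5 n6659 = n6659 := d35_1 D6659 (iv D6659) (iv D4606) F15301 D4606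
theorem F30468 : act 8 n6659 = n6659 := d40_2 F21566 D6659 (iv D6659)
theorem F30469 : act 9 n6659 = n6659 := d41_2 F21567 D6659 (iv D6659)
def n6660 : Q := act 4 n4607
theorem D6660 : act 4 n4607 = n6660 := rfl
theorem F30470 : act 0 n6660 = n6660 := d3_1 D6660 (iv D6660) F21568
theorem F30471 : act 2 n6660 = n4617 := d18_1 D6660 (iv D4617) (iv F21569)
theorem F30472 : act 3 n6660 = n6660 := d24_1 D6660 (iv D6660) F21570 F15313 (iv F21570)
theorem F30473 : act 5 n6660 = n6660 := d30_2 D4607 D6660 (iv D6660) (iv D4607) F15307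
theorem F30474 : act 7 n6660 = n6660 := d32_2 F21571 D6660 (iv D6660)
theorem F30475 : act 9 n6660 = n6660 := d34_2 F21572 D6660 (iv D6660)
def n6661 : Q := act 6 n4607
theorem D6661 : act 6 n4607 = n6661 := rfl
theorem F30476 : act 0 n6661 = n6661 := d5_1 D6661 (iv D6661) F21568
theorem F30477 : act 2 n6661 = n4618 := d20_1 D6661 (iv D4618) (iv F21569)
theorem F30478 : act 3 n6661 = n4609 := d26_1 D6661 (iv D4609) (iv F21570)
theorem F30479 : act 5 n6661 = n6661 := d35_1 D6661 (iv D6661) (iv D4607) F15308 D4607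
theorem F30480 : act 9 n6661 = n6661 := d41_2 F21572 D6661 (iv D6661)
def n6662 : Q := act 8 n4607
theorem D6662 : act 8 n4607 = n6662 := rfl
def n6664 : Q := act 7 n4609
theorem D6664 : act 7 n4609 = n6664 := rfl
theorem F30493 : act 0 n6664 = n6664 := d6_1 D6664 (iv D6664) F21579
theorem F30494 : act 2 n6664 = n4610 := d21_1 D6664 (iv D4610) (iv F21580)
theorem F30495 : act 4 n6664 = n6664 := d32_1 D6664 (iv D6664) F21581
theorem F30496 : act 5 n6664 = n6664 := d36_1 D6664 (iv D6664) F21582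
theorem F30497 : act 6 n6664 = n6664 := d39_1 D6664 (iv D6664) (iv D4609) F15314 D4609
theorem F30498 : act 8 n6664 = n6664 := d42_2 F21583 D6664 (iv D6664)
theorem F30499 : act 9 n6664 = n6664 := d43_2 F21584 D6664 (iv D6664)
def n6665 : Q := act 2 n4611
theorem D6665 : act 2 n4611 = n6665 := rfl
theorem F30500 : act 0 n6665 = n4613 := d1_1 D6665 (iv D4613) (iv F21593)
theorem F30503 : act 6 n6665 = n6665 := d20_2 F21596 D6665 (iv D6665)
def n6666 : Q := act 5 n4611
theorem D6666 : act 5 n4611 = n6666 := rfl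
theorem F30506 : act 0 n6666 = n4614 := d4_1 D6666 (iv D4614) (iv F21593)
theorem F30508 : act 3 n6666 = n4612 := d25_1 D6666 (iv D4612) D4611
def n6668 : Q := act 6 n4612
theorem D6668 : act 6 n4612 = n6668 := rfl
theorem F30517 : act 0 n6668 = n4616 := d5_1 D6668 (iv D4616) (iv F21599)
theorem F30518 : act 1 n6668 = n6668 := d13_1 D6668 (iv D6668) F21600
theorem F30519 : act 2 n6668 = n6668 := d20_1 D6668 (iv D6668) F21601
theorem F30520 : act 5 n6668 = n6668 := d35_1 D6668 (iv D6668) (iv D4612) F15327 D4612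
theorem F30521 : act 8 n6668 = n4625 := d40_2 (iv F21603) D6668 (iv D4625)
theorem F30522 : act 9 n6668 = n6668 := d41_2 F21604 D6668 (iv D6668)
def n6669 : Q := act 5 n4613
theorem D6669 : act 5 n4613 = n6669 := rfl
theorem F30523 : act 2 n6669 = n4614 := d19_1 D6669 (iv D4614) D4613
def n6671 : Q := act 4 n4614
theorem D6671 : act 4 n4614 = n6671 := rfl
theorem F30531 : act 1 n6671 = n4617 := d11_1 D6671 (iv D4617) (iv F21610)
theorem F30532 : act 5 n6671 = n6671 := d30_2 D4614 D6671 (iv D6671) (iv D4614) F15332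
theorem F30533 : act 7 n6671 = n6671 := d32_2 F21612 D6671 (iv D6671)
theorem F30534 : act 9 n6671 = n6671 := d34_2 F21613 D6671 (iv D6671)
def n6672 : Q := act 6 n4614
theorem D6672 : act 6 n4614 = n6672 := rfl
theorem F30535 : act 1 n6672 = n4618 := d13_1 D6672 (iv D4618) (iv F21610)
theorem F30536 : act 3 n6672 = n4616 := d26_1 D6672 (iv D4616) (iv F21611)
theorem F30537 : act 5 n6672 = n6672 := d35_1 D6672 (iv D6672) (iv D4614) F15333 D4614
theorem F30538 : act 9 n6672 = n6672 := d41_2 F21613 D6672 (iv D6672)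
def n6673 : Q := act 8 n4614
theorem D6673 : act 8 n4614 = n6673 := rfl
theorem F30539 : act 1 n6673 = n4619 := d15_1 D6673 (iv D4619) (iv F21610)
theorem F30540 : act 3 n6673 = n4630 := d28_1 D6673 (iv D4630) F15379 (iv F15339) (iv F21611)
def n6675 : Q := act 7 n4616
theorem D6675 : act 7 n4616 = n6675 := rfl
theorem F30549 : act 1 n6675 = n4621 := d14_1 D6675 (iv D4621) (iv F21619)
theorem F30550 : act 2 n6675 = n6675 := d21_1 D6675 (iv D6675) F21620
theorem F30551 : act 5 n6675 = n6675 := d36_1 D6675 (iv D6675) F21621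
theorem F30552 : act 6 n6675 = n6675 := d39_1 D6675 (iv D6675) (iv D4616) F15338 D4616
theorem F30553 : act 8 n6675 = n4632 := d42_2 (iv F21622) D6675 (iv D4632)
theorem F30554 : act 9 n6675 = n6675 := d43_2 F21623 D6675 (iv D6675)
def n6676 : Q := act 6 n4617
theorem D6676 : act 6 n4617 = n6676 := rfl
theorem F30555 : act 0 n6676 = n6676 := d5_1 D6676 (iv D6676) F21624
theorem F30556 : act 4 n6676 = n4618 := d31_1 D6676 (iv D4618) D4617
theorem F30557 : act 9 n6676 = n6676 := d41_2 F21627 D6676 (iv D6676)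
def n6677 : Q := act 8 n4617
theorem D6677 : act 8 n4617 = n6677 := rfl
theorem F30558 : act 0 n6677 = n6677 := d7_1 D6677 (iv D6677) F21624
theorem F30559 : act 4 n6677 = n4619 := d33_1 D6677 (iv D4619) D4617
theorem F30560 : act 5 n6677 = n6677 := d37_1 D6677 (iv D6677) F21625
theorem F30561 : act 7 n6677 = n6677 := d42_1 D6677 (iv D6677) F21626
def n6678 : Q := act 7 n4618
theorem D6678 : act 7 n4618 = n6678 := rfl
theorem F30562 : act 0 n6678 = n6678 := d6_1 D6678 (iv D6678) F21628
theorem F30563 : act 3 n6678 = n4621 := d27_1 D6678 (iv D4621) (iv F21629)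
theorem F30564 : act 5 n6678 = n6678 := d36_1 D6678 (iv D6678) F21630
theorem F30565 : act 6 n6678 = n6678 := d39_1 D6678 (iv D6678) (iv D4618) F15343 D4618
theorem F30566 : act 9 n6678 = n6678 := d43_2 F21631 D6678 (iv D6678)
def n6679 : Q := act 8 n4618
theorem D6679 : act 8 n4618 = n6679 := rfl
theorem F30567 : act 0 n6679 = n6679 := d7_1 D6679 (iv D6679) F21628
theorem F30568 : act 3 n6679 = n4636 := d28_1 D6679 (iv D4636) F15397 (iv F15353) (iv F21629)
theorem F30569 : act 5 n6679 = n6679 := d37_1 D6679 (iv D6679) F21630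
theorem F30570 : act 6 n6679 = n4619 := d40_1 D6679 (iv D4619) D4618
def n6680 : Q := act 9 n4619
theorem D6680 : act 9 n4619 = n6680 := rfl
theorem F30572 : act 3 n6680 = n4637 := d29_1 D6680 (iv D4637) (iv F21633)
theorem F30573 : act 5 n6680 = n4620 := d38_1 D6680 (iv D4620) (iv F21634)
def n6681 : Q := act 1 n4622
theorem D6681 : act 1 n4622 = n6681 := rfl
theorem F30579 : act 4 n6681 = n4857 := d11_2 (iv F21650) D6681 (iv D4857)
def n6682 : Q := act 5 n4622
theorem D6682 : act 5 n4622 = n6682 := rfl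
theorem F30583 : act 0 n6682 = n4626 := d4_1 D6682 (iv D4626) (iv F21648)
theorem F30584 : act 2 n6682 = n4623 := d19_1 D6682 (iv D4623) D4622
theorem F30587 : act 9 n6682 = n4639 := d38_2 (iv F21653) D6682 (iv D4639)
def n6683 : Q := act 8 n4622
theorem D6683 : act 8 n4622 = n6683 := rfl
theorem F30590 : act 4 n6683 = n4859 := d33_1 D6683 (iv D4859) (iv F21650)
def n6684 : Q := act 4 n4623
theorem D6684 : act 4 n4623 = n6684 := rfl
theorem F30593 : act 0 n6684 = n4628 := d3_1 D6684 (iv D4628) (iv F21654)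
theorem F30594 : act 1 n6684 = n6684 := d11_1 D6684 (iv D6684) F21655
theorem F30595 : act 5 n6684 = n4860 := d30_2 D4623 D6684 (iv D4860) (iv D3360) (iv F15363)
theorem F30596 : act 7 n6684 = n6684 := d32_2 F21657 D6684 (iv D6684)
theorem F30597 : act 9 n6684 = n4641 := d34_2 (iv F21658) D6684 (iv D4641)
def n6685 : Q := act 6 n4623
theorem D6685 : act 6 n4623 = n6685 := rfl
theorem F30598 : act 0 n6685 = n4629 := d5_1 D6685 (iv D4629) (iv F21654)
theorem F30599 : act 1 n6685 = n6685 := d13_1 D6685 (iv D6685) F21655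
theorem F30600 : act 3 n6685 = n4625 := d26_1 D6685 (iv D4625) (iv F21656)
theorem F30601 : act 5 n6685 = n6685 := d35_1 D6685 (iv D6685) (iv D4623) F15364 D4623
theorem F30602 : act 9 n6685 = n4642 := d41_2 (iv F21658) D6685 (iv D4642)
def n6686 : Q := act 8 n4623
theorem D6686 : act 8 n4623 = n6686 := rfl
def n6688 : Q := act 7 n4625
theorem D6688 : act 7 n4625 = n6688 := rfl
theorem F30613 : act 0 n6688 = n4632 := d6_1 D6688 (iv D4632) (iv F21664)
theorem F30614 : act 1 n6688 = n6688 := d14_1 D6688 (iv D6688) F21665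
theorem F30615 : act 2 n6688 = n6688 := d21_1 D6688 (iv D6688) F21666
theorem F30616 : act 5 n6688 = n6688 := d36_1 D6688 (iv D6688) F21667
theorem F30617 : act 6 n6688 = n6688 := d39_1 D6688 (iv D6688) (iv D4625) F15370 D4625
theorem F30618 : act 9 n6688 = n4645 := d43_2 (iv F21668) D6688 (iv D4645)
def n6689 : Q := act 4 n4626
theorem D6689 : act 4 n4626 = n6689 := rfl
theorem F30619 : act 1 n6689 = n6689 := d11_1 D6689 (iv D6689) F21669
theorem F30620 : act 2 n6689 = n4628 := d18_1 D6689 (iv D4628) (iv F21670)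
theorem F30621 : act 5 n6689 = n4865 := d30_2 D4626 D6689 (iv D4865) (iv D3363) (iv F15374)
theorem F30622 : act 7 n6689 = n6689 := d32_2 F21672 D6689 (iv D6689)
theorem F30623 : act 9 n6689 = n4646 := d34_2 (iv F21673) D6689 (iv D4646)
def n6690 : Q := act 6 n4626
theorem D6690 : act 6 n4626 = n6690 := rfl
theorem F30624 : act 1 n6690 = n6690 := d13_1 D6690 (iv D6690) F21669
theorem F30625 : act 2 n6690 = n4629 := d20_1 D6690 (iv D4629) (iv F21670)
theorem F30626 : act 3 n6690 = n6690 := d26_1 D6690 (iv D6690) F21671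
theorem F30627 : act 5 n6690 = n6690 := d35_1 D6690 (iv D6690) (iv D4626) F15375 D4626
theorem F30628 : act 9 n6690 = n4647 := d41_2 (iv F21673) D6690 (iv D4647)
def n6691 : Q := act 8 n4626
theorem D6691 : act 8 n4626 = n6691 := rfl
theorem F30630 : act 2 n6691 = n4630 := d22_1 D6691 (iv D4630) (iv F21670)
theorem F30631 : act 5 n6691 = n4627 := d37_1 D6691 (iv D4627) D4626
def n6692 : Q := act 3 n4627
theorem D6692 : act 3 n4627 = n6692 := rfl
def n6693 : Q := act 9 n4627
theorem D6693 : act 9 n4627 = n6693 := rfl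
theorem F30639 : act 4 n6693 = n4869 := d34_1 D6693 (iv D4869) (iv F21676)
theorem F30642 : act 8 n6693 = n4650 := d44_1 D6693 (iv D4650) (iv D3219) (iv F15377) D4627
def n6694 : Q := act 6 n4628
theorem D6694 : act 6 n4628 = n6694 := rfl
theorem F30643 : act 1 n6694 = n4633 := d13_1 D6694 (iv D4633) (iv F21679)
theorem F30644 : act 4 n6694 = n4629 := d31_1 D6694 (iv D4629) D4628
theorem F30645 : act 9 n6694 = n4651 := d41_2 (iv F21682) D6694 (iv D4651)
def n6695 : Q := act 8 n4628
theorem D6695 : act 8 n4628 = n6695 := rfl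
theorem F30646 : act 1 n6695 = n4634 := d15_1 D6695 (iv D4634) (iv F21679)
theorem F30647 : act 4 n6695 = n4630 := d33_1 D6695 (iv D4630) D4628
theorem F30648 : act 5 n6695 = n4871 := d37_1 D6695 (iv D4871) (iv F21680)
theorem F30649 : act 7 n6695 = n6695 := d42_1 D6695 (iv D6695) F21681
def n6696 : Q := act 7 n4629
theorem D6696 : act 7 n4629 = n6696 := rfl
theorem F30650 : act 1 n6696 = n4635 := d14_1 D6696 (iv D4635) (iv F21683)
theorem F30651 : act 3 n6696 = n4632 := d27_1 D6696 (iv D4632) (iv F21684)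
theorem F30652 : act 5 n6696 = n6696 := d36_1 D6696 (iv D6696) F21685
theorem F30653 : act 6 n6696 = n6696 := d39_1 D6696 (iv D6696) (iv D4629) F15380 D4629
theorem F30654 : act 9 n6696 = n4653 := d43_2 (iv F21686) D6696 (iv D4653)
def n6697 : Q := act 8 n4629
theorem D6697 : act 8 n4629 = n6697 := rfl
theorem F30655 : act 1 n6697 = n4636 := d15_1 D6697 (iv D4636) (iv F21683)
theorem F30656 : act 5 n6697 = n6697 := d37_1 D6697 (iv D6697) F21685
theorem F30657 : act 6 n6697 = n4630 := d40_1 D6697 (iv D4630) D4629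
def n6698 : Q := act 9 n4630
theorem D6698 : act 9 n4630 = n6698 := rfl
theorem F30659 : act 5 n6698 = n4631 := d38_1 D6698 (iv D4631) (iv F21688)
theorem F30661 : act 8 n6698 = n4655 := d44_1 D6698 (iv D4655) (iv D3222) (iv F15381) D4630
def n6699 : Q := act 5 n4633
theorem D6699 : act 5 n4633 = n6699 := rfl
theorem F30662 : act 0 n6699 = n6699 := d4_1 D6699 (iv D6699) F21700
theorem F30663 : act 2 n6699 = n6699 := d19_1 D6699 (iv D6699) F21701
theorem F30664 : act 4 n6699 = n6699 := d30_1 D6699 (iv D6699) F21702 F15398 (iv F21702)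
theorem F30665 : act 6 n6699 = n4875 := d35_2 D4633 D6699 (iv D4875) (iv D3370) (iv F15392)
theorem F30666 : act 9 n6699 = n4656 := d38_2 (iv F21703) D6699 (iv D4656)
def n6700 : Q := act 7 n4633
theorem D6700 : act 7 n4633 = n6700 := rfl
theorem F30667 : act 0 n6700 = n6700 := d6_1 D6700 (iv D6700) F21700
theorem F30668 : act 2 n6700 = n6700 := d21_1 D6700 (iv D6700) F21701
theorem F30669 : act 4 n6700 = n4635 := d32_1 D6700 (iv D4635) (iv F21702)
theorem F30670 : act 6 n6700 = n6700 := d39_1 D6700 (iv D6700) (iv D4633) F15393 D4633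
theorem F30671 : act 9 n6700 = n4657 := d43_2 (iv F21703) D6700 (iv D4657)
def n6701 : Q := act 8 n4633
theorem D6701 : act 8 n4633 = n6701 := rfl
theorem F30672 : act 0 n6701 = n6701 := d7_1 D6701 (iv D6701) F21700
theorem F30673 : act 2 n6701 = n6701 := d22_1 D6701 (iv D6701) F21701
theorem F30674 : act 4 n6701 = n4636 := d33_1 D6701 (iv D4636) (iv F21702)
theorem F30675 : act 6 n6701 = n4634 := d40_1 D6701 (iv D4634) D4633
def n6702 : Q := act 3 n4634
theorem D6702 : act 3 n4634 = n6702 := rfl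
theorem F30676 : act 0 n6702 = n6702 := d2_1 D6702 (iv D6702) F21704
theorem F30677 : act 5 n6702 = n4878 := d25_2 (iv F21707) D6702 (iv D4878)
theorem F30678 : act 7 n6702 = n6702 := d27_2 F21708 D6702 (iv D6702)
def n6703 : Q := act 9 n4634
theorem D6703 : act 9 n4634 = n6703 := rfl
theorem F30679 : act 0 n6703 = n6703 := d8_1 D6703 (iv D6703) F21704
theorem F30680 : act 2 n6703 = n6703 := d23_1 D6703 (iv D6703) F21705
theorem F30681 : act 4 n6703 = n4637 := d34_1 D6703 (iv D4637) (iv F21706)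
theorem F30682 : act 5 n6703 = n4879 := d38_1 D6703 (iv D4879) (iv F21707)
theorem F30683 : act 7 n6703 = n6703 := d43_1 D6703 (iv D6703) F21708
theorem F30684 : act 8 n6703 = n4660 := d44_1 D6703 (iv D4660) (iv D3226) (iv F15394) D4634
def n6704 : Q := act 8 n4635
theorem D6704 : act 8 n4635 = n6704 := rfl
theorem F30685 : act 0 n6704 = n6704 := d7_1 D6704 (iv D6704) F21709
theorem F30686 : act 2 n6704 = n6704 := d22_1 D6704 (iv D6704) F21710
theorem F30687 : act 5 n6704 = n6704 := d37_1 D6704 (iv D6704) F21712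
theorem F30688 : act 6 n6704 = n6704 := d40_1 D6704 (iv D6704) F21713
theorem F30689 : act 7 n6704 = n4636 := d42_1 D6704 (iv D4636) D4635
def n6705 : Q := act 9 n4636
theorem D6705 : act 9 n4636 = n6705 := rfl
theorem F30690 : act 0 n6705 = n6705 := d8_1 D6705 (iv D6705) F21715
theorem F30691 : act 2 n6705 = n6705 := d23_1 D6705 (iv D6705) F21716
theorem F30692 : act 5 n6705 = n6705 := d38_1 D6705 (iv D6705) F21717
theorem F30693 : act 6 n6705 = n4637 := d41_1 D6705 (iv D4637) (iv F21718)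
theorem F30694 : act 8 n6705 = n4662 := d44_1 D6705 (iv D4662) (iv D3228) (iv F15399) D4636
def n6708 : Q := act 4 n4639
theorem D6708 : act 4 n4639 = n6708 := rfl
theorem F30706 : act 0 n6708 = n4646 := d3_1 D6708 (iv D4646) (iv F21730)
theorem F30707 : act 2 n6708 = n4641 := d18_1 D6708 (iv D4641) (iv F21731)
theorem F30708 : act 5 n6708 = n4884 := d30_2 D4639 D6708 (iv D4884) (iv D3376) (iv F15417)
theorem F30709 : act 7 n6708 = n6708 := d32_2 F21733 D6708 (iv D6708)
def n6709 : Q := act 6 n4639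
theorem D6709 : act 6 n4639 = n6709 := rfl
theorem F30710 : act 0 n6709 = n4647 := d5_1 D6709 (iv D4647) (iv F21730)
theorem F30711 : act 2 n6709 = n4642 := d20_1 D6709 (iv D4642) (iv F21731)
theorem F30712 : act 3 n6709 = n6709 := d26_1 D6709 (iv D6709) F21732
theorem F30713 : act 5 n6709 = n6709 := d35_1 D6709 (iv D6709) (iv D4639) F15418 D4639
def n6710 : Q := act 8 n4639
theorem D6710 : act 8 n4639 = n6710 := rfl
def n6712 : Q := act 9 n4640
theorem D6712 : act 9 n4640 = n6712 := rfl
def n6713 : Q := act 6 n4641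
theorem D6713 : act 6 n4641 = n6713 := rfl
theorem F30729 : act 0 n6713 = n4651 := d5_1 D6713 (iv D4651) (iv F21739)
theorem F30730 : act 1 n6713 = n6713 := d13_1 D6713 (iv D6713) F21740
theorem F30731 : act 4 n6713 = n4642 := d31_1 D6713 (iv D4642) D4641
def n6714 : Q := act 8 n4641
theorem D6714 : act 8 n4641 = n6714 := rfl
theorem F30732 : act 0 n6714 = n4652 := d7_1 D6714 (iv D4652) (iv F21739)
theorem F30733 : act 1 n6714 = n6714 := d15_1 D6714 (iv D6714) F21740
theorem F30734 : act 4 n6714 = n4643 := d33_1 D6714 (iv D4643) D4641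
theorem F30735 : act 5 n6714 = n4889 := d37_1 D6714 (iv D4889) (iv F21741)
theorem F30736 : act 7 n6714 = n6714 := d42_1 D6714 (iv D6714) F21742
def n6715 : Q := act 7 n4642
theorem D6715 : act 7 n4642 = n6715 := rfl
theorem F30737 : act 0 n6715 = n4653 := d6_1 D6715 (iv D4653) (iv F21743)
theorem F30738 : act 1 n6715 = n6715 := d14_1 D6715 (iv D6715) F21744
theorem F30739 : act 3 n6715 = n4645 := d27_1 D6715 (iv D4645) (iv F21745)
theorem F30740 : act 5 n6715 = n6715 := d36_1 D6715 (iv D6715) F21746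
theorem F30741 : act 6 n6715 = n6715 := d39_1 D6715 (iv D6715) (iv D4642) F15423 D4642
def n6716 : Q := act 8 n4642
theorem D6716 : act 8 n4642 = n6716 := rfl
theorem F30742 : act 0 n6716 = n4654 := d7_1 D6716 (iv D4654) (iv F21743)
theorem F30743 : act 1 n6716 = n6716 := d15_1 D6716 (iv D6716) F21744
theorem F30744 : act 3 n6716 = n6716 := d28_1 D6716 (iv D6716) F21745 F15434 (iv F21745)
theorem F30745 : act 5 n6716 = n6716 := d37_1 D6716 (iv D6716) F21746
theorem F30746 : act 6 n6716 = n4643 := d40_1 D6716 (iv D4643) D4642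
def n6717 : Q := act 9 n4643
theorem D6717 : act 9 n4643 = n6717 := rfl
def n6718 : Q := act 3 n4646
theorem D6718 : act 3 n4646 = n6718 := rfl
theorem F30752 : act 1 n6718 = n6718 := d10_1 D6718 (iv D6718) F21764
theorem F30753 : act 4 n6718 = n6718 := d24_2 D4646 D6718 (iv D6718) (iv D4646) F15437
theorem F30754 : act 5 n6718 = n4893 := d25_2 (iv F21766) D6718 (iv D4893)
theorem F30755 : act 7 n6718 = n6718 := d27_2 F21767 D6718 (iv D6718)
def n6719 : Q := act 6 n4646
theorem D6719 : act 6 n4646 = n6719 := rfl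
theorem F30756 : act 1 n6719 = n6719 := d13_1 D6719 (iv D6719) F21764
theorem F30757 : act 2 n6719 = n4651 := d20_1 D6719 (iv D4651) (iv F21765)
theorem F30758 : act 4 n6719 = n4647 := d31_1 D6719 (iv D4647) D4646
def n6720 : Q := act 8 n4646
theorem D6720 : act 8 n4646 = n6720 := rfl
theorem F30759 : act 1 n6720 = n6720 := d15_1 D6720 (iv D6720) F21764
theorem F30760 : act 2 n6720 = n4652 := d22_1 D6720 (iv D4652) (iv F21765)
theorem F30761 : act 4 n6720 = n4648 := d33_1 D6720 (iv D4648) D4646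
theorem F30762 : act 5 n6720 = n4895 := d37_1 D6720 (iv D4895) (iv F21766)
theorem F30763 : act 7 n6720 = n6720 := d42_1 D6720 (iv D6720) F21767
def n6721 : Q := act 7 n4647
theorem D6721 : act 7 n4647 = n6721 := rfl
theorem F30764 : act 1 n6721 = n6721 := d14_1 D6721 (iv D6721) F21768
theorem F30765 : act 2 n6721 = n4653 := d21_1 D6721 (iv D4653) (iv F21769)
theorem F30766 : act 3 n6721 = n6721 := d27_1 D6721 (iv D6721) F21770
theorem F30767 : act 5 n6721 = n6721 := d36_1 D6721 (iv D6721) F21771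
theorem F30768 : act 6 n6721 = n6721 := d39_1 D6721 (iv D6721) (iv D4647) F15438 D4647
def n6722 : Q := act 8 n4647
theorem D6722 : act 8 n4647 = n6722 := rfl
theorem F30769 : act 1 n6722 = n6722 := d15_1 D6722 (iv D6722) F21768
theorem F30770 : act 2 n6722 = n4654 := d22_1 D6722 (iv D4654) (iv F21769)
theorem F30771 : act 5 n6722 = n6722 := d37_1 D6722 (iv D6722) F21771
theorem F30772 : act 6 n6722 = n4648 := d40_1 D6722 (iv D4648) D4647
def n6723 : Q := act 3 n4648
theorem D6723 : act 3 n4648 = n6723 := rfl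
theorem F30775 : act 5 n6723 = n4649 := d25_2 (iv F21774) D6723 (iv D4649)
def n6724 : Q := act 9 n4648
theorem D6724 : act 9 n4648 = n6724 := rfl
def n6725 : Q := act 9 n4649
theorem D6725 : act 9 n4649 = n6725 := rfl
def n6726 : Q := act 5 n4651
theorem D6726 : act 5 n4651 = n6726 := rfl
theorem F30788 : act 1 n6726 = n4656 := d12_1 D6726 (iv D4656) (iv F21787)
theorem F30789 : act 4 n6726 = n6726 := d30_1 D6726 (iv D6726) F21788 F15449 (iv F21788)
theorem F30790 : act 6 n6726 = n4899 := d35_2 D4651 D6726 (iv D4899) (iv D3387) (iv F15445)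
def n6727 : Q := act 7 n4651
theorem D6727 : act 7 n4651 = n6727 := rfl
theorem F30791 : act 1 n6727 = n4657 := d14_1 D6727 (iv D4657) (iv F21787)
theorem F30792 : act 4 n6727 = n4653 := d32_1 D6727 (iv D4653) (iv F21788)
theorem F30793 : act 6 n6727 = n6727 := d39_1 D6727 (iv D6727) (iv D4651) F15446 D4651
def n6728 : Q := act 8 n4651
theorem D6728 : act 8 n4651 = n6728 := rfl
theorem F30794 : act 1 n6728 = n4658 := d15_1 D6728 (iv D4658) (iv F21787)
theorem F30795 : act 4 n6728 = n4654 := d33_1 D6728 (iv D4654) (iv F21788)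
theorem F30796 : act 6 n6728 = n4652 := d40_1 D6728 (iv D4652) D4651
def n6729 : Q := act 3 n4652
theorem D6729 : act 3 n4652 = n6729 := rfl
theorem F30797 : act 1 n6729 = n4659 := d10_1 D6729 (iv D4659) (iv F21789)
theorem F30798 : act 4 n6729 = n6729 := d24_2 (iv F21790) D6729 (iv D6729) F21790 F15451
theorem F30799 : act 5 n6729 = n4902 := d25_2 (iv F21791) D6729 (iv D4902)
theorem F30800 : act 7 n6729 = n6729 := d27_2 F21792 D6729 (iv D6729)
def n6730 : Q := act 9 n4652
theorem D6730 : act 9 n4652 = n6730 := rfl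
theorem F30801 : act 1 n6730 = n4660 := d16_1 D6730 (iv D4660) (iv F21789)
theorem F30802 : act 4 n6730 = n4655 := d34_1 D6730 (iv D4655) (iv F21790)
theorem F30803 : act 5 n6730 = n4903 := d38_1 D6730 (iv D4903) (iv F21791)
theorem F30804 : act 7 n6730 = n6730 := d43_1 D6730 (iv D6730) F21792
def n6731 : Q := act 8 n4653
theorem D6731 : act 8 n4653 = n6731 := rfl
theorem F30805 : act 1 n6731 = n4661 := d15_1 D6731 (iv D4661) (iv F21793)
theorem F30806 : act 3 n6731 = n6731 := d28_1 D6731 (iv D6731) F21794 F15463 (iv F21794)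
theorem F30807 : act 5 n6731 = n6731 := d37_1 D6731 (iv D6731) F21795
theorem F30808 : act 6 n6731 = n6731 := d40_1 D6731 (iv D6731) F21796
theorem F30809 : act 7 n6731 = n4654 := d42_1 D6731 (iv D4654) D4653
def n6732 : Q := act 9 n4654
theorem D6732 : act 9 n4654 = n6732 := rfl
theorem F30810 : act 1 n6732 = n4662 := d16_1 D6732 (iv D4662) (iv F21797)
theorem F30811 : act 3 n6732 = n6732 := d29_1 D6732 (iv D6732) F21798
theorem F30812 : act 5 n6732 = n6732 := d38_1 D6732 (iv D6732) F21799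
theorem F30813 : act 6 n6732 = n4655 := d41_1 D6732 (iv D4655) (iv F21800)
def n6733 : Q := act 7 n4656
theorem D6733 : act 7 n4656 = n6733 := rfl
theorem F30814 : act 0 n6733 = n6733 := d6_1 D6733 (iv D6733) F21805
theorem F30815 : act 2 n6733 = n6733 := d21_1 D6733 (iv D6733) F21806
theorem F30816 : act 4 n6733 = n6733 := d32_1 D6733 (iv D6733) F21807
theorem F30817 : act 5 n6733 = n4657 := d36_1 D6733 (iv D4657) D4656
def n6734 : Q := act 8 n4656
theorem D6734 : act 8 n4656 = n6734 := rfl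
theorem F30818 : act 0 n6734 = n6734 := d7_1 D6734 (iv D6734) F21805
theorem F30819 : act 2 n6734 = n6734 := d22_1 D6734 (iv D6734) F21806
theorem F30820 : act 4 n6734 = n6734 := d33_1 D6734 (iv D6734) F21807
theorem F30821 : act 5 n6734 = n4658 := d37_1 D6734 (iv D4658) D4656
theorem F30822 : act 6 n6734 = n4907 := d40_1 D6734 (iv D4907) (iv F21808)
def n6735 : Q := act 8 n4657
theorem D6735 : act 8 n4657 = n6735 := rfl
theorem F30823 : act 0 n6735 = n6735 := d7_1 D6735 (iv D6735) F21809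
theorem F30824 : act 2 n6735 = n6735 := d22_1 D6735 (iv D6735) F21810
theorem F30825 : act 4 n6735 = n4661 := d33_1 D6735 (iv D4661) (iv F21811)
theorem F30826 : act 6 n6735 = n6735 := d40_1 D6735 (iv D6735) F21812
theorem F30827 : act 7 n6735 = n4658 := d42_1 D6735 (iv D4658) D4657
def n6736 : Q := act 3 n4658
theorem D6736 : act 3 n4658 = n6736 := rfl
theorem F30828 : act 0 n6736 = n6736 := d2_1 D6736 (iv D6736) F21813
theorem F30829 : act 4 n6736 = n6736 := d24_2 (iv F21815) D6736 (iv D6736) F21815 F15479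
theorem F30830 : act 6 n6736 = n4659 := d26_2 (iv F21816) D6736 (iv D4659)
def n6737 : Q := act 9 n4658
theorem D6737 : act 9 n4658 = n6737 := rfl
theorem F30831 : act 0 n6737 = n6737 := d8_1 D6737 (iv D6737) F21813
theorem F30832 : act 2 n6737 = n6737 := d23_1 D6737 (iv D6737) F21814
theorem F30833 : act 4 n6737 = n4662 := d34_1 D6737 (iv D4662) (iv F21815)
theorem F30834 : act 6 n6737 = n4660 := d41_1 D6737 (iv D4660) (iv F21816)
def n6738 : Q := act 2 n4659
theorem D6738 : act 2 n4659 = n6738 := rfl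
theorem F30835 : act 0 n6738 = n6738 := d1_1 D6738 (iv D6738) F21817
theorem F30836 : act 3 n6738 = n6738 := d17_2 D4659 D6738 (iv D6738) (iv D4659) F15468
theorem F30837 : act 4 n6738 = n6738 := d18_2 F21818 D6738 (iv D6738)
theorem F30838 : act 5 n6738 = n4911 := d19_2 (iv F21819) D6738 (iv D4911)
theorem F30839 : act 7 n6738 = n6738 := d21_2 F21820 D6738 (iv D6738)
def n6739 : Q := act 9 n4659
theorem D6739 : act 9 n4659 = n6739 := rfl
theorem F30840 : act 0 n6739 = n6739 := d8_1 D6739 (iv D6739) F21817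
theorem F30841 : act 3 n6739 = n4660 := d29_1 D6739 (iv D4660) D4659
theorem F30842 : act 4 n6739 = n6739 := d34_1 D6739 (iv D6739) F21818
theorem F30843 : act 5 n6739 = n4912 := d38_1 D6739 (iv D4912) (iv F21819)
theorem F30844 : act 7 n6739 = n6739 := d43_1 D6739 (iv D6739) F21820
def n6740 : Q := act 9 n4661
theorem D6740 : act 9 n4661 = n6740 := rfl
theorem F30845 : act 0 n6740 = n6740 := d8_1 D6740 (iv D6740) F21826
theorem F30846 : act 2 n6740 = n6740 := d23_1 D6740 (iv D6740) F21827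
theorem F30847 : act 3 n6740 = n6740 := d29_1 D6740 (iv D6740) F21828
theorem F30848 : act 5 n6740 = n6740 := d38_1 D6740 (iv D6740) F21829
theorem F30849 : act 6 n6740 = n6740 := d41_1 D6740 (iv D6740) F21830
theorem F30850 : act 7 n6740 = n4662 := d43_1 D6740 (iv D4662) (iv F21831)
def n6741 : Q := act 8 n4663
theorem D6741 : act 8 n4663 = n6741 := rfl
theorem F30851 : act 0 n6741 = n6741 := d7_1 D6741 (iv D6741) F21837
theorem F30852 : act 1 n6741 = n5036 := d15_1 D6741 (iv D5036) (iv F21838)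
theorem F30853 : act 2 n6741 = n6741 := d22_1 D6741 (iv D6741) F21839
theorem F30854 : act 4 n6741 = n6741 := d33_1 D6741 (iv D6741) F21841
theorem F30855 : act 5 n6741 = n4664 := d37_1 D6741 (iv D4664) (iv F21842)
theorem F30856 : act 6 n6741 = n6741 := d40_1 D6741 (iv D6741) F21843
theorem F30857 : act 7 n6741 = n6741 := d42_1 D6741 (iv D6741) F21844
theorem F30858 : act 9 n6741 = n6741 := d44_2 D4663 D6741 (iv D6741) (iv D4663) F15494
def n6742 : Q := act 3 n4664
theorem D6742 : act 3 n4664 = n6742 := rfl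
theorem F30859 : act 0 n6742 = n6742 := d2_1 D6742 (iv D6742) F21845
theorem F30860 : act 1 n6742 = n5037 := d10_1 D6742 (iv D5037) (iv F21846)
theorem F30861 : act 6 n6742 = n4671 := d26_2 (iv F21849) D6742 (iv D4671)
theorem F30862 : act 7 n6742 = n6742 := d27_2 F21850 D6742 (iv D6742)
theorem F30863 : act 8 n6742 = n6742 := d28_2 D4664 D6742 (iv D6742) (iv D4664) F15498
theorem F30864 : act 9 n6742 = n6742 := d29_2 F21851 D6742 (iv D6742)
def n6743 : Q := act 2 n4665
theorem D6743 : act 2 n4665 = n6743 := rfl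
theorem F30865 : act 0 n6743 = n6743 := d1_1 D6743 (iv D6743) F21852
theorem F30866 : act 3 n6743 = n6743 := d17_2 D4665 D6743 (iv D6743) (iv D4665) F15504
theorem F30867 : act 5 n6743 = n6743 := d19_2 F21854 D6743 (iv D6743)
theorem F30868 : act 6 n6743 = n4672 := d20_2 (iv F21855) D6743 (iv D4672)
theorem F30869 : act 7 n6743 = n6743 := d21_2 F21856 D6743 (iv D6743)
theorem F30870 : act 8 n6743 = n4666 := d22_2 (iv F21857) D6743 (iv D4666)
theorem F30871 : act 9 n6743 = n6743 := d23_2 F21858 D6743 (iv D6743)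
def n6744 : Q := act 4 n4665
theorem D6744 : act 4 n4665 = n6744 := rfl
theorem F30872 : act 0 n6744 = n6744 := d3_1 D6744 (iv D6744) F21852
theorem F30873 : act 1 n6744 = n5039 := d11_1 D6744 (iv D5039) (iv F21853)
theorem F30874 : act 6 n6744 = n4673 := d31_2 (iv F21855) D6744 (iv D4673)
theorem F30875 : act 7 n6744 = n6744 := d32_2 F21856 D6744 (iv D6744)
theorem F30876 : act 8 n6744 = n4667 := d33_2 (iv F21857) D6744 (iv D4667)
theorem F30877 : act 9 n6744 = n6744 := d34_2 F21858 D6744 (iv D6744)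
def n6745 : Q := act 1 n4666
theorem D6745 : act 1 n4666 = n6745 := rfl
theorem F30878 : act 2 n6745 = n5040 := d9_2 D4666 D6745 (iv D5040) (iv D3489) (iv F15510)
theorem F30879 : act 5 n6745 = n6745 := d12_2 F21860 D6745 (iv D6745)
theorem F30880 : act 6 n6745 = n4674 := d13_2 (iv F21861) D6745 (iv D4674)
theorem F30881 : act 7 n6745 = n6745 := d14_2 F21862 D6745 (iv D6745)
theorem F30882 : act 9 n6745 = n4668 := d16_2 (iv F21863) D6745 (iv D4668)
def n6746 : Q := act 4 n4666
theorem D6746 : act 4 n4666 = n6746 := rfl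
theorem F30883 : act 0 n6746 = n6746 := d3_1 D6746 (iv D6746) F21859
theorem F30884 : act 2 n6746 = n4667 := d18_1 D6746 (iv D4667) D4666
theorem F30885 : act 6 n6746 = n4675 := d31_2 (iv F21861) D6746 (iv D4675)
theorem F30886 : act 7 n6746 = n6746 := d32_2 F21862 D6746 (iv D6746)
theorem F30887 : act 9 n6746 = n4669 := d34_2 (iv F21863) D6746 (iv D4669)
def n6747 : Q := act 5 n4667
theorem D6747 : act 5 n4667 = n6747 := rfl
theorem F30888 : act 0 n6747 = n6747 := d4_1 D6747 (iv D6747) F21864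
theorem F30889 : act 1 n6747 = n5042 := d12_1 D6747 (iv D5042) (iv F21865)
theorem F30890 : act 3 n6747 = n6747 := d25_1 D6747 (iv D6747) F21866
theorem F30891 : act 4 n6747 = n6747 := d30_1 D6747 (iv D6747) (iv D4667) F15511 D4667
theorem F30892 : act 7 n6747 = n6747 := d36_2 F21868 D6747 (iv D6747)
theorem F30893 : act 9 n6747 = n4670 := d38_2 (iv F21869) D6747 (iv D4670)
def n6748 : Q := act 0 n4668
theorem D6748 : act 0 n4668 = n6748 := rfl
theorem F30894 : act 1 n6748 = n6748 := d0_2 D4668 D6748 (iv D6748) (iv D4668) F15515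
theorem F30895 : act 2 n6748 = n5043 := d1_2 (iv F21870) D6748 (iv D5043)
theorem F30896 : act 5 n6748 = n6748 := d4_2 F21871 D6748 (iv D6748)
theorem F30897 : act 6 n6748 = n4677 := d5_2 (iv F21872) D6748 (iv D4677)
theorem F30898 : act 7 n6748 = n6748 := d6_2 F21873 D6748 (iv D6748)
theorem F30899 : act 8 n6748 = n6748 := d7_2 F21874 D6748 (iv D6748)
def n6749 : Q := act 4 n4668
theorem D6749 : act 4 n4668 = n6749 := rfl
theorem F30900 : act 1 n6749 = n4669 := d11_1 D6749 (iv D4669) D4668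
theorem F30901 : act 2 n6749 = n5044 := d18_1 D6749 (iv D5044) (iv F21870)
theorem F30902 : act 6 n6749 = n4678 := d31_2 (iv F21872) D6749 (iv D4678)
theorem F30903 : act 7 n6749 = n6749 := d32_2 F21873 D6749 (iv D6749)
theorem F30904 : act 8 n6749 = n6749 := d33_2 F21874 D6749 (iv D6749)
def n6750 : Q := act 3 n4669
theorem D6750 : act 3 n4669 = n6750 := rfl
theorem F30905 : act 0 n6750 = n6750 := d2_1 D6750 (iv D6750) F21875
theorem F30906 : act 2 n6750 = n6750 := d17_1 D6750 (iv D6750) F21876 F15522 (iv F21876)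
theorem F30907 : act 6 n6750 = n4679 := d26_2 (iv F21877) D6750 (iv D4679)
theorem F30908 : act 7 n6750 = n6750 := d27_2 F21878 D6750 (iv D6750)
def n6751 : Q := act 5 n4669
theorem D6751 : act 5 n4669 = n6751 := rfl
theorem F30909 : act 0 n6751 = n6751 := d4_1 D6751 (iv D6751) F21875
theorem F30910 : act 2 n6751 = n4670 := d19_1 D6751 (iv D4670) (iv F21876)
theorem F30911 : act 4 n6751 = n6751 := d30_1 D6751 (iv D6751) (iv D4669) F15516 D4669
theorem F30912 : act 7 n6751 = n6751 := d36_2 F21878 D6751 (iv D6751)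
theorem F30913 : act 8 n6751 = n6751 := d37_2 F21879 D6751 (iv D6751)
def n6752 : Q := act 6 n4670
theorem D6752 : act 6 n4670 = n6752 := rfl
theorem F30914 : act 0 n6752 = n6752 := d5_1 D6752 (iv D6752) F21880
theorem F30915 : act 1 n6752 = n5047 := d13_1 D6752 (iv D5047) (iv F21881)
theorem F30916 : act 3 n6752 = n6752 := d26_1 D6752 (iv D6752) F21882
theorem F30917 : act 4 n6752 = n6752 := d31_1 D6752 (iv D6752) F21883
theorem F30918 : act 5 n6752 = n4681 := d35_1 D6752 (iv D4681) (iv D3242) (iv F15523) D4670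
theorem F30919 : act 8 n6752 = n6752 := d40_2 F21885 D6752 (iv D6752)
def n6753 : Q := act 2 n4671
theorem D6753 : act 2 n4671 = n6753 := rfl
theorem F30920 : act 0 n6753 = n6753 := d1_1 D6753 (iv D6753) F21886
theorem F30921 : act 3 n6753 = n6753 := d17_2 D4671 D6753 (iv D6753) (iv D4671) F15528
theorem F30922 : act 5 n6753 = n6753 := d19_2 F21888 D6753 (iv D6753)
theorem F30923 : act 7 n6753 = n4682 := d21_2 (iv F21889) D6753 (iv D4682)
theorem F30924 : act 8 n6753 = n6753 := d22_2 F21890 D6753 (iv D6753)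
theorem F30925 : act 9 n6753 = n6753 := d23_2 F21891 D6753 (iv D6753)
def n6754 : Q := act 4 n4671
theorem D6754 : act 4 n4671 = n6754 := rfl
theorem F30926 : act 0 n6754 = n6754 := d3_1 D6754 (iv D6754) F21886
theorem F30927 : act 1 n6754 = n5054 := d11_1 D6754 (iv D5054) (iv F21887)
theorem F30928 : act 3 n6754 = n4673 := d24_1 D6754 (iv D4673) (iv D3237) (iv F15529) D4671
theorem F30929 : act 7 n6754 = n4683 := d32_2 (iv F21889) D6754 (iv D4683)
theorem F30930 : act 8 n6754 = n6754 := d33_2 F21890 D6754 (iv D6754)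
theorem F30931 : act 9 n6754 = n6754 := d34_2 F21891 D6754 (iv D6754)
def n6755 : Q := act 1 n4672
theorem D6755 : act 1 n4672 = n6755 := rfl
theorem F30934 : act 5 n6755 = n4699 := d12_2 (iv F21894) D6755 (iv D4699)
theorem F30935 : act 7 n6755 = n4684 := d14_2 (iv F21895) D6755 (iv D4684)
theorem F30936 : act 8 n6755 = n4674 := d15_2 (iv F21896) D6755 (iv D4674)
def n6756 : Q := act 4 n4672
theorem D6756 : act 4 n4672 = n6756 := rfl
theorem F30938 : act 0 n6756 = n6756 := d3_1 D6756 (iv D6756) F21892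
theorem F30939 : act 2 n6756 = n4673 := d18_1 D6756 (iv D4673) D4672
theorem F30940 : act 7 n6756 = n4685 := d32_2 (iv F21895) D6756 (iv D4685)
theorem F30941 : act 8 n6756 = n4675 := d33_2 (iv F21896) D6756 (iv D4675)
theorem F30942 : act 9 n6756 = n6756 := d34_2 F21897 D6756 (iv D6756)
def n6757 : Q := act 5 n4673
theorem D6757 : act 5 n4673 = n6757 := rfl
theorem F30943 : act 0 n6757 = n6757 := d4_1 D6757 (iv D6757) F21898
theorem F30944 : act 1 n6757 = n5057 := d12_1 D6757 (iv D5057) (iv F21899)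
theorem F30945 : act 4 n6757 = n4701 := d30_1 D6757 (iv D4701) (iv D3255) (iv F15535) D4673
theorem F30946 : act 7 n6757 = n4686 := d36_2 (iv F21900) D6757 (iv D4686)
theorem F30947 : act 8 n6757 = n4676 := d37_2 (iv F21901) D6757 (iv D4676)
theorem F30948 : act 9 n6757 = n6757 := d38_2 F21902 D6757 (iv D6757)
def n6758 : Q := act 0 n4674
theorem D6758 : act 0 n4674 = n6758 := rfl
theorem F30951 : act 5 n6758 = n4702 := d4_2 (iv F21904) D6758 (iv D4702)
theorem F30952 : act 7 n6758 = n4687 := d6_2 (iv F21905) D6758 (iv D4687)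
theorem F30953 : act 9 n6758 = n4677 := d8_2 (iv F21906) D6758 (iv D4677)
def n6759 : Q := act 4 n4674
theorem D6759 : act 4 n4674 = n6759 := rfl
theorem F30954 : act 1 n6759 = n4675 := d11_1 D6759 (iv D4675) D4674
theorem F30955 : act 2 n6759 = n5059 := d18_1 D6759 (iv D5059) (iv F21903)
theorem F30956 : act 7 n6759 = n4688 := d32_2 (iv F21905) D6759 (iv D4688)
theorem F30957 : act 9 n6759 = n4678 := d34_2 (iv F21906) D6759 (iv D4678)
def n6760 : Q := act 3 n4675
theorem D6760 : act 3 n4675 = n6760 := rfl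
theorem F30958 : act 0 n6760 = n6760 := d2_1 D6760 (iv D6760) F21907
theorem F30959 : act 2 n6760 = n6760 := d17_1 D6760 (iv D6760) F21908 F15545 (iv F21908)
theorem F30960 : act 7 n6760 = n4689 := d27_2 (iv F21909) D6760 (iv D4689)
theorem F30961 : act 9 n6760 = n4679 := d29_2 (iv F21910) D6760 (iv D4679)
def n6761 : Q := act 5 n4675
theorem D6761 : act 5 n4675 = n6761 := rfl
theorem F30962 : act 0 n6761 = n6761 := d4_1 D6761 (iv D6761) F21907
theorem F30963 : act 2 n6761 = n4676 := d19_1 D6761 (iv D4676) (iv F21908)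
theorem F30964 : act 4 n6761 = n4705 := d30_1 D6761 (iv D4705) (iv D3257) (iv F15540) D4675
theorem F30965 : act 7 n6761 = n4690 := d36_2 (iv F21909) D6761 (iv D4690)
theorem F30966 : act 9 n6761 = n4680 := d38_2 (iv F21910) D6761 (iv D4680)
def n6762 : Q := act 6 n4676
theorem D6762 : act 6 n4676 = n6762 := rfl
theorem F30967 : act 0 n6762 = n6762 := d5_1 D6762 (iv D6762) F21911
theorem F30968 : act 1 n6762 = n5062 := d13_1 D6762 (iv D5062) (iv F21912)
theorem F30969 : act 3 n6762 = n6762 := d26_1 D6762 (iv D6762) F21913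
theorem F30970 : act 4 n6762 = n4706 := d31_1 D6762 (iv D4706) (iv F21914)
theorem F30971 : act 9 n6762 = n4681 := d41_2 (iv F21916) D6762 (iv D4681)
def n6763 : Q := act 4 n4677
theorem D6763 : act 4 n4677 = n6763 := rfl
theorem F30972 : act 0 n6763 = n4678 := d3_1 D6763 (iv D4678) D4677
theorem F30973 : act 1 n6763 = n6763 := d11_1 D6763 (iv D6763) F21917
theorem F30974 : act 2 n6763 = n5063 := d18_1 D6763 (iv D5063) (iv F21918)
theorem F30975 : act 7 n6763 = n4692 := d32_2 (iv F21920) D6763 (iv D4692)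
theorem F30976 : act 8 n6763 = n6763 := d33_2 F21921 D6763 (iv D6763)
def n6764 : Q := act 3 n4678
theorem D6764 : act 3 n4678 = n6764 := rfl
theorem F30977 : act 1 n6764 = n4679 := d10_1 D6764 (iv D4679) (iv F21922)
theorem F30978 : act 7 n6764 = n4693 := d27_2 (iv F21924) D6764 (iv D4693)
def n6765 : Q := act 5 n4678
theorem D6765 : act 5 n4678 = n6765 := rfl
theorem F30979 : act 1 n6765 = n4680 := d12_1 D6765 (iv D4680) (iv F21922)
theorem F30980 : act 2 n6765 = n5065 := d19_1 D6765 (iv D5065) (iv F21923)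
theorem F30981 : act 4 n6765 = n4709 := d30_1 D6765 (iv D4709) (iv D3260) (iv F15549) D4678
theorem F30982 : act 7 n6765 = n4694 := d36_2 (iv F21924) D6765 (iv D4694)
theorem F30983 : act 8 n6765 = n6765 := d37_2 F21925 D6765 (iv D6765)
def n6766 : Q := act 5 n4679
theorem D6766 : act 5 n4679 = n6766 := rfl
theorem F30984 : act 0 n6766 = n6766 := d4_1 D6766 (iv D6766) F21926
theorem F30985 : act 2 n6766 = n6766 := d19_1 D6766 (iv D6766) F21927
theorem F30986 : act 3 n6766 = n4680 := d25_1 D6766 (iv D4680) D4679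
theorem F30987 : act 7 n6766 = n4695 := d36_2 (iv F21928) D6766 (iv D4695)
def n6767 : Q := act 8 n4679
theorem D6767 : act 8 n4679 = n6767 := rfl
theorem F30988 : act 0 n6767 = n6767 := d7_1 D6767 (iv D6767) F21926
theorem F30989 : act 2 n6767 = n6767 := d22_1 D6767 (iv D6767) F21927
theorem F30990 : act 3 n6767 = n6767 := d28_1 D6767 (iv D6767) (iv D4679) F15555 D4679
theorem F30991 : act 7 n6767 = n4696 := d42_1 D6767 (iv D4696) (iv F21928)
def n6768 : Q := act 6 n4680
theorem D6768 : act 6 n4680 = n6768 := rfl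
theorem F30992 : act 0 n6768 = n6768 := d5_1 D6768 (iv D6768) F21929
theorem F30993 : act 2 n6768 = n4681 := d20_1 D6768 (iv D4681) (iv F21930)
theorem F30994 : act 4 n6768 = n4712 := d31_1 D6768 (iv D4712) (iv F21931)
theorem F30995 : act 8 n6768 = n6768 := d40_2 F21933 D6768 (iv D6768)
def n6769 : Q := act 7 n4681
theorem D6769 : act 7 n4681 = n6769 := rfl
theorem F30996 : act 0 n6769 = n6769 := d6_1 D6769 (iv D6769) F21934
theorem F30997 : act 1 n6769 = n5069 := d14_1 D6769 (iv D5069) (iv F21935)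
theorem F30998 : act 3 n6769 = n6769 := d27_1 D6769 (iv D6769) F21936
theorem F30999 : act 4 n6769 = n4713 := d32_1 D6769 (iv D4713) (iv F21937)
theorem F31000 : act 6 n6769 = n4698 := d39_1 D6769 (iv D4698) (iv D3253) (iv F15560) D4681
theorem F31001 : act 8 n6769 = n6769 := d42_2 F21938 D6769 (iv D6769)
def n6770 : Q := act 1 n4682
theorem D6770 : act 1 n4682 = n6770 := rfl
theorem F31002 : act 2 n6770 = n5077 := d9_2 D4682 D6770 (iv D5077) (iv D3514) (iv F15563)
def n6771 : Q := act 4 n4682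
theorem D6771 : act 4 n4682 = n6771 := rfl
theorem F31008 : act 0 n6771 = n6771 := d3_1 D6771 (iv D6771) F21939
theorem F31009 : act 2 n6771 = n4683 := d18_1 D6771 (iv D4683) D4682
theorem F31010 : act 6 n6771 = n6771 := d31_2 F21942 D6771 (iv D6771)
theorem F31011 : act 8 n6771 = n6771 := d33_2 F21943 D6771 (iv D6771)
theorem F31012 : act 9 n6771 = n6771 := d34_2 F21944 D6771 (iv D6771)
def n6772 : Q := act 5 n4683
theorem D6772 : act 5 n4683 = n6772 := rfl
theorem F31013 : act 0 n6772 = n6772 := d4_1 D6772 (iv D6772) F21945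
theorem F31014 : act 1 n6772 = n5079 := d12_1 D6772 (iv D5079) (iv F21946)
theorem F31015 : act 3 n6772 = n4686 := d25_1 D6772 (iv D4686) (iv F21947)
theorem F31016 : act 4 n6772 = n6772 := d30_1 D6772 (iv D6772) (iv D4683) F15564 D4683
theorem F31017 : act 8 n6772 = n6772 := d37_2 F21949 D6772 (iv D6772)
theorem F31018 : act 9 n6772 = n6772 := d38_2 F21950 D6772 (iv D6772)
def n6773 : Q := act 0 n4684
theorem D6773 : act 0 n4684 = n6773 := rfl
theorem F31024 : act 8 n6773 = n4687 := d7_2 (iv F21955) D6773 (iv D4687)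
def n6774 : Q := act 4 n4684
theorem D6774 : act 4 n4684 = n6774 := rfl
theorem F31026 : act 1 n6774 = n4685 := d11_1 D6774 (iv D4685) D4684
theorem F31029 : act 8 n6774 = n4688 := d33_2 (iv F21955) D6774 (iv D4688)
def n6775 : Q := act 3 n4685
theorem D6775 : act 3 n4685 = n6775 := rfl
theorem F31031 : act 0 n6775 = n6775 := d2_1 D6775 (iv D6775) F21957
theorem F31032 : act 4 n6775 = n6775 := d24_2 D4685 D6775 (iv D6775) (iv D4685) F15569
theorem F31033 : act 6 n6775 = n6775 := d26_2 F21959 D6775 (iv D6775)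
theorem F31034 : act 9 n6775 = n6775 := d29_2 F21961 D6775 (iv D6775)
def n6776 : Q := act 5 n4685
theorem D6776 : act 5 n4685 = n6776 := rfl
theorem F31035 : act 0 n6776 = n6776 := d4_1 D6776 (iv D6776) F21957
theorem F31036 : act 2 n6776 = n4686 := d19_1 D6776 (iv D4686) (iv F21958)
theorem F31037 : act 4 n6776 = n4717 := d30_1 D6776 (iv D4717) (iv D3265) (iv F15570) D4685
theorem F31038 : act 8 n6776 = n4690 := d37_2 (iv F21960) D6776 (iv D4690)
theorem F31039 : act 9 n6776 = n6776 := d38_2 F21961 D6776 (iv D6776)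
def n6777 : Q := act 6 n4686
theorem D6777 : act 6 n4686 = n6777 := rfl
theorem F31040 : act 0 n6777 = n6777 := d5_1 D6777 (iv D6777) F21962
theorem F31041 : act 1 n6777 = n5084 := d13_1 D6777 (iv D5084) (iv F21963)
theorem F31042 : act 4 n6777 = n4718 := d31_1 D6777 (iv D4718) (iv F21964)
theorem F31043 : act 5 n6777 = n6777 := d35_1 D6777 (iv D6777) (iv D4686) F15576 D4686
theorem F31044 : act 8 n6777 = n4691 := d40_2 (iv F21965) D6777 (iv D4691)
theorem F31045 : act 9 n6777 = n6777 := d41_2 F21966 D6777 (iv D6777)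
def n6778 : Q := act 4 n4687
theorem D6778 : act 4 n4687 = n6778 := rfl
theorem F31046 : act 0 n6778 = n4688 := d3_1 D6778 (iv D4688) D4687
theorem F31050 : act 9 n6778 = n4692 := d34_2 (iv F21971) D6778 (iv D4692)
def n6779 : Q := act 3 n4688
theorem D6779 : act 3 n4688 = n6779 := rfl
theorem F31051 : act 1 n6779 = n4689 := d10_1 D6779 (iv D4689) (iv F21972)
theorem F31052 : act 6 n6779 = n6779 := d26_2 F21974 D6779 (iv D6779)
theorem F31053 : act 9 n6779 = n4693 := d29_2 (iv F21975) D6779 (iv D4693)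
def n6780 : Q := act 5 n4688
theorem D6780 : act 5 n4688 = n6780 := rfl
theorem F31054 : act 1 n6780 = n4690 := d12_1 D6780 (iv D4690) (iv F21972)
theorem F31055 : act 2 n6780 = n5087 := d19_1 D6780 (iv D5087) (iv F21973)
theorem F31056 : act 4 n6780 = n4721 := d30_1 D6780 (iv D4721) (iv D3268) (iv F15580) D4688
theorem F31057 : act 9 n6780 = n4694 := d38_2 (iv F21975) D6780 (iv D4694)
def n6781 : Q := act 5 n4689
theorem D6781 : act 5 n4689 = n6781 := rfl
theorem F31058 : act 0 n6781 = n6781 := d4_1 D6781 (iv D6781) F21976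
theorem F31059 : act 2 n6781 = n6781 := d19_1 D6781 (iv D6781) F21977
theorem F31060 : act 3 n6781 = n4690 := d25_1 D6781 (iv D4690) D4689
theorem F31061 : act 9 n6781 = n4695 := d38_2 (iv F21979) D6781 (iv D4695)
def n6782 : Q := act 8 n4689
theorem D6782 : act 8 n4689 = n6782 := rfl
theorem F31062 : act 0 n6782 = n6782 := d7_1 D6782 (iv D6782) F21976
theorem F31063 : act 2 n6782 = n6782 := d22_1 D6782 (iv D6782) F21977
theorem F31064 : act 6 n6782 = n6782 := d40_1 D6782 (iv D6782) F21978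
def n6783 : Q := act 6 n4690
theorem D6783 : act 6 n4690 = n6783 := rfl
theorem F31065 : act 0 n6783 = n6783 := d5_1 D6783 (iv D6783) F21980
theorem F31066 : act 2 n6783 = n4691 := d20_1 D6783 (iv D4691) (iv F21981)
theorem F31067 : act 4 n6783 = n4724 := d31_1 D6783 (iv D4724) (iv F21982)
theorem F31068 : act 5 n6783 = n6783 := d35_1 D6783 (iv D6783) (iv D4690) F15585 D4690
theorem F31069 : act 9 n6783 = n4697 := d41_2 (iv F21983) D6783 (iv D4697)
def n6784 : Q := act 7 n4691
theorem D6784 : act 7 n4691 = n6784 := rfl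
theorem F31070 : act 0 n6784 = n6784 := d6_1 D6784 (iv D6784) F21984
theorem F31071 : act 1 n6784 = n5091 := d14_1 D6784 (iv D5091) (iv F21985)
theorem F31072 : act 3 n6784 = n6784 := d27_1 D6784 (iv D6784) F21986
theorem F31073 : act 4 n6784 = n4725 := d32_1 D6784 (iv D4725) (iv F21987)
theorem F31074 : act 5 n6784 = n6784 := d36_1 D6784 (iv D6784) F21988
theorem F31075 : act 9 n6784 = n4698 := d43_2 (iv F21989) D6784 (iv D4698)
def n6785 : Q := act 3 n4692
theorem D6785 : act 3 n4692 = n6785 := rfl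
theorem F31076 : act 0 n6785 = n4693 := d2_1 D6785 (iv D4693) (iv F21990)
theorem F31077 : act 1 n6785 = n6785 := d10_1 D6785 (iv D6785) F21991
theorem F31078 : act 6 n6785 = n6785 := d26_2 F21993 D6785 (iv D6785)
def n6786 : Q := act 5 n4692
theorem D6786 : act 5 n4692 = n6786 := rfl
theorem F31079 : act 0 n6786 = n4694 := d4_1 D6786 (iv D4694) (iv F21990)
theorem F31080 : act 1 n6786 = n6786 := d12_1 D6786 (iv D6786) F21991
theorem F31081 : act 2 n6786 = n5093 := d19_1 D6786 (iv D5093) (iv F21992)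
theorem F31082 : act 4 n6786 = n4727 := d30_1 D6786 (iv D4727) (iv D3272) (iv F15594) D4692
theorem F31083 : act 8 n6786 = n6786 := d37_2 F21994 D6786 (iv D6786)
def n6787 : Q := act 2 n4693
theorem D6787 : act 2 n4693 = n6787 := rfl
theorem F31084 : act 1 n6787 = n6787 := d9_1 D6787 (iv D6787) F21995 F15602 (iv F21995)
theorem F31085 : act 3 n6787 = n5094 := d17_2 D4693 D6787 (iv D5094) (iv D3525) (iv F15598)
theorem F31086 : act 6 n6787 = n6787 := d20_2 F21996 D6787 (iv D6787)
def n6788 : Q := act 5 n4693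
theorem D6788 : act 5 n4693 = n6788 := rfl
theorem F31087 : act 1 n6788 = n4695 := d12_1 D6788 (iv D4695) (iv F21995)
theorem F31088 : act 3 n6788 = n4694 := d25_1 D6788 (iv D4694) D4693
def n6789 : Q := act 8 n4693
theorem D6789 : act 8 n4693 = n6789 := rfl
theorem F31089 : act 1 n6789 = n4696 := d15_1 D6789 (iv D4696) (iv F21995)
theorem F31090 : act 3 n6789 = n6789 := d28_1 D6789 (iv D6789) (iv D4693) F15600 D4693
theorem F31091 : act 6 n6789 = n6789 := d40_1 D6789 (iv D6789) F21996
def n6790 : Q := act 6 n4694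
theorem D6790 : act 6 n4694 = n6790 := rfl
theorem F31092 : act 1 n6790 = n4697 := d13_1 D6790 (iv D4697) (iv F21997)
theorem F31093 : act 2 n6790 = n5097 := d20_1 D6790 (iv D5097) (iv F21998)
theorem F31094 : act 4 n6790 = n4731 := d31_1 D6790 (iv D4731) (iv F21999)
theorem F31095 : act 5 n6790 = n6790 := d35_1 D6790 (iv D6790) (iv D4694) F15599 D4694
theorem F31096 : act 8 n6790 = n6790 := d40_2 F22000 D6790 (iv D6790)
def n6791 : Q := act 4 n4695
theorem D6791 : act 4 n4695 = n6791 := rfl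
theorem F31097 : act 0 n6791 = n6791 := d3_1 D6791 (iv D6791) F22001
theorem F31098 : act 2 n6791 = n6791 := d18_1 D6791 (iv D6791) F22002
theorem F31099 : act 3 n6791 = n4732 := d24_1 D6791 (iv D4732) F15711 (iv F15606) (iv F22003)
def n6792 : Q := act 6 n4695
theorem D6792 : act 6 n4695 = n6792 := rfl
theorem F31100 : act 0 n6792 = n6792 := d5_1 D6792 (iv D6792) F22001
theorem F31101 : act 2 n6792 = n6792 := d20_1 D6792 (iv D6792) F22002
theorem F31102 : act 3 n6792 = n4697 := d26_1 D6792 (iv D4697) (iv F22003)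
theorem F31103 : act 5 n6792 = n6792 := d35_1 D6792 (iv D6792) (iv D4695) F15603 D4695
def n6793 : Q := act 8 n4695
theorem D6793 : act 8 n4695 = n6793 := rfl
theorem F31104 : act 0 n6793 = n6793 := d7_1 D6793 (iv D6793) F22001
theorem F31105 : act 2 n6793 = n6793 := d22_1 D6793 (iv D6793) F22002
theorem F31106 : act 3 n6793 = n6793 := d28_1 D6793 (iv D6793) F22003 F15607 (iv F22003)
theorem F31107 : act 5 n6793 = n4696 := d37_1 D6793 (iv D4696) D4695
def n6794 : Q := act 9 n4696
theorem D6794 : act 9 n4696 = n6794 := rfl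
theorem F31108 : act 0 n6794 = n6794 := d8_1 D6794 (iv D6794) F22004
theorem F31109 : act 2 n6794 = n6794 := d23_1 D6794 (iv D6794) F22005
theorem F31110 : act 3 n6794 = n6794 := d29_1 D6794 (iv D6794) F22006
theorem F31111 : act 6 n6794 = n6794 := d41_1 D6794 (iv D6794) F22007
def n6795 : Q := act 7 n4697
theorem D6795 : act 7 n4697 = n6795 := rfl
theorem F31112 : act 0 n6795 = n6795 := d6_1 D6795 (iv D6795) F22008
theorem F31113 : act 2 n6795 = n4698 := d21_1 D6795 (iv D4698) (iv F22009)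
theorem F31114 : act 4 n6795 = n4736 := d32_1 D6795 (iv D4736) (iv F22010)
theorem F31115 : act 5 n6795 = n6795 := d36_1 D6795 (iv D6795) F22011
theorem F31116 : act 8 n6795 = n6795 := d42_2 F22012 D6795 (iv D6795)
def n6796 : Q := act 0 n4699
theorem D6796 : act 0 n4699 = n6796 := rfl
theorem F31121 : act 7 n6796 = n4714 := d6_2 (iv F22022) D6796 (iv D4714)
theorem F31122 : act 8 n6796 = n4702 := d7_2 (iv F22023) D6796 (iv D4702)
def n6797 : Q := act 4 n4699
theorem D6797 : act 4 n4699 = n6797 := rfl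
theorem F31124 : act 1 n6797 = n4700 := d11_1 D6797 (iv D4700) D4699
theorem F31127 : act 7 n6797 = n4715 := d32_2 (iv F22022) D6797 (iv D4715)
theorem F31128 : act 8 n6797 = n4703 := d33_2 (iv F22023) D6797 (iv D4703)
def n6798 : Q := act 3 n4700
theorem D6798 : act 3 n4700 = n6798 := rfl
theorem F31130 : act 0 n6798 = n6798 := d2_1 D6798 (iv D6798) F22025
theorem F31131 : act 2 n6798 = n6798 := d17_1 D6798 (iv D6798) F22026 F15622 (iv F22026)
theorem F31132 : act 4 n6798 = n6798 := d24_2 D4700 D6798 (iv D6798) (iv D4700) F15615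
theorem F31133 : act 6 n6798 = n6798 := d26_2 F22027 D6798 (iv D6798)
theorem F31134 : act 7 n6798 = n4716 := d27_2 (iv F22028) D6798 (iv D4716)
theorem F31135 : act 9 n6798 = n6798 := d29_2 F22030 D6798 (iv D6798)
def n6799 : Q := act 5 n4700
theorem D6799 : act 5 n4700 = n6799 := rfl
theorem F31136 : act 0 n6799 = n6799 := d4_1 D6799 (iv D6799) F22025
theorem F31137 : act 2 n6799 = n4701 := d19_1 D6799 (iv D4701) (iv F22026)
theorem F31138 : act 7 n6799 = n4717 := d36_2 (iv F22028) D6799 (iv D4717)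
theorem F31139 : act 8 n6799 = n4705 := d37_2 (iv F22029) D6799 (iv D4705)
theorem F31140 : act 9 n6799 = n6799 := d38_2 F22030 D6799 (iv D6799)
def n6800 : Q := act 6 n4701
theorem D6800 : act 6 n4701 = n6800 := rfl
theorem F31141 : act 0 n6800 = n6800 := d5_1 D6800 (iv D6800) F22031
theorem F31142 : act 1 n6800 = n5110 := d13_1 D6800 (iv D5110) (iv F22032)
theorem F31143 : act 3 n6800 = n6800 := d26_1 D6800 (iv D6800) F22033
theorem F31144 : act 5 n6800 = n6800 := d35_1 D6800 (iv D6800) (iv D4701) F15623 D4701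
theorem F31145 : act 8 n6800 = n4706 := d40_2 (iv F22035) D6800 (iv D4706)
theorem F31146 : act 9 n6800 = n6800 := d41_2 F22036 D6800 (iv D6800)
def n6801 : Q := act 4 n4702
theorem D6801 : act 4 n4702 = n6801 := rfl
theorem F31147 : act 0 n6801 = n4703 := d3_1 D6801 (iv D4703) D4702
theorem F31149 : act 2 n6801 = n5111 := d18_1 D6801 (iv D5111) (iv F22038)
theorem F31151 : act 7 n6801 = n4719 := d32_2 (iv F22040) D6801 (iv D4719)
theorem F31152 : act 9 n6801 = n4707 := d34_2 (iv F22041) D6801 (iv D4707)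
def n6802 : Q := act 3 n4703
theorem D6802 : act 3 n4703 = n6802 := rfl
theorem F31153 : act 1 n6802 = n4704 := d10_1 D6802 (iv D4704) (iv F22042)
theorem F31154 : act 6 n6802 = n6802 := d26_2 F22044 D6802 (iv D6802)
theorem F31155 : act 7 n6802 = n4720 := d27_2 (iv F22045) D6802 (iv D4720)
theorem F31156 : act 9 n6802 = n4708 := d29_2 (iv F22046) D6802 (iv D4708)
def n6803 : Q := act 5 n4703
theorem D6803 : act 5 n4703 = n6803 := rfl
theorem F31157 : act 1 n6803 = n4705 := d12_1 D6803 (iv D4705) (iv F22042)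
theorem F31158 : act 2 n6803 = n5113 := d19_1 D6803 (iv D5113) (iv F22043)
theorem F31159 : act 7 n6803 = n4721 := d36_2 (iv F22045) D6803 (iv D4721)
theorem F31160 : act 9 n6803 = n4709 := d38_2 (iv F22046) D6803 (iv D4709)
def n6804 : Q := act 5 n4704
theorem D6804 : act 5 n4704 = n6804 := rfl
theorem F31161 : act 0 n6804 = n6804 := d4_1 D6804 (iv D6804) F22047
theorem F31162 : act 2 n6804 = n4774 := d19_1 D6804 (iv D4774) (iv F22048)
theorem F31163 : act 3 n6804 = n4705 := d25_1 D6804 (iv D4705) D4704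
theorem F31164 : act 7 n6804 = n4722 := d36_2 (iv F22050) D6804 (iv D4722)
theorem F31165 : act 9 n6804 = n4710 := d38_2 (iv F22051) D6804 (iv D4710)
def n6805 : Q := act 8 n4704
theorem D6805 : act 8 n4704 = n6805 := rfl
theorem F31166 : act 0 n6805 = n6805 := d7_1 D6805 (iv D6805) F22047
theorem F31167 : act 2 n6805 = n4775 := d22_1 D6805 (iv D4775) (iv F22048)
theorem F31168 : act 6 n6805 = n6805 := d40_1 D6805 (iv D6805) F22049
theorem F31169 : act 7 n6805 = n4723 := d42_1 D6805 (iv D4723) (iv F22050)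
def n6806 : Q := act 6 n4705
theorem D6806 : act 6 n4705 = n6806 := rfl
theorem F31170 : act 0 n6806 = n6806 := d5_1 D6806 (iv D6806) F22052
theorem F31171 : act 2 n6806 = n4706 := d20_1 D6806 (iv D4706) (iv F22053)
theorem F31172 : act 5 n6806 = n6806 := d35_1 D6806 (iv D6806) (iv D4705) F15633 D4705
theorem F31173 : act 9 n6806 = n4712 := d41_2 (iv F22055) D6806 (iv D4712)
def n6807 : Q := act 7 n4706
theorem D6807 : act 7 n4706 = n6807 := rfl
theorem F31174 : act 0 n6807 = n6807 := d6_1 D6807 (iv D6807) F22056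
theorem F31175 : act 1 n6807 = n5117 := d14_1 D6807 (iv D5117) (iv F22057)
theorem F31176 : act 3 n6807 = n4777 := d27_1 D6807 (iv D4777) (iv F22058)
theorem F31177 : act 5 n6807 = n6807 := d36_1 D6807 (iv D6807) F22059
theorem F31178 : act 6 n6807 = n4725 := d39_1 D6807 (iv D4725) (iv D3271) (iv F15639) D4706
theorem F31179 : act 9 n6807 = n4713 := d43_2 (iv F22060) D6807 (iv D4713)
def n6808 : Q := act 3 n4707
theorem D6808 : act 3 n4707 = n6808 := rfl
theorem F31180 : act 0 n6808 = n4708 := d2_1 D6808 (iv D4708) (iv F22061)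
theorem F31181 : act 1 n6808 = n6808 := d10_1 D6808 (iv D6808) F22062
theorem F31182 : act 6 n6808 = n6808 := d26_2 F22064 D6808 (iv D6808)
theorem F31183 : act 7 n6808 = n4726 := d27_2 (iv F22065) D6808 (iv D4726)
def n6809 : Q := act 5 n4707
theorem D6809 : act 5 n4707 = n6809 := rfl
theorem F31184 : act 0 n6809 = n4709 := d4_1 D6809 (iv D4709) (iv F22061)
theorem F31185 : act 1 n6809 = n6809 := d12_1 D6809 (iv D6809) F22062
theorem F31186 : act 2 n6809 = n5119 := d19_1 D6809 (iv D5119) (iv F22063)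
theorem F31187 : act 7 n6809 = n4727 := d36_2 (iv F22065) D6809 (iv D4727)
theorem F31188 : act 8 n6809 = n6809 := d37_2 F22066 D6809 (iv D6809)
def n6810 : Q := act 2 n4708
theorem D6810 : act 2 n4708 = n6810 := rfl
theorem F31189 : act 1 n6810 = n4780 := d9_1 D6810 (iv D4780) F15863 (iv F15652) (iv F22067)
theorem F31190 : act 3 n6810 = n5120 := d17_2 D4708 D6810 (iv D5120) (iv D3542) (iv F15647)
theorem F31191 : act 6 n6810 = n6810 := d20_2 F22068 D6810 (iv D6810)
theorem F31192 : act 7 n6810 = n4728 := d21_2 (iv F22069) D6810 (iv D4728)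
def n6811 : Q := act 5 n4708
theorem D6811 : act 5 n4708 = n6811 := rfl
theorem F31193 : act 1 n6811 = n4710 := d12_1 D6811 (iv D4710) (iv F22067)
theorem F31194 : act 3 n6811 = n4709 := d25_1 D6811 (iv D4709) D4708
theorem F31195 : act 7 n6811 = n4729 := d36_2 (iv F22069) D6811 (iv D4729)
def n6812 : Q := act 8 n4708
theorem D6812 : act 8 n4708 = n6812 := rfl
theorem F31196 : act 1 n6812 = n4711 := d15_1 D6812 (iv D4711) (iv F22067)
theorem F31197 : act 3 n6812 = n6812 := d28_1 D6812 (iv D6812) (iv D4708) F15650 D4708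
theorem F31198 : act 6 n6812 = n6812 := d40_1 D6812 (iv D6812) F22068
theorem F31199 : act 7 n6812 = n4730 := d42_1 D6812 (iv D4730) (iv F22069)
def n6813 : Q := act 6 n4709
theorem D6813 : act 6 n4709 = n6813 := rfl
theorem F31200 : act 1 n6813 = n4712 := d13_1 D6813 (iv D4712) (iv F22070)
theorem F31201 : act 2 n6813 = n5123 := d20_1 D6813 (iv D5123) (iv F22071)
theorem F31202 : act 5 n6813 = n6813 := d35_1 D6813 (iv D6813) (iv D4709) F15648 D4709
theorem F31203 : act 8 n6813 = n6813 := d40_2 F22073 D6813 (iv D6813)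
def n6814 : Q := act 4 n4710
theorem D6814 : act 4 n4710 = n6814 := rfl
theorem F31204 : act 0 n6814 = n6814 := d3_1 D6814 (iv D6814) F22074
theorem F31205 : act 2 n6814 = n4784 := d18_1 D6814 (iv D4784) (iv F22075)
theorem F31206 : act 7 n6814 = n4732 := d32_2 (iv F22077) D6814 (iv D4732)
def n6815 : Q := act 6 n4710
theorem D6815 : act 6 n4710 = n6815 := rfl
theorem F31207 : act 0 n6815 = n6815 := d5_1 D6815 (iv D6815) F22074
theorem F31208 : act 2 n6815 = n4785 := d20_1 D6815 (iv D4785) (iv F22075)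
theorem F31209 : act 3 n6815 = n4712 := d26_1 D6815 (iv D4712) (iv F22076)
theorem F31210 : act 5 n6815 = n6815 := d35_1 D6815 (iv D6815) (iv D4710) F15653 D4710
def n6816 : Q := act 8 n4710
theorem D6816 : act 8 n4710 = n6816 := rfl
theorem F31211 : act 0 n6816 = n6816 := d7_1 D6816 (iv D6816) F22074
theorem F31212 : act 2 n6816 = n4786 := d22_1 D6816 (iv D4786) (iv F22075)
theorem F31213 : act 3 n6816 = n6816 := d28_1 D6816 (iv D6816) F22076 F15658 (iv F22076)
theorem F31214 : act 5 n6816 = n4711 := d37_1 D6816 (iv D4711) D4710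
theorem F31215 : act 7 n6816 = n4734 := d42_1 D6816 (iv D4734) (iv F22077)
def n6817 : Q := act 9 n4711
theorem D6817 : act 9 n4711 = n6817 := rfl
theorem F31216 : act 0 n6817 = n6817 := d8_1 D6817 (iv D6817) F22078
theorem F31217 : act 2 n6817 = n4787 := d23_1 D6817 (iv D4787) (iv F22079)
theorem F31218 : act 3 n6817 = n6817 := d29_1 D6817 (iv D6817) F22080
theorem F31219 : act 6 n6817 = n6817 := d41_1 D6817 (iv D6817) F22081
theorem F31220 : act 7 n6817 = n4735 := d43_1 D6817 (iv D4735) (iv F22082)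
def n6818 : Q := act 7 n4712
theorem D6818 : act 7 n4712 = n6818 := rfl
theorem F31221 : act 0 n6818 = n6818 := d6_1 D6818 (iv D6818) F22083
theorem F31222 : act 2 n6818 = n4713 := d21_1 D6818 (iv D4713) (iv F22084)
theorem F31223 : act 5 n6818 = n6818 := d36_1 D6818 (iv D6818) F22085
theorem F31224 : act 6 n6818 = n4736 := d39_1 D6818 (iv D4736) (iv D3277) (iv F15657) D4712
theorem F31225 : act 8 n6818 = n6818 := d42_2 F22086 D6818 (iv D6818)
def n6819 : Q := act 4 n4714
theorem D6819 : act 4 n4714 = n6819 := rfl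
theorem F31229 : act 6 n6819 = n4737 := d31_2 (iv F22096) D6819 (iv D4737)
theorem F31230 : act 8 n6819 = n4719 := d33_2 (iv F22097) D6819 (iv D4719)
def n6820 : Q := act 3 n4715
theorem D6820 : act 3 n4715 = n6820 := rfl
theorem F31232 : act 1 n6820 = n4716 := d10_1 D6820 (iv D4716) (iv F22099)
def n6821 : Q := act 5 n4715
theorem D6821 : act 5 n4715 = n6821 := rfl
theorem F31236 : act 1 n6821 = n4717 := d12_1 D6821 (iv D4717) (iv F22099)
theorem F31237 : act 2 n6821 = n5136 := d19_1 D6821 (iv D5136) (iv F22100)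
theorem F31238 : act 8 n6821 = n4721 := d37_2 (iv F22102) D6821 (iv D4721)
def n6822 : Q := act 5 n4716
theorem D6822 : act 5 n4716 = n6822 := rfl
theorem F31240 : act 0 n6822 = n6822 := d4_1 D6822 (iv D6822) F22104
theorem F31241 : act 2 n6822 = n6822 := d19_1 D6822 (iv D6822) F22105
theorem F31242 : act 3 n6822 = n4717 := d25_1 D6822 (iv D4717) D4716
theorem F31243 : act 9 n6822 = n6822 := d38_2 F22108 D6822 (iv D6822)
def n6823 : Q := act 8 n4716
theorem D6823 : act 8 n4716 = n6823 := rfl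
theorem F31244 : act 0 n6823 = n6823 := d7_1 D6823 (iv D6823) F22104
theorem F31245 : act 2 n6823 = n6823 := d22_1 D6823 (iv D6823) F22105
theorem F31246 : act 3 n6823 = n4723 := d28_1 D6823 (iv D4723) (iv D3269) (iv F15672) D4716
theorem F31247 : act 4 n6823 = n6823 := d33_1 D6823 (iv D6823) F22106
theorem F31248 : act 6 n6823 = n4741 := d40_1 D6823 (iv D4741) (iv F22107)
def n6824 : Q := act 6 n4717
theorem D6824 : act 6 n4717 = n6824 := rfl
theorem F31249 : act 0 n6824 = n6824 := d5_1 D6824 (iv D6824) F22109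
theorem F31250 : act 2 n6824 = n4718 := d20_1 D6824 (iv D4718) (iv F22110)
theorem F31251 : act 5 n6824 = n4742 := d35_1 D6824 (iv D4742) (iv D3282) (iv F15671) D4717
theorem F31252 : act 8 n6824 = n4724 := d40_2 (iv F22111) D6824 (iv D4724)
theorem F31253 : act 9 n6824 = n6824 := d41_2 F22112 D6824 (iv D6824)
def n6825 : Q := act 7 n4718
theorem D6825 : act 7 n4718 = n6825 := rfl
theorem F31254 : act 0 n6825 = n6825 := d6_1 D6825 (iv D6825) F22113
theorem F31255 : act 1 n6825 = n5140 := d14_1 D6825 (iv D5140) (iv F22114)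
theorem F31256 : act 3 n6825 = n6825 := d27_1 D6825 (iv D6825) F22115
theorem F31257 : act 5 n6825 = n4743 := d36_1 D6825 (iv D4743) (iv F22116)
theorem F31258 : act 8 n6825 = n4725 := d42_2 (iv F22117) D6825 (iv D4725)
theorem F31259 : act 9 n6825 = n6825 := d43_2 F22118 D6825 (iv D6825)
def n6826 : Q := act 3 n4719
theorem D6826 : act 3 n4719 = n6826 := rfl
theorem F31260 : act 0 n6826 = n4720 := d2_1 D6826 (iv D4720) (iv F22119)
theorem F31262 : act 6 n6826 = n4744 := d26_2 (iv F22122) D6826 (iv D4744)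
theorem F31263 : act 9 n6826 = n4726 := d29_2 (iv F22123) D6826 (iv D4726)
def n6827 : Q := act 5 n4719
theorem D6827 : act 5 n4719 = n6827 := rfl
theorem F31264 : act 0 n6827 = n4721 := d4_1 D6827 (iv D4721) (iv F22119)
theorem F31267 : act 9 n6827 = n4727 := d38_2 (iv F22123) D6827 (iv D4727)
def n6828 : Q := act 2 n4720
theorem D6828 : act 2 n4720 = n6828 := rfl
theorem F31268 : act 1 n6828 = n4791 := d9_1 D6828 (iv D4791) F15895 (iv F15688) (iv F22124)
theorem F31269 : act 3 n6828 = n5143 := d17_2 D4720 D6828 (iv D5143) (iv D3557) (iv F15684)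
theorem F31270 : act 6 n6828 = n4746 := d20_2 (iv F22125) D6828 (iv D4746)
theorem F31271 : act 9 n6828 = n4728 := d23_2 (iv F22126) D6828 (iv D4728)
def n6829 : Q := act 5 n4720
theorem D6829 : act 5 n4720 = n6829 := rfl
theorem F31272 : act 1 n6829 = n4722 := d12_1 D6829 (iv D4722) (iv F22124)
theorem F31273 : act 3 n6829 = n4721 := d25_1 D6829 (iv D4721) D4720
theorem F31274 : act 9 n6829 = n4729 := d38_2 (iv F22126) D6829 (iv D4729)
def n6830 : Q := act 8 n4720
theorem D6830 : act 8 n4720 = n6830 := rfl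
theorem F31275 : act 1 n6830 = n4723 := d15_1 D6830 (iv D4723) (iv F22124)
theorem F31276 : act 6 n6830 = n4748 := d40_1 D6830 (iv D4748) (iv F22125)
def n6831 : Q := act 6 n4721
theorem D6831 : act 6 n4721 = n6831 := rfl
theorem F31277 : act 1 n6831 = n4724 := d13_1 D6831 (iv D4724) (iv F22127)
theorem F31278 : act 2 n6831 = n5146 := d20_1 D6831 (iv D5146) (iv F22128)
theorem F31279 : act 5 n6831 = n4749 := d35_1 D6831 (iv D4749) (iv D3286) (iv F15685) D4721
theorem F31280 : act 9 n6831 = n4731 := d41_2 (iv F22129) D6831 (iv D4731)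
def n6832 : Q := act 4 n4722
theorem D6832 : act 4 n4722 = n6832 := rfl
theorem F31281 : act 0 n6832 = n6832 := d3_1 D6832 (iv D6832) F22130
theorem F31282 : act 2 n6832 = n4795 := d18_1 D6832 (iv D4795) (iv F22131)
theorem F31283 : act 9 n6832 = n4732 := d34_2 (iv F22133) D6832 (iv D4732)
def n6833 : Q := act 6 n4722
theorem D6833 : act 6 n4722 = n6833 := rfl
theorem F31284 : act 0 n6833 = n6833 := d5_1 D6833 (iv D6833) F22130
theorem F31285 : act 2 n6833 = n4796 := d20_1 D6833 (iv D4796) (iv F22131)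
theorem F31286 : act 3 n6833 = n4724 := d26_1 D6833 (iv D4724) (iv F22132)
theorem F31287 : act 5 n6833 = n4751 := d35_1 D6833 (iv D4751) (iv D3287) (iv F15689) D4722
theorem F31288 : act 9 n6833 = n4733 := d41_2 (iv F22133) D6833 (iv D4733)
def n6834 : Q := act 8 n4722
theorem D6834 : act 8 n4722 = n6834 := rfl
theorem F31289 : act 0 n6834 = n6834 := d7_1 D6834 (iv D6834) F22130
theorem F31290 : act 2 n6834 = n4797 := d22_1 D6834 (iv D4797) (iv F22131)
theorem F31291 : act 5 n6834 = n4723 := d37_1 D6834 (iv D4723) D4722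
def n6835 : Q := act 9 n4723
theorem D6835 : act 9 n4723 = n6835 := rfl
theorem F31292 : act 0 n6835 = n6835 := d8_1 D6835 (iv D6835) F22134
theorem F31293 : act 2 n6835 = n4798 := d23_1 D6835 (iv D4798) (iv F22135)
theorem F31294 : act 6 n6835 = n4753 := d41_1 D6835 (iv D4753) (iv F22136)
theorem F31295 : act 8 n6835 = n4735 := d44_1 D6835 (iv D4735) (iv D3276) (iv F15690) D4723
def n6836 : Q := act 7 n4724
theorem D6836 : act 7 n4724 = n6836 := rfl
theorem F31296 : act 0 n6836 = n6836 := d6_1 D6836 (iv D6836) F22137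
theorem F31297 : act 2 n6836 = n4725 := d21_1 D6836 (iv D4725) (iv F22138)
theorem F31298 : act 5 n6836 = n4754 := d36_1 D6836 (iv D4754) (iv F22139)
theorem F31299 : act 9 n6836 = n4736 := d43_2 (iv F22140) D6836 (iv D4736)
def n6837 : Q := act 2 n4726
theorem D6837 : act 2 n4726 = n6837 := rfl
theorem F31300 : act 0 n6837 = n4728 := d1_1 D6837 (iv D4728) (iv F22146)
theorem F31301 : act 3 n6837 = n5152 := d17_2 D4726 D6837 (iv D5152) (iv D3563) (iv F15701)
theorem F31302 : act 6 n6837 = n4755 := d20_2 (iv F22148) D6837 (iv D4755)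
def n6838 : Q := act 5 n4726
theorem D6838 : act 5 n4726 = n6838 := rfl
theorem F31303 : act 0 n6838 = n4729 := d4_1 D6838 (iv D4729) (iv F22146)
theorem F31304 : act 1 n6838 = n6838 := d12_1 D6838 (iv D6838) F22147
theorem F31305 : act 3 n6838 = n4727 := d25_1 D6838 (iv D4727) D4726
def n6839 : Q := act 8 n4726
theorem D6839 : act 8 n4726 = n6839 := rfl
theorem F31306 : act 0 n6839 = n4730 := d7_1 D6839 (iv D4730) (iv F22146)
theorem F31307 : act 1 n6839 = n6839 := d15_1 D6839 (iv D6839) F22147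
theorem F31308 : act 3 n6839 = n6839 := d28_1 D6839 (iv D6839) (iv D4726) F15703 D4726
theorem F31309 : act 6 n6839 = n4757 := d40_1 D6839 (iv D4757) (iv F22148)
def n6840 : Q := act 6 n4727
theorem D6840 : act 6 n4727 = n6840 := rfl
theorem F31310 : act 0 n6840 = n4731 := d5_1 D6840 (iv D4731) (iv F22149)
theorem F31311 : act 1 n6840 = n6840 := d13_1 D6840 (iv D6840) F22150
theorem F31312 : act 2 n6840 = n5155 := d20_1 D6840 (iv D5155) (iv F22151)
theorem F31313 : act 5 n6840 = n4758 := d35_1 D6840 (iv D4758) (iv D3292) (iv F15702) D4727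
theorem F31314 : act 8 n6840 = n6840 := d40_2 F22152 D6840 (iv D6840)
def n6841 : Q := act 5 n4728
theorem D6841 : act 5 n4728 = n6841 := rfl
theorem F31315 : act 1 n6841 = n4804 := d12_1 D6841 (iv D4804) (iv F22153)
theorem F31316 : act 2 n6841 = n4729 := d19_1 D6841 (iv D4729) D4728
theorem F31317 : act 3 n6841 = n5156 := d25_1 D6841 (iv D5156) (iv F22154)
def n6842 : Q := act 8 n4728
theorem D6842 : act 8 n4728 = n6842 := rfl
theorem F31318 : act 1 n6842 = n4805 := d15_1 D6842 (iv D4805) (iv F22153)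
theorem F31319 : act 2 n6842 = n4730 := d22_1 D6842 (iv D4730) D4728
theorem F31320 : act 6 n6842 = n4760 := d40_1 D6842 (iv D4760) (iv F22155)
def n6843 : Q := act 4 n4729
theorem D6843 : act 4 n4729 = n6843 := rfl
theorem F31321 : act 1 n6843 = n4732 := d11_1 D6843 (iv D4732) (iv F22156)
def n6844 : Q := act 6 n4729
theorem D6844 : act 6 n4729 = n6844 := rfl
theorem F31322 : act 1 n6844 = n4733 := d13_1 D6844 (iv D4733) (iv F22156)
theorem F31323 : act 3 n6844 = n4731 := d26_1 D6844 (iv D4731) (iv F22157)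
theorem F31324 : act 5 n6844 = n4762 := d35_1 D6844 (iv D4762) (iv D3294) (iv F15705) D4729
def n6845 : Q := act 8 n4729
theorem D6845 : act 8 n4729 = n6845 := rfl
theorem F31325 : act 1 n6845 = n4734 := d15_1 D6845 (iv D4734) (iv F22156)
theorem F31326 : act 3 n6845 = n6845 := d28_1 D6845 (iv D6845) F22157 F15708 (iv F22157)
theorem F31327 : act 5 n6845 = n4730 := d37_1 D6845 (iv D4730) D4729
def n6846 : Q := act 9 n4730
theorem D6846 : act 9 n4730 = n6846 := rfl
theorem F31328 : act 1 n6846 = n4735 := d16_1 D6846 (iv D4735) (iv F22158)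
theorem F31329 : act 3 n6846 = n6846 := d29_1 D6846 (iv D6846) F22159
theorem F31330 : act 6 n6846 = n4764 := d41_1 D6846 (iv D4764) (iv F22160)
def n6847 : Q := act 7 n4731
theorem D6847 : act 7 n4731 = n6847 := rfl
theorem F31331 : act 1 n6847 = n4736 := d14_1 D6847 (iv D4736) (iv F22161)
theorem F31332 : act 2 n6847 = n5162 := d21_1 D6847 (iv D5162) (iv F22162)
theorem F31333 : act 5 n6847 = n4765 := d36_1 D6847 (iv D4765) (iv F22163)
theorem F31334 : act 8 n6847 = n6847 := d42_2 F22164 D6847 (iv D6847)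
def n6848 : Q := act 6 n4732
theorem D6848 : act 6 n4732 = n6848 := rfl
theorem F31335 : act 0 n6848 = n6848 := d5_1 D6848 (iv D6848) F22165
theorem F31336 : act 2 n6848 = n4811 := d20_1 D6848 (iv D4811) (iv F22166)
theorem F31337 : act 4 n6848 = n4733 := d31_1 D6848 (iv D4733) D4732
def n6849 : Q := act 8 n4732
theorem D6849 : act 8 n4732 = n6849 := rfl
theorem F31338 : act 0 n6849 = n6849 := d7_1 D6849 (iv D6849) F22165
theorem F31339 : act 2 n6849 = n4812 := d22_1 D6849 (iv D4812) (iv F22166)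
theorem F31340 : act 4 n6849 = n4734 := d33_1 D6849 (iv D4734) D4732
def n6850 : Q := act 7 n4733
theorem D6850 : act 7 n4733 = n6850 := rfl
theorem F31341 : act 0 n6850 = n6850 := d6_1 D6850 (iv D6850) F22167
theorem F31342 : act 2 n6850 = n4813 := d21_1 D6850 (iv D4813) (iv F22168)
theorem F31343 : act 3 n6850 = n4736 := d27_1 D6850 (iv D4736) (iv F22169)
theorem F31344 : act 5 n6850 = n4768 := d36_1 D6850 (iv D4768) (iv F22170)
def n6851 : Q := act 8 n4733
theorem D6851 : act 8 n4733 = n6851 := rfl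
theorem F31345 : act 0 n6851 = n6851 := d7_1 D6851 (iv D6851) F22167
theorem F31346 : act 2 n6851 = n4814 := d22_1 D6851 (iv D4814) (iv F22168)
theorem F31347 : act 3 n6851 = n6851 := d28_1 D6851 (iv D6851) F22169 F15719 (iv F22169)
theorem F31348 : act 5 n6851 = n4769 := d37_1 D6851 (iv D4769) (iv F22170)
theorem F31349 : act 6 n6851 = n4734 := d40_1 D6851 (iv D4734) D4733
def n6852 : Q := act 9 n4734
theorem D6852 : act 9 n4734 = n6852 := rfl
theorem F31350 : act 0 n6852 = n6852 := d8_1 D6852 (iv D6852) F22171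
theorem F31351 : act 2 n6852 = n4815 := d23_1 D6852 (iv D4815) (iv F22172)
theorem F31352 : act 3 n6852 = n6852 := d29_1 D6852 (iv D6852) F22173
theorem F31353 : act 5 n6852 = n4735 := d38_1 D6852 (iv D4735) (iv F22174)
def n6854 : Q := act 5 n4737
theorem D6854 : act 5 n4737 = n6854 := rfl
theorem F31364 : act 8 n6854 = n4745 := d37_2 (iv F22187) D6854 (iv D4745)
def n6855 : Q := act 2 n4738
theorem D6855 : act 2 n4738 = n6855 := rfl
theorem F31367 : act 3 n6855 = n5177 := d17_2 D4738 D6855 (iv D5177) (iv D3580) (iv F15733)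
def n6856 : Q := act 5 n4738
theorem D6856 : act 5 n4738 = n6856 := rfl
theorem F31371 : act 1 n6856 = n4740 := d12_1 D6856 (iv D4740) (iv F22189)
theorem F31372 : act 3 n6856 = n4739 := d25_1 D6856 (iv D4739) D4738
def n6857 : Q := act 8 n4738
theorem D6857 : act 8 n4738 = n6857 := rfl
theorem F31375 : act 1 n6857 = n4741 := d15_1 D6857 (iv D4741) (iv F22189)
theorem F31376 : act 3 n6857 = n4748 := d28_1 D6857 (iv D4748) (iv D3285) (iv F15735) D4738
def n6858 : Q := act 6 n4739
theorem D6858 : act 6 n4739 = n6858 := rfl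
theorem F31379 : act 1 n6858 = n4742 := d13_1 D6858 (iv D4742) (iv F22193)
theorem F31382 : act 8 n6858 = n4749 := d40_2 (iv F22197) D6858 (iv D4749)
def n6859 : Q := act 4 n4740
theorem D6859 : act 4 n4740 = n6859 := rfl
theorem F31384 : act 0 n6859 = n6859 := d3_1 D6859 (iv D6859) F22199
theorem F31385 : act 2 n6859 = n6859 := d18_1 D6859 (iv D6859) F22200
theorem F31386 : act 3 n6859 = n6859 := d24_1 D6859 (iv D6859) F22201 F15744 (iv F22201)
theorem F31387 : act 5 n6859 = n6859 := d30_2 D4740 D6859 (iv D6859) (iv D4740) F15739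
theorem F31388 : act 7 n6859 = n6859 := d32_2 F22202 D6859 (iv D6859)
theorem F31389 : act 9 n6859 = n6859 := d34_2 F22203 D6859 (iv D6859)
def n6860 : Q := act 6 n4740
theorem D6860 : act 6 n4740 = n6860 := rfl
theorem F31390 : act 0 n6860 = n6860 := d5_1 D6860 (iv D6860) F22199
theorem F31391 : act 2 n6860 = n6860 := d20_1 D6860 (iv D6860) F22200
theorem F31392 : act 3 n6860 = n4742 := d26_1 D6860 (iv D4742) (iv F22201)
theorem F31393 : act 9 n6860 = n6860 := d41_2 F22203 D6860 (iv D6860)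
def n6861 : Q := act 8 n4740
theorem D6861 : act 8 n4740 = n6861 := rfl
theorem F31394 : act 0 n6861 = n6861 := d7_1 D6861 (iv D6861) F22199
theorem F31395 : act 2 n6861 = n6861 := d22_1 D6861 (iv D6861) F22200
theorem F31396 : act 3 n6861 = n4752 := d28_1 D6861 (iv D4752) F15769 (iv F15746) (iv F22201)
theorem F31397 : act 5 n6861 = n4741 := d37_1 D6861 (iv D4741) D4740
theorem F31398 : act 7 n6861 = n6861 := d42_1 D6861 (iv D6861) F22202
def n6862 : Q := act 9 n4741
theorem D6862 : act 9 n4741 = n6862 := rfl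
theorem F31399 : act 0 n6862 = n6862 := d8_1 D6862 (iv D6862) F22204
theorem F31400 : act 2 n6862 = n6862 := d23_1 D6862 (iv D6862) F22205
theorem F31401 : act 3 n6862 = n4753 := d29_1 D6862 (iv D4753) (iv F22206)
theorem F31402 : act 4 n6862 = n6862 := d34_1 D6862 (iv D6862) F22207
theorem F31403 : act 7 n6862 = n6862 := d43_1 D6862 (iv D6862) F22208
theorem F31404 : act 8 n6862 = n6862 := d44_1 D6862 (iv D6862) (iv D4741) F15741 D4741
def n6863 : Q := act 7 n4742
theorem D6863 : act 7 n4742 = n6863 := rfl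
theorem F31405 : act 0 n6863 = n6863 := d6_1 D6863 (iv D6863) F22209
theorem F31406 : act 2 n6863 = n4743 := d21_1 D6863 (iv D4743) (iv F22210)
theorem F31407 : act 4 n6863 = n6863 := d32_1 D6863 (iv D6863) F22211
theorem F31408 : act 6 n6863 = n6863 := d39_1 D6863 (iv D6863) (iv D4742) F15745 D4742
theorem F31409 : act 8 n6863 = n4754 := d42_2 (iv F22212) D6863 (iv D4754)
theorem F31410 : act 9 n6863 = n6863 := d43_2 F22213 D6863 (iv D6863)
def n6864 : Q := act 2 n4744
theorem D6864 : act 2 n4744 = n6864 := rfl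
theorem F31411 : act 0 n6864 = n4746 := d1_1 D6864 (iv D4746) (iv F22221)
theorem F31412 : act 3 n6864 = n5186 := d17_2 D4744 D6864 (iv D5186) (iv D3586) (iv F15756)
theorem F31414 : act 9 n6864 = n4755 := d23_2 (iv F22224) D6864 (iv D4755)
def n6865 : Q := act 5 n4744
theorem D6865 : act 5 n4744 = n6865 := rfl
theorem F31415 : act 0 n6865 = n4747 := d4_1 D6865 (iv D4747) (iv F22221)
theorem F31417 : act 3 n6865 = n4745 := d25_1 D6865 (iv D4745) D4744
theorem F31419 : act 9 n6865 = n4756 := d38_2 (iv F22224) D6865 (iv D4756)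
def n6866 : Q := act 8 n4744
theorem D6866 : act 8 n4744 = n6866 := rfl
theorem F31420 : act 0 n6866 = n4748 := d7_1 D6866 (iv D4748) (iv F22221)
def n6867 : Q := act 6 n4745
theorem D6867 : act 6 n4745 = n6867 := rfl
theorem F31423 : act 0 n6867 = n4749 := d5_1 D6867 (iv D4749) (iv F22225)
theorem F31425 : act 2 n6867 = n5189 := d20_1 D6867 (iv D5189) (iv F22227)
theorem F31427 : act 9 n6867 = n4758 := d41_2 (iv F22230) D6867 (iv D4758)
def n6868 : Q := act 5 n4746
theorem D6868 : act 5 n4746 = n6868 := rfl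
theorem F31428 : act 1 n6868 = n4820 := d12_1 D6868 (iv D4820) (iv F22231)
theorem F31429 : act 2 n6868 = n4747 := d19_1 D6868 (iv D4747) D4746
theorem F31430 : act 3 n6868 = n5190 := d25_1 D6868 (iv D5190) (iv F22232)
theorem F31431 : act 7 n6868 = n6868 := d36_2 F22233 D6868 (iv D6868)
theorem F31432 : act 9 n6868 = n4759 := d38_2 (iv F22234) D6868 (iv D4759)
def n6869 : Q := act 8 n4746
theorem D6869 : act 8 n4746 = n6869 := rfl
theorem F31433 : act 1 n6869 = n4821 := d15_1 D6869 (iv D4821) (iv F22231)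
theorem F31434 : act 2 n6869 = n4748 := d22_1 D6869 (iv D4748) D4746
theorem F31435 : act 7 n6869 = n6869 := d42_1 D6869 (iv D6869) F22233
def n6870 : Q := act 4 n4747
theorem D6870 : act 4 n4747 = n6870 := rfl
theorem F31436 : act 1 n6870 = n4750 := d11_1 D6870 (iv D4750) (iv F22235)
theorem F31437 : act 3 n6870 = n6870 := d24_1 D6870 (iv D6870) F22236 F15764 (iv F22236)
theorem F31438 : act 7 n6870 = n6870 := d32_2 F22237 D6870 (iv D6870)
theorem F31439 : act 9 n6870 = n4761 := d34_2 (iv F22238) D6870 (iv D4761)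
def n6871 : Q := act 6 n4747
theorem D6871 : act 6 n4747 = n6871 := rfl
theorem F31440 : act 1 n6871 = n4751 := d13_1 D6871 (iv D4751) (iv F22235)
theorem F31441 : act 3 n6871 = n4749 := d26_1 D6871 (iv D4749) (iv F22236)
theorem F31442 : act 9 n6871 = n4762 := d41_2 (iv F22238) D6871 (iv D4762)
def n6872 : Q := act 8 n4747
theorem D6872 : act 8 n4747 = n6872 := rfl
theorem F31443 : act 1 n6872 = n4752 := d15_1 D6872 (iv D4752) (iv F22235)
theorem F31444 : act 5 n6872 = n4748 := d37_1 D6872 (iv D4748) D4747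
theorem F31445 : act 7 n6872 = n6872 := d42_1 D6872 (iv D6872) F22237
def n6873 : Q := act 9 n4748
theorem D6873 : act 9 n4748 = n6873 := rfl
theorem F31446 : act 1 n6873 = n4753 := d16_1 D6873 (iv D4753) (iv F22239)
theorem F31447 : act 7 n6873 = n6873 := d43_1 D6873 (iv D6873) F22240
theorem F31448 : act 8 n6873 = n4764 := d44_1 D6873 (iv D4764) (iv D3295) (iv F15761) D4748
def n6874 : Q := act 7 n4749
theorem D6874 : act 7 n4749 = n6874 := rfl
theorem F31449 : act 1 n6874 = n4754 := d14_1 D6874 (iv D4754) (iv F22241)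
theorem F31450 : act 2 n6874 = n5196 := d21_1 D6874 (iv D5196) (iv F22242)
theorem F31451 : act 4 n6874 = n6874 := d32_1 D6874 (iv D6874) F22243
theorem F31452 : act 6 n6874 = n6874 := d39_1 D6874 (iv D6874) (iv D4749) F15765 D4749
theorem F31453 : act 9 n6874 = n4765 := d43_2 (iv F22244) D6874 (iv D4765)
def n6875 : Q := act 6 n4750
theorem D6875 : act 6 n4750 = n6875 := rfl
theorem F31454 : act 0 n6875 = n6875 := d5_1 D6875 (iv D6875) F22245
theorem F31455 : act 2 n6875 = n4827 := d20_1 D6875 (iv D4827) (iv F22246)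
theorem F31456 : act 3 n6875 = n6875 := d26_1 D6875 (iv D6875) F22247
theorem F31457 : act 4 n6875 = n4751 := d31_1 D6875 (iv D4751) D4750
theorem F31458 : act 9 n6875 = n4766 := d41_2 (iv F22249) D6875 (iv D4766)
def n6876 : Q := act 8 n4750
theorem D6876 : act 8 n4750 = n6876 := rfl
theorem F31459 : act 0 n6876 = n6876 := d7_1 D6876 (iv D6876) F22245
theorem F31460 : act 2 n6876 = n4828 := d22_1 D6876 (iv D4828) (iv F22246)
theorem F31461 : act 4 n6876 = n4752 := d33_1 D6876 (iv D4752) D4750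
theorem F31462 : act 7 n6876 = n6876 := d42_1 D6876 (iv D6876) F22248
def n6877 : Q := act 7 n4751
theorem D6877 : act 7 n4751 = n6877 := rfl
theorem F31463 : act 0 n6877 = n6877 := d6_1 D6877 (iv D6877) F22250
theorem F31464 : act 2 n6877 = n4829 := d21_1 D6877 (iv D4829) (iv F22251)
theorem F31465 : act 3 n6877 = n4754 := d27_1 D6877 (iv D4754) (iv F22252)
theorem F31466 : act 6 n6877 = n6877 := d39_1 D6877 (iv D6877) (iv D4751) F15770 D4751
theorem F31467 : act 9 n6877 = n4768 := d43_2 (iv F22253) D6877 (iv D4768)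
def n6878 : Q := act 8 n4751
theorem D6878 : act 8 n4751 = n6878 := rfl
theorem F31468 : act 0 n6878 = n6878 := d7_1 D6878 (iv D6878) F22250
theorem F31469 : act 2 n6878 = n4830 := d22_1 D6878 (iv D4830) (iv F22251)
theorem F31470 : act 6 n6878 = n4752 := d40_1 D6878 (iv D4752) D4751
def n6879 : Q := act 9 n4752
theorem D6879 : act 9 n4752 = n6879 := rfl
theorem F31471 : act 0 n6879 = n6879 := d8_1 D6879 (iv D6879) F22254
theorem F31472 : act 2 n6879 = n4831 := d23_1 D6879 (iv D4831) (iv F22255)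
theorem F31473 : act 5 n6879 = n4753 := d38_1 D6879 (iv D4753) (iv F22256)
theorem F31474 : act 7 n6879 = n6879 := d43_1 D6879 (iv D6879) F22257
theorem F31475 : act 8 n6879 = n4770 := d44_1 D6879 (iv D4770) (iv D3299) (iv F15771) D4752
def n6880 : Q := act 1 n4755
theorem D6880 : act 1 n4755 = n6880 := rfl
theorem F31476 : act 0 n6880 = n4832 := d0_1 D6880 (iv D4832) F16004 (iv F15794) (iv F22267)
theorem F31477 : act 2 n6880 = n6880 := d9_2 D4755 D6880 (iv D6880) (iv D4755) F15786
theorem F31478 : act 3 n6880 = n5202 := d10_2 (iv F22268) D6880 (iv D5202)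
theorem F31479 : act 7 n6880 = n6880 := d14_2 F22269 D6880 (iv D6880)
def n6881 : Q := act 5 n4755
theorem D6881 : act 5 n4755 = n6881 := rfl
theorem F31480 : act 0 n6881 = n4759 := d4_1 D6881 (iv D4759) (iv F22267)
theorem F31481 : act 2 n6881 = n4756 := d19_1 D6881 (iv D4756) D4755
theorem F31482 : act 3 n6881 = n5203 := d25_1 D6881 (iv D5203) (iv F22268)
theorem F31483 : act 7 n6881 = n6881 := d36_2 F22269 D6881 (iv D6881)
def n6882 : Q := act 8 n4755
theorem D6882 : act 8 n4755 = n6882 := rfl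
theorem F31484 : act 0 n6882 = n4760 := d7_1 D6882 (iv D4760) (iv F22267)
theorem F31485 : act 2 n6882 = n4757 := d22_1 D6882 (iv D4757) D4755
theorem F31486 : act 7 n6882 = n6882 := d42_1 D6882 (iv D6882) F22269
def n6883 : Q := act 4 n4756
theorem D6883 : act 4 n4756 = n6883 := rfl
theorem F31487 : act 0 n6883 = n4761 := d3_1 D6883 (iv D4761) (iv F22270)
theorem F31488 : act 1 n6883 = n6883 := d11_1 D6883 (iv D6883) F22271
theorem F31489 : act 3 n6883 = n6883 := d24_1 D6883 (iv D6883) F22272 F15791 (iv F22272)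
theorem F31490 : act 7 n6883 = n6883 := d32_2 F22273 D6883 (iv D6883)
def n6884 : Q := act 6 n4756
theorem D6884 : act 6 n4756 = n6884 := rfl
theorem F31491 : act 0 n6884 = n4762 := d5_1 D6884 (iv D4762) (iv F22270)
theorem F31492 : act 1 n6884 = n6884 := d13_1 D6884 (iv D6884) F22271
theorem F31493 : act 3 n6884 = n4758 := d26_1 D6884 (iv D4758) (iv F22272)
def n6885 : Q := act 8 n4756
theorem D6885 : act 8 n4756 = n6885 := rfl
theorem F31494 : act 0 n6885 = n4763 := d7_1 D6885 (iv D4763) (iv F22270)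
theorem F31495 : act 1 n6885 = n6885 := d15_1 D6885 (iv D6885) F22271
theorem F31496 : act 3 n6885 = n6885 := d28_1 D6885 (iv D6885) F22272 F15793 (iv F22272)
theorem F31497 : act 5 n6885 = n4757 := d37_1 D6885 (iv D4757) D4756
theorem F31498 : act 7 n6885 = n6885 := d42_1 D6885 (iv D6885) F22273
def n6886 : Q := act 9 n4757
theorem D6886 : act 9 n4757 = n6886 := rfl
theorem F31499 : act 0 n6886 = n4764 := d8_1 D6886 (iv D4764) (iv F22274)
theorem F31500 : act 1 n6886 = n6886 := d16_1 D6886 (iv D6886) F22275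
theorem F31501 : act 3 n6886 = n6886 := d29_1 D6886 (iv D6886) F22276
theorem F31502 : act 7 n6886 = n6886 := d43_1 D6886 (iv D6886) F22277
def n6887 : Q := act 7 n4758
theorem D6887 : act 7 n4758 = n6887 := rfl
theorem F31503 : act 0 n6887 = n4765 := d6_1 D6887 (iv D4765) (iv F22278)
theorem F31504 : act 1 n6887 = n6887 := d14_1 D6887 (iv D6887) F22279
theorem F31505 : act 2 n6887 = n5209 := d21_1 D6887 (iv D5209) (iv F22280)
theorem F31506 : act 4 n6887 = n6887 := d32_1 D6887 (iv D6887) F22281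
theorem F31507 : act 6 n6887 = n6887 := d39_1 D6887 (iv D6887) (iv D4758) F15792 D4758
theorem F31508 : act 8 n6887 = n6887 := d42_2 F22282 D6887 (iv D6887)
def n6888 : Q := act 4 n4759
theorem D6888 : act 4 n4759 = n6888 := rfl
theorem F31509 : act 1 n6888 = n4840 := d11_1 D6888 (iv D4840) (iv F22283)
theorem F31510 : act 2 n6888 = n4761 := d18_1 D6888 (iv D4761) (iv F22284)
theorem F31511 : act 7 n6888 = n6888 := d32_2 F22286 D6888 (iv D6888)
def n6889 : Q := act 6 n4759
theorem D6889 : act 6 n4759 = n6889 := rfl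
theorem F31512 : act 1 n6889 = n4841 := d13_1 D6889 (iv D4841) (iv F22283)
theorem F31513 : act 2 n6889 = n4762 := d20_1 D6889 (iv D4762) (iv F22284)
theorem F31514 : act 3 n6889 = n5211 := d26_1 D6889 (iv D5211) (iv F22285)
def n6890 : Q := act 8 n4759
theorem D6890 : act 8 n4759 = n6890 := rfl
theorem F31515 : act 1 n6890 = n4842 := d15_1 D6890 (iv D4842) (iv F22283)
theorem F31516 : act 2 n6890 = n4763 := d22_1 D6890 (iv D4763) (iv F22284)
theorem F31517 : act 5 n6890 = n4760 := d37_1 D6890 (iv D4760) D4759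
theorem F31518 : act 7 n6890 = n6890 := d42_1 D6890 (iv D6890) F22286
def n6891 : Q := act 3 n4760
theorem D6891 : act 3 n4760 = n6891 := rfl
theorem F31519 : act 1 n6891 = n4843 := d10_1 D6891 (iv D4843) (iv F22287)
theorem F31520 : act 2 n6891 = n6891 := d17_1 D6891 (iv D6891) F22288 F15801 (iv F22288)
theorem F31521 : act 7 n6891 = n6891 := d27_2 F22289 D6891 (iv D6891)
theorem F31522 : act 8 n6891 = n5213 := d28_2 D4760 D6891 (iv D5213) (iv D3602) (iv F15795)
def n6892 : Q := act 9 n4760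
theorem D6892 : act 9 n4760 = n6892 := rfl
theorem F31523 : act 1 n6892 = n4844 := d16_1 D6892 (iv D4844) (iv F22287)
theorem F31524 : act 2 n6892 = n4764 := d23_1 D6892 (iv D4764) (iv F22288)
theorem F31525 : act 7 n6892 = n6892 := d43_1 D6892 (iv D6892) F22289
def n6893 : Q := act 6 n4761
theorem D6893 : act 6 n4761 = n6893 := rfl
theorem F31526 : act 1 n6893 = n4766 := d13_1 D6893 (iv D4766) (iv F22290)
theorem F31527 : act 3 n6893 = n6893 := d26_1 D6893 (iv D6893) F22291
theorem F31528 : act 4 n6893 = n4762 := d31_1 D6893 (iv D4762) D4761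
def n6894 : Q := act 8 n4761
theorem D6894 : act 8 n4761 = n6894 := rfl
theorem F31529 : act 1 n6894 = n4767 := d15_1 D6894 (iv D4767) (iv F22290)
theorem F31530 : act 4 n6894 = n4763 := d33_1 D6894 (iv D4763) D4761
theorem F31531 : act 7 n6894 = n6894 := d42_1 D6894 (iv D6894) F22292
def n6895 : Q := act 7 n4762
theorem D6895 : act 7 n4762 = n6895 := rfl
theorem F31532 : act 1 n6895 = n4768 := d14_1 D6895 (iv D4768) (iv F22293)
theorem F31533 : act 3 n6895 = n4765 := d27_1 D6895 (iv D4765) (iv F22294)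
theorem F31534 : act 6 n6895 = n6895 := d39_1 D6895 (iv D6895) (iv D4762) F15799 D4762
def n6896 : Q := act 8 n4762
theorem D6896 : act 8 n4762 = n6896 := rfl
theorem F31535 : act 1 n6896 = n4769 := d15_1 D6896 (iv D4769) (iv F22293)
theorem F31536 : act 3 n6896 = n6896 := d28_1 D6896 (iv D6896) F22294 F15806 (iv F22294)
theorem F31537 : act 6 n6896 = n4763 := d40_1 D6896 (iv D4763) D4762
def n6897 : Q := act 9 n4763
theorem D6897 : act 9 n4763 = n6897 := rfl
theorem F31538 : act 1 n6897 = n4770 := d16_1 D6897 (iv D4770) (iv F22295)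
theorem F31539 : act 3 n6897 = n6897 := d29_1 D6897 (iv D6897) F22296
theorem F31540 : act 5 n6897 = n4764 := d38_1 D6897 (iv D4764) (iv F22297)
theorem F31541 : act 7 n6897 = n6897 := d43_1 D6897 (iv D6897) F22298
def n6898 : Q := act 5 n4766
theorem D6898 : act 5 n4766 = n6898 := rfl
theorem F31542 : act 0 n6898 = n6898 := d4_1 D6898 (iv D6898) F22307
theorem F31543 : act 2 n6898 = n4850 := d19_1 D6898 (iv D4850) (iv F22308)
theorem F31544 : act 3 n6898 = n6898 := d25_1 D6898 (iv D6898) F22309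
def n6899 : Q := act 7 n4766
theorem D6899 : act 7 n4766 = n6899 := rfl
theorem F31545 : act 0 n6899 = n6899 := d6_1 D6899 (iv D6899) F22307
theorem F31546 : act 2 n6899 = n4851 := d21_1 D6899 (iv D4851) (iv F22308)
theorem F31547 : act 3 n6899 = n6899 := d27_1 D6899 (iv D6899) F22309
theorem F31548 : act 4 n6899 = n4768 := d32_1 D6899 (iv D4768) (iv F22310)
theorem F31549 : act 6 n6899 = n6899 := d39_1 D6899 (iv D6899) (iv D4766) F15810 D4766
def n6900 : Q := act 8 n4766
theorem D6900 : act 8 n4766 = n6900 := rfl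
theorem F31550 : act 0 n6900 = n6900 := d7_1 D6900 (iv D6900) F22307
theorem F31551 : act 2 n6900 = n4852 := d22_1 D6900 (iv D4852) (iv F22308)
theorem F31552 : act 4 n6900 = n4769 := d33_1 D6900 (iv D4769) (iv F22310)
theorem F31553 : act 6 n6900 = n4767 := d40_1 D6900 (iv D4767) D4766
def n6901 : Q := act 3 n4767
theorem D6901 : act 3 n4767 = n6901 := rfl
theorem F31554 : act 0 n6901 = n6901 := d2_1 D6901 (iv D6901) F22311
theorem F31555 : act 4 n6901 = n6901 := d24_2 (iv F22313) D6901 (iv D6901) F22313 F15816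
theorem F31556 : act 7 n6901 = n6901 := d27_2 F22314 D6901 (iv D6901)
theorem F31557 : act 8 n6901 = n6901 := d28_2 D4767 D6901 (iv D6901) (iv D4767) F15809
def n6902 : Q := act 9 n4767
theorem D6902 : act 9 n4767 = n6902 := rfl
theorem F31558 : act 0 n6902 = n6902 := d8_1 D6902 (iv D6902) F22311
theorem F31559 : act 2 n6902 = n4854 := d23_1 D6902 (iv D4854) (iv F22312)
theorem F31560 : act 4 n6902 = n4770 := d34_1 D6902 (iv D4770) (iv F22313)
theorem F31561 : act 7 n6902 = n6902 := d43_1 D6902 (iv D6902) F22314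
def n6903 : Q := act 8 n4768
theorem D6903 : act 8 n4768 = n6903 := rfl
theorem F31562 : act 0 n6903 = n6903 := d7_1 D6903 (iv D6903) F22315
theorem F31563 : act 2 n6903 = n4855 := d22_1 D6903 (iv D4855) (iv F22316)
theorem F31564 : act 3 n6903 = n6903 := d28_1 D6903 (iv D6903) F22317 F15827 (iv F22317)
theorem F31565 : act 6 n6903 = n6903 := d40_1 D6903 (iv D6903) F22318
theorem F31566 : act 7 n6903 = n4769 := d42_1 D6903 (iv D4769) D4768
def n6904 : Q := act 9 n4769
theorem D6904 : act 9 n4769 = n6904 := rfl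
theorem F31567 : act 0 n6904 = n6904 := d8_1 D6904 (iv D6904) F22319
theorem F31568 : act 2 n6904 = n4856 := d23_1 D6904 (iv D4856) (iv F22320)
theorem F31569 : act 3 n6904 = n6904 := d29_1 D6904 (iv D6904) F22321
theorem F31570 : act 6 n6904 = n4770 := d41_1 D6904 (iv D4770) (iv F22322)
def n6905 : Q := act 3 n4771
theorem D6905 : act 3 n4771 = n6905 := rfl
theorem F31571 : act 0 n6905 = n4772 := d2_1 D6905 (iv D4772) (iv F22328)
theorem F31572 : act 1 n6905 = n6905 := d10_1 D6905 (iv D6905) F22329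
theorem F31573 : act 6 n6905 = n6905 := d26_2 F22331 D6905 (iv D6905)
theorem F31574 : act 7 n6905 = n4789 := d27_2 (iv F22332) D6905 (iv D4789)
theorem F31575 : act 9 n6905 = n4778 := d29_2 (iv F22334) D6905 (iv D4778)
def n6906 : Q := act 5 n4771
theorem D6906 : act 5 n4771 = n6906 := rfl
theorem F31576 : act 0 n6906 = n4773 := d4_1 D6906 (iv D4773) (iv F22328)
theorem F31577 : act 1 n6906 = n6906 := d12_1 D6906 (iv D6906) F22329
theorem F31578 : act 2 n6906 = n5228 := d19_1 D6906 (iv D5228) (iv F22330)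
theorem F31579 : act 4 n6906 = n6906 := d30_1 D6906 (iv D6906) (iv D4771) F15830 D4771
theorem F31580 : act 7 n6906 = n4790 := d36_2 (iv F22332) D6906 (iv D4790)
theorem F31581 : act 8 n6906 = n6906 := d37_2 F22333 D6906 (iv D6906)
theorem F31582 : act 9 n6906 = n4779 := d38_2 (iv F22334) D6906 (iv D4779)
def n6907 : Q := act 2 n4772
theorem D6907 : act 2 n4772 = n6907 := rfl
theorem F31583 : act 3 n6907 = n5229 := d17_2 D4772 D6907 (iv D5229) (iv D3614) (iv F15836)
theorem F31584 : act 6 n6907 = n6907 := d20_2 F22336 D6907 (iv D6907)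
theorem F31585 : act 7 n6907 = n4791 := d21_2 (iv F22337) D6907 (iv D4791)
theorem F31586 : act 9 n6907 = n4780 := d23_2 (iv F22338) D6907 (iv D4780)
def n6908 : Q := act 5 n4772
theorem D6908 : act 5 n4772 = n6908 := rfl
theorem F31587 : act 1 n6908 = n4774 := d12_1 D6908 (iv D4774) (iv F22335)
theorem F31588 : act 3 n6908 = n4773 := d25_1 D6908 (iv D4773) D4772
theorem F31589 : act 7 n6908 = n4792 := d36_2 (iv F22337) D6908 (iv D4792)
theorem F31590 : act 9 n6908 = n4781 := d38_2 (iv F22338) D6908 (iv D4781)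
def n6909 : Q := act 8 n4772
theorem D6909 : act 8 n4772 = n6909 := rfl
theorem F31591 : act 1 n6909 = n4775 := d15_1 D6909 (iv D4775) (iv F22335)
theorem F31592 : act 3 n6909 = n6909 := d28_1 D6909 (iv D6909) (iv D4772) F15839 D4772
theorem F31593 : act 6 n6909 = n6909 := d40_1 D6909 (iv D6909) F22336
theorem F31594 : act 7 n6909 = n4793 := d42_1 D6909 (iv D4793) (iv F22337)
def n6910 : Q := act 6 n4773
theorem D6910 : act 6 n4773 = n6910 := rfl
theorem F31595 : act 1 n6910 = n4776 := d13_1 D6910 (iv D4776) (iv F22339)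
theorem F31596 : act 2 n6910 = n5232 := d20_1 D6910 (iv D5232) (iv F22340)
theorem F31597 : act 4 n6910 = n6910 := d31_1 D6910 (iv D6910) F22341
theorem F31598 : act 5 n6910 = n6910 := d35_1 D6910 (iv D6910) (iv D4773) F15837 D4773
theorem F31599 : act 8 n6910 = n6910 := d40_2 F22343 D6910 (iv D6910)
theorem F31600 : act 9 n6910 = n4783 := d41_2 (iv F22344) D6910 (iv D4783)
def n6911 : Q := act 4 n4774
theorem D6911 : act 4 n4774 = n6911 := rfl
theorem F31601 : act 0 n6911 = n6911 := d3_1 D6911 (iv D6911) F22345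
theorem F31602 : act 3 n6911 = n6911 := d24_1 D6911 (iv D6911) F22346 F15847 (iv F22346)
theorem F31603 : act 7 n6911 = n4795 := d32_2 (iv F22347) D6911 (iv D4795)
theorem F31604 : act 9 n6911 = n4784 := d34_2 (iv F22348) D6911 (iv D4784)
def n6912 : Q := act 6 n4774
theorem D6912 : act 6 n4774 = n6912 := rfl
theorem F31605 : act 0 n6912 = n6912 := d5_1 D6912 (iv D6912) F22345
theorem F31606 : act 3 n6912 = n4776 := d26_1 D6912 (iv D4776) (iv F22346)
theorem F31607 : act 5 n6912 = n6912 := d35_1 D6912 (iv D6912) (iv D4774) F15842 D4774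
theorem F31608 : act 9 n6912 = n4785 := d41_2 (iv F22348) D6912 (iv D4785)
def n6913 : Q := act 8 n4774
theorem D6913 : act 8 n4774 = n6913 := rfl
theorem F31609 : act 0 n6913 = n6913 := d7_1 D6913 (iv D6913) F22345
theorem F31610 : act 3 n6913 = n6913 := d28_1 D6913 (iv D6913) F22346 F15849 (iv F22346)
theorem F31611 : act 5 n6913 = n4775 := d37_1 D6913 (iv D4775) D4774
theorem F31612 : act 7 n6913 = n4797 := d42_1 D6913 (iv D4797) (iv F22347)
def n6914 : Q := act 9 n4775
theorem D6914 : act 9 n4775 = n6914 := rfl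
theorem F31613 : act 0 n6914 = n6914 := d8_1 D6914 (iv D6914) F22349
theorem F31614 : act 3 n6914 = n6914 := d29_1 D6914 (iv D6914) F22350
theorem F31615 : act 6 n6914 = n6914 := d41_1 D6914 (iv D6914) F22351
theorem F31616 : act 7 n6914 = n4798 := d43_1 D6914 (iv D4798) (iv F22352)
theorem F31617 : act 8 n6914 = n4787 := d44_1 D6914 (iv D4787) (iv D3311) (iv F15844) D4775
def n6915 : Q := act 7 n4776
theorem D6915 : act 7 n4776 = n6915 := rfl
theorem F31618 : act 0 n6915 = n6915 := d6_1 D6915 (iv D6915) F22353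
theorem F31619 : act 2 n6915 = n4777 := d21_1 D6915 (iv D4777) (iv F22354)
theorem F31620 : act 4 n6915 = n6915 := d32_1 D6915 (iv D6915) F22355
theorem F31621 : act 5 n6915 = n6915 := d36_1 D6915 (iv D6915) F22356
theorem F31622 : act 6 n6915 = n4799 := d39_1 D6915 (iv D4799) (iv D3319) (iv F15848) D4776
theorem F31623 : act 8 n6915 = n6915 := d42_2 F22357 D6915 (iv D6915)
theorem F31624 : act 9 n6915 = n4788 := d43_2 (iv F22358) D6915 (iv D4788)
def n6916 : Q := act 2 n4778
theorem D6916 : act 2 n4778 = n6916 := rfl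
theorem F31625 : act 0 n6916 = n4780 := d1_1 D6916 (iv D4780) (iv F22366)
theorem F31626 : act 3 n6916 = n5238 := d17_2 D4778 D6916 (iv D5238) (iv D3620) (iv F15859)
theorem F31627 : act 6 n6916 = n6916 := d20_2 F22368 D6916 (iv D6916)
theorem F31628 : act 7 n6916 = n4800 := d21_2 (iv F22369) D6916 (iv D4800)
def n6917 : Q := act 5 n4778
theorem D6917 : act 5 n4778 = n6917 := rfl
theorem F31629 : act 0 n6917 = n4781 := d4_1 D6917 (iv D4781) (iv F22366)
theorem F31630 : act 1 n6917 = n6917 := d12_1 D6917 (iv D6917) F22367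
theorem F31631 : act 3 n6917 = n4779 := d25_1 D6917 (iv D4779) D4778
theorem F31632 : act 7 n6917 = n4801 := d36_2 (iv F22369) D6917 (iv D4801)
def n6918 : Q := act 8 n4778
theorem D6918 : act 8 n4778 = n6918 := rfl
theorem F31633 : act 0 n6918 = n4782 := d7_1 D6918 (iv D4782) (iv F22366)
theorem F31634 : act 1 n6918 = n6918 := d15_1 D6918 (iv D6918) F22367
theorem F31635 : act 3 n6918 = n4916 := d28_1 D6918 (iv D4916) (iv D3399) (iv F15862) D4778
theorem F31636 : act 6 n6918 = n6918 := d40_1 D6918 (iv D6918) F22368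
theorem F31637 : act 7 n6918 = n4802 := d42_1 D6918 (iv D4802) (iv F22369)
def n6919 : Q := act 6 n4779
theorem D6919 : act 6 n4779 = n6919 := rfl
theorem F31638 : act 0 n6919 = n4783 := d5_1 D6919 (iv D4783) (iv F22370)
theorem F31639 : act 1 n6919 = n6919 := d13_1 D6919 (iv D6919) F22371
theorem F31640 : act 2 n6919 = n5241 := d20_1 D6919 (iv D5241) (iv F22372)
theorem F31641 : act 4 n6919 = n6919 := d31_1 D6919 (iv D6919) F22373
theorem F31642 : act 5 n6919 = n6919 := d35_1 D6919 (iv D6919) (iv D4779) F15860 D4779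
theorem F31643 : act 8 n6919 = n4917 := d40_2 (iv F22375) D6919 (iv D4917)
def n6920 : Q := act 5 n4780
theorem D6920 : act 5 n4780 = n6920 := rfl
theorem F31644 : act 2 n6920 = n4781 := d19_1 D6920 (iv D4781) D4780
theorem F31645 : act 3 n6920 = n5242 := d25_1 D6920 (iv D5242) (iv F22376)
theorem F31646 : act 7 n6920 = n4804 := d36_2 (iv F22378) D6920 (iv D4804)
def n6921 : Q := act 8 n4780
theorem D6921 : act 8 n4780 = n6921 := rfl
theorem F31647 : act 2 n6921 = n4782 := d22_1 D6921 (iv D4782) D4780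
theorem F31648 : act 6 n6921 = n6921 := d40_1 D6921 (iv D6921) F22377
theorem F31649 : act 7 n6921 = n4805 := d42_1 D6921 (iv D4805) (iv F22378)
def n6922 : Q := act 4 n4781
theorem D6922 : act 4 n4781 = n6922 := rfl
theorem F31650 : act 1 n6922 = n4784 := d11_1 D6922 (iv D4784) (iv F22379)
theorem F31651 : act 3 n6922 = n6922 := d24_1 D6922 (iv D6922) F22380 F15868 (iv F22380)
theorem F31652 : act 7 n6922 = n4806 := d32_2 (iv F22381) D6922 (iv D4806)
def n6923 : Q := act 6 n4781
theorem D6923 : act 6 n4781 = n6923 := rfl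
theorem F31653 : act 1 n6923 = n4785 := d13_1 D6923 (iv D4785) (iv F22379)
theorem F31654 : act 3 n6923 = n4783 := d26_1 D6923 (iv D4783) (iv F22380)
theorem F31655 : act 5 n6923 = n6923 := d35_1 D6923 (iv D6923) (iv D4781) F15864 D4781
def n6924 : Q := act 8 n4781
theorem D6924 : act 8 n4781 = n6924 := rfl
theorem F31656 : act 1 n6924 = n4786 := d15_1 D6924 (iv D4786) (iv F22379)
theorem F31657 : act 3 n6924 = n4922 := d28_1 D6924 (iv D4922) F16254 (iv F15870) (iv F22380)
theorem F31658 : act 5 n6924 = n4782 := d37_1 D6924 (iv D4782) D4781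
theorem F31659 : act 7 n6924 = n4808 := d42_1 D6924 (iv D4808) (iv F22381)
def n6925 : Q := act 9 n4782
theorem D6925 : act 9 n4782 = n6925 := rfl
theorem F31660 : act 1 n6925 = n4787 := d16_1 D6925 (iv D4787) (iv F22382)
theorem F31661 : act 3 n6925 = n4923 := d29_1 D6925 (iv D4923) (iv F22383)
theorem F31662 : act 6 n6925 = n6925 := d41_1 D6925 (iv D6925) F22384
theorem F31663 : act 7 n6925 = n4809 := d43_1 D6925 (iv D4809) (iv F22385)
def n6926 : Q := act 7 n4783
theorem D6926 : act 7 n4783 = n6926 := rfl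
theorem F31664 : act 1 n6926 = n4788 := d14_1 D6926 (iv D4788) (iv F22386)
theorem F31665 : act 2 n6926 = n5248 := d21_1 D6926 (iv D5248) (iv F22387)
theorem F31666 : act 4 n6926 = n6926 := d32_1 D6926 (iv D6926) F22388
theorem F31667 : act 5 n6926 = n6926 := d36_1 D6926 (iv D6926) F22389
theorem F31668 : act 6 n6926 = n4810 := d39_1 D6926 (iv D4810) (iv D3326) (iv F15869) D4783
theorem F31669 : act 8 n6926 = n4924 := d42_2 (iv F22390) D6926 (iv D4924)
def n6927 : Q := act 6 n4784
theorem D6927 : act 6 n4784 = n6927 := rfl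
theorem F31670 : act 0 n6927 = n6927 := d5_1 D6927 (iv D6927) F22391
theorem F31671 : act 3 n6927 = n6927 := d26_1 D6927 (iv D6927) F22392
theorem F31672 : act 4 n6927 = n4785 := d31_1 D6927 (iv D4785) D4784
def n6928 : Q := act 8 n4784
theorem D6928 : act 8 n4784 = n6928 := rfl
theorem F31673 : act 0 n6928 = n6928 := d7_1 D6928 (iv D6928) F22391
theorem F31674 : act 4 n6928 = n4786 := d33_1 D6928 (iv D4786) D4784
theorem F31675 : act 7 n6928 = n4812 := d42_1 D6928 (iv D4812) (iv F22393)
def n6929 : Q := act 7 n4785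
theorem D6929 : act 7 n4785 = n6929 := rfl
theorem F31676 : act 0 n6929 = n6929 := d6_1 D6929 (iv D6929) F22394
theorem F31677 : act 3 n6929 = n4788 := d27_1 D6929 (iv D4788) (iv F22395)
theorem F31678 : act 5 n6929 = n6929 := d36_1 D6929 (iv D6929) F22396
theorem F31679 : act 6 n6929 = n4813 := d39_1 D6929 (iv D4813) (iv D3328) (iv F15873) D4785
def n6930 : Q := act 8 n4785
theorem D6930 : act 8 n4785 = n6930 := rfl
theorem F31680 : act 0 n6930 = n6930 := d7_1 D6930 (iv D6930) F22394
theorem F31681 : act 3 n6930 = n4928 := d28_1 D6930 (iv D4928) F16274 (iv F15882) (iv F22395)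
theorem F31682 : act 5 n6930 = n6930 := d37_1 D6930 (iv D6930) F22396
theorem F31683 : act 6 n6930 = n4786 := d40_1 D6930 (iv D4786) D4785
def n6931 : Q := act 9 n4786
theorem D6931 : act 9 n4786 = n6931 := rfl
theorem F31684 : act 0 n6931 = n6931 := d8_1 D6931 (iv D6931) F22397
theorem F31685 : act 3 n6931 = n4929 := d29_1 D6931 (iv D4929) (iv F22398)
theorem F31686 : act 5 n6931 = n4787 := d38_1 D6931 (iv D4787) (iv F22399)
theorem F31687 : act 7 n6931 = n4815 := d43_1 D6931 (iv D4815) (iv F22400)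
def n6932 : Q := act 2 n4789
theorem D6932 : act 2 n4789 = n6932 := rfl
theorem F31688 : act 0 n6932 = n4791 := d1_1 D6932 (iv D4791) (iv F22411)
theorem F31689 : act 3 n6932 = n5254 := d17_2 D4789 D6932 (iv D5254) (iv D3631) (iv F15891)
theorem F31690 : act 6 n6932 = n4816 := d20_2 (iv F22413) D6932 (iv D4816)
theorem F31691 : act 9 n6932 = n4800 := d23_2 (iv F22414) D6932 (iv D4800)
def n6933 : Q := act 5 n4789
theorem D6933 : act 5 n4789 = n6933 := rfl
theorem F31692 : act 0 n6933 = n4792 := d4_1 D6933 (iv D4792) (iv F22411)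
theorem F31693 : act 1 n6933 = n6933 := d12_1 D6933 (iv D6933) F22412
theorem F31694 : act 3 n6933 = n4790 := d25_1 D6933 (iv D4790) D4789
theorem F31695 : act 9 n6933 = n4801 := d38_2 (iv F22414) D6933 (iv D4801)
def n6934 : Q := act 8 n4789
theorem D6934 : act 8 n4789 = n6934 := rfl
theorem F31696 : act 0 n6934 = n4793 := d7_1 D6934 (iv D4793) (iv F22411)
theorem F31697 : act 1 n6934 = n6934 := d15_1 D6934 (iv D6934) F22412
theorem F31698 : act 3 n6934 = n6934 := d28_1 D6934 (iv D6934) (iv D4789) F15893 D4789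
theorem F31699 : act 6 n6934 = n4818 := d40_1 D6934 (iv D4818) (iv F22413)
def n6935 : Q := act 6 n4790
theorem D6935 : act 6 n4790 = n6935 := rfl
theorem F31700 : act 0 n6935 = n4794 := d5_1 D6935 (iv D4794) (iv F22415)
theorem F31701 : act 1 n6935 = n6935 := d13_1 D6935 (iv D6935) F22416
theorem F31702 : act 2 n6935 = n5257 := d20_1 D6935 (iv D5257) (iv F22417)
theorem F31703 : act 4 n6935 = n6935 := d31_1 D6935 (iv D6935) F22418
theorem F31704 : act 5 n6935 = n4819 := d35_1 D6935 (iv D4819) (iv D3333) (iv F15892) D4790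
theorem F31705 : act 8 n6935 = n6935 := d40_2 F22419 D6935 (iv D6935)
theorem F31706 : act 9 n6935 = n4803 := d41_2 (iv F22420) D6935 (iv D4803)
def n6936 : Q := act 5 n4791
theorem D6936 : act 5 n4791 = n6936 := rfl
theorem F31707 : act 2 n6936 = n4792 := d19_1 D6936 (iv D4792) D4791
theorem F31708 : act 3 n6936 = n5258 := d25_1 D6936 (iv D5258) (iv F22421)
theorem F31709 : act 9 n6936 = n4804 := d38_2 (iv F22423) D6936 (iv D4804)
def n6937 : Q := act 8 n4791
theorem D6937 : act 8 n4791 = n6937 := rfl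
theorem F31710 : act 2 n6937 = n4793 := d22_1 D6937 (iv D4793) D4791
theorem F31711 : act 6 n6937 = n4821 := d40_1 D6937 (iv D4821) (iv F22422)
def n6938 : Q := act 4 n4792
theorem D6938 : act 4 n4792 = n6938 := rfl
theorem F31712 : act 1 n6938 = n4795 := d11_1 D6938 (iv D4795) (iv F22424)
theorem F31713 : act 3 n6938 = n6938 := d24_1 D6938 (iv D6938) F22425 F15900 (iv F22425)
theorem F31714 : act 9 n6938 = n4806 := d34_2 (iv F22426) D6938 (iv D4806)
def n6939 : Q := act 6 n4792
theorem D6939 : act 6 n4792 = n6939 := rfl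
theorem F31715 : act 1 n6939 = n4796 := d13_1 D6939 (iv D4796) (iv F22424)
theorem F31716 : act 3 n6939 = n4794 := d26_1 D6939 (iv D4794) (iv F22425)
theorem F31717 : act 5 n6939 = n4823 := d35_1 D6939 (iv D4823) (iv D3335) (iv F15896) D4792
theorem F31718 : act 9 n6939 = n4807 := d41_2 (iv F22426) D6939 (iv D4807)
def n6940 : Q := act 8 n4792
theorem D6940 : act 8 n4792 = n6940 := rfl
theorem F31719 : act 1 n6940 = n4797 := d15_1 D6940 (iv D4797) (iv F22424)
theorem F31720 : act 3 n6940 = n6940 := d28_1 D6940 (iv D6940) F22425 F15901 (iv F22425)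
theorem F31721 : act 5 n6940 = n4793 := d37_1 D6940 (iv D4793) D4792
def n6941 : Q := act 9 n4793
theorem D6941 : act 9 n4793 = n6941 := rfl
theorem F31722 : act 1 n6941 = n4798 := d16_1 D6941 (iv D4798) (iv F22427)
theorem F31723 : act 3 n6941 = n6941 := d29_1 D6941 (iv D6941) F22428
theorem F31724 : act 6 n6941 = n4825 := d41_1 D6941 (iv D4825) (iv F22429)
theorem F31725 : act 8 n6941 = n4809 := d44_1 D6941 (iv D4809) (iv D3325) (iv F15897) D4793
def n6942 : Q := act 7 n4794
theorem D6942 : act 7 n4794 = n6942 := rfl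
theorem F31726 : act 1 n6942 = n4799 := d14_1 D6942 (iv D4799) (iv F22430)
theorem F31727 : act 2 n6942 = n5264 := d21_1 D6942 (iv D5264) (iv F22431)
theorem F31728 : act 4 n6942 = n6942 := d32_1 D6942 (iv D6942) F22432
theorem F31729 : act 5 n6942 = n4826 := d36_1 D6942 (iv D4826) (iv F22433)
theorem F31730 : act 8 n6942 = n6942 := d42_2 F22434 D6942 (iv D6942)
theorem F31731 : act 9 n6942 = n4810 := d43_2 (iv F22435) D6942 (iv D4810)
def n6943 : Q := act 6 n4795
theorem D6943 : act 6 n4795 = n6943 := rfl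
theorem F31732 : act 0 n6943 = n6943 := d5_1 D6943 (iv D6943) F22436
theorem F31733 : act 3 n6943 = n6943 := d26_1 D6943 (iv D6943) F22437
theorem F31734 : act 4 n6943 = n4796 := d31_1 D6943 (iv D4796) D4795
theorem F31735 : act 9 n6943 = n4811 := d41_2 (iv F22438) D6943 (iv D4811)
def n6944 : Q := act 8 n4795
theorem D6944 : act 8 n4795 = n6944 := rfl
theorem F31736 : act 0 n6944 = n6944 := d7_1 D6944 (iv D6944) F22436
theorem F31737 : act 4 n6944 = n4797 := d33_1 D6944 (iv D4797) D4795
def n6945 : Q := act 7 n4796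
theorem D6945 : act 7 n4796 = n6945 := rfl
theorem F31738 : act 0 n6945 = n6945 := d6_1 D6945 (iv D6945) F22439
theorem F31739 : act 3 n6945 = n4799 := d27_1 D6945 (iv D4799) (iv F22440)
theorem F31740 : act 5 n6945 = n4829 := d36_1 D6945 (iv D4829) (iv F22441)
theorem F31741 : act 9 n6945 = n4813 := d43_2 (iv F22442) D6945 (iv D4813)
def n6946 : Q := act 8 n4796
theorem D6946 : act 8 n4796 = n6946 := rfl
theorem F31742 : act 0 n6946 = n6946 := d7_1 D6946 (iv D6946) F22439
theorem F31743 : act 3 n6946 = n6946 := d28_1 D6946 (iv D6946) F22440 F15913 (iv F22440)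
theorem F31744 : act 5 n6946 = n4830 := d37_1 D6946 (iv D4830) (iv F22441)
theorem F31745 : act 6 n6946 = n4797 := d40_1 D6946 (iv D4797) D4796
def n6947 : Q := act 9 n4797
theorem D6947 : act 9 n4797 = n6947 := rfl
theorem F31746 : act 0 n6947 = n6947 := d8_1 D6947 (iv D6947) F22443
theorem F31747 : act 3 n6947 = n6947 := d29_1 D6947 (iv D6947) F22444
theorem F31748 : act 5 n6947 = n4798 := d38_1 D6947 (iv D4798) (iv F22445)
theorem F31749 : act 8 n6947 = n4815 := d44_1 D6947 (iv D4815) (iv D3329) (iv F15905) D4797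
def n6948 : Q := act 1 n4800
theorem D6948 : act 1 n4800 = n6948 := rfl
theorem F31750 : act 2 n6948 = n6948 := d9_2 D4800 D6948 (iv D6948) (iv D4800) F15922
theorem F31751 : act 3 n6948 = n5270 := d10_2 (iv F22457) D6948 (iv D5270)
theorem F31752 : act 6 n6948 = n4832 := d13_2 (iv F22458) D6948 (iv D4832)
def n6949 : Q := act 5 n4800
theorem D6949 : act 5 n4800 = n6949 := rfl
theorem F31753 : act 0 n6949 = n4804 := d4_1 D6949 (iv D4804) (iv F22456)
theorem F31754 : act 2 n6949 = n4801 := d19_1 D6949 (iv D4801) D4800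
theorem F31755 : act 3 n6949 = n5271 := d25_1 D6949 (iv D5271) (iv F22457)
def n6950 : Q := act 8 n4800
theorem D6950 : act 8 n4800 = n6950 := rfl
theorem F31756 : act 0 n6950 = n4805 := d7_1 D6950 (iv D4805) (iv F22456)
theorem F31757 : act 2 n6950 = n4802 := d22_1 D6950 (iv D4802) D4800
theorem F31758 : act 6 n6950 = n4834 := d40_1 D6950 (iv D4834) (iv F22458)
def n6951 : Q := act 4 n4801
theorem D6951 : act 4 n4801 = n6951 := rfl
theorem F31759 : act 0 n6951 = n4806 := d3_1 D6951 (iv D4806) (iv F22459)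
theorem F31760 : act 1 n6951 = n6951 := d11_1 D6951 (iv D6951) F22460
theorem F31761 : act 3 n6951 = n6951 := d24_1 D6951 (iv D6951) F22461 F15927 (iv F22461)
def n6952 : Q := act 6 n4801
theorem D6952 : act 6 n4801 = n6952 := rfl
theorem F31762 : act 0 n6952 = n4807 := d5_1 D6952 (iv D4807) (iv F22459)
theorem F31763 : act 1 n6952 = n6952 := d13_1 D6952 (iv D6952) F22460
theorem F31764 : act 3 n6952 = n4803 := d26_1 D6952 (iv D4803) (iv F22461)
theorem F31765 : act 5 n6952 = n4836 := d35_1 D6952 (iv D4836) (iv D3344) (iv F15923) D4801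
def n6953 : Q := act 8 n4801
theorem D6953 : act 8 n4801 = n6953 := rfl
theorem F31766 : act 0 n6953 = n4808 := d7_1 D6953 (iv D4808) (iv F22459)
theorem F31767 : act 1 n6953 = n6953 := d15_1 D6953 (iv D6953) F22460
theorem F31768 : act 3 n6953 = n4935 := d28_1 D6953 (iv D4935) F16300 (iv F15928) (iv F22461)
theorem F31769 : act 5 n6953 = n4802 := d37_1 D6953 (iv D4802) D4801
def n6954 : Q := act 9 n4802
theorem D6954 : act 9 n4802 = n6954 := rfl
theorem F31770 : act 0 n6954 = n4809 := d8_1 D6954 (iv D4809) (iv F22462)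
theorem F31771 : act 1 n6954 = n6954 := d16_1 D6954 (iv D6954) F22463
theorem F31772 : act 3 n6954 = n4936 := d29_1 D6954 (iv D4936) (iv F22464)
theorem F31773 : act 6 n6954 = n4838 := d41_1 D6954 (iv D4838) (iv F22465)
def n6955 : Q := act 7 n4803
theorem D6955 : act 7 n4803 = n6955 := rfl
theorem F31774 : act 0 n6955 = n4810 := d6_1 D6955 (iv D4810) (iv F22466)
theorem F31775 : act 1 n6955 = n6955 := d14_1 D6955 (iv D6955) F22467
theorem F31776 : act 2 n6955 = n5277 := d21_1 D6955 (iv D5277) (iv F22468)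
theorem F31777 : act 4 n6955 = n6955 := d32_1 D6955 (iv D6955) F22469
theorem F31778 : act 5 n6955 = n4839 := d36_1 D6955 (iv D4839) (iv F22470)
theorem F31779 : act 8 n6955 = n4937 := d42_2 (iv F22471) D6955 (iv D4937)
def n6956 : Q := act 4 n4804
theorem D6956 : act 4 n4804 = n6956 := rfl
theorem F31780 : act 2 n6956 = n4806 := d18_1 D6956 (iv D4806) (iv F22472)
def n6957 : Q := act 6 n4804
theorem D6957 : act 6 n4804 = n6957 := rfl
theorem F31781 : act 2 n6957 = n4807 := d20_1 D6957 (iv D4807) (iv F22472)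
theorem F31782 : act 3 n6957 = n5279 := d26_1 D6957 (iv D5279) (iv F22473)
theorem F31783 : act 5 n6957 = n4841 := d35_1 D6957 (iv D4841) (iv D3347) (iv F15930) D4804
def n6958 : Q := act 8 n4804
theorem D6958 : act 8 n4804 = n6958 := rfl
theorem F31784 : act 2 n6958 = n4808 := d22_1 D6958 (iv D4808) (iv F22472)
theorem F31785 : act 5 n6958 = n4805 := d37_1 D6958 (iv D4805) D4804
def n6959 : Q := act 3 n4805
theorem D6959 : act 3 n4805 = n6959 := rfl
theorem F31786 : act 2 n6959 = n4941 := d17_1 D6959 (iv D4941) F16317 (iv F15934) (iv F22474)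
theorem F31787 : act 6 n6959 = n4843 := d26_2 (iv F22475) D6959 (iv D4843)
theorem F31788 : act 8 n6959 = n5281 := d28_2 D4805 D6959 (iv D5281) (iv D3647) (iv F15929)
def n6960 : Q := act 9 n4805
theorem D6960 : act 9 n4805 = n6960 := rfl
theorem F31789 : act 2 n6960 = n4809 := d23_1 D6960 (iv D4809) (iv F22474)
theorem F31790 : act 6 n6960 = n4844 := d41_1 D6960 (iv D4844) (iv F22475)
def n6961 : Q := act 6 n4806
theorem D6961 : act 6 n4806 = n6961 := rfl
theorem F31791 : act 1 n6961 = n4811 := d13_1 D6961 (iv D4811) (iv F22476)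
theorem F31792 : act 3 n6961 = n6961 := d26_1 D6961 (iv D6961) F22477
theorem F31793 : act 4 n6961 = n4807 := d31_1 D6961 (iv D4807) D4806
def n6962 : Q := act 8 n4806
theorem D6962 : act 8 n4806 = n6962 := rfl
theorem F31794 : act 1 n6962 = n4812 := d15_1 D6962 (iv D4812) (iv F22476)
theorem F31795 : act 4 n6962 = n4808 := d33_1 D6962 (iv D4808) D4806
def n6963 : Q := act 7 n4807
theorem D6963 : act 7 n4807 = n6963 := rfl
theorem F31796 : act 1 n6963 = n4813 := d14_1 D6963 (iv D4813) (iv F22478)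
theorem F31797 : act 3 n6963 = n4810 := d27_1 D6963 (iv D4810) (iv F22479)
theorem F31798 : act 5 n6963 = n4847 := d36_1 D6963 (iv D4847) (iv F22480)
def n6964 : Q := act 8 n4807
theorem D6964 : act 8 n4807 = n6964 := rfl
theorem F31799 : act 1 n6964 = n4814 := d15_1 D6964 (iv D4814) (iv F22478)
theorem F31800 : act 3 n6964 = n4946 := d28_1 D6964 (iv D4946) F16325 (iv F15940) (iv F22479)
theorem F31801 : act 5 n6964 = n4848 := d37_1 D6964 (iv D4848) (iv F22480)
theorem F31802 : act 6 n6964 = n4808 := d40_1 D6964 (iv D4808) D4807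
def n6965 : Q := act 9 n4808
theorem D6965 : act 9 n4808 = n6965 := rfl
theorem F31803 : act 1 n6965 = n4815 := d16_1 D6965 (iv D4815) (iv F22481)
theorem F31804 : act 3 n6965 = n4947 := d29_1 D6965 (iv D4947) (iv F22482)
theorem F31805 : act 5 n6965 = n4809 := d38_1 D6965 (iv D4809) (iv F22483)
def n6966 : Q := act 5 n4811
theorem D6966 : act 5 n4811 = n6966 := rfl
theorem F31806 : act 0 n6966 = n6966 := d4_1 D6966 (iv D6966) F22492
theorem F31807 : act 3 n6966 = n6966 := d25_1 D6966 (iv D6966) F22493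
theorem F31808 : act 4 n6966 = n4850 := d30_1 D6966 (iv D4850) F16044 (iv F15945) (iv F22494)
def n6967 : Q := act 7 n4811
theorem D6967 : act 7 n4811 = n6967 := rfl
theorem F31809 : act 0 n6967 = n6967 := d6_1 D6967 (iv D6967) F22492
theorem F31810 : act 3 n6967 = n6967 := d27_1 D6967 (iv D6967) F22493
theorem F31811 : act 4 n6967 = n4813 := d32_1 D6967 (iv D4813) (iv F22494)
def n6968 : Q := act 8 n4811
theorem D6968 : act 8 n4811 = n6968 := rfl
theorem F31812 : act 0 n6968 = n6968 := d7_1 D6968 (iv D6968) F22492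
theorem F31813 : act 4 n6968 = n4814 := d33_1 D6968 (iv D4814) (iv F22494)
theorem F31814 : act 6 n6968 = n4812 := d40_1 D6968 (iv D4812) D4811
def n6969 : Q := act 3 n4812
theorem D6969 : act 3 n4812 = n6969 := rfl
theorem F31815 : act 0 n6969 = n6969 := d2_1 D6969 (iv D6969) F22495
theorem F31816 : act 4 n6969 = n4951 := d24_2 (iv F22496) D6969 (iv D4951) F16346 (iv F15947)
theorem F31817 : act 8 n6969 = n6969 := d28_2 D4812 D6969 (iv D6969) (iv D4812) F15942
def n6970 : Q := act 9 n4812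
theorem D6970 : act 9 n4812 = n6970 := rfl
theorem F31818 : act 0 n6970 = n6970 := d8_1 D6970 (iv D6970) F22495
theorem F31819 : act 4 n6970 = n4815 := d34_1 D6970 (iv D4815) (iv F22496)
def n6971 : Q := act 8 n4813
theorem D6971 : act 8 n4813 = n6971 := rfl
theorem F31820 : act 0 n6971 = n6971 := d7_1 D6971 (iv D6971) F22497
theorem F31821 : act 3 n6971 = n4953 := d28_1 D6971 (iv D4953) F16350 (iv F15956) (iv F22498)
theorem F31822 : act 5 n6971 = n4855 := d37_1 D6971 (iv D4855) (iv F22499)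
theorem F31823 : act 7 n6971 = n4814 := d42_1 D6971 (iv D4814) D4813
def n6972 : Q := act 9 n4814
theorem D6972 : act 9 n4814 = n6972 := rfl
theorem F31824 : act 0 n6972 = n6972 := d8_1 D6972 (iv D6972) F22500
theorem F31825 : act 3 n6972 = n4954 := d29_1 D6972 (iv D4954) (iv F22501)
theorem F31826 : act 5 n6972 = n4856 := d38_1 D6972 (iv D4856) (iv F22502)
theorem F31827 : act 6 n6972 = n4815 := d41_1 D6972 (iv D4815) (iv F22503)
def n6973 : Q := act 1 n4816
theorem D6973 : act 1 n4816 = n6973 := rfl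
theorem F31828 : act 2 n6973 = n6973 := d9_2 D4816 D6973 (iv D6973) (iv D4816) F15958
theorem F31829 : act 3 n6973 = n5295 := d10_2 (iv F22508) D6973 (iv D5295)
theorem F31830 : act 7 n6973 = n6973 := d14_2 F22509 D6973 (iv D6973)
theorem F31831 : act 9 n6973 = n4832 := d16_2 (iv F22510) D6973 (iv D4832)
def n6974 : Q := act 5 n4816
theorem D6974 : act 5 n4816 = n6974 := rfl
theorem F31832 : act 0 n6974 = n4820 := d4_1 D6974 (iv D4820) (iv F22507)
theorem F31833 : act 2 n6974 = n4817 := d19_1 D6974 (iv D4817) D4816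
theorem F31834 : act 3 n6974 = n5296 := d25_1 D6974 (iv D5296) (iv F22508)
theorem F31835 : act 7 n6974 = n6974 := d36_2 F22509 D6974 (iv D6974)
theorem F31836 : act 9 n6974 = n4833 := d38_2 (iv F22510) D6974 (iv D4833)
def n6975 : Q := act 8 n4816
theorem D6975 : act 8 n4816 = n6975 := rfl
theorem F31837 : act 0 n6975 = n4821 := d7_1 D6975 (iv D4821) (iv F22507)
theorem F31838 : act 2 n6975 = n4818 := d22_1 D6975 (iv D4818) D4816
theorem F31839 : act 7 n6975 = n6975 := d42_1 D6975 (iv D6975) F22509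
def n6976 : Q := act 4 n4817
theorem D6976 : act 4 n4817 = n6976 := rfl
theorem F31840 : act 0 n6976 = n4822 := d3_1 D6976 (iv D4822) (iv F22511)
theorem F31841 : act 1 n6976 = n6976 := d11_1 D6976 (iv D6976) F22512
theorem F31842 : act 3 n6976 = n4860 := d24_1 D6976 (iv D4860) F16065 (iv F15964) (iv F22513)
theorem F31843 : act 7 n6976 = n6976 := d32_2 F22514 D6976 (iv D6976)
theorem F31844 : act 9 n6976 = n4835 := d34_2 (iv F22515) D6976 (iv D4835)
def n6977 : Q := act 6 n4817
theorem D6977 : act 6 n4817 = n6977 := rfl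
theorem F31845 : act 0 n6977 = n4823 := d5_1 D6977 (iv D4823) (iv F22511)
theorem F31846 : act 1 n6977 = n6977 := d13_1 D6977 (iv D6977) F22512
theorem F31847 : act 3 n6977 = n4819 := d26_1 D6977 (iv D4819) (iv F22513)
theorem F31848 : act 9 n6977 = n4836 := d41_2 (iv F22515) D6977 (iv D4836)
def n6978 : Q := act 8 n4817
theorem D6978 : act 8 n4817 = n6978 := rfl
theorem F31849 : act 0 n6978 = n4824 := d7_1 D6978 (iv D4824) (iv F22511)
theorem F31850 : act 1 n6978 = n6978 := d15_1 D6978 (iv D6978) F22512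
theorem F31851 : act 3 n6978 = n6978 := d28_1 D6978 (iv D6978) F22513 F15966 (iv F22513)
theorem F31852 : act 5 n6978 = n4818 := d37_1 D6978 (iv D4818) D4817
theorem F31853 : act 7 n6978 = n6978 := d42_1 D6978 (iv D6978) F22514
def n6979 : Q := act 9 n4818
theorem D6979 : act 9 n4818 = n6979 := rfl
theorem F31854 : act 0 n6979 = n4825 := d8_1 D6979 (iv D4825) (iv F22516)
theorem F31855 : act 1 n6979 = n6979 := d16_1 D6979 (iv D6979) F22517
theorem F31856 : act 3 n6979 = n6979 := d29_1 D6979 (iv D6979) F22518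
theorem F31857 : act 7 n6979 = n6979 := d43_1 D6979 (iv D6979) F22519
theorem F31858 : act 8 n6979 = n4838 := d44_1 D6979 (iv D4838) (iv D3345) (iv F15960) D4818
def n6980 : Q := act 7 n4819
theorem D6980 : act 7 n4819 = n6980 := rfl
theorem F31859 : act 0 n6980 = n4826 := d6_1 D6980 (iv D4826) (iv F22520)
theorem F31860 : act 1 n6980 = n6980 := d14_1 D6980 (iv D6980) F22521
theorem F31861 : act 2 n6980 = n5302 := d21_1 D6980 (iv D5302) (iv F22522)
theorem F31862 : act 4 n6980 = n4864 := d32_1 D6980 (iv D4864) (iv F22523)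
theorem F31863 : act 6 n6980 = n6980 := d39_1 D6980 (iv D6980) (iv D4819) F15965 D4819
theorem F31864 : act 8 n6980 = n6980 := d42_2 F22524 D6980 (iv D6980)
theorem F31865 : act 9 n6980 = n4839 := d43_2 (iv F22525) D6980 (iv D4839)
def n6981 : Q := act 4 n4820
theorem D6981 : act 4 n4820 = n6981 := rfl
theorem F31866 : act 2 n6981 = n4822 := d18_1 D6981 (iv D4822) (iv F22526)
theorem F31867 : act 7 n6981 = n6981 := d32_2 F22528 D6981 (iv D6981)
theorem F31868 : act 9 n6981 = n4840 := d34_2 (iv F22529) D6981 (iv D4840)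
def n6982 : Q := act 6 n4820
theorem D6982 : act 6 n4820 = n6982 := rfl
theorem F31869 : act 2 n6982 = n4823 := d20_1 D6982 (iv D4823) (iv F22526)
theorem F31870 : act 3 n6982 = n5304 := d26_1 D6982 (iv D5304) (iv F22527)
theorem F31871 : act 9 n6982 = n4841 := d41_2 (iv F22529) D6982 (iv D4841)
def n6983 : Q := act 8 n4820
theorem D6983 : act 8 n4820 = n6983 := rfl
theorem F31872 : act 2 n6983 = n4824 := d22_1 D6983 (iv D4824) (iv F22526)
theorem F31873 : act 5 n6983 = n4821 := d37_1 D6983 (iv D4821) D4820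
theorem F31874 : act 7 n6983 = n6983 := d42_1 D6983 (iv D6983) F22528
def n6984 : Q := act 3 n4821
theorem D6984 : act 3 n4821 = n6984 := rfl
theorem F31875 : act 2 n6984 = n6984 := d17_1 D6984 (iv D6984) F22530 F15976 (iv F22530)
theorem F31876 : act 7 n6984 = n6984 := d27_2 F22531 D6984 (iv D6984)
theorem F31877 : act 8 n6984 = n5306 := d28_2 D4821 D6984 (iv D5306) (iv D3663) (iv F15968)
def n6985 : Q := act 9 n4821
theorem D6985 : act 9 n4821 = n6985 := rfl
theorem F31878 : act 2 n6985 = n4825 := d23_1 D6985 (iv D4825) (iv F22530)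
theorem F31879 : act 7 n6985 = n6985 := d43_1 D6985 (iv D6985) F22531
theorem F31880 : act 8 n6985 = n4844 := d44_1 D6985 (iv D4844) (iv D3348) (iv F15970) D4821
def n6986 : Q := act 6 n4822
theorem D6986 : act 6 n4822 = n6986 := rfl
theorem F31881 : act 1 n6986 = n4827 := d13_1 D6986 (iv D4827) (iv F22532)
theorem F31882 : act 3 n6986 = n4870 := d26_1 D6986 (iv D4870) (iv F22533)
theorem F31883 : act 4 n6986 = n4823 := d31_1 D6986 (iv D4823) D4822
theorem F31884 : act 9 n6986 = n4845 := d41_2 (iv F22535) D6986 (iv D4845)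
def n6987 : Q := act 8 n4822
theorem D6987 : act 8 n4822 = n6987 := rfl
theorem F31885 : act 1 n6987 = n4828 := d15_1 D6987 (iv D4828) (iv F22532)
theorem F31886 : act 4 n6987 = n4824 := d33_1 D6987 (iv D4824) D4822
theorem F31887 : act 7 n6987 = n6987 := d42_1 D6987 (iv D6987) F22534
def n6988 : Q := act 7 n4823
theorem D6988 : act 7 n4823 = n6988 := rfl
theorem F31888 : act 1 n6988 = n4829 := d14_1 D6988 (iv D4829) (iv F22536)
theorem F31889 : act 3 n6988 = n4826 := d27_1 D6988 (iv D4826) (iv F22537)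
theorem F31890 : act 6 n6988 = n6988 := d39_1 D6988 (iv D6988) (iv D4823) F15973 D4823
theorem F31891 : act 9 n6988 = n4847 := d43_2 (iv F22538) D6988 (iv D4847)
def n6989 : Q := act 8 n4823
theorem D6989 : act 8 n4823 = n6989 := rfl
theorem F31892 : act 1 n6989 = n4830 := d15_1 D6989 (iv D4830) (iv F22536)
theorem F31893 : act 3 n6989 = n6989 := d28_1 D6989 (iv D6989) F22537 F15981 (iv F22537)
theorem F31894 : act 6 n6989 = n4824 := d40_1 D6989 (iv D4824) D4823
def n6990 : Q := act 9 n4824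
theorem D6990 : act 9 n4824 = n6990 := rfl
theorem F31895 : act 1 n6990 = n4831 := d16_1 D6990 (iv D4831) (iv F22539)
theorem F31896 : act 3 n6990 = n6990 := d29_1 D6990 (iv D6990) F22540
theorem F31897 : act 5 n6990 = n4825 := d38_1 D6990 (iv D4825) (iv F22541)
theorem F31898 : act 7 n6990 = n6990 := d43_1 D6990 (iv D6990) F22542
theorem F31899 : act 8 n6990 = n4849 := d44_1 D6990 (iv D4849) (iv D3351) (iv F15974) D4824
def n6991 : Q := act 5 n4827
theorem D6991 : act 5 n4827 = n6991 := rfl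
theorem F31900 : act 0 n6991 = n6991 := d4_1 D6991 (iv D6991) F22553
theorem F31901 : act 3 n6991 = n4875 := d25_1 D6991 (iv D4875) (iv F22554)
theorem F31902 : act 9 n6991 = n4850 := d38_2 (iv F22556) D6991 (iv D4850)
def n6992 : Q := act 7 n4827
theorem D6992 : act 7 n4827 = n6992 := rfl
theorem F31903 : act 0 n6992 = n6992 := d6_1 D6992 (iv D6992) F22553
theorem F31904 : act 3 n6992 = n4876 := d27_1 D6992 (iv D4876) (iv F22554)
theorem F31905 : act 4 n6992 = n4829 := d32_1 D6992 (iv D4829) (iv F22555)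
theorem F31906 : act 6 n6992 = n6992 := d39_1 D6992 (iv D6992) (iv D4827) F15985 D4827
theorem F31907 : act 9 n6992 = n4851 := d43_2 (iv F22556) D6992 (iv D4851)
def n6993 : Q := act 8 n4827
theorem D6993 : act 8 n4827 = n6993 := rfl
theorem F31908 : act 0 n6993 = n6993 := d7_1 D6993 (iv D6993) F22553
theorem F31909 : act 4 n6993 = n4830 := d33_1 D6993 (iv D4830) (iv F22555)
theorem F31910 : act 6 n6993 = n4828 := d40_1 D6993 (iv D4828) D4827
def n6994 : Q := act 3 n4828
theorem D6994 : act 3 n4828 = n6994 := rfl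
theorem F31911 : act 0 n6994 = n6994 := d2_1 D6994 (iv D6994) F22557
theorem F31912 : act 4 n6994 = n6994 := d24_2 (iv F22558) D6994 (iv D6994) F22558 F15991
theorem F31913 : act 7 n6994 = n6994 := d27_2 F22559 D6994 (iv D6994)
theorem F31914 : act 8 n6994 = n4878 := d28_2 D4828 D6994 (iv D4878) (iv D3371) (iv F15984)
def n6995 : Q := act 9 n4828
theorem D6995 : act 9 n4828 = n6995 := rfl
theorem F31915 : act 0 n6995 = n6995 := d8_1 D6995 (iv D6995) F22557
theorem F31916 : act 4 n6995 = n4831 := d34_1 D6995 (iv D4831) (iv F22558)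
theorem F31917 : act 7 n6995 = n6995 := d43_1 D6995 (iv D6995) F22559
theorem F31918 : act 8 n6995 = n4854 := d44_1 D6995 (iv D4854) (iv D3355) (iv F15986) D4828
def n6996 : Q := act 8 n4829
theorem D6996 : act 8 n4829 = n6996 := rfl
theorem F31919 : act 0 n6996 = n6996 := d7_1 D6996 (iv D6996) F22560
theorem F31920 : act 3 n6996 = n6996 := d28_1 D6996 (iv D6996) F22561 F16002 (iv F22561)
theorem F31921 : act 6 n6996 = n6996 := d40_1 D6996 (iv D6996) F22562
theorem F31922 : act 7 n6996 = n4830 := d42_1 D6996 (iv D4830) D4829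
def n6997 : Q := act 9 n4830
theorem D6997 : act 9 n4830 = n6997 := rfl
theorem F31923 : act 0 n6997 = n6997 := d8_1 D6997 (iv D6997) F22564
theorem F31924 : act 3 n6997 = n6997 := d29_1 D6997 (iv D6997) F22565
theorem F31925 : act 6 n6997 = n4831 := d41_1 D6997 (iv D4831) (iv F22566)
theorem F31926 : act 8 n6997 = n4856 := d44_1 D6997 (iv D4856) (iv D3357) (iv F15989) D4830
def n6998 : Q := act 5 n4832
theorem D6998 : act 5 n4832 = n6998 := rfl
theorem F31927 : act 1 n6998 = n4833 := d12_1 D6998 (iv D4833) D4832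
theorem F31928 : act 2 n6998 = n6998 := d19_1 D6998 (iv D6998) F22572
theorem F31929 : act 3 n6998 = n5320 := d25_1 D6998 (iv D5320) (iv F22573)
theorem F31930 : act 7 n6998 = n6998 := d36_2 F22574 D6998 (iv D6998)
def n6999 : Q := act 8 n4832
theorem D6999 : act 8 n4832 = n6999 := rfl
def n7000 : Q := act 4 n4833
theorem D7000 : act 4 n4833 = n7000 := rfl
theorem F31934 : act 0 n7000 = n4840 := d3_1 D7000 (iv D4840) (iv F22575)
theorem F31935 : act 2 n7000 = n4835 := d18_1 D7000 (iv D4835) (iv F22576)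
theorem F31936 : act 7 n7000 = n7000 := d32_2 F22578 D7000 (iv D7000)
def n7001 : Q := act 6 n4833
theorem D7001 : act 6 n4833 = n7001 := rfl
theorem F31937 : act 0 n7001 = n4841 := d5_1 D7001 (iv D4841) (iv F22575)
theorem F31938 : act 2 n7001 = n4836 := d20_1 D7001 (iv D4836) (iv F22576)
theorem F31939 : act 3 n7001 = n5323 := d26_1 D7001 (iv D5323) (iv F22577)
def n7002 : Q := act 8 n4833
theorem D7002 : act 8 n4833 = n7002 := rfl
theorem F31940 : act 0 n7002 = n4842 := d7_1 D7002 (iv D4842) (iv F22575)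
theorem F31941 : act 2 n7002 = n4837 := d22_1 D7002 (iv D4837) (iv F22576)
theorem F31942 : act 5 n7002 = n4834 := d37_1 D7002 (iv D4834) D4833
theorem F31943 : act 7 n7002 = n7002 := d42_1 D7002 (iv D7002) F22578
def n7003 : Q := act 3 n4834
theorem D7003 : act 3 n4834 = n7003 := rfl
theorem F31944 : act 0 n7003 = n4843 := d2_1 D7003 (iv D4843) (iv F22579)
theorem F31947 : act 8 n7003 = n5325 := d28_2 D4834 D7003 (iv D5325) (iv D3676) (iv F16005)
def n7004 : Q := act 9 n4834
theorem D7004 : act 9 n4834 = n7004 := rfl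
theorem F31948 : act 0 n7004 = n4844 := d8_1 D7004 (iv D4844) (iv F22579)
theorem F31949 : act 2 n7004 = n4838 := d23_1 D7004 (iv D4838) (iv F22580)
theorem F31950 : act 7 n7004 = n7004 := d43_1 D7004 (iv D7004) F22581
def n7005 : Q := act 6 n4835
theorem D7005 : act 6 n4835 = n7005 := rfl
theorem F31951 : act 0 n7005 = n4845 := d5_1 D7005 (iv D4845) (iv F22582)
theorem F31952 : act 1 n7005 = n7005 := d13_1 D7005 (iv D7005) F22583
theorem F31953 : act 3 n7005 = n4888 := d26_1 D7005 (iv D4888) (iv F22584)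
theorem F31954 : act 4 n7005 = n4836 := d31_1 D7005 (iv D4836) D4835
def n7006 : Q := act 8 n4835
theorem D7006 : act 8 n4835 = n7006 := rfl
theorem F31955 : act 0 n7006 = n4846 := d7_1 D7006 (iv D4846) (iv F22582)
theorem F31956 : act 1 n7006 = n7006 := d15_1 D7006 (iv D7006) F22583
theorem F31957 : act 4 n7006 = n4837 := d33_1 D7006 (iv D4837) D4835
theorem F31958 : act 7 n7006 = n7006 := d42_1 D7006 (iv D7006) F22585
def n7007 : Q := act 7 n4836
theorem D7007 : act 7 n4836 = n7007 := rfl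
theorem F31959 : act 0 n7007 = n4847 := d6_1 D7007 (iv D4847) (iv F22586)
theorem F31960 : act 1 n7007 = n7007 := d14_1 D7007 (iv D7007) F22587
theorem F31961 : act 3 n7007 = n4839 := d27_1 D7007 (iv D4839) (iv F22588)
theorem F31962 : act 6 n7007 = n7007 := d39_1 D7007 (iv D7007) (iv D4836) F16010 D4836
def n7008 : Q := act 8 n4836
theorem D7008 : act 8 n4836 = n7008 := rfl
theorem F31963 : act 0 n7008 = n4848 := d7_1 D7008 (iv D4848) (iv F22586)
theorem F31964 : act 1 n7008 = n7008 := d15_1 D7008 (iv D7008) F22587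
theorem F31965 : act 3 n7008 = n4965 := d28_1 D7008 (iv D4965) F16384 (iv F16019) (iv F22588)
theorem F31966 : act 6 n7008 = n4837 := d40_1 D7008 (iv D4837) D4836
def n7009 : Q := act 9 n4837
theorem D7009 : act 9 n4837 = n7009 := rfl
theorem F31967 : act 0 n7009 = n4849 := d8_1 D7009 (iv D4849) (iv F22589)
theorem F31968 : act 1 n7009 = n7009 := d16_1 D7009 (iv D7009) F22590
theorem F31969 : act 3 n7009 = n4966 := d29_1 D7009 (iv D4966) (iv F22591)
theorem F31970 : act 5 n7009 = n4838 := d38_1 D7009 (iv D4838) (iv F22592)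
theorem F31971 : act 7 n7009 = n7009 := d43_1 D7009 (iv D7009) F22593
def n7010 : Q := act 3 n4840
theorem D7010 : act 3 n4840 = n7010 := rfl
theorem F31972 : act 2 n7010 = n4893 := d17_1 D7010 (iv D4893) F16173 (iv F16026) (iv F22604)
theorem F31973 : act 4 n7010 = n5332 := d24_2 D4840 D7010 (iv D5332) (iv D3682) (iv F16021)
theorem F31974 : act 7 n7010 = n7010 := d27_2 F22605 D7010 (iv D7010)
def n7011 : Q := act 6 n4840
theorem D7011 : act 6 n4840 = n7011 := rfl
theorem F31975 : act 2 n7011 = n4845 := d20_1 D7011 (iv D4845) (iv F22604)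
theorem F31976 : act 4 n7011 = n4841 := d31_1 D7011 (iv D4841) D4840
def n7012 : Q := act 8 n4840
theorem D7012 : act 8 n4840 = n7012 := rfl
theorem F31977 : act 2 n7012 = n4846 := d22_1 D7012 (iv D4846) (iv F22604)
theorem F31978 : act 4 n7012 = n4842 := d33_1 D7012 (iv D4842) D4840
theorem F31979 : act 7 n7012 = n7012 := d42_1 D7012 (iv D7012) F22605
def n7013 : Q := act 7 n4841
theorem D7013 : act 7 n4841 = n7013 := rfl
theorem F31980 : act 2 n7013 = n4847 := d21_1 D7013 (iv D4847) (iv F22606)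
theorem F31981 : act 3 n7013 = n5335 := d27_1 D7013 (iv D5335) (iv F22607)
theorem F31982 : act 6 n7013 = n7013 := d39_1 D7013 (iv D7013) (iv D4841) F16022 D4841
def n7014 : Q := act 8 n4841
theorem D7014 : act 8 n4841 = n7014 := rfl
theorem F31983 : act 2 n7014 = n4848 := d22_1 D7014 (iv D4848) (iv F22606)
theorem F31984 : act 6 n7014 = n4842 := d40_1 D7014 (iv D4842) D4841
def n7015 : Q := act 3 n4842
theorem D7015 : act 3 n4842 = n7015 := rfl
theorem F31985 : act 2 n7015 = n4971 := d17_1 D7015 (iv D4971) F16412 (iv F16031) (iv F22608)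
theorem F31986 : act 5 n7015 = n4843 := d25_2 (iv F22609) D7015 (iv D4843)
theorem F31987 : act 7 n7015 = n7015 := d27_2 F22610 D7015 (iv D7015)
theorem F31988 : act 8 n7015 = n5337 := d28_2 D4842 D7015 (iv D5337) (iv D3684) (iv F16021)
def n7016 : Q := act 9 n4842
theorem D7016 : act 9 n4842 = n7016 := rfl
theorem F31989 : act 2 n7016 = n4849 := d23_1 D7016 (iv D4849) (iv F22608)
theorem F31990 : act 5 n7016 = n4844 := d38_1 D7016 (iv D4844) (iv F22609)
theorem F31991 : act 7 n7016 = n7016 := d43_1 D7016 (iv D7016) F22610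
def n7017 : Q := act 4 n4843
theorem D7017 : act 4 n4843 = n7017 := rfl
theorem F31992 : act 2 n7017 = n4973 := d18_1 D7017 (iv D4973) (iv F22611)
theorem F31993 : act 7 n7017 = n7017 := d32_2 F22612 D7017 (iv D7017)
theorem F31994 : act 8 n7017 = n5339 := d33_2 (iv F22613) D7017 (iv D5339)
def n7018 : Q := act 9 n4843
theorem D7018 : act 9 n4843 = n7018 := rfl
theorem F31995 : act 2 n7018 = n4974 := d23_1 D7018 (iv D4974) (iv F22611)
theorem F31996 : act 3 n7018 = n4844 := d29_1 D7018 (iv D4844) D4843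
theorem F31997 : act 7 n7018 = n7018 := d43_1 D7018 (iv D7018) F22612
def n7019 : Q := act 5 n4845
theorem D7019 : act 5 n4845 = n7019 := rfl
theorem F31998 : act 1 n7019 = n4850 := d12_1 D7019 (iv D4850) (iv F22616)
theorem F31999 : act 3 n7019 = n4899 := d25_1 D7019 (iv D4899) (iv F22617)
def n7020 : Q := act 7 n4845
theorem D7020 : act 7 n4845 = n7020 := rfl
theorem F32000 : act 1 n7020 = n4851 := d14_1 D7020 (iv D4851) (iv F22616)
theorem F32001 : act 3 n7020 = n4900 := d27_1 D7020 (iv D4900) (iv F22617)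
theorem F32002 : act 4 n7020 = n4847 := d32_1 D7020 (iv D4847) (iv F22618)
theorem F32003 : act 6 n7020 = n7020 := d39_1 D7020 (iv D7020) (iv D4845) F16027 D4845
def n7021 : Q := act 8 n4845
theorem D7021 : act 8 n4845 = n7021 := rfl
theorem F32004 : act 1 n7021 = n4852 := d15_1 D7021 (iv D4852) (iv F22616)
theorem F32005 : act 4 n7021 = n4848 := d33_1 D7021 (iv D4848) (iv F22618)
theorem F32006 : act 6 n7021 = n4846 := d40_1 D7021 (iv D4846) D4845
def n7022 : Q := act 3 n4846
theorem D7022 : act 3 n4846 = n7022 := rfl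
theorem F32007 : act 1 n7022 = n4853 := d10_1 D7022 (iv D4853) (iv F22619)
theorem F32008 : act 4 n7022 = n4978 := d24_2 (iv F22620) D7022 (iv D4978) F16428 (iv F16031)
theorem F32009 : act 7 n7022 = n7022 := d27_2 F22621 D7022 (iv D7022)
theorem F32010 : act 8 n7022 = n4902 := d28_2 D4846 D7022 (iv D4902) (iv D3388) (iv F16026)
def n7023 : Q := act 9 n4846
theorem D7023 : act 9 n4846 = n7023 := rfl
theorem F32011 : act 1 n7023 = n4854 := d16_1 D7023 (iv D4854) (iv F22619)
theorem F32012 : act 4 n7023 = n4849 := d34_1 D7023 (iv D4849) (iv F22620)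
theorem F32013 : act 7 n7023 = n7023 := d43_1 D7023 (iv D7023) F22621
def n7024 : Q := act 8 n4847
theorem D7024 : act 8 n4847 = n7024 := rfl
theorem F32014 : act 1 n7024 = n4855 := d15_1 D7024 (iv D4855) (iv F22622)
theorem F32015 : act 3 n7024 = n4980 := d28_1 D7024 (iv D4980) F16432 (iv F16041) (iv F22623)
theorem F32016 : act 6 n7024 = n7024 := d40_1 D7024 (iv D7024) F22624
theorem F32017 : act 7 n7024 = n4848 := d42_1 D7024 (iv D4848) D4847
def n7025 : Q := act 9 n4848
theorem D7025 : act 9 n4848 = n7025 := rfl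
theorem F32018 : act 1 n7025 = n4856 := d16_1 D7025 (iv D4856) (iv F22625)
theorem F32019 : act 3 n7025 = n4981 := d29_1 D7025 (iv D4981) (iv F22626)
theorem F32020 : act 6 n7025 = n4849 := d41_1 D7025 (iv D4849) (iv F22627)
def n7026 : Q := act 7 n4850
theorem D7026 : act 7 n4850 = n7026 := rfl
theorem F32021 : act 0 n7026 = n7026 := d6_1 D7026 (iv D7026) F22632
theorem F32022 : act 3 n7026 = n4906 := d27_1 D7026 (iv D4906) (iv F22633)
theorem F32023 : act 5 n7026 = n4851 := d36_1 D7026 (iv D4851) D4850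
def n7027 : Q := act 8 n4850
theorem D7027 : act 8 n4850 = n7027 := rfl
theorem F32024 : act 0 n7027 = n7027 := d7_1 D7027 (iv D7027) F22632
theorem F32025 : act 5 n7027 = n4852 := d37_1 D7027 (iv D4852) D4850
def n7028 : Q := act 8 n4851
theorem D7028 : act 8 n4851 = n7028 := rfl
theorem F32026 : act 0 n7028 = n7028 := d7_1 D7028 (iv D7028) F22634
theorem F32027 : act 4 n7028 = n4855 := d33_1 D7028 (iv D4855) (iv F22636)
theorem F32028 : act 6 n7028 = n7028 := d40_1 D7028 (iv D7028) F22637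
theorem F32029 : act 7 n7028 = n4852 := d42_1 D7028 (iv D4852) D4851
def n7029 : Q := act 3 n4852
theorem D7029 : act 3 n4852 = n7029 := rfl
theorem F32030 : act 0 n7029 = n7029 := d2_1 D7029 (iv D7029) F22638
theorem F32031 : act 4 n7029 = n4985 := d24_2 (iv F22639) D7029 (iv D4985) F16454 (iv F16052)
theorem F32032 : act 6 n7029 = n4853 := d26_2 (iv F22640) D7029 (iv D4853)
theorem F32033 : act 8 n7029 = n4909 := d28_2 D4852 D7029 (iv D4909) (iv D3394) (iv F16043)
def n7030 : Q := act 9 n4852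
theorem D7030 : act 9 n4852 = n7030 := rfl
theorem F32034 : act 0 n7030 = n7030 := d8_1 D7030 (iv D7030) F22638
theorem F32035 : act 4 n7030 = n4856 := d34_1 D7030 (iv D4856) (iv F22639)
theorem F32036 : act 6 n7030 = n4854 := d41_1 D7030 (iv D4854) (iv F22640)
def n7031 : Q := act 2 n4853
theorem D7031 : act 2 n4853 = n7031 := rfl
theorem F32037 : act 0 n7031 = n7031 := d1_1 D7031 (iv D7031) F22641
theorem F32038 : act 4 n7031 = n4987 := d18_2 (iv F22642) D7031 (iv D4987)
theorem F32039 : act 7 n7031 = n7031 := d21_2 F22643 D7031 (iv D7031)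
theorem F32040 : act 8 n7031 = n4911 := d22_2 (iv F22644) D7031 (iv D4911)
def n7032 : Q := act 9 n4853
theorem D7032 : act 9 n4853 = n7032 := rfl
theorem F32041 : act 0 n7032 = n7032 := d8_1 D7032 (iv D7032) F22641
theorem F32042 : act 3 n7032 = n4854 := d29_1 D7032 (iv D4854) D4853
theorem F32043 : act 4 n7032 = n4988 := d34_1 D7032 (iv D4988) (iv F22642)
theorem F32044 : act 7 n7032 = n7032 := d43_1 D7032 (iv D7032) F22643
def n7033 : Q := act 9 n4855
theorem D7033 : act 9 n4855 = n7033 := rfl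
theorem F32045 : act 0 n7033 = n7033 := d8_1 D7033 (iv D7033) F22648
theorem F32046 : act 3 n7033 = n4989 := d29_1 D7033 (iv D4989) (iv F22649)
theorem F32047 : act 6 n7033 = n7033 := d41_1 D7033 (iv D7033) F22650
theorem F32048 : act 7 n7033 = n4856 := d43_1 D7033 (iv D4856) (iv F22651)
def n7034 : Q := act 5 n4857
theorem D7034 : act 5 n4857 = n7034 := rfl
theorem F32054 : act 9 n7034 = n4882 := d38_2 (iv F22660) D7034 (iv D4882)
def n7035 : Q := act 8 n4857
theorem D7035 : act 8 n4857 = n7035 := rfl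
def n7036 : Q := act 4 n4858
theorem D7036 : act 4 n4858 = n7036 := rfl
theorem F32060 : act 0 n7036 = n4865 := d3_1 D7036 (iv D4865) (iv F22661)
theorem F32061 : act 2 n7036 = n4860 := d18_1 D7036 (iv D4860) (iv F22662)
theorem F32063 : act 9 n7036 = n4884 := d34_2 (iv F22665) D7036 (iv D4884)
def n7037 : Q := act 6 n4858
theorem D7037 : act 6 n4858 = n7037 := rfl
theorem F32064 : act 0 n7037 = n4866 := d5_1 D7037 (iv D4866) (iv F22661)
theorem F32065 : act 2 n7037 = n4861 := d20_1 D7037 (iv D4861) (iv F22662)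
theorem F32066 : act 3 n7037 = n5355 := d26_1 D7037 (iv D5355) (iv F22663)
theorem F32068 : act 9 n7037 = n4885 := d41_2 (iv F22665) D7037 (iv D4885)
def n7039 : Q := act 3 n4859
theorem D7039 : act 3 n4859 = n7039 := rfl
theorem F32077 : act 8 n7039 = n5357 := d28_2 D4859 D7039 (iv D5357) (iv D3700) (iv F16059)
def n7041 : Q := act 6 n4860
theorem D7041 : act 6 n4860 = n7041 := rfl
theorem F32083 : act 0 n7041 = n4870 := d5_1 D7041 (iv D4870) (iv F22670)
theorem F32084 : act 1 n7041 = n7041 := d13_1 D7041 (iv D7041) F22671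
theorem F32085 : act 4 n7041 = n4861 := d31_1 D7041 (iv D4861) D4860
theorem F32086 : act 9 n7041 = n4888 := d41_2 (iv F22673) D7041 (iv D4888)
def n7042 : Q := act 8 n4860
theorem D7042 : act 8 n4860 = n7042 := rfl
theorem F32087 : act 0 n7042 = n4871 := d7_1 D7042 (iv D4871) (iv F22670)
def n7043 : Q := act 7 n4861
theorem D7043 : act 7 n4861 = n7043 := rfl
theorem F32091 : act 0 n7043 = n4872 := d6_1 D7043 (iv D4872) (iv F22674)
theorem F32092 : act 1 n7043 = n7043 := d14_1 D7043 (iv D7043) F22675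
theorem F32093 : act 3 n7043 = n4864 := d27_1 D7043 (iv D4864) (iv F22676)
theorem F32094 : act 5 n7043 = n7043 := d36_1 D7043 (iv D7043) F22677
theorem F32095 : act 6 n7043 = n7043 := d39_1 D7043 (iv D7043) (iv D4861) F16066 D4861
theorem F32096 : act 9 n7043 = n4890 := d43_2 (iv F22678) D7043 (iv D4890)
def n7044 : Q := act 8 n4861
theorem D7044 : act 8 n4861 = n7044 := rfl
theorem F32097 : act 0 n7044 = n4873 := d7_1 D7044 (iv D4873) (iv F22674)
def n7046 : Q := act 3 n4865
theorem D7046 : act 3 n4865 = n7046 := rfl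
theorem F32108 : act 1 n7046 = n7046 := d10_1 D7046 (iv D7046) F22697
theorem F32109 : act 4 n7046 = n5362 := d24_2 D4865 D7046 (iv D5362) (iv D3705) (iv F16081)
theorem F32110 : act 7 n7046 = n7046 := d27_2 F22699 D7046 (iv D7046)
theorem F32111 : act 9 n7046 = n4893 := d29_2 (iv F22700) D7046 (iv D4893)
def n7047 : Q := act 6 n4865
theorem D7047 : act 6 n4865 = n7047 := rfl
theorem F32112 : act 1 n7047 = n7047 := d13_1 D7047 (iv D7047) F22697
theorem F32113 : act 2 n7047 = n4870 := d20_1 D7047 (iv D4870) (iv F22698)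
theorem F32114 : act 4 n7047 = n4866 := d31_1 D7047 (iv D4866) D4865
theorem F32115 : act 9 n7047 = n4894 := d41_2 (iv F22700) D7047 (iv D4894)
def n7048 : Q := act 8 n4865
theorem D7048 : act 8 n4865 = n7048 := rfl
theorem F32117 : act 2 n7048 = n4871 := d22_1 D7048 (iv D4871) (iv F22698)
def n7049 : Q := act 7 n4866
theorem D7049 : act 7 n4866 = n7049 := rfl
theorem F32120 : act 1 n7049 = n7049 := d14_1 D7049 (iv D7049) F22701
theorem F32121 : act 2 n7049 = n4872 := d21_1 D7049 (iv D4872) (iv F22702)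
theorem F32122 : act 3 n7049 = n5365 := d27_1 D7049 (iv D5365) (iv F22703)
theorem F32123 : act 5 n7049 = n7049 := d36_1 D7049 (iv D7049) F22704
theorem F32124 : act 6 n7049 = n7049 := d39_1 D7049 (iv D7049) (iv D4866) F16082 D4866
theorem F32125 : act 9 n7049 = n4896 := d43_2 (iv F22705) D7049 (iv D4896)
def n7050 : Q := act 8 n4866
theorem D7050 : act 8 n4866 = n7050 := rfl
theorem F32127 : act 2 n7050 = n4873 := d22_1 D7050 (iv D4873) (iv F22702)
def n7053 : Q := act 4 n4868
theorem D7053 : act 4 n4868 = n7053 := rfl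
def n7055 : Q := act 5 n4870
theorem D7055 : act 5 n4870 = n7055 := rfl
theorem F32151 : act 1 n7055 = n4875 := d12_1 D7055 (iv D4875) (iv F22720)
theorem F32152 : act 4 n7055 = n7055 := d30_1 D7055 (iv D7055) F22721 F16093 (iv F22721)
theorem F32153 : act 9 n7055 = n4899 := d38_2 (iv F22722) D7055 (iv D4899)
def n7056 : Q := act 7 n4870
theorem D7056 : act 7 n4870 = n7056 := rfl
theorem F32154 : act 1 n7056 = n4876 := d14_1 D7056 (iv D4876) (iv F22720)
theorem F32155 : act 4 n7056 = n4872 := d32_1 D7056 (iv D4872) (iv F22721)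
theorem F32156 : act 6 n7056 = n7056 := d39_1 D7056 (iv D7056) (iv D4870) F16089 D4870
theorem F32157 : act 9 n7056 = n4900 := d43_2 (iv F22722) D7056 (iv D4900)
def n7057 : Q := act 8 n4870
theorem D7057 : act 8 n4870 = n7057 := rfl
theorem F32158 : act 1 n7057 = n4877 := d15_1 D7057 (iv D4877) (iv F22720)
theorem F32159 : act 4 n7057 = n4873 := d33_1 D7057 (iv D4873) (iv F22721)
theorem F32160 : act 6 n7057 = n4871 := d40_1 D7057 (iv D4871) D4870
def n7058 : Q := act 3 n4871
theorem D7058 : act 3 n4871 = n7058 := rfl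
theorem F32161 : act 1 n7058 = n4878 := d10_1 D7058 (iv D4878) (iv F22723)
theorem F32162 : act 4 n7058 = n7058 := d24_2 (iv F22724) D7058 (iv D7058) F22724 F16096
theorem F32163 : act 7 n7058 = n7058 := d27_2 F22725 D7058 (iv D7058)
def n7059 : Q := act 9 n4871
theorem D7059 : act 9 n4871 = n7059 := rfl
theorem F32164 : act 1 n7059 = n4879 := d16_1 D7059 (iv D4879) (iv F22723)
theorem F32167 : act 8 n7059 = n4903 := d44_1 D7059 (iv D4903) (iv D3388) (iv F16090) D4871
def n7060 : Q := act 8 n4872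
theorem D7060 : act 8 n4872 = n7060 := rfl
theorem F32168 : act 1 n7060 = n4880 := d15_1 D7060 (iv D4880) (iv F22726)
theorem F32169 : act 3 n7060 = n7060 := d28_1 D7060 (iv D7060) F22727 F16108 (iv F22727)
theorem F32170 : act 5 n7060 = n7060 := d37_1 D7060 (iv D7060) F22728
theorem F32171 : act 6 n7060 = n7060 := d40_1 D7060 (iv D7060) F22729
theorem F32172 : act 7 n7060 = n4873 := d42_1 D7060 (iv D4873) D4872
def n7061 : Q := act 9 n4873
theorem D7061 : act 9 n4873 = n7061 := rfl
theorem F32173 : act 1 n7061 = n4881 := d16_1 D7061 (iv D4881) (iv F22731)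
def n7062 : Q := act 7 n4875
theorem D7062 : act 7 n4875 = n7062 := rfl
theorem F32178 : act 0 n7062 = n7062 := d6_1 D7062 (iv D7062) F22740
theorem F32179 : act 2 n7062 = n7062 := d21_1 D7062 (iv D7062) F22741
theorem F32180 : act 4 n7062 = n7062 := d32_1 D7062 (iv D7062) F22742
theorem F32181 : act 5 n7062 = n4876 := d36_1 D7062 (iv D4876) D4875
theorem F32182 : act 9 n7062 = n4906 := d43_2 (iv F22743) D7062 (iv D4906)
def n7063 : Q := act 8 n4875
theorem D7063 : act 8 n4875 = n7063 := rfl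
theorem F32183 : act 0 n7063 = n7063 := d7_1 D7063 (iv D7063) F22740
theorem F32184 : act 2 n7063 = n7063 := d22_1 D7063 (iv D7063) F22741
theorem F32185 : act 4 n7063 = n7063 := d33_1 D7063 (iv D7063) F22742
theorem F32186 : act 5 n7063 = n4877 := d37_1 D7063 (iv D4877) D4875
def n7064 : Q := act 8 n4876
theorem D7064 : act 8 n4876 = n7064 := rfl
theorem F32187 : act 0 n7064 = n7064 := d7_1 D7064 (iv D7064) F22744
theorem F32188 : act 2 n7064 = n7064 := d22_1 D7064 (iv D7064) F22745
theorem F32189 : act 4 n7064 = n4880 := d33_1 D7064 (iv D4880) (iv F22746)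
theorem F32190 : act 6 n7064 = n7064 := d40_1 D7064 (iv D7064) F22747
theorem F32191 : act 7 n7064 = n4877 := d42_1 D7064 (iv D4877) D4876
def n7065 : Q := act 3 n4877
theorem D7065 : act 3 n4877 = n7065 := rfl
theorem F32192 : act 0 n7065 = n7065 := d2_1 D7065 (iv D7065) F22749
theorem F32193 : act 4 n7065 = n7065 := d24_2 (iv F22751) D7065 (iv D7065) F22751 F16126
theorem F32194 : act 6 n7065 = n4878 := d26_2 (iv F22752) D7065 (iv D4878)
def n7066 : Q := act 9 n4877
theorem D7066 : act 9 n4877 = n7066 := rfl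
theorem F32195 : act 0 n7066 = n7066 := d8_1 D7066 (iv D7066) F22749
theorem F32196 : act 2 n7066 = n7066 := d23_1 D7066 (iv D7066) F22750
theorem F32197 : act 4 n7066 = n4881 := d34_1 D7066 (iv D4881) (iv F22751)
theorem F32198 : act 6 n7066 = n4879 := d41_1 D7066 (iv D4879) (iv F22752)
theorem F32199 : act 8 n7066 = n4910 := d44_1 D7066 (iv D4910) (iv D3394) (iv F16113) D4877
def n7067 : Q := act 2 n4878
theorem D7067 : act 2 n4878 = n7067 := rfl
theorem F32200 : act 0 n7067 = n7067 := d1_1 D7067 (iv D7067) F22753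
theorem F32201 : act 3 n7067 = n7067 := d17_2 D4878 D7067 (iv D7067) (iv D4878) F16115
theorem F32202 : act 4 n7067 = n7067 := d18_2 F22754 D7067 (iv D7067)
theorem F32203 : act 7 n7067 = n7067 := d21_2 F22755 D7067 (iv D7067)
def n7068 : Q := act 9 n4878
theorem D7068 : act 9 n4878 = n7068 := rfl
theorem F32204 : act 0 n7068 = n7068 := d8_1 D7068 (iv D7068) F22753
theorem F32205 : act 3 n7068 = n4879 := d29_1 D7068 (iv D4879) D4878
theorem F32206 : act 4 n7068 = n7068 := d34_1 D7068 (iv D7068) F22754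
theorem F32207 : act 7 n7068 = n7068 := d43_1 D7068 (iv D7068) F22755
def n7069 : Q := act 9 n4880
theorem D7069 : act 9 n4880 = n7069 := rfl
theorem F32208 : act 0 n7069 = n7069 := d8_1 D7069 (iv D7069) F22761
theorem F32209 : act 2 n7069 = n7069 := d23_1 D7069 (iv D7069) F22762
theorem F32210 : act 3 n7069 = n7069 := d29_1 D7069 (iv D7069) F22763
theorem F32211 : act 5 n7069 = n7069 := d38_1 D7069 (iv D7069) F22764
theorem F32212 : act 6 n7069 = n7069 := d41_1 D7069 (iv D7069) F22765
theorem F32213 : act 7 n7069 = n4881 := d43_1 D7069 (iv D4881) (iv F22766)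
theorem F32214 : act 8 n7069 = n4913 := d44_1 D7069 (iv D4913) (iv D3397) (iv F16123) D4880
def n7070 : Q := act 4 n4882
theorem D7070 : act 4 n4882 = n7070 := rfl
theorem F32216 : act 1 n7070 = n4884 := d11_1 D7070 (iv D4884) (iv F22774)
def n7071 : Q := act 6 n4882
theorem D7071 : act 6 n4882 = n7071 := rfl
theorem F32220 : act 1 n7071 = n4885 := d13_1 D7071 (iv D4885) (iv F22774)
theorem F32222 : act 3 n7071 = n5380 := d26_1 D7071 (iv D5380) (iv F22776)
def n7074 : Q := act 3 n4884
theorem D7074 : act 3 n4884 = n7074 := rfl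
theorem F32236 : act 0 n7074 = n4893 := d2_1 D7074 (iv D4893) (iv F22784)
theorem F32237 : act 4 n7074 = n5381 := d24_2 D4884 D7074 (iv D5381) (iv D3719) (iv F16142)
theorem F32238 : act 7 n7074 = n7074 := d27_2 F22786 D7074 (iv D7074)
def n7075 : Q := act 6 n4884
theorem D7075 : act 6 n4884 = n7075 := rfl
theorem F32239 : act 0 n7075 = n4894 := d5_1 D7075 (iv D4894) (iv F22784)
theorem F32240 : act 2 n7075 = n4888 := d20_1 D7075 (iv D4888) (iv F22785)
theorem F32241 : act 4 n7075 = n4885 := d31_1 D7075 (iv D4885) D4884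
def n7076 : Q := act 8 n4884
theorem D7076 : act 8 n4884 = n7076 := rfl
theorem F32242 : act 0 n7076 = n4895 := d7_1 D7076 (iv D4895) (iv F22784)
theorem F32243 : act 2 n7076 = n4889 := d22_1 D7076 (iv D4889) (iv F22785)
def n7077 : Q := act 7 n4885
theorem D7077 : act 7 n4885 = n7077 := rfl
theorem F32246 : act 0 n7077 = n4896 := d6_1 D7077 (iv D4896) (iv F22787)
theorem F32247 : act 2 n7077 = n4890 := d21_1 D7077 (iv D4890) (iv F22788)
theorem F32248 : act 3 n7077 = n5383 := d27_1 D7077 (iv D5383) (iv F22789)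
theorem F32249 : act 5 n7077 = n7077 := d36_1 D7077 (iv D7077) F22790
theorem F32250 : act 6 n7077 = n7077 := d39_1 D7077 (iv D7077) (iv D4885) F16143 D4885
def n7078 : Q := act 8 n4885
theorem D7078 : act 8 n4885 = n7078 := rfl
theorem F32251 : act 0 n7078 = n4897 := d7_1 D7078 (iv D4897) (iv F22787)
theorem F32252 : act 2 n7078 = n4891 := d22_1 D7078 (iv D4891) (iv F22788)
def n7080 : Q := act 5 n4888
theorem D7080 : act 5 n4888 = n7080 := rfl
theorem F32261 : act 0 n7080 = n4899 := d4_1 D7080 (iv D4899) (iv F22801)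
theorem F32262 : act 1 n7080 = n7080 := d12_1 D7080 (iv D7080) F22802
theorem F32263 : act 4 n7080 = n7080 := d30_1 D7080 (iv D7080) F22803 F16155 (iv F22803)
def n7081 : Q := act 7 n4888
theorem D7081 : act 7 n4888 = n7081 := rfl
theorem F32264 : act 0 n7081 = n4900 := d6_1 D7081 (iv D4900) (iv F22801)
theorem F32265 : act 1 n7081 = n7081 := d14_1 D7081 (iv D7081) F22802
theorem F32266 : act 4 n7081 = n4890 := d32_1 D7081 (iv D4890) (iv F22803)
theorem F32267 : act 6 n7081 = n7081 := d39_1 D7081 (iv D7081) (iv D4888) F16151 D4888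
def n7082 : Q := act 8 n4888
theorem D7082 : act 8 n4888 = n7082 := rfl
theorem F32268 : act 0 n7082 = n4901 := d7_1 D7082 (iv D4901) (iv F22801)
theorem F32269 : act 1 n7082 = n7082 := d15_1 D7082 (iv D7082) F22802
theorem F32270 : act 4 n7082 = n4891 := d33_1 D7082 (iv D4891) (iv F22803)
theorem F32271 : act 6 n7082 = n4889 := d40_1 D7082 (iv D4889) D4888
def n7083 : Q := act 3 n4889
theorem D7083 : act 3 n4889 = n7083 := rfl
theorem F32272 : act 0 n7083 = n4902 := d2_1 D7083 (iv D4902) (iv F22804)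
theorem F32273 : act 1 n7083 = n7083 := d10_1 D7083 (iv D7083) F22805
theorem F32274 : act 4 n7083 = n4993 := d24_2 (iv F22806) D7083 (iv D4993) F16482 (iv F16158)
theorem F32275 : act 7 n7083 = n7083 := d27_2 F22807 D7083 (iv D7083)
def n7084 : Q := act 9 n4889
theorem D7084 : act 9 n4889 = n7084 := rfl
theorem F32276 : act 0 n7084 = n4903 := d8_1 D7084 (iv D4903) (iv F22804)
def n7085 : Q := act 8 n4890
theorem D7085 : act 8 n4890 = n7085 := rfl
theorem F32280 : act 0 n7085 = n4904 := d7_1 D7085 (iv D4904) (iv F22808)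
theorem F32281 : act 1 n7085 = n7085 := d15_1 D7085 (iv D7085) F22809
theorem F32282 : act 3 n7085 = n4995 := d28_1 D7085 (iv D4995) F16488 (iv F16171) (iv F22810)
theorem F32283 : act 5 n7085 = n7085 := d37_1 D7085 (iv D7085) F22811
theorem F32284 : act 6 n7085 = n7085 := d40_1 D7085 (iv D7085) F22812
theorem F32285 : act 7 n7085 = n4891 := d42_1 D7085 (iv D4891) D4890
def n7086 : Q := act 9 n4891
theorem D7086 : act 9 n4891 = n7086 := rfl
theorem F32286 : act 0 n7086 = n4905 := d8_1 D7086 (iv D4905) (iv F22813)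
def n7087 : Q := act 6 n4893
theorem D7087 : act 6 n4893 = n7087 := rfl
theorem F32291 : act 1 n7087 = n7087 := d13_1 D7087 (iv D7087) F22823
theorem F32292 : act 3 n7087 = n4894 := d26_1 D7087 (iv D4894) D4893
theorem F32293 : act 4 n7087 = n5386 := d31_1 D7087 (iv D5386) (iv F22824)
def n7088 : Q := act 8 n4893
theorem D7088 : act 8 n4893 = n7088 := rfl
theorem F32294 : act 1 n7088 = n7088 := d15_1 D7088 (iv D7088) F22823
theorem F32295 : act 4 n7088 = n5387 := d33_1 D7088 (iv D5387) (iv F22824)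
theorem F32296 : act 7 n7088 = n7088 := d42_1 D7088 (iv D7088) F22825
def n7089 : Q := act 5 n4894
theorem D7089 : act 5 n4894 = n7089 := rfl
theorem F32297 : act 1 n7089 = n7089 := d12_1 D7089 (iv D7089) F22826
theorem F32298 : act 2 n7089 = n4899 := d19_1 D7089 (iv D4899) (iv F22827)
theorem F32299 : act 4 n7089 = n7089 := d30_1 D7089 (iv D7089) F22828 F16178 (iv F22828)
def n7090 : Q := act 7 n4894
theorem D7090 : act 7 n4894 = n7090 := rfl
theorem F32300 : act 1 n7090 = n7090 := d14_1 D7090 (iv D7090) F22826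
theorem F32301 : act 2 n7090 = n4900 := d21_1 D7090 (iv D4900) (iv F22827)
theorem F32302 : act 4 n7090 = n4896 := d32_1 D7090 (iv D4896) (iv F22828)
theorem F32303 : act 6 n7090 = n7090 := d39_1 D7090 (iv D7090) (iv D4894) F16174 D4894
def n7091 : Q := act 8 n4894
theorem D7091 : act 8 n4894 = n7091 := rfl
theorem F32304 : act 1 n7091 = n7091 := d15_1 D7091 (iv D7091) F22826
theorem F32305 : act 2 n7091 = n4901 := d22_1 D7091 (iv D4901) (iv F22827)
theorem F32306 : act 4 n7091 = n4897 := d33_1 D7091 (iv D4897) (iv F22828)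
theorem F32307 : act 6 n7091 = n4895 := d40_1 D7091 (iv D4895) D4894
def n7092 : Q := act 3 n4895
theorem D7092 : act 3 n4895 = n7092 := rfl
theorem F32308 : act 1 n7092 = n7092 := d10_1 D7092 (iv D7092) F22829
theorem F32309 : act 4 n7092 = n7092 := d24_2 (iv F22831) D7092 (iv D7092) F22831 F16181
theorem F32310 : act 7 n7092 = n7092 := d27_2 F22832 D7092 (iv D7092)
def n7093 : Q := act 9 n4895
theorem D7093 : act 9 n4895 = n7093 := rfl
theorem F32312 : act 2 n7093 = n4903 := d23_1 D7093 (iv D4903) (iv F22830)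
def n7094 : Q := act 8 n4896
theorem D7094 : act 8 n4896 = n7094 := rfl
theorem F32315 : act 1 n7094 = n7094 := d15_1 D7094 (iv D7094) F22833
theorem F32316 : act 2 n7094 = n4904 := d22_1 D7094 (iv D4904) (iv F22834)
theorem F32317 : act 3 n7094 = n7094 := d28_1 D7094 (iv D7094) F22835 F17709 (iv F22835)
theorem F32318 : act 5 n7094 = n7094 := d37_1 D7094 (iv D7094) F22836
theorem F32319 : act 6 n7094 = n7094 := d40_1 D7094 (iv D7094) F22837
theorem F32320 : act 7 n7094 = n4897 := d42_1 D7094 (iv D4897) D4896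
def n7095 : Q := act 9 n4897
theorem D7095 : act 9 n4897 = n7095 := rfl
theorem F32322 : act 2 n7095 = n4905 := d23_1 D7095 (iv D4905) (iv F22839)
def n7096 : Q := act 7 n4899
theorem D7096 : act 7 n4899 = n7096 := rfl
theorem F32326 : act 1 n7096 = n4906 := d14_1 D7096 (iv D4906) (iv F22848)
theorem F32327 : act 4 n7096 = n7096 := d32_1 D7096 (iv D7096) F22849
theorem F32328 : act 5 n7096 = n4900 := d36_1 D7096 (iv D4900) D4899
def n7097 : Q := act 8 n4899
theorem D7097 : act 8 n4899 = n7097 := rfl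
theorem F32329 : act 1 n7097 = n4907 := d15_1 D7097 (iv D4907) (iv F22848)
theorem F32330 : act 4 n7097 = n7097 := d33_1 D7097 (iv D7097) F22849
theorem F32331 : act 5 n7097 = n4901 := d37_1 D7097 (iv D4901) D4899
def n7098 : Q := act 8 n4900
theorem D7098 : act 8 n4900 = n7098 := rfl
theorem F32332 : act 1 n7098 = n4908 := d15_1 D7098 (iv D4908) (iv F22850)
theorem F32333 : act 4 n7098 = n4904 := d33_1 D7098 (iv D4904) (iv F22851)
theorem F32334 : act 6 n7098 = n7098 := d40_1 D7098 (iv D7098) F22852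
theorem F32335 : act 7 n7098 = n4901 := d42_1 D7098 (iv D4901) D4900
def n7099 : Q := act 3 n4901
theorem D7099 : act 3 n4901 = n7099 := rfl
theorem F32336 : act 1 n7099 = n4909 := d10_1 D7099 (iv D4909) (iv F22853)
theorem F32337 : act 4 n7099 = n5000 := d24_2 (iv F22854) D7099 (iv D5000) F16515 (iv F16199)
theorem F32338 : act 6 n7099 = n4902 := d26_2 (iv F22855) D7099 (iv D4902)
def n7100 : Q := act 9 n4901
theorem D7100 : act 9 n4901 = n7100 := rfl
theorem F32339 : act 1 n7100 = n4910 := d16_1 D7100 (iv D4910) (iv F22853)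
theorem F32340 : act 4 n7100 = n4905 := d34_1 D7100 (iv D4905) (iv F22854)
theorem F32341 : act 6 n7100 = n4903 := d41_1 D7100 (iv D4903) (iv F22855)
def n7101 : Q := act 2 n4902
theorem D7101 : act 2 n4902 = n7101 := rfl
theorem F32342 : act 4 n7101 = n5002 := d18_2 (iv F22857) D7101 (iv D5002)
theorem F32343 : act 7 n7101 = n7101 := d21_2 F22858 D7101 (iv D7101)
def n7102 : Q := act 9 n4902
theorem D7102 : act 9 n4902 = n7102 := rfl
theorem F32344 : act 1 n7102 = n4912 := d16_1 D7102 (iv D4912) (iv F22856)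
theorem F32345 : act 3 n7102 = n4903 := d29_1 D7102 (iv D4903) D4902
theorem F32346 : act 4 n7102 = n5003 := d34_1 D7102 (iv D5003) (iv F22857)
theorem F32347 : act 7 n7102 = n7102 := d43_1 D7102 (iv D7102) F22858
def n7103 : Q := act 9 n4904
theorem D7103 : act 9 n4904 = n7103 := rfl
theorem F32348 : act 1 n7103 = n4913 := d16_1 D7103 (iv D4913) (iv F22862)
theorem F32349 : act 3 n7103 = n5004 := d29_1 D7103 (iv D5004) (iv F22863)
theorem F32350 : act 5 n7103 = n7103 := d38_1 D7103 (iv D7103) F22864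
theorem F32351 : act 6 n7103 = n7103 := d41_1 D7103 (iv D7103) F22865
theorem F32352 : act 7 n7103 = n4905 := d43_1 D7103 (iv D4905) (iv F22866)
def n7104 : Q := act 6 n4906
theorem D7104 : act 6 n4906 = n7104 := rfl
theorem F32353 : act 0 n7104 = n7104 := d5_1 D7104 (iv D7104) F22871
theorem F32354 : act 2 n7104 = n7104 := d20_1 D7104 (iv D7104) F22872
theorem F32355 : act 4 n7104 = n7104 := d31_1 D7104 (iv D7104) F22873
theorem F32356 : act 5 n7104 = n7104 := d35_1 D7104 (iv D7104) F22874 F16212 (iv F22874)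
def n7105 : Q := act 8 n4906
theorem D7105 : act 8 n4906 = n7105 := rfl
theorem F32357 : act 0 n7105 = n7105 := d7_1 D7105 (iv D7105) F22871
theorem F32358 : act 2 n7105 = n7105 := d22_1 D7105 (iv D7105) F22872
theorem F32359 : act 4 n7105 = n7105 := d33_1 D7105 (iv D7105) F22873
theorem F32360 : act 5 n7105 = n4908 := d37_1 D7105 (iv D4908) (iv F22874)
theorem F32361 : act 7 n7105 = n4907 := d42_1 D7105 (iv D4907) D4906
def n7106 : Q := act 3 n4907
theorem D7106 : act 3 n4907 = n7106 := rfl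
theorem F32362 : act 0 n7106 = n7106 := d2_1 D7106 (iv D7106) F22875
theorem F32363 : act 5 n7106 = n4909 := d25_2 (iv F22878) D7106 (iv D4909)
def n7107 : Q := act 9 n4907
theorem D7107 : act 9 n4907 = n7107 := rfl
theorem F32364 : act 0 n7107 = n7107 := d8_1 D7107 (iv D7107) F22875
theorem F32365 : act 2 n7107 = n7107 := d23_1 D7107 (iv D7107) F22876
theorem F32366 : act 4 n7107 = n7107 := d34_1 D7107 (iv D7107) F22877
theorem F32367 : act 5 n7107 = n4910 := d38_1 D7107 (iv D4910) (iv F22878)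
def n7108 : Q := act 3 n4908
theorem D7108 : act 3 n4908 = n7108 := rfl
theorem F32368 : act 0 n7108 = n7108 := d2_1 D7108 (iv D7108) F22879
theorem F32369 : act 4 n7108 = n5009 := d24_2 (iv F22881) D7108 (iv D5009) F16548 (iv F16226)
theorem F32370 : act 6 n7108 = n7108 := d26_2 F22882 D7108 (iv D7108)
theorem F32371 : act 7 n7108 = n4909 := d27_2 (iv F22883) D7108 (iv D4909)
def n7109 : Q := act 9 n4908
theorem D7109 : act 9 n4908 = n7109 := rfl
theorem F32372 : act 0 n7109 = n7109 := d8_1 D7109 (iv D7109) F22879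
theorem F32373 : act 2 n7109 = n7109 := d23_1 D7109 (iv D7109) F22880
theorem F32374 : act 4 n7109 = n4913 := d34_1 D7109 (iv D4913) (iv F22881)
theorem F32375 : act 6 n7109 = n7109 := d41_1 D7109 (iv D7109) F22882
theorem F32376 : act 7 n7109 = n4910 := d43_1 D7109 (iv D4910) (iv F22883)
def n7110 : Q := act 2 n4909
theorem D7110 : act 2 n4909 = n7110 := rfl
theorem F32377 : act 0 n7110 = n7110 := d1_1 D7110 (iv D7110) F22884
theorem F32378 : act 3 n7110 = n7110 := d17_2 D4909 D7110 (iv D7110) (iv D4909) F16214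
theorem F32379 : act 4 n7110 = n5011 := d18_2 (iv F22885) D7110 (iv D5011)
theorem F32380 : act 6 n7110 = n4911 := d20_2 (iv F22886) D7110 (iv D4911)
def n7111 : Q := act 9 n4909
theorem D7111 : act 9 n4909 = n7111 := rfl
theorem F32381 : act 0 n7111 = n7111 := d8_1 D7111 (iv D7111) F22884
theorem F32382 : act 3 n7111 = n4910 := d29_1 D7111 (iv D4910) D4909
theorem F32383 : act 4 n7111 = n5012 := d34_1 D7111 (iv D5012) (iv F22885)
theorem F32384 : act 6 n7111 = n4912 := d41_1 D7111 (iv D4912) (iv F22886)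
def n7112 : Q := act 1 n4911
theorem D7112 : act 1 n4911 = n7112 := rfl
theorem F32385 : act 3 n7112 = n7112 := d10_2 F22892 D7112 (iv D7112)
theorem F32386 : act 4 n7112 = n5013 := d11_2 (iv F22893) D7112 (iv D5013)
theorem F32387 : act 7 n7112 = n7112 := d14_2 F22894 D7112 (iv D7112)
def n7113 : Q := act 9 n4911
theorem D7113 : act 9 n4911 = n7113 := rfl
theorem F32388 : act 0 n7113 = n7113 := d8_1 D7113 (iv D7113) F22891
theorem F32389 : act 2 n7113 = n4912 := d23_1 D7113 (iv D4912) D4911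
theorem F32390 : act 3 n7113 = n7113 := d29_1 D7113 (iv D7113) F22892
theorem F32391 : act 4 n7113 = n5014 := d34_1 D7113 (iv D5014) (iv F22893)
theorem F32392 : act 7 n7113 = n7113 := d43_1 D7113 (iv D7113) F22894
def n7114 : Q := act 8 n4912
theorem D7114 : act 8 n4912 = n7114 := rfl
theorem F32393 : act 0 n7114 = n7114 := d7_1 D7114 (iv D7114) F22895
theorem F32394 : act 4 n7114 = n5015 := d33_1 D7114 (iv D5015) (iv F22897)
theorem F32395 : act 7 n7114 = n7114 := d42_1 D7114 (iv D7114) F22898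
def n7116 : Q := act 5 n4914
theorem D7116 : act 5 n4914 = n7116 := rfl
theorem F32403 : act 0 n7116 = n4918 := d4_1 D7116 (iv D4918) (iv F22905)
theorem F32404 : act 2 n7116 = n4915 := d19_1 D7116 (iv D4915) D4914
theorem F32405 : act 3 n7116 = n5393 := d25_1 D7116 (iv D5393) (iv F22906)
theorem F32406 : act 7 n7116 = n4931 := d36_2 (iv F22909) D7116 (iv D4931)
theorem F32407 : act 9 n7116 = n7116 := d38_2 F22910 D7116 (iv D7116)
def n7117 : Q := act 8 n4914
theorem D7117 : act 8 n4914 = n7117 := rfl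
theorem F32408 : act 0 n7117 = n4919 := d7_1 D7117 (iv D4919) (iv F22905)
theorem F32409 : act 2 n7117 = n4916 := d22_1 D7117 (iv D4916) D4914
theorem F32410 : act 4 n7117 = n7117 := d33_1 D7117 (iv D7117) F22907
theorem F32411 : act 6 n7117 = n7117 := d40_1 D7117 (iv D7117) F22908
theorem F32412 : act 7 n7117 = n4932 := d42_1 D7117 (iv D4932) (iv F22909)
def n7118 : Q := act 4 n4915
theorem D7118 : act 4 n4915 = n7118 := rfl
theorem F32413 : act 0 n7118 = n4920 := d3_1 D7118 (iv D4920) (iv F22911)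
theorem F32414 : act 1 n7118 = n7118 := d11_1 D7118 (iv D7118) F22912
theorem F32415 : act 3 n7118 = n7118 := d24_1 D7118 (iv D7118) F22913 F16244 (iv F22913)
theorem F32416 : act 5 n7118 = n7118 := d30_2 D4915 D7118 (iv D7118) (iv D4915) F16237
theorem F32417 : act 7 n7118 = n4933 := d32_2 (iv F22914) D7118 (iv D4933)
theorem F32418 : act 9 n7118 = n7118 := d34_2 F22915 D7118 (iv D7118)
def n7119 : Q := act 6 n4915
theorem D7119 : act 6 n4915 = n7119 := rfl
theorem F32419 : act 0 n7119 = n4921 := d5_1 D7119 (iv D4921) (iv F22911)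
theorem F32420 : act 1 n7119 = n7119 := d13_1 D7119 (iv D7119) F22912
theorem F32421 : act 3 n7119 = n4917 := d26_1 D7119 (iv D4917) (iv F22913)
theorem F32422 : act 5 n7119 = n7119 := d35_1 D7119 (iv D7119) (iv D4915) F16238 D4915
theorem F32423 : act 9 n7119 = n7119 := d41_2 F22915 D7119 (iv D7119)
def n7120 : Q := act 8 n4915
theorem D7120 : act 8 n4915 = n7120 := rfl
theorem F32424 : act 0 n7120 = n4922 := d7_1 D7120 (iv D4922) (iv F22911)
theorem F32425 : act 1 n7120 = n7120 := d15_1 D7120 (iv D7120) F22912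
theorem F32426 : act 5 n7120 = n4916 := d37_1 D7120 (iv D4916) D4915
theorem F32427 : act 7 n7120 = n4935 := d42_1 D7120 (iv D4935) (iv F22914)
def n7121 : Q := act 9 n4916
theorem D7121 : act 9 n4916 = n7121 := rfl
theorem F32428 : act 0 n7121 = n4923 := d8_1 D7121 (iv D4923) (iv F22916)
theorem F32429 : act 1 n7121 = n7121 := d16_1 D7121 (iv D7121) F22917
theorem F32430 : act 4 n7121 = n7121 := d34_1 D7121 (iv D7121) F22918
theorem F32431 : act 6 n7121 = n7121 := d41_1 D7121 (iv D7121) F22919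
theorem F32432 : act 7 n7121 = n4936 := d43_1 D7121 (iv D4936) (iv F22920)
theorem F32433 : act 8 n7121 = n7121 := d44_1 D7121 (iv D7121) (iv D4916) F16240 D4916
def n7122 : Q := act 7 n4917
theorem D7122 : act 7 n4917 = n7122 := rfl
theorem F32434 : act 0 n7122 = n4924 := d6_1 D7122 (iv D4924) (iv F22921)
theorem F32435 : act 1 n7122 = n7122 := d14_1 D7122 (iv D7122) F22922
theorem F32436 : act 2 n7122 = n5399 := d21_1 D7122 (iv D5399) (iv F22923)
theorem F32437 : act 4 n7122 = n7122 := d32_1 D7122 (iv D7122) F22924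
theorem F32438 : act 5 n7122 = n7122 := d36_1 D7122 (iv D7122) F22925
theorem F32439 : act 6 n7122 = n4937 := d39_1 D7122 (iv D4937) (iv D3413) (iv F16245) D4917
theorem F32440 : act 9 n7122 = n7122 := d43_2 F22926 D7122 (iv D7122)
def n7123 : Q := act 4 n4918
theorem D7123 : act 4 n4918 = n7123 := rfl
theorem F32441 : act 1 n7123 = n7123 := d11_1 D7123 (iv D7123) F22927
theorem F32442 : act 2 n7123 = n4920 := d18_1 D7123 (iv D4920) (iv F22928)
theorem F32443 : act 5 n7123 = n7123 := d30_2 D4918 D7123 (iv D7123) (iv D4918) F16249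
theorem F32444 : act 7 n7123 = n4938 := d32_2 (iv F22930) D7123 (iv D4938)
theorem F32445 : act 9 n7123 = n7123 := d34_2 F22931 D7123 (iv D7123)
def n7124 : Q := act 6 n4918
theorem D7124 : act 6 n4918 = n7124 := rfl
theorem F32446 : act 1 n7124 = n7124 := d13_1 D7124 (iv D7124) F22927
theorem F32447 : act 2 n7124 = n4921 := d20_1 D7124 (iv D4921) (iv F22928)
theorem F32448 : act 3 n7124 = n5401 := d26_1 D7124 (iv D5401) (iv F22929)
theorem F32449 : act 5 n7124 = n7124 := d35_1 D7124 (iv D7124) (iv D4918) F16250 D4918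
theorem F32450 : act 9 n7124 = n7124 := d41_2 F22931 D7124 (iv D7124)
def n7125 : Q := act 8 n4918
theorem D7125 : act 8 n4918 = n7125 := rfl
theorem F32451 : act 1 n7125 = n7125 := d15_1 D7125 (iv D7125) F22927
theorem F32452 : act 2 n7125 = n4922 := d22_1 D7125 (iv D4922) (iv F22928)
theorem F32453 : act 5 n7125 = n4919 := d37_1 D7125 (iv D4919) D4918
theorem F32454 : act 7 n7125 = n4940 := d42_1 D7125 (iv D4940) (iv F22930)
def n7126 : Q := act 3 n4919
theorem D7126 : act 3 n4919 = n7126 := rfl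
theorem F32455 : act 1 n7126 = n7126 := d10_1 D7126 (iv D7126) F22932
theorem F32456 : act 6 n7126 = n7126 := d26_2 F22935 D7126 (iv D7126)
theorem F32457 : act 7 n7126 = n4941 := d27_2 (iv F22936) D7126 (iv D4941)
theorem F32458 : act 8 n7126 = n5403 := d28_2 D4919 D7126 (iv D5403) (iv D3734) (iv F16248)
def n7127 : Q := act 9 n4919
theorem D7127 : act 9 n4919 = n7127 := rfl
theorem F32459 : act 1 n7127 = n7127 := d16_1 D7127 (iv D7127) F22932
theorem F32460 : act 2 n7127 = n4923 := d23_1 D7127 (iv D4923) (iv F22933)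
theorem F32461 : act 4 n7127 = n7127 := d34_1 D7127 (iv D7127) F22934
theorem F32462 : act 6 n7127 = n7127 := d41_1 D7127 (iv D7127) F22935
theorem F32463 : act 7 n7127 = n4942 := d43_1 D7127 (iv D4942) (iv F22936)
theorem F32464 : act 8 n7127 = n7127 := d44_1 D7127 (iv D7127) (iv D4919) F16252 D4919
def n7128 : Q := act 6 n4920
theorem D7128 : act 6 n4920 = n7128 := rfl
theorem F32465 : act 1 n7128 = n4925 := d13_1 D7128 (iv D4925) (iv F22937)
theorem F32466 : act 3 n7128 = n7128 := d26_1 D7128 (iv D7128) F22938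
theorem F32467 : act 4 n7128 = n4921 := d31_1 D7128 (iv D4921) D4920
theorem F32468 : act 9 n7128 = n7128 := d41_2 F22941 D7128 (iv D7128)
def n7129 : Q := act 8 n4920
theorem D7129 : act 8 n4920 = n7129 := rfl
theorem F32469 : act 1 n7129 = n4926 := d15_1 D7129 (iv D4926) (iv F22937)
theorem F32470 : act 4 n7129 = n4922 := d33_1 D7129 (iv D4922) D4920
theorem F32471 : act 5 n7129 = n7129 := d37_1 D7129 (iv D7129) F22939
theorem F32472 : act 7 n7129 = n4944 := d42_1 D7129 (iv D4944) (iv F22940)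
def n7130 : Q := act 7 n4921
theorem D7130 : act 7 n4921 = n7130 := rfl
theorem F32473 : act 1 n7130 = n4927 := d14_1 D7130 (iv D4927) (iv F22942)
theorem F32474 : act 3 n7130 = n4924 := d27_1 D7130 (iv D4924) (iv F22943)
theorem F32475 : act 5 n7130 = n7130 := d36_1 D7130 (iv D7130) F22944
theorem F32476 : act 6 n7130 = n4945 := d39_1 D7130 (iv D4945) (iv D3417) (iv F16255) D4921
theorem F32477 : act 9 n7130 = n7130 := d43_2 F22945 D7130 (iv D7130)
def n7131 : Q := act 8 n4921
theorem D7131 : act 8 n4921 = n7131 := rfl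
theorem F32478 : act 1 n7131 = n4928 := d15_1 D7131 (iv D4928) (iv F22942)
theorem F32479 : act 5 n7131 = n7131 := d37_1 D7131 (iv D7131) F22944
theorem F32480 : act 6 n7131 = n4922 := d40_1 D7131 (iv D4922) D4921
def n7132 : Q := act 9 n4922
theorem D7132 : act 9 n4922 = n7132 := rfl
theorem F32481 : act 1 n7132 = n4929 := d16_1 D7132 (iv D4929) (iv F22946)
theorem F32482 : act 5 n7132 = n4923 := d38_1 D7132 (iv D4923) (iv F22947)
theorem F32483 : act 7 n7132 = n4947 := d43_1 D7132 (iv D4947) (iv F22948)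
theorem F32484 : act 8 n7132 = n7132 := d44_1 D7132 (iv D7132) (iv D4922) F16256 D4922
def n7133 : Q := act 5 n4925
theorem D7133 : act 5 n4925 = n7133 := rfl
theorem F32485 : act 0 n7133 = n7133 := d4_1 D7133 (iv D7133) F22960
theorem F32486 : act 2 n7133 = n7133 := d19_1 D7133 (iv D7133) F22961
theorem F32487 : act 3 n7133 = n7133 := d25_1 D7133 (iv D7133) F22962
theorem F32488 : act 4 n7133 = n7133 := d30_1 D7133 (iv D7133) F22963 F16275 (iv F22963)
theorem F32489 : act 6 n7133 = n7133 := d35_2 D4925 D7133 (iv D7133) (iv D4925) F16269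
theorem F32490 : act 9 n7133 = n7133 := d38_2 F22964 D7133 (iv D7133)
def n7134 : Q := act 7 n4925
theorem D7134 : act 7 n4925 = n7134 := rfl
theorem F32491 : act 0 n7134 = n7134 := d6_1 D7134 (iv D7134) F22960
theorem F32492 : act 2 n7134 = n7134 := d21_1 D7134 (iv D7134) F22961
theorem F32493 : act 3 n7134 = n7134 := d27_1 D7134 (iv D7134) F22962
theorem F32494 : act 4 n7134 = n4927 := d32_1 D7134 (iv D4927) (iv F22963)
theorem F32495 : act 6 n7134 = n4949 := d39_1 D7134 (iv D4949) (iv D3421) (iv F16270) D4925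
theorem F32496 : act 9 n7134 = n7134 := d43_2 F22964 D7134 (iv D7134)
def n7135 : Q := act 8 n4925
theorem D7135 : act 8 n4925 = n7135 := rfl
theorem F32497 : act 0 n7135 = n7135 := d7_1 D7135 (iv D7135) F22960
theorem F32498 : act 2 n7135 = n7135 := d22_1 D7135 (iv D7135) F22961
theorem F32499 : act 4 n7135 = n4928 := d33_1 D7135 (iv D4928) (iv F22963)
theorem F32500 : act 6 n7135 = n4926 := d40_1 D7135 (iv D4926) D4925
def n7136 : Q := act 3 n4926
theorem D7136 : act 3 n4926 = n7136 := rfl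
theorem F32501 : act 0 n7136 = n7136 := d2_1 D7136 (iv D7136) F22965
theorem F32502 : act 5 n7136 = n7136 := d25_2 F22968 D7136 (iv D7136)
theorem F32503 : act 7 n7136 = n4951 := d27_2 (iv F22969) D7136 (iv D4951)
theorem F32504 : act 8 n7136 = n7136 := d28_2 D4926 D7136 (iv D7136) (iv D4926) F16268
def n7137 : Q := act 9 n4926
theorem D7137 : act 9 n4926 = n7137 := rfl
theorem F32505 : act 0 n7137 = n7137 := d8_1 D7137 (iv D7137) F22965
theorem F32506 : act 2 n7137 = n7137 := d23_1 D7137 (iv D7137) F22966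
theorem F32507 : act 4 n7137 = n4929 := d34_1 D7137 (iv D4929) (iv F22967)
theorem F32508 : act 5 n7137 = n7137 := d38_1 D7137 (iv D7137) F22968
theorem F32509 : act 7 n7137 = n4952 := d43_1 D7137 (iv D4952) (iv F22969)
theorem F32510 : act 8 n7137 = n7137 := d44_1 D7137 (iv D7137) (iv D4926) F16271 D4926
def n7138 : Q := act 8 n4927
theorem D7138 : act 8 n4927 = n7138 := rfl
theorem F32511 : act 0 n7138 = n7138 := d7_1 D7138 (iv D7138) F22970
theorem F32512 : act 2 n7138 = n7138 := d22_1 D7138 (iv D7138) F22971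
theorem F32513 : act 5 n7138 = n7138 := d37_1 D7138 (iv D7138) F22973
theorem F32514 : act 6 n7138 = n4953 := d40_1 D7138 (iv D4953) (iv F22974)
theorem F32515 : act 7 n7138 = n4928 := d42_1 D7138 (iv D4928) D4927
def n7139 : Q := act 9 n4928
theorem D7139 : act 9 n4928 = n7139 := rfl
theorem F32516 : act 0 n7139 = n7139 := d8_1 D7139 (iv D7139) F22976
theorem F32517 : act 2 n7139 = n7139 := d23_1 D7139 (iv D7139) F22977
theorem F32518 : act 5 n7139 = n7139 := d38_1 D7139 (iv D7139) F22978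
theorem F32519 : act 6 n7139 = n4929 := d41_1 D7139 (iv D4929) (iv F22979)
theorem F32520 : act 8 n7139 = n7139 := d44_1 D7139 (iv D7139) (iv D4928) F16276 D4928
def n7140 : Q := act 5 n4930
theorem D7140 : act 5 n4930 = n7140 := rfl
theorem F32522 : act 1 n7140 = n4931 := d12_1 D7140 (iv D4931) D4930
theorem F32524 : act 3 n7140 = n5417 := d25_1 D7140 (iv D5417) (iv F22987)
def n7142 : Q := act 4 n4931
theorem D7142 : act 4 n4931 = n7142 := rfl
theorem F32531 : act 0 n7142 = n4938 := d3_1 D7142 (iv D4938) (iv F22991)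
theorem F32532 : act 2 n7142 = n4933 := d18_1 D7142 (iv D4933) (iv F22992)
theorem F32533 : act 5 n7142 = n7142 := d30_2 D4931 D7142 (iv D7142) (iv D4931) F16295
theorem F32534 : act 9 n7142 = n7142 := d34_2 F22994 D7142 (iv D7142)
def n7143 : Q := act 6 n4931
theorem D7143 : act 6 n4931 = n7143 := rfl
theorem F32535 : act 0 n7143 = n4939 := d5_1 D7143 (iv D4939) (iv F22991)
theorem F32536 : act 2 n7143 = n4934 := d20_1 D7143 (iv D4934) (iv F22992)
theorem F32537 : act 3 n7143 = n5420 := d26_1 D7143 (iv D5420) (iv F22993)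
theorem F32538 : act 5 n7143 = n4958 := d35_1 D7143 (iv D4958) (iv D3427) (iv F16296) D4931
theorem F32539 : act 9 n7143 = n7143 := d41_2 F22994 D7143 (iv D7143)
def n7144 : Q := act 8 n4931
theorem D7144 : act 8 n4931 = n7144 := rfl
theorem F32540 : act 0 n7144 = n4940 := d7_1 D7144 (iv D4940) (iv F22991)
theorem F32541 : act 2 n7144 = n4935 := d22_1 D7144 (iv D4935) (iv F22992)
theorem F32542 : act 5 n7144 = n4932 := d37_1 D7144 (iv D4932) D4931
def n7145 : Q := act 3 n4932
theorem D7145 : act 3 n4932 = n7145 := rfl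
theorem F32545 : act 8 n7145 = n5422 := d28_2 D4932 D7145 (iv D5422) (iv D3747) (iv F16294)
def n7146 : Q := act 9 n4932
theorem D7146 : act 9 n4932 = n7146 := rfl
theorem F32546 : act 0 n7146 = n4942 := d8_1 D7146 (iv D4942) (iv F22995)
theorem F32547 : act 2 n7146 = n4936 := d23_1 D7146 (iv D4936) (iv F22996)
theorem F32548 : act 4 n7146 = n7146 := d34_1 D7146 (iv D7146) F22997
theorem F32549 : act 6 n7146 = n4961 := d41_1 D7146 (iv D4961) (iv F22998)
theorem F32550 : act 8 n7146 = n7146 := d44_1 D7146 (iv D7146) (iv D4932) F16297 D4932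
def n7147 : Q := act 6 n4933
theorem D7147 : act 6 n4933 = n7147 := rfl
theorem F32551 : act 0 n7147 = n4943 := d5_1 D7147 (iv D4943) (iv F22999)
theorem F32552 : act 1 n7147 = n7147 := d13_1 D7147 (iv D7147) F23000
theorem F32553 : act 3 n7147 = n7147 := d26_1 D7147 (iv D7147) F23001
theorem F32554 : act 4 n7147 = n4934 := d31_1 D7147 (iv D4934) D4933
theorem F32555 : act 9 n7147 = n7147 := d41_2 F23003 D7147 (iv D7147)
def n7148 : Q := act 8 n4933
theorem D7148 : act 8 n4933 = n7148 := rfl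
theorem F32556 : act 0 n7148 = n4944 := d7_1 D7148 (iv D4944) (iv F22999)
theorem F32557 : act 1 n7148 = n7148 := d15_1 D7148 (iv D7148) F23000
theorem F32558 : act 4 n7148 = n4935 := d33_1 D7148 (iv D4935) D4933
theorem F32559 : act 5 n7148 = n7148 := d37_1 D7148 (iv D7148) F23002
def n7149 : Q := act 7 n4934
theorem D7149 : act 7 n4934 = n7149 := rfl
theorem F32560 : act 0 n7149 = n4945 := d6_1 D7149 (iv D4945) (iv F23004)
theorem F32561 : act 1 n7149 = n7149 := d14_1 D7149 (iv D7149) F23005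
theorem F32562 : act 3 n7149 = n4937 := d27_1 D7149 (iv D4937) (iv F23006)
theorem F32563 : act 5 n7149 = n4964 := d36_1 D7149 (iv D4964) (iv F23007)
theorem F32564 : act 9 n7149 = n7149 := d43_2 F23008 D7149 (iv D7149)
def n7150 : Q := act 8 n4934
theorem D7150 : act 8 n4934 = n7150 := rfl
theorem F32565 : act 0 n7150 = n4946 := d7_1 D7150 (iv D4946) (iv F23004)
theorem F32566 : act 1 n7150 = n7150 := d15_1 D7150 (iv D7150) F23005
theorem F32567 : act 5 n7150 = n4965 := d37_1 D7150 (iv D4965) (iv F23007)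
theorem F32568 : act 6 n7150 = n4935 := d40_1 D7150 (iv D4935) D4934
def n7151 : Q := act 9 n4935
theorem D7151 : act 9 n4935 = n7151 := rfl
theorem F32569 : act 0 n7151 = n4947 := d8_1 D7151 (iv D4947) (iv F23009)
theorem F32570 : act 1 n7151 = n7151 := d16_1 D7151 (iv D7151) F23010
theorem F32571 : act 5 n7151 = n4936 := d38_1 D7151 (iv D4936) (iv F23011)
theorem F32572 : act 8 n7151 = n7151 := d44_1 D7151 (iv D7151) (iv D4935) F16301 D4935
def n7152 : Q := act 3 n4938
theorem D7152 : act 3 n4938 = n7152 := rfl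
theorem F32573 : act 1 n7152 = n7152 := d10_1 D7152 (iv D7152) F23023
theorem F32574 : act 2 n7152 = n7152 := d17_1 D7152 (iv D7152) F23024 F16321 (iv F23024)
theorem F32575 : act 4 n7152 = n5429 := d24_2 D4938 D7152 (iv D5429) (iv D3753) (iv F16314)
theorem F32576 : act 5 n7152 = n7152 := d25_2 F23025 D7152 (iv D7152)
theorem F32577 : act 9 n7152 = n7152 := d29_2 F23026 D7152 (iv D7152)
def n7153 : Q := act 6 n4938
theorem D7153 : act 6 n4938 = n7153 := rfl
theorem F32578 : act 1 n7153 = n7153 := d13_1 D7153 (iv D7153) F23023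
theorem F32579 : act 2 n7153 = n4943 := d20_1 D7153 (iv D4943) (iv F23024)
theorem F32580 : act 4 n7153 = n4939 := d31_1 D7153 (iv D4939) D4938
theorem F32581 : act 9 n7153 = n7153 := d41_2 F23026 D7153 (iv D7153)
def n7154 : Q := act 8 n4938
theorem D7154 : act 8 n4938 = n7154 := rfl
theorem F32582 : act 1 n7154 = n7154 := d15_1 D7154 (iv D7154) F23023
theorem F32583 : act 2 n7154 = n4944 := d22_1 D7154 (iv D4944) (iv F23024)
theorem F32584 : act 4 n7154 = n4940 := d33_1 D7154 (iv D4940) D4938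
theorem F32585 : act 5 n7154 = n7154 := d37_1 D7154 (iv D7154) F23025
def n7155 : Q := act 7 n4939
theorem D7155 : act 7 n4939 = n7155 := rfl
theorem F32586 : act 1 n7155 = n7155 := d14_1 D7155 (iv D7155) F23027
theorem F32587 : act 2 n7155 = n4945 := d21_1 D7155 (iv D4945) (iv F23028)
theorem F32588 : act 3 n7155 = n5432 := d27_1 D7155 (iv D5432) (iv F23029)
theorem F32589 : act 5 n7155 = n4969 := d36_1 D7155 (iv D4969) (iv F23030)
theorem F32590 : act 9 n7155 = n7155 := d43_2 F23031 D7155 (iv D7155)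
def n7156 : Q := act 8 n4939
theorem D7156 : act 8 n4939 = n7156 := rfl
theorem F32591 : act 1 n7156 = n7156 := d15_1 D7156 (iv D7156) F23027
theorem F32592 : act 2 n7156 = n4946 := d22_1 D7156 (iv D4946) (iv F23028)
theorem F32593 : act 5 n7156 = n4970 := d37_1 D7156 (iv D4970) (iv F23030)
theorem F32594 : act 6 n7156 = n4940 := d40_1 D7156 (iv D4940) D4939
def n7157 : Q := act 3 n4940
theorem D7157 : act 3 n4940 = n7157 := rfl
theorem F32595 : act 1 n7157 = n7157 := d10_1 D7157 (iv D7157) F23032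
theorem F32596 : act 5 n7157 = n4941 := d25_2 (iv F23034) D7157 (iv D4941)
theorem F32597 : act 8 n7157 = n5434 := d28_2 D4940 D7157 (iv D5434) (iv D3755) (iv F16314)
def n7158 : Q := act 9 n4940
theorem D7158 : act 9 n4940 = n7158 := rfl
theorem F32598 : act 1 n7158 = n7158 := d16_1 D7158 (iv D7158) F23032
theorem F32599 : act 2 n7158 = n4947 := d23_1 D7158 (iv D4947) (iv F23033)
theorem F32600 : act 5 n7158 = n4942 := d38_1 D7158 (iv D4942) (iv F23034)
theorem F32601 : act 8 n7158 = n7158 := d44_1 D7158 (iv D7158) (iv D4940) F16315 D4940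
def n7159 : Q := act 4 n4941
theorem D7159 : act 4 n4941 = n7159 := rfl
theorem F32602 : act 1 n7159 = n7159 := d11_1 D7159 (iv D7159) F23035
theorem F32603 : act 3 n7159 = n7159 := d24_1 D7159 (iv D7159) (iv D4941) F16318 D4941
theorem F32604 : act 6 n7159 = n4973 := d31_2 (iv F23036) D7159 (iv D4973)
theorem F32605 : act 8 n7159 = n5436 := d33_2 (iv F23037) D7159 (iv D5436)
def n7160 : Q := act 9 n4941
theorem D7160 : act 9 n4941 = n7160 := rfl
theorem F32606 : act 1 n7160 = n7160 := d16_1 D7160 (iv D7160) F23035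
theorem F32607 : act 3 n7160 = n4942 := d29_1 D7160 (iv D4942) D4941
theorem F32608 : act 6 n7160 = n4974 := d41_1 D7160 (iv D4974) (iv F23036)
def n7161 : Q := act 5 n4943
theorem D7161 : act 5 n4943 = n7161 := rfl
theorem F32609 : act 1 n7161 = n4948 := d12_1 D7161 (iv D4948) (iv F23043)
theorem F32610 : act 3 n7161 = n7161 := d25_1 D7161 (iv D7161) F23044
theorem F32611 : act 4 n7161 = n4975 := d30_1 D7161 (iv D4975) F16425 (iv F16326) (iv F23045)
theorem F32612 : act 6 n7161 = n7161 := d35_2 D4943 D7161 (iv D7161) (iv D4943) F16322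
theorem F32613 : act 9 n7161 = n7161 := d38_2 F23046 D7161 (iv D7161)
def n7162 : Q := act 7 n4943
theorem D7162 : act 7 n4943 = n7162 := rfl
theorem F32614 : act 1 n7162 = n4949 := d14_1 D7162 (iv D4949) (iv F23043)
theorem F32615 : act 3 n7162 = n7162 := d27_1 D7162 (iv D7162) F23044
theorem F32616 : act 4 n7162 = n4945 := d32_1 D7162 (iv D4945) (iv F23045)
theorem F32617 : act 9 n7162 = n7162 := d43_2 F23046 D7162 (iv D7162)
def n7163 : Q := act 8 n4943
theorem D7163 : act 8 n4943 = n7163 := rfl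
theorem F32618 : act 1 n7163 = n4950 := d15_1 D7163 (iv D4950) (iv F23043)
theorem F32619 : act 4 n7163 = n4946 := d33_1 D7163 (iv D4946) (iv F23045)
theorem F32620 : act 6 n7163 = n4944 := d40_1 D7163 (iv D4944) D4943
def n7164 : Q := act 3 n4944
theorem D7164 : act 3 n4944 = n7164 := rfl
theorem F32621 : act 1 n7164 = n4951 := d10_1 D7164 (iv D4951) (iv F23047)
theorem F32622 : act 5 n7164 = n7164 := d25_2 F23049 D7164 (iv D7164)
theorem F32623 : act 8 n7164 = n7164 := d28_2 D4944 D7164 (iv D7164) (iv D4944) F16321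
def n7165 : Q := act 9 n4944
theorem D7165 : act 9 n4944 = n7165 := rfl
theorem F32624 : act 1 n7165 = n4952 := d16_1 D7165 (iv D4952) (iv F23047)
theorem F32625 : act 4 n7165 = n4947 := d34_1 D7165 (iv D4947) (iv F23048)
theorem F32626 : act 5 n7165 = n7165 := d38_1 D7165 (iv D7165) F23049
theorem F32627 : act 8 n7165 = n7165 := d44_1 D7165 (iv D7165) (iv D4944) F16323 D4944
def n7166 : Q := act 8 n4945
theorem D7166 : act 8 n4945 = n7166 := rfl
theorem F32628 : act 1 n7166 = n4953 := d15_1 D7166 (iv D4953) (iv F23050)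
theorem F32629 : act 5 n7166 = n4980 := d37_1 D7166 (iv D4980) (iv F23052)
theorem F32630 : act 7 n7166 = n4946 := d42_1 D7166 (iv D4946) D4945
def n7167 : Q := act 9 n4946
theorem D7167 : act 9 n4946 = n7167 := rfl
theorem F32631 : act 1 n7167 = n4954 := d16_1 D7167 (iv D4954) (iv F23054)
theorem F32632 : act 5 n7167 = n4981 := d38_1 D7167 (iv D4981) (iv F23055)
theorem F32633 : act 6 n7167 = n4947 := d41_1 D7167 (iv D4947) (iv F23056)
theorem F32634 : act 8 n7167 = n7167 := d44_1 D7167 (iv D7167) (iv D4946) F16327 D4946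
def n7168 : Q := act 7 n4948
theorem D7168 : act 7 n4948 = n7168 := rfl
theorem F32635 : act 0 n7168 = n7168 := d6_1 D7168 (iv D7168) F23060
theorem F32636 : act 2 n7168 = n7168 := d21_1 D7168 (iv D7168) F23061
theorem F32637 : act 3 n7168 = n7168 := d27_1 D7168 (iv D7168) F23062
theorem F32638 : act 4 n7168 = n4982 := d32_1 D7168 (iv D4982) (iv F23063)
theorem F32639 : act 5 n7168 = n4949 := d36_1 D7168 (iv D4949) D4948
theorem F32640 : act 9 n7168 = n7168 := d43_2 F23065 D7168 (iv D7168)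
def n7169 : Q := act 8 n4948
theorem D7169 : act 8 n4948 = n7169 := rfl
theorem F32641 : act 0 n7169 = n7169 := d7_1 D7169 (iv D7169) F23060
theorem F32642 : act 2 n7169 = n7169 := d22_1 D7169 (iv D7169) F23061
theorem F32643 : act 4 n7169 = n4983 := d33_1 D7169 (iv D4983) (iv F23063)
theorem F32644 : act 5 n7169 = n4950 := d37_1 D7169 (iv D4950) D4948
theorem F32645 : act 6 n7169 = n7169 := d40_1 D7169 (iv D7169) F23064
def n7170 : Q := act 8 n4949
theorem D7170 : act 8 n4949 = n7170 := rfl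
theorem F32646 : act 0 n7170 = n7170 := d7_1 D7170 (iv D7170) F23066
theorem F32647 : act 2 n7170 = n7170 := d22_1 D7170 (iv D7170) F23067
theorem F32648 : act 4 n7170 = n4953 := d33_1 D7170 (iv D4953) (iv F23069)
theorem F32649 : act 7 n7170 = n4950 := d42_1 D7170 (iv D4950) D4949
def n7171 : Q := act 3 n4950
theorem D7171 : act 3 n4950 = n7171 := rfl
theorem F32650 : act 0 n7171 = n7171 := d2_1 D7171 (iv D7171) F23071
theorem F32651 : act 6 n7171 = n4951 := d26_2 (iv F23074) D7171 (iv D4951)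
theorem F32652 : act 8 n7171 = n7171 := d28_2 D4950 D7171 (iv D7171) (iv D4950) F16341
def n7172 : Q := act 9 n4950
theorem D7172 : act 9 n4950 = n7172 := rfl
theorem F32653 : act 0 n7172 = n7172 := d8_1 D7172 (iv D7172) F23071
theorem F32654 : act 2 n7172 = n7172 := d23_1 D7172 (iv D7172) F23072
theorem F32655 : act 4 n7172 = n4954 := d34_1 D7172 (iv D4954) (iv F23073)
theorem F32656 : act 6 n7172 = n4952 := d41_1 D7172 (iv D4952) (iv F23074)
theorem F32657 : act 8 n7172 = n7172 := d44_1 D7172 (iv D7172) (iv D4950) F16343 D4950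
def n7173 : Q := act 2 n4951
theorem D7173 : act 2 n4951 = n7173 := rfl
theorem F32658 : act 0 n7173 = n7173 := d1_1 D7173 (iv D7173) F23075
theorem F32659 : act 3 n7173 = n7173 := d17_2 D4951 D7173 (iv D7173) (iv D4951) F16345
theorem F32660 : act 5 n7173 = n7173 := d19_2 F23076 D7173 (iv D7173)
theorem F32661 : act 8 n7173 = n7173 := d22_2 F23077 D7173 (iv D7173)
def n7174 : Q := act 9 n4951
theorem D7174 : act 9 n4951 = n7174 := rfl
theorem F32662 : act 0 n7174 = n7174 := d8_1 D7174 (iv D7174) F23075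
theorem F32663 : act 3 n7174 = n4952 := d29_1 D7174 (iv D4952) D4951
theorem F32664 : act 5 n7174 = n7174 := d38_1 D7174 (iv D7174) F23076
def n7175 : Q := act 9 n4953
theorem D7175 : act 9 n4953 = n7175 := rfl
theorem F32665 : act 0 n7175 = n7175 := d8_1 D7175 (iv D7175) F23083
theorem F32666 : act 2 n7175 = n7175 := d23_1 D7175 (iv D7175) F23084
theorem F32667 : act 5 n7175 = n4989 := d38_1 D7175 (iv D4989) (iv F23085)
theorem F32668 : act 7 n7175 = n4954 := d43_1 D7175 (iv D4954) (iv F23086)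
theorem F32669 : act 8 n7175 = n7175 := d44_1 D7175 (iv D7175) (iv D4953) F16352 D4953
def n7181 : Q := act 6 n4957
theorem D7181 : act 6 n4957 = n7181 := rfl
theorem F32697 : act 0 n7181 = n4967 := d5_1 D7181 (iv D4967) (iv F23103)
theorem F32698 : act 2 n7181 = n4962 := d20_1 D7181 (iv D4962) (iv F23104)
theorem F32699 : act 3 n7181 = n7181 := d26_1 D7181 (iv D7181) F23105
theorem F32700 : act 4 n7181 = n4958 := d31_1 D7181 (iv D4958) D4957
theorem F32701 : act 9 n7181 = n7181 := d41_2 F23108 D7181 (iv D7181)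
def n7182 : Q := act 8 n4957
theorem D7182 : act 8 n4957 = n7182 := rfl
theorem F32702 : act 0 n7182 = n4968 := d7_1 D7182 (iv D4968) (iv F23103)
theorem F32703 : act 2 n7182 = n4963 := d22_1 D7182 (iv D4963) (iv F23104)
theorem F32704 : act 4 n7182 = n4959 := d33_1 D7182 (iv D4959) D4957
theorem F32705 : act 5 n7182 = n7182 := d37_1 D7182 (iv D7182) F23106
theorem F32706 : act 7 n7182 = n7182 := d42_1 D7182 (iv D7182) F23107
def n7183 : Q := act 7 n4958
theorem D7183 : act 7 n4958 = n7183 := rfl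
theorem F32707 : act 0 n7183 = n4969 := d6_1 D7183 (iv D4969) (iv F23109)
theorem F32708 : act 2 n7183 = n4964 := d21_1 D7183 (iv D4964) (iv F23110)
theorem F32709 : act 3 n7183 = n5454 := d27_1 D7183 (iv D5454) (iv F23111)
theorem F32710 : act 6 n7183 = n7183 := d39_1 D7183 (iv D7183) (iv D4958) F16370 D4958
theorem F32711 : act 9 n7183 = n7183 := d43_2 F23112 D7183 (iv D7183)
def n7184 : Q := act 8 n4958
theorem D7184 : act 8 n4958 = n7184 := rfl
theorem F32712 : act 0 n7184 = n4970 := d7_1 D7184 (iv D4970) (iv F23109)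
theorem F32713 : act 2 n7184 = n4965 := d22_1 D7184 (iv D4965) (iv F23110)
theorem F32714 : act 6 n7184 = n4959 := d40_1 D7184 (iv D4959) D4958
def n7185 : Q := act 3 n4959
theorem D7185 : act 3 n4959 = n7185 := rfl
theorem F32718 : act 8 n7185 = n5456 := d28_2 D4959 D7185 (iv D5456) (iv D3772) (iv F16369)
def n7186 : Q := act 9 n4959
theorem D7186 : act 9 n4959 = n7186 := rfl
theorem F32719 : act 0 n7186 = n4972 := d8_1 D7186 (iv D4972) (iv F23113)
theorem F32720 : act 2 n7186 = n4966 := d23_1 D7186 (iv D4966) (iv F23114)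
theorem F32721 : act 5 n7186 = n4961 := d38_1 D7186 (iv D4961) (iv F23115)
theorem F32722 : act 7 n7186 = n7186 := d43_1 D7186 (iv D7186) F23116
theorem F32723 : act 8 n7186 = n7186 := d44_1 D7186 (iv D7186) (iv D4959) F16371 D4959
def n7188 : Q := act 9 n4960
theorem D7188 : act 9 n4960 = n7188 := rfl
theorem F32729 : act 3 n7188 = n4961 := d29_1 D7188 (iv D4961) D4960
def n7189 : Q := act 5 n4962
theorem D7189 : act 5 n4962 = n7189 := rfl
theorem F32731 : act 0 n7189 = n4975 := d4_1 D7189 (iv D4975) (iv F23125)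
theorem F32732 : act 1 n7189 = n7189 := d12_1 D7189 (iv D7189) F23126
theorem F32733 : act 3 n7189 = n4990 := d25_1 D7189 (iv D4990) (iv F23127)
theorem F32734 : act 6 n7189 = n7189 := d35_2 D4962 D7189 (iv D7189) (iv D4962) F16379
theorem F32735 : act 9 n7189 = n7189 := d38_2 F23129 D7189 (iv D7189)
def n7190 : Q := act 7 n4962
theorem D7190 : act 7 n4962 = n7190 := rfl
theorem F32736 : act 0 n7190 = n4976 := d6_1 D7190 (iv D4976) (iv F23125)
theorem F32737 : act 1 n7190 = n7190 := d14_1 D7190 (iv D7190) F23126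
theorem F32738 : act 3 n7190 = n4991 := d27_1 D7190 (iv D4991) (iv F23127)
theorem F32739 : act 4 n7190 = n4964 := d32_1 D7190 (iv D4964) (iv F23128)
theorem F32740 : act 6 n7190 = n7190 := d39_1 D7190 (iv D7190) (iv D4962) F16380 D4962
theorem F32741 : act 9 n7190 = n7190 := d43_2 F23129 D7190 (iv D7190)
def n7191 : Q := act 8 n4962
theorem D7191 : act 8 n4962 = n7191 := rfl
theorem F32742 : act 0 n7191 = n4977 := d7_1 D7191 (iv D4977) (iv F23125)
theorem F32743 : act 1 n7191 = n7191 := d15_1 D7191 (iv D7191) F23126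
theorem F32744 : act 4 n7191 = n4965 := d33_1 D7191 (iv D4965) (iv F23128)
theorem F32745 : act 6 n7191 = n4963 := d40_1 D7191 (iv D4963) D4962
def n7192 : Q := act 3 n4963
theorem D7192 : act 3 n4963 = n7192 := rfl
theorem F32746 : act 0 n7192 = n4978 := d2_1 D7192 (iv D4978) (iv F23130)
theorem F32747 : act 1 n7192 = n7192 := d10_1 D7192 (iv D7192) F23131
theorem F32748 : act 5 n7192 = n7192 := d25_2 F23133 D7192 (iv D7192)
theorem F32749 : act 7 n7192 = n7192 := d27_2 F23134 D7192 (iv D7192)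
theorem F32750 : act 8 n7192 = n4993 := d28_2 D4963 D7192 (iv D4993) (iv D3452) (iv F16378)
def n7193 : Q := act 9 n4963
theorem D7193 : act 9 n4963 = n7193 := rfl
theorem F32751 : act 0 n7193 = n4979 := d8_1 D7193 (iv D4979) (iv F23130)
theorem F32752 : act 1 n7193 = n7193 := d16_1 D7193 (iv D7193) F23131
theorem F32753 : act 4 n7193 = n4966 := d34_1 D7193 (iv D4966) (iv F23132)
theorem F32754 : act 5 n7193 = n7193 := d38_1 D7193 (iv D7193) F23133
theorem F32755 : act 7 n7193 = n7193 := d43_1 D7193 (iv D7193) F23134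
theorem F32756 : act 8 n7193 = n7193 := d44_1 D7193 (iv D7193) (iv D4963) F16381 D4963
def n7194 : Q := act 8 n4964
theorem D7194 : act 8 n4964 = n7194 := rfl
theorem F32757 : act 0 n7194 = n4980 := d7_1 D7194 (iv D4980) (iv F23135)
theorem F32758 : act 1 n7194 = n7194 := d15_1 D7194 (iv D7194) F23136
theorem F32759 : act 6 n7194 = n7194 := d40_1 D7194 (iv D7194) F23138
theorem F32760 : act 7 n7194 = n4965 := d42_1 D7194 (iv D4965) D4964
def n7195 : Q := act 9 n4965
theorem D7195 : act 9 n4965 = n7195 := rfl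
theorem F32761 : act 0 n7195 = n4981 := d8_1 D7195 (iv D4981) (iv F23140)
theorem F32762 : act 1 n7195 = n7195 := d16_1 D7195 (iv D7195) F23141
theorem F32763 : act 6 n7195 = n4966 := d41_1 D7195 (iv D4966) (iv F23142)
theorem F32764 : act 8 n7195 = n7195 := d44_1 D7195 (iv D7195) (iv D4965) F16385 D4965
def n7196 : Q := act 5 n4967
theorem D7196 : act 5 n4967 = n7196 := rfl
theorem F32765 : act 1 n7196 = n7196 := d12_1 D7196 (iv D7196) F23148
theorem F32766 : act 2 n7196 = n4975 := d19_1 D7196 (iv D4975) (iv F23149)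
theorem F32767 : act 3 n7196 = n7196 := d25_1 D7196 (iv D7196) F23150
theorem F32768 : act 6 n7196 = n7196 := d35_2 D4967 D7196 (iv D7196) (iv D4967) F16404
theorem F32769 : act 9 n7196 = n7196 := d38_2 F23152 D7196 (iv D7196)
def n7197 : Q := act 7 n4967
theorem D7197 : act 7 n4967 = n7197 := rfl
theorem F32770 : act 1 n7197 = n7197 := d14_1 D7197 (iv D7197) F23148
theorem F32771 : act 2 n7197 = n4976 := d21_1 D7197 (iv D4976) (iv F23149)
theorem F32772 : act 3 n7197 = n7197 := d27_1 D7197 (iv D7197) F23150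
theorem F32773 : act 4 n7197 = n4969 := d32_1 D7197 (iv D4969) (iv F23151)
theorem F32774 : act 6 n7197 = n7197 := d39_1 D7197 (iv D7197) (iv D4967) F16405 D4967
theorem F32775 : act 9 n7197 = n7197 := d43_2 F23152 D7197 (iv D7197)
def n7198 : Q := act 8 n4967
theorem D7198 : act 8 n4967 = n7198 := rfl
theorem F32776 : act 1 n7198 = n7198 := d15_1 D7198 (iv D7198) F23148
theorem F32777 : act 2 n7198 = n4977 := d22_1 D7198 (iv D4977) (iv F23149)
theorem F32778 : act 4 n7198 = n4970 := d33_1 D7198 (iv D4970) (iv F23151)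
theorem F32779 : act 6 n7198 = n4968 := d40_1 D7198 (iv D4968) D4967
def n7199 : Q := act 3 n4968
theorem D7199 : act 3 n4968 = n7199 := rfl
theorem F32780 : act 1 n7199 = n7199 := d10_1 D7199 (iv D7199) F23153
theorem F32781 : act 5 n7199 = n7199 := d25_2 F23156 D7199 (iv D7199)
theorem F32782 : act 7 n7199 = n7199 := d27_2 F23157 D7199 (iv D7199)
theorem F32783 : act 8 n7199 = n7199 := d28_2 D4968 D7199 (iv D7199) (iv D4968) F16403
def n7200 : Q := act 9 n4968
theorem D7200 : act 9 n4968 = n7200 := rfl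
theorem F32784 : act 1 n7200 = n7200 := d16_1 D7200 (iv D7200) F23153
theorem F32785 : act 2 n7200 = n4979 := d23_1 D7200 (iv D4979) (iv F23154)
theorem F32786 : act 4 n7200 = n4972 := d34_1 D7200 (iv D4972) (iv F23155)
theorem F32787 : act 5 n7200 = n7200 := d38_1 D7200 (iv D7200) F23156
theorem F32788 : act 7 n7200 = n7200 := d43_1 D7200 (iv D7200) F23157
theorem F32789 : act 8 n7200 = n7200 := d44_1 D7200 (iv D7200) (iv D4968) F16406 D4968
def n7201 : Q := act 8 n4969
theorem D7201 : act 8 n4969 = n7201 := rfl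
theorem F32790 : act 1 n7201 = n7201 := d15_1 D7201 (iv D7201) F23158
theorem F32791 : act 2 n7201 = n4980 := d22_1 D7201 (iv D4980) (iv F23159)
theorem F32792 : act 6 n7201 = n7201 := d40_1 D7201 (iv D7201) F23161
theorem F32793 : act 7 n7201 = n4970 := d42_1 D7201 (iv D4970) D4969
def n7202 : Q := act 3 n4970
theorem D7202 : act 3 n4970 = n7202 := rfl
theorem F32794 : act 1 n7202 = n7202 := d10_1 D7202 (iv D7202) F23163
theorem F32795 : act 6 n7202 = n4971 := d26_2 (iv F23165) D7202 (iv D4971)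
theorem F32796 : act 8 n7202 = n5463 := d28_2 D4970 D7202 (iv D5463) (iv D3779) (iv F16409)
def n7203 : Q := act 9 n4970
theorem D7203 : act 9 n4970 = n7203 := rfl
theorem F32797 : act 1 n7203 = n7203 := d16_1 D7203 (iv D7203) F23163
theorem F32798 : act 2 n7203 = n4981 := d23_1 D7203 (iv D4981) (iv F23164)
theorem F32799 : act 6 n7203 = n4972 := d41_1 D7203 (iv D4972) (iv F23165)
theorem F32800 : act 8 n7203 = n7203 := d44_1 D7203 (iv D7203) (iv D4970) F16410 D4970
def n7204 : Q := act 4 n4971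
theorem D7204 : act 4 n4971 = n7204 := rfl
theorem F32801 : act 1 n7204 = n7204 := d11_1 D7204 (iv D7204) F23166
theorem F32802 : act 7 n7204 = n7204 := d32_2 F23168 D7204 (iv D7204)
theorem F32803 : act 8 n7204 = n5465 := d33_2 (iv F23169) D7204 (iv D5465)
def n7205 : Q := act 9 n4971
theorem D7205 : act 9 n4971 = n7205 := rfl
theorem F32804 : act 1 n7205 = n7205 := d16_1 D7205 (iv D7205) F23166
theorem F32805 : act 3 n7205 = n4972 := d29_1 D7205 (iv D4972) D4971
theorem F32806 : act 5 n7205 = n4974 := d38_1 D7205 (iv D4974) (iv F23167)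
theorem F32807 : act 7 n7205 = n7205 := d43_1 D7205 (iv D7205) F23168
def n7206 : Q := act 5 n4973
theorem D7206 : act 5 n4973 = n7206 := rfl
theorem F32808 : act 1 n7206 = n7206 := d12_1 D7206 (iv D7206) F23175
theorem F32809 : act 3 n7206 = n7206 := d25_1 D7206 (iv D7206) F23176
theorem F32810 : act 7 n7206 = n7206 := d36_2 F23177 D7206 (iv D7206)
theorem F32811 : act 8 n7206 = n5467 := d37_2 (iv F23178) D7206 (iv D5467)
def n7207 : Q := act 9 n4973
theorem D7207 : act 9 n4973 = n7207 := rfl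
theorem F32812 : act 1 n7207 = n7207 := d16_1 D7207 (iv D7207) F23175
theorem F32813 : act 3 n7207 = n7207 := d29_1 D7207 (iv D7207) F23176
theorem F32814 : act 4 n7207 = n4974 := d34_1 D7207 (iv D4974) D4973
theorem F32815 : act 7 n7207 = n7207 := d43_1 D7207 (iv D7207) F23177
def n7209 : Q := act 7 n4975
theorem D7209 : act 7 n4975 = n7209 := rfl
theorem F32820 : act 1 n7209 = n4982 := d14_1 D7209 (iv D4982) (iv F23182)
theorem F32821 : act 3 n7209 = n4997 := d27_1 D7209 (iv D4997) (iv F23183)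
theorem F32822 : act 5 n7209 = n4976 := d36_1 D7209 (iv D4976) D4975
theorem F32823 : act 9 n7209 = n7209 := d43_2 F23185 D7209 (iv D7209)
def n7210 : Q := act 8 n4975
theorem D7210 : act 8 n4975 = n7210 := rfl
theorem F32824 : act 1 n7210 = n4983 := d15_1 D7210 (iv D4983) (iv F23182)
theorem F32825 : act 5 n7210 = n4977 := d37_1 D7210 (iv D4977) D4975
theorem F32826 : act 6 n7210 = n7210 := d40_1 D7210 (iv D7210) F23184
def n7211 : Q := act 8 n4976
theorem D7211 : act 8 n4976 = n7211 := rfl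
theorem F32827 : act 1 n7211 = n4984 := d15_1 D7211 (iv D4984) (iv F23186)
theorem F32828 : act 4 n7211 = n4980 := d33_1 D7211 (iv D4980) (iv F23188)
theorem F32829 : act 6 n7211 = n7211 := d40_1 D7211 (iv D7211) F23189
theorem F32830 : act 7 n7211 = n4977 := d42_1 D7211 (iv D4977) D4976
def n7212 : Q := act 3 n4977
theorem D7212 : act 3 n4977 = n7212 := rfl
theorem F32831 : act 1 n7212 = n4985 := d10_1 D7212 (iv D4985) (iv F23191)
theorem F32832 : act 6 n7212 = n4978 := d26_2 (iv F23193) D7212 (iv D4978)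
theorem F32833 : act 8 n7212 = n5000 := d28_2 D4977 D7212 (iv D5000) (iv D3458) (iv F16424)
def n7213 : Q := act 9 n4977
theorem D7213 : act 9 n4977 = n7213 := rfl
theorem F32834 : act 1 n7213 = n4986 := d16_1 D7213 (iv D4986) (iv F23191)
theorem F32835 : act 4 n7213 = n4981 := d34_1 D7213 (iv D4981) (iv F23192)
theorem F32836 : act 6 n7213 = n4979 := d41_1 D7213 (iv D4979) (iv F23193)
theorem F32837 : act 8 n7213 = n7213 := d44_1 D7213 (iv D7213) (iv D4977) F16426 D4977
def n7214 : Q := act 2 n4978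
theorem D7214 : act 2 n4978 = n7214 := rfl
theorem F32838 : act 5 n7214 = n7214 := d19_2 F23195 D7214 (iv D7214)
theorem F32839 : act 7 n7214 = n7214 := d21_2 F23196 D7214 (iv D7214)
theorem F32840 : act 8 n7214 = n5002 := d22_2 (iv F23197) D7214 (iv D5002)
def n7215 : Q := act 9 n4978
theorem D7215 : act 9 n4978 = n7215 := rfl
theorem F32841 : act 1 n7215 = n4988 := d16_1 D7215 (iv D4988) (iv F23194)
theorem F32842 : act 3 n7215 = n4979 := d29_1 D7215 (iv D4979) D4978
theorem F32843 : act 5 n7215 = n7215 := d38_1 D7215 (iv D7215) F23195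
theorem F32844 : act 7 n7215 = n7215 := d43_1 D7215 (iv D7215) F23196
def n7216 : Q := act 9 n4980
theorem D7216 : act 9 n4980 = n7216 := rfl
theorem F32845 : act 1 n7216 = n4989 := d16_1 D7216 (iv D4989) (iv F23203)
theorem F32846 : act 6 n7216 = n7216 := d41_1 D7216 (iv D7216) F23204
theorem F32847 : act 7 n7216 = n4981 := d43_1 D7216 (iv D4981) (iv F23205)
theorem F32848 : act 8 n7216 = n7216 := d44_1 D7216 (iv D7216) (iv D4980) F16434 D4980
def n7217 : Q := act 6 n4982
theorem D7217 : act 6 n4982 = n7217 := rfl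
theorem F32849 : act 0 n7217 = n7217 := d5_1 D7217 (iv D7217) F23209
theorem F32850 : act 2 n7217 = n7217 := d20_1 D7217 (iv D7217) F23210
theorem F32851 : act 3 n7217 = n5005 := d26_1 D7217 (iv D5005) (iv F23211)
theorem F32852 : act 5 n7217 = n7217 := d35_1 D7217 (iv D7217) F23212 F16450 (iv F23212)
theorem F32853 : act 7 n7217 = n7217 := d39_2 D4982 D7217 (iv D7217) (iv D4982) F16444
theorem F32854 : act 9 n7217 = n7217 := d41_2 F23213 D7217 (iv D7217)
def n7218 : Q := act 8 n4982
theorem D7218 : act 8 n4982 = n7218 := rfl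
theorem F32855 : act 0 n7218 = n7218 := d7_1 D7218 (iv D7218) F23209
theorem F32856 : act 2 n7218 = n7218 := d22_1 D7218 (iv D7218) F23210
theorem F32857 : act 5 n7218 = n4984 := d37_1 D7218 (iv D4984) (iv F23212)
theorem F32858 : act 7 n7218 = n4983 := d42_1 D7218 (iv D4983) D4982
def n7219 : Q := act 3 n4983
theorem D7219 : act 3 n4983 = n7219 := rfl
theorem F32859 : act 0 n7219 = n7219 := d2_1 D7219 (iv D7219) F23214
theorem F32860 : act 5 n7219 = n4985 := d25_2 (iv F23216) D7219 (iv D4985)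
theorem F32861 : act 6 n7219 = n7219 := d26_2 F23217 D7219 (iv D7219)
theorem F32862 : act 8 n7219 = n5007 := d28_2 D4983 D7219 (iv D5007) (iv D3464) (iv F16443)
def n7220 : Q := act 9 n4983
theorem D7220 : act 9 n4983 = n7220 := rfl
theorem F32863 : act 0 n7220 = n7220 := d8_1 D7220 (iv D7220) F23214
theorem F32864 : act 2 n7220 = n7220 := d23_1 D7220 (iv D7220) F23215
theorem F32865 : act 5 n7220 = n4986 := d38_1 D7220 (iv D4986) (iv F23216)
theorem F32866 : act 6 n7220 = n7220 := d41_1 D7220 (iv D7220) F23217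
theorem F32867 : act 8 n7220 = n7220 := d44_1 D7220 (iv D7220) (iv D4983) F16445 D4983
def n7221 : Q := act 3 n4984
theorem D7221 : act 3 n4984 = n7221 := rfl
theorem F32868 : act 0 n7221 = n7221 := d2_1 D7221 (iv D7221) F23218
theorem F32869 : act 6 n7221 = n7221 := d26_2 F23221 D7221 (iv D7221)
theorem F32870 : act 7 n7221 = n4985 := d27_2 (iv F23222) D7221 (iv D4985)
theorem F32871 : act 8 n7221 = n5009 := d28_2 D4984 D7221 (iv D5009) (iv D3465) (iv F16448)
def n7222 : Q := act 9 n4984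
theorem D7222 : act 9 n4984 = n7222 := rfl
theorem F32872 : act 0 n7222 = n7222 := d8_1 D7222 (iv D7222) F23218
theorem F32873 : act 2 n7222 = n7222 := d23_1 D7222 (iv D7222) F23219
theorem F32874 : act 4 n7222 = n4989 := d34_1 D7222 (iv D4989) (iv F23220)
theorem F32875 : act 6 n7222 = n7222 := d41_1 D7222 (iv D7222) F23221
theorem F32876 : act 7 n7222 = n4986 := d43_1 D7222 (iv D4986) (iv F23222)
theorem F32877 : act 8 n7222 = n7222 := d44_1 D7222 (iv D7222) (iv D4984) F16451 D4984
def n7223 : Q := act 2 n4985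
theorem D7223 : act 2 n4985 = n7223 := rfl
theorem F32878 : act 0 n7223 = n7223 := d1_1 D7223 (iv D7223) F23223
theorem F32879 : act 3 n7223 = n7223 := d17_2 D4985 D7223 (iv D7223) (iv D4985) F16453
theorem F32880 : act 6 n7223 = n4987 := d20_2 (iv F23224) D7223 (iv D4987)
theorem F32881 : act 8 n7223 = n5011 := d22_2 (iv F23225) D7223 (iv D5011)
def n7224 : Q := act 9 n4985
theorem D7224 : act 9 n4985 = n7224 := rfl
theorem F32882 : act 0 n7224 = n7224 := d8_1 D7224 (iv D7224) F23223
theorem F32883 : act 3 n7224 = n4986 := d29_1 D7224 (iv D4986) D4985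
theorem F32884 : act 6 n7224 = n4988 := d41_1 D7224 (iv D4988) (iv F23224)
def n7225 : Q := act 1 n4987
theorem D7225 : act 1 n4987 = n7225 := rfl
theorem F32885 : act 3 n7225 = n7225 := d10_2 F23232 D7225 (iv D7225)
theorem F32886 : act 5 n7225 = n7225 := d12_2 F23233 D7225 (iv D7225)
theorem F32887 : act 7 n7225 = n7225 := d14_2 F23234 D7225 (iv D7225)
theorem F32888 : act 8 n7225 = n5013 := d15_2 (iv F23235) D7225 (iv D5013)
def n7226 : Q := act 9 n4987
theorem D7226 : act 9 n4987 = n7226 := rfl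
theorem F32889 : act 0 n7226 = n7226 := d8_1 D7226 (iv D7226) F23231
theorem F32890 : act 2 n7226 = n4988 := d23_1 D7226 (iv D4988) D4987
theorem F32891 : act 3 n7226 = n7226 := d29_1 D7226 (iv D7226) F23232
theorem F32892 : act 5 n7226 = n7226 := d38_1 D7226 (iv D7226) F23233
theorem F32893 : act 7 n7226 = n7226 := d43_1 D7226 (iv D7226) F23234
def n7227 : Q := act 8 n4988
theorem D7227 : act 8 n4988 = n7227 := rfl
theorem F32894 : act 0 n7227 = n7227 := d7_1 D7227 (iv D7227) F23236
theorem F32895 : act 3 n7227 = n7227 := d28_1 D7227 (iv D7227) F23237 F16465 (iv F23237)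
theorem F32896 : act 5 n7227 = n7227 := d37_1 D7227 (iv D7227) F23238
theorem F32897 : act 7 n7227 = n7227 := d42_1 D7227 (iv D7227) F23239
theorem F32898 : act 9 n7227 = n5015 := d44_2 D4988 D7227 (iv D5015) (iv D3469) (iv F16459)
def n7228 : Q := act 7 n4990
theorem D7228 : act 7 n4990 = n7228 := rfl
theorem F32899 : act 0 n7228 = n4997 := d6_1 D7228 (iv D4997) (iv F23245)
theorem F32900 : act 1 n7228 = n7228 := d14_1 D7228 (iv D7228) F23246
theorem F32901 : act 2 n7228 = n7228 := d21_1 D7228 (iv D7228) F23247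
theorem F32902 : act 4 n7228 = n7228 := d32_1 D7228 (iv D7228) F23248
theorem F32903 : act 5 n7228 = n4991 := d36_1 D7228 (iv D4991) D4990
theorem F32904 : act 9 n7228 = n7228 := d43_2 F23250 D7228 (iv D7228)
def n7229 : Q := act 8 n4990
theorem D7229 : act 8 n4990 = n7229 := rfl
theorem F32905 : act 0 n7229 = n4998 := d7_1 D7229 (iv D4998) (iv F23245)
theorem F32906 : act 1 n7229 = n7229 := d15_1 D7229 (iv D7229) F23246
theorem F32907 : act 2 n7229 = n7229 := d22_1 D7229 (iv D7229) F23247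
theorem F32908 : act 4 n7229 = n7229 := d33_1 D7229 (iv D7229) F23248
theorem F32909 : act 5 n7229 = n4992 := d37_1 D7229 (iv D4992) D4990
theorem F32910 : act 6 n7229 = n7229 := d40_1 D7229 (iv D7229) F23249
def n7230 : Q := act 8 n4991
theorem D7230 : act 8 n4991 = n7230 := rfl
theorem F32911 : act 0 n7230 = n4999 := d7_1 D7230 (iv D4999) (iv F23251)
theorem F32912 : act 1 n7230 = n7230 := d15_1 D7230 (iv D7230) F23252
theorem F32913 : act 2 n7230 = n7230 := d22_1 D7230 (iv D7230) F23253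
theorem F32914 : act 4 n7230 = n4995 := d33_1 D7230 (iv D4995) (iv F23254)
theorem F32915 : act 6 n7230 = n7230 := d40_1 D7230 (iv D7230) F23255
theorem F32916 : act 7 n7230 = n4992 := d42_1 D7230 (iv D4992) D4991
def n7231 : Q := act 3 n4992
theorem D7231 : act 3 n4992 = n7231 := rfl
theorem F32917 : act 0 n7231 = n5000 := d2_1 D7231 (iv D5000) (iv F23257)
theorem F32918 : act 1 n7231 = n7231 := d10_1 D7231 (iv D7231) F23258
theorem F32919 : act 6 n7231 = n4993 := d26_2 (iv F23261) D7231 (iv D4993)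
def n7232 : Q := act 9 n4992
theorem D7232 : act 9 n4992 = n7232 := rfl
theorem F32920 : act 0 n7232 = n5001 := d8_1 D7232 (iv D5001) (iv F23257)
theorem F32921 : act 1 n7232 = n7232 := d16_1 D7232 (iv D7232) F23258
theorem F32922 : act 2 n7232 = n7232 := d23_1 D7232 (iv D7232) F23259
theorem F32923 : act 4 n7232 = n4996 := d34_1 D7232 (iv D4996) (iv F23260)
theorem F32924 : act 6 n7232 = n4994 := d41_1 D7232 (iv D4994) (iv F23261)
theorem F32925 : act 8 n7232 = n7232 := d44_1 D7232 (iv D7232) (iv D4992) F16478 D4992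
def n7233 : Q := act 2 n4993
theorem D7233 : act 2 n4993 = n7233 := rfl
theorem F32926 : act 0 n7233 = n5002 := d1_1 D7233 (iv D5002) (iv F23262)
theorem F32927 : act 3 n7233 = n7233 := d17_2 D4993 D7233 (iv D7233) (iv D4993) F16481
theorem F32928 : act 5 n7233 = n7233 := d19_2 F23264 D7233 (iv D7233)
theorem F32929 : act 7 n7233 = n7233 := d21_2 F23265 D7233 (iv D7233)
def n7234 : Q := act 9 n4993
theorem D7234 : act 9 n4993 = n7234 := rfl
theorem F32930 : act 0 n7234 = n5003 := d8_1 D7234 (iv D5003) (iv F23262)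
theorem F32931 : act 1 n7234 = n7234 := d16_1 D7234 (iv D7234) F23263
theorem F32932 : act 3 n7234 = n4994 := d29_1 D7234 (iv D4994) D4993
theorem F32933 : act 5 n7234 = n7234 := d38_1 D7234 (iv D7234) F23264
theorem F32934 : act 7 n7234 = n7234 := d43_1 D7234 (iv D7234) F23265
def n7235 : Q := act 9 n4995
theorem D7235 : act 9 n4995 = n7235 := rfl
theorem F32935 : act 0 n7235 = n5004 := d8_1 D7235 (iv D5004) (iv F23273)
theorem F32936 : act 1 n7235 = n7235 := d16_1 D7235 (iv D7235) F23274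
theorem F32937 : act 2 n7235 = n7235 := d23_1 D7235 (iv D7235) F23275
theorem F32938 : act 5 n7235 = n7235 := d38_1 D7235 (iv D7235) F23276
theorem F32939 : act 6 n7235 = n7235 := d41_1 D7235 (iv D7235) F23277
theorem F32940 : act 7 n7235 = n4996 := d43_1 D7235 (iv D4996) (iv F23278)
theorem F32941 : act 8 n7235 = n7235 := d44_1 D7235 (iv D7235) (iv D4995) F16491 D4995
def n7236 : Q := act 6 n4997
theorem D7236 : act 6 n4997 = n7236 := rfl
theorem F32942 : act 1 n7236 = n5005 := d13_1 D7236 (iv D5005) (iv F23285)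
theorem F32943 : act 2 n7236 = n7236 := d20_1 D7236 (iv D7236) F23286
theorem F32944 : act 4 n7236 = n7236 := d31_1 D7236 (iv D7236) F23287
theorem F32945 : act 5 n7236 = n7236 := d35_1 D7236 (iv D7236) F23288 F16511 (iv F23288)
theorem F32946 : act 7 n7236 = n7236 := d39_2 D4997 D7236 (iv D7236) (iv D4997) F16506
theorem F32947 : act 9 n7236 = n7236 := d41_2 F23289 D7236 (iv D7236)
def n7237 : Q := act 8 n4997
theorem D7237 : act 8 n4997 = n7237 := rfl
theorem F32948 : act 1 n7237 = n5006 := d15_1 D7237 (iv D5006) (iv F23285)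
theorem F32949 : act 2 n7237 = n7237 := d22_1 D7237 (iv D7237) F23286
theorem F32950 : act 4 n7237 = n7237 := d33_1 D7237 (iv D7237) F23287
theorem F32951 : act 5 n7237 = n4999 := d37_1 D7237 (iv D4999) (iv F23288)
theorem F32952 : act 7 n7237 = n4998 := d42_1 D7237 (iv D4998) D4997
def n7238 : Q := act 3 n4998
theorem D7238 : act 3 n4998 = n7238 := rfl
theorem F32953 : act 1 n7238 = n5007 := d10_1 D7238 (iv D5007) (iv F23290)
theorem F32954 : act 5 n7238 = n5000 := d25_2 (iv F23293) D7238 (iv D5000)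
theorem F32955 : act 6 n7238 = n7238 := d26_2 F23294 D7238 (iv D7238)
def n7239 : Q := act 9 n4998
theorem D7239 : act 9 n4998 = n7239 := rfl
theorem F32956 : act 1 n7239 = n5008 := d16_1 D7239 (iv D5008) (iv F23290)
theorem F32957 : act 2 n7239 = n7239 := d23_1 D7239 (iv D7239) F23291
theorem F32958 : act 4 n7239 = n7239 := d34_1 D7239 (iv D7239) F23292
theorem F32959 : act 5 n7239 = n5001 := d38_1 D7239 (iv D5001) (iv F23293)
theorem F32960 : act 6 n7239 = n7239 := d41_1 D7239 (iv D7239) F23294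
theorem F32961 : act 8 n7239 = n7239 := d44_1 D7239 (iv D7239) (iv D4998) F16507 D4998
def n7240 : Q := act 3 n4999
theorem D7240 : act 3 n4999 = n7240 := rfl
theorem F32962 : act 1 n7240 = n5009 := d10_1 D7240 (iv D5009) (iv F23295)
theorem F32963 : act 6 n7240 = n7240 := d26_2 F23298 D7240 (iv D7240)
theorem F32964 : act 7 n7240 = n5000 := d27_2 (iv F23299) D7240 (iv D5000)
def n7241 : Q := act 9 n4999
theorem D7241 : act 9 n4999 = n7241 := rfl
theorem F32965 : act 1 n7241 = n5010 := d16_1 D7241 (iv D5010) (iv F23295)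
theorem F32966 : act 2 n7241 = n7241 := d23_1 D7241 (iv D7241) F23296
theorem F32967 : act 4 n7241 = n5004 := d34_1 D7241 (iv D5004) (iv F23297)
theorem F32968 : act 6 n7241 = n7241 := d41_1 D7241 (iv D7241) F23298
theorem F32969 : act 7 n7241 = n5001 := d43_1 D7241 (iv D5001) (iv F23299)
theorem F32970 : act 8 n7241 = n7241 := d44_1 D7241 (iv D7241) (iv D4999) F16512 D4999
def n7242 : Q := act 2 n5000
theorem D7242 : act 2 n5000 = n7242 := rfl
theorem F32971 : act 3 n7242 = n7242 := d17_2 D5000 D7242 (iv D7242) (iv D5000) F16514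
theorem F32972 : act 6 n7242 = n5002 := d20_2 (iv F23301) D7242 (iv D5002)
def n7243 : Q := act 9 n5000
theorem D7243 : act 9 n5000 = n7243 := rfl
theorem F32973 : act 1 n7243 = n5012 := d16_1 D7243 (iv D5012) (iv F23300)
theorem F32974 : act 3 n7243 = n5001 := d29_1 D7243 (iv D5001) D5000
theorem F32975 : act 6 n7243 = n5003 := d41_1 D7243 (iv D5003) (iv F23301)
def n7244 : Q := act 1 n5002
theorem D7244 : act 1 n5002 = n7244 := rfl
theorem F32976 : act 2 n7244 = n5013 := d9_2 D5002 D7244 (iv D5013) (iv D3468) (iv F16517)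
theorem F32977 : act 3 n7244 = n7244 := d10_2 F23307 D7244 (iv D7244)
theorem F32978 : act 5 n7244 = n7244 := d12_2 F23308 D7244 (iv D7244)
theorem F32979 : act 7 n7244 = n7244 := d14_2 F23309 D7244 (iv D7244)
def n7245 : Q := act 9 n5002
theorem D7245 : act 9 n5002 = n7245 := rfl
theorem F32980 : act 2 n7245 = n5003 := d23_1 D7245 (iv D5003) D5002
theorem F32981 : act 3 n7245 = n7245 := d29_1 D7245 (iv D7245) F23307
theorem F32982 : act 5 n7245 = n7245 := d38_1 D7245 (iv D7245) F23308
theorem F32983 : act 7 n7245 = n7245 := d43_1 D7245 (iv D7245) F23309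
def n7246 : Q := act 8 n5003
theorem D7246 : act 8 n5003 = n7246 := rfl
theorem F32984 : act 1 n7246 = n5015 := d15_1 D7246 (iv D5015) (iv F23310)
theorem F32985 : act 3 n7246 = n7246 := d28_1 D7246 (iv D7246) F23311 F16525 (iv F23311)
theorem F32986 : act 5 n7246 = n7246 := d37_1 D7246 (iv D7246) F23312
theorem F32987 : act 7 n7246 = n7246 := d42_1 D7246 (iv D7246) F23313
def n7247 : Q := act 8 n5005
theorem D7247 : act 8 n5005 = n7247 := rfl
theorem F32989 : act 2 n7247 = n5016 := d22_1 D7247 (iv D5016) (iv F23321)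
theorem F32992 : act 6 n7247 = n5006 := d40_1 D7247 (iv D5006) D5005
def n7248 : Q := act 3 n5006
theorem D7248 : act 3 n5006 = n7248 := rfl
theorem F32994 : act 0 n7248 = n7248 := d2_1 D7248 (iv D7248) F23326
theorem F32995 : act 5 n7248 = n5009 := d25_2 (iv F23329) D7248 (iv D5009)
theorem F32996 : act 7 n7248 = n5007 := d27_2 (iv F23330) D7248 (iv D5007)
def n7249 : Q := act 9 n5006
theorem D7249 : act 9 n5006 = n7249 := rfl
theorem F33001 : act 7 n7249 = n5008 := d43_1 D7249 (iv D5008) (iv F23330)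
def n7250 : Q := act 2 n5007
theorem D7250 : act 2 n5007 = n7250 := rfl
theorem F33003 : act 0 n7250 = n7250 := d1_1 D7250 (iv D7250) F23331
theorem F33004 : act 3 n7250 = n5019 := d17_2 D5007 D7250 (iv D5019) (iv D3473) (iv F16542)
theorem F33005 : act 5 n7250 = n5011 := d19_2 (iv F23332) D7250 (iv D5011)
theorem F33006 : act 6 n7250 = n7250 := d20_2 F23333 D7250 (iv D7250)
def n7251 : Q := act 4 n5007
theorem D7251 : act 4 n5007 = n7251 := rfl
theorem F33007 : act 0 n7251 = n7251 := d3_1 D7251 (iv D7251) F23331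
theorem F33008 : act 3 n7251 = n7251 := d24_1 D7251 (iv D7251) (iv D5007) F16543 D5007
theorem F33009 : act 6 n7251 = n7251 := d31_2 F23333 D7251 (iv D7251)
def n7252 : Q := act 9 n5007
theorem D7252 : act 9 n5007 = n7252 := rfl
theorem F33010 : act 0 n7252 = n7252 := d8_1 D7252 (iv D7252) F23331
theorem F33011 : act 3 n7252 = n5008 := d29_1 D7252 (iv D5008) D5007
theorem F33012 : act 5 n7252 = n5012 := d38_1 D7252 (iv D5012) (iv F23332)
theorem F33013 : act 6 n7252 = n7252 := d41_1 D7252 (iv D7252) F23333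
def n7253 : Q := act 2 n5009
theorem D7253 : act 2 n5009 = n7253 := rfl
theorem F33015 : act 3 n7253 = n5022 := d17_2 D5009 D7253 (iv D5022) (iv D3475) (iv F16547)
theorem F33017 : act 7 n7253 = n5011 := d21_2 (iv F23342) D7253 (iv D5011)
def n7254 : Q := act 9 n5009
theorem D7254 : act 9 n5009 = n7254 := rfl
theorem F33021 : act 7 n7254 = n5012 := d43_1 D7254 (iv D5012) (iv F23342)
def n7255 : Q := act 1 n5011
theorem D7255 : act 1 n5011 = n7255 := rfl
theorem F33022 : act 3 n7255 = n5024 := d10_2 (iv F23350) D7255 (iv D5024)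
theorem F33023 : act 6 n7255 = n5013 := d13_2 (iv F23351) D7255 (iv D5013)
def n7256 : Q := act 9 n5011
theorem D7256 : act 9 n5011 = n7256 := rfl
theorem F33025 : act 2 n7256 = n5012 := d23_1 D7256 (iv D5012) D5011
theorem F33026 : act 3 n7256 = n5025 := d29_1 D7256 (iv D5025) (iv F23350)
def n7257 : Q := act 8 n5012
theorem D7257 : act 8 n5012 = n7257 := rfl
theorem F33028 : act 0 n7257 = n7257 := d7_1 D7257 (iv D7257) F23352
theorem F33029 : act 3 n7257 = n7257 := d28_1 D7257 (iv D7257) F23353 F16557 (iv F23353)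
theorem F33030 : act 6 n7257 = n5015 := d40_1 D7257 (iv D5015) (iv F23354)
def n7258 : Q := act 0 n5013
theorem D7258 : act 0 n5013 = n7258 := rfl
theorem F33031 : act 1 n7258 = n7258 := d0_2 D5013 D7258 (iv D7258) (iv D5013) F16558
theorem F33032 : act 3 n7258 = n5027 := d2_2 (iv F23355) D7258 (iv D5027)
theorem F33033 : act 5 n7258 = n7258 := d4_2 F23356 D7258 (iv D7258)
theorem F33034 : act 7 n7258 = n7258 := d6_2 F23357 D7258 (iv D7258)
def n7259 : Q := act 9 n5013
theorem D7259 : act 9 n5013 = n7259 := rfl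
theorem F33035 : act 1 n7259 = n5014 := d16_1 D7259 (iv D5014) D5013
theorem F33036 : act 3 n7259 = n5028 := d29_1 D7259 (iv D5028) (iv F23355)
theorem F33037 : act 5 n7259 = n7259 := d38_1 D7259 (iv D7259) F23356
theorem F33038 : act 7 n7259 = n7259 := d43_1 D7259 (iv D7259) F23357
def n7260 : Q := act 8 n5014
theorem D7260 : act 8 n5014 = n7260 := rfl
theorem F33039 : act 0 n7260 = n7260 := d7_1 D7260 (iv D7260) F23358
theorem F33040 : act 2 n7260 = n5015 := d22_1 D7260 (iv D5015) (iv F23359)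
theorem F33041 : act 5 n7260 = n7260 := d37_1 D7260 (iv D7260) F23361
theorem F33042 : act 7 n7260 = n7260 := d42_1 D7260 (iv D7260) F23362
def n7263 : Q := act 2 n5017
theorem D7263 : act 2 n5017 = n7263 := rfl
theorem F33057 : act 5 n7263 = n5022 := d19_2 (iv F23375) D7263 (iv D5022)
theorem F33058 : act 7 n7263 = n5019 := d21_2 (iv F23376) D7263 (iv D5019)
def n7266 : Q := act 1 n5019
theorem D7266 : act 1 n5019 = n7266 := rfl
theorem F33072 : act 5 n7266 = n5024 := d12_2 (iv F23385) D7266 (iv D5024)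
def n7267 : Q := act 4 n5019
theorem D7267 : act 4 n5019 = n7267 := rfl
theorem F33076 : act 2 n7267 = n5020 := d18_1 D7267 (iv D5020) D5019
def n7268 : Q := act 9 n5019
theorem D7268 : act 9 n5019 = n7268 := rfl
theorem F33081 : act 2 n7268 = n5021 := d23_1 D7268 (iv D5021) D5019
def n7269 : Q := act 9 n5020
theorem D7269 : act 9 n5020 = n7269 := rfl
def n7271 : Q := act 1 n5022
theorem D7271 : act 1 n5022 = n7271 := rfl
theorem F33099 : act 7 n7271 = n5024 := d14_2 (iv F23402) D7271 (iv D5024)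
def n7274 : Q := act 0 n5024
theorem D7274 : act 0 n5024 = n7274 := rfl
theorem F33113 : act 1 n7274 = n7274 := d0_2 D5024 D7274 (iv D7274) (iv D5024) F16607
theorem F33114 : act 2 n7274 = n7274 := d1_2 F23410 D7274 (iv D7274)
theorem F33115 : act 4 n7274 = n7274 := d3_2 F23411 D7274 (iv D7274)
theorem F33116 : act 6 n7274 = n5027 := d5_2 (iv F23412) D7274 (iv D5027)
theorem F33117 : act 8 n7274 = n7274 := d7_2 F23413 D7274 (iv D7274)
def n7275 : Q := act 9 n5024
theorem D7275 : act 9 n5024 = n7275 := rfl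
theorem F33121 : act 6 n7275 = n5028 := d41_1 D7275 (iv D5028) (iv F23412)
def n7277 : Q := act 9 n5027
theorem D7277 : act 9 n5027 = n7277 := rfl
theorem F33127 : act 0 n7277 = n5028 := d8_1 D7277 (iv D5028) D5027
theorem F33128 : act 1 n7277 = n7277 := d16_1 D7277 (iv D7277) F23424
theorem F33129 : act 2 n7277 = n7277 := d23_1 D7277 (iv D7277) F23425
theorem F33130 : act 4 n7277 = n7277 := d34_1 D7277 (iv D7277) F23426
theorem F33131 : act 5 n7277 = n7277 := d38_1 D7277 (iv D7277) F23427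
theorem F33132 : act 7 n7277 = n7277 := d43_1 D7277 (iv D7277) F23428
def n7278 : Q := act 8 n5028
theorem D7278 : act 8 n5028 = n7278 := rfl
theorem F33133 : act 1 n7278 = n5029 := d15_1 D7278 (iv D5029) (iv F23430)
theorem F33138 : act 9 n7278 = n7278 := d44_2 D5028 D7278 (iv D7278) (iv D5028) F16620
def n7279 : Q := act 3 n5029
theorem D7279 : act 3 n5029 = n7279 := rfl
def n7280 : Q := act 4 n5030
theorem D7280 : act 4 n5030 = n7280 := rfl
theorem F33144 : act 0 n7280 = n5541 := d3_1 D7280 (iv D5541) (iv F23441)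
theorem F33145 : act 1 n7280 = n7280 := d11_1 D7280 (iv D7280) F23442
theorem F33146 : act 2 n7280 = n7280 := d18_1 D7280 (iv D7280) F23443
theorem F33147 : act 3 n7280 = n7280 := d24_1 D7280 (iv D7280) F23444 F16642 (iv F23444)
theorem F33148 : act 5 n7280 = n7280 := d30_2 D5030 D7280 (iv D7280) (iv D5030) F16636
theorem F33149 : act 6 n7280 = n7280 := d31_2 F23445 D7280 (iv D7280)
theorem F33150 : act 7 n7280 = n7280 := d32_2 F23446 D7280 (iv D7280)
def n7281 : Q := act 8 n5030
theorem D7281 : act 8 n5030 = n7281 := rfl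
theorem F33151 : act 0 n7281 = n5542 := d7_1 D7281 (iv D5542) (iv F23441)
theorem F33152 : act 1 n7281 = n7281 := d15_1 D7281 (iv D7281) F23442
theorem F33153 : act 2 n7281 = n7281 := d22_1 D7281 (iv D7281) F23443
theorem F33154 : act 3 n7281 = n7281 := d28_1 D7281 (iv D7281) F23444 F16645 (iv F23444)
theorem F33155 : act 5 n7281 = n5031 := d37_1 D7281 (iv D5031) D5030
theorem F33156 : act 6 n7281 = n7281 := d40_1 D7281 (iv D7281) F23445
theorem F33157 : act 7 n7281 = n7281 := d42_1 D7281 (iv D7281) F23446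
def n7282 : Q := act 9 n5030
theorem D7282 : act 9 n5030 = n7282 := rfl
theorem F33158 : act 0 n7282 = n5543 := d8_1 D7282 (iv D5543) (iv F23441)
theorem F33159 : act 1 n7282 = n7282 := d16_1 D7282 (iv D7282) F23442
theorem F33160 : act 2 n7282 = n7282 := d23_1 D7282 (iv D7282) F23443
theorem F33161 : act 3 n7282 = n5033 := d29_1 D7282 (iv D5033) (iv F23444)
theorem F33162 : act 5 n7282 = n5032 := d38_1 D7282 (iv D5032) D5030
theorem F33163 : act 6 n7282 = n7282 := d41_1 D7282 (iv D7282) F23445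
theorem F33164 : act 7 n7282 = n7282 := d43_1 D7282 (iv D7282) F23446
def n7283 : Q := act 9 n5031
theorem D7283 : act 9 n5031 = n7283 := rfl
def n7284 : Q := act 8 n5032
theorem D7284 : act 8 n5032 = n7284 := rfl
def n7285 : Q := act 8 n5033
theorem D7285 : act 8 n5033 = n7285 := rfl
theorem F33180 : act 2 n7285 = n5036 := d22_1 D7285 (iv D5036) (iv F23463)
theorem F33182 : act 5 n7285 = n5034 := d37_1 D7285 (iv D5034) (iv F23465)
def n7286 : Q := act 3 n5034
theorem D7286 : act 3 n5034 = n7286 := rfl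
theorem F33188 : act 6 n7286 = n5050 := d26_2 (iv F23472) D7286 (iv D5050)
def n7289 : Q := act 3 n5036
theorem D7289 : act 3 n5036 = n7289 := rfl
theorem F33204 : act 0 n7289 = n5550 := d2_1 D7289 (iv D5550) (iv F23482)
theorem F33205 : act 5 n7289 = n5037 := d25_2 (iv F23484) D7289 (iv D5037)
theorem F33206 : act 6 n7289 = n7289 := d26_2 F23485 D7289 (iv D7289)
theorem F33207 : act 7 n7289 = n7289 := d27_2 F23486 D7289 (iv D7289)
theorem F33208 : act 8 n7289 = n7289 := d28_2 D5036 D7289 (iv D7289) (iv D5036) F16660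
theorem F33209 : act 9 n7289 = n7289 := d29_2 F23487 D7289 (iv D7289)
def n7290 : Q := act 2 n5037
theorem D7290 : act 2 n5037 = n7290 := rfl
theorem F33211 : act 6 n7290 = n5053 := d20_2 (iv F23489) D7290 (iv D5053)
def n7291 : Q := act 4 n5037
theorem D7291 : act 4 n5037 = n7291 := rfl
theorem F33215 : act 0 n7291 = n5552 := d3_1 D7291 (iv D5552) (iv F23488)
theorem F33216 : act 3 n7291 = n5039 := d24_1 D7291 (iv D5039) (iv D3488) (iv F16666) D5037
theorem F33217 : act 6 n7291 = n5054 := d31_2 (iv F23489) D7291 (iv D5054)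
theorem F33218 : act 7 n7291 = n7291 := d32_2 F23490 D7291 (iv D7291)
theorem F33219 : act 8 n7291 = n7291 := d33_2 F23491 D7291 (iv D7291)
theorem F33220 : act 9 n7291 = n7291 := d34_2 F23492 D7291 (iv D7291)
def n7292 : Q := act 1 n5038
theorem D7292 : act 1 n5038 = n7292 := rfl
theorem F33222 : act 6 n7292 = n5055 := d13_2 (iv F23495) D7292 (iv D5055)
theorem F33224 : act 8 n7292 = n5040 := d15_2 (iv F23497) D7292 (iv D5040)
def n7293 : Q := act 4 n5038
theorem D7293 : act 4 n5038 = n7293 := rfl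
theorem F33227 : act 2 n7293 = n5039 := d18_1 D7293 (iv D5039) D5038
theorem F33228 : act 6 n7293 = n5056 := d31_2 (iv F23495) D7293 (iv D5056)
theorem F33230 : act 8 n7293 = n5041 := d33_2 (iv F23497) D7293 (iv D5041)
def n7294 : Q := act 5 n5039
theorem D7294 : act 5 n5039 = n7294 := rfl
theorem F33232 : act 0 n7294 = n5555 := d4_1 D7294 (iv D5555) (iv F23499)
theorem F33233 : act 4 n7294 = n7294 := d30_1 D7294 (iv D7294) (iv D5039) F16671 D5039
theorem F33234 : act 7 n7294 = n7294 := d36_2 F23501 D7294 (iv D7294)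
theorem F33235 : act 8 n7294 = n5042 := d37_2 (iv F23502) D7294 (iv D5042)
theorem F33236 : act 9 n7294 = n7294 := d38_2 F23503 D7294 (iv D7294)
def n7295 : Q := act 0 n5040
theorem D7295 : act 0 n5040 = n7295 := rfl
theorem F33240 : act 6 n7295 = n5058 := d5_2 (iv F23506) D7295 (iv D5058)
theorem F33242 : act 9 n7295 = n5043 := d8_2 (iv F23508) D7295 (iv D5043)
def n7296 : Q := act 4 n5040
theorem D7296 : act 4 n5040 = n7296 := rfl
theorem F33243 : act 1 n7296 = n5041 := d11_1 D7296 (iv D5041) D5040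
theorem F33244 : act 6 n7296 = n5059 := d31_2 (iv F23506) D7296 (iv D5059)
theorem F33245 : act 7 n7296 = n7296 := d32_2 F23507 D7296 (iv D7296)
theorem F33246 : act 9 n7296 = n5044 := d34_2 (iv F23508) D7296 (iv D5044)
def n7297 : Q := act 3 n5041
theorem D7297 : act 3 n5041 = n7297 := rfl
theorem F33247 : act 0 n7297 = n5558 := d2_1 D7297 (iv D5558) (iv F23509)
theorem F33248 : act 2 n7297 = n7297 := d17_1 D7297 (iv D7297) F23510 F16683 (iv F23510)
theorem F33249 : act 4 n7297 = n7297 := d24_2 D5041 D7297 (iv D7297) (iv D5041) F16677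
theorem F33250 : act 6 n7297 = n5060 := d26_2 (iv F23511) D7297 (iv D5060)
theorem F33251 : act 7 n7297 = n7297 := d27_2 F23512 D7297 (iv D7297)
theorem F33252 : act 9 n7297 = n5045 := d29_2 (iv F23513) D7297 (iv D5045)
def n7298 : Q := act 5 n5041
theorem D7298 : act 5 n5041 = n7298 := rfl
theorem F33253 : act 0 n7298 = n5559 := d4_1 D7298 (iv D5559) (iv F23509)
theorem F33254 : act 2 n7298 = n5042 := d19_1 D7298 (iv D5042) (iv F23510)
theorem F33255 : act 4 n7298 = n7298 := d30_1 D7298 (iv D7298) (iv D5041) F16678 D5041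
theorem F33256 : act 7 n7298 = n7298 := d36_2 F23512 D7298 (iv D7298)
theorem F33257 : act 9 n7298 = n5046 := d38_2 (iv F23513) D7298 (iv D5046)
def n7299 : Q := act 6 n5042
theorem D7299 : act 6 n5042 = n7299 := rfl
theorem F33258 : act 0 n7299 = n5560 := d5_1 D7299 (iv D5560) (iv F23514)
theorem F33259 : act 3 n7299 = n7299 := d26_1 D7299 (iv D7299) F23515
theorem F33260 : act 4 n7299 = n7299 := d31_1 D7299 (iv D7299) F23516
theorem F33261 : act 5 n7299 = n5062 := d35_1 D7299 (iv D5062) (iv D3503) (iv F16684) D5042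
theorem F33262 : act 9 n7299 = n5047 := d41_2 (iv F23518) D7299 (iv D5047)
def n7300 : Q := act 4 n5043
theorem D7300 : act 4 n5043 = n7300 := rfl
theorem F33263 : act 0 n7300 = n5044 := d3_1 D7300 (iv D5044) D5043
theorem F33264 : act 1 n7300 = n5561 := d11_1 D7300 (iv D5561) (iv F23519)
theorem F33265 : act 6 n7300 = n5063 := d31_2 (iv F23522) D7300 (iv D5063)
theorem F33266 : act 7 n7300 = n7300 := d32_2 F23523 D7300 (iv D7300)
theorem F33267 : act 8 n7300 = n7300 := d33_2 F23524 D7300 (iv D7300)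
def n7301 : Q := act 3 n5044
theorem D7301 : act 3 n5044 = n7301 := rfl
theorem F33268 : act 1 n7301 = n5045 := d10_1 D7301 (iv D5045) (iv F23525)
theorem F33269 : act 4 n7301 = n7301 := d24_2 D5044 D7301 (iv D7301) (iv D5044) F16687
theorem F33270 : act 6 n7301 = n5064 := d26_2 (iv F23526) D7301 (iv D5064)
theorem F33271 : act 7 n7301 = n7301 := d27_2 F23527 D7301 (iv D7301)
def n7302 : Q := act 5 n5044
theorem D7302 : act 5 n5044 = n7302 := rfl
theorem F33272 : act 1 n7302 = n5046 := d12_1 D7302 (iv D5046) (iv F23525)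
theorem F33273 : act 4 n7302 = n7302 := d30_1 D7302 (iv D7302) (iv D5044) F16688 D5044
theorem F33274 : act 7 n7302 = n7302 := d36_2 F23527 D7302 (iv D7302)
theorem F33275 : act 8 n7302 = n7302 := d37_2 F23528 D7302 (iv D7302)
def n7303 : Q := act 5 n5045
theorem D7303 : act 5 n5045 = n7303 := rfl
theorem F33278 : act 3 n7303 = n5046 := d25_1 D7303 (iv D5046) D5045
def n7304 : Q := act 8 n5045
theorem D7304 : act 8 n5045 = n7304 := rfl
theorem F33280 : act 0 n7304 = n5565 := d7_1 D7304 (iv D5565) (iv F23529)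
theorem F33284 : act 6 n7304 = n5067 := d40_1 D7304 (iv D5067) (iv F23532)
def n7305 : Q := act 6 n5046
theorem D7305 : act 6 n5046 = n7305 := rfl
theorem F33287 : act 2 n7305 = n5047 := d20_1 D7305 (iv D5047) (iv F23535)
theorem F33289 : act 5 n7305 = n5068 := d35_1 D7305 (iv D5068) (iv D3507) (iv F16694) D5046
def n7306 : Q := act 7 n5047
theorem D7306 : act 7 n5047 = n7306 := rfl
theorem F33294 : act 5 n7306 = n5069 := d36_1 D7306 (iv D5069) (iv F23542)
def n7307 : Q := act 8 n5048
theorem D7307 : act 8 n5048 = n7307 := rfl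
theorem F33303 : act 9 n7307 = n5049 := d44_2 D5048 D7307 (iv D5049) (iv D3495) D3494
def n7308 : Q := act 3 n5049
theorem D7308 : act 3 n5049 = n7308 := rfl
theorem F33308 : act 8 n7308 = n5050 := d28_2 D5049 D7308 (iv D5050) (iv D3496) (iv F16712)
def n7310 : Q := act 4 n5050
theorem D7310 : act 4 n5050 = n7310 := rfl
theorem F33316 : act 3 n7310 = n5052 := d24_1 D7310 (iv D5052) (iv D3497) (iv F16719) D5050
def n7313 : Q := act 5 n5052
theorem D7313 : act 5 n5052 = n7313 := rfl
theorem F33332 : act 4 n7313 = n5105 := d30_1 D7313 (iv D5105) (iv D3532) (iv F16725) D5052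
def n7314 : Q := act 1 n5053
theorem D7314 : act 1 n5053 = n7314 := rfl
def n7315 : Q := act 4 n5053
theorem D7315 : act 4 n5053 = n7315 := rfl
theorem F33341 : act 2 n7315 = n5054 := d18_1 D7315 (iv D5054) D5053
def n7316 : Q := act 5 n5054
theorem D7316 : act 5 n5054 = n7316 := rfl
theorem F33345 : act 0 n7316 = n5584 := d4_1 D7316 (iv D5584) (iv F23578)
theorem F33346 : act 3 n7316 = n5057 := d25_1 D7316 (iv D5057) (iv F23579)
theorem F33347 : act 4 n7316 = n7316 := d30_1 D7316 (iv D7316) (iv D5054) F16730 D5054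
theorem F33348 : act 7 n7316 = n5079 := d36_2 (iv F23580) D7316 (iv D5079)
theorem F33349 : act 8 n7316 = n7316 := d37_2 F23581 D7316 (iv D7316)
theorem F33350 : act 9 n7316 = n7316 := d38_2 F23582 D7316 (iv D7316)
def n7317 : Q := act 0 n5055
theorem D7317 : act 0 n5055 = n7317 := rfl
theorem F33352 : act 5 n7317 = n5106 := d4_2 (iv F23583) D7317 (iv D5106)
theorem F33353 : act 7 n7317 = n5080 := d6_2 (iv F23584) D7317 (iv D5080)
theorem F33354 : act 8 n7317 = n5058 := d7_2 (iv F23585) D7317 (iv D5058)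
def n7318 : Q := act 4 n5055
theorem D7318 : act 4 n5055 = n7318 := rfl
theorem F33357 : act 7 n7318 = n5081 := d32_2 (iv F23584) D7318 (iv D5081)
theorem F33358 : act 8 n7318 = n5059 := d33_2 (iv F23585) D7318 (iv D5059)
def n7319 : Q := act 3 n5056
theorem D7319 : act 3 n5056 = n7319 := rfl
def n7320 : Q := act 5 n5056
theorem D7320 : act 5 n5056 = n7320 := rfl
theorem F33364 : act 2 n7320 = n5057 := d19_1 D7320 (iv D5057) (iv F23588)
theorem F33365 : act 4 n7320 = n5109 := d30_1 D7320 (iv D5109) (iv D3534) (iv F16735) D5056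
theorem F33366 : act 7 n7320 = n5083 := d36_2 (iv F23589) D7320 (iv D5083)
theorem F33367 : act 8 n7320 = n5061 := d37_2 (iv F23590) D7320 (iv D5061)
def n7321 : Q := act 6 n5057
theorem D7321 : act 6 n5057 = n7321 := rfl
theorem F33369 : act 0 n7321 = n5589 := d5_1 D7321 (iv D5589) (iv F23592)
theorem F33370 : act 4 n7321 = n5110 := d31_1 D7321 (iv D5110) (iv F23593)
theorem F33371 : act 8 n7321 = n5062 := d40_2 (iv F23595) D7321 (iv D5062)
theorem F33372 : act 9 n7321 = n7321 := d41_2 F23596 D7321 (iv D7321)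
def n7322 : Q := act 4 n5058
theorem D7322 : act 4 n5058 = n7322 := rfl
theorem F33373 : act 0 n7322 = n5059 := d3_1 D7322 (iv D5059) D5058
theorem F33376 : act 9 n7322 = n5063 := d34_2 (iv F23601) D7322 (iv D5063)
def n7323 : Q := act 3 n5059
theorem D7323 : act 3 n5059 = n7323 := rfl
theorem F33377 : act 1 n7323 = n5060 := d10_1 D7323 (iv D5060) (iv F23602)
theorem F33378 : act 4 n7323 = n7323 := d24_2 D5059 D7323 (iv D7323) (iv D5059) F16743
theorem F33379 : act 7 n7323 = n5086 := d27_2 (iv F23603) D7323 (iv D5086)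
theorem F33380 : act 9 n7323 = n5064 := d29_2 (iv F23604) D7323 (iv D5064)
def n7324 : Q := act 5 n5059
theorem D7324 : act 5 n5059 = n7324 := rfl
theorem F33381 : act 1 n7324 = n5061 := d12_1 D7324 (iv D5061) (iv F23602)
theorem F33382 : act 4 n7324 = n5113 := d30_1 D7324 (iv D5113) (iv D3537) (iv F16744) D5059
theorem F33383 : act 7 n7324 = n5087 := d36_2 (iv F23603) D7324 (iv D5087)
theorem F33384 : act 9 n7324 = n5065 := d38_2 (iv F23604) D7324 (iv D5065)
def n7325 : Q := act 5 n5060
theorem D7325 : act 5 n5060 = n7325 := rfl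
theorem F33385 : act 0 n7325 = n5593 := d4_1 D7325 (iv D5593) (iv F23605)
theorem F33386 : act 2 n7325 = n7325 := d19_1 D7325 (iv D7325) F23606
theorem F33387 : act 3 n7325 = n5061 := d25_1 D7325 (iv D5061) D5060
theorem F33388 : act 7 n7325 = n5088 := d36_2 (iv F23608) D7325 (iv D5088)
theorem F33389 : act 9 n7325 = n5066 := d38_2 (iv F23609) D7325 (iv D5066)
def n7326 : Q := act 8 n5060
theorem D7326 : act 8 n5060 = n7326 := rfl
def n7327 : Q := act 6 n5061
theorem D7327 : act 6 n5061 = n7327 := rfl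
theorem F33394 : act 0 n7327 = n5595 := d5_1 D7327 (iv D5595) (iv F23610)
theorem F33395 : act 2 n7327 = n5062 := d20_1 D7327 (iv D5062) (iv F23611)
theorem F33396 : act 4 n7327 = n5116 := d31_1 D7327 (iv D5116) (iv F23612)
theorem F33397 : act 9 n7327 = n5068 := d41_2 (iv F23614) D7327 (iv D5068)
def n7328 : Q := act 7 n5062
theorem D7328 : act 7 n5062 = n7328 := rfl
theorem F33398 : act 0 n7328 = n5596 := d6_1 D7328 (iv D5596) (iv F23615)
theorem F33399 : act 3 n7328 = n7328 := d27_1 D7328 (iv D7328) F23616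
theorem F33400 : act 4 n7328 = n5117 := d32_1 D7328 (iv D5117) (iv F23617)
theorem F33401 : act 6 n7328 = n5091 := d39_1 D7328 (iv D5091) (iv D3523) (iv F16754) D5062
theorem F33402 : act 9 n7328 = n5069 := d43_2 (iv F23618) D7328 (iv D5069)
def n7329 : Q := act 3 n5063
theorem D7329 : act 3 n5063 = n7329 := rfl
theorem F33403 : act 0 n7329 = n5064 := d2_1 D7329 (iv D5064) (iv F23619)
theorem F33405 : act 4 n7329 = n7329 := d24_2 D5063 D7329 (iv D7329) (iv D5063) F16757
theorem F33406 : act 7 n7329 = n5092 := d27_2 (iv F23621) D7329 (iv D5092)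
def n7330 : Q := act 5 n5063
theorem D7330 : act 5 n5063 = n7330 := rfl
theorem F33407 : act 0 n7330 = n5065 := d4_1 D7330 (iv D5065) (iv F23619)
theorem F33409 : act 4 n7330 = n5119 := d30_1 D7330 (iv D5119) (iv D3541) (iv F16758) D5063
theorem F33410 : act 7 n7330 = n5093 := d36_2 (iv F23621) D7330 (iv D5093)
theorem F33411 : act 8 n7330 = n7330 := d37_2 F23622 D7330 (iv D7330)
def n7331 : Q := act 2 n5064
theorem D7331 : act 2 n5064 = n7331 := rfl
theorem F33412 : act 1 n7331 = n7331 := d9_1 D7331 (iv D7331) F23623 F16765 (iv F23623)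
theorem F33413 : act 4 n7331 = n7331 := d18_2 F23624 D7331 (iv D7331)
theorem F33414 : act 7 n7331 = n5094 := d21_2 (iv F23625) D7331 (iv D5094)
def n7332 : Q := act 5 n5064
theorem D7332 : act 5 n5064 = n7332 := rfl
theorem F33415 : act 1 n7332 = n5066 := d12_1 D7332 (iv D5066) (iv F23623)
theorem F33416 : act 3 n7332 = n5065 := d25_1 D7332 (iv D5065) D5064
theorem F33417 : act 7 n7332 = n5095 := d36_2 (iv F23625) D7332 (iv D5095)
def n7333 : Q := act 8 n5064
theorem D7333 : act 8 n5064 = n7333 := rfl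
theorem F33418 : act 1 n7333 = n5067 := d15_1 D7333 (iv D5067) (iv F23623)
theorem F33419 : act 3 n7333 = n7333 := d28_1 D7333 (iv D7333) (iv D5064) F16763 D5064
theorem F33420 : act 4 n7333 = n7333 := d33_1 D7333 (iv D7333) F23624
theorem F33421 : act 7 n7333 = n5096 := d42_1 D7333 (iv D5096) (iv F23625)
def n7334 : Q := act 6 n5065
theorem D7334 : act 6 n5065 = n7334 := rfl
theorem F33422 : act 1 n7334 = n5068 := d13_1 D7334 (iv D5068) (iv F23626)
theorem F33423 : act 4 n7334 = n5123 := d31_1 D7334 (iv D5123) (iv F23627)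
theorem F33424 : act 8 n7334 = n7334 := d40_2 F23629 D7334 (iv D7334)
def n7335 : Q := act 4 n5066
theorem D7335 : act 4 n5066 = n7335 := rfl
theorem F33425 : act 0 n7335 = n5603 := d3_1 D7335 (iv D5603) (iv F23630)
theorem F33427 : act 3 n7335 = n5124 := d24_1 D7335 (iv D5124) F16944 (iv F16770) (iv F23632)
theorem F33429 : act 7 n7335 = n5098 := d32_2 (iv F23633) D7335 (iv D5098)
def n7336 : Q := act 6 n5066
theorem D7336 : act 6 n5066 = n7336 := rfl
theorem F33432 : act 3 n7336 = n5068 := d26_1 D7336 (iv D5068) (iv F23632)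
def n7337 : Q := act 8 n5066
theorem D7337 : act 8 n5066 = n7337 := rfl
def n7338 : Q := act 9 n5067
theorem D7338 : act 9 n5067 = n7338 := rfl
def n7339 : Q := act 7 n5068
theorem D7339 : act 7 n5068 = n7339 := rfl
theorem F33444 : act 2 n7339 = n5069 := d21_1 D7339 (iv D5069) (iv F23640)
theorem F33445 : act 4 n7339 = n5128 := d32_1 D7339 (iv D5128) (iv F23641)
def n7345 : Q := act 5 n5073
theorem D7345 : act 5 n5073 = n7345 := rfl
theorem F33475 : act 3 n7345 = n5076 := d25_1 D7345 (iv D5076) (iv F23667)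
def n7352 : Q := act 4 n5077
theorem D7352 : act 4 n5077 = n7352 := rfl
theorem F33510 : act 1 n7352 = n5078 := d11_1 D7352 (iv D5078) D5077
def n7353 : Q := act 3 n5078
theorem D7353 : act 3 n5078 = n7353 := rfl
theorem F33515 : act 2 n7353 = n5082 := d17_1 D7353 (iv D5082) F16821 (iv F16812) (iv F23691)
def n7354 : Q := act 5 n5078
theorem D7354 : act 5 n5078 = n7354 := rfl
theorem F33519 : act 2 n7354 = n5079 := d19_1 D7354 (iv D5079) (iv F23691)
def n7355 : Q := act 6 n5079
theorem D7355 : act 6 n5079 = n7355 := rfl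
theorem F33523 : act 0 n7355 = n5633 := d5_1 D7355 (iv D5633) (iv F23695)
theorem F33524 : act 3 n7355 = n5084 := d26_1 D7355 (iv D5084) (iv F23696)
theorem F33525 : act 4 n7355 = n7355 := d31_1 D7355 (iv D7355) F23697
theorem F33526 : act 5 n7355 = n7355 := d35_1 D7355 (iv D7355) (iv D5079) F16813 D5079
theorem F33527 : act 8 n7355 = n7355 := d40_2 F23698 D7355 (iv D7355)
theorem F33528 : act 9 n7355 = n7355 := d41_2 F23699 D7355 (iv D7355)
def n7356 : Q := act 4 n5080
theorem D7356 : act 4 n5080 = n7356 := rfl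
theorem F33532 : act 8 n7356 = n5085 := d33_2 (iv F23703) D7356 (iv D5085)
def n7357 : Q := act 3 n5081
theorem D7357 : act 3 n5081 = n7357 := rfl
theorem F33534 : act 1 n7357 = n5082 := d10_1 D7357 (iv D5082) (iv F23705)
def n7358 : Q := act 5 n5081
theorem D7358 : act 5 n5081 = n7358 := rfl
theorem F33538 : act 4 n7358 = n5136 := d30_1 D7358 (iv D5136) (iv D3552) (iv F16816) D5081
theorem F33539 : act 8 n7358 = n5087 := d37_2 (iv F23707) D7358 (iv D5087)
def n7359 : Q := act 5 n5082
theorem D7359 : act 5 n5082 = n7359 := rfl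
theorem F33542 : act 3 n7359 = n5083 := d25_1 D7359 (iv D5083) D5082
def n7361 : Q := act 6 n5083
theorem D7361 : act 6 n5083 = n7361 := rfl
theorem F33548 : act 2 n7361 = n5084 := d20_1 D7361 (iv D5084) (iv F23713)
theorem F33551 : act 8 n7361 = n5090 := d40_2 (iv F23715) D7361 (iv D5090)
def n7362 : Q := act 7 n5084
theorem D7362 : act 7 n5084 = n7362 := rfl
theorem F33553 : act 0 n7362 = n5640 := d6_1 D7362 (iv D5640) (iv F23717)
theorem F33554 : act 4 n7362 = n5140 := d32_1 D7362 (iv D5140) (iv F23718)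
theorem F33555 : act 5 n7362 = n7362 := d36_1 D7362 (iv D7362) F23719
theorem F33556 : act 8 n7362 = n5091 := d42_2 (iv F23720) D7362 (iv D5091)
theorem F33557 : act 9 n7362 = n7362 := d43_2 F23721 D7362 (iv D7362)
def n7363 : Q := act 3 n5085
theorem D7363 : act 3 n5085 = n7363 := rfl
theorem F33562 : act 9 n7363 = n5092 := d29_2 (iv F23725) D7363 (iv D5092)
def n7364 : Q := act 5 n5085
theorem D7364 : act 5 n5085 = n7364 := rfl
theorem F33563 : act 0 n7364 = n5087 := d4_1 D7364 (iv D5087) (iv F23722)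
theorem F33566 : act 9 n7364 = n5093 := d38_2 (iv F23725) D7364 (iv D5093)
def n7365 : Q := act 2 n5086
theorem D7365 : act 2 n5086 = n7365 := rfl
theorem F33567 : act 1 n7365 = n7365 := d9_1 D7365 (iv D7365) F23726 F16838 (iv F23726)
theorem F33568 : act 4 n7365 = n7365 := d18_2 F23727 D7365 (iv D7365)
theorem F33569 : act 6 n7365 = n7365 := d20_2 F23728 D7365 (iv D7365)
theorem F33570 : act 9 n7365 = n5094 := d23_2 (iv F23729) D7365 (iv D5094)
def n7366 : Q := act 5 n5086
theorem D7366 : act 5 n5086 = n7366 := rfl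
theorem F33571 : act 1 n7366 = n5088 := d12_1 D7366 (iv D5088) (iv F23726)
theorem F33572 : act 3 n7366 = n5087 := d25_1 D7366 (iv D5087) D5086
theorem F33573 : act 9 n7366 = n5095 := d38_2 (iv F23729) D7366 (iv D5095)
def n7367 : Q := act 8 n5086
theorem D7367 : act 8 n5086 = n7367 := rfl
def n7368 : Q := act 6 n5087
theorem D7368 : act 6 n5087 = n7368 := rfl
theorem F33577 : act 1 n7368 = n5090 := d13_1 D7368 (iv D5090) (iv F23730)
theorem F33578 : act 4 n7368 = n5146 := d31_1 D7368 (iv D5146) (iv F23731)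
theorem F33579 : act 5 n7368 = n7368 := d35_1 D7368 (iv D7368) (iv D5087) F16835 D5087
theorem F33580 : act 9 n7368 = n5097 := d41_2 (iv F23732) D7368 (iv D5097)
def n7369 : Q := act 4 n5088
theorem D7369 : act 4 n5088 = n7369 := rfl
theorem F33581 : act 0 n7369 = n5647 := d3_1 D7369 (iv D5647) (iv F23733)
theorem F33582 : act 2 n7369 = n7369 := d18_1 D7369 (iv D7369) F23734
theorem F33583 : act 3 n7369 = n5147 := d24_1 D7369 (iv D5147) F17009 (iv F16844) (iv F23735)
theorem F33584 : act 5 n7369 = n7369 := d30_2 D5088 D7369 (iv D7369) (iv D5088) F16839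
theorem F33585 : act 9 n7369 = n5098 := d34_2 (iv F23736) D7369 (iv D5098)
def n7370 : Q := act 6 n5088
theorem D7370 : act 6 n5088 = n7370 := rfl
theorem F33586 : act 0 n7370 = n5648 := d5_1 D7370 (iv D5648) (iv F23733)
theorem F33587 : act 2 n7370 = n7370 := d20_1 D7370 (iv D7370) F23734
theorem F33588 : act 3 n7370 = n5090 := d26_1 D7370 (iv D5090) (iv F23735)
theorem F33589 : act 5 n7370 = n7370 := d35_1 D7370 (iv D7370) (iv D5088) F16840 D5088
theorem F33590 : act 9 n7370 = n5099 := d41_2 (iv F23736) D7370 (iv D5099)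
def n7371 : Q := act 8 n5088
theorem D7371 : act 8 n5088 = n7371 := rfl
theorem F33593 : act 5 n7371 = n5089 := d37_1 D7371 (iv D5089) D5088
def n7372 : Q := act 9 n5089
theorem D7372 : act 9 n5089 = n7372 := rfl
theorem F33598 : act 8 n7372 = n5101 := d44_1 D7372 (iv D5101) (iv D3528) (iv F16841) D5089
def n7373 : Q := act 7 n5090
theorem D7373 : act 7 n5090 = n7373 := rfl
theorem F33599 : act 0 n7373 = n5651 := d6_1 D7373 (iv D5651) (iv F23741)
theorem F33600 : act 2 n7373 = n5091 := d21_1 D7373 (iv D5091) (iv F23742)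
theorem F33601 : act 4 n7373 = n5151 := d32_1 D7373 (iv D5151) (iv F23743)
theorem F33602 : act 5 n7373 = n7373 := d36_1 D7373 (iv D7373) F23744
theorem F33603 : act 9 n7373 = n5102 := d43_2 (iv F23745) D7373 (iv D5102)
def n7374 : Q := act 2 n5092
theorem D7374 : act 2 n5092 = n7374 := rfl
theorem F33604 : act 0 n7374 = n5094 := d1_1 D7374 (iv D5094) (iv F23751)
theorem F33605 : act 4 n7374 = n7374 := d18_2 F23753 D7374 (iv D7374)
theorem F33606 : act 6 n7374 = n7374 := d20_2 F23754 D7374 (iv D7374)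
def n7375 : Q := act 5 n5092
theorem D7375 : act 5 n5092 = n7375 := rfl
theorem F33607 : act 0 n7375 = n5095 := d4_1 D7375 (iv D5095) (iv F23751)
theorem F33609 : act 3 n7375 = n5093 := d25_1 D7375 (iv D5093) D5092
def n7376 : Q := act 8 n5092
theorem D7376 : act 8 n5092 = n7376 := rfl
theorem F33610 : act 0 n7376 = n5096 := d7_1 D7376 (iv D5096) (iv F23751)
theorem F33612 : act 3 n7376 = n7376 := d28_1 D7376 (iv D7376) (iv D5092) F16854 D5092
theorem F33613 : act 4 n7376 = n7376 := d33_1 D7376 (iv D7376) F23753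
theorem F33614 : act 6 n7376 = n7376 := d40_1 D7376 (iv D7376) F23754
def n7377 : Q := act 6 n5093
theorem D7377 : act 6 n5093 = n7377 := rfl
theorem F33615 : act 0 n7377 = n5097 := d5_1 D7377 (iv D5097) (iv F23755)
theorem F33616 : act 1 n7377 = n5655 := d13_1 D7377 (iv D5655) (iv F23756)
theorem F33617 : act 4 n7377 = n5155 := d31_1 D7377 (iv D5155) (iv F23757)
theorem F33618 : act 5 n7377 = n7377 := d35_1 D7377 (iv D7377) (iv D5093) F16853 D5093
theorem F33619 : act 8 n7377 = n7377 := d40_2 F23758 D7377 (iv D7377)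
def n7378 : Q := act 5 n5094
theorem D7378 : act 5 n5094 = n7378 := rfl
theorem F33620 : act 1 n7378 = n7378 := d12_1 D7378 (iv D7378) F23759
theorem F33621 : act 2 n7378 = n5095 := d19_1 D7378 (iv D5095) D5094
def n7379 : Q := act 8 n5094
theorem D7379 : act 8 n5094 = n7379 := rfl
theorem F33622 : act 1 n7379 = n7379 := d15_1 D7379 (iv D7379) F23759
theorem F33623 : act 2 n7379 = n5096 := d22_1 D7379 (iv D5096) D5094
theorem F33624 : act 4 n7379 = n7379 := d33_1 D7379 (iv D7379) F23760
theorem F33625 : act 6 n7379 = n7379 := d40_1 D7379 (iv D7379) F23761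
def n7380 : Q := act 4 n5095
theorem D7380 : act 4 n5095 = n7380 := rfl
theorem F33626 : act 1 n7380 = n5098 := d11_1 D7380 (iv D5098) (iv F23762)
theorem F33627 : act 3 n7380 = n5158 := d24_1 D7380 (iv D5158) F17034 (iv F16859) (iv F23763)
theorem F33628 : act 5 n7380 = n7380 := d30_2 D5095 D7380 (iv D7380) (iv D5095) F16856
def n7381 : Q := act 6 n5095
theorem D7381 : act 6 n5095 = n7381 := rfl
theorem F33629 : act 1 n7381 = n5099 := d13_1 D7381 (iv D5099) (iv F23762)
theorem F33630 : act 3 n7381 = n5097 := d26_1 D7381 (iv D5097) (iv F23763)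
theorem F33631 : act 5 n7381 = n7381 := d35_1 D7381 (iv D7381) (iv D5095) F16857 D5095
def n7382 : Q := act 8 n5095
theorem D7382 : act 8 n5095 = n7382 := rfl
theorem F33632 : act 1 n7382 = n5100 := d15_1 D7382 (iv D5100) (iv F23762)
theorem F33633 : act 3 n7382 = n7382 := d28_1 D7382 (iv D7382) F23763 F16860 (iv F23763)
theorem F33634 : act 5 n7382 = n5096 := d37_1 D7382 (iv D5096) D5095
def n7383 : Q := act 9 n5096
theorem D7383 : act 9 n5096 = n7383 := rfl
def n7384 : Q := act 7 n5097
theorem D7384 : act 7 n5097 = n7384 := rfl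
theorem F33639 : act 1 n7384 = n5102 := d14_1 D7384 (iv D5102) (iv F23768)
theorem F33640 : act 4 n7384 = n5162 := d32_1 D7384 (iv D5162) (iv F23769)
theorem F33641 : act 5 n7384 = n7384 := d36_1 D7384 (iv D7384) F23770
theorem F33642 : act 8 n7384 = n7384 := d42_2 F23771 D7384 (iv D7384)
def n7385 : Q := act 6 n5098
theorem D7385 : act 6 n5098 = n7385 := rfl
theorem F33645 : act 3 n7385 = n5163 := d26_1 D7385 (iv D5163) (iv F23774)
theorem F33646 : act 4 n7385 = n5099 := d31_1 D7385 (iv D5099) D5098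
def n7386 : Q := act 8 n5098
theorem D7386 : act 8 n5098 = n7386 := rfl
theorem F33647 : act 0 n7386 = n5664 := d7_1 D7386 (iv D5664) (iv F23772)
theorem F33649 : act 4 n7386 = n5100 := d33_1 D7386 (iv D5100) D5098
def n7387 : Q := act 7 n5099
theorem D7387 : act 7 n5099 = n7387 := rfl
theorem F33653 : act 3 n7387 = n5102 := d27_1 D7387 (iv D5102) (iv F23778)
def n7388 : Q := act 8 n5099
theorem D7388 : act 8 n5099 = n7388 := rfl
theorem F33659 : act 6 n7388 = n5100 := d40_1 D7388 (iv D5100) D5099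
def n7389 : Q := act 9 n5100
theorem D7389 : act 9 n5100 = n7389 := rfl
def n7390 : Q := act 0 n5103
theorem D7390 : act 0 n5103 = n7390 := rfl
theorem F33666 : act 3 n7390 = n5106 := d2_2 (iv F23795) D7390 (iv D5106)
theorem F33668 : act 7 n7390 = n5129 := d6_2 (iv F23797) D7390 (iv D5129)
def n7392 : Q := act 3 n5104
theorem D7392 : act 3 n5104 = n7392 := rfl
theorem F33679 : act 4 n7392 = n5108 := d24_2 D5104 D7392 (iv D5108) (iv D3534) (iv F16880)
theorem F33681 : act 7 n7392 = n5131 := d27_2 (iv F23803) D7392 (iv D5131)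
def n7393 : Q := act 5 n5104
theorem D7393 : act 5 n5104 = n7393 := rfl
theorem F33684 : act 2 n7393 = n5105 := d19_1 D7393 (iv D5105) (iv F23801)
def n7395 : Q := act 4 n5106
theorem D7395 : act 4 n5106 = n7395 := rfl
theorem F33694 : act 0 n7395 = n5107 := d3_1 D7395 (iv D5107) D5106
theorem F33695 : act 1 n7395 = n5676 := d11_1 D7395 (iv D5676) (iv F23812)
theorem F33697 : act 7 n7395 = n5134 := d32_2 (iv F23814) D7395 (iv D5134)
theorem F33698 : act 8 n7395 = n5111 := d33_2 (iv F23815) D7395 (iv D5111)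
def n7396 : Q := act 3 n5107
theorem D7396 : act 3 n5107 = n7396 := rfl
theorem F33702 : act 7 n7396 = n5135 := d27_2 (iv F23819) D7396 (iv D5135)
def n7397 : Q := act 5 n5107
theorem D7397 : act 5 n5107 = n7397 := rfl
theorem F33705 : act 7 n7397 = n5136 := d36_2 (iv F23819) D7397 (iv D5136)
theorem F33706 : act 8 n7397 = n5113 := d37_2 (iv F23820) D7397 (iv D5113)
def n7398 : Q := act 5 n5108
theorem D7398 : act 5 n5108 = n7398 := rfl
theorem F33710 : act 3 n7398 = n5109 := d25_1 D7398 (iv D5109) D5108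
theorem F33711 : act 7 n7398 = n5137 := d36_2 (iv F23825) D7398 (iv D5137)
def n7399 : Q := act 8 n5108
theorem D7399 : act 8 n5108 = n7399 := rfl
theorem F33713 : act 0 n7399 = n5680 := d7_1 D7399 (iv D5680) (iv F23822)
theorem F33717 : act 7 n7399 = n5138 := d42_1 D7399 (iv D5138) (iv F23825)
def n7400 : Q := act 6 n5109
theorem D7400 : act 6 n5109 = n7400 := rfl
theorem F33719 : act 2 n7400 = n5110 := d20_1 D7400 (iv D5110) (iv F23828)
theorem F33721 : act 8 n7400 = n5116 := d40_2 (iv F23830) D7400 (iv D5116)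
def n7401 : Q := act 7 n5110
theorem D7401 : act 7 n5110 = n7401 := rfl
theorem F33723 : act 0 n7401 = n5682 := d6_1 D7401 (iv D5682) (iv F23832)
theorem F33724 : act 3 n7401 = n7401 := d27_1 D7401 (iv D7401) F23833
theorem F33725 : act 5 n7401 = n7401 := d36_1 D7401 (iv D7401) F23834
theorem F33726 : act 6 n7401 = n5140 := d39_1 D7401 (iv D5140) (iv D3555) (iv F16904) D5110
theorem F33727 : act 8 n7401 = n5117 := d42_2 (iv F23835) D7401 (iv D5117)
theorem F33728 : act 9 n7401 = n7401 := d43_2 F23836 D7401 (iv D7401)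
def n7402 : Q := act 3 n5111
theorem D7402 : act 3 n5111 = n7402 := rfl
theorem F33729 : act 0 n7402 = n5112 := d2_1 D7402 (iv D5112) (iv F23837)
theorem F33730 : act 1 n7402 = n5683 := d10_1 D7402 (iv D5683) (iv F23838)
theorem F33733 : act 7 n7402 = n5141 := d27_2 (iv F23840) D7402 (iv D5141)
theorem F33734 : act 9 n7402 = n5118 := d29_2 (iv F23841) D7402 (iv D5118)
def n7403 : Q := act 5 n5111
theorem D7403 : act 5 n5111 = n7403 := rfl
theorem F33735 : act 0 n7403 = n5113 := d4_1 D7403 (iv D5113) (iv F23837)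
theorem F33737 : act 7 n7403 = n5142 := d36_2 (iv F23840) D7403 (iv D5142)
theorem F33738 : act 9 n7403 = n5119 := d38_2 (iv F23841) D7403 (iv D5119)
def n7404 : Q := act 2 n5112
theorem D7404 : act 2 n5112 = n7404 := rfl
theorem F33739 : act 1 n7404 = n5229 := d9_1 D7404 (iv D5229) F17241 (iv F16917) (iv F23842)
theorem F33740 : act 4 n7404 = n7404 := d18_2 F23843 D7404 (iv D7404)
theorem F33741 : act 6 n7404 = n7404 := d20_2 F23844 D7404 (iv D7404)
theorem F33742 : act 7 n7404 = n5143 := d21_2 (iv F23845) D7404 (iv D5143)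
theorem F33743 : act 9 n7404 = n5120 := d23_2 (iv F23846) D7404 (iv D5120)
def n7405 : Q := act 5 n5112
theorem D7405 : act 5 n5112 = n7405 := rfl
theorem F33744 : act 1 n7405 = n5114 := d12_1 D7405 (iv D5114) (iv F23842)
theorem F33745 : act 3 n7405 = n5113 := d25_1 D7405 (iv D5113) D5112
theorem F33746 : act 7 n7405 = n5144 := d36_2 (iv F23845) D7405 (iv D5144)
theorem F33747 : act 9 n7405 = n5121 := d38_2 (iv F23846) D7405 (iv D5121)
def n7406 : Q := act 8 n5112
theorem D7406 : act 8 n5112 = n7406 := rfl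
theorem F33751 : act 7 n7406 = n5145 := d42_1 D7406 (iv D5145) (iv F23845)
def n7407 : Q := act 6 n5113
theorem D7407 : act 6 n5113 = n7407 := rfl
theorem F33752 : act 1 n7407 = n5116 := d13_1 D7407 (iv D5116) (iv F23847)
theorem F33753 : act 5 n7407 = n7407 := d35_1 D7407 (iv D7407) (iv D5113) F16913 D5113
theorem F33754 : act 9 n7407 = n5123 := d41_2 (iv F23849) D7407 (iv D5123)
def n7408 : Q := act 4 n5114
theorem D7408 : act 4 n5114 = n7408 := rfl
theorem F33755 : act 0 n7408 = n5689 := d3_1 D7408 (iv D5689) (iv F23850)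
theorem F33756 : act 2 n7408 = n5233 := d18_1 D7408 (iv D5233) (iv F23851)
theorem F33757 : act 5 n7408 = n7408 := d30_2 D5114 D7408 (iv D7408) (iv D5114) F16918
theorem F33758 : act 7 n7408 = n5147 := d32_2 (iv F23853) D7408 (iv D5147)
theorem F33759 : act 9 n7408 = n5124 := d34_2 (iv F23854) D7408 (iv D5124)
def n7409 : Q := act 6 n5114
theorem D7409 : act 6 n5114 = n7409 := rfl
theorem F33760 : act 0 n7409 = n5690 := d5_1 D7409 (iv D5690) (iv F23850)
theorem F33761 : act 2 n7409 = n5234 := d20_1 D7409 (iv D5234) (iv F23851)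
theorem F33762 : act 3 n7409 = n5116 := d26_1 D7409 (iv D5116) (iv F23852)
theorem F33763 : act 5 n7409 = n7409 := d35_1 D7409 (iv D7409) (iv D5114) F16919 D5114
theorem F33764 : act 9 n7409 = n5125 := d41_2 (iv F23854) D7409 (iv D5125)
def n7410 : Q := act 8 n5114
theorem D7410 : act 8 n5114 = n7410 := rfl
theorem F33765 : act 0 n7410 = n5691 := d7_1 D7410 (iv D5691) (iv F23850)
theorem F33766 : act 2 n7410 = n5235 := d22_1 D7410 (iv D5235) (iv F23851)
def n7411 : Q := act 9 n5115
theorem D7411 : act 9 n5115 = n7411 := rfl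
theorem F33769 : act 0 n7411 = n5692 := d8_1 D7411 (iv D5692) (iv F23855)
theorem F33770 : act 2 n7411 = n5236 := d23_1 D7411 (iv D5236) (iv F23856)
def n7412 : Q := act 7 n5116
theorem D7412 : act 7 n5116 = n7412 := rfl
theorem F33776 : act 2 n7412 = n5117 := d21_1 D7412 (iv D5117) (iv F23861)
theorem F33777 : act 5 n7412 = n7412 := d36_1 D7412 (iv D7412) F23862
theorem F33778 : act 6 n7412 = n5151 := d39_1 D7412 (iv D5151) (iv D3561) (iv F16924) D5116
theorem F33779 : act 9 n7412 = n5128 := d43_2 (iv F23863) D7412 (iv D5128)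
def n7413 : Q := act 2 n5118
theorem D7413 : act 2 n5118 = n7413 := rfl
theorem F33780 : act 0 n7413 = n5120 := d1_1 D7413 (iv D5120) (iv F23869)
theorem F33781 : act 4 n7413 = n7413 := d18_2 F23871 D7413 (iv D7413)
theorem F33782 : act 6 n7413 = n7413 := d20_2 F23872 D7413 (iv D7413)
theorem F33783 : act 7 n7413 = n5152 := d21_2 (iv F23873) D7413 (iv D5152)
def n7414 : Q := act 5 n5118
theorem D7414 : act 5 n5118 = n7414 := rfl
theorem F33784 : act 0 n7414 = n5121 := d4_1 D7414 (iv D5121) (iv F23869)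
theorem F33785 : act 1 n7414 = n5695 := d12_1 D7414 (iv D5695) (iv F23870)
theorem F33786 : act 3 n7414 = n5119 := d25_1 D7414 (iv D5119) D5118
theorem F33787 : act 7 n7414 = n5153 := d36_2 (iv F23873) D7414 (iv D5153)
def n7415 : Q := act 8 n5118
theorem D7415 : act 8 n5118 = n7415 := rfl
theorem F33788 : act 0 n7415 = n5122 := d7_1 D7415 (iv D5122) (iv F23869)
theorem F33790 : act 3 n7415 = n7415 := d28_1 D7415 (iv D7415) (iv D5118) F16934 D5118
theorem F33791 : act 4 n7415 = n7415 := d33_1 D7415 (iv D7415) F23871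
theorem F33792 : act 6 n7415 = n7415 := d40_1 D7415 (iv D7415) F23872
theorem F33793 : act 7 n7415 = n5154 := d42_1 D7415 (iv D5154) (iv F23873)
def n7416 : Q := act 6 n5119
theorem D7416 : act 6 n5119 = n7416 := rfl
theorem F33794 : act 0 n7416 = n5123 := d5_1 D7416 (iv D5123) (iv F23874)
theorem F33796 : act 5 n7416 = n7416 := d35_1 D7416 (iv D7416) (iv D5119) F16932 D5119
theorem F33797 : act 8 n7416 = n7416 := d40_2 F23877 D7416 (iv D7416)
def n7417 : Q := act 5 n5120
theorem D7417 : act 5 n5120 = n7417 := rfl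
theorem F33798 : act 1 n7417 = n5242 := d12_1 D7417 (iv D5242) (iv F23878)
theorem F33799 : act 2 n7417 = n5121 := d19_1 D7417 (iv D5121) D5120
theorem F33800 : act 7 n7417 = n5156 := d36_2 (iv F23881) D7417 (iv D5156)
def n7418 : Q := act 8 n5120
theorem D7418 : act 8 n5120 = n7418 := rfl
theorem F33801 : act 1 n7418 = n5243 := d15_1 D7418 (iv D5243) (iv F23878)
theorem F33802 : act 2 n7418 = n5122 := d22_1 D7418 (iv D5122) D5120
theorem F33803 : act 4 n7418 = n7418 := d33_1 D7418 (iv D7418) F23879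
theorem F33804 : act 6 n7418 = n7418 := d40_1 D7418 (iv D7418) F23880
theorem F33805 : act 7 n7418 = n5157 := d42_1 D7418 (iv D5157) (iv F23881)
def n7419 : Q := act 4 n5121
theorem D7419 : act 4 n5121 = n7419 := rfl
theorem F33806 : act 1 n7419 = n5124 := d11_1 D7419 (iv D5124) (iv F23882)
theorem F33807 : act 5 n7419 = n7419 := d30_2 D5121 D7419 (iv D7419) (iv D5121) F16936
theorem F33808 : act 7 n7419 = n5158 := d32_2 (iv F23884) D7419 (iv D5158)
def n7420 : Q := act 6 n5121
theorem D7420 : act 6 n5121 = n7420 := rfl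
theorem F33809 : act 1 n7420 = n5125 := d13_1 D7420 (iv D5125) (iv F23882)
theorem F33810 : act 3 n7420 = n5123 := d26_1 D7420 (iv D5123) (iv F23883)
theorem F33811 : act 5 n7420 = n7420 := d35_1 D7420 (iv D7420) (iv D5121) F16937 D5121
def n7421 : Q := act 8 n5121
theorem D7421 : act 8 n5121 = n7421 := rfl
theorem F33812 : act 1 n7421 = n5126 := d15_1 D7421 (iv D5126) (iv F23882)
theorem F33813 : act 3 n7421 = n7421 := d28_1 D7421 (iv D7421) F23883 F16941 (iv F23883)
theorem F33814 : act 5 n7421 = n5122 := d37_1 D7421 (iv D5122) D5121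
theorem F33815 : act 7 n7421 = n5160 := d42_1 D7421 (iv D5160) (iv F23884)
def n7422 : Q := act 9 n5122
theorem D7422 : act 9 n5122 = n7422 := rfl
theorem F33816 : act 1 n7422 = n5127 := d16_1 D7422 (iv D5127) (iv F23885)
theorem F33817 : act 3 n7422 = n7422 := d29_1 D7422 (iv D7422) F23886
theorem F33818 : act 4 n7422 = n7422 := d34_1 D7422 (iv D7422) F23887
theorem F33819 : act 6 n7422 = n7422 := d41_1 D7422 (iv D7422) F23888
theorem F33820 : act 7 n7422 = n5161 := d43_1 D7422 (iv D5161) (iv F23889)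
def n7423 : Q := act 7 n5123
theorem D7423 : act 7 n5123 = n7423 := rfl
theorem F33821 : act 1 n7423 = n5128 := d14_1 D7423 (iv D5128) (iv F23890)
theorem F33822 : act 5 n7423 = n7423 := d36_1 D7423 (iv D7423) F23891
theorem F33823 : act 6 n7423 = n5162 := d39_1 D7423 (iv D5162) (iv D3568) (iv F16940) D5123
theorem F33824 : act 8 n7423 = n7423 := d42_2 F23892 D7423 (iv D7423)
def n7424 : Q := act 6 n5124
theorem D7424 : act 6 n5124 = n7424 := rfl
theorem F33826 : act 2 n7424 = n5249 := d20_1 D7424 (iv D5249) (iv F23894)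
theorem F33827 : act 4 n7424 = n5125 := d31_1 D7424 (iv D5125) D5124
def n7425 : Q := act 8 n5124
theorem D7425 : act 8 n5124 = n7425 := rfl
theorem F33829 : act 2 n7425 = n5250 := d22_1 D7425 (iv D5250) (iv F23894)
theorem F33832 : act 7 n7425 = n5164 := d42_1 D7425 (iv D5164) (iv F23896)
def n7426 : Q := act 7 n5125
theorem D7426 : act 7 n5125 = n7426 := rfl
theorem F33834 : act 2 n7426 = n5251 := d21_1 D7426 (iv D5251) (iv F23898)
def n7427 : Q := act 8 n5125
theorem D7427 : act 8 n5125 = n7427 := rfl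
theorem F33839 : act 2 n7427 = n5252 := d22_1 D7427 (iv D5252) (iv F23898)
theorem F33842 : act 6 n7427 = n5126 := d40_1 D7427 (iv D5126) D5125
def n7428 : Q := act 9 n5126
theorem D7428 : act 9 n5126 = n7428 := rfl
theorem F33844 : act 2 n7428 = n5253 := d23_1 D7428 (iv D5253) (iv F23902)
theorem F33845 : act 3 n7428 = n7428 := d29_1 D7428 (iv D7428) F23903
theorem F33846 : act 5 n7428 = n5127 := d38_1 D7428 (iv D5127) (iv F23904)
theorem F33847 : act 7 n7428 = n5167 := d43_1 D7428 (iv D5167) (iv F23905)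
def n7429 : Q := act 4 n5129
theorem D7429 : act 4 n5129 = n7429 := rfl
theorem F33851 : act 6 n7429 = n5168 := d31_2 (iv F23920) D7429 (iv D5168)
def n7430 : Q := act 3 n5130
theorem D7430 : act 3 n5130 = n7430 := rfl
theorem F33855 : act 4 n7430 = n5135 := d24_2 D5130 D7430 (iv D5135) (iv D3552) (iv F16962)
theorem F33856 : act 6 n7430 = n5169 := d26_2 (iv F23925) D7430 (iv D5169)
def n7432 : Q := act 5 n5131
theorem D7432 : act 5 n5131 = n7432 := rfl
theorem F33864 : act 3 n7432 = n5132 := d25_1 D7432 (iv D5132) D5131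
def n7433 : Q := act 8 n5131
theorem D7433 : act 8 n5131 = n7433 := rfl
theorem F33870 : act 6 n7433 = n5172 := d40_1 D7433 (iv D5172) (iv F23931)
def n7436 : Q := act 3 n5134
theorem D7436 : act 3 n5134 = n7436 := rfl
theorem F33882 : act 0 n7436 = n5135 := d2_1 D7436 (iv D5135) (iv F23943)
theorem F33883 : act 1 n7436 = n5722 := d10_1 D7436 (iv D5722) (iv F23944)
theorem F33884 : act 6 n7436 = n5175 := d26_2 (iv F23945) D7436 (iv D5175)
def n7437 : Q := act 5 n5134
theorem D7437 : act 5 n5134 = n7437 := rfl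
theorem F33888 : act 8 n7437 = n5142 := d37_2 (iv F23946) D7437 (iv D5142)
def n7438 : Q := act 2 n5135
theorem D7438 : act 2 n5135 = n7438 := rfl
theorem F33891 : act 6 n7438 = n5177 := d20_2 (iv F23949) D7438 (iv D5177)
def n7439 : Q := act 5 n5135
theorem D7439 : act 5 n5135 = n7439 := rfl
theorem F33894 : act 3 n7439 = n5136 := d25_1 D7439 (iv D5136) D5135
def n7440 : Q := act 8 n5135
theorem D7440 : act 8 n5135 = n7440 := rfl
theorem F33898 : act 6 n7440 = n5179 := d40_1 D7440 (iv D5179) (iv F23949)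
def n7441 : Q := act 6 n5136
theorem D7441 : act 6 n5136 = n7441 := rfl
theorem F33900 : act 5 n7441 = n5180 := d35_1 D7441 (iv D5180) (iv D3581) (iv F16981) D5136
theorem F33901 : act 8 n7441 = n5146 := d40_2 (iv F23952) D7441 (iv D5146)
def n7442 : Q := act 4 n5137
theorem D7442 : act 4 n5137 = n7442 := rfl
def n7443 : Q := act 6 n5137
theorem D7443 : act 6 n5137 = n7443 := rfl
theorem F33908 : act 3 n7443 = n5139 := d26_1 D7443 (iv D5139) (iv F23956)
theorem F33909 : act 5 n7443 = n5182 := d35_1 D7443 (iv D5182) (iv D3582) (iv F16986) D5137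
def n7444 : Q := act 8 n5137
theorem D7444 : act 8 n5137 = n7444 := rfl
def n7445 : Q := act 9 n5138
theorem D7445 : act 9 n5138 = n7445 := rfl
theorem F33918 : act 6 n7445 = n5184 := d41_1 D7445 (iv D5184) (iv F23961)
def n7446 : Q := act 7 n5139
theorem D7446 : act 7 n5139 = n7446 := rfl
theorem F33921 : act 2 n7446 = n5140 := d21_1 D7446 (iv D5140) (iv F23963)
theorem F33922 : act 5 n7446 = n5185 := d36_1 D7446 (iv D5185) (iv F23964)
theorem F33923 : act 8 n7446 = n5151 := d42_2 (iv F23965) D7446 (iv D5151)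
def n7447 : Q := act 2 n5141
theorem D7447 : act 2 n5141 = n7447 := rfl
theorem F33925 : act 0 n7447 = n5143 := d1_1 D7447 (iv D5143) (iv F23972)
theorem F33927 : act 6 n7447 = n5186 := d20_2 (iv F23975) D7447 (iv D5186)
theorem F33928 : act 9 n7447 = n5152 := d23_2 (iv F23976) D7447 (iv D5152)
def n7448 : Q := act 5 n5141
theorem D7448 : act 5 n5141 = n7448 := rfl
theorem F33929 : act 0 n7448 = n5144 := d4_1 D7448 (iv D5144) (iv F23972)
theorem F33931 : act 3 n7448 = n5142 := d25_1 D7448 (iv D5142) D5141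
theorem F33932 : act 9 n7448 = n5153 := d38_2 (iv F23976) D7448 (iv D5153)
def n7449 : Q := act 8 n5141
theorem D7449 : act 8 n5141 = n7449 := rfl
theorem F33936 : act 6 n7449 = n5188 := d40_1 D7449 (iv D5188) (iv F23975)
def n7450 : Q := act 6 n5142
theorem D7450 : act 6 n5142 = n7450 := rfl
theorem F33937 : act 0 n7450 = n5146 := d5_1 D7450 (iv D5146) (iv F23977)
theorem F33940 : act 9 n7450 = n5155 := d41_2 (iv F23979) D7450 (iv D5155)
def n7451 : Q := act 5 n5143
theorem D7451 : act 5 n5143 = n7451 := rfl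
theorem F33941 : act 1 n7451 = n5258 := d12_1 D7451 (iv D5258) (iv F23980)
theorem F33942 : act 2 n7451 = n5144 := d19_1 D7451 (iv D5144) D5143
theorem F33943 : act 9 n7451 = n5156 := d38_2 (iv F23983) D7451 (iv D5156)
def n7452 : Q := act 8 n5143
theorem D7452 : act 8 n5143 = n7452 := rfl
theorem F33944 : act 1 n7452 = n5259 := d15_1 D7452 (iv D5259) (iv F23980)
theorem F33947 : act 6 n7452 = n5191 := d40_1 D7452 (iv D5191) (iv F23982)
def n7453 : Q := act 4 n5144
theorem D7453 : act 4 n5144 = n7453 := rfl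
theorem F33948 : act 1 n7453 = n5147 := d11_1 D7453 (iv D5147) (iv F23984)
theorem F33949 : act 5 n7453 = n7453 := d30_2 D5144 D7453 (iv D7453) (iv D5144) F17002
theorem F33950 : act 9 n7453 = n5158 := d34_2 (iv F23986) D7453 (iv D5158)
def n7454 : Q := act 6 n5144
theorem D7454 : act 6 n5144 = n7454 := rfl
theorem F33951 : act 1 n7454 = n5148 := d13_1 D7454 (iv D5148) (iv F23984)
theorem F33952 : act 3 n7454 = n5146 := d26_1 D7454 (iv D5146) (iv F23985)
theorem F33953 : act 5 n7454 = n5193 := d35_1 D7454 (iv D5193) (iv D3589) (iv F17003) D5144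
theorem F33954 : act 9 n7454 = n5159 := d41_2 (iv F23986) D7454 (iv D5159)
def n7455 : Q := act 8 n5144
theorem D7455 : act 8 n5144 = n7455 := rfl
def n7456 : Q := act 9 n5145
theorem D7456 : act 9 n5145 = n7456 := rfl
theorem F33959 : act 6 n7456 = n5195 := d41_1 D7456 (iv D5195) (iv F23989)
theorem F33960 : act 8 n7456 = n5161 := d44_1 D7456 (iv D5161) (iv D3567) (iv F17004) D5145
def n7457 : Q := act 7 n5146
theorem D7457 : act 7 n5146 = n7457 := rfl
theorem F33961 : act 1 n7457 = n5151 := d14_1 D7457 (iv D5151) (iv F23990)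
theorem F33962 : act 5 n7457 = n5196 := d36_1 D7457 (iv D5196) (iv F23991)
theorem F33963 : act 9 n7457 = n5162 := d43_2 (iv F23992) D7457 (iv D5162)
def n7458 : Q := act 6 n5147
theorem D7458 : act 6 n5147 = n7458 := rfl
theorem F33964 : act 0 n7458 = n5744 := d5_1 D7458 (iv D5744) (iv F23993)
theorem F33965 : act 2 n7458 = n5265 := d20_1 D7458 (iv D5265) (iv F23994)
theorem F33966 : act 4 n7458 = n5148 := d31_1 D7458 (iv D5148) D5147
theorem F33967 : act 9 n7458 = n5163 := d41_2 (iv F23996) D7458 (iv D5163)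
def n7459 : Q := act 8 n5147
theorem D7459 : act 8 n5147 = n7459 := rfl
theorem F33969 : act 2 n7459 = n5266 := d22_1 D7459 (iv D5266) (iv F23994)
def n7460 : Q := act 7 n5148
theorem D7460 : act 7 n5148 = n7460 := rfl
theorem F33972 : act 0 n7460 = n5746 := d6_1 D7460 (iv D5746) (iv F23997)
theorem F33973 : act 2 n7460 = n5267 := d21_1 D7460 (iv D5267) (iv F23998)
theorem F33974 : act 3 n7460 = n5151 := d27_1 D7460 (iv D5151) (iv F23999)
theorem F33975 : act 5 n7460 = n5199 := d36_1 D7460 (iv D5199) (iv F24000)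
theorem F33976 : act 9 n7460 = n5165 := d43_2 (iv F24001) D7460 (iv D5165)
def n7461 : Q := act 8 n5148
theorem D7461 : act 8 n5148 = n7461 := rfl
theorem F33977 : act 0 n7461 = n5747 := d7_1 D7461 (iv D5747) (iv F23997)
theorem F33978 : act 2 n7461 = n5268 := d22_1 D7461 (iv D5268) (iv F23998)
def n7462 : Q := act 9 n5149
theorem D7462 : act 9 n5149 = n7462 := rfl
theorem F33981 : act 0 n7462 = n5748 := d8_1 D7462 (iv D5748) (iv F24002)
theorem F33982 : act 2 n7462 = n5269 := d23_1 D7462 (iv D5269) (iv F24003)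
theorem F33984 : act 8 n7462 = n5167 := d44_1 D7462 (iv D5167) (iv D3571) (iv F17010) D5149
def n7463 : Q := act 1 n5152
theorem D7463 : act 1 n5152 = n7463 := rfl
theorem F33985 : act 0 n7463 = n5270 := d0_1 D7463 (iv D5270) F17366 (iv F17030) (iv F24014)
theorem F33987 : act 4 n7463 = n7463 := d11_2 F24015 D7463 (iv D7463)
theorem F33988 : act 6 n7463 = n5202 := d13_2 (iv F24016) D7463 (iv D5202)
def n7464 : Q := act 5 n5152
theorem D7464 : act 5 n5152 = n7464 := rfl
theorem F33989 : act 0 n7464 = n5156 := d4_1 D7464 (iv D5156) (iv F24014)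
theorem F33990 : act 2 n7464 = n5153 := d19_1 D7464 (iv D5153) D5152
def n7465 : Q := act 8 n5152
theorem D7465 : act 8 n5152 = n7465 := rfl
theorem F33991 : act 0 n7465 = n5157 := d7_1 D7465 (iv D5157) (iv F24014)
theorem F33992 : act 2 n7465 = n5154 := d22_1 D7465 (iv D5154) D5152
theorem F33993 : act 4 n7465 = n7465 := d33_1 D7465 (iv D7465) F24015
theorem F33994 : act 6 n7465 = n5204 := d40_1 D7465 (iv D5204) (iv F24016)
def n7466 : Q := act 4 n5153
theorem D7466 : act 4 n5153 = n7466 := rfl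
theorem F33995 : act 0 n7466 = n5158 := d3_1 D7466 (iv D5158) (iv F24017)
theorem F33996 : act 1 n7466 = n5752 := d11_1 D7466 (iv D5752) (iv F24018)
theorem F33997 : act 5 n7466 = n7466 := d30_2 D5153 D7466 (iv D7466) (iv D5153) F17025
def n7467 : Q := act 6 n5153
theorem D7467 : act 6 n5153 = n7467 := rfl
theorem F33998 : act 0 n7467 = n5159 := d5_1 D7467 (iv D5159) (iv F24017)
theorem F33999 : act 1 n7467 = n5753 := d13_1 D7467 (iv D5753) (iv F24018)
theorem F34000 : act 3 n7467 = n5155 := d26_1 D7467 (iv D5155) (iv F24019)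
theorem F34001 : act 5 n7467 = n5206 := d35_1 D7467 (iv D5206) (iv D3598) (iv F17026) D5153
def n7468 : Q := act 8 n5153
theorem D7468 : act 8 n5153 = n7468 := rfl
theorem F34002 : act 0 n7468 = n5160 := d7_1 D7468 (iv D5160) (iv F24017)
theorem F34003 : act 1 n7468 = n5754 := d15_1 D7468 (iv D5754) (iv F24018)
theorem F34004 : act 3 n7468 = n7468 := d28_1 D7468 (iv D7468) F24019 F17029 (iv F24019)
theorem F34005 : act 5 n7468 = n5154 := d37_1 D7468 (iv D5154) D5153
def n7469 : Q := act 9 n5154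
theorem D7469 : act 9 n5154 = n7469 := rfl
theorem F34006 : act 0 n7469 = n5161 := d8_1 D7469 (iv D5161) (iv F24020)
def n7470 : Q := act 7 n5155
theorem D7470 : act 7 n5155 = n7470 := rfl
theorem F34011 : act 0 n7470 = n5162 := d6_1 D7470 (iv D5162) (iv F24025)
theorem F34012 : act 1 n7470 = n5756 := d14_1 D7470 (iv D5756) (iv F24026)
theorem F34013 : act 5 n7470 = n5209 := d36_1 D7470 (iv D5209) (iv F24027)
theorem F34014 : act 8 n7470 = n7470 := d42_2 F24028 D7470 (iv D7470)
def n7471 : Q := act 4 n5156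
theorem D7471 : act 4 n5156 = n7471 := rfl
theorem F34015 : act 1 n7471 = n5278 := d11_1 D7471 (iv D5278) (iv F24029)
theorem F34016 : act 2 n7471 = n5158 := d18_1 D7471 (iv D5158) (iv F24030)
theorem F34017 : act 5 n7471 = n7471 := d30_2 D5156 D7471 (iv D7471) (iv D5156) F17031
def n7472 : Q := act 6 n5156
theorem D7472 : act 6 n5156 = n7472 := rfl
theorem F34018 : act 1 n7472 = n5279 := d13_1 D7472 (iv D5279) (iv F24029)
theorem F34019 : act 2 n7472 = n5159 := d20_1 D7472 (iv D5159) (iv F24030)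
theorem F34020 : act 5 n7472 = n5211 := d35_1 D7472 (iv D5211) (iv D3601) (iv F17032) D5156
def n7473 : Q := act 8 n5156
theorem D7473 : act 8 n5156 = n7473 := rfl
theorem F34021 : act 1 n7473 = n5280 := d15_1 D7473 (iv D5280) (iv F24029)
theorem F34022 : act 2 n7473 = n5160 := d22_1 D7473 (iv D5160) (iv F24030)
theorem F34023 : act 5 n7473 = n5157 := d37_1 D7473 (iv D5157) D5156
def n7474 : Q := act 3 n5157
theorem D7474 : act 3 n5157 = n7474 := rfl
theorem F34024 : act 1 n7474 = n5281 := d10_1 D7474 (iv D5281) (iv F24031)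
theorem F34025 : act 2 n7474 = n7474 := d17_1 D7474 (iv D7474) F24032 F17036 (iv F24032)
theorem F34026 : act 6 n7474 = n5213 := d26_2 (iv F24034) D7474 (iv D5213)
def n7475 : Q := act 9 n5157
theorem D7475 : act 9 n5157 = n7475 := rfl
theorem F34028 : act 2 n7475 = n5161 := d23_1 D7475 (iv D5161) (iv F24032)
theorem F34030 : act 6 n7475 = n5214 := d41_1 D7475 (iv D5214) (iv F24034)
def n7476 : Q := act 6 n5158
theorem D7476 : act 6 n5158 = n7476 := rfl
theorem F34031 : act 1 n7476 = n5163 := d13_1 D7476 (iv D5163) (iv F24035)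
theorem F34032 : act 4 n7476 = n5159 := d31_1 D7476 (iv D5159) D5158
def n7477 : Q := act 8 n5158
theorem D7477 : act 8 n5158 = n7477 := rfl
theorem F34033 : act 1 n7477 = n5164 := d15_1 D7477 (iv D5164) (iv F24035)
theorem F34034 : act 4 n7477 = n5160 := d33_1 D7477 (iv D5160) D5158
theorem F34035 : act 5 n7477 = n7477 := d37_1 D7477 (iv D7477) F24036
def n7478 : Q := act 7 n5159
theorem D7478 : act 7 n5159 = n7478 := rfl
theorem F34036 : act 1 n7478 = n5165 := d14_1 D7478 (iv D5165) (iv F24037)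
theorem F34037 : act 3 n7478 = n5162 := d27_1 D7478 (iv D5162) (iv F24038)
theorem F34038 : act 5 n7478 = n5217 := d36_1 D7478 (iv D5217) (iv F24039)
def n7479 : Q := act 8 n5159
theorem D7479 : act 8 n5159 = n7479 := rfl
theorem F34039 : act 1 n7479 = n5166 := d15_1 D7479 (iv D5166) (iv F24037)
theorem F34040 : act 3 n7479 = n7479 := d28_1 D7479 (iv D7479) F24038 F17041 (iv F24038)
theorem F34041 : act 5 n7479 = n5218 := d37_1 D7479 (iv D5218) (iv F24039)
theorem F34042 : act 6 n7479 = n5160 := d40_1 D7479 (iv D5160) D5159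
def n7480 : Q := act 9 n5160
theorem D7480 : act 9 n5160 = n7480 := rfl
theorem F34043 : act 1 n7480 = n5167 := d16_1 D7480 (iv D5167) (iv F24040)
theorem F34044 : act 3 n7480 = n7480 := d29_1 D7480 (iv D7480) F24041
theorem F34045 : act 5 n7480 = n5161 := d38_1 D7480 (iv D5161) (iv F24042)
def n7481 : Q := act 5 n5163
theorem D7481 : act 5 n5163 = n7481 := rfl
theorem F34047 : act 2 n7481 = n5288 := d19_1 D7481 (iv D5288) (iv F24051)
theorem F34048 : act 4 n7481 = n5220 := d30_1 D7481 (iv D5220) F17216 (iv F17048) (iv F24052)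
def n7482 : Q := act 7 n5163
theorem D7482 : act 7 n5163 = n7482 := rfl
theorem F34051 : act 2 n7482 = n5289 := d21_1 D7482 (iv D5289) (iv F24051)
theorem F34052 : act 4 n7482 = n5165 := d32_1 D7482 (iv D5165) (iv F24052)
def n7483 : Q := act 8 n5163
theorem D7483 : act 8 n5163 = n7483 := rfl
theorem F34055 : act 4 n7483 = n5166 := d33_1 D7483 (iv D5166) (iv F24052)
theorem F34056 : act 6 n7483 = n5164 := d40_1 D7483 (iv D5164) D5163
def n7484 : Q := act 3 n5164
theorem D7484 : act 3 n5164 = n7484 := rfl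
def n7485 : Q := act 9 n5164
theorem D7485 : act 9 n5164 = n7485 := rfl
theorem F34061 : act 2 n7485 = n5292 := d23_1 D7485 (iv D5292) (iv F24054)
theorem F34062 : act 4 n7485 = n5167 := d34_1 D7485 (iv D5167) (iv F24055)
theorem F34063 : act 5 n7485 = n7485 := d38_1 D7485 (iv D7485) F24056
def n7486 : Q := act 8 n5165
theorem D7486 : act 8 n5165 = n7486 := rfl
theorem F34065 : act 2 n7486 = n5293 := d22_1 D7486 (iv D5293) (iv F24058)
theorem F34067 : act 5 n7486 = n5225 := d37_1 D7486 (iv D5225) (iv F24060)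
def n7487 : Q := act 9 n5166
theorem D7487 : act 9 n5166 = n7487 := rfl
theorem F34070 : act 2 n7487 = n5294 := d23_1 D7487 (iv D5294) (iv F24062)
theorem F34071 : act 3 n7487 = n7487 := d29_1 D7487 (iv D7487) F24063
theorem F34072 : act 5 n7487 = n5226 := d38_1 D7487 (iv D5226) (iv F24064)
theorem F34073 : act 6 n7487 = n5167 := d41_1 D7487 (iv D5167) (iv F24065)
def n7488 : Q := act 3 n5168
theorem D7488 : act 3 n5168 = n7488 := rfl
theorem F34076 : act 4 n7488 = n5175 := d24_2 D5168 D7488 (iv D5175) (iv D3579) (iv F17064)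
def n7490 : Q := act 2 n5169
theorem D7490 : act 2 n5169 = n7490 := rfl
theorem F34088 : act 4 n7490 = n5177 := d18_2 (iv F24077) D7490 (iv D5177)
def n7494 : Q := act 4 n5171
theorem D7494 : act 4 n5171 = n7494 := rfl
theorem F34107 : act 5 n7494 = n5181 := d30_2 D5171 D7494 (iv D5181) (iv D3582) (iv F17076)
def n7496 : Q := act 8 n5171
theorem D7496 : act 8 n5171 = n7496 := rfl
theorem F34117 : act 5 n7496 = n5172 := d37_1 D7496 (iv D5172) D5171
def n7497 : Q := act 9 n5172
theorem D7497 : act 9 n5172 = n7497 := rfl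
def n7499 : Q := act 2 n5175
theorem D7499 : act 2 n5175 = n7499 := rfl
theorem F34131 : act 0 n7499 = n5177 := d1_1 D7499 (iv D5177) (iv F24108)
def n7500 : Q := act 5 n5175
theorem D7500 : act 5 n5175 = n7500 := rfl
theorem F34134 : act 0 n7500 = n5178 := d4_1 D7500 (iv D5178) (iv F24108)
theorem F34136 : act 3 n7500 = n5176 := d25_1 D7500 (iv D5176) D5175
def n7501 : Q := act 8 n5175
theorem D7501 : act 8 n5175 = n7501 := rfl
theorem F34141 : act 3 n7501 = n5188 := d28_1 D7501 (iv D5188) (iv D3586) (iv F17094) D5175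
def n7502 : Q := act 6 n5176
theorem D7502 : act 6 n5176 = n7502 := rfl
theorem F34146 : act 8 n7502 = n5189 := d40_2 (iv F24116) D7502 (iv D5189)
def n7503 : Q := act 5 n5177
theorem D7503 : act 5 n5177 = n7503 := rfl
theorem F34149 : act 2 n7503 = n5178 := d19_1 D7503 (iv D5178) D5177
def n7504 : Q := act 8 n5177
theorem D7504 : act 8 n5177 = n7504 := rfl
def n7505 : Q := act 4 n5178
theorem D7505 : act 4 n5178 = n7505 := rfl
theorem F34155 : act 1 n7505 = n5181 := d11_1 D7505 (iv D5181) (iv F24121)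
def n7506 : Q := act 6 n5178
theorem D7506 : act 6 n5178 = n7506 := rfl
def n7507 : Q := act 8 n5178
theorem D7507 : act 8 n5178 = n7507 := rfl
theorem F34163 : act 3 n7507 = n5194 := d28_1 D7507 (iv D5194) F17139 (iv F17102) (iv F24122)
theorem F34164 : act 5 n7507 = n5179 := d37_1 D7507 (iv D5179) D5178
def n7508 : Q := act 9 n5179
theorem D7508 : act 9 n5179 = n7508 := rfl
def n7509 : Q := act 7 n5180
theorem D7509 : act 7 n5180 = n7509 := rfl
theorem F34173 : act 8 n7509 = n5196 := d42_2 (iv F24130) D7509 (iv D5196)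
def n7510 : Q := act 6 n5181
theorem D7510 : act 6 n5181 = n7510 := rfl
theorem F34178 : act 4 n7510 = n5182 := d31_1 D7510 (iv D5182) D5181
def n7511 : Q := act 8 n5181
theorem D7511 : act 8 n5181 = n7511 := rfl
theorem F34180 : act 0 n7511 = n5804 := d7_1 D7511 (iv D5804) (iv F24132)
theorem F34182 : act 4 n7511 = n5183 := d33_1 D7511 (iv D5183) D5181
def n7512 : Q := act 7 n5182
theorem D7512 : act 7 n5182 = n7512 := rfl
theorem F34186 : act 3 n7512 = n5185 := d27_1 D7512 (iv D5185) (iv F24139)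
def n7513 : Q := act 8 n5182
theorem D7513 : act 8 n5182 = n7513 := rfl
theorem F34189 : act 0 n7513 = n5806 := d7_1 D7513 (iv D5806) (iv F24137)
def n7514 : Q := act 9 n5183
theorem D7514 : act 9 n5183 = n7514 := rfl
theorem F34196 : act 5 n7514 = n5184 := d38_1 D7514 (iv D5184) (iv F24144)
def n7515 : Q := act 1 n5186
theorem D7515 : act 1 n5186 = n7515 := rfl
theorem F34199 : act 0 n7515 = n5295 := d0_1 D7515 (iv D5295) F17419 (iv F17134) (iv F24157)
theorem F34203 : act 9 n7515 = n5202 := d16_2 (iv F24160) D7515 (iv D5202)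
def n7516 : Q := act 5 n5186
theorem D7516 : act 5 n5186 = n7516 := rfl
theorem F34204 : act 0 n7516 = n5190 := d4_1 D7516 (iv D5190) (iv F24157)
theorem F34205 : act 2 n7516 = n5187 := d19_1 D7516 (iv D5187) D5186
theorem F34207 : act 9 n7516 = n5203 := d38_2 (iv F24160) D7516 (iv D5203)
def n7517 : Q := act 8 n5186
theorem D7517 : act 8 n5186 = n7517 := rfl
theorem F34208 : act 0 n7517 = n5191 := d7_1 D7517 (iv D5191) (iv F24157)
theorem F34209 : act 2 n7517 = n5188 := d22_1 D7517 (iv D5188) D5186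
def n7518 : Q := act 4 n5187
theorem D7518 : act 4 n5187 = n7518 := rfl
theorem F34212 : act 0 n7518 = n5192 := d3_1 D7518 (iv D5192) (iv F24161)
theorem F34217 : act 9 n7518 = n5205 := d34_2 (iv F24165) D7518 (iv D5205)
def n7519 : Q := act 6 n5187
theorem D7519 : act 6 n5187 = n7519 := rfl
theorem F34218 : act 0 n7519 = n5193 := d5_1 D7519 (iv D5193) (iv F24161)
theorem F34219 : act 1 n7519 = n5812 := d13_1 D7519 (iv D5812) (iv F24162)
theorem F34220 : act 3 n7519 = n5189 := d26_1 D7519 (iv D5189) (iv F24163)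
theorem F34221 : act 9 n7519 = n5206 := d41_2 (iv F24165) D7519 (iv D5206)
def n7520 : Q := act 8 n5187
theorem D7520 : act 8 n5187 = n7520 := rfl
theorem F34224 : act 5 n7520 = n5188 := d37_1 D7520 (iv D5188) D5187
def n7521 : Q := act 9 n5188
theorem D7521 : act 9 n5188 = n7521 := rfl
theorem F34230 : act 8 n7521 = n5208 := d44_1 D7521 (iv D5208) (iv D3599) (iv F17128) D5188
def n7522 : Q := act 7 n5189
theorem D7522 : act 7 n5189 = n7522 := rfl
theorem F34231 : act 0 n7522 = n5196 := d6_1 D7522 (iv D5196) (iv F24170)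
theorem F34235 : act 9 n7522 = n5209 := d43_2 (iv F24173) D7522 (iv D5209)
def n7523 : Q := act 4 n5190
theorem D7523 : act 4 n5190 = n7523 := rfl
theorem F34236 : act 1 n7523 = n5303 := d11_1 D7523 (iv D5303) (iv F24174)
theorem F34237 : act 2 n7523 = n5192 := d18_1 D7523 (iv D5192) (iv F24175)
theorem F34238 : act 5 n7523 = n7523 := d30_2 D5190 D7523 (iv D7523) (iv D5190) F17135
theorem F34239 : act 7 n7523 = n7523 := d32_2 F24176 D7523 (iv D7523)
theorem F34240 : act 9 n7523 = n5210 := d34_2 (iv F24177) D7523 (iv D5210)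
def n7524 : Q := act 6 n5190
theorem D7524 : act 6 n5190 = n7524 := rfl
theorem F34241 : act 1 n7524 = n5304 := d13_1 D7524 (iv D5304) (iv F24174)
theorem F34242 : act 2 n7524 = n5193 := d20_1 D7524 (iv D5193) (iv F24175)
theorem F34243 : act 9 n7524 = n5211 := d41_2 (iv F24177) D7524 (iv D5211)
def n7525 : Q := act 8 n5190
theorem D7525 : act 8 n5190 = n7525 := rfl
theorem F34244 : act 1 n7525 = n5305 := d15_1 D7525 (iv D5305) (iv F24174)
theorem F34246 : act 5 n7525 = n5191 := d37_1 D7525 (iv D5191) D5190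
def n7526 : Q := act 3 n5191
theorem D7526 : act 3 n5191 = n7526 := rfl
def n7527 : Q := act 9 n5191
theorem D7527 : act 9 n5191 = n7527 := rfl
def n7528 : Q := act 6 n5192
theorem D7528 : act 6 n5192 = n7528 := rfl
theorem F34255 : act 1 n7528 = n5197 := d13_1 D7528 (iv D5197) (iv F24182)
theorem F34256 : act 3 n7528 = n7528 := d26_1 D7528 (iv D7528) F24183
theorem F34257 : act 4 n7528 = n5193 := d31_1 D7528 (iv D5193) D5192
theorem F34258 : act 9 n7528 = n5215 := d41_2 (iv F24186) D7528 (iv D5215)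
def n7529 : Q := act 8 n5192
theorem D7529 : act 8 n5192 = n7529 := rfl
theorem F34259 : act 1 n7529 = n5198 := d15_1 D7529 (iv D5198) (iv F24182)
theorem F34260 : act 4 n7529 = n5194 := d33_1 D7529 (iv D5194) D5192
def n7530 : Q := act 7 n5193
theorem D7530 : act 7 n5193 = n7530 := rfl
theorem F34263 : act 1 n7530 = n5199 := d14_1 D7530 (iv D5199) (iv F24187)
theorem F34264 : act 3 n7530 = n5196 := d27_1 D7530 (iv D5196) (iv F24188)
theorem F34265 : act 6 n7530 = n7530 := d39_1 D7530 (iv D7530) (iv D5193) F17140 D5193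
theorem F34266 : act 9 n7530 = n5217 := d43_2 (iv F24189) D7530 (iv D5217)
def n7531 : Q := act 8 n5193
theorem D7531 : act 8 n5193 = n7531 := rfl
def n7532 : Q := act 9 n5194
theorem D7532 : act 9 n5194 = n7532 := rfl
theorem F34270 : act 5 n7532 = n5195 := d38_1 D7532 (iv D5195) (iv F24191)
theorem F34272 : act 8 n7532 = n5219 := d44_1 D7532 (iv D5219) (iv D3605) (iv F17141) D5194
def n7533 : Q := act 5 n5197
theorem D7533 : act 5 n5197 = n7533 := rfl
theorem F34273 : act 0 n7533 = n5826 := d4_1 D7533 (iv D5826) (iv F24201)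
theorem F34274 : act 2 n7533 = n5313 := d19_1 D7533 (iv D5313) (iv F24202)
theorem F34275 : act 3 n7533 = n7533 := d25_1 D7533 (iv D7533) F24203
theorem F34276 : act 6 n7533 = n7533 := d35_2 D5197 D7533 (iv D7533) (iv D5197) F17151
theorem F34277 : act 9 n7533 = n5220 := d38_2 (iv F24205) D7533 (iv D5220)
def n7534 : Q := act 7 n5197
theorem D7534 : act 7 n5197 = n7534 := rfl
theorem F34278 : act 0 n7534 = n5827 := d6_1 D7534 (iv D5827) (iv F24201)
theorem F34279 : act 2 n7534 = n5314 := d21_1 D7534 (iv D5314) (iv F24202)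
theorem F34280 : act 3 n7534 = n7534 := d27_1 D7534 (iv D7534) F24203
theorem F34281 : act 4 n7534 = n5199 := d32_1 D7534 (iv D5199) (iv F24204)
theorem F34282 : act 6 n7534 = n7534 := d39_1 D7534 (iv D7534) (iv D5197) F17152 D5197
theorem F34283 : act 9 n7534 = n5221 := d43_2 (iv F24205) D7534 (iv D5221)
def n7535 : Q := act 8 n5197
theorem D7535 : act 8 n5197 = n7535 := rfl
theorem F34285 : act 2 n7535 = n5315 := d22_1 D7535 (iv D5315) (iv F24202)
theorem F34286 : act 4 n7535 = n5200 := d33_1 D7535 (iv D5200) (iv F24204)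
theorem F34287 : act 6 n7535 = n5198 := d40_1 D7535 (iv D5198) D5197
def n7536 : Q := act 3 n5198
theorem D7536 : act 3 n5198 = n7536 := rfl
theorem F34289 : act 5 n7536 = n7536 := d25_2 F24209 D7536 (iv D7536)
def n7537 : Q := act 9 n5198
theorem D7537 : act 9 n5198 = n7537 := rfl
theorem F34293 : act 2 n7537 = n5317 := d23_1 D7537 (iv D5317) (iv F24207)
theorem F34294 : act 4 n7537 = n5201 := d34_1 D7537 (iv D5201) (iv F24208)
def n7538 : Q := act 8 n5199
theorem D7538 : act 8 n5199 = n7538 := rfl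
theorem F34299 : act 2 n7538 = n5318 := d22_1 D7538 (iv D5318) (iv F24212)
theorem F34301 : act 7 n7538 = n5200 := d42_1 D7538 (iv D5200) D5199
def n7539 : Q := act 9 n5200
theorem D7539 : act 9 n5200 = n7539 := rfl
theorem F34302 : act 0 n7539 = n5832 := d8_1 D7539 (iv D5832) (iv F24216)
theorem F34303 : act 2 n7539 = n5319 := d23_1 D7539 (iv D5319) (iv F24217)
theorem F34305 : act 8 n7539 = n5226 := d44_1 D7539 (iv D5226) (iv D3611) (iv F17157) D5200
def n7540 : Q := act 5 n5202
theorem D7540 : act 5 n5202 = n7540 := rfl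
theorem F34306 : act 0 n7540 = n5320 := d4_1 D7540 (iv D5320) (iv F24224)
theorem F34307 : act 1 n7540 = n5203 := d12_1 D7540 (iv D5203) D5202
theorem F34309 : act 7 n7540 = n7540 := d36_2 F24227 D7540 (iv D7540)
def n7541 : Q := act 8 n5202
theorem D7541 : act 8 n5202 = n7541 := rfl
theorem F34311 : act 1 n7541 = n5204 := d15_1 D7541 (iv D5204) D5202
def n7542 : Q := act 4 n5203
theorem D7542 : act 4 n5203 = n7542 := rfl
theorem F34315 : act 0 n7542 = n5210 := d3_1 D7542 (iv D5210) (iv F24228)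
theorem F34316 : act 2 n7542 = n5205 := d18_1 D7542 (iv D5205) (iv F24229)
theorem F34317 : act 5 n7542 = n7542 := d30_2 D5203 D7542 (iv D7542) (iv D5203) F17173
theorem F34318 : act 7 n7542 = n7542 := d32_2 F24230 D7542 (iv D7542)
def n7543 : Q := act 6 n5203
theorem D7543 : act 6 n5203 = n7543 := rfl
theorem F34319 : act 0 n7543 = n5211 := d5_1 D7543 (iv D5211) (iv F24228)
theorem F34320 : act 2 n7543 = n5206 := d20_1 D7543 (iv D5206) (iv F24229)
def n7544 : Q := act 8 n5203
theorem D7544 : act 8 n5203 = n7544 := rfl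
theorem F34321 : act 0 n7544 = n5212 := d7_1 D7544 (iv D5212) (iv F24228)
theorem F34322 : act 2 n7544 = n5207 := d22_1 D7544 (iv D5207) (iv F24229)
theorem F34323 : act 5 n7544 = n5204 := d37_1 D7544 (iv D5204) D5203
theorem F34324 : act 7 n7544 = n7544 := d42_1 D7544 (iv D7544) F24230
def n7545 : Q := act 3 n5204
theorem D7545 : act 3 n5204 = n7545 := rfl
def n7546 : Q := act 9 n5204
theorem D7546 : act 9 n5204 = n7546 := rfl
def n7547 : Q := act 6 n5205
theorem D7547 : act 6 n5205 = n7547 := rfl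
theorem F34332 : act 0 n7547 = n5215 := d5_1 D7547 (iv D5215) (iv F24235)
theorem F34333 : act 1 n7547 = n5840 := d13_1 D7547 (iv D5840) (iv F24236)
theorem F34334 : act 3 n7547 = n7547 := d26_1 D7547 (iv D7547) F24237
theorem F34335 : act 4 n7547 = n5206 := d31_1 D7547 (iv D5206) D5205
def n7548 : Q := act 8 n5205
theorem D7548 : act 8 n5205 = n7548 := rfl
theorem F34336 : act 0 n7548 = n5216 := d7_1 D7548 (iv D5216) (iv F24235)
theorem F34337 : act 1 n7548 = n5841 := d15_1 D7548 (iv D5841) (iv F24236)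
theorem F34338 : act 4 n7548 = n5207 := d33_1 D7548 (iv D5207) D5205
theorem F34339 : act 5 n7548 = n7548 := d37_1 D7548 (iv D7548) F24238
theorem F34340 : act 7 n7548 = n7548 := d42_1 D7548 (iv D7548) F24239
def n7549 : Q := act 7 n5206
theorem D7549 : act 7 n5206 = n7549 := rfl
theorem F34341 : act 0 n7549 = n5217 := d6_1 D7549 (iv D5217) (iv F24240)
theorem F34343 : act 3 n7549 = n5209 := d27_1 D7549 (iv D5209) (iv F24242)
theorem F34344 : act 6 n7549 = n7549 := d39_1 D7549 (iv D7549) (iv D5206) F17178 D5206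
def n7550 : Q := act 8 n5206
theorem D7550 : act 8 n5206 = n7550 := rfl
theorem F34345 : act 0 n7550 = n5218 := d7_1 D7550 (iv D5218) (iv F24240)
theorem F34346 : act 1 n7550 = n5843 := d15_1 D7550 (iv D5843) (iv F24241)
theorem F34347 : act 3 n7550 = n7550 := d28_1 D7550 (iv D7550) F24242 F17187 (iv F24242)
theorem F34348 : act 6 n7550 = n5207 := d40_1 D7550 (iv D5207) D5206
def n7551 : Q := act 9 n5207
theorem D7551 : act 9 n5207 = n7551 := rfl
theorem F34349 : act 0 n7551 = n5219 := d8_1 D7551 (iv D5219) (iv F24243)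
def n7552 : Q := act 3 n5210
theorem D7552 : act 3 n5210 = n7552 := rfl
theorem F34354 : act 1 n7552 = n5332 := d10_1 D7552 (iv D5332) (iv F24258)
theorem F34355 : act 2 n7552 = n7552 := d17_1 D7552 (iv D7552) F24259 F17196 (iv F24259)
theorem F34356 : act 5 n7552 = n7552 := d25_2 F24260 D7552 (iv D7552)
theorem F34357 : act 7 n7552 = n7552 := d27_2 F24261 D7552 (iv D7552)
def n7553 : Q := act 6 n5210
theorem D7553 : act 6 n5210 = n7553 := rfl
theorem F34358 : act 1 n7553 = n5333 := d13_1 D7553 (iv D5333) (iv F24258)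
theorem F34359 : act 2 n7553 = n5215 := d20_1 D7553 (iv D5215) (iv F24259)
theorem F34360 : act 4 n7553 = n5211 := d31_1 D7553 (iv D5211) D5210
def n7554 : Q := act 8 n5210
theorem D7554 : act 8 n5210 = n7554 := rfl
theorem F34361 : act 1 n7554 = n5334 := d15_1 D7554 (iv D5334) (iv F24258)
theorem F34362 : act 2 n7554 = n5216 := d22_1 D7554 (iv D5216) (iv F24259)
theorem F34363 : act 4 n7554 = n5212 := d33_1 D7554 (iv D5212) D5210
theorem F34364 : act 5 n7554 = n7554 := d37_1 D7554 (iv D7554) F24260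
theorem F34365 : act 7 n7554 = n7554 := d42_1 D7554 (iv D7554) F24261
def n7555 : Q := act 7 n5211
theorem D7555 : act 7 n5211 = n7555 := rfl
theorem F34366 : act 1 n7555 = n5335 := d14_1 D7555 (iv D5335) (iv F24262)
theorem F34367 : act 2 n7555 = n5217 := d21_1 D7555 (iv D5217) (iv F24263)
theorem F34368 : act 6 n7555 = n7555 := d39_1 D7555 (iv D7555) (iv D5211) F17190 D5211
def n7556 : Q := act 8 n5211
theorem D7556 : act 8 n5211 = n7556 := rfl
theorem F34369 : act 1 n7556 = n5336 := d15_1 D7556 (iv D5336) (iv F24262)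
theorem F34370 : act 2 n7556 = n5218 := d22_1 D7556 (iv D5218) (iv F24263)
theorem F34371 : act 6 n7556 = n5212 := d40_1 D7556 (iv D5212) D5211
def n7557 : Q := act 3 n5212
theorem D7557 : act 3 n5212 = n7557 := rfl
theorem F34372 : act 1 n7557 = n5337 := d10_1 D7557 (iv D5337) (iv F24264)
theorem F34373 : act 2 n7557 = n7557 := d17_1 D7557 (iv D7557) F24265 F17202 (iv F24265)
theorem F34374 : act 5 n7557 = n5213 := d25_2 (iv F24266) D7557 (iv D5213)
theorem F34375 : act 7 n7557 = n7557 := d27_2 F24267 D7557 (iv D7557)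
def n7558 : Q := act 9 n5212
theorem D7558 : act 9 n5212 = n7558 := rfl
theorem F34377 : act 2 n7558 = n5219 := d23_1 D7558 (iv D5219) (iv F24265)
theorem F34378 : act 5 n7558 = n5214 := d38_1 D7558 (iv D5214) (iv F24266)
def n7559 : Q := act 4 n5213
theorem D7559 : act 4 n5213 = n7559 := rfl
theorem F34380 : act 1 n7559 = n5339 := d11_1 D7559 (iv D5339) (iv F24268)
theorem F34381 : act 2 n7559 = n7559 := d18_1 D7559 (iv D7559) F24269
theorem F34382 : act 3 n7559 = n7559 := d24_1 D7559 (iv D7559) (iv D5213) F17193 D5213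
theorem F34383 : act 7 n7559 = n7559 := d32_2 F24270 D7559 (iv D7559)
def n7560 : Q := act 9 n5213
theorem D7560 : act 9 n5213 = n7560 := rfl
theorem F34384 : act 1 n7560 = n5340 := d16_1 D7560 (iv D5340) (iv F24268)
def n7561 : Q := act 5 n5215
theorem D7561 : act 5 n5215 = n7561 := rfl
theorem F34388 : act 1 n7561 = n5220 := d12_1 D7561 (iv D5220) (iv F24275)
theorem F34389 : act 3 n7561 = n7561 := d25_1 D7561 (iv D7561) F24276
theorem F34390 : act 6 n7561 = n7561 := d35_2 D5215 D7561 (iv D7561) (iv D5215) F17197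
def n7562 : Q := act 7 n5215
theorem D7562 : act 7 n5215 = n7562 := rfl
theorem F34391 : act 1 n7562 = n5221 := d14_1 D7562 (iv D5221) (iv F24275)
theorem F34392 : act 3 n7562 = n7562 := d27_1 D7562 (iv D7562) F24276
theorem F34393 : act 4 n7562 = n5217 := d32_1 D7562 (iv D5217) (iv F24277)
theorem F34394 : act 6 n7562 = n7562 := d39_1 D7562 (iv D7562) (iv D5215) F17198 D5215
def n7563 : Q := act 8 n5215
theorem D7563 : act 8 n5215 = n7563 := rfl
theorem F34395 : act 1 n7563 = n5222 := d15_1 D7563 (iv D5222) (iv F24275)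
theorem F34396 : act 4 n7563 = n5218 := d33_1 D7563 (iv D5218) (iv F24277)
theorem F34397 : act 6 n7563 = n5216 := d40_1 D7563 (iv D5216) D5215
def n7564 : Q := act 3 n5216
theorem D7564 : act 3 n5216 = n7564 := rfl
theorem F34398 : act 1 n7564 = n5223 := d10_1 D7564 (iv D5223) (iv F24278)
theorem F34399 : act 4 n7564 = n7564 := d24_2 (iv F24279) D7564 (iv D7564) F24279 F17202
theorem F34400 : act 5 n7564 = n7564 := d25_2 F24280 D7564 (iv D7564)
theorem F34401 : act 7 n7564 = n7564 := d27_2 F24281 D7564 (iv D7564)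
theorem F34402 : act 8 n7564 = n7564 := d28_2 D5216 D7564 (iv D7564) (iv D5216) F17196
def n7565 : Q := act 9 n5216
theorem D7565 : act 9 n5216 = n7565 := rfl
theorem F34403 : act 1 n7565 = n5224 := d16_1 D7565 (iv D5224) (iv F24278)
theorem F34404 : act 4 n7565 = n5219 := d34_1 D7565 (iv D5219) (iv F24279)
theorem F34405 : act 5 n7565 = n7565 := d38_1 D7565 (iv D7565) F24280
theorem F34406 : act 7 n7565 = n7565 := d43_1 D7565 (iv D7565) F24281
def n7566 : Q := act 8 n5217
theorem D7566 : act 8 n5217 = n7566 := rfl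
theorem F34407 : act 1 n7566 = n5225 := d15_1 D7566 (iv D5225) (iv F24282)
theorem F34408 : act 3 n7566 = n7566 := d28_1 D7566 (iv D7566) F24283 F17212 (iv F24283)
theorem F34409 : act 6 n7566 = n7566 := d40_1 D7566 (iv D7566) F24284
theorem F34410 : act 7 n7566 = n5218 := d42_1 D7566 (iv D5218) D5217
def n7567 : Q := act 9 n5218
theorem D7567 : act 9 n5218 = n7567 := rfl
theorem F34411 : act 1 n7567 = n5226 := d16_1 D7567 (iv D5226) (iv F24285)
theorem F34412 : act 3 n7567 = n7567 := d29_1 D7567 (iv D7567) F24286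
theorem F34413 : act 6 n7567 = n5219 := d41_1 D7567 (iv D5219) (iv F24287)
def n7568 : Q := act 7 n5220
theorem D7568 : act 7 n5220 = n7568 := rfl
theorem F34417 : act 5 n7568 = n5221 := d36_1 D7568 (iv D5221) D5220
def n7569 : Q := act 8 n5220
theorem D7569 : act 8 n5220 = n7569 := rfl
theorem F34420 : act 5 n7569 = n5222 := d37_1 D7569 (iv D5222) D5220
def n7570 : Q := act 8 n5221
theorem D7570 : act 8 n5221 = n7570 := rfl
theorem F34424 : act 4 n7570 = n5225 := d33_1 D7570 (iv D5225) (iv F24299)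
def n7571 : Q := act 3 n5222
theorem D7571 : act 3 n5222 = n7571 := rfl
theorem F34430 : act 6 n7571 = n5223 := d26_2 (iv F24304) D7571 (iv D5223)
def n7572 : Q := act 9 n5222
theorem D7572 : act 9 n5222 = n7572 := rfl
theorem F34433 : act 2 n7572 = n5350 := d23_1 D7572 (iv D5350) (iv F24302)
theorem F34434 : act 4 n7572 = n5226 := d34_1 D7572 (iv D5226) (iv F24303)
theorem F34435 : act 6 n7572 = n5224 := d41_1 D7572 (iv D5224) (iv F24304)
def n7573 : Q := act 9 n5223
theorem D7573 : act 9 n5223 = n7573 := rfl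
theorem F34437 : act 2 n7573 = n7573 := d23_1 D7573 (iv D7573) F24306
theorem F34438 : act 3 n7573 = n5224 := d29_1 D7573 (iv D5224) D5223
theorem F34439 : act 4 n7573 = n7573 := d34_1 D7573 (iv D7573) F24307
theorem F34440 : act 5 n7573 = n7573 := d38_1 D7573 (iv D7573) F24308
theorem F34441 : act 7 n7573 = n7573 := d43_1 D7573 (iv D7573) F24309
def n7574 : Q := act 9 n5225
theorem D7574 : act 9 n5225 = n7574 := rfl
theorem F34443 : act 2 n7574 = n5351 := d23_1 D7574 (iv D5351) (iv F24317)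
theorem F34444 : act 3 n7574 = n7574 := d29_1 D7574 (iv D7574) F24318
theorem F34445 : act 6 n7574 = n7574 := d41_1 D7574 (iv D7574) F24319
theorem F34446 : act 7 n7574 = n5226 := d43_1 D7574 (iv D5226) (iv F24320)
def n7575 : Q := act 2 n5227
theorem D7575 : act 2 n5227 = n7575 := rfl
theorem F34447 : act 0 n7575 = n5229 := d1_1 D7575 (iv D5229) (iv F24325)
theorem F34448 : act 4 n7575 = n7575 := d18_2 F24327 D7575 (iv D7575)
theorem F34449 : act 6 n7575 = n7575 := d20_2 F24328 D7575 (iv D7575)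
theorem F34450 : act 7 n7575 = n5254 := d21_2 (iv F24329) D7575 (iv D5254)
theorem F34451 : act 9 n7575 = n5238 := d23_2 (iv F24330) D7575 (iv D5238)
def n7576 : Q := act 5 n5227
theorem D7576 : act 5 n5227 = n7576 := rfl
theorem F34452 : act 0 n7576 = n5230 := d4_1 D7576 (iv D5230) (iv F24325)
theorem F34453 : act 1 n7576 = n5869 := d12_1 D7576 (iv D5869) (iv F24326)
theorem F34454 : act 3 n7576 = n5228 := d25_1 D7576 (iv D5228) D5227
theorem F34455 : act 7 n7576 = n5255 := d36_2 (iv F24329) D7576 (iv D5255)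
theorem F34456 : act 9 n7576 = n5239 := d38_2 (iv F24330) D7576 (iv D5239)
def n7577 : Q := act 8 n5227
theorem D7577 : act 8 n5227 = n7577 := rfl
theorem F34457 : act 0 n7577 = n5231 := d7_1 D7577 (iv D5231) (iv F24325)
theorem F34458 : act 1 n7577 = n5870 := d15_1 D7577 (iv D5870) (iv F24326)
theorem F34462 : act 7 n7577 = n5256 := d42_1 D7577 (iv D5256) (iv F24329)
def n7578 : Q := act 6 n5228
theorem D7578 : act 6 n5228 = n7578 := rfl
theorem F34463 : act 0 n7578 = n5232 := d5_1 D7578 (iv D5232) (iv F24331)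
theorem F34464 : act 1 n7578 = n5871 := d13_1 D7578 (iv D5871) (iv F24332)
theorem F34465 : act 4 n7578 = n7578 := d31_1 D7578 (iv D7578) F24333
theorem F34466 : act 5 n7578 = n7578 := d35_1 D7578 (iv D7578) (iv D5228) F17237 D5228
theorem F34467 : act 8 n7578 = n7578 := d40_2 F24335 D7578 (iv D7578)
theorem F34468 : act 9 n7578 = n5241 := d41_2 (iv F24336) D7578 (iv D5241)
def n7579 : Q := act 5 n5229
theorem D7579 : act 5 n5229 = n7579 := rfl
theorem F34469 : act 2 n7579 = n5230 := d19_1 D7579 (iv D5230) D5229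
theorem F34470 : act 7 n7579 = n5258 := d36_2 (iv F24339) D7579 (iv D5258)
theorem F34471 : act 9 n7579 = n5242 := d38_2 (iv F24340) D7579 (iv D5242)
def n7580 : Q := act 8 n5229
theorem D7580 : act 8 n5229 = n7580 := rfl
theorem F34472 : act 2 n7580 = n5231 := d22_1 D7580 (iv D5231) D5229
theorem F34473 : act 4 n7580 = n7580 := d33_1 D7580 (iv D7580) F24337
theorem F34474 : act 6 n7580 = n7580 := d40_1 D7580 (iv D7580) F24338
theorem F34475 : act 7 n7580 = n5259 := d42_1 D7580 (iv D5259) (iv F24339)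
def n7581 : Q := act 4 n5230
theorem D7581 : act 4 n5230 = n7581 := rfl
theorem F34476 : act 1 n7581 = n5233 := d11_1 D7581 (iv D5233) (iv F24341)
theorem F34477 : act 3 n7581 = n7581 := d24_1 D7581 (iv D7581) F24342 F17247 (iv F24342)
theorem F34478 : act 5 n7581 = n7581 := d30_2 D5230 D7581 (iv D7581) (iv D5230) F17242
theorem F34479 : act 7 n7581 = n5260 := d32_2 (iv F24343) D7581 (iv D5260)
theorem F34480 : act 9 n7581 = n5244 := d34_2 (iv F24344) D7581 (iv D5244)
def n7582 : Q := act 6 n5230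
theorem D7582 : act 6 n5230 = n7582 := rfl
theorem F34481 : act 1 n7582 = n5234 := d13_1 D7582 (iv D5234) (iv F24341)
theorem F34482 : act 3 n7582 = n5232 := d26_1 D7582 (iv D5232) (iv F24342)
theorem F34483 : act 5 n7582 = n7582 := d35_1 D7582 (iv D7582) (iv D5230) F17243 D5230
theorem F34484 : act 9 n7582 = n5245 := d41_2 (iv F24344) D7582 (iv D5245)
def n7583 : Q := act 8 n5230
theorem D7583 : act 8 n5230 = n7583 := rfl
theorem F34485 : act 1 n7583 = n5235 := d15_1 D7583 (iv D5235) (iv F24341)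
theorem F34486 : act 3 n7583 = n7583 := d28_1 D7583 (iv D7583) F24342 F17249 (iv F24342)
theorem F34487 : act 5 n7583 = n5231 := d37_1 D7583 (iv D5231) D5230
theorem F34488 : act 7 n7583 = n5262 := d42_1 D7583 (iv D5262) (iv F24343)
def n7584 : Q := act 9 n5231
theorem D7584 : act 9 n5231 = n7584 := rfl
theorem F34489 : act 1 n7584 = n5236 := d16_1 D7584 (iv D5236) (iv F24345)
theorem F34494 : act 8 n7584 = n5247 := d44_1 D7584 (iv D5247) (iv D3624) (iv F17245) D5231
def n7585 : Q := act 7 n5232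
theorem D7585 : act 7 n5232 = n7585 := rfl
theorem F34495 : act 1 n7585 = n5237 := d14_1 D7585 (iv D5237) (iv F24350)
theorem F34496 : act 4 n7585 = n7585 := d32_1 D7585 (iv D7585) F24351
theorem F34497 : act 5 n7585 = n7585 := d36_1 D7585 (iv D7585) F24352
theorem F34498 : act 6 n7585 = n5264 := d39_1 D7585 (iv D5264) (iv D3636) (iv F17248) D5232
theorem F34499 : act 8 n7585 = n7585 := d42_2 F24353 D7585 (iv D7585)
theorem F34500 : act 9 n7585 = n5248 := d43_2 (iv F24354) D7585 (iv D5248)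
def n7586 : Q := act 6 n5233
theorem D7586 : act 6 n5233 = n7586 := rfl
theorem F34503 : act 4 n7586 = n5234 := d31_1 D7586 (iv D5234) D5233
theorem F34504 : act 9 n7586 = n5249 := d41_2 (iv F24359) D7586 (iv D5249)
def n7587 : Q := act 8 n5233
theorem D7587 : act 8 n5233 = n7587 := rfl
theorem F34506 : act 4 n7587 = n5235 := d33_1 D7587 (iv D5235) D5233
theorem F34507 : act 5 n7587 = n7587 := d37_1 D7587 (iv D7587) F24357
theorem F34508 : act 7 n7587 = n5266 := d42_1 D7587 (iv D5266) (iv F24358)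
def n7588 : Q := act 7 n5234
theorem D7588 : act 7 n5234 = n7588 := rfl
theorem F34512 : act 6 n7588 = n5267 := d39_1 D7588 (iv D5267) (iv D3638) (iv F17253) D5234
def n7589 : Q := act 8 n5234
theorem D7589 : act 8 n5234 = n7589 := rfl
theorem F34515 : act 3 n7589 = n7589 := d28_1 D7589 (iv D7589) F24361 F17264 (iv F24361)
theorem F34516 : act 5 n7589 = n7589 := d37_1 D7589 (iv D7589) F24362
theorem F34517 : act 6 n7589 = n5235 := d40_1 D7589 (iv D5235) D5234
def n7590 : Q := act 9 n5235
theorem D7590 : act 9 n5235 = n7590 := rfl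
theorem F34518 : act 0 n7590 = n5883 := d8_1 D7590 (iv D5883) (iv F24364)
theorem F34519 : act 3 n7590 = n7590 := d29_1 D7590 (iv D7590) F24365
theorem F34520 : act 5 n7590 = n5236 := d38_1 D7590 (iv D5236) (iv F24366)
theorem F34521 : act 7 n7590 = n5269 := d43_1 D7590 (iv D5269) (iv F24367)
theorem F34522 : act 8 n7590 = n5253 := d44_1 D7590 (iv D5253) (iv D3628) (iv F17254) D5235
def n7591 : Q := act 1 n5238
theorem D7591 : act 1 n5238 = n7591 := rfl
theorem F34526 : act 7 n7591 = n5270 := d14_2 (iv F24384) D7591 (iv D5270)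
def n7592 : Q := act 5 n5238
theorem D7592 : act 5 n5238 = n7592 := rfl
theorem F34527 : act 0 n7592 = n5242 := d4_1 D7592 (iv D5242) (iv F24381)
theorem F34528 : act 2 n7592 = n5239 := d19_1 D7592 (iv D5239) D5238
theorem F34529 : act 7 n7592 = n5271 := d36_2 (iv F24384) D7592 (iv D5271)
def n7593 : Q := act 8 n5238
theorem D7593 : act 8 n5238 = n7593 := rfl
theorem F34530 : act 0 n7593 = n5243 := d7_1 D7593 (iv D5243) (iv F24381)
theorem F34531 : act 2 n7593 = n5240 := d22_1 D7593 (iv D5240) D5238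
theorem F34534 : act 7 n7593 = n5272 := d42_1 D7593 (iv D5272) (iv F24384)
def n7594 : Q := act 4 n5239
theorem D7594 : act 4 n5239 = n7594 := rfl
theorem F34535 : act 0 n7594 = n5244 := d3_1 D7594 (iv D5244) (iv F24385)
theorem F34536 : act 1 n7594 = n5887 := d11_1 D7594 (iv D5887) (iv F24386)
theorem F34537 : act 3 n7594 = n7594 := d24_1 D7594 (iv D7594) F24387 F17279 (iv F24387)
theorem F34538 : act 5 n7594 = n7594 := d30_2 D5239 D7594 (iv D7594) (iv D5239) F17274
theorem F34539 : act 7 n7594 = n5273 := d32_2 (iv F24388) D7594 (iv D5273)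
def n7595 : Q := act 6 n5239
theorem D7595 : act 6 n5239 = n7595 := rfl
theorem F34540 : act 0 n7595 = n5245 := d5_1 D7595 (iv D5245) (iv F24385)
theorem F34541 : act 1 n7595 = n5888 := d13_1 D7595 (iv D5888) (iv F24386)
theorem F34542 : act 3 n7595 = n5241 := d26_1 D7595 (iv D5241) (iv F24387)
theorem F34543 : act 5 n7595 = n7595 := d35_1 D7595 (iv D7595) (iv D5239) F17275 D5239
def n7596 : Q := act 8 n5239
theorem D7596 : act 8 n5239 = n7596 := rfl
theorem F34544 : act 0 n7596 = n5246 := d7_1 D7596 (iv D5246) (iv F24385)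
theorem F34546 : act 3 n7596 = n5397 := d28_1 D7596 (iv D5397) F17730 (iv F17281) (iv F24387)
theorem F34548 : act 7 n7596 = n5275 := d42_1 D7596 (iv D5275) (iv F24388)
def n7597 : Q := act 9 n5240
theorem D7597 : act 9 n5240 = n7597 := rfl
theorem F34549 : act 0 n7597 = n5247 := d8_1 D7597 (iv D5247) (iv F24389)
theorem F34551 : act 3 n7597 = n5398 := d29_1 D7597 (iv D5398) (iv F24391)
def n7598 : Q := act 7 n5241
theorem D7598 : act 7 n5241 = n7598 := rfl
theorem F34555 : act 0 n7598 = n5248 := d6_1 D7598 (iv D5248) (iv F24395)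
theorem F34556 : act 1 n7598 = n5891 := d14_1 D7598 (iv D5891) (iv F24396)
theorem F34557 : act 4 n7598 = n7598 := d32_1 D7598 (iv D7598) F24397
theorem F34558 : act 5 n7598 = n7598 := d36_1 D7598 (iv D7598) F24398
theorem F34559 : act 6 n7598 = n5277 := d39_1 D7598 (iv D5277) (iv D3645) (iv F17280) D5241
theorem F34560 : act 8 n7598 = n5399 := d42_2 (iv F24399) D7598 (iv D5399)
def n7599 : Q := act 4 n5242
theorem D7599 : act 4 n5242 = n7599 := rfl
theorem F34561 : act 2 n7599 = n5244 := d18_1 D7599 (iv D5244) (iv F24400)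
theorem F34562 : act 5 n7599 = n7599 := d30_2 D5242 D7599 (iv D7599) (iv D5242) F17282
theorem F34563 : act 7 n7599 = n5278 := d32_2 (iv F24401) D7599 (iv D5278)
def n7600 : Q := act 6 n5242
theorem D7600 : act 6 n5242 = n7600 := rfl
theorem F34564 : act 2 n7600 = n5245 := d20_1 D7600 (iv D5245) (iv F24400)
theorem F34565 : act 5 n7600 = n7600 := d35_1 D7600 (iv D7600) (iv D5242) F17283 D5242
def n7601 : Q := act 8 n5242
theorem D7601 : act 8 n5242 = n7601 := rfl
theorem F34566 : act 2 n7601 = n5246 := d22_1 D7601 (iv D5246) (iv F24400)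
theorem F34567 : act 5 n7601 = n5243 := d37_1 D7601 (iv D5243) D5242
theorem F34568 : act 7 n7601 = n5280 := d42_1 D7601 (iv D5280) (iv F24401)
def n7602 : Q := act 3 n5243
theorem D7602 : act 3 n5243 = n7602 := rfl
theorem F34569 : act 2 n7602 = n5403 := d17_1 D7602 (iv D5403) F17748 (iv F17289) (iv F24402)
theorem F34570 : act 6 n7602 = n7602 := d26_2 F24404 D7602 (iv D7602)
theorem F34571 : act 7 n7602 = n5281 := d27_2 (iv F24405) D7602 (iv D5281)
def n7603 : Q := act 9 n5243
theorem D7603 : act 9 n5243 = n7603 := rfl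
theorem F34572 : act 2 n7603 = n5247 := d23_1 D7603 (iv D5247) (iv F24402)
theorem F34575 : act 7 n7603 = n5282 := d43_1 D7603 (iv D5282) (iv F24405)
def n7604 : Q := act 6 n5244
theorem D7604 : act 6 n5244 = n7604 := rfl
theorem F34576 : act 1 n7604 = n5249 := d13_1 D7604 (iv D5249) (iv F24406)
theorem F34578 : act 4 n7604 = n5245 := d31_1 D7604 (iv D5245) D5244
def n7605 : Q := act 8 n5244
theorem D7605 : act 8 n5244 = n7605 := rfl
theorem F34580 : act 4 n7605 = n5246 := d33_1 D7605 (iv D5246) D5244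
theorem F34582 : act 7 n7605 = n5284 := d42_1 D7605 (iv D5284) (iv F24409)
def n7606 : Q := act 7 n5245
theorem D7606 : act 7 n5245 = n7606 := rfl
theorem F34584 : act 3 n7606 = n5248 := d27_1 D7606 (iv D5248) (iv F24411)
theorem F34586 : act 6 n7606 = n5285 := d39_1 D7606 (iv D5285) (iv D3649) (iv F17287) D5245
def n7607 : Q := act 8 n5245
theorem D7607 : act 8 n5245 = n7607 := rfl
theorem F34588 : act 3 n7607 = n5408 := d28_1 D7607 (iv D5408) F17758 (iv F17296) (iv F24411)
theorem F34590 : act 6 n7607 = n5246 := d40_1 D7607 (iv D5246) D5245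
def n7608 : Q := act 9 n5246
theorem D7608 : act 9 n5246 = n7608 := rfl
theorem F34591 : act 1 n7608 = n5253 := d16_1 D7608 (iv D5253) (iv F24413)
theorem F34592 : act 3 n7608 = n5409 := d29_1 D7608 (iv D5409) (iv F24414)
def n7609 : Q := act 5 n5249
theorem D7609 : act 5 n5249 = n7609 := rfl
def n7610 : Q := act 7 n5249
theorem D7610 : act 7 n5249 = n7610 := rfl
theorem F34601 : act 4 n7610 = n5251 := d32_1 D7610 (iv D5251) (iv F24429)
theorem F34602 : act 6 n7610 = n5289 := d39_1 D7610 (iv D5289) (iv D3653) (iv F17300) D5249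
def n7611 : Q := act 8 n5249
theorem D7611 : act 8 n5249 = n7611 := rfl
theorem F34604 : act 4 n7611 = n5252 := d33_1 D7611 (iv D5252) (iv F24429)
theorem F34605 : act 6 n7611 = n5250 := d40_1 D7611 (iv D5250) D5249
def n7612 : Q := act 3 n5250
theorem D7612 : act 3 n5250 = n7612 := rfl
theorem F34607 : act 4 n7612 = n5413 := d24_2 (iv F24431) D7612 (iv D5413) F17781 (iv F17305)
theorem F34609 : act 7 n7612 = n5291 := d27_2 (iv F24433) D7612 (iv D5291)
def n7613 : Q := act 9 n5250
theorem D7613 : act 9 n5250 = n7613 := rfl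
theorem F34612 : act 4 n7613 = n5253 := d34_1 D7613 (iv D5253) (iv F24431)
def n7614 : Q := act 8 n5251
theorem D7614 : act 8 n5251 = n7614 := rfl
theorem F34616 : act 3 n7614 = n5415 := d28_1 D7614 (iv D5415) F17786 (iv F17318) (iv F24435)
theorem F34618 : act 6 n7614 = n5293 := d40_1 D7614 (iv D5293) (iv F24437)
def n7615 : Q := act 9 n5252
theorem D7615 : act 9 n5252 = n7615 := rfl
theorem F34621 : act 3 n7615 = n5416 := d29_1 D7615 (iv D5416) (iv F24439)
theorem F34623 : act 6 n7615 = n5253 := d41_1 D7615 (iv D5253) (iv F24441)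
def n7616 : Q := act 1 n5254
theorem D7616 : act 1 n5254 = n7616 := rfl
theorem F34624 : act 2 n7616 = n5909 := d9_2 D5254 D7616 (iv D5909) (iv D4083) (iv F17320)
theorem F34626 : act 6 n7616 = n5295 := d13_2 (iv F24448) D7616 (iv D5295)
theorem F34627 : act 9 n7616 = n5270 := d16_2 (iv F24449) D7616 (iv D5270)
def n7617 : Q := act 5 n5254
theorem D7617 : act 5 n5254 = n7617 := rfl
theorem F34628 : act 0 n7617 = n5258 := d4_1 D7617 (iv D5258) (iv F24446)
theorem F34629 : act 2 n7617 = n5255 := d19_1 D7617 (iv D5255) D5254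
theorem F34630 : act 9 n7617 = n5271 := d38_2 (iv F24449) D7617 (iv D5271)
def n7618 : Q := act 8 n5254
theorem D7618 : act 8 n5254 = n7618 := rfl
theorem F34634 : act 6 n7618 = n5297 := d40_1 D7618 (iv D5297) (iv F24448)
def n7619 : Q := act 4 n5255
theorem D7619 : act 4 n5255 = n7619 := rfl
theorem F34635 : act 0 n7619 = n5260 := d3_1 D7619 (iv D5260) (iv F24450)
theorem F34636 : act 1 n7619 = n5912 := d11_1 D7619 (iv D5912) (iv F24451)
theorem F34637 : act 3 n7619 = n7619 := d24_1 D7619 (iv D7619) F24452 F17326 (iv F24452)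
theorem F34638 : act 5 n7619 = n7619 := d30_2 D5255 D7619 (iv D7619) (iv D5255) F17321
theorem F34639 : act 9 n7619 = n5273 := d34_2 (iv F24453) D7619 (iv D5273)
def n7620 : Q := act 6 n5255
theorem D7620 : act 6 n5255 = n7620 := rfl
theorem F34640 : act 0 n7620 = n5261 := d5_1 D7620 (iv D5261) (iv F24450)
theorem F34641 : act 1 n7620 = n5913 := d13_1 D7620 (iv D5913) (iv F24451)
theorem F34642 : act 3 n7620 = n5257 := d26_1 D7620 (iv D5257) (iv F24452)
theorem F34643 : act 5 n7620 = n5299 := d35_1 D7620 (iv D5299) (iv D3659) (iv F17322) D5255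
theorem F34644 : act 9 n7620 = n5274 := d41_2 (iv F24453) D7620 (iv D5274)
def n7622 : Q := act 9 n5256
theorem D7622 : act 9 n5256 = n7622 := rfl
theorem F34653 : act 6 n7622 = n5301 := d41_1 D7622 (iv D5301) (iv F24458)
def n7623 : Q := act 7 n5257
theorem D7623 : act 7 n5257 = n7623 := rfl
theorem F34655 : act 0 n7623 = n5264 := d6_1 D7623 (iv D5264) (iv F24459)
theorem F34656 : act 1 n7623 = n5916 := d14_1 D7623 (iv D5916) (iv F24460)
theorem F34657 : act 4 n7623 = n7623 := d32_1 D7623 (iv D7623) F24461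
theorem F34658 : act 5 n7623 = n5302 := d36_1 D7623 (iv D5302) (iv F24462)
theorem F34659 : act 8 n7623 = n7623 := d42_2 F24463 D7623 (iv D7623)
theorem F34660 : act 9 n7623 = n5277 := d43_2 (iv F24464) D7623 (iv D5277)
def n7624 : Q := act 4 n5258
theorem D7624 : act 4 n5258 = n7624 := rfl
theorem F34661 : act 2 n7624 = n5260 := d18_1 D7624 (iv D5260) (iv F24465)
theorem F34662 : act 5 n7624 = n7624 := d30_2 D5258 D7624 (iv D7624) (iv D5258) F17329
theorem F34663 : act 9 n7624 = n5278 := d34_2 (iv F24466) D7624 (iv D5278)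
def n7625 : Q := act 6 n5258
theorem D7625 : act 6 n5258 = n7625 := rfl
theorem F34664 : act 2 n7625 = n5261 := d20_1 D7625 (iv D5261) (iv F24465)
theorem F34665 : act 5 n7625 = n5304 := d35_1 D7625 (iv D5304) (iv D3662) (iv F17330) D5258
theorem F34666 : act 9 n7625 = n5279 := d41_2 (iv F24466) D7625 (iv D5279)
def n7626 : Q := act 8 n5258
theorem D7626 : act 8 n5258 = n7626 := rfl
theorem F34667 : act 2 n7626 = n5262 := d22_1 D7626 (iv D5262) (iv F24465)
theorem F34668 : act 5 n7626 = n5259 := d37_1 D7626 (iv D5259) D5258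
def n7627 : Q := act 3 n5259
theorem D7627 : act 3 n5259 = n7627 := rfl
theorem F34670 : act 6 n7627 = n5306 := d26_2 (iv F24469) D7627 (iv D5306)
def n7628 : Q := act 9 n5259
theorem D7628 : act 9 n5259 = n7628 := rfl
theorem F34673 : act 6 n7628 = n5307 := d41_1 D7628 (iv D5307) (iv F24469)
theorem F34674 : act 8 n7628 = n5282 := d44_1 D7628 (iv D5282) (iv D3647) (iv F17331) D5259
def n7629 : Q := act 6 n5260
theorem D7629 : act 6 n5260 = n7629 := rfl
theorem F34675 : act 1 n7629 = n5265 := d13_1 D7629 (iv D5265) (iv F24470)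
theorem F34676 : act 3 n7629 = n7629 := d26_1 D7629 (iv D7629) F24471
theorem F34677 : act 4 n7629 = n5261 := d31_1 D7629 (iv D5261) D5260
theorem F34678 : act 9 n7629 = n5283 := d41_2 (iv F24473) D7629 (iv D5283)
def n7630 : Q := act 8 n5260
theorem D7630 : act 8 n5260 = n7630 := rfl
theorem F34679 : act 1 n7630 = n5266 := d15_1 D7630 (iv D5266) (iv F24470)
theorem F34680 : act 4 n7630 = n5262 := d33_1 D7630 (iv D5262) D5260
theorem F34681 : act 5 n7630 = n7630 := d37_1 D7630 (iv D7630) F24472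
def n7631 : Q := act 7 n5261
theorem D7631 : act 7 n5261 = n7631 := rfl
theorem F34682 : act 1 n7631 = n5267 := d14_1 D7631 (iv D5267) (iv F24474)
theorem F34683 : act 3 n7631 = n5264 := d27_1 D7631 (iv D5264) (iv F24475)
theorem F34684 : act 5 n7631 = n5310 := d36_1 D7631 (iv D5310) (iv F24476)
theorem F34685 : act 9 n7631 = n5285 := d43_2 (iv F24477) D7631 (iv D5285)
def n7632 : Q := act 8 n5261
theorem D7632 : act 8 n5261 = n7632 := rfl
theorem F34686 : act 1 n7632 = n5268 := d15_1 D7632 (iv D5268) (iv F24474)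
theorem F34687 : act 3 n7632 = n7632 := d28_1 D7632 (iv D7632) F24475 F17342 (iv F24475)
theorem F34688 : act 5 n7632 = n5311 := d37_1 D7632 (iv D5311) (iv F24476)
theorem F34689 : act 6 n7632 = n5262 := d40_1 D7632 (iv D5262) D5261
def n7633 : Q := act 9 n5262
theorem D7633 : act 9 n5262 = n7633 := rfl
theorem F34690 : act 1 n7633 = n5269 := d16_1 D7633 (iv D5269) (iv F24478)
theorem F34693 : act 8 n7633 = n5287 := d44_1 D7633 (iv D5287) (iv D3650) (iv F17334) D5262
def n7634 : Q := act 5 n5265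
theorem D7634 : act 5 n5265 = n7634 := rfl
theorem F34696 : act 4 n7634 = n5313 := d30_1 D7634 (iv D5313) F17468 (iv F17350) (iv F24493)
theorem F34698 : act 9 n7634 = n5288 := d38_2 (iv F24494) D7634 (iv D5288)
def n7635 : Q := act 7 n5265
theorem D7635 : act 7 n5265 = n7635 := rfl
theorem F34701 : act 4 n7635 = n5267 := d32_1 D7635 (iv D5267) (iv F24493)
def n7636 : Q := act 8 n5265
theorem D7636 : act 8 n5265 = n7636 := rfl
theorem F34704 : act 4 n7636 = n5268 := d33_1 D7636 (iv D5268) (iv F24493)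
theorem F34705 : act 6 n7636 = n5266 := d40_1 D7636 (iv D5266) D5265
def n7637 : Q := act 3 n5266
theorem D7637 : act 3 n5266 = n7637 := rfl
theorem F34707 : act 4 n7637 = n7637 := d24_2 (iv F24496) D7637 (iv D7637) F24496 F17353
theorem F34708 : act 5 n7637 = n7637 := d25_2 F24497 D7637 (iv D7637)
theorem F34709 : act 8 n7637 = n7637 := d28_2 D5266 D7637 (iv D7637) (iv D5266) F17345
def n7638 : Q := act 9 n5266
theorem D7638 : act 9 n5266 = n7638 := rfl
theorem F34710 : act 0 n7638 = n5931 := d8_1 D7638 (iv D5931) (iv F24495)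
theorem F34711 : act 4 n7638 = n5269 := d34_1 D7638 (iv D5269) (iv F24496)
theorem F34712 : act 5 n7638 = n7638 := d38_1 D7638 (iv D7638) F24497
theorem F34713 : act 8 n7638 = n5292 := d44_1 D7638 (iv D5292) (iv D3654) (iv F17347) D5266
def n7639 : Q := act 8 n5267
theorem D7639 : act 8 n5267 = n7639 := rfl
theorem F34715 : act 3 n7639 = n7639 := d28_1 D7639 (iv D7639) F24499 F17364 (iv F24499)
theorem F34716 : act 5 n7639 = n5318 := d37_1 D7639 (iv D5318) (iv F24500)
theorem F34717 : act 7 n7639 = n5268 := d42_1 D7639 (iv D5268) D5267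
def n7640 : Q := act 9 n5268
theorem D7640 : act 9 n5268 = n7640 := rfl
theorem F34718 : act 0 n7640 = n5933 := d8_1 D7640 (iv D5933) (iv F24502)
theorem F34719 : act 3 n7640 = n7640 := d29_1 D7640 (iv D7640) F24503
theorem F34720 : act 5 n7640 = n5319 := d38_1 D7640 (iv D5319) (iv F24504)
theorem F34721 : act 6 n7640 = n5269 := d41_1 D7640 (iv D5269) (iv F24505)
theorem F34722 : act 8 n7640 = n5294 := d44_1 D7640 (iv D5294) (iv D3656) (iv F17351) D5268
def n7641 : Q := act 5 n5270
theorem D7641 : act 5 n5270 = n7641 := rfl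
theorem F34723 : act 1 n7641 = n5271 := d12_1 D7641 (iv D5271) D5270
theorem F34724 : act 2 n7641 = n5934 := d19_1 D7641 (iv D5934) (iv F24510)
def n7642 : Q := act 8 n5270
theorem D7642 : act 8 n5270 = n7642 := rfl
theorem F34725 : act 1 n7642 = n5272 := d15_1 D7642 (iv D5272) D5270
theorem F34728 : act 6 n7642 = n5321 := d40_1 D7642 (iv D5321) (iv F24512)
def n7643 : Q := act 4 n5271
theorem D7643 : act 4 n5271 = n7643 := rfl
theorem F34729 : act 0 n7643 = n5278 := d3_1 D7643 (iv D5278) (iv F24513)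
theorem F34730 : act 2 n7643 = n5273 := d18_1 D7643 (iv D5273) (iv F24514)
theorem F34731 : act 5 n7643 = n7643 := d30_2 D5271 D7643 (iv D7643) (iv D5271) F17367
def n7644 : Q := act 6 n5271
theorem D7644 : act 6 n5271 = n7644 := rfl
theorem F34732 : act 0 n7644 = n5279 := d5_1 D7644 (iv D5279) (iv F24513)
theorem F34733 : act 2 n7644 = n5274 := d20_1 D7644 (iv D5274) (iv F24514)
theorem F34734 : act 5 n7644 = n5323 := d35_1 D7644 (iv D5323) (iv D3675) (iv F17368) D5271
def n7645 : Q := act 8 n5271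
theorem D7645 : act 8 n5271 = n7645 := rfl
theorem F34736 : act 2 n7645 = n5275 := d22_1 D7645 (iv D5275) (iv F24514)
def n7646 : Q := act 3 n5272
theorem D7646 : act 3 n5272 = n7646 := rfl
theorem F34738 : act 0 n7646 = n5281 := d2_1 D7646 (iv D5281) (iv F24515)
theorem F34739 : act 2 n7646 = n5422 := d17_1 D7646 (iv D5422) F17808 (iv F17374) (iv F24516)
def n7648 : Q := act 6 n5273
theorem D7648 : act 6 n5273 = n7648 := rfl
theorem F34745 : act 0 n7648 = n5283 := d5_1 D7648 (iv D5283) (iv F24519)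
theorem F34746 : act 1 n7648 = n5941 := d13_1 D7648 (iv D5941) (iv F24520)
theorem F34747 : act 3 n7648 = n7648 := d26_1 D7648 (iv D7648) F24521
theorem F34748 : act 4 n7648 = n5274 := d31_1 D7648 (iv D5274) D5273
def n7649 : Q := act 8 n5273
theorem D7649 : act 8 n5273 = n7649 := rfl
theorem F34749 : act 0 n7649 = n5284 := d7_1 D7649 (iv D5284) (iv F24519)
theorem F34751 : act 4 n7649 = n5275 := d33_1 D7649 (iv D5275) D5273
def n7650 : Q := act 7 n5274
theorem D7650 : act 7 n5274 = n7650 := rfl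
theorem F34753 : act 0 n7650 = n5285 := d6_1 D7650 (iv D5285) (iv F24523)
theorem F34754 : act 1 n7650 = n5943 := d14_1 D7650 (iv D5943) (iv F24524)
theorem F34755 : act 3 n7650 = n5277 := d27_1 D7650 (iv D5277) (iv F24525)
theorem F34756 : act 5 n7650 = n5329 := d36_1 D7650 (iv D5329) (iv F24526)
def n7651 : Q := act 8 n5274
theorem D7651 : act 8 n5274 = n7651 := rfl
theorem F34759 : act 3 n7651 = n5427 := d28_1 D7651 (iv D5427) F17818 (iv F17381) (iv F24525)
theorem F34760 : act 5 n7651 = n5330 := d37_1 D7651 (iv D5330) (iv F24526)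
theorem F34761 : act 6 n7651 = n5275 := d40_1 D7651 (iv D5275) D5274
def n7652 : Q := act 9 n5275
theorem D7652 : act 9 n5275 = n7652 := rfl
theorem F34762 : act 0 n7652 = n5287 := d8_1 D7652 (iv D5287) (iv F24527)
theorem F34764 : act 3 n7652 = n5428 := d29_1 D7652 (iv D5428) (iv F24529)
def n7653 : Q := act 3 n5278
theorem D7653 : act 3 n5278 = n7653 := rfl
theorem F34766 : act 2 n7653 = n7653 := d17_1 D7653 (iv D7653) F24541 F17387 (iv F24541)
theorem F34767 : act 5 n7653 = n7653 := d25_2 F24542 D7653 (iv D7653)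
def n7654 : Q := act 6 n5278
theorem D7654 : act 6 n5278 = n7654 := rfl
theorem F34768 : act 2 n7654 = n5283 := d20_1 D7654 (iv D5283) (iv F24541)
theorem F34769 : act 4 n7654 = n5279 := d31_1 D7654 (iv D5279) D5278
def n7655 : Q := act 8 n5278
theorem D7655 : act 8 n5278 = n7655 := rfl
theorem F34770 : act 2 n7655 = n5284 := d22_1 D7655 (iv D5284) (iv F24541)
theorem F34771 : act 4 n7655 = n5280 := d33_1 D7655 (iv D5280) D5278
theorem F34772 : act 5 n7655 = n7655 := d37_1 D7655 (iv D7655) F24542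
def n7656 : Q := act 7 n5279
theorem D7656 : act 7 n5279 = n7656 := rfl
theorem F34773 : act 2 n7656 = n5285 := d21_1 D7656 (iv D5285) (iv F24543)
theorem F34774 : act 5 n7656 = n5335 := d36_1 D7656 (iv D5335) (iv F24544)
def n7657 : Q := act 8 n5279
theorem D7657 : act 8 n5279 = n7657 := rfl
theorem F34775 : act 2 n7657 = n5286 := d22_1 D7657 (iv D5286) (iv F24543)
theorem F34776 : act 5 n7657 = n5336 := d37_1 D7657 (iv D5336) (iv F24544)
theorem F34777 : act 6 n7657 = n5280 := d40_1 D7657 (iv D5280) D5279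
def n7658 : Q := act 3 n5280
theorem D7658 : act 3 n5280 = n7658 := rfl
theorem F34778 : act 2 n7658 = n5434 := d17_1 D7658 (iv D5434) F17843 (iv F17393) (iv F24545)
theorem F34779 : act 5 n7658 = n5281 := d25_2 (iv F24546) D7658 (iv D5281)
def n7659 : Q := act 9 n5280
theorem D7659 : act 9 n5280 = n7659 := rfl
def n7660 : Q := act 4 n5281
theorem D7660 : act 4 n5281 = n7660 := rfl
theorem F34782 : act 2 n7660 = n5436 := d18_1 D7660 (iv D5436) (iv F24547)
theorem F34783 : act 3 n7660 = n7660 := d24_1 D7660 (iv D7660) (iv D5281) F17384 D5281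
theorem F34784 : act 6 n7660 = n5339 := d31_2 (iv F24548) D7660 (iv D5339)
def n7661 : Q := act 9 n5281
theorem D7661 : act 9 n5281 = n7661 := rfl
theorem F34786 : act 3 n7661 = n5282 := d29_1 D7661 (iv D5282) D5281
theorem F34787 : act 6 n7661 = n5340 := d41_1 D7661 (iv D5340) (iv F24548)
def n7662 : Q := act 5 n5283
theorem D7662 : act 5 n5283 = n7662 := rfl
theorem F34790 : act 4 n7662 = n5341 := d30_1 D7662 (iv D5341) F17533 (iv F17391) (iv F24554)
def n7663 : Q := act 7 n5283
theorem D7663 : act 7 n5283 = n7663 := rfl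
theorem F34794 : act 4 n7663 = n5285 := d32_1 D7663 (iv D5285) (iv F24554)
def n7664 : Q := act 8 n5283
theorem D7664 : act 8 n5283 = n7664 := rfl
theorem F34796 : act 4 n7664 = n5286 := d33_1 D7664 (iv D5286) (iv F24554)
theorem F34797 : act 6 n7664 = n5284 := d40_1 D7664 (iv D5284) D5283
def n7665 : Q := act 3 n5284
theorem D7665 : act 3 n5284 = n7665 := rfl
theorem F34798 : act 1 n7665 = n5291 := d10_1 D7665 (iv D5291) (iv F24555)
theorem F34799 : act 4 n7665 = n5440 := d24_2 (iv F24556) D7665 (iv D5440) F17858 (iv F17393)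
def n7666 : Q := act 9 n5284
theorem D7666 : act 9 n5284 = n7666 := rfl
theorem F34802 : act 1 n7666 = n5292 := d16_1 D7666 (iv D5292) (iv F24555)
def n7667 : Q := act 8 n5285
theorem D7667 : act 8 n5285 = n7667 := rfl
theorem F34805 : act 1 n7667 = n5293 := d15_1 D7667 (iv D5293) (iv F24558)
theorem F34806 : act 3 n7667 = n5442 := d28_1 D7667 (iv D5442) F17861 (iv F17402) (iv F24559)
theorem F34807 : act 5 n7667 = n5345 := d37_1 D7667 (iv D5345) (iv F24560)
def n7668 : Q := act 9 n5286
theorem D7668 : act 9 n5286 = n7668 := rfl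
theorem F34809 : act 1 n7668 = n5294 := d16_1 D7668 (iv D5294) (iv F24561)
theorem F34810 : act 3 n7668 = n5443 := d29_1 D7668 (iv D5443) (iv F24562)
theorem F34811 : act 5 n7668 = n5346 := d38_1 D7668 (iv D5346) (iv F24563)
def n7669 : Q := act 7 n5288
theorem D7669 : act 7 n5288 = n7669 := rfl
theorem F34815 : act 4 n7669 = n5347 := d32_1 D7669 (iv D5347) (iv F24570)
theorem F34816 : act 5 n7669 = n5289 := d36_1 D7669 (iv D5289) D5288
def n7670 : Q := act 8 n5288
theorem D7670 : act 8 n5288 = n7670 := rfl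
theorem F34817 : act 0 n7670 = n5963 := d7_1 D7670 (iv D5963) (iv F24568)
theorem F34818 : act 4 n7670 = n5348 := d33_1 D7670 (iv D5348) (iv F24570)
theorem F34819 : act 5 n7670 = n5290 := d37_1 D7670 (iv D5290) D5288
def n7671 : Q := act 8 n5289
theorem D7671 : act 8 n5289 = n7671 := rfl
theorem F34822 : act 4 n7671 = n5293 := d33_1 D7671 (iv D5293) (iv F24574)
theorem F34823 : act 7 n7671 = n5290 := d42_1 D7671 (iv D5290) D5289
def n7672 : Q := act 3 n5290
theorem D7672 : act 3 n5290 = n7672 := rfl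
theorem F34826 : act 6 n7672 = n5291 := d26_2 (iv F24577) D7672 (iv D5291)
def n7673 : Q := act 9 n5290
theorem D7673 : act 9 n5290 = n7673 := rfl
def n7674 : Q := act 2 n5291
theorem D7674 : act 2 n5291 = n7674 := rfl
theorem F34832 : act 4 n7674 = n5447 := d18_2 (iv F24579) D7674 (iv D5447)
def n7675 : Q := act 9 n5291
theorem D7675 : act 9 n5291 = n7675 := rfl
theorem F34836 : act 3 n7675 = n5292 := d29_1 D7675 (iv D5292) D5291
theorem F34837 : act 4 n7675 = n5448 := d34_1 D7675 (iv D5448) (iv F24579)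
def n7676 : Q := act 9 n5293
theorem D7676 : act 9 n5293 = n7676 := rfl
theorem F34840 : act 3 n7676 = n5449 := d29_1 D7676 (iv D5449) (iv F24586)
def n7677 : Q := act 5 n5295
theorem D7677 : act 5 n5295 = n7677 := rfl
theorem F34843 : act 1 n7677 = n5296 := d12_1 D7677 (iv D5296) D5295
theorem F34846 : act 9 n7677 = n5320 := d38_2 (iv F24596) D7677 (iv D5320)
def n7678 : Q := act 8 n5295
theorem D7678 : act 8 n5295 = n7678 := rfl
def n7679 : Q := act 4 n5296
theorem D7679 : act 4 n5296 = n7679 := rfl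
theorem F34851 : act 0 n7679 = n5303 := d3_1 D7679 (iv D5303) (iv F24597)
theorem F34852 : act 2 n7679 = n5298 := d18_1 D7679 (iv D5298) (iv F24598)
theorem F34853 : act 5 n7679 = n7679 := d30_2 D5296 D7679 (iv D7679) (iv D5296) F17420
theorem F34854 : act 7 n7679 = n7679 := d32_2 F24599 D7679 (iv D7679)
theorem F34855 : act 9 n7679 = n5322 := d34_2 (iv F24600) D7679 (iv D5322)
def n7680 : Q := act 6 n5296
theorem D7680 : act 6 n5296 = n7680 := rfl
theorem F34856 : act 0 n7680 = n5304 := d5_1 D7680 (iv D5304) (iv F24597)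
theorem F34857 : act 2 n7680 = n5299 := d20_1 D7680 (iv D5299) (iv F24598)
theorem F34858 : act 9 n7680 = n5323 := d41_2 (iv F24600) D7680 (iv D5323)
def n7681 : Q := act 8 n5296
theorem D7681 : act 8 n5296 = n7681 := rfl
theorem F34861 : act 5 n7681 = n5297 := d37_1 D7681 (iv D5297) D5296
def n7682 : Q := act 3 n5297
theorem D7682 : act 3 n5297 = n7682 := rfl
def n7684 : Q := act 6 n5298
theorem D7684 : act 6 n5298 = n7684 := rfl
theorem F34871 : act 0 n7684 = n5308 := d5_1 D7684 (iv D5308) (iv F24605)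
theorem F34872 : act 1 n7684 = n5977 := d13_1 D7684 (iv D5977) (iv F24606)
theorem F34873 : act 3 n7684 = n5358 := d26_1 D7684 (iv D5358) (iv F24607)
theorem F34874 : act 4 n7684 = n5299 := d31_1 D7684 (iv D5299) D5298
theorem F34875 : act 9 n7684 = n5327 := d41_2 (iv F24610) D7684 (iv D5327)
def n7685 : Q := act 8 n5298
theorem D7685 : act 8 n5298 = n7685 := rfl
theorem F34876 : act 0 n7685 = n5309 := d7_1 D7685 (iv D5309) (iv F24605)
theorem F34878 : act 4 n7685 = n5300 := d33_1 D7685 (iv D5300) D5298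
def n7686 : Q := act 7 n5299
theorem D7686 : act 7 n5299 = n7686 := rfl
theorem F34881 : act 0 n7686 = n5310 := d6_1 D7686 (iv D5310) (iv F24611)
theorem F34882 : act 1 n7686 = n5979 := d14_1 D7686 (iv D5979) (iv F24612)
theorem F34883 : act 3 n7686 = n5302 := d27_1 D7686 (iv D5302) (iv F24613)
theorem F34884 : act 6 n7686 = n7686 := d39_1 D7686 (iv D7686) (iv D5299) F17426 D5299
theorem F34885 : act 9 n7686 = n5329 := d43_2 (iv F24614) D7686 (iv D5329)
def n7687 : Q := act 8 n5299
theorem D7687 : act 8 n5299 = n7687 := rfl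
theorem F34887 : act 1 n7687 = n5980 := d15_1 D7687 (iv D5980) (iv F24612)
def n7688 : Q := act 9 n5300
theorem D7688 : act 9 n5300 = n7688 := rfl
theorem F34893 : act 5 n7688 = n5301 := d38_1 D7688 (iv D5301) (iv F24618)
def n7689 : Q := act 3 n5303
theorem D7689 : act 3 n5303 = n7689 := rfl
theorem F34896 : act 2 n7689 = n5362 := d17_1 D7689 (iv D5362) F17611 (iv F17445) (iv F24632)
theorem F34897 : act 5 n7689 = n7689 := d25_2 F24633 D7689 (iv D7689)
theorem F34898 : act 7 n7689 = n7689 := d27_2 F24634 D7689 (iv D7689)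
theorem F34899 : act 9 n7689 = n5332 := d29_2 (iv F24635) D7689 (iv D5332)
def n7690 : Q := act 6 n5303
theorem D7690 : act 6 n5303 = n7690 := rfl
theorem F34900 : act 2 n7690 = n5308 := d20_1 D7690 (iv D5308) (iv F24632)
theorem F34901 : act 4 n7690 = n5304 := d31_1 D7690 (iv D5304) D5303
theorem F34902 : act 9 n7690 = n5333 := d41_2 (iv F24635) D7690 (iv D5333)
def n7691 : Q := act 8 n5303
theorem D7691 : act 8 n5303 = n7691 := rfl
theorem F34903 : act 2 n7691 = n5309 := d22_1 D7691 (iv D5309) (iv F24632)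
theorem F34904 : act 4 n7691 = n5305 := d33_1 D7691 (iv D5305) D5303
theorem F34905 : act 5 n7691 = n7691 := d37_1 D7691 (iv D7691) F24633
theorem F34906 : act 7 n7691 = n7691 := d42_1 D7691 (iv D7691) F24634
def n7692 : Q := act 7 n5304
theorem D7692 : act 7 n5304 = n7692 := rfl
theorem F34907 : act 2 n7692 = n5310 := d21_1 D7692 (iv D5310) (iv F24636)
theorem F34908 : act 6 n7692 = n7692 := d39_1 D7692 (iv D7692) (iv D5304) F17439 D5304
theorem F34909 : act 9 n7692 = n5335 := d43_2 (iv F24637) D7692 (iv D5335)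
def n7693 : Q := act 8 n5304
theorem D7693 : act 8 n5304 = n7693 := rfl
theorem F34910 : act 2 n7693 = n5311 := d22_1 D7693 (iv D5311) (iv F24636)
theorem F34911 : act 6 n7693 = n5305 := d40_1 D7693 (iv D5305) D5304
def n7694 : Q := act 3 n5305
theorem D7694 : act 3 n5305 = n7694 := rfl
theorem F34913 : act 5 n7694 = n5306 := d25_2 (iv F24639) D7694 (iv D5306)
def n7695 : Q := act 9 n5305
theorem D7695 : act 9 n5305 = n7695 := rfl
theorem F34916 : act 5 n7695 = n5307 := d38_1 D7695 (iv D5307) (iv F24639)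
theorem F34918 : act 8 n7695 = n5338 := d44_1 D7695 (iv D5338) (iv D3684) (iv F17440) D5305
def n7696 : Q := act 4 n5306
theorem D7696 : act 4 n5306 = n7696 := rfl
def n7697 : Q := act 9 n5306
theorem D7697 : act 9 n5306 = n7697 := rfl
theorem F34923 : act 3 n7697 = n5307 := d29_1 D7697 (iv D5307) D5306
def n7698 : Q := act 5 n5308
theorem D7698 : act 5 n5308 = n7698 := rfl
theorem F34925 : act 1 n7698 = n5313 := d12_1 D7698 (iv D5313) (iv F24647)
theorem F34926 : act 3 n7698 = n5369 := d25_1 D7698 (iv D5369) (iv F24648)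
theorem F34927 : act 6 n7698 = n7698 := d35_2 D5308 D7698 (iv D7698) (iv D5308) F17446
theorem F34928 : act 9 n7698 = n5341 := d38_2 (iv F24650) D7698 (iv D5341)
def n7699 : Q := act 7 n5308
theorem D7699 : act 7 n5308 = n7699 := rfl
theorem F34929 : act 1 n7699 = n5314 := d14_1 D7699 (iv D5314) (iv F24647)
theorem F34930 : act 3 n7699 = n5370 := d27_1 D7699 (iv D5370) (iv F24648)
theorem F34931 : act 4 n7699 = n5310 := d32_1 D7699 (iv D5310) (iv F24649)
theorem F34932 : act 6 n7699 = n7699 := d39_1 D7699 (iv D7699) (iv D5308) F17447 D5308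
theorem F34933 : act 9 n7699 = n5342 := d43_2 (iv F24650) D7699 (iv D5342)
def n7700 : Q := act 8 n5308
theorem D7700 : act 8 n5308 = n7700 := rfl
theorem F34934 : act 1 n7700 = n5315 := d15_1 D7700 (iv D5315) (iv F24647)
theorem F34935 : act 4 n7700 = n5311 := d33_1 D7700 (iv D5311) (iv F24649)
theorem F34936 : act 6 n7700 = n5309 := d40_1 D7700 (iv D5309) D5308
def n7701 : Q := act 3 n5309
theorem D7701 : act 3 n5309 = n7701 := rfl
theorem F34937 : act 1 n7701 = n5316 := d10_1 D7701 (iv D5316) (iv F24651)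
theorem F34938 : act 4 n7701 = n7701 := d24_2 (iv F24652) D7701 (iv D7701) F24652 F17453
theorem F34939 : act 5 n7701 = n7701 := d25_2 F24653 D7701 (iv D7701)
theorem F34940 : act 7 n7701 = n7701 := d27_2 F24654 D7701 (iv D7701)
theorem F34941 : act 8 n7701 = n5372 := d28_2 D5309 D7701 (iv D5372) (iv D3710) (iv F17445)
def n7702 : Q := act 9 n5309
theorem D7702 : act 9 n5309 = n7702 := rfl
theorem F34942 : act 1 n7702 = n5317 := d16_1 D7702 (iv D5317) (iv F24651)
theorem F34946 : act 8 n7702 = n5344 := d44_1 D7702 (iv D5344) (iv D3688) (iv F17448) D5309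
def n7703 : Q := act 8 n5310
theorem D7703 : act 8 n5310 = n7703 := rfl
theorem F34947 : act 1 n7703 = n5318 := d15_1 D7703 (iv D5318) (iv F24655)
theorem F34948 : act 3 n7703 = n7703 := d28_1 D7703 (iv D7703) F24656 F17464 (iv F24656)
theorem F34949 : act 6 n7703 = n7703 := d40_1 D7703 (iv D7703) F24657
theorem F34950 : act 7 n7703 = n5311 := d42_1 D7703 (iv D5311) D5310
def n7704 : Q := act 9 n5311
theorem D7704 : act 9 n5311 = n7704 := rfl
theorem F34951 : act 1 n7704 = n5319 := d16_1 D7704 (iv D5319) (iv F24659)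
theorem F34954 : act 8 n7704 = n5346 := d44_1 D7704 (iv D5346) (iv D3690) (iv F17451) D5311
def n7705 : Q := act 7 n5313
theorem D7705 : act 7 n5313 = n7705 := rfl
theorem F34956 : act 3 n7705 = n5374 := d27_1 D7705 (iv D5374) (iv F24668)
theorem F34957 : act 5 n7705 = n5314 := d36_1 D7705 (iv D5314) D5313
theorem F34958 : act 9 n7705 = n5347 := d43_2 (iv F24670) D7705 (iv D5347)
def n7706 : Q := act 8 n5313
theorem D7706 : act 8 n5313 = n7706 := rfl
theorem F34960 : act 5 n7706 = n5315 := d37_1 D7706 (iv D5315) D5313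
theorem F34961 : act 6 n7706 = n7706 := d40_1 D7706 (iv D7706) F24669
def n7707 : Q := act 8 n5314
theorem D7707 : act 8 n5314 = n7707 := rfl
theorem F34963 : act 4 n7707 = n5318 := d33_1 D7707 (iv D5318) (iv F24673)
theorem F34964 : act 6 n7707 = n7707 := d40_1 D7707 (iv D7707) F24674
theorem F34965 : act 7 n7707 = n5315 := d42_1 D7707 (iv D5315) D5314
def n7708 : Q := act 3 n5315
theorem D7708 : act 3 n5315 = n7708 := rfl
theorem F34966 : act 0 n7708 = n6001 := d2_1 D7708 (iv D6001) (iv F24676)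
theorem F34967 : act 4 n7708 = n7708 := d24_2 (iv F24677) D7708 (iv D7708) F24677 F17479
theorem F34968 : act 6 n7708 = n5316 := d26_2 (iv F24678) D7708 (iv D5316)
theorem F34969 : act 8 n7708 = n5377 := d28_2 D5315 D7708 (iv D5377) (iv D3715) (iv F17467)
def n7709 : Q := act 9 n5315
theorem D7709 : act 9 n5315 = n7709 := rfl
theorem F34971 : act 4 n7709 = n5319 := d34_1 D7709 (iv D5319) (iv F24677)
theorem F34972 : act 6 n7709 = n5317 := d41_1 D7709 (iv D5317) (iv F24678)
theorem F34973 : act 8 n7709 = n5350 := d44_1 D7709 (iv D5350) (iv D3694) (iv F17469) D5315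
def n7710 : Q := act 2 n5316
theorem D7710 : act 2 n5316 = n7710 := rfl
theorem F34978 : act 8 n7710 = n5378 := d22_2 (iv F24683) D7710 (iv D5378)
def n7711 : Q := act 9 n5316
theorem D7711 : act 9 n5316 = n7711 := rfl
theorem F34980 : act 3 n7711 = n5317 := d29_1 D7711 (iv D5317) D5316
theorem F34981 : act 4 n7711 = n7711 := d34_1 D7711 (iv D7711) F24680
theorem F34982 : act 5 n7711 = n7711 := d38_1 D7711 (iv D7711) F24681
theorem F34983 : act 7 n7711 = n7711 := d43_1 D7711 (iv D7711) F24682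
theorem F34984 : act 8 n7711 = n7711 := d44_1 D7711 (iv D7711) F24683 F17666 (iv F24683)
def n7712 : Q := act 9 n5318
theorem D7712 : act 9 n5318 = n7712 := rfl
theorem F34986 : act 3 n7712 = n7712 := d29_1 D7712 (iv D7712) F24690
theorem F34987 : act 6 n7712 = n7712 := d41_1 D7712 (iv D7712) F24691
theorem F34988 : act 7 n7712 = n5319 := d43_1 D7712 (iv D5319) (iv F24692)
theorem F34989 : act 8 n7712 = n5351 := d44_1 D7712 (iv D5351) (iv D3696) (iv F17477) D5318
def n7713 : Q := act 4 n5320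
theorem D7713 : act 4 n5320 = n7713 := rfl
theorem F34990 : act 1 n7713 = n5322 := d11_1 D7713 (iv D5322) (iv F24697)
def n7714 : Q := act 6 n5320
theorem D7714 : act 6 n5320 = n7714 := rfl
theorem F34994 : act 1 n7714 = n5323 := d13_1 D7714 (iv D5323) (iv F24697)
def n7715 : Q := act 8 n5320
theorem D7715 : act 8 n5320 = n7715 := rfl
theorem F34998 : act 5 n7715 = n5321 := d37_1 D7715 (iv D5321) D5320
def n7718 : Q := act 3 n5322
theorem D7718 : act 3 n5322 = n7718 := rfl
theorem F35006 : act 0 n7718 = n5332 := d2_1 D7718 (iv D5332) (iv F24704)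
theorem F35007 : act 2 n7718 = n5381 := d17_1 D7718 (iv D5381) F17680 (iv F17498) (iv F24705)
theorem F35008 : act 5 n7718 = n7718 := d25_2 F24706 D7718 (iv D7718)
theorem F35009 : act 7 n7718 = n7718 := d27_2 F24707 D7718 (iv D7718)
def n7719 : Q := act 6 n5322
theorem D7719 : act 6 n5322 = n7719 := rfl
theorem F35010 : act 0 n7719 = n5333 := d5_1 D7719 (iv D5333) (iv F24704)
theorem F35011 : act 2 n7719 = n5327 := d20_1 D7719 (iv D5327) (iv F24705)
theorem F35012 : act 4 n7719 = n5323 := d31_1 D7719 (iv D5323) D5322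
def n7720 : Q := act 8 n5322
theorem D7720 : act 8 n5322 = n7720 := rfl
theorem F35015 : act 4 n7720 = n5324 := d33_1 D7720 (iv D5324) D5322
def n7721 : Q := act 7 n5323
theorem D7721 : act 7 n5323 = n7721 := rfl
theorem F35018 : act 0 n7721 = n5335 := d6_1 D7721 (iv D5335) (iv F24708)
theorem F35019 : act 2 n7721 = n5329 := d21_1 D7721 (iv D5329) (iv F24709)
theorem F35020 : act 6 n7721 = n7721 := d39_1 D7721 (iv D7721) (iv D5323) F17491 D5323
def n7722 : Q := act 8 n5323
theorem D7722 : act 8 n5323 = n7722 := rfl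
def n7723 : Q := act 3 n5324
theorem D7723 : act 3 n5324 = n7723 := rfl
theorem F35026 : act 5 n7723 = n5325 := d25_2 (iv F24712) D7723 (iv D5325)
def n7725 : Q := act 4 n5325
theorem D7725 : act 4 n5325 = n7725 := rfl
def n7726 : Q := act 9 n5325
theorem D7726 : act 9 n5325 = n7726 := rfl
theorem F35036 : act 0 n7726 = n5340 := d8_1 D7726 (iv D5340) (iv F24714)
theorem F35037 : act 2 n7726 = n5459 := d23_1 D7726 (iv D5459) (iv F24715)
def n7727 : Q := act 5 n5327
theorem D7727 : act 5 n5327 = n7727 := rfl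
theorem F35040 : act 0 n7727 = n5341 := d4_1 D7727 (iv D5341) (iv F24721)
theorem F35041 : act 1 n7727 = n6020 := d12_1 D7727 (iv D6020) (iv F24722)
theorem F35042 : act 3 n7727 = n5384 := d25_1 D7727 (iv D5384) (iv F24723)
theorem F35043 : act 6 n7727 = n7727 := d35_2 D5327 D7727 (iv D7727) (iv D5327) F17499
def n7728 : Q := act 7 n5327
theorem D7728 : act 7 n5327 = n7728 := rfl
theorem F35044 : act 0 n7728 = n5342 := d6_1 D7728 (iv D5342) (iv F24721)
theorem F35045 : act 1 n7728 = n6021 := d14_1 D7728 (iv D6021) (iv F24722)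
theorem F35046 : act 3 n7728 = n5385 := d27_1 D7728 (iv D5385) (iv F24723)
theorem F35047 : act 4 n7728 = n5329 := d32_1 D7728 (iv D5329) (iv F24724)
theorem F35048 : act 6 n7728 = n7728 := d39_1 D7728 (iv D7728) (iv D5327) F17500 D5327
def n7729 : Q := act 8 n5327
theorem D7729 : act 8 n5327 = n7729 := rfl
theorem F35052 : act 4 n7729 = n5330 := d33_1 D7729 (iv D5330) (iv F24724)
def n7730 : Q := act 9 n5328
theorem D7730 : act 9 n5328 = n7730 := rfl
theorem F35057 : act 4 n7730 = n5331 := d34_1 D7730 (iv D5331) (iv F24728)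
def n7731 : Q := act 8 n5329
theorem D7731 : act 8 n5329 = n7731 := rfl
theorem F35060 : act 0 n7731 = n5345 := d7_1 D7731 (iv D5345) (iv F24731)
theorem F35062 : act 3 n7731 = n5460 := d28_1 D7731 (iv D5460) F17927 (iv F17518) (iv F24733)
def n7732 : Q := act 9 n5330
theorem D7732 : act 9 n5330 = n7732 := rfl
def n7733 : Q := act 6 n5332
theorem D7733 : act 6 n5332 = n7733 := rfl
theorem F35069 : act 2 n7733 = n5386 := d20_1 D7733 (iv D5386) (iv F24744)
theorem F35070 : act 3 n7733 = n5333 := d26_1 D7733 (iv D5333) D5332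
def n7734 : Q := act 8 n5332
theorem D7734 : act 8 n5332 = n7734 := rfl
theorem F35071 : act 2 n7734 = n5387 := d22_1 D7734 (iv D5387) (iv F24744)
theorem F35072 : act 5 n7734 = n7734 := d37_1 D7734 (iv D7734) F24745
theorem F35073 : act 7 n7734 = n7734 := d42_1 D7734 (iv D7734) F24746
def n7735 : Q := act 5 n5333
theorem D7735 : act 5 n5333 = n7735 := rfl
theorem F35074 : act 2 n7735 = n5341 := d19_1 D7735 (iv D5341) (iv F24747)
theorem F35075 : act 6 n7735 = n7735 := d35_2 D5333 D7735 (iv D7735) (iv D5333) F17520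
def n7736 : Q := act 7 n5333
theorem D7736 : act 7 n5333 = n7736 := rfl
theorem F35076 : act 2 n7736 = n5342 := d21_1 D7736 (iv D5342) (iv F24747)
theorem F35077 : act 4 n7736 = n5335 := d32_1 D7736 (iv D5335) (iv F24748)
theorem F35078 : act 6 n7736 = n7736 := d39_1 D7736 (iv D7736) (iv D5333) F17521 D5333
def n7737 : Q := act 8 n5333
theorem D7737 : act 8 n5333 = n7737 := rfl
theorem F35079 : act 2 n7737 = n5343 := d22_1 D7737 (iv D5343) (iv F24747)
theorem F35080 : act 4 n7737 = n5336 := d33_1 D7737 (iv D5336) (iv F24748)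
theorem F35081 : act 6 n7737 = n5334 := d40_1 D7737 (iv D5334) D5333
def n7738 : Q := act 3 n5334
theorem D7738 : act 3 n5334 = n7738 := rfl
theorem F35082 : act 2 n7738 = n7738 := d17_1 D7738 (iv D7738) F24749 F17535 (iv F24749)
theorem F35083 : act 5 n7738 = n7738 := d25_2 F24751 D7738 (iv D7738)
theorem F35084 : act 7 n7738 = n7738 := d27_2 F24752 D7738 (iv D7738)
def n7739 : Q := act 9 n5334
theorem D7739 : act 9 n5334 = n7739 := rfl
theorem F35086 : act 4 n7739 = n5338 := d34_1 D7739 (iv D5338) (iv F24750)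
def n7740 : Q := act 8 n5335
theorem D7740 : act 8 n5335 = n7740 := rfl
theorem F35089 : act 2 n7740 = n5345 := d22_1 D7740 (iv D5345) (iv F24753)
theorem F35090 : act 6 n7740 = n7740 := d40_1 D7740 (iv D7740) F24754
theorem F35091 : act 7 n7740 = n5336 := d42_1 D7740 (iv D5336) D5335
def n7741 : Q := act 3 n5336
theorem D7741 : act 3 n5336 = n7741 := rfl
theorem F35092 : act 2 n7741 = n5463 := d17_1 D7741 (iv D5463) F17947 (iv F17543) (iv F24755)
theorem F35093 : act 6 n7741 = n5337 := d26_2 (iv F24756) D7741 (iv D5337)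
def n7742 : Q := act 9 n5336
theorem D7742 : act 9 n5336 = n7742 := rfl
def n7743 : Q := act 4 n5337
theorem D7743 : act 4 n5337 = n7743 := rfl
theorem F35096 : act 2 n7743 = n5465 := d18_1 D7743 (iv D5465) (iv F24757)
theorem F35097 : act 7 n7743 = n7743 := d32_2 F24759 D7743 (iv D7743)
def n7744 : Q := act 9 n5337
theorem D7744 : act 9 n5337 = n7744 := rfl
theorem F35099 : act 3 n7744 = n5338 := d29_1 D7744 (iv D5338) D5337
theorem F35100 : act 5 n7744 = n5340 := d38_1 D7744 (iv D5340) (iv F24758)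
def n7745 : Q := act 5 n5339
theorem D7745 : act 5 n5339 = n7745 := rfl
theorem F35102 : act 2 n7745 = n5467 := d19_1 D7745 (iv D5467) (iv F24763)
theorem F35103 : act 3 n7745 = n7745 := d25_1 D7745 (iv D7745) F24764
theorem F35104 : act 7 n7745 = n7745 := d36_2 F24765 D7745 (iv D7745)
def n7746 : Q := act 9 n5339
theorem D7746 : act 9 n5339 = n7746 := rfl
theorem F35105 : act 2 n7746 = n5468 := d23_1 D7746 (iv D5468) (iv F24763)
theorem F35107 : act 4 n7746 = n5340 := d34_1 D7746 (iv D5340) D5339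
def n7747 : Q := act 8 n5340
theorem D7747 : act 8 n5340 = n7747 := rfl
def n7748 : Q := act 7 n5341
theorem D7748 : act 7 n5341 = n7748 := rfl
theorem F35112 : act 3 n7748 = n5390 := d27_1 D7748 (iv D5390) (iv F24770)
theorem F35113 : act 5 n7748 = n5342 := d36_1 D7748 (iv D5342) D5341
def n7749 : Q := act 8 n5341
theorem D7749 : act 8 n5341 = n7749 := rfl
theorem F35116 : act 5 n7749 = n5343 := d37_1 D7749 (iv D5343) D5341
def n7750 : Q := act 8 n5342
theorem D7750 : act 8 n5342 = n7750 := rfl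
theorem F35120 : act 4 n7750 = n5345 := d33_1 D7750 (iv D5345) (iv F24774)
def n7751 : Q := act 9 n5343
theorem D7751 : act 9 n5343 = n7751 := rfl
theorem F35123 : act 1 n7751 = n5350 := d16_1 D7751 (iv D5350) (iv F24776)
def n7752 : Q := act 9 n5345
theorem D7752 : act 9 n5345 = n7752 := rfl
theorem F35127 : act 1 n7752 = n5351 := d16_1 D7752 (iv D5351) (iv F24785)
def n7753 : Q := act 6 n5347
theorem D7753 : act 6 n5347 = n7753 := rfl
theorem F35132 : act 3 n7753 = n5391 := d26_1 D7753 (iv D5391) (iv F24793)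
def n7754 : Q := act 8 n5347
theorem D7754 : act 8 n5347 = n7754 := rfl
theorem F35137 : act 5 n7754 = n5349 := d37_1 D7754 (iv D5349) (iv F24794)
def n7755 : Q := act 9 n5348
theorem D7755 : act 9 n5348 = n7755 := rfl
theorem F35141 : act 5 n7755 = n5350 := d38_1 D7755 (iv D5350) (iv F24797)
def n7756 : Q := act 9 n5349
theorem D7756 : act 9 n5349 = n7756 := rfl
theorem F35145 : act 4 n7756 = n5351 := d34_1 D7756 (iv D5351) (iv F24801)
def n7757 : Q := act 4 n5352
theorem D7757 : act 4 n5352 = n7757 := rfl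
theorem F35149 : act 1 n7757 = n5354 := d11_1 D7757 (iv D5354) (iv F24813)
theorem F35150 : act 2 n7757 = n6050 := d18_1 D7757 (iv D6050) (iv F24814)
theorem F35153 : act 9 n7757 = n5379 := d34_2 (iv F24816) D7757 (iv D5379)
def n7758 : Q := act 6 n5352
theorem D7758 : act 6 n5352 = n7758 := rfl
theorem F35155 : act 1 n7758 = n5355 := d13_1 D7758 (iv D5355) (iv F24813)
theorem F35156 : act 2 n7758 = n6051 := d20_1 D7758 (iv D6051) (iv F24814)
theorem F35158 : act 9 n7758 = n5380 := d41_2 (iv F24816) D7758 (iv D5380)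
def n7760 : Q := act 3 n5353
theorem D7760 : act 3 n5353 = n7760 := rfl
def n7761 : Q := act 3 n5354
theorem D7761 : act 3 n5354 = n7761 := rfl
theorem F35170 : act 0 n7761 = n5362 := d2_1 D7761 (iv D5362) (iv F24824)
theorem F35171 : act 5 n7761 = n7761 := d25_2 F24826 D7761 (iv D7761)
theorem F35172 : act 7 n7761 = n7761 := d27_2 F24827 D7761 (iv D7761)
theorem F35173 : act 9 n7761 = n5381 := d29_2 (iv F24828) D7761 (iv D5381)
def n7762 : Q := act 6 n5354
theorem D7762 : act 6 n5354 = n7762 := rfl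
theorem F35174 : act 0 n7762 = n5363 := d5_1 D7762 (iv D5363) (iv F24824)
theorem F35175 : act 2 n7762 = n5358 := d20_1 D7762 (iv D5358) (iv F24825)
theorem F35176 : act 4 n7762 = n5355 := d31_1 D7762 (iv D5355) D5354
theorem F35177 : act 9 n7762 = n5382 := d41_2 (iv F24828) D7762 (iv D5382)
def n7763 : Q := act 8 n5354
theorem D7763 : act 8 n5354 = n7763 := rfl
theorem F35178 : act 0 n7763 = n5364 := d7_1 D7763 (iv D5364) (iv F24824)
theorem F35179 : act 2 n7763 = n5359 := d22_1 D7763 (iv D5359) (iv F24825)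
def n7764 : Q := act 7 n5355
theorem D7764 : act 7 n5355 = n7764 := rfl
theorem F35184 : act 0 n7764 = n5365 := d6_1 D7764 (iv D5365) (iv F24829)
theorem F35185 : act 2 n7764 = n5360 := d21_1 D7764 (iv D5360) (iv F24830)
theorem F35186 : act 5 n7764 = n7764 := d36_1 D7764 (iv D7764) F24831
theorem F35187 : act 6 n7764 = n7764 := d39_1 D7764 (iv D7764) (iv D5355) F17580 D5355
theorem F35188 : act 9 n7764 = n5383 := d43_2 (iv F24832) D7764 (iv D5383)
def n7765 : Q := act 8 n5355
theorem D7765 : act 8 n5355 = n7765 := rfl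
theorem F35189 : act 0 n7765 = n5366 := d7_1 D7765 (iv D5366) (iv F24829)
theorem F35190 : act 2 n7765 = n5361 := d22_1 D7765 (iv D5361) (iv F24830)
def n7768 : Q := act 5 n5358
theorem D7768 : act 5 n5358 = n7768 := rfl
theorem F35205 : act 0 n7768 = n5369 := d4_1 D7768 (iv D5369) (iv F24843)
theorem F35206 : act 1 n7768 = n6061 := d12_1 D7768 (iv D6061) (iv F24844)
theorem F35207 : act 4 n7768 = n7768 := d30_1 D7768 (iv D7768) F24845 F17596 (iv F24845)
theorem F35208 : act 6 n7768 = n7768 := d35_2 D5358 D7768 (iv D7768) (iv D5358) F17590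
theorem F35209 : act 9 n7768 = n5384 := d38_2 (iv F24846) D7768 (iv D5384)
def n7769 : Q := act 7 n5358
theorem D7769 : act 7 n5358 = n7769 := rfl
theorem F35210 : act 0 n7769 = n5370 := d6_1 D7769 (iv D5370) (iv F24843)
theorem F35211 : act 1 n7769 = n6062 := d14_1 D7769 (iv D6062) (iv F24844)
theorem F35212 : act 4 n7769 = n5360 := d32_1 D7769 (iv D5360) (iv F24845)
theorem F35213 : act 6 n7769 = n7769 := d39_1 D7769 (iv D7769) (iv D5358) F17591 D5358
theorem F35214 : act 9 n7769 = n5385 := d43_2 (iv F24846) D7769 (iv D5385)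
def n7770 : Q := act 8 n5358
theorem D7770 : act 8 n5358 = n7770 := rfl
theorem F35215 : act 0 n7770 = n5371 := d7_1 D7770 (iv D5371) (iv F24843)
theorem F35216 : act 1 n7770 = n6063 := d15_1 D7770 (iv D6063) (iv F24844)
theorem F35217 : act 4 n7770 = n5361 := d33_1 D7770 (iv D5361) (iv F24845)
theorem F35218 : act 6 n7770 = n5359 := d40_1 D7770 (iv D5359) D5358
theorem F35219 : act 9 n7770 = n7770 := d44_2 (iv F24846) D7770 (iv D7770) F24846 F17691
def n7771 : Q := act 3 n5359
theorem D7771 : act 3 n5359 = n7771 := rfl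
theorem F35220 : act 0 n7771 = n5372 := d2_1 D7771 (iv D5372) (iv F24847)
theorem F35221 : act 1 n7771 = n6064 := d10_1 D7771 (iv D6064) (iv F24848)
theorem F35222 : act 4 n7771 = n7771 := d24_2 (iv F24849) D7771 (iv D7771) F24849 F17600
theorem F35223 : act 5 n7771 = n7771 := d25_2 F24850 D7771 (iv D7771)
theorem F35224 : act 7 n7771 = n7771 := d27_2 F24851 D7771 (iv D7771)
theorem F35225 : act 9 n7771 = n7771 := d29_2 F24852 D7771 (iv D7771)
def n7772 : Q := act 8 n5360
theorem D7772 : act 8 n5360 = n7772 := rfl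
theorem F35226 : act 0 n7772 = n5373 := d7_1 D7772 (iv D5373) (iv F24853)
theorem F35227 : act 1 n7772 = n6065 := d15_1 D7772 (iv D6065) (iv F24854)
theorem F35228 : act 3 n7772 = n7772 := d28_1 D7772 (iv D7772) F24855 F17608 (iv F24855)
theorem F35229 : act 5 n7772 = n7772 := d37_1 D7772 (iv D7772) F24856
theorem F35230 : act 6 n7772 = n7772 := d40_1 D7772 (iv D7772) F24857
theorem F35231 : act 7 n7772 = n5361 := d42_1 D7772 (iv D5361) D5360
theorem F35232 : act 9 n7772 = n7772 := d44_2 (iv F24858) D7772 (iv D7772) F24858 F17697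
def n7773 : Q := act 6 n5362
theorem D7773 : act 6 n5362 = n7773 := rfl
theorem F35233 : act 1 n7773 = n7773 := d13_1 D7773 (iv D7773) F24865
theorem F35234 : act 3 n7773 = n5363 := d26_1 D7773 (iv D5363) D5362
theorem F35235 : act 9 n7773 = n5386 := d41_2 (iv F24868) D7773 (iv D5386)
def n7774 : Q := act 8 n5362
theorem D7774 : act 8 n5362 = n7774 := rfl
theorem F35236 : act 1 n7774 = n7774 := d15_1 D7774 (iv D7774) F24865
theorem F35237 : act 5 n7774 = n7774 := d37_1 D7774 (iv D7774) F24866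
theorem F35238 : act 7 n7774 = n7774 := d42_1 D7774 (iv D7774) F24867
def n7775 : Q := act 5 n5363
theorem D7775 : act 5 n5363 = n7775 := rfl
theorem F35239 : act 1 n7775 = n7775 := d12_1 D7775 (iv D7775) F24869
theorem F35240 : act 2 n7775 = n5369 := d19_1 D7775 (iv D5369) (iv F24870)
theorem F35241 : act 4 n7775 = n7775 := d30_1 D7775 (iv D7775) F24871 F17617 (iv F24871)
theorem F35242 : act 6 n7775 = n7775 := d35_2 D5363 D7775 (iv D7775) (iv D5363) F17612
theorem F35243 : act 9 n7775 = n5388 := d38_2 (iv F24872) D7775 (iv D5388)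
def n7776 : Q := act 7 n5363
theorem D7776 : act 7 n5363 = n7776 := rfl
theorem F35244 : act 1 n7776 = n7776 := d14_1 D7776 (iv D7776) F24869
theorem F35245 : act 2 n7776 = n5370 := d21_1 D7776 (iv D5370) (iv F24870)
theorem F35246 : act 4 n7776 = n5365 := d32_1 D7776 (iv D5365) (iv F24871)
theorem F35247 : act 6 n7776 = n7776 := d39_1 D7776 (iv D7776) (iv D5363) F17613 D5363
theorem F35248 : act 9 n7776 = n5389 := d43_2 (iv F24872) D7776 (iv D5389)
def n7777 : Q := act 8 n5363
theorem D7777 : act 8 n5363 = n7777 := rfl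
theorem F35249 : act 1 n7777 = n7777 := d15_1 D7777 (iv D7777) F24869
theorem F35250 : act 2 n7777 = n5371 := d22_1 D7777 (iv D5371) (iv F24870)
theorem F35251 : act 4 n7777 = n5366 := d33_1 D7777 (iv D5366) (iv F24871)
theorem F35252 : act 6 n7777 = n5364 := d40_1 D7777 (iv D5364) D5363
theorem F35253 : act 9 n7777 = n7777 := d44_2 (iv F24872) D7777 (iv D7777) F24872 F17704
def n7778 : Q := act 3 n5364
theorem D7778 : act 3 n5364 = n7778 := rfl
theorem F35254 : act 1 n7778 = n7778 := d10_1 D7778 (iv D7778) F24873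
theorem F35255 : act 5 n7778 = n7778 := d25_2 F24876 D7778 (iv D7778)
theorem F35256 : act 7 n7778 = n7778 := d27_2 F24877 D7778 (iv D7778)
theorem F35257 : act 9 n7778 = n7778 := d29_2 F24878 D7778 (iv D7778)
def n7779 : Q := act 8 n5365
theorem D7779 : act 8 n5365 = n7779 := rfl
theorem F35258 : act 1 n7779 = n7779 := d15_1 D7779 (iv D7779) F24879
theorem F35259 : act 2 n7779 = n5373 := d22_1 D7779 (iv D5373) (iv F24880)
theorem F35260 : act 5 n7779 = n7779 := d37_1 D7779 (iv D7779) F24881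
theorem F35261 : act 6 n7779 = n7779 := d40_1 D7779 (iv D7779) F24882
theorem F35262 : act 7 n7779 = n5366 := d42_1 D7779 (iv D5366) D5365
theorem F35263 : act 9 n7779 = n7779 := d44_2 (iv F24883) D7779 (iv D7779) F24883 F17709
def n7780 : Q := act 3 n5366
theorem D7780 : act 3 n5366 = n7780 := rfl
def n7783 : Q := act 7 n5369
theorem D7783 : act 7 n5369 = n7783 := rfl
theorem F35278 : act 1 n7783 = n5374 := d14_1 D7783 (iv D5374) (iv F24900)
theorem F35279 : act 4 n7783 = n7783 := d32_1 D7783 (iv D7783) F24901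
theorem F35280 : act 5 n7783 = n5370 := d36_1 D7783 (iv D5370) D5369
theorem F35281 : act 9 n7783 = n5390 := d43_2 (iv F24903) D7783 (iv D5390)
def n7784 : Q := act 8 n5369
theorem D7784 : act 8 n5369 = n7784 := rfl
theorem F35282 : act 1 n7784 = n5375 := d15_1 D7784 (iv D5375) (iv F24900)
theorem F35283 : act 4 n7784 = n7784 := d33_1 D7784 (iv D7784) F24901
theorem F35284 : act 5 n7784 = n5371 := d37_1 D7784 (iv D5371) D5369
theorem F35285 : act 6 n7784 = n7784 := d40_1 D7784 (iv D7784) F24902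
theorem F35286 : act 9 n7784 = n7784 := d44_2 (iv F24903) D7784 (iv D7784) F24903 F17713
def n7785 : Q := act 8 n5370
theorem D7785 : act 8 n5370 = n7785 := rfl
theorem F35287 : act 1 n7785 = n5376 := d15_1 D7785 (iv D5376) (iv F24904)
theorem F35288 : act 4 n7785 = n5373 := d33_1 D7785 (iv D5373) (iv F24905)
theorem F35289 : act 6 n7785 = n7785 := d40_1 D7785 (iv D7785) F24906
theorem F35290 : act 7 n7785 = n5371 := d42_1 D7785 (iv D5371) D5370
theorem F35291 : act 9 n7785 = n7785 := d44_2 (iv F24907) D7785 (iv D7785) F24907 F17717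
def n7786 : Q := act 3 n5371
theorem D7786 : act 3 n5371 = n7786 := rfl
theorem F35292 : act 1 n7786 = n5377 := d10_1 D7786 (iv D5377) (iv F24908)
theorem F35293 : act 4 n7786 = n7786 := d24_2 (iv F24909) D7786 (iv D7786) F24909 F17643
theorem F35294 : act 6 n7786 = n5372 := d26_2 (iv F24910) D7786 (iv D5372)
theorem F35295 : act 9 n7786 = n7786 := d29_2 F24911 D7786 (iv D7786)
def n7787 : Q := act 2 n5372
theorem D7787 : act 2 n5372 = n7787 := rfl
theorem F35296 : act 4 n7787 = n7787 := d18_2 F24913 D7787 (iv D7787)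
theorem F35297 : act 5 n7787 = n7787 := d19_2 F24914 D7787 (iv D7787)
theorem F35298 : act 7 n7787 = n7787 := d21_2 F24915 D7787 (iv D7787)
theorem F35299 : act 9 n7787 = n7787 := d23_2 F24916 D7787 (iv D7787)
def n7788 : Q := act 6 n5374
theorem D7788 : act 6 n5374 = n7788 := rfl
theorem F35305 : act 9 n7788 = n5391 := d41_2 (iv F24927) D7788 (iv D5391)
def n7789 : Q := act 8 n5374
theorem D7789 : act 8 n5374 = n7789 := rfl
theorem F35307 : act 2 n7789 = n7789 := d22_1 D7789 (iv D7789) F24924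
theorem F35308 : act 4 n7789 = n7789 := d33_1 D7789 (iv D7789) F24925
theorem F35309 : act 5 n7789 = n5376 := d37_1 D7789 (iv D5376) (iv F24926)
theorem F35310 : act 7 n7789 = n5375 := d42_1 D7789 (iv D5375) D5374
theorem F35311 : act 9 n7789 = n7789 := d44_2 (iv F24927) D7789 (iv D7789) F24927 F17722
def n7790 : Q := act 3 n5375
theorem D7790 : act 3 n5375 = n7790 := rfl
theorem F35313 : act 5 n7790 = n5377 := d25_2 (iv F24931) D7790 (iv D5377)
theorem F35314 : act 6 n7790 = n7790 := d26_2 F24932 D7790 (iv D7790)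
theorem F35315 : act 9 n7790 = n7790 := d29_2 F24933 D7790 (iv D7790)
def n7791 : Q := act 3 n5376
theorem D7791 : act 3 n5376 = n7791 := rfl
theorem F35317 : act 4 n7791 = n7791 := d24_2 (iv F24936) D7791 (iv D7791) F24936 F17669
theorem F35318 : act 6 n7791 = n7791 := d26_2 F24937 D7791 (iv D7791)
theorem F35319 : act 7 n7791 = n5377 := d27_2 (iv F24938) D7791 (iv D5377)
theorem F35320 : act 9 n7791 = n7791 := d29_2 F24939 D7791 (iv D7791)
def n7792 : Q := act 2 n5377
theorem D7792 : act 2 n5377 = n7792 := rfl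
theorem F35321 : act 0 n7792 = n6085 := d1_1 D7792 (iv D6085) (iv F24940)
theorem F35322 : act 3 n7792 = n7792 := d17_2 D5377 D7792 (iv D7792) (iv D5377) F17658
theorem F35323 : act 4 n7792 = n7792 := d18_2 F24941 D7792 (iv D7792)
theorem F35324 : act 6 n7792 = n5378 := d20_2 (iv F24942) D7792 (iv D5378)
theorem F35325 : act 9 n7792 = n7792 := d23_2 F24943 D7792 (iv D7792)
def n7793 : Q := act 1 n5378
theorem D7793 : act 1 n5378 = n7793 := rfl
theorem F35326 : act 3 n7793 = n7793 := d10_2 F24945 D7793 (iv D7793)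
theorem F35327 : act 4 n7793 = n7793 := d11_2 F24946 D7793 (iv D7793)
theorem F35328 : act 5 n7793 = n7793 := d12_2 F24947 D7793 (iv D7793)
theorem F35329 : act 7 n7793 = n7793 := d14_2 F24948 D7793 (iv D7793)
theorem F35330 : act 9 n7793 = n7793 := d16_2 F24949 D7793 (iv D7793)
def n7794 : Q := act 3 n5379
theorem D7794 : act 3 n5379 = n7794 := rfl
theorem F35331 : act 0 n7794 = n7794 := d2_1 D7794 (iv D7794) F24950
theorem F35332 : act 1 n7794 = n5381 := d10_1 D7794 (iv D5381) (iv F24951)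
theorem F35333 : act 5 n7794 = n7794 := d25_2 F24953 D7794 (iv D7794)
theorem F35334 : act 7 n7794 = n7794 := d27_2 F24954 D7794 (iv D7794)
def n7795 : Q := act 6 n5379
theorem D7795 : act 6 n5379 = n7795 := rfl
theorem F35335 : act 0 n7795 = n7795 := d5_1 D7795 (iv D7795) F24950
theorem F35336 : act 1 n7795 = n5382 := d13_1 D7795 (iv D5382) (iv F24951)
theorem F35337 : act 2 n7795 = n6088 := d20_1 D7795 (iv D6088) (iv F24952)
theorem F35338 : act 4 n7795 = n5380 := d31_1 D7795 (iv D5380) D5379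
theorem F35339 : act 8 n7795 = n7795 := d40_2 F24955 D7795 (iv D7795)
def n7796 : Q := act 7 n5380
theorem D7796 : act 7 n5380 = n7796 := rfl
theorem F35340 : act 0 n7796 = n7796 := d6_1 D7796 (iv D7796) F24956
theorem F35341 : act 1 n7796 = n5383 := d14_1 D7796 (iv D5383) (iv F24957)
theorem F35342 : act 2 n7796 = n6089 := d21_1 D7796 (iv D6089) (iv F24958)
theorem F35343 : act 5 n7796 = n7796 := d36_1 D7796 (iv D7796) F24959
theorem F35344 : act 6 n7796 = n7796 := d39_1 D7796 (iv D7796) (iv D5380) F17677 D5380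
theorem F35345 : act 8 n7796 = n7796 := d42_2 F24960 D7796 (iv D7796)
def n7797 : Q := act 6 n5381
theorem D7797 : act 6 n5381 = n7797 := rfl
theorem F35346 : act 0 n7797 = n5386 := d5_1 D7797 (iv D5386) (iv F24961)
theorem F35347 : act 3 n7797 = n5382 := d26_1 D7797 (iv D5382) D5381
def n7798 : Q := act 8 n5381
theorem D7798 : act 8 n5381 = n7798 := rfl
theorem F35348 : act 0 n7798 = n5387 := d7_1 D7798 (iv D5387) (iv F24961)
theorem F35349 : act 3 n7798 = n7798 := d28_1 D7798 (iv D7798) (iv D5381) F17683 D5381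
theorem F35350 : act 5 n7798 = n7798 := d37_1 D7798 (iv D7798) F24962
theorem F35351 : act 7 n7798 = n7798 := d42_1 D7798 (iv D7798) F24963
def n7799 : Q := act 5 n5382
theorem D7799 : act 5 n5382 = n7799 := rfl
theorem F35352 : act 0 n7799 = n5388 := d4_1 D7799 (iv D5388) (iv F24964)
theorem F35353 : act 2 n7799 = n5384 := d19_1 D7799 (iv D5384) (iv F24965)
theorem F35354 : act 4 n7799 = n7799 := d30_1 D7799 (iv D7799) F24966 F17686 (iv F24966)
theorem F35355 : act 6 n7799 = n7799 := d35_2 D5382 D7799 (iv D7799) (iv D5382) F17681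
theorem F35356 : act 8 n7799 = n7799 := d37_2 F24967 D7799 (iv D7799)
def n7800 : Q := act 7 n5382
theorem D7800 : act 7 n5382 = n7800 := rfl
theorem F35357 : act 0 n7800 = n5389 := d6_1 D7800 (iv D5389) (iv F24964)
theorem F35358 : act 2 n7800 = n5385 := d21_1 D7800 (iv D5385) (iv F24965)
theorem F35359 : act 4 n7800 = n5383 := d32_1 D7800 (iv D5383) (iv F24966)
theorem F35360 : act 6 n7800 = n7800 := d39_1 D7800 (iv D7800) (iv D5382) F17682 D5382
theorem F35361 : act 8 n7800 = n7800 := d42_2 F24967 D7800 (iv D7800)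
def n7801 : Q := act 7 n5384
theorem D7801 : act 7 n5384 = n7801 := rfl
theorem F35362 : act 0 n7801 = n5390 := d6_1 D7801 (iv D5390) (iv F24973)
theorem F35363 : act 1 n7801 = n6094 := d14_1 D7801 (iv D6094) (iv F24974)
theorem F35364 : act 4 n7801 = n7801 := d32_1 D7801 (iv D7801) F24975
theorem F35365 : act 5 n7801 = n5385 := d36_1 D7801 (iv D5385) D5384
theorem F35366 : act 8 n7801 = n7801 := d42_2 F24977 D7801 (iv D7801)
def n7802 : Q := act 5 n5386
theorem D7802 : act 5 n5386 = n7802 := rfl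
theorem F35367 : act 1 n7802 = n7802 := d12_1 D7802 (iv D7802) F24983
theorem F35368 : act 3 n7802 = n5388 := d25_1 D7802 (iv D5388) (iv F24984)
theorem F35369 : act 6 n7802 = n7802 := d35_2 D5386 D7802 (iv D7802) (iv D5386) F17699
def n7803 : Q := act 7 n5386
theorem D7803 : act 7 n5386 = n7803 := rfl
theorem F35370 : act 1 n7803 = n7803 := d14_1 D7803 (iv D7803) F24983
theorem F35371 : act 3 n7803 = n5389 := d27_1 D7803 (iv D5389) (iv F24984)
theorem F35372 : act 6 n7803 = n7803 := d39_1 D7803 (iv D7803) (iv D5386) F17700 D5386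
def n7804 : Q := act 8 n5386
theorem D7804 : act 8 n5386 = n7804 := rfl
theorem F35373 : act 1 n7804 = n7804 := d15_1 D7804 (iv D7804) F24983
theorem F35374 : act 3 n7804 = n7804 := d28_1 D7804 (iv D7804) F24984 F17704 (iv F24984)
theorem F35375 : act 6 n7804 = n5387 := d40_1 D7804 (iv D5387) D5386
def n7805 : Q := act 9 n5387
theorem D7805 : act 9 n5387 = n7805 := rfl
theorem F35376 : act 1 n7805 = n7805 := d16_1 D7805 (iv D7805) F24985
theorem F35377 : act 3 n7805 = n7805 := d29_1 D7805 (iv D7805) F24986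
theorem F35378 : act 5 n7805 = n7805 := d38_1 D7805 (iv D7805) F24987
theorem F35379 : act 7 n7805 = n7805 := d43_1 D7805 (iv D7805) F24988
def n7806 : Q := act 7 n5388
theorem D7806 : act 7 n5388 = n7806 := rfl
theorem F35380 : act 1 n7806 = n7806 := d14_1 D7806 (iv D7806) F24989
theorem F35381 : act 2 n7806 = n5390 := d21_1 D7806 (iv D5390) (iv F24990)
theorem F35382 : act 4 n7806 = n7806 := d32_1 D7806 (iv D7806) F24991
theorem F35383 : act 5 n7806 = n5389 := d36_1 D7806 (iv D5389) D5388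
theorem F35384 : act 8 n7806 = n7806 := d42_2 F24993 D7806 (iv D7806)
def n7808 : Q := act 5 n5392
theorem D7808 : act 5 n5392 = n7808 := rfl
theorem F35391 : act 1 n7808 = n5393 := d12_1 D7808 (iv D5393) D5392
theorem F35393 : act 7 n7808 = n5417 := d36_2 (iv F25013) D7808 (iv D5417)
def n7810 : Q := act 4 n5393
theorem D7810 : act 4 n5393 = n7810 := rfl
theorem F35401 : act 0 n7810 = n5400 := d3_1 D7810 (iv D5400) (iv F25015)
theorem F35402 : act 2 n7810 = n5395 := d18_1 D7810 (iv D5395) (iv F25016)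
theorem F35403 : act 5 n7810 = n5473 := d30_2 D5393 D7810 (iv D5473) (iv D3788) (iv F17724)
theorem F35404 : act 7 n7810 = n5419 := d32_2 (iv F25017) D7810 (iv D5419)
theorem F35405 : act 9 n7810 = n7810 := d34_2 F25018 D7810 (iv D7810)
def n7811 : Q := act 6 n5393
theorem D7811 : act 6 n5393 = n7811 := rfl
theorem F35406 : act 0 n7811 = n5401 := d5_1 D7811 (iv D5401) (iv F25015)
theorem F35407 : act 2 n7811 = n5396 := d20_1 D7811 (iv D5396) (iv F25016)
theorem F35408 : act 5 n7811 = n7811 := d35_1 D7811 (iv D7811) (iv D5393) F17725 D5393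
theorem F35409 : act 9 n7811 = n7811 := d41_2 F25018 D7811 (iv D7811)
def n7812 : Q := act 8 n5393
theorem D7812 : act 8 n5393 = n7812 := rfl
theorem F35411 : act 2 n7812 = n5397 := d22_1 D7812 (iv D5397) (iv F25016)
theorem F35413 : act 7 n7812 = n5421 := d42_1 D7812 (iv D5421) (iv F25017)
def n7813 : Q := act 3 n5394
theorem D7813 : act 3 n5394 = n7813 := rfl
def n7814 : Q := act 9 n5394
theorem D7814 : act 9 n5394 = n7814 := rfl
theorem F35418 : act 2 n7814 = n5398 := d23_1 D7814 (iv D5398) (iv F25020)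
theorem F35419 : act 4 n7814 = n5477 := d34_1 D7814 (iv D5477) (iv F25021)
theorem F35421 : act 7 n7814 = n5423 := d43_1 D7814 (iv D5423) (iv F25023)
def n7815 : Q := act 6 n5395
theorem D7815 : act 6 n5395 = n7815 := rfl
theorem F35423 : act 0 n7815 = n5405 := d5_1 D7815 (iv D5405) (iv F25024)
theorem F35424 : act 1 n7815 = n6108 := d13_1 D7815 (iv D6108) (iv F25025)
theorem F35425 : act 3 n7815 = n7815 := d26_1 D7815 (iv D7815) F25026
theorem F35426 : act 4 n7815 = n5396 := d31_1 D7815 (iv D5396) D5395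
theorem F35427 : act 9 n7815 = n7815 := d41_2 F25029 D7815 (iv D7815)
def n7816 : Q := act 8 n5395
theorem D7816 : act 8 n5395 = n7816 := rfl
theorem F35430 : act 4 n7816 = n5397 := d33_1 D7816 (iv D5397) D5395
theorem F35431 : act 5 n7816 = n5479 := d37_1 D7816 (iv D5479) (iv F25027)
theorem F35432 : act 7 n7816 = n5425 := d42_1 D7816 (iv D5425) (iv F25028)
def n7817 : Q := act 7 n5396
theorem D7817 : act 7 n5396 = n7817 := rfl
theorem F35433 : act 0 n7817 = n5407 := d6_1 D7817 (iv D5407) (iv F25030)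
theorem F35434 : act 1 n7817 = n6110 := d14_1 D7817 (iv D6110) (iv F25031)
theorem F35435 : act 3 n7817 = n5399 := d27_1 D7817 (iv D5399) (iv F25032)
theorem F35436 : act 5 n7817 = n7817 := d36_1 D7817 (iv D7817) F25033
theorem F35437 : act 6 n7817 = n5426 := d39_1 D7817 (iv D5426) (iv D3749) (iv F17731) D5396
theorem F35438 : act 9 n7817 = n7817 := d43_2 F25034 D7817 (iv D7817)
def n7818 : Q := act 8 n5396
theorem D7818 : act 8 n5396 = n7818 := rfl
theorem F35439 : act 0 n7818 = n5408 := d7_1 D7818 (iv D5408) (iv F25030)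
def n7819 : Q := act 9 n5397
theorem D7819 : act 9 n5397 = n7819 := rfl
def n7820 : Q := act 3 n5400
theorem D7820 : act 3 n5400 = n7820 := rfl
theorem F35448 : act 1 n7820 = n7820 := d10_1 D7820 (iv D7820) F25051
theorem F35449 : act 2 n7820 = n7820 := d17_1 D7820 (iv D7820) F25052 F17753 (iv F25052)
theorem F35450 : act 5 n7820 = n5482 := d25_2 (iv F25053) D7820 (iv D5482)
theorem F35451 : act 7 n7820 = n5429 := d27_2 (iv F25054) D7820 (iv D5429)
theorem F35452 : act 9 n7820 = n7820 := d29_2 F25055 D7820 (iv D7820)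
def n7821 : Q := act 6 n5400
theorem D7821 : act 6 n5400 = n7821 := rfl
theorem F35453 : act 1 n7821 = n7821 := d13_1 D7821 (iv D7821) F25051
theorem F35454 : act 2 n7821 = n5405 := d20_1 D7821 (iv D5405) (iv F25052)
theorem F35455 : act 4 n7821 = n5401 := d31_1 D7821 (iv D5401) D5400
theorem F35456 : act 9 n7821 = n7821 := d41_2 F25055 D7821 (iv D7821)
def n7822 : Q := act 8 n5400
theorem D7822 : act 8 n5400 = n7822 := rfl
theorem F35457 : act 1 n7822 = n7822 := d15_1 D7822 (iv D7822) F25051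
theorem F35458 : act 2 n7822 = n5406 := d22_1 D7822 (iv D5406) (iv F25052)
theorem F35459 : act 4 n7822 = n5402 := d33_1 D7822 (iv D5402) D5400
theorem F35460 : act 5 n7822 = n5484 := d37_1 D7822 (iv D5484) (iv F25053)
theorem F35461 : act 7 n7822 = n5431 := d42_1 D7822 (iv D5431) (iv F25054)
def n7823 : Q := act 7 n5401
theorem D7823 : act 7 n5401 = n7823 := rfl
theorem F35462 : act 1 n7823 = n7823 := d14_1 D7823 (iv D7823) F25056
theorem F35463 : act 2 n7823 = n5407 := d21_1 D7823 (iv D5407) (iv F25057)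
theorem F35464 : act 5 n7823 = n7823 := d36_1 D7823 (iv D7823) F25058
theorem F35465 : act 6 n7823 = n5432 := d39_1 D7823 (iv D5432) (iv D3754) (iv F17745) D5401
theorem F35466 : act 9 n7823 = n7823 := d43_2 F25059 D7823 (iv D7823)
def n7824 : Q := act 8 n5401
theorem D7824 : act 8 n5401 = n7824 := rfl
theorem F35467 : act 1 n7824 = n7824 := d15_1 D7824 (iv D7824) F25056
theorem F35468 : act 2 n7824 = n5408 := d22_1 D7824 (iv D5408) (iv F25057)
theorem F35469 : act 5 n7824 = n7824 := d37_1 D7824 (iv D7824) F25058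
theorem F35470 : act 6 n7824 = n5402 := d40_1 D7824 (iv D5402) D5401
def n7825 : Q := act 3 n5402
theorem D7825 : act 3 n5402 = n7825 := rfl
theorem F35471 : act 1 n7825 = n7825 := d10_1 D7825 (iv D7825) F25060
theorem F35472 : act 5 n7825 = n5403 := d25_2 (iv F25062) D7825 (iv D5403)
theorem F35473 : act 7 n7825 = n5434 := d27_2 (iv F25063) D7825 (iv D5434)
def n7826 : Q := act 9 n5402
theorem D7826 : act 9 n5402 = n7826 := rfl
theorem F35477 : act 7 n7826 = n5435 := d43_1 D7826 (iv D5435) (iv F25063)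
def n7827 : Q := act 4 n5403
theorem D7827 : act 4 n5403 = n7827 := rfl
theorem F35479 : act 1 n7827 = n7827 := d11_1 D7827 (iv D7827) F25064
theorem F35480 : act 3 n7827 = n5488 := d24_1 D7827 (iv D5488) (iv D3797) (iv F17749) D5403
theorem F35481 : act 6 n7827 = n7827 := d31_2 F25065 D7827 (iv D7827)
theorem F35482 : act 7 n7827 = n5436 := d32_2 (iv F25066) D7827 (iv D5436)
def n7828 : Q := act 9 n5403
theorem D7828 : act 9 n5403 = n7828 := rfl
theorem F35484 : act 3 n7828 = n5404 := d29_1 D7828 (iv D5404) D5403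
def n7829 : Q := act 5 n5405
theorem D7829 : act 5 n5405 = n7829 := rfl
theorem F35490 : act 6 n7829 = n5490 := d35_2 D5405 D7829 (iv D5490) (iv D3799) (iv F17754)
def n7830 : Q := act 7 n5405
theorem D7830 : act 7 n5405 = n7830 := rfl
theorem F35494 : act 4 n7830 = n5407 := d32_1 D7830 (iv D5407) (iv F25075)
theorem F35495 : act 6 n7830 = n5438 := d39_1 D7830 (iv D5438) (iv D3758) (iv F17755) D5405
def n7831 : Q := act 8 n5405
theorem D7831 : act 8 n5405 = n7831 := rfl
theorem F35498 : act 4 n7831 = n5408 := d33_1 D7831 (iv D5408) (iv F25075)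
theorem F35499 : act 6 n7831 = n5406 := d40_1 D7831 (iv D5406) D5405
def n7832 : Q := act 3 n5406
theorem D7832 : act 3 n5406 = n7832 := rfl
theorem F35501 : act 5 n7832 = n5492 := d25_2 (iv F25079) D7832 (iv D5492)
theorem F35502 : act 7 n7832 = n5440 := d27_2 (iv F25080) D7832 (iv D5440)
def n7833 : Q := act 9 n5406
theorem D7833 : act 9 n5406 = n7833 := rfl
theorem F35504 : act 1 n7833 = n5414 := d16_1 D7833 (iv D5414) (iv F25077)
theorem F35505 : act 4 n7833 = n5409 := d34_1 D7833 (iv D5409) (iv F25078)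
theorem F35506 : act 5 n7833 = n5493 := d38_1 D7833 (iv D5493) (iv F25079)
def n7834 : Q := act 8 n5407
theorem D7834 : act 8 n5407 = n7834 := rfl
theorem F35512 : act 7 n7834 = n5408 := d42_1 D7834 (iv D5408) D5407
def n7835 : Q := act 9 n5408
theorem D7835 : act 9 n5408 = n7835 := rfl
theorem F35513 : act 1 n7835 = n5416 := d16_1 D7835 (iv D5416) (iv F25086)
def n7837 : Q := act 8 n5410
theorem D7837 : act 8 n5410 = n7837 := rfl
theorem F35527 : act 5 n7837 = n5412 := d37_1 D7837 (iv D5412) D5410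
theorem F35528 : act 6 n7837 = n5495 := d40_1 D7837 (iv D5495) (iv F25097)
def n7838 : Q := act 8 n5411
theorem D7838 : act 8 n5411 = n7838 := rfl
theorem F35532 : act 6 n7838 = n5444 := d40_1 D7838 (iv D5444) (iv F25103)
theorem F35533 : act 7 n7838 = n5412 := d42_1 D7838 (iv D5412) D5411
def n7839 : Q := act 3 n5412
theorem D7839 : act 3 n5412 = n7839 := rfl
theorem F35535 : act 6 n7839 = n5413 := d26_2 (iv F25108) D7839 (iv D5413)
def n7840 : Q := act 9 n5412
theorem D7840 : act 9 n5412 = n7840 := rfl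
theorem F35539 : act 4 n7840 = n5416 := d34_1 D7840 (iv D5416) (iv F25107)
theorem F35540 : act 6 n7840 = n5414 := d41_1 D7840 (iv D5414) (iv F25108)
def n7841 : Q := act 2 n5413
theorem D7841 : act 2 n5413 = n7841 := rfl
theorem F35544 : act 5 n7841 = n5498 := d19_2 (iv F25110) D7841 (iv D5498)
def n7842 : Q := act 9 n5413
theorem D7842 : act 9 n5413 = n7842 := rfl
theorem F35548 : act 3 n7842 = n5414 := d29_1 D7842 (iv D5414) D5413
theorem F35549 : act 5 n7842 = n5499 := d38_1 D7842 (iv D5499) (iv F25110)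
theorem F35550 : act 7 n7842 = n5448 := d43_1 D7842 (iv D5448) (iv F25111)
def n7843 : Q := act 9 n5415
theorem D7843 : act 9 n5415 = n7843 := rfl
theorem F35554 : act 6 n7843 = n5449 := d41_1 D7843 (iv D5449) (iv F25122)
theorem F35555 : act 7 n7843 = n5416 := d43_1 D7843 (iv D5416) (iv F25123)
def n7844 : Q := act 4 n5417
theorem D7844 : act 4 n5417 = n7844 := rfl
theorem F35558 : act 1 n7844 = n5419 := d11_1 D7844 (iv D5419) (iv F25130)
theorem F35559 : act 2 n7844 = n6137 := d18_1 D7844 (iv D6137) (iv F25131)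
def n7845 : Q := act 6 n5417
theorem D7845 : act 6 n5417 = n7845 := rfl
theorem F35563 : act 1 n7845 = n5420 := d13_1 D7845 (iv D5420) (iv F25130)
def n7848 : Q := act 9 n5418
theorem D7848 : act 9 n5418 = n7848 := rfl
theorem F35575 : act 1 n7848 = n5423 := d16_1 D7848 (iv D5423) (iv F25134)
def n7849 : Q := act 3 n5419
theorem D7849 : act 3 n5419 = n7849 := rfl
theorem F35580 : act 0 n7849 = n5429 := d2_1 D7849 (iv D5429) (iv F25138)
theorem F35581 : act 2 n7849 = n7849 := d17_1 D7849 (iv D7849) F25139 F17813 (iv F25139)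
theorem F35582 : act 5 n7849 = n5504 := d25_2 (iv F25140) D7849 (iv D5504)
theorem F35583 : act 9 n7849 = n7849 := d29_2 F25141 D7849 (iv D7849)
def n7850 : Q := act 6 n5419
theorem D7850 : act 6 n5419 = n7850 := rfl
theorem F35584 : act 0 n7850 = n5430 := d5_1 D7850 (iv D5430) (iv F25138)
theorem F35585 : act 2 n7850 = n5424 := d20_1 D7850 (iv D5424) (iv F25139)
theorem F35586 : act 4 n7850 = n5420 := d31_1 D7850 (iv D5420) D5419
theorem F35587 : act 5 n7850 = n7850 := d35_1 D7850 (iv D7850) F25140 F18097 (iv F25140)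
theorem F35588 : act 9 n7850 = n7850 := d41_2 F25141 D7850 (iv D7850)
def n7851 : Q := act 8 n5419
theorem D7851 : act 8 n5419 = n7851 := rfl
theorem F35589 : act 0 n7851 = n5431 := d7_1 D7851 (iv D5431) (iv F25138)
theorem F35590 : act 2 n7851 = n5425 := d22_1 D7851 (iv D5425) (iv F25139)
theorem F35592 : act 5 n7851 = n5505 := d37_1 D7851 (iv D5505) (iv F25140)
def n7852 : Q := act 7 n5420
theorem D7852 : act 7 n5420 = n7852 := rfl
theorem F35593 : act 0 n7852 = n5432 := d6_1 D7852 (iv D5432) (iv F25142)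
theorem F35594 : act 2 n7852 = n5426 := d21_1 D7852 (iv D5426) (iv F25143)
theorem F35595 : act 5 n7852 = n5454 := d36_1 D7852 (iv D5454) (iv F25144)
theorem F35596 : act 9 n7852 = n7852 := d43_2 F25145 D7852 (iv D7852)
def n7853 : Q := act 8 n5420
theorem D7853 : act 8 n5420 = n7853 := rfl
theorem F35597 : act 0 n7853 = n5433 := d7_1 D7853 (iv D5433) (iv F25142)
theorem F35598 : act 2 n7853 = n5427 := d22_1 D7853 (iv D5427) (iv F25143)
theorem F35599 : act 5 n7853 = n5455 := d37_1 D7853 (iv D5455) (iv F25144)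
theorem F35600 : act 6 n7853 = n5421 := d40_1 D7853 (iv D5421) D5420
def n7854 : Q := act 3 n5421
theorem D7854 : act 3 n5421 = n7854 := rfl
def n7855 : Q := act 9 n5421
theorem D7855 : act 9 n5421 = n7855 := rfl
theorem F35604 : act 2 n7855 = n5428 := d23_1 D7855 (iv D5428) (iv F25147)
def n7857 : Q := act 9 n5422
theorem D7857 : act 9 n5422 = n7857 := rfl
theorem F35611 : act 3 n7857 = n5423 := d29_1 D7857 (iv D5423) D5422
theorem F35612 : act 6 n7857 = n5459 := d41_1 D7857 (iv D5459) (iv F25150)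
def n7858 : Q := act 7 n5424
theorem D7858 : act 7 n5424 = n7858 := rfl
theorem F35613 : act 0 n7858 = n5438 := d6_1 D7858 (iv D5438) (iv F25156)
theorem F35614 : act 1 n7858 = n6151 := d14_1 D7858 (iv D6151) (iv F25157)
theorem F35615 : act 3 n7858 = n7858 := d27_1 D7858 (iv D7858) F25158
theorem F35616 : act 4 n7858 = n5426 := d32_1 D7858 (iv D5426) (iv F25159)
theorem F35617 : act 5 n7858 = n7858 := d36_1 D7858 (iv D7858) F25160
theorem F35618 : act 9 n7858 = n7858 := d43_2 F25161 D7858 (iv D7858)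
def n7859 : Q := act 8 n5424
theorem D7859 : act 8 n5424 = n7859 := rfl
theorem F35619 : act 0 n7859 = n5439 := d7_1 D7859 (iv D5439) (iv F25156)
theorem F35620 : act 1 n7859 = n6152 := d15_1 D7859 (iv D6152) (iv F25157)
def n7860 : Q := act 3 n5425
theorem D7860 : act 3 n5425 = n7860 := rfl
theorem F35624 : act 0 n7860 = n5440 := d2_1 D7860 (iv D5440) (iv F25162)
theorem F35626 : act 5 n7860 = n5510 := d25_2 (iv F25165) D7860 (iv D5510)
def n7861 : Q := act 9 n5425
theorem D7861 : act 9 n5425 = n7861 := rfl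
theorem F35628 : act 0 n7861 = n5441 := d8_1 D7861 (iv D5441) (iv F25162)
theorem F35629 : act 1 n7861 = n6154 := d16_1 D7861 (iv D6154) (iv F25163)
theorem F35631 : act 5 n7861 = n5511 := d38_1 D7861 (iv D5511) (iv F25165)
def n7862 : Q := act 8 n5426
theorem D7862 : act 8 n5426 = n7862 := rfl
def n7863 : Q := act 9 n5427
theorem D7863 : act 9 n5427 = n7863 := rfl
def n7864 : Q := act 6 n5429
theorem D7864 : act 6 n5429 = n7864 := rfl
theorem F35642 : act 1 n7864 = n7864 := d13_1 D7864 (iv D7864) F25179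
theorem F35643 : act 2 n7864 = n7864 := d20_1 D7864 (iv D7864) F25180
theorem F35644 : act 3 n7864 = n5430 := d26_1 D7864 (iv D5430) D5429
theorem F35645 : act 5 n7864 = n7864 := d35_1 D7864 (iv D7864) F25181 F18124 (iv F25181)
theorem F35646 : act 9 n7864 = n7864 := d41_2 F25182 D7864 (iv D7864)
def n7865 : Q := act 8 n5429
theorem D7865 : act 8 n5429 = n7865 := rfl
theorem F35647 : act 1 n7865 = n7865 := d15_1 D7865 (iv D7865) F25179
theorem F35648 : act 2 n7865 = n7865 := d22_1 D7865 (iv D7865) F25180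
theorem F35649 : act 5 n7865 = n5512 := d37_1 D7865 (iv D5512) (iv F25181)
def n7866 : Q := act 7 n5430
theorem D7866 : act 7 n5430 = n7866 := rfl
theorem F35650 : act 1 n7866 = n7866 := d14_1 D7866 (iv D7866) F25183
theorem F35651 : act 2 n7866 = n5438 := d21_1 D7866 (iv D5438) (iv F25184)
theorem F35652 : act 4 n7866 = n5432 := d32_1 D7866 (iv D5432) (iv F25185)
theorem F35653 : act 5 n7866 = n7866 := d36_1 D7866 (iv D7866) F25186
theorem F35654 : act 9 n7866 = n7866 := d43_2 F25187 D7866 (iv D7866)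
def n7867 : Q := act 8 n5430
theorem D7867 : act 8 n5430 = n7867 := rfl
theorem F35655 : act 1 n7867 = n7867 := d15_1 D7867 (iv D7867) F25183
theorem F35656 : act 2 n7867 = n5439 := d22_1 D7867 (iv D5439) (iv F25184)
theorem F35657 : act 4 n7867 = n5433 := d33_1 D7867 (iv D5433) (iv F25185)
theorem F35658 : act 5 n7867 = n7867 := d37_1 D7867 (iv D7867) F25186
theorem F35659 : act 6 n7867 = n5431 := d40_1 D7867 (iv D5431) D5430
def n7868 : Q := act 3 n5431
theorem D7868 : act 3 n5431 = n7868 := rfl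
theorem F35660 : act 1 n7868 = n7868 := d10_1 D7868 (iv D7868) F25188
theorem F35661 : act 5 n7868 = n5513 := d25_2 (iv F25191) D7868 (iv D5513)
def n7869 : Q := act 9 n5431
theorem D7869 : act 9 n5431 = n7869 := rfl
theorem F35665 : act 5 n7869 = n5514 := d38_1 D7869 (iv D5514) (iv F25191)
def n7870 : Q := act 8 n5432
theorem D7870 : act 8 n5432 = n7870 := rfl
theorem F35667 : act 1 n7870 = n7870 := d15_1 D7870 (iv D7870) F25192
theorem F35668 : act 2 n7870 = n5442 := d22_1 D7870 (iv D5442) (iv F25193)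
theorem F35669 : act 5 n7870 = n5462 := d37_1 D7870 (iv D5462) (iv F25194)
theorem F35670 : act 7 n7870 = n5433 := d42_1 D7870 (iv D5433) D5432
def n7871 : Q := act 3 n5433
theorem D7871 : act 3 n5433 = n7871 := rfl
theorem F35671 : act 1 n7871 = n7871 := d10_1 D7871 (iv D7871) F25196
theorem F35672 : act 5 n7871 = n5463 := d25_2 (iv F25198) D7871 (iv D5463)
theorem F35673 : act 6 n7871 = n5434 := d26_2 (iv F25199) D7871 (iv D5434)
def n7872 : Q := act 9 n5433
theorem D7872 : act 9 n5433 = n7872 := rfl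
theorem F35676 : act 5 n7872 = n5464 := d38_1 D7872 (iv D5464) (iv F25198)
def n7873 : Q := act 4 n5434
theorem D7873 : act 4 n5434 = n7873 := rfl
theorem F35679 : act 1 n7873 = n7873 := d11_1 D7873 (iv D7873) F25200
def n7874 : Q := act 9 n5434
theorem D7874 : act 9 n5434 = n7874 := rfl
theorem F35681 : act 3 n7874 = n5435 := d29_1 D7874 (iv D5435) D5434
def n7875 : Q := act 5 n5436
theorem D7875 : act 5 n5436 = n7875 := rfl
theorem F35683 : act 1 n7875 = n7875 := d12_1 D7875 (iv D7875) F25206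
theorem F35684 : act 3 n7875 = n5517 := d25_1 D7875 (iv D5517) (iv F25207)
def n7878 : Q := act 8 n5438
theorem D7878 : act 8 n5438 = n7878 := rfl
theorem F35692 : act 1 n7878 = n5444 := d15_1 D7878 (iv D5444) (iv F25212)
theorem F35693 : act 4 n7878 = n5442 := d33_1 D7878 (iv D5442) (iv F25214)
theorem F35695 : act 7 n7878 = n5439 := d42_1 D7878 (iv D5439) D5438
def n7879 : Q := act 3 n5439
theorem D7879 : act 3 n5439 = n7879 := rfl
theorem F35698 : act 6 n7879 = n5440 := d26_2 (iv F25220) D7879 (iv D5440)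
def n7881 : Q := act 2 n5440
theorem D7881 : act 2 n5440 = n7881 := rfl
theorem F35705 : act 5 n7881 = n5520 := d19_2 (iv F25222) D7881 (iv D5520)
theorem F35706 : act 8 n7881 = n7881 := d22_2 F25223 D7881 (iv D7881)
def n7882 : Q := act 9 n5440
theorem D7882 : act 9 n5440 = n7882 := rfl
theorem F35707 : act 1 n7882 = n5448 := d16_1 D7882 (iv D5448) (iv F25221)
theorem F35708 : act 3 n7882 = n5441 := d29_1 D7882 (iv D5441) D5440
theorem F35709 : act 5 n7882 = n5521 := d38_1 D7882 (iv D5521) (iv F25222)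
def n7883 : Q := act 9 n5442
theorem D7883 : act 9 n5442 = n7883 := rfl
theorem F35711 : act 5 n7883 = n5470 := d38_1 D7883 (iv D5470) (iv F25229)
def n7884 : Q := act 3 n5444
theorem D7884 : act 3 n5444 = n7884 := rfl
theorem F35716 : act 7 n7884 = n5445 := d27_2 (iv F25239) D7884 (iv D5445)
def n7885 : Q := act 9 n5444
theorem D7885 : act 9 n5444 = n7885 := rfl
theorem F35720 : act 4 n7885 = n5449 := d34_1 D7885 (iv D5449) (iv F25237)
theorem F35722 : act 7 n7885 = n5446 := d43_1 D7885 (iv D5446) (iv F25239)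
def n7887 : Q := act 9 n5445
theorem D7887 : act 9 n5445 = n7887 := rfl
theorem F35732 : act 6 n7887 = n5448 := d41_1 D7887 (iv D5448) (iv F25242)
def n7888 : Q := act 1 n5447
theorem D7888 : act 1 n5447 = n7888 := rfl
theorem F35734 : act 5 n7888 = n5522 := d12_2 (iv F25252) D7888 (iv D5522)
def n7889 : Q := act 9 n5447
theorem D7889 : act 9 n5447 = n7889 := rfl
theorem F35739 : act 5 n7889 = n5523 := d38_1 D7889 (iv D5523) (iv F25252)
def n7890 : Q := act 8 n5448
theorem D7890 : act 8 n5448 = n7890 := rfl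
theorem F35741 : act 3 n7890 = n7890 := d28_1 D7890 (iv D7890) F25255 F17888 (iv F25255)
theorem F35742 : act 5 n7890 = n5524 := d37_1 D7890 (iv D5524) (iv F25256)
theorem F35743 : act 9 n7890 = n7890 := d44_2 D5448 D7890 (iv D7890) (iv D5448) F17883
def n7897 : Q := act 9 n5452
theorem D7897 : act 9 n5452 = n7897 := rfl
theorem F35774 : act 1 n7897 = n5459 := d16_1 D7897 (iv D5459) (iv F25274)
def n7898 : Q := act 8 n5454
theorem D7898 : act 8 n5454 = n7898 := rfl
theorem F35778 : act 2 n7898 = n5460 := d22_1 D7898 (iv D5460) (iv F25283)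
theorem F35781 : act 7 n7898 = n5455 := d42_1 D7898 (iv D5455) D5454
def n7899 : Q := act 3 n5455
theorem D7899 : act 3 n5455 = n7899 := rfl
def n7900 : Q := act 9 n5455
theorem D7900 : act 9 n5455 = n7900 := rfl
def n7901 : Q := act 4 n5456
theorem D7901 : act 4 n5456 = n7901 := rfl
def n7902 : Q := act 9 n5456
theorem D7902 : act 9 n5456 = n7902 := rfl
theorem F35794 : act 5 n7902 = n5459 := d38_1 D7902 (iv D5459) (iv F25292)
def n7903 : Q := act 5 n5458
theorem D7903 : act 5 n5458 = n7903 := rfl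
theorem F35796 : act 0 n7903 = n5467 := d4_1 D7903 (iv D5467) (iv F25300)
theorem F35797 : act 3 n7903 = n5528 := d25_1 D7903 (iv D5528) (iv F25301)
def n7904 : Q := act 9 n5458
theorem D7904 : act 9 n5458 = n7904 := rfl
theorem F35800 : act 3 n7904 = n5529 := d29_1 D7904 (iv D5529) (iv F25301)
theorem F35801 : act 4 n7904 = n5459 := d34_1 D7904 (iv D5459) D5458
def n7905 : Q := act 8 n5459
theorem D7905 : act 8 n5459 = n7905 := rfl
def n7907 : Q := act 3 n5462
theorem D7907 : act 3 n5462 = n7907 := rfl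
theorem F35812 : act 1 n7907 = n7907 := d10_1 D7907 (iv D7907) F25316
theorem F35813 : act 6 n7907 = n7907 := d26_2 F25319 D7907 (iv D7907)
theorem F35814 : act 7 n7907 = n5463 := d27_2 (iv F25320) D7907 (iv D5463)
def n7909 : Q := act 4 n5463
theorem D7909 : act 4 n5463 = n7909 := rfl
theorem F35821 : act 1 n7909 = n7909 := d11_1 D7909 (iv D7909) F25321
theorem F35822 : act 3 n7909 = n7909 := d24_1 D7909 (iv D7909) (iv D5463) F17948 D5463
theorem F35823 : act 6 n7909 = n5465 := d31_2 (iv F25322) D7909 (iv D5465)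
def n7911 : Q := act 5 n5465
theorem D7911 : act 5 n5465 = n7911 := rfl
theorem F35827 : act 1 n7911 = n7911 := d12_1 D7911 (iv D7911) F25328
theorem F35828 : act 3 n7911 = n7911 := d25_1 D7911 (iv D7911) F25329
theorem F35829 : act 4 n7911 = n5467 := d30_1 D7911 (iv D5467) (iv D3782) (iv F17951) D5465
theorem F35830 : act 7 n7911 = n7911 := d36_2 F25330 D7911 (iv D7911)
def n7912 : Q := act 9 n5465
theorem D7912 : act 9 n5465 = n7912 := rfl
theorem F35833 : act 4 n7912 = n5466 := d34_1 D7912 (iv D5466) D5465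
def n7914 : Q := act 6 n5467
theorem D7914 : act 6 n5467 = n7914 := rfl
theorem F35839 : act 1 n7914 = n7914 := d13_1 D7914 (iv D7914) F25335
theorem F35840 : act 3 n7914 = n5531 := d26_1 D7914 (iv D5531) (iv F25336)
def n7915 : Q := act 9 n5467
theorem D7915 : act 9 n5467 = n7915 := rfl
theorem F35842 : act 3 n7915 = n5532 := d29_1 D7915 (iv D5532) (iv F25336)
theorem F35843 : act 5 n7915 = n5468 := d38_1 D7915 (iv D5468) D5467
def n7916 : Q := act 8 n5468
theorem D7916 : act 8 n5468 = n7916 := rfl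
def n7917 : Q := act 4 n5471
theorem D7917 : act 4 n5471 = n7917 := rfl
theorem F35849 : act 1 n7917 = n5473 := d11_1 D7917 (iv D5473) (iv F25351)
def n7922 : Q := act 3 n5473
theorem D7922 : act 3 n5473 = n7922 := rfl
theorem F35876 : act 0 n7922 = n5482 := d2_1 D7922 (iv D5482) (iv F25361)
theorem F35877 : act 2 n7922 = n7922 := d17_1 D7922 (iv D7922) F25362 F17996 (iv F25362)
theorem F35878 : act 4 n7922 = n7922 := d24_2 D5473 D7922 (iv D7922) (iv D5473) F17987
theorem F35879 : act 7 n7922 = n5504 := d27_2 (iv F25363) D7922 (iv D5504)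
theorem F35880 : act 9 n7922 = n7922 := d29_2 F25364 D7922 (iv D7922)
def n7923 : Q := act 6 n5473
theorem D7923 : act 6 n5473 = n7923 := rfl
theorem F35881 : act 0 n7923 = n5483 := d5_1 D7923 (iv D5483) (iv F25361)
theorem F35882 : act 2 n7923 = n5478 := d20_1 D7923 (iv D5478) (iv F25362)
theorem F35883 : act 4 n7923 = n5474 := d31_1 D7923 (iv D5474) D5473
theorem F35884 : act 7 n7923 = n7923 := d39_2 (iv F25363) D7923 (iv D7923) F25363 F18097
theorem F35885 : act 9 n7923 = n7923 := d41_2 F25364 D7923 (iv D7923)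
def n7924 : Q := act 8 n5473
theorem D7924 : act 8 n5473 = n7924 := rfl
theorem F35886 : act 0 n7924 = n5484 := d7_1 D7924 (iv D5484) (iv F25361)
def n7925 : Q := act 8 n5474
theorem D7925 : act 8 n5474 = n7925 := rfl
theorem F35893 : act 6 n7925 = n5475 := d40_1 D7925 (iv D5475) D5474
def n7927 : Q := act 9 n5475
theorem D7927 : act 9 n5475 = n7927 := rfl
theorem F35902 : act 5 n7927 = n5477 := d38_1 D7927 (iv D5477) (iv F25373)
def n7930 : Q := act 5 n5478
theorem D7930 : act 5 n5478 = n7930 := rfl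
theorem F35915 : act 0 n7930 = n5490 := d4_1 D7930 (iv D5490) (iv F25385)
theorem F35916 : act 1 n7930 = n6223 := d12_1 D7930 (iv D6223) (iv F25386)
theorem F35917 : act 3 n7930 = n7930 := d25_1 D7930 (iv D7930) F25387
theorem F35918 : act 4 n7930 = n7930 := d30_1 D7930 (iv D7930) F25388 F18002 (iv F25388)
theorem F35919 : act 7 n7930 = n7930 := d36_2 F25389 D7930 (iv D7930)
theorem F35920 : act 9 n7930 = n7930 := d38_2 F25390 D7930 (iv D7930)
def n7931 : Q := act 8 n5478
theorem D7931 : act 8 n5478 = n7931 := rfl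
theorem F35924 : act 6 n7931 = n5479 := d40_1 D7931 (iv D5479) D5478
def n7932 : Q := act 3 n5479
theorem D7932 : act 3 n5479 = n7932 := rfl
theorem F35926 : act 0 n7932 = n5492 := d2_1 D7932 (iv D5492) (iv F25391)
def n7933 : Q := act 9 n5479
theorem D7933 : act 9 n5479 = n7933 := rfl
def n7934 : Q := act 9 n5480
theorem D7934 : act 9 n5480 = n7934 := rfl
theorem F35940 : act 6 n7934 = n5481 := d41_1 D7934 (iv D5481) (iv F25399)
def n7935 : Q := act 6 n5482
theorem D7935 : act 6 n5482 = n7935 := rfl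
theorem F35943 : act 1 n7935 = n7935 := d13_1 D7935 (iv D7935) F25407
theorem F35944 : act 2 n7935 = n7935 := d20_1 D7935 (iv D7935) F25408
theorem F35945 : act 3 n7935 = n5483 := d26_1 D7935 (iv D5483) D5482
theorem F35946 : act 4 n7935 = n7935 := d31_1 D7935 (iv D7935) F25409
theorem F35947 : act 7 n7935 = n7935 := d39_2 (iv F25410) D7935 (iv D7935) F25410 F18124
theorem F35948 : act 9 n7935 = n7935 := d41_2 F25411 D7935 (iv D7935)
def n7936 : Q := act 8 n5482
theorem D7936 : act 8 n5482 = n7936 := rfl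
theorem F35949 : act 1 n7936 = n7936 := d15_1 D7936 (iv D7936) F25407
theorem F35950 : act 2 n7936 = n7936 := d22_1 D7936 (iv D7936) F25408
theorem F35951 : act 4 n7936 = n7936 := d33_1 D7936 (iv D7936) F25409
theorem F35952 : act 7 n7936 = n5512 := d42_1 D7936 (iv D5512) (iv F25410)
def n7937 : Q := act 5 n5483
theorem D7937 : act 5 n5483 = n7937 := rfl
theorem F35953 : act 1 n7937 = n7937 := d12_1 D7937 (iv D7937) F25412
theorem F35954 : act 2 n7937 = n5490 := d19_1 D7937 (iv D5490) (iv F25413)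
theorem F35955 : act 4 n7937 = n7937 := d30_1 D7937 (iv D7937) F25414 F18023 (iv F25414)
theorem F35956 : act 7 n7937 = n7937 := d36_2 F25415 D7937 (iv D7937)
theorem F35957 : act 9 n7937 = n7937 := d38_2 F25416 D7937 (iv D7937)
def n7938 : Q := act 8 n5483
theorem D7938 : act 8 n5483 = n7938 := rfl
theorem F35958 : act 1 n7938 = n7938 := d15_1 D7938 (iv D7938) F25412
theorem F35959 : act 2 n7938 = n5491 := d22_1 D7938 (iv D5491) (iv F25413)
theorem F35960 : act 4 n7938 = n5485 := d33_1 D7938 (iv D5485) (iv F25414)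
theorem F35961 : act 6 n7938 = n5484 := d40_1 D7938 (iv D5484) D5483
theorem F35962 : act 7 n7938 = n7938 := d42_1 D7938 (iv D7938) F25415
def n7939 : Q := act 3 n5484
theorem D7939 : act 3 n5484 = n7939 := rfl
theorem F35963 : act 1 n7939 = n7939 := d10_1 D7939 (iv D7939) F25417
theorem F35964 : act 7 n7939 = n5513 := d27_2 (iv F25420) D7939 (iv D5513)
def n7940 : Q := act 9 n5484
theorem D7940 : act 9 n5484 = n7940 := rfl
def n7941 : Q := act 3 n5485
theorem D7941 : act 3 n5485 = n7941 := rfl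
theorem F35970 : act 1 n7941 = n7941 := d10_1 D7941 (iv D7941) F25421
theorem F35971 : act 2 n7941 = n7941 := d17_1 D7941 (iv D7941) F25422 F18049 (iv F25422)
theorem F35972 : act 5 n7941 = n7941 := d25_2 F25423 D7941 (iv D7941)
theorem F35973 : act 6 n7941 = n5486 := d26_2 (iv F25424) D7941 (iv D5486)
theorem F35974 : act 7 n7941 = n7941 := d27_2 F25425 D7941 (iv D7941)
theorem F35975 : act 8 n7941 = n7941 := d28_2 D5485 D7941 (iv D7941) (iv D5485) F18022
def n7943 : Q := act 4 n5486
theorem D7943 : act 4 n5486 = n7943 := rfl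
theorem F35982 : act 1 n7943 = n7943 := d11_1 D7943 (iv D7943) F25426
theorem F35983 : act 2 n7943 = n7943 := d18_1 D7943 (iv D7943) F25427
theorem F35984 : act 7 n7943 = n5515 := d32_2 (iv F25429) D7943 (iv D5515)
theorem F35985 : act 8 n7943 = n7943 := d33_2 F25430 D7943 (iv D7943)
def n7945 : Q := act 5 n5488
theorem D7945 : act 5 n5488 = n7945 := rfl
theorem F35991 : act 1 n7945 = n7945 := d12_1 D7945 (iv D7945) F25436
theorem F35992 : act 2 n7945 = n7945 := d19_1 D7945 (iv D7945) F25437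
theorem F35993 : act 7 n7945 = n5517 := d36_2 (iv F25439) D7945 (iv D5517)
theorem F35994 : act 8 n7945 = n7945 := d37_2 F25440 D7945 (iv D7945)
def n7948 : Q := act 8 n5490
theorem D7948 : act 8 n5490 = n7948 := rfl
theorem F36006 : act 1 n7948 = n5495 := d15_1 D7948 (iv D5495) (iv F25446)
theorem F36008 : act 5 n7948 = n5491 := d37_1 D7948 (iv D5491) D5490
def n7949 : Q := act 3 n5491
theorem D7949 : act 3 n5491 = n7949 := rfl
theorem F36012 : act 6 n7949 = n5492 := d26_2 (iv F25453) D7949 (iv D5492)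
def n7950 : Q := act 9 n5491
theorem D7950 : act 9 n5491 = n7950 := rfl
theorem F36015 : act 1 n7950 = n5497 := d16_1 D7950 (iv D5497) (iv F25451)
theorem F36017 : act 6 n7950 = n5493 := d41_1 D7950 (iv D5493) (iv F25453)
def n7951 : Q := act 2 n5492
theorem D7951 : act 2 n5492 = n7951 := rfl
theorem F36020 : act 4 n7951 = n7951 := d18_2 F25456 D7951 (iv D7951)
theorem F36021 : act 7 n7951 = n5520 := d21_2 (iv F25457) D7951 (iv D5520)
theorem F36022 : act 8 n7951 = n7951 := d22_2 F25458 D7951 (iv D7951)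
def n7952 : Q := act 9 n5492
theorem D7952 : act 9 n5492 = n7952 := rfl
theorem F36023 : act 1 n7952 = n5499 := d16_1 D7952 (iv D5499) (iv F25455)
def n7953 : Q := act 3 n5495
theorem D7953 : act 3 n5495 = n7953 := rfl
theorem F36027 : act 0 n7953 = n6246 := d2_1 D7953 (iv D6246) (iv F25469)
theorem F36028 : act 5 n7953 = n5496 := d25_2 (iv F25472) D7953 (iv D5496)
def n7954 : Q := act 9 n5495
theorem D7954 : act 9 n5495 = n7954 := rfl
theorem F36034 : act 5 n7954 = n5497 := d38_1 D7954 (iv D5497) (iv F25472)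
def n7955 : Q := act 2 n5496
theorem D7955 : act 2 n5496 = n7955 := rfl
theorem F36040 : act 6 n7955 = n5498 := d20_2 (iv F25476) D7955 (iv D5498)
def n7956 : Q := act 9 n5496
theorem D7956 : act 9 n5496 = n7956 := rfl
theorem F36044 : act 3 n7956 = n5497 := d29_1 D7956 (iv D5497) D5496
theorem F36046 : act 6 n7956 = n5499 := d41_1 D7956 (iv D5499) (iv F25476)
def n7957 : Q := act 1 n5498
theorem D7957 : act 1 n5498 = n7957 := rfl
theorem F36050 : act 7 n7957 = n5522 := d14_2 (iv F25488) D7957 (iv D5522)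
def n7958 : Q := act 9 n5498
theorem D7958 : act 9 n5498 = n7958 := rfl
def n7959 : Q := act 8 n5499
theorem D7959 : act 8 n5499 = n7959 := rfl
theorem F36058 : act 3 n7959 = n7959 := d28_1 D7959 (iv D7959) F25491 F18077 (iv F25491)
theorem F36059 : act 4 n7959 = n7959 := d33_1 D7959 (iv D7959) F25492
theorem F36060 : act 7 n7959 = n5524 := d42_1 D7959 (iv D5524) (iv F25493)
theorem F36061 : act 9 n7959 = n7959 := d44_2 D5499 D7959 (iv D7959) (iv D5499) F18072
def n7967 : Q := act 8 n5504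
theorem D7967 : act 8 n5504 = n7967 := rfl
theorem F36096 : act 0 n7967 = n5512 := d7_1 D7967 (iv D5512) (iv F25513)
theorem F36097 : act 2 n7967 = n7967 := d22_1 D7967 (iv D7967) F25514
theorem F36098 : act 4 n7967 = n7967 := d33_1 D7967 (iv D7967) F25515
theorem F36099 : act 6 n7967 = n7967 := d40_1 D7967 (iv D7967) F25516
def n7968 : Q := act 3 n5505
theorem D7968 : act 3 n5505 = n7968 := rfl
theorem F36100 : act 0 n7968 = n5513 := d2_1 D7968 (iv D5513) (iv F25518)
def n7969 : Q := act 9 n5505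
theorem D7969 : act 9 n5505 = n7969 := rfl
def n7975 : Q := act 2 n5510
theorem D7975 : act 2 n5510 = n7975 := rfl
theorem F36128 : act 0 n7975 = n5520 := d1_1 D7975 (iv D5520) (iv F25540)
def n7976 : Q := act 9 n5510
theorem D7976 : act 9 n5510 = n7976 := rfl
def n7977 : Q := act 3 n5512
theorem D7977 : act 3 n5512 = n7977 := rfl
theorem F36137 : act 1 n7977 = n7977 := d10_1 D7977 (iv D7977) F25550
theorem F36138 : act 6 n7977 = n7977 := d26_2 F25553 D7977 (iv D7977)
theorem F36139 : act 8 n7977 = n5513 := d28_2 D5512 D7977 (iv D5513) (iv D3817) D3816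
def n7978 : Q := act 9 n5512
theorem D7978 : act 9 n5512 = n7978 := rfl
theorem F36140 : act 1 n7978 = n7978 := d16_1 D7978 (iv D7978) F25550
theorem F36141 : act 2 n7978 = n7978 := d23_1 D7978 (iv D7978) F25551
theorem F36142 : act 4 n7978 = n7978 := d34_1 D7978 (iv D7978) F25552
theorem F36143 : act 6 n7978 = n7978 := d41_1 D7978 (iv D7978) F25553
theorem F36144 : act 8 n7978 = n7978 := d44_1 D7978 (iv D7978) (iv D5512) F18125 D5512
def n7979 : Q := act 2 n5513
theorem D7979 : act 2 n5513 = n7979 := rfl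
theorem F36145 : act 3 n7979 = n5520 := d17_2 D5513 D7979 (iv D5520) (iv D3822) (iv F18127)
theorem F36146 : act 6 n7979 = n7979 := d20_2 F25555 D7979 (iv D7979)
def n7980 : Q := act 4 n5513
theorem D7980 : act 4 n5513 = n7980 := rfl
theorem F36147 : act 1 n7980 = n7980 := d11_1 D7980 (iv D7980) F25554
theorem F36148 : act 3 n7980 = n5515 := d24_1 D7980 (iv D5515) (iv D3818) (iv F18128) D5513
theorem F36149 : act 6 n7980 = n7980 := d31_2 F25555 D7980 (iv D7980)
def n7981 : Q := act 9 n5513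
theorem D7981 : act 9 n5513 = n7981 := rfl
def n7982 : Q := act 5 n5515
theorem D7982 : act 5 n5515 = n7982 := rfl
theorem F36153 : act 1 n7982 = n7982 := d12_1 D7982 (iv D7982) F25561
theorem F36154 : act 2 n7982 = n7982 := d19_1 D7982 (iv D7982) F25562
theorem F36155 : act 4 n7982 = n5517 := d30_1 D7982 (iv D5517) (iv D3820) (iv F18132) D5515
theorem F36156 : act 8 n7982 = n7982 := d37_2 F25564 D7982 (iv D7982)
def n7983 : Q := act 9 n5515
theorem D7983 : act 9 n5515 = n7983 := rfl
theorem F36159 : act 4 n7983 = n5516 := d34_1 D7983 (iv D5516) D5515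
def n7985 : Q := act 6 n5517
theorem D7985 : act 6 n5517 = n7985 := rfl
theorem F36167 : act 1 n7985 = n7985 := d13_1 D7985 (iv D7985) F25570
theorem F36168 : act 2 n7985 = n7985 := d20_1 D7985 (iv D7985) F25571
theorem F36169 : act 5 n7985 = n5531 := d35_1 D7985 (iv D5531) (iv D3830) (iv F18142) D5517
theorem F36170 : act 8 n7985 = n7985 := d40_2 F25572 D7985 (iv D7985)
def n7988 : Q := act 1 n5520
theorem D7988 : act 1 n5520 = n7988 := rfl
theorem F36179 : act 2 n7988 = n5522 := d9_2 D5520 D7988 (iv D5522) (iv D3824) (iv F18148)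
theorem F36180 : act 4 n7988 = n7988 := d11_2 F25582 D7988 (iv D7988)
theorem F36181 : act 6 n7988 = n7988 := d13_2 F25583 D7988 (iv D7988)
theorem F36182 : act 8 n7988 = n7988 := d15_2 F25584 D7988 (iv D7988)
def n7989 : Q := act 9 n5520
theorem D7989 : act 9 n5520 = n7989 := rfl
def n7990 : Q := act 8 n5521
theorem D7990 : act 8 n5521 = n7990 := rfl
theorem F36186 : act 1 n7990 = n5524 := d15_1 D7990 (iv D5524) (iv F25585)
def n7991 : Q := act 0 n5522
theorem D7991 : act 0 n5522 = n7991 := rfl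
def n7992 : Q := act 9 n5522
theorem D7992 : act 9 n5522 = n7992 := rfl
theorem F36196 : act 1 n7992 = n5523 := d16_1 D7992 (iv D5523) D5522
theorem F36197 : act 3 n7992 = n7992 := d29_1 D7992 (iv D7992) F25589
theorem F36198 : act 4 n7992 = n7992 := d34_1 D7992 (iv D7992) F25590
theorem F36199 : act 6 n7992 = n7992 := d41_1 D7992 (iv D7992) F25591
def n7993 : Q := act 8 n5523
theorem D7993 : act 8 n5523 = n7993 := rfl
theorem F36201 : act 2 n7993 = n5524 := d22_1 D7993 (iv D5524) (iv F25594)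
theorem F36202 : act 4 n7993 = n7993 := d33_1 D7993 (iv D7993) F25596
theorem F36203 : act 6 n7993 = n7993 := d40_1 D7993 (iv D7993) F25597
theorem F36204 : act 9 n7993 = n7993 := d44_2 D5523 D7993 (iv D7993) (iv D5523) F18160
def n7999 : Q := act 6 n5528
theorem D7999 : act 6 n5528 = n7999 := rfl
def n8000 : Q := act 9 n5528
theorem D8000 : act 9 n5528 = n8000 := rfl
theorem F36238 : act 5 n8000 = n5529 := d38_1 D8000 (iv D5529) D5528
def n8002 : Q := act 7 n5531
theorem D8002 : act 7 n5531 = n8002 := rfl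
theorem F36245 : act 1 n8002 = n8002 := d14_1 D8002 (iv D8002) F25633
theorem F36246 : act 2 n8002 = n8002 := d21_1 D8002 (iv D8002) F25634
theorem F36247 : act 4 n8002 = n8002 := d32_1 D8002 (iv D8002) F25635
theorem F36248 : act 6 n8002 = n8002 := d39_1 D8002 (iv D8002) (iv D5531) F18188 D5531
theorem F36249 : act 8 n8002 = n8002 := d42_2 F25636 D8002 (iv D8002)
def n8003 : Q := act 9 n5531
theorem D8003 : act 9 n5531 = n8003 := rfl
theorem F36253 : act 6 n8003 = n5532 := d41_1 D8003 (iv D5532) D5531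
def n8004 : Q := act 8 n5532
theorem D8004 : act 8 n5532 = n8004 := rfl
def n8006 : Q := act 5 n5534
theorem D8006 : act 5 n5534 = n8006 := rfl
theorem F36264 : act 0 n8006 = n8006 := d4_1 D8006 (iv D8006) F25647
theorem F36265 : act 1 n8006 = n8006 := d12_1 D8006 (iv D8006) F25648
theorem F36266 : act 2 n8006 = n5535 := d19_1 D8006 (iv D5535) D5534
theorem F36267 : act 3 n8006 = n8006 := d25_1 D8006 (iv D8006) F25649
theorem F36268 : act 6 n8006 = n8006 := d35_2 (iv F25651) D8006 (iv D8006) F25651 F18318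
theorem F36269 : act 7 n8006 = n8006 := d36_2 F25652 D8006 (iv D8006)
def n8007 : Q := act 8 n5534
theorem D8007 : act 8 n5534 = n8007 := rfl
theorem F36270 : act 0 n8007 = n8007 := d7_1 D8007 (iv D8007) F25647
theorem F36271 : act 1 n8007 = n8007 := d15_1 D8007 (iv D8007) F25648
theorem F36272 : act 2 n8007 = n5536 := d22_1 D8007 (iv D5536) D5534
theorem F36273 : act 4 n8007 = n8007 := d33_1 D8007 (iv D8007) F25650
theorem F36274 : act 6 n8007 = n5568 := d40_1 D8007 (iv D5568) (iv F25651)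
theorem F36275 : act 7 n8007 = n8007 := d42_1 D8007 (iv D8007) F25652
def n8008 : Q := act 9 n5534
theorem D8008 : act 9 n5534 = n8008 := rfl
theorem F36278 : act 2 n8008 = n5537 := d23_1 D8008 (iv D5537) D5534
def n8009 : Q := act 4 n5535
theorem D8009 : act 4 n5535 = n8009 := rfl
theorem F36283 : act 0 n8009 = n8009 := d3_1 D8009 (iv D8009) F25653
theorem F36284 : act 1 n8009 = n5541 := d11_1 D8009 (iv D5541) (iv F25654)
theorem F36285 : act 3 n8009 = n8009 := d24_1 D8009 (iv D8009) F25655 F18208 (iv F25655)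
theorem F36286 : act 5 n8009 = n8009 := d30_2 D5535 D8009 (iv D8009) (iv D5535) F18202
theorem F36287 : act 6 n8009 = n8009 := d31_2 F25656 D8009 (iv D8009)
theorem F36288 : act 7 n8009 = n8009 := d32_2 F25657 D8009 (iv D8009)
def n8010 : Q := act 8 n5535
theorem D8010 : act 8 n5535 = n8010 := rfl
theorem F36289 : act 0 n8010 = n8010 := d7_1 D8010 (iv D8010) F25653
theorem F36290 : act 1 n8010 = n5542 := d15_1 D8010 (iv D5542) (iv F25654)
theorem F36291 : act 3 n8010 = n8010 := d28_1 D8010 (iv D8010) F25655 F18211 (iv F25655)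
theorem F36292 : act 5 n8010 = n5536 := d37_1 D8010 (iv D5536) D5535
theorem F36293 : act 6 n8010 = n8010 := d40_1 D8010 (iv D8010) F25656
theorem F36294 : act 7 n8010 = n8010 := d42_1 D8010 (iv D8010) F25657
def n8011 : Q := act 9 n5535
theorem D8011 : act 9 n5535 = n8011 := rfl
theorem F36296 : act 1 n8011 = n5543 := d16_1 D8011 (iv D5543) (iv F25654)
theorem F36297 : act 3 n8011 = n5538 := d29_1 D8011 (iv D5538) (iv F25655)
theorem F36298 : act 5 n8011 = n5537 := d38_1 D8011 (iv D5537) D5535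
def n8012 : Q := act 9 n5536
theorem D8012 : act 9 n5536 = n8012 := rfl
def n8013 : Q := act 8 n5537
theorem D8013 : act 8 n5537 = n8013 := rfl
def n8014 : Q := act 8 n5538
theorem D8014 : act 8 n5538 = n8014 := rfl
theorem F36316 : act 5 n8014 = n5539 := d37_1 D8014 (iv D5539) (iv F25674)
def n8015 : Q := act 3 n5539
theorem D8015 : act 3 n5539 = n8015 := rfl
theorem F36322 : act 6 n8015 = n5572 := d26_2 (iv F25681) D8015 (iv D5572)
def n8018 : Q := act 8 n5541
theorem D8018 : act 8 n5541 = n8018 := rfl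
theorem F36338 : act 2 n8018 = n8018 := d22_1 D8018 (iv D8018) F25691
theorem F36339 : act 4 n8018 = n5542 := d33_1 D8018 (iv D5542) D5541
theorem F36340 : act 5 n8018 = n8018 := d37_1 D8018 (iv D8018) F25693
theorem F36341 : act 6 n8018 = n8018 := d40_1 D8018 (iv D8018) F25694
theorem F36342 : act 7 n8018 = n8018 := d42_1 D8018 (iv D8018) F25695
def n8019 : Q := act 9 n5541
theorem D8019 : act 9 n5541 = n8019 := rfl
theorem F36343 : act 2 n8019 = n8019 := d23_1 D8019 (iv D8019) F25691
theorem F36344 : act 3 n8019 = n8019 := d29_1 D8019 (iv D8019) F25692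
theorem F36345 : act 4 n8019 = n5543 := d34_1 D8019 (iv D5543) D5541
theorem F36346 : act 5 n8019 = n8019 := d38_1 D8019 (iv D8019) F25693
theorem F36347 : act 6 n8019 = n8019 := d41_1 D8019 (iv D8019) F25694
theorem F36348 : act 7 n8019 = n8019 := d43_1 D8019 (iv D8019) F25695
def n8020 : Q := act 9 n5542
theorem D8020 : act 9 n5542 = n8020 := rfl
def n8021 : Q := act 8 n5543
theorem D8021 : act 8 n5543 = n8021 := rfl
def n8022 : Q := act 8 n5544
theorem D8022 : act 8 n5544 = n8022 := rfl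
theorem F36362 : act 9 n8022 = n5545 := d44_2 D5544 D8022 (iv D5545) (iv D3839) D3838
def n8023 : Q := act 3 n5545
theorem D8023 : act 3 n5545 = n8023 := rfl
theorem F36365 : act 8 n8023 = n5547 := d28_2 D5545 D8023 (iv D5547) (iv D3841) (iv F18235)
def n8024 : Q := act 3 n5546
theorem D8024 : act 3 n5546 = n8024 := rfl
theorem F36366 : act 5 n8024 = n5547 := d25_2 (iv F25717) D8024 (iv D5547)
def n8030 : Q := act 2 n5550
theorem D8030 : act 2 n5550 = n8030 := rfl
theorem F36393 : act 5 n8030 = n5551 := d19_2 (iv F25735) D8030 (iv D5551)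
def n8031 : Q := act 4 n5550
theorem D8031 : act 4 n5550 = n8031 := rfl
theorem F36398 : act 1 n8031 = n8031 := d11_1 D8031 (iv D8031) F25734
theorem F36399 : act 3 n8031 = n8031 := d24_1 D8031 (iv D8031) (iv D5550) F18255 D5550
theorem F36400 : act 6 n8031 = n8031 := d31_2 F25736 D8031 (iv D8031)
theorem F36401 : act 7 n8031 = n8031 := d32_2 F25737 D8031 (iv D8031)
theorem F36402 : act 8 n8031 = n8031 := d33_2 F25738 D8031 (iv D8031)
theorem F36403 : act 9 n8031 = n8031 := d34_2 F25739 D8031 (iv D8031)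
def n8033 : Q := act 4 n5551
theorem D8033 : act 4 n5551 = n8033 := rfl
theorem F36409 : act 2 n8033 = n5552 := d18_1 D8033 (iv D5552) D5551
theorem F36410 : act 6 n8033 = n5583 := d31_2 (iv F25740) D8033 (iv D5583)
def n8034 : Q := act 5 n5552
theorem D8034 : act 5 n5552 = n8034 := rfl
theorem F36414 : act 1 n8034 = n8034 := d12_1 D8034 (iv D8034) F25744
theorem F36415 : act 3 n8034 = n5555 := d25_1 D8034 (iv D5555) (iv F25745)
theorem F36416 : act 7 n8034 = n8034 := d36_2 F25747 D8034 (iv D8034)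
theorem F36417 : act 8 n8034 = n8034 := d37_2 F25748 D8034 (iv D8034)
theorem F36418 : act 9 n8034 = n8034 := d38_2 F25749 D8034 (iv D8034)
def n8035 : Q := act 0 n5553
theorem D8035 : act 0 n5553 = n8035 := rfl
theorem F36421 : act 6 n8035 = n5585 := d5_2 (iv F25752) D8035 (iv D5585)
def n8036 : Q := act 4 n5553
theorem D8036 : act 4 n5553 = n8036 := rfl
theorem F36425 : act 1 n8036 = n5554 := d11_1 D8036 (iv D5554) D5553
theorem F36427 : act 6 n8036 = n5586 := d31_2 (iv F25752) D8036 (iv D5586)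
theorem F36429 : act 8 n8036 = n5557 := d33_2 (iv F25754) D8036 (iv D5557)
def n8038 : Q := act 5 n5554
theorem D8038 : act 5 n5554 = n8038 := rfl
theorem F36434 : act 2 n8038 = n5555 := d19_1 D8038 (iv D5555) (iv F25756)
theorem F36437 : act 8 n8038 = n5559 := d37_2 (iv F25759) D8038 (iv D5559)
def n8039 : Q := act 6 n5555
theorem D8039 : act 6 n5555 = n8039 := rfl
theorem F36439 : act 1 n8039 = n8039 := d13_1 D8039 (iv D8039) F25761
theorem F36440 : act 4 n8039 = n8039 := d31_1 D8039 (iv D8039) F25762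
theorem F36441 : act 5 n8039 = n5589 := d35_1 D8039 (iv D5589) (iv D3869) (iv F18271) D5555
theorem F36442 : act 8 n8039 = n5560 := d40_2 (iv F25764) D8039 (iv D5560)
theorem F36443 : act 9 n8039 = n8039 := d41_2 F25765 D8039 (iv D8039)
def n8041 : Q := act 3 n5557
theorem D8041 : act 3 n5557 = n8041 := rfl
theorem F36449 : act 1 n8041 = n5558 := d10_1 D8041 (iv D5558) (iv F25772)
theorem F36453 : act 9 n8041 = n5562 := d29_2 (iv F25776) D8041 (iv D5562)
def n8042 : Q := act 5 n5557
theorem D8042 : act 5 n5557 = n8042 := rfl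
theorem F36454 : act 1 n8042 = n5559 := d12_1 D8042 (iv D5559) (iv F25772)
theorem F36458 : act 9 n8042 = n5563 := d38_2 (iv F25776) D8042 (iv D5563)
def n8043 : Q := act 5 n5558
theorem D8043 : act 5 n5558 = n8043 := rfl
theorem F36460 : act 3 n8043 = n5559 := d25_1 D8043 (iv D5559) D5558
def n8044 : Q := act 8 n5558
theorem D8044 : act 8 n5558 = n8044 := rfl
theorem F36465 : act 6 n8044 = n5594 := d40_1 D8044 (iv D5594) (iv F25779)
def n8045 : Q := act 6 n5559
theorem D8045 : act 6 n5559 = n8045 := rfl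
theorem F36467 : act 2 n8045 = n5560 := d20_1 D8045 (iv D5560) (iv F25782)
def n8046 : Q := act 7 n5560
theorem D8046 : act 7 n5560 = n8046 := rfl
def n8047 : Q := act 3 n5561
theorem D8047 : act 3 n5561 = n8047 := rfl
theorem F36477 : act 0 n8047 = n5562 := d2_1 D8047 (iv D5562) (iv F25791)
theorem F36479 : act 6 n8047 = n5597 := d26_2 (iv F25793) D8047 (iv D5597)
def n8049 : Q := act 2 n5562
theorem D8049 : act 2 n5562 = n8049 := rfl
theorem F36486 : act 1 n8049 = n8049 := d9_1 D8049 (iv D8049) F25796 F18301 (iv F25796)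
theorem F36487 : act 3 n8049 = n8049 := d17_2 D5562 D8049 (iv D8049) (iv D5562) F18297
theorem F36488 : act 4 n8049 = n8049 := d18_2 F25797 D8049 (iv D8049)
theorem F36489 : act 6 n8049 = n5599 := d20_2 (iv F25798) D8049 (iv D5599)
def n8051 : Q := act 8 n5562
theorem D8051 : act 8 n5562 = n8051 := rfl
theorem F36494 : act 1 n8051 = n5565 := d15_1 D8051 (iv D5565) (iv F25796)
theorem F36495 : act 3 n8051 = n8051 := d28_1 D8051 (iv D8051) (iv D5562) F18300 D5562
theorem F36497 : act 6 n8051 = n5601 := d40_1 D8051 (iv D5601) (iv F25798)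
def n8053 : Q := act 4 n5564
theorem D8053 : act 4 n5564 = n8053 := rfl
def n8054 : Q := act 6 n5564
theorem D8054 : act 6 n5564 = n8054 := rfl
theorem F36510 : act 5 n8054 = n5604 := d35_1 D8054 (iv D5604) (iv D3878) (iv F18303) D5564
def n8055 : Q := act 8 n5564
theorem D8055 : act 8 n5564 = n8055 := rfl
theorem F36513 : act 5 n8055 = n5565 := d37_1 D8055 (iv D5565) D5564
def n8058 : Q := act 3 n5568
theorem D8058 : act 3 n5568 = n8058 := rfl
theorem F36525 : act 0 n8058 = n8058 := d2_1 D8058 (iv D8058) F25823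
theorem F36526 : act 1 n8058 = n8058 := d10_1 D8058 (iv D8058) F25824
theorem F36527 : act 2 n8058 = n8058 := d17_1 D8058 (iv D8058) F25825 F18322 (iv F25825)
theorem F36528 : act 5 n8058 = n8058 := d25_2 F25827 D8058 (iv D8058)
theorem F36529 : act 7 n8058 = n5608 := d27_2 (iv F25828) D8058 (iv D5608)
theorem F36530 : act 8 n8058 = n8058 := d28_2 D5568 D8058 (iv D8058) (iv D5568) F18316
def n8059 : Q := act 9 n5568
theorem D8059 : act 9 n5568 = n8059 := rfl
def n8060 : Q := act 8 n5569
theorem D8060 : act 8 n5569 = n8060 := rfl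
theorem F36539 : act 2 n8060 = n5571 := d22_1 D8060 (iv D5571) (iv F25831)
def n8061 : Q := act 8 n5570
theorem D8061 : act 8 n5570 = n8061 := rfl
theorem F36548 : act 9 n8061 = n5571 := d44_2 D5570 D8061 (iv D5571) (iv D3857) D3856
def n8062 : Q := act 3 n5571
theorem D8062 : act 3 n5571 = n8062 := rfl
theorem F36553 : act 8 n8062 = n5572 := d28_2 D5571 D8062 (iv D5572) (iv D3858) (iv F18328)
def n8064 : Q := act 4 n5572
theorem D8064 : act 4 n5572 = n8064 := rfl
theorem F36561 : act 3 n8064 = n5574 := d24_1 D8064 (iv D5574) (iv D3859) (iv F18335) D5572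
def n8067 : Q := act 5 n5574
theorem D8067 : act 5 n5574 = n8067 := rfl
theorem F36577 : act 4 n8067 = n5670 := d30_1 D8067 (iv D5670) (iv D3923) (iv F18341) D5574
def n8073 : Q := act 5 n5578
theorem D8073 : act 5 n5578 = n8073 := rfl
theorem F36599 : act 3 n8073 = n5581 := d25_1 D8073 (iv D5581) (iv F25875)
def n8081 : Q := act 3 n5583
theorem D8081 : act 3 n5583 = n8081 := rfl
theorem F36633 : act 2 n8081 = n5587 := d17_1 D8081 (iv D5587) F18379 (iv F18370) (iv F25896)
def n8082 : Q := act 5 n5583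
theorem D8082 : act 5 n5583 = n8082 := rfl
theorem F36636 : act 2 n8082 = n5584 := d19_1 D8082 (iv D5584) (iv F25896)
def n8083 : Q := act 6 n5584
theorem D8083 : act 6 n5584 = n8083 := rfl
theorem F36641 : act 1 n8083 = n8083 := d13_1 D8083 (iv D8083) F25900
theorem F36642 : act 3 n8083 = n5589 := d26_1 D8083 (iv D5589) (iv F25901)
theorem F36643 : act 4 n8083 = n8083 := d31_1 D8083 (iv D8083) F25902
theorem F36644 : act 8 n8083 = n8083 := d40_2 F25904 D8083 (iv D8083)
theorem F36645 : act 9 n8083 = n8083 := d41_2 F25905 D8083 (iv D8083)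
def n8084 : Q := act 4 n5585
theorem D8084 : act 4 n5585 = n8084 := rfl
def n8086 : Q := act 5 n5586
theorem D8086 : act 5 n5586 = n8086 := rfl
theorem F36656 : act 4 n8086 = n5678 := d30_1 D8086 (iv D5678) (iv D3928) (iv F18375) D5586
theorem F36657 : act 7 n8086 = n5636 := d36_2 (iv F25913) D8086 (iv D5636)
theorem F36658 : act 8 n8086 = n5592 := d37_2 (iv F25914) D8086 (iv D5592)
def n8087 : Q := act 5 n5587
theorem D8087 : act 5 n5587 = n8087 := rfl
theorem F36660 : act 3 n8087 = n5588 := d25_1 D8087 (iv D5588) D5587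
def n8089 : Q := act 6 n5588
theorem D8089 : act 6 n5588 = n8089 := rfl
theorem F36665 : act 2 n8089 = n5589 := d20_1 D8089 (iv D5589) (iv F25918)
theorem F36666 : act 4 n8089 = n5681 := d31_1 D8089 (iv D5681) (iv F25919)
theorem F36667 : act 8 n8089 = n5595 := d40_2 (iv F25921) D8089 (iv D5595)
def n8090 : Q := act 7 n5589
theorem D8090 : act 7 n5589 = n8090 := rfl
theorem F36669 : act 1 n8090 = n8090 := d14_1 D8090 (iv D8090) F25923
theorem F36670 : act 4 n8090 = n5682 := d32_1 D8090 (iv D5682) (iv F25924)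
theorem F36671 : act 6 n8090 = n5640 := d39_1 D8090 (iv D5640) (iv D3903) (iv F18385) D5589
theorem F36672 : act 8 n8090 = n5596 := d42_2 (iv F25925) D8090 (iv D5596)
theorem F36673 : act 9 n8090 = n8090 := d43_2 F25926 D8090 (iv D8090)
def n8096 : Q := act 6 n5592
theorem D8096 : act 6 n5592 = n8096 := rfl
theorem F36695 : act 1 n8096 = n5595 := d13_1 D8096 (iv D5595) (iv F25935)
theorem F36698 : act 9 n8096 = n5602 := d41_2 (iv F25939) D8096 (iv D5602)
def n8097 : Q := act 4 n5593
theorem D8097 : act 4 n5593 = n8097 := rfl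
theorem F36700 : act 3 n8097 = n5689 := d24_1 D8097 (iv D5689) F18670 (iv F18402) (iv F25941)
theorem F36703 : act 9 n8097 = n5603 := d34_2 (iv F25943) D8097 (iv D5603)
def n8098 : Q := act 6 n5593
theorem D8098 : act 6 n5593 = n8098 := rfl
theorem F36705 : act 3 n8098 = n5595 := d26_1 D8098 (iv D5595) (iv F25941)
def n8099 : Q := act 8 n5593
theorem D8099 : act 8 n5593 = n8099 := rfl
theorem F36708 : act 5 n8099 = n5594 := d37_1 D8099 (iv D5594) D5593
def n8101 : Q := act 7 n5595
theorem D8101 : act 7 n5595 = n8101 := rfl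
theorem F36714 : act 2 n8101 = n5596 := d21_1 D8101 (iv D5596) (iv F25947)
def n8102 : Q := act 2 n5597
theorem D8102 : act 2 n5597 = n8102 := rfl
theorem F36721 : act 7 n8102 = n5652 := d21_2 (iv F25957) D8102 (iv D5652)
def n8103 : Q := act 5 n5597
theorem D8103 : act 5 n5597 = n8103 := rfl
theorem F36723 : act 3 n8103 = n5598 := d25_1 D8103 (iv D5598) D5597
theorem F36724 : act 7 n8103 = n5653 := d36_2 (iv F25957) D8103 (iv D5653)
def n8104 : Q := act 8 n5597
theorem D8104 : act 8 n5597 = n8104 := rfl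
theorem F36725 : act 0 n8104 = n5601 := d7_1 D8104 (iv D5601) (iv F25955)
def n8106 : Q := act 5 n5599
theorem D8106 : act 5 n5599 = n8106 := rfl
theorem F36734 : act 2 n8106 = n5600 := d19_1 D8106 (iv D5600) D5599
theorem F36736 : act 7 n8106 = n5656 := d36_2 (iv F25966) D8106 (iv D5656)
def n8107 : Q := act 8 n5599
theorem D8107 : act 8 n5599 = n8107 := rfl
theorem F36740 : act 7 n8107 = n5657 := d42_1 D8107 (iv D5657) (iv F25966)
def n8108 : Q := act 4 n5600
theorem D8108 : act 4 n5600 = n8108 := rfl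
theorem F36742 : act 3 n8108 = n5700 := d24_1 D8108 (iv D5700) F18699 (iv F18418) (iv F25968)
theorem F36744 : act 7 n8108 = n5658 := d32_2 (iv F25969) D8108 (iv D5658)
def n8110 : Q := act 8 n5600
theorem D8110 : act 8 n5600 = n8110 := rfl
theorem F36749 : act 5 n8110 = n5601 := d37_1 D8110 (iv D5601) D5600
theorem F36750 : act 7 n8110 = n5660 := d42_1 D8110 (iv D5660) (iv F25969)
def n8111 : Q := act 9 n5601
theorem D8111 : act 9 n5601 = n8111 := rfl
def n8113 : Q := act 6 n5603
theorem D8113 : act 6 n5603 = n8113 := rfl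
theorem F36761 : act 3 n8113 = n5705 := d26_1 D8113 (iv D5705) (iv F25979)
theorem F36762 : act 4 n8113 = n5604 := d31_1 D8113 (iv D5604) D5603
def n8114 : Q := act 8 n5603
theorem D8114 : act 8 n5603 = n8114 := rfl
theorem F36764 : act 4 n8114 = n5605 := d33_1 D8114 (iv D5605) D5603
theorem F36766 : act 7 n8114 = n5664 := d42_1 D8114 (iv D5664) (iv F25981)
def n8115 : Q := act 7 n5604
theorem D8115 : act 7 n5604 = n8115 := rfl
theorem F36769 : act 6 n8115 = n5665 := d39_1 D8115 (iv D5665) (iv D3918) (iv F18423) D5604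
def n8116 : Q := act 8 n5604
theorem D8116 : act 8 n5604 = n8116 := rfl
def n8117 : Q := act 9 n5605
theorem D8117 : act 9 n5605 = n8117 := rfl
theorem F36775 : act 5 n8117 = n5606 := d38_1 D8117 (iv D5606) (iv F25986)
def n8118 : Q := act 4 n5608
theorem D8118 : act 4 n5608 = n8118 := rfl
theorem F36777 : act 0 n8118 = n8118 := d3_1 D8118 (iv D8118) F25996
theorem F36778 : act 1 n8118 = n8118 := d11_1 D8118 (iv D8118) F25997
theorem F36779 : act 2 n8118 = n8118 := d18_1 D8118 (iv D8118) F25998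
theorem F36780 : act 3 n8118 = n8118 := d24_1 D8118 (iv D8118) (iv D5608) F18439 D5608
theorem F36781 : act 6 n8118 = n8118 := d31_2 F26000 D8118 (iv D8118)
theorem F36782 : act 8 n8118 = n8118 := d33_2 F26001 D8118 (iv D8118)
def n8119 : Q := act 9 n5608
theorem D8119 : act 9 n5608 = n8119 := rfl
theorem F36786 : act 3 n8119 = n5609 := d29_1 D8119 (iv D5609) D5608
def n8120 : Q := act 8 n5609
theorem D8120 : act 8 n5609 = n8120 := rfl
theorem F36795 : act 9 n8120 = n5610 := d44_2 D5609 D8120 (iv D5610) (iv D3883) D3882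
def n8127 : Q := act 5 n5614
theorem D8127 : act 5 n5614 = n8127 := rfl
theorem F36827 : act 3 n8127 = n5617 := d25_1 D8127 (iv D5617) (iv F26032)
def n8153 : Q := act 5 n5631
theorem D8153 : act 5 n5631 = n8153 := rfl
theorem F36933 : act 2 n8153 = n5637 := d19_1 D8153 (iv D5637) (iv F26102)
theorem F36934 : act 3 n8153 = n5632 := d25_1 D8153 (iv D5632) D5631
def n8155 : Q := act 6 n5632
theorem D8155 : act 6 n5632 = n8155 := rfl
theorem F36939 : act 2 n8155 = n5633 := d20_1 D8155 (iv D5633) (iv F26105)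
def n8156 : Q := act 7 n5633
theorem D8156 : act 7 n5633 = n8156 := rfl
theorem F36944 : act 1 n8156 = n8156 := d14_1 D8156 (iv D8156) F26109
theorem F36945 : act 3 n8156 = n5640 := d27_1 D8156 (iv D5640) (iv F26110)
theorem F36946 : act 4 n8156 = n8156 := d32_1 D8156 (iv D8156) F26111
theorem F36947 : act 5 n8156 = n8156 := d36_1 D8156 (iv D8156) F26112
theorem F36948 : act 8 n8156 = n8156 := d42_2 F26113 D8156 (iv D8156)
theorem F36949 : act 9 n8156 = n8156 := d43_2 F26114 D8156 (iv D8156)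
def n8162 : Q := act 6 n5636
theorem D8162 : act 6 n5636 = n8162 := rfl
theorem F36971 : act 8 n8162 = n5646 := d40_2 (iv F26126) D8162 (iv D5646)
def n8163 : Q := act 4 n5637
theorem D8163 : act 4 n5637 = n8163 := rfl
theorem F36973 : act 3 n8163 = n5728 := d24_1 D8163 (iv D5728) F18776 (iv F18530) (iv F26128)
def n8167 : Q := act 7 n5639
theorem D8167 : act 7 n5639 = n8167 := rfl
theorem F36983 : act 2 n8167 = n5640 := d21_1 D8167 (iv D5640) (iv F26132)
theorem F36986 : act 8 n8167 = n5651 := d42_2 (iv F26135) D8167 (iv D5651)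
def n8174 : Q := act 4 n5644
theorem D8174 : act 4 n5644 = n8174 := rfl
theorem F37015 : act 9 n8174 = n5658 := d34_2 (iv F26157) D8174 (iv D5658)
def n8178 : Q := act 7 n5646
theorem D8178 : act 7 n5646 = n8178 := rfl
theorem F37026 : act 1 n8178 = n5651 := d14_1 D8178 (iv D5651) (iv F26161)
theorem F37030 : act 9 n8178 = n5662 := d43_2 (iv F26165) D8178 (iv D5662)
def n8179 : Q := act 6 n5647
theorem D8179 : act 6 n5647 = n8179 := rfl
theorem F37032 : act 3 n8179 = n5744 := d26_1 D8179 (iv D5744) (iv F26167)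
theorem F37033 : act 4 n8179 = n5648 := d31_1 D8179 (iv D5648) D5647
theorem F37034 : act 9 n8179 = n5663 := d41_2 (iv F26169) D8179 (iv D5663)
def n8180 : Q := act 8 n5647
theorem D8180 : act 8 n5647 = n8180 := rfl
theorem F37036 : act 4 n8180 = n5649 := d33_1 D8180 (iv D5649) D5647
def n8181 : Q := act 7 n5648
theorem D8181 : act 7 n5648 = n8181 := rfl
theorem F37039 : act 3 n8181 = n5651 := d27_1 D8181 (iv D5651) (iv F26171)
def n8182 : Q := act 8 n5648
theorem D8182 : act 8 n5648 = n8182 := rfl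
def n8184 : Q := act 1 n5652
theorem D8184 : act 1 n5652 = n8184 := rfl
def n8185 : Q := act 5 n5652
theorem D8185 : act 5 n5652 = n8185 := rfl
theorem F37053 : act 2 n8185 = n5653 := d19_1 D8185 (iv D5653) D5652
def n8186 : Q := act 8 n5652
theorem D8186 : act 8 n5652 = n8186 := rfl
theorem F37055 : act 0 n8186 = n5657 := d7_1 D8186 (iv D5657) (iv F26184)
def n8187 : Q := act 4 n5653
theorem D8187 : act 4 n5653 = n8187 := rfl
theorem F37059 : act 0 n8187 = n5658 := d3_1 D8187 (iv D5658) (iv F26188)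
theorem F37060 : act 3 n8187 = n5752 := d24_1 D8187 (iv D5752) F18833 (iv F18570) (iv F26189)
def n8188 : Q := act 6 n5653
theorem D8188 : act 6 n5653 = n8188 := rfl
theorem F37063 : act 3 n8188 = n5655 := d26_1 D8188 (iv D5655) (iv F26189)
def n8189 : Q := act 8 n5653
theorem D8189 : act 8 n5653 = n8189 := rfl
theorem F37065 : act 0 n8189 = n5660 := d7_1 D8189 (iv D5660) (iv F26188)
def n8191 : Q := act 7 n5655
theorem D8191 : act 7 n5655 = n8191 := rfl
theorem F37074 : act 4 n8191 = n5756 := d32_1 D8191 (iv D5756) (iv F26196)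
def n8192 : Q := act 4 n5656
theorem D8192 : act 4 n5656 = n8192 := rfl
theorem F37078 : act 2 n8192 = n5658 := d18_1 D8192 (iv D5658) (iv F26200)
def n8194 : Q := act 8 n5656
theorem D8194 : act 8 n5656 = n8194 := rfl
theorem F37086 : act 5 n8194 = n5657 := d37_1 D8194 (iv D5657) D5656
def n8195 : Q := act 3 n5657
theorem D8195 : act 3 n5657 = n8195 := rfl
theorem F37087 : act 1 n8195 = n8195 := d10_1 D8195 (iv D8195) F26202
theorem F37088 : act 2 n8195 = n8195 := d17_1 D8195 (iv D8195) F26203 F18579 (iv F26203)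
theorem F37089 : act 6 n8195 = n8195 := d26_2 F26205 D8195 (iv D8195)
theorem F37090 : act 8 n8195 = n8195 := d28_2 D5657 D8195 (iv D8195) (iv D5657) F18573
def n8196 : Q := act 9 n5657
theorem D8196 : act 9 n5657 = n8196 := rfl
def n8197 : Q := act 6 n5658
theorem D8197 : act 6 n5658 = n8197 := rfl
theorem F37096 : act 3 n8197 = n5762 := d26_1 D8197 (iv D5762) (iv F26207)
def n8198 : Q := act 8 n5658
theorem D8198 : act 8 n5658 = n8198 := rfl
theorem F37099 : act 4 n8198 = n5660 := d33_1 D8198 (iv D5660) D5658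
def n8200 : Q := act 8 n5659
theorem D8200 : act 8 n5659 = n8200 := rfl
theorem F37107 : act 6 n8200 = n5660 := d40_1 D8200 (iv D5660) D5659
def n8201 : Q := act 9 n5660
theorem D8201 : act 9 n5660 = n8201 := rfl
theorem F37110 : act 5 n8201 = n5661 := d38_1 D8201 (iv D5661) (iv F26214)
def n8202 : Q := act 5 n5663
theorem D8202 : act 5 n5663 = n8202 := rfl
theorem F37112 : act 3 n8202 = n5767 := d25_1 D8202 (iv D5767) (iv F26225)
def n8203 : Q := act 7 n5663
theorem D8203 : act 7 n5663 = n8203 := rfl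
theorem F37116 : act 3 n8203 = n5768 := d27_1 D8203 (iv D5768) (iv F26225)
def n8204 : Q := act 8 n5663
theorem D8204 : act 8 n5663 = n8204 := rfl
theorem F37120 : act 6 n8204 = n5664 := d40_1 D8204 (iv D5664) D5663
def n8205 : Q := act 3 n5664
theorem D8205 : act 3 n5664 = n8205 := rfl
theorem F37123 : act 8 n8205 = n5770 := d28_2 D5664 D8205 (iv D5770) (iv D3988) (iv F18588)
def n8206 : Q := act 9 n5664
theorem D8206 : act 9 n5664 = n8206 := rfl
theorem F37125 : act 4 n8206 = n5667 := d34_1 D8206 (iv D5667) (iv F26228)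
def n8207 : Q := act 8 n5665
theorem D8207 : act 8 n5665 = n8207 := rfl
def n8214 : Q := act 4 n5671
theorem D8214 : act 4 n5671 = n8214 := rfl
theorem F37165 : act 0 n8214 = n5672 := d3_1 D8214 (iv D5672) D5671
theorem F37167 : act 7 n8214 = n5715 := d32_2 (iv F26260) D8214 (iv D5715)
def n8215 : Q := act 3 n5672
theorem D8215 : act 3 n5672 = n8215 := rfl
theorem F37171 : act 4 n8215 = n5677 := d24_2 D5672 D8215 (iv D5677) (iv D3928) (iv F18617)
theorem F37173 : act 7 n8215 = n5716 := d27_2 (iv F26265) D8215 (iv D5716)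
def n8217 : Q := act 5 n5673
theorem D8217 : act 5 n5673 = n8217 := rfl
theorem F37180 : act 3 n8217 = n5674 := d25_1 D8217 (iv D5674) D5673
theorem F37181 : act 7 n8217 = n5718 := d36_2 (iv F26271) D8217 (iv D5718)
def n8218 : Q := act 8 n5673
theorem D8218 : act 8 n5673 = n8218 := rfl
theorem F37185 : act 4 n8218 = n5680 := d33_1 D8218 (iv D5680) (iv F26269)
theorem F37187 : act 7 n8218 = n5719 := d42_1 D8218 (iv D5719) (iv F26271)
def n8221 : Q := act 3 n5676
theorem D8221 : act 3 n5676 = n8221 := rfl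
theorem F37197 : act 0 n8221 = n5677 := d2_1 D8221 (iv D5677) (iv F26281)
theorem F37199 : act 7 n8221 = n5722 := d27_2 (iv F26284) D8221 (iv D5722)
def n8222 : Q := act 5 n5676
theorem D8222 : act 5 n5676 = n8222 := rfl
def n8223 : Q := act 2 n5677
theorem D8223 : act 2 n5677 = n8223 := rfl
theorem F37206 : act 1 n8223 = n8223 := d9_1 D8223 (iv D8223) F26287 F18642 (iv F26287)
theorem F37209 : act 7 n8223 = n5724 := d21_2 (iv F26289) D8223 (iv D5724)
def n8224 : Q := act 5 n5677
theorem D8224 : act 5 n5677 = n8224 := rfl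
theorem F37212 : act 3 n8224 = n5678 := d25_1 D8224 (iv D5678) D5677
theorem F37213 : act 7 n8224 = n5725 := d36_2 (iv F26289) D8224 (iv D5725)
def n8225 : Q := act 8 n5677
theorem D8225 : act 8 n5677 = n8225 := rfl
theorem F37215 : act 1 n8225 = n5680 := d15_1 D8225 (iv D5680) (iv F26287)
theorem F37216 : act 3 n8225 = n5687 := d28_1 D8225 (iv D5687) (iv D3933) (iv F18640) D5677
def n8226 : Q := act 6 n5678
theorem D8226 : act 6 n5678 = n8226 := rfl
theorem F37222 : act 8 n8226 = n5688 := d40_2 (iv F26294) D8226 (iv D5688)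
def n8227 : Q := act 4 n5679
theorem D8227 : act 4 n5679 = n8227 := rfl
theorem F37225 : act 7 n8227 = n5728 := d32_2 (iv F26298) D8227 (iv D5728)
def n8228 : Q := act 6 n5679
theorem D8228 : act 6 n5679 = n8228 := rfl
theorem F37228 : act 3 n8228 = n5681 := d26_1 D8228 (iv D5681) (iv F26297)
def n8229 : Q := act 8 n5679
theorem D8229 : act 8 n5679 = n8229 := rfl
theorem F37234 : act 7 n8229 = n5730 := d42_1 D8229 (iv D5730) (iv F26298)
def n8230 : Q := act 9 n5680
theorem D8230 : act 9 n5680 = n8230 := rfl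
def n8231 : Q := act 7 n5681
theorem D8231 : act 7 n5681 = n8231 := rfl
theorem F37240 : act 2 n8231 = n5682 := d21_1 D8231 (iv D5682) (iv F26304)
theorem F37242 : act 6 n8231 = n5732 := d39_1 D8231 (iv D5732) (iv D3963) (iv F18647) D5681
theorem F37243 : act 8 n8231 = n5693 := d42_2 (iv F26306) D8231 (iv D5693)
def n8232 : Q := act 2 n5683
theorem D8232 : act 2 n5683 = n8232 := rfl
theorem F37245 : act 0 n8232 = n5685 := d1_1 D8232 (iv D5685) (iv F26314)
theorem F37249 : act 7 n8232 = n5733 := d21_2 (iv F26317) D8232 (iv D5733)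
theorem F37250 : act 9 n8232 = n5694 := d23_2 (iv F26318) D8232 (iv D5694)
def n8233 : Q := act 5 n5683
theorem D8233 : act 5 n5683 = n8233 := rfl
theorem F37254 : act 9 n8233 = n5695 := d38_2 (iv F26318) D8233 (iv D5695)
def n8234 : Q := act 8 n5683
theorem D8234 : act 8 n5683 = n8234 := rfl
theorem F37255 : act 0 n8234 = n5687 := d7_1 D8234 (iv D5687) (iv F26314)
theorem F37258 : act 7 n8234 = n5735 := d42_1 D8234 (iv D5735) (iv F26317)
def n8236 : Q := act 5 n5685
theorem D8236 : act 5 n5685 = n8236 := rfl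
theorem F37263 : act 1 n8236 = n5872 := d12_1 D8236 (iv D5872) (iv F26323)
theorem F37264 : act 2 n8236 = n5686 := d19_1 D8236 (iv D5686) D5685
theorem F37267 : act 9 n8236 = n5698 := d38_2 (iv F26328) D8236 (iv D5698)
def n8237 : Q := act 8 n5685
theorem D8237 : act 8 n5685 = n8237 := rfl
theorem F37268 : act 1 n8237 = n5873 := d15_1 D8237 (iv D5873) (iv F26323)
theorem F37269 : act 2 n8237 = n5687 := d22_1 D8237 (iv D5687) D5685
theorem F37272 : act 7 n8237 = n5738 := d42_1 D8237 (iv D5738) (iv F26327)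
def n8238 : Q := act 4 n5686
theorem D8238 : act 4 n5686 = n8238 := rfl
theorem F37275 : act 7 n8238 = n5739 := d32_2 (iv F26331) D8238 (iv D5739)
theorem F37276 : act 9 n8238 = n5700 := d34_2 (iv F26332) D8238 (iv D5700)
def n8239 : Q := act 6 n5686
theorem D8239 : act 6 n5686 = n8239 := rfl
theorem F37277 : act 1 n8239 = n5690 := d13_1 D8239 (iv D5690) (iv F26329)
theorem F37278 : act 3 n8239 = n5688 := d26_1 D8239 (iv D5688) (iv F26330)
theorem F37280 : act 9 n8239 = n5701 := d41_2 (iv F26332) D8239 (iv D5701)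
def n8240 : Q := act 8 n5686
theorem D8240 : act 8 n5686 = n8240 := rfl
theorem F37281 : act 1 n8240 = n5691 := d15_1 D8240 (iv D5691) (iv F26329)
theorem F37282 : act 5 n8240 = n5687 := d37_1 D8240 (iv D5687) D5686
theorem F37283 : act 7 n8240 = n5741 := d42_1 D8240 (iv D5741) (iv F26331)
def n8241 : Q := act 9 n5687
theorem D8241 : act 9 n5687 = n8241 := rfl
theorem F37284 : act 1 n8241 = n5692 := d16_1 D8241 (iv D5692) (iv F26333)
theorem F37287 : act 7 n8241 = n5742 := d43_1 D8241 (iv D5742) (iv F26336)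
theorem F37288 : act 8 n8241 = n5703 := d44_1 D8241 (iv D5703) (iv D3943) (iv F18664) D5687
def n8242 : Q := act 7 n5688
theorem D8242 : act 7 n5688 = n8242 := rfl
theorem F37293 : act 9 n8242 = n5704 := d43_2 (iv F26340) D8242 (iv D5704)
def n8243 : Q := act 6 n5689
theorem D8243 : act 6 n5689 = n8243 := rfl
theorem F37295 : act 4 n8243 = n5690 := d31_1 D8243 (iv D5690) D5689
def n8244 : Q := act 8 n5689
theorem D8244 : act 8 n5689 = n8244 := rfl
theorem F37297 : act 2 n8244 = n5880 := d22_1 D8244 (iv D5880) (iv F26341)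
theorem F37300 : act 7 n8244 = n5745 := d42_1 D8244 (iv D5745) (iv F26343)
def n8245 : Q := act 7 n5690
theorem D8245 : act 7 n5690 = n8245 := rfl
theorem F37301 : act 2 n8245 = n5881 := d21_1 D8245 (iv D5881) (iv F26345)
theorem F37302 : act 3 n8245 = n5693 := d27_1 D8245 (iv D5693) (iv F26346)
def n8246 : Q := act 8 n5690
theorem D8246 : act 8 n5690 = n8246 := rfl
theorem F37306 : act 2 n8246 = n5882 := d22_1 D8246 (iv D5882) (iv F26345)
def n8247 : Q := act 9 n5691
theorem D8247 : act 9 n5691 = n8247 := rfl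
theorem F37312 : act 8 n8247 = n5709 := d44_1 D8247 (iv D5709) (iv D3947) (iv F18672) D5691
def n8248 : Q := act 1 n5694
theorem D8248 : act 1 n5694 = n8248 := rfl
theorem F37313 : act 0 n8248 = n5884 := d0_1 D8248 (iv D5884) F19192 (iv F18693) (iv F26361)
def n8249 : Q := act 5 n5694
theorem D8249 : act 5 n5694 = n8249 := rfl
theorem F37318 : act 0 n8249 = n5698 := d4_1 D8249 (iv D5698) (iv F26361)
theorem F37319 : act 2 n8249 = n5695 := d19_1 D8249 (iv D5695) D5694
theorem F37321 : act 7 n8249 = n5750 := d36_2 (iv F26365) D8249 (iv D5750)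
def n8250 : Q := act 8 n5694
theorem D8250 : act 8 n5694 = n8250 := rfl
theorem F37323 : act 2 n8250 = n5696 := d22_1 D8250 (iv D5696) D5694
def n8251 : Q := act 4 n5695
theorem D8251 : act 4 n5695 = n8251 := rfl
def n8252 : Q := act 6 n5695
theorem D8252 : act 6 n5695 = n8252 := rfl
theorem F37331 : act 3 n8252 = n5697 := d26_1 D8252 (iv D5697) (iv F26367)
def n8253 : Q := act 8 n5695
theorem D8253 : act 8 n5695 = n8253 := rfl
theorem F37333 : act 0 n8253 = n5702 := d7_1 D8253 (iv D5702) (iv F26366)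
theorem F37335 : act 5 n8253 = n5696 := d37_1 D8253 (iv D5696) D5695
theorem F37336 : act 7 n8253 = n5754 := d42_1 D8253 (iv D5754) (iv F26368)
def n8254 : Q := act 9 n5696
theorem D8254 : act 9 n5696 = n8254 := rfl
def n8256 : Q := act 4 n5698
theorem D8256 : act 4 n5698 = n8256 := rfl
theorem F37347 : act 1 n8256 = n5892 := d11_1 D8256 (iv D5892) (iv F26378)
theorem F37348 : act 2 n8256 = n5700 := d18_1 D8256 (iv D5700) (iv F26379)
def n8257 : Q := act 6 n5698
theorem D8257 : act 6 n5698 = n8257 := rfl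
def n8258 : Q := act 8 n5698
theorem D8258 : act 8 n5698 = n8258 := rfl
theorem F37356 : act 2 n8258 = n5702 := d22_1 D8258 (iv D5702) (iv F26379)
theorem F37358 : act 7 n8258 = n5759 := d42_1 D8258 (iv D5759) (iv F26381)
def n8259 : Q := act 3 n5699
theorem D8259 : act 3 n5699 = n8259 := rfl
theorem F37362 : act 7 n8259 = n5760 := d27_2 (iv F26386) D8259 (iv D5760)
def n8260 : Q := act 9 n5699
theorem D8260 : act 9 n5699 = n8260 := rfl
theorem F37365 : act 2 n8260 = n5703 := d23_1 D8260 (iv D5703) (iv F26383)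
def n8262 : Q := act 8 n5700
theorem D8262 : act 8 n5700 = n8262 := rfl
theorem F37372 : act 4 n8262 = n5702 := d33_1 D8262 (iv D5702) D5700
def n8264 : Q := act 8 n5701
theorem D8264 : act 8 n5701 = n8264 := rfl
theorem F37379 : act 1 n8264 = n5708 := d15_1 D8264 (iv D5708) (iv F26390)
theorem F37382 : act 6 n8264 = n5702 := d40_1 D8264 (iv D5702) D5701
def n8265 : Q := act 9 n5702
theorem D8265 : act 9 n5702 = n8265 := rfl
theorem F37383 : act 1 n8265 = n5709 := d16_1 D8265 (iv D5709) (iv F26393)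
theorem F37386 : act 7 n8265 = n5766 := d43_1 D8265 (iv D5766) (iv F26396)
def n8266 : Q := act 5 n5705
theorem D8266 : act 5 n5705 = n8266 := rfl
theorem F37387 : act 2 n8266 = n5902 := d19_1 D8266 (iv D5902) (iv F26407)
def n8267 : Q := act 7 n5705
theorem D8267 : act 7 n5705 = n8267 := rfl
theorem F37390 : act 2 n8267 = n5903 := d21_1 D8267 (iv D5903) (iv F26407)
theorem F37391 : act 4 n8267 = n5707 := d32_1 D8267 (iv D5707) (iv F26408)
def n8268 : Q := act 8 n5705
theorem D8268 : act 8 n5705 = n8268 := rfl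
theorem F37393 : act 2 n8268 = n5904 := d22_1 D8268 (iv D5904) (iv F26407)
theorem F37394 : act 4 n8268 = n5708 := d33_1 D8268 (iv D5708) (iv F26408)
theorem F37395 : act 6 n8268 = n5706 := d40_1 D8268 (iv D5706) D5705
def n8269 : Q := act 3 n5706
theorem D8269 : act 3 n5706 = n8269 := rfl
theorem F37398 : act 7 n8269 = n5770 := d27_2 (iv F26412) D8269 (iv D5770)
def n8270 : Q := act 9 n5706
theorem D8270 : act 9 n5706 = n8270 := rfl
theorem F37399 : act 2 n8270 = n5906 := d23_1 D8270 (iv D5906) (iv F26409)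
def n8271 : Q := act 8 n5707
theorem D8271 : act 8 n5707 = n8271 := rfl
theorem F37403 : act 2 n8271 = n5907 := d22_1 D8271 (iv D5907) (iv F26413)
def n8272 : Q := act 9 n5708
theorem D8272 : act 9 n5708 = n8272 := rfl
theorem F37408 : act 2 n8272 = n5908 := d23_1 D8272 (iv D5908) (iv F26417)
def n8280 : Q := act 3 n5715
theorem D8280 : act 3 n5715 = n8280 := rfl
theorem F37447 : act 4 n8280 = n5722 := d24_2 D5715 D8280 (iv D5722) (iv D3958) (iv F18744)
theorem F37448 : act 6 n8280 = n5781 := d26_2 (iv F26452) D8280 (iv D5781)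
def n8282 : Q := act 2 n5716
theorem D8282 : act 2 n5716 = n8282 := rfl
theorem F37454 : act 4 n8282 = n5724 := d18_2 (iv F26456) D8282 (iv D5724)
def n8287 : Q := act 6 n5718
theorem D8287 : act 6 n5718 = n8287 := rfl
theorem F37473 : act 5 n8287 = n5788 := d35_1 D8287 (iv D5788) (iv D4000) (iv F18754) D5718
def n8288 : Q := act 8 n5718
theorem D8288 : act 8 n5718 = n8288 := rfl
def n8289 : Q := act 9 n5719
theorem D8289 : act 9 n5719 = n8289 := rfl
theorem F37481 : act 6 n8289 = n5790 := d41_1 D8289 (iv D5790) (iv F26468)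
def n8291 : Q := act 2 n5722
theorem D8291 : act 2 n5722 = n8291 := rfl
theorem F37489 : act 6 n8291 = n5792 := d20_2 (iv F26478) D8291 (iv D5792)
def n8293 : Q := act 8 n5722
theorem D8293 : act 8 n5722 = n8293 := rfl
theorem F37495 : act 3 n8293 = n5735 := d28_1 D8293 (iv D5735) (iv D3965) (iv F18766) D5722
def n8295 : Q := act 5 n5724
theorem D8295 : act 5 n5724 = n8295 := rfl
theorem F37503 : act 2 n8295 = n5725 := d19_1 D8295 (iv D5725) D5724
def n8296 : Q := act 8 n5724
theorem D8296 : act 8 n5724 = n8296 := rfl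
theorem F37508 : act 6 n8296 = n5797 := d40_1 D8296 (iv D5797) (iv F26486)
def n8297 : Q := act 4 n5725
theorem D8297 : act 4 n5725 = n8297 := rfl
def n8298 : Q := act 6 n5725
theorem D8298 : act 6 n5725 = n8298 := rfl
theorem F37512 : act 3 n8298 = n5727 := d26_1 D8298 (iv D5727) (iv F26489)
theorem F37513 : act 5 n8298 = n5799 := d35_1 D8298 (iv D5799) (iv D4007) (iv F18769) D5725
def n8299 : Q := act 8 n5725
theorem D8299 : act 8 n5725 = n8299 := rfl
theorem F37516 : act 3 n8299 = n5741 := d28_1 D8299 (iv D5741) F18803 (iv F18773) (iv F26489)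
def n8301 : Q := act 7 n5727
theorem D8301 : act 7 n5727 = n8301 := rfl
theorem F37524 : act 5 n8301 = n5802 := d36_1 D8301 (iv D5802) (iv F26496)
theorem F37525 : act 8 n8301 = n5743 := d42_2 (iv F26497) D8301 (iv D5743)
def n8302 : Q := act 6 n5728
theorem D8302 : act 6 n5728 = n8302 := rfl
theorem F37528 : act 4 n8302 = n5729 := d31_1 D8302 (iv D5729) D5728
def n8303 : Q := act 8 n5728
theorem D8303 : act 8 n5728 = n8303 := rfl
def n8304 : Q := act 7 n5729
theorem D8304 : act 7 n5729 = n8304 := rfl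
theorem F37533 : act 3 n8304 = n5732 := d27_1 D8304 (iv D5732) (iv F26502)
theorem F37534 : act 5 n8304 = n5805 := d36_1 D8304 (iv D5805) (iv F26503)
def n8305 : Q := act 8 n5729
theorem D8305 : act 8 n5729 = n8305 := rfl
theorem F37538 : act 5 n8305 = n5806 := d37_1 D8305 (iv D5806) (iv F26503)
theorem F37539 : act 6 n8305 = n5730 := d40_1 D8305 (iv D5730) D5729
def n8306 : Q := act 9 n5730
theorem D8306 : act 9 n5730 = n8306 := rfl
def n8307 : Q := act 1 n5733
theorem D8307 : act 1 n5733 = n8307 := rfl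
theorem F37547 : act 6 n8307 = n5808 := d13_2 (iv F26519) D8307 (iv D5808)
theorem F37548 : act 9 n8307 = n5749 := d16_2 (iv F26520) D8307 (iv D5749)
def n8308 : Q := act 5 n5733
theorem D8308 : act 5 n5733 = n8308 := rfl
theorem F37550 : act 2 n8308 = n5734 := d19_1 D8308 (iv D5734) D5733
theorem F37552 : act 9 n8308 = n5750 := d38_2 (iv F26520) D8308 (iv D5750)
def n8309 : Q := act 8 n5733
theorem D8309 : act 8 n5733 = n8309 := rfl
theorem F37554 : act 2 n8309 = n5735 := d22_1 D8309 (iv D5735) D5733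
theorem F37556 : act 6 n8309 = n5810 := d40_1 D8309 (iv D5810) (iv F26519)
def n8311 : Q := act 6 n5734
theorem D8311 : act 6 n5734 = n8311 := rfl
theorem F37563 : act 9 n8311 = n5753 := d41_2 (iv F26523) D8311 (iv D5753)
def n8312 : Q := act 8 n5734
theorem D8312 : act 8 n5734 = n8312 := rfl
def n8313 : Q := act 9 n5735
theorem D8313 : act 9 n5735 = n8313 := rfl
theorem F37568 : act 6 n8313 = n5814 := d41_1 D8313 (iv D5814) (iv F26526)
def n8316 : Q := act 6 n5737
theorem D8316 : act 6 n5737 = n8316 := rfl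
theorem F37578 : act 1 n8316 = n5918 := d13_1 D8316 (iv D5918) (iv F26531)
theorem F37579 : act 2 n8316 = n5740 := d20_1 D8316 (iv D5740) (iv F26532)
theorem F37582 : act 9 n8316 = n5758 := d41_2 (iv F26534) D8316 (iv D5758)
def n8317 : Q := act 8 n5737
theorem D8317 : act 8 n5737 = n8317 := rfl
theorem F37583 : act 1 n8317 = n5919 := d15_1 D8317 (iv D5919) (iv F26531)
theorem F37584 : act 2 n8317 = n5741 := d22_1 D8317 (iv D5741) (iv F26532)
def n8318 : Q := act 3 n5738
theorem D8318 : act 3 n5738 = n8318 := rfl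
theorem F37587 : act 6 n8318 = n5819 := d26_2 (iv F26538) D8318 (iv D5819)
def n8319 : Q := act 9 n5738
theorem D8319 : act 9 n5738 = n8319 := rfl
theorem F37590 : act 2 n8319 = n5742 := d23_1 D8319 (iv D5742) (iv F26536)
def n8320 : Q := act 6 n5739
theorem D8320 : act 6 n5739 = n8320 := rfl
theorem F37595 : act 4 n8320 = n5740 := d31_1 D8320 (iv D5740) D5739
def n8321 : Q := act 8 n5739
theorem D8321 : act 8 n5739 = n8321 := rfl
def n8322 : Q := act 7 n5740
theorem D8322 : act 7 n5740 = n8322 := rfl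
theorem F37600 : act 1 n8322 = n5746 := d14_1 D8322 (iv D5746) (iv F26542)
theorem F37601 : act 3 n8322 = n5743 := d27_1 D8322 (iv D5743) (iv F26543)
theorem F37603 : act 9 n8322 = n5764 := d43_2 (iv F26545) D8322 (iv D5764)
def n8323 : Q := act 8 n5740
theorem D8323 : act 8 n5740 = n8323 := rfl
theorem F37604 : act 1 n8323 = n5747 := d15_1 D8323 (iv D5747) (iv F26542)
theorem F37605 : act 5 n8323 = n5824 := d37_1 D8323 (iv D5824) (iv F26544)
theorem F37606 : act 6 n8323 = n5741 := d40_1 D8323 (iv D5741) D5740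
def n8324 : Q := act 9 n5741
theorem D8324 : act 9 n5741 = n8324 := rfl
theorem F37607 : act 1 n8324 = n5748 := d16_1 D8324 (iv D5748) (iv F26546)
def n8325 : Q := act 5 n5744
theorem D8325 : act 5 n5744 = n8325 := rfl
theorem F37611 : act 4 n8325 = n5826 := d30_1 D8325 (iv D5826) F19031 (iv F18817) (iv F26557)
theorem F37613 : act 9 n8325 = n5767 := d38_2 (iv F26558) D8325 (iv D5767)
def n8326 : Q := act 7 n5744
theorem D8326 : act 7 n5744 = n8326 := rfl
theorem F37615 : act 4 n8326 = n5746 := d32_1 D8326 (iv D5746) (iv F26557)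
def n8327 : Q := act 8 n5744
theorem D8327 : act 8 n5744 = n8327 := rfl
theorem F37619 : act 6 n8327 = n5745 := d40_1 D8327 (iv D5745) D5744
def n8328 : Q := act 3 n5745
theorem D8328 : act 3 n5745 = n8328 := rfl
def n8329 : Q := act 9 n5745
theorem D8329 : act 9 n5745 = n8329 := rfl
theorem F37621 : act 2 n8329 = n5931 := d23_1 D8329 (iv D5931) (iv F26559)
theorem F37624 : act 8 n8329 = n5771 := d44_1 D8329 (iv D5771) (iv D3988) (iv F18814) D5745
def n8330 : Q := act 8 n5746
theorem D8330 : act 8 n5746 = n8330 := rfl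
theorem F37625 : act 2 n8330 = n5932 := d22_1 D8330 (iv D5932) (iv F26562)
theorem F37626 : act 5 n8330 = n5831 := d37_1 D8330 (iv D5831) (iv F26564)
theorem F37627 : act 7 n8330 = n5747 := d42_1 D8330 (iv D5747) D5746
def n8331 : Q := act 9 n5747
theorem D8331 : act 9 n5747 = n8331 := rfl
def n8332 : Q := act 5 n5749
theorem D8332 : act 5 n5749 = n8332 := rfl
theorem F37632 : act 0 n8332 = n5934 := d4_1 D8332 (iv D5934) (iv F26572)
theorem F37633 : act 1 n8332 = n5750 := d12_1 D8332 (iv D5750) D5749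
def n8334 : Q := act 4 n5750
theorem D8334 : act 4 n5750 = n8334 := rfl
theorem F37639 : act 0 n8334 = n5757 := d3_1 D8334 (iv D5757) (iv F26576)
theorem F37640 : act 2 n8334 = n5752 := d18_1 D8334 (iv D5752) (iv F26577)
def n8335 : Q := act 6 n5750
theorem D8335 : act 6 n5750 = n8335 := rfl
theorem F37642 : act 0 n8335 = n5758 := d5_1 D8335 (iv D5758) (iv F26576)
theorem F37643 : act 2 n8335 = n5753 := d20_1 D8335 (iv D5753) (iv F26577)
theorem F37645 : act 5 n8335 = n5836 := d35_1 D8335 (iv D5836) (iv D4032) (iv F18831) D5750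
def n8336 : Q := act 8 n5750
theorem D8336 : act 8 n5750 = n8336 := rfl
theorem F37647 : act 2 n8336 = n5754 := d22_1 D8336 (iv D5754) (iv F26577)
theorem F37648 : act 5 n8336 = n5751 := d37_1 D8336 (iv D5751) D5750
def n8338 : Q := act 9 n5751
theorem D8338 : act 9 n5751 = n8338 := rfl
def n8339 : Q := act 6 n5752
theorem D8339 : act 6 n5752 = n8339 := rfl
theorem F37658 : act 4 n8339 = n5753 := d31_1 D8339 (iv D5753) D5752
def n8340 : Q := act 8 n5752
theorem D8340 : act 8 n5752 = n8340 := rfl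
theorem F37659 : act 0 n8340 = n5763 := d7_1 D8340 (iv D5763) (iv F26583)
theorem F37660 : act 4 n8340 = n5754 := d33_1 D8340 (iv D5754) D5752
def n8341 : Q := act 7 n5753
theorem D8341 : act 7 n5753 = n8341 := rfl
theorem F37663 : act 3 n8341 = n5756 := d27_1 D8341 (iv D5756) (iv F26586)
theorem F37664 : act 5 n8341 = n5842 := d36_1 D8341 (iv D5842) (iv F26587)
def n8342 : Q := act 8 n5753
theorem D8342 : act 8 n5753 = n8342 := rfl
theorem F37665 : act 0 n8342 = n5765 := d7_1 D8342 (iv D5765) (iv F26585)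
theorem F37667 : act 5 n8342 = n5843 := d37_1 D8342 (iv D5843) (iv F26587)
theorem F37668 : act 6 n8342 = n5754 := d40_1 D8342 (iv D5754) D5753
def n8343 : Q := act 9 n5754
theorem D8343 : act 9 n5754 = n8343 := rfl
def n8345 : Q := act 6 n5757
theorem D8345 : act 6 n5757 = n8345 := rfl
theorem F37675 : act 1 n8345 = n5947 := d13_1 D8345 (iv D5947) (iv F26599)
theorem F37676 : act 2 n8345 = n5762 := d20_1 D8345 (iv D5762) (iv F26600)
theorem F37677 : act 4 n8345 = n5758 := d31_1 D8345 (iv D5758) D5757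
def n8346 : Q := act 8 n5757
theorem D8346 : act 8 n5757 = n8346 := rfl
theorem F37678 : act 1 n8346 = n5948 := d15_1 D8346 (iv D5948) (iv F26599)
theorem F37679 : act 2 n8346 = n5763 := d22_1 D8346 (iv D5763) (iv F26600)
def n8347 : Q := act 7 n5758
theorem D8347 : act 7 n5758 = n8347 := rfl
def n8348 : Q := act 8 n5758
theorem D8348 : act 8 n5758 = n8348 := rfl
theorem F37687 : act 2 n8348 = n5765 := d22_1 D8348 (iv D5765) (iv F26603)
theorem F37688 : act 5 n8348 = n5849 := d37_1 D8348 (iv D5849) (iv F26605)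
theorem F37689 : act 6 n8348 = n5759 := d40_1 D8348 (iv D5759) D5758
def n8349 : Q := act 3 n5759
theorem D8349 : act 3 n5759 = n8349 := rfl
def n8350 : Q := act 9 n5759
theorem D8350 : act 9 n5759 = n8350 := rfl
theorem F37695 : act 2 n8350 = n5766 := d23_1 D8350 (iv D5766) (iv F26607)
def n8352 : Q := act 9 n5760
theorem D8352 : act 9 n5760 = n8352 := rfl
theorem F37704 : act 3 n8352 = n5761 := d29_1 D8352 (iv D5761) D5760
theorem F37705 : act 6 n8352 = n5853 := d41_1 D8352 (iv D5853) (iv F26611)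
def n8353 : Q := act 5 n5762
theorem D8353 : act 5 n5762 = n8353 := rfl
theorem F37707 : act 4 n8353 = n5854 := d30_1 D8353 (iv D5854) F19099 (iv F18853) (iv F26618)
def n8355 : Q := act 8 n5762
theorem D8355 : act 8 n5762 = n8355 := rfl
theorem F37712 : act 4 n8355 = n5765 := d33_1 D8355 (iv D5765) (iv F26618)
theorem F37713 : act 6 n8355 = n5763 := d40_1 D8355 (iv D5763) D5762
def n8356 : Q := act 3 n5763
theorem D8356 : act 3 n5763 = n8356 := rfl
def n8357 : Q := act 9 n5763
theorem D8357 : act 9 n5763 = n8357 := rfl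
def n8358 : Q := act 8 n5764
theorem D8358 : act 8 n5764 = n8358 := rfl
theorem F37720 : act 1 n8358 = n5772 := d15_1 D8358 (iv D5772) (iv F26622)
theorem F37723 : act 7 n8358 = n5765 := d42_1 D8358 (iv D5765) D5764
def n8359 : Q := act 9 n5765
theorem D8359 : act 9 n5765 = n8359 := rfl
theorem F37726 : act 5 n8359 = n5860 := d38_1 D8359 (iv D5860) (iv F26627)
theorem F37727 : act 6 n8359 = n5766 := d41_1 D8359 (iv D5766) (iv F26628)
def n8360 : Q := act 7 n5767
theorem D8360 : act 7 n5767 = n8360 := rfl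
theorem F37728 : act 2 n8360 = n5962 := d21_1 D8360 (iv D5962) (iv F26632)
theorem F37729 : act 4 n8360 = n5861 := d32_1 D8360 (iv D5861) (iv F26633)
def n8361 : Q := act 8 n5767
theorem D8361 : act 8 n5767 = n8361 := rfl
theorem F37731 : act 2 n8361 = n5963 := d22_1 D8361 (iv D5963) (iv F26632)
theorem F37732 : act 4 n8361 = n5862 := d33_1 D8361 (iv D5862) (iv F26633)
def n8362 : Q := act 8 n5768
theorem D8362 : act 8 n5768 = n8362 := rfl
theorem F37735 : act 2 n8362 = n5964 := d22_1 D8362 (iv D5964) (iv F26635)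
theorem F37736 : act 4 n8362 = n5772 := d33_1 D8362 (iv D5772) (iv F26636)
def n8363 : Q := act 3 n5769
theorem D8363 : act 3 n5769 = n8363 := rfl
def n8364 : Q := act 9 n5769
theorem D8364 : act 9 n5769 = n8364 := rfl
theorem F37740 : act 2 n8364 = n5966 := d23_1 D8364 (iv D5966) (iv F26637)
theorem F37741 : act 4 n8364 = n5773 := d34_1 D8364 (iv D5773) (iv F26638)
def n8365 : Q := act 2 n5770
theorem D8365 : act 2 n5770 = n8365 := rfl
theorem F37743 : act 3 n8365 = n5967 := d17_2 D5770 D8365 (iv D5967) (iv D4120) (iv F18867)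
def n8366 : Q := act 9 n5770
theorem D8366 : act 9 n5770 = n8366 := rfl
theorem F37746 : act 3 n8366 = n5771 := d29_1 D8366 (iv D5771) D5770
def n8367 : Q := act 9 n5772
theorem D8367 : act 9 n5772 = n8367 := rfl
theorem F37751 : act 5 n8367 = n5867 := d38_1 D8367 (iv D5867) (iv F26647)
def n8379 : Q := act 2 n5781
theorem D8379 : act 2 n5781 = n8379 := rfl
def n8390 : Q := act 6 n5787
theorem D8390 : act 6 n5787 = n8390 := rfl
theorem F37858 : act 4 n8390 = n5788 := d31_1 D8390 (iv D5788) D5787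
def n8391 : Q := act 8 n5787
theorem D8391 : act 8 n5787 = n8391 := rfl
theorem F37861 : act 4 n8391 = n5789 := d33_1 D8391 (iv D5789) D5787
theorem F37862 : act 5 n8391 = n5804 := d37_1 D8391 (iv D5804) (iv F26718)
def n8393 : Q := act 8 n5788
theorem D8393 : act 8 n5788 = n8393 := rfl
def n8394 : Q := act 9 n5789
theorem D8394 : act 9 n5789 = n8394 := rfl
theorem F37873 : act 5 n8394 = n5790 := d38_1 D8394 (iv D5790) (iv F26726)
def n8395 : Q := act 1 n5792
theorem D8395 : act 1 n5792 = n8395 := rfl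
def n8397 : Q := act 8 n5792
theorem D8397 : act 8 n5792 = n8397 := rfl
theorem F37886 : act 2 n8397 = n5794 := d22_1 D8397 (iv D5794) D5792
def n8398 : Q := act 4 n5793
theorem D8398 : act 4 n5793 = n8398 := rfl
theorem F37888 : act 0 n8398 = n5798 := d3_1 D8398 (iv D5798) (iv F26742)
def n8400 : Q := act 8 n5793
theorem D8400 : act 8 n5793 = n8400 := rfl
theorem F37896 : act 3 n8400 = n5813 := d28_1 D8400 (iv D5813) F18990 (iv F18946) (iv F26743)
def n8404 : Q := act 6 n5796
theorem D8404 : act 6 n5796 = n8404 := rfl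
theorem F37914 : act 2 n8404 = n5799 := d20_1 D8404 (iv D5799) (iv F26755)
def n8405 : Q := act 8 n5796
theorem D8405 : act 8 n5796 = n8405 := rfl
theorem F37919 : act 5 n8405 = n5797 := d37_1 D8405 (iv D5797) D5796
def n8406 : Q := act 3 n5797
theorem D8406 : act 3 n5797 = n8406 := rfl
def n8408 : Q := act 6 n5798
theorem D8408 : act 6 n5798 = n8408 := rfl
theorem F37931 : act 4 n8408 = n5799 := d31_1 D8408 (iv D5799) D5798
def n8409 : Q := act 8 n5798
theorem D8409 : act 8 n5798 = n8409 := rfl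
theorem F37933 : act 1 n8409 = n5804 := d15_1 D8409 (iv D5804) (iv F26762)
def n8410 : Q := act 7 n5799
theorem D8410 : act 7 n5799 = n8410 := rfl
theorem F37937 : act 3 n8410 = n5802 := d27_1 D8410 (iv D5802) (iv F26767)
def n8411 : Q := act 8 n5799
theorem D8411 : act 8 n5799 = n8411 := rfl
theorem F37940 : act 1 n8411 = n5806 := d15_1 D8411 (iv D5806) (iv F26766)
theorem F37941 : act 3 n8411 = n5824 := d28_1 D8411 (iv D5824) F19015 (iv F18962) (iv F26767)
def n8413 : Q := act 5 n5803
theorem D8413 : act 5 n5803 = n8413 := rfl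
def n8415 : Q := act 8 n5803
theorem D8415 : act 8 n5803 = n8415 := rfl
theorem F37957 : act 4 n8415 = n5806 := d33_1 D8415 (iv D5806) (iv F26785)
theorem F37958 : act 6 n8415 = n5804 := d40_1 D8415 (iv D5804) D5803
def n8416 : Q := act 3 n5804
theorem D8416 : act 3 n5804 = n8416 := rfl
theorem F37959 : act 4 n8416 = n5829 := d24_2 (iv F26788) D8416 (iv D5829) F19034 (iv F18972)
def n8418 : Q := act 8 n5805
theorem D8418 : act 8 n5805 = n8418 := rfl
theorem F37967 : act 3 n8418 = n5831 := d28_1 D8418 (iv D5831) F19038 (iv F18982) (iv F26791)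
def n8419 : Q := act 9 n5806
theorem D8419 : act 9 n5806 = n8419 := rfl
def n8420 : Q := act 5 n5808
theorem D8420 : act 5 n5808 = n8420 := rfl
theorem F37974 : act 0 n8420 = n5970 := d4_1 D8420 (iv D5970) (iv F26802)
theorem F37975 : act 1 n8420 = n5809 := d12_1 D8420 (iv D5809) D5808
theorem F37978 : act 9 n8420 = n5833 := d38_2 (iv F26806) D8420 (iv D5833)
def n8421 : Q := act 8 n5808
theorem D8421 : act 8 n5808 = n8421 := rfl
theorem F37980 : act 1 n8421 = n5810 := d15_1 D8421 (iv D5810) D5808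
def n8422 : Q := act 4 n5809
theorem D8422 : act 4 n5809 = n8422 := rfl
theorem F37984 : act 2 n8422 = n5811 := d18_1 D8422 (iv D5811) (iv F26808)
theorem F37987 : act 9 n8422 = n5835 := d34_2 (iv F26811) D8422 (iv D5835)
def n8423 : Q := act 6 n5809
theorem D8423 : act 6 n5809 = n8423 := rfl
theorem F37989 : act 2 n8423 = n5812 := d20_1 D8423 (iv D5812) (iv F26808)
theorem F37991 : act 9 n8423 = n5836 := d41_2 (iv F26811) D8423 (iv D5836)
def n8424 : Q := act 8 n5809
theorem D8424 : act 8 n5809 = n8424 := rfl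
theorem F37994 : act 5 n8424 = n5810 := d37_1 D8424 (iv D5810) D5809
def n8425 : Q := act 3 n5810
theorem D8425 : act 3 n5810 = n8425 := rfl
def n8426 : Q := act 9 n5810
theorem D8426 : act 9 n5810 = n8426 := rfl
theorem F38003 : act 8 n8426 = n5839 := d44_1 D8426 (iv D5839) (iv D4033) (iv F18988) D5810
def n8427 : Q := act 6 n5811
theorem D8427 : act 6 n5811 = n8427 := rfl
theorem F38006 : act 4 n8427 = n5812 := d31_1 D8427 (iv D5812) D5811
theorem F38007 : act 9 n8427 = n5840 := d41_2 (iv F26820) D8427 (iv D5840)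
def n8428 : Q := act 8 n5811
theorem D8428 : act 8 n5811 = n8428 := rfl
theorem F38008 : act 0 n8428 = n5822 := d7_1 D8428 (iv D5822) (iv F26816)
theorem F38009 : act 4 n8428 = n5813 := d33_1 D8428 (iv D5813) D5811
def n8430 : Q := act 8 n5812
theorem D8430 : act 8 n5812 = n8430 := rfl
def n8431 : Q := act 9 n5813
theorem D8431 : act 9 n5813 = n8431 := rfl
theorem F38019 : act 5 n8431 = n5814 := d38_1 D8431 (iv D5814) (iv F26825)
def n8433 : Q := act 6 n5816
theorem D8433 : act 6 n5816 = n8433 := rfl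
theorem F38028 : act 1 n8433 = n5983 := d13_1 D8433 (iv D5983) (iv F26836)
theorem F38029 : act 2 n8433 = n5821 := d20_1 D8433 (iv D5821) (iv F26837)
theorem F38030 : act 4 n8433 = n5817 := d31_1 D8433 (iv D5817) D5816
theorem F38031 : act 9 n8433 = n5846 := d41_2 (iv F26840) D8433 (iv D5846)
def n8434 : Q := act 8 n5816
theorem D8434 : act 8 n5816 = n8434 := rfl
theorem F38032 : act 1 n8434 = n5984 := d15_1 D8434 (iv D5984) (iv F26836)
theorem F38033 : act 2 n8434 = n5822 := d22_1 D8434 (iv D5822) (iv F26837)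
theorem F38034 : act 4 n8434 = n5818 := d33_1 D8434 (iv D5818) D5816
def n8435 : Q := act 7 n5817
theorem D8435 : act 7 n5817 = n8435 := rfl
theorem F38037 : act 1 n8435 = n5985 := d14_1 D8435 (iv D5985) (iv F26841)
theorem F38038 : act 2 n8435 = n5823 := d21_1 D8435 (iv D5823) (iv F26842)
theorem F38041 : act 9 n8435 = n5848 := d43_2 (iv F26844) D8435 (iv D5848)
def n8436 : Q := act 8 n5817
theorem D8436 : act 8 n5817 = n8436 := rfl
theorem F38043 : act 2 n8436 = n5824 := d22_1 D8436 (iv D5824) (iv F26842)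
def n8437 : Q := act 3 n5818
theorem D8437 : act 3 n5818 = n8437 := rfl
theorem F38046 : act 5 n8437 = n5819 := d25_2 (iv F26847) D8437 (iv D5819)
def n8438 : Q := act 9 n5818
theorem D8438 : act 9 n5818 = n8438 := rfl
theorem F38050 : act 2 n8438 = n5825 := d23_1 D8438 (iv D5825) (iv F26846)
def n8440 : Q := act 9 n5819
theorem D8440 : act 9 n5819 = n8440 := rfl
theorem F38059 : act 3 n8440 = n5820 := d29_1 D8440 (iv D5820) D5819
def n8442 : Q := act 7 n5821
theorem D8442 : act 7 n5821 = n8442 := rfl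
theorem F38065 : act 1 n8442 = n5827 := d14_1 D8442 (iv D5827) (iv F26857)
theorem F38067 : act 4 n8442 = n5823 := d32_1 D8442 (iv D5823) (iv F26859)
theorem F38069 : act 9 n8442 = n5855 := d43_2 (iv F26860) D8442 (iv D5855)
def n8443 : Q := act 8 n5821
theorem D8443 : act 8 n5821 = n8443 := rfl
theorem F38072 : act 6 n8443 = n5822 := d40_1 D8443 (iv D5822) D5821
def n8444 : Q := act 3 n5822
theorem D8444 : act 3 n5822 = n8444 := rfl
theorem F38073 : act 1 n8444 = n5829 := d10_1 D8444 (iv D5829) (iv F26861)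
def n8445 : Q := act 9 n5822
theorem D8445 : act 9 n5822 = n8445 := rfl
theorem F38078 : act 4 n8445 = n5825 := d34_1 D8445 (iv D5825) (iv F26862)
def n8446 : Q := act 8 n5823
theorem D8446 : act 8 n5823 = n8446 := rfl
def n8447 : Q := act 9 n5824
theorem D8447 : act 9 n5824 = n8447 := rfl
theorem F38085 : act 1 n8447 = n5832 := d16_1 D8447 (iv D5832) (iv F26869)
def n8448 : Q := act 7 n5826
theorem D8448 : act 7 n5826 = n8448 := rfl
theorem F38090 : act 5 n8448 = n5827 := d36_1 D8448 (iv D5827) D5826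
def n8449 : Q := act 8 n5826
theorem D8449 : act 8 n5826 = n8449 := rfl
theorem F38092 : act 2 n8449 = n5999 := d22_1 D8449 (iv D5999) (iv F26875)
theorem F38093 : act 5 n8449 = n5828 := d37_1 D8449 (iv D5828) D5826
def n8450 : Q := act 8 n5827
theorem D8450 : act 8 n5827 = n8450 := rfl
theorem F38096 : act 4 n8450 = n5831 := d33_1 D8450 (iv D5831) (iv F26881)
theorem F38098 : act 7 n8450 = n5828 := d42_1 D8450 (iv D5828) D5827
def n8451 : Q := act 3 n5828
theorem D8451 : act 3 n5828 = n8451 := rfl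
theorem F38099 : act 6 n8451 = n5829 := d26_2 (iv F26886) D8451 (iv D5829)
def n8453 : Q := act 2 n5829
theorem D8453 : act 2 n5829 = n8453 := rfl
theorem F38105 : act 3 n8453 = n6003 := d17_2 D5829 D8453 (iv D6003) (iv D4145) (iv F19033)
def n8454 : Q := act 9 n5829
theorem D8454 : act 9 n5829 = n8454 := rfl
def n8457 : Q := act 6 n5833
theorem D8457 : act 6 n5833 = n8457 := rfl
def n8461 : Q := act 3 n5835
theorem D8461 : act 3 n5835 = n8461 := rfl
theorem F38135 : act 0 n8461 = n5845 := d2_1 D8461 (iv D5845) (iv F26909)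
def n8462 : Q := act 6 n5835
theorem D8462 : act 6 n5835 = n8462 := rfl
theorem F38140 : act 0 n8462 = n5846 := d5_1 D8462 (iv D5846) (iv F26909)
theorem F38141 : act 2 n8462 = n5840 := d20_1 D8462 (iv D5840) (iv F26910)
theorem F38142 : act 4 n8462 = n5836 := d31_1 D8462 (iv D5836) D5835
def n8463 : Q := act 8 n5835
theorem D8463 : act 8 n5835 = n8463 := rfl
def n8464 : Q := act 7 n5836
theorem D8464 : act 7 n5836 = n8464 := rfl
theorem F38148 : act 0 n8464 = n5848 := d6_1 D8464 (iv D5848) (iv F26913)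
theorem F38149 : act 2 n8464 = n5842 := d21_1 D8464 (iv D5842) (iv F26914)
def n8465 : Q := act 8 n5836
theorem D8465 : act 8 n5836 = n8465 := rfl
theorem F38153 : act 2 n8465 = n5843 := d22_1 D8465 (iv D5843) (iv F26914)
def n8467 : Q := act 9 n5837
theorem D8467 : act 9 n5837 = n8467 := rfl
def n8470 : Q := act 5 n5840
theorem D8470 : act 5 n5840 = n8470 := rfl
def n8471 : Q := act 7 n5840
theorem D8471 : act 7 n5840 = n8471 := rfl
theorem F38178 : act 4 n8471 = n5842 := d32_1 D8471 (iv D5842) (iv F26930)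
def n8472 : Q := act 8 n5840
theorem D8472 : act 8 n5840 = n8472 := rfl
theorem F38180 : act 0 n8472 = n5856 := d7_1 D8472 (iv D5856) (iv F26928)
theorem F38181 : act 4 n8472 = n5843 := d33_1 D8472 (iv D5843) (iv F26930)
theorem F38182 : act 6 n8472 = n5841 := d40_1 D8472 (iv D5841) D5840
def n8473 : Q := act 3 n5841
theorem D8473 : act 3 n5841 = n8473 := rfl
theorem F38183 : act 0 n8473 = n5857 := d2_1 D8473 (iv D5857) (iv F26931)
def n8474 : Q := act 9 n5841
theorem D8474 : act 9 n5841 = n8474 := rfl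
def n8475 : Q := act 8 n5842
theorem D8475 : act 8 n5842 = n8475 := rfl
theorem F38192 : act 0 n8475 = n5859 := d7_1 D8475 (iv D5859) (iv F26935)
def n8476 : Q := act 9 n5843
theorem D8476 : act 9 n5843 = n8476 := rfl
def n8477 : Q := act 6 n5845
theorem D8477 : act 6 n5845 = n8477 := rfl
theorem F38201 : act 3 n8477 = n5846 := d26_1 D8477 (iv D5846) D5845
def n8478 : Q := act 8 n5845
theorem D8478 : act 8 n5845 = n8478 := rfl
def n8479 : Q := act 5 n5846
theorem D8479 : act 5 n5846 = n8479 := rfl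
def n8480 : Q := act 7 n5846
theorem D8480 : act 7 n5846 = n8480 := rfl
theorem F38213 : act 4 n8480 = n5848 := d32_1 D8480 (iv D5848) (iv F26952)
def n8481 : Q := act 8 n5846
theorem D8481 : act 8 n5846 = n8481 := rfl
theorem F38216 : act 2 n8481 = n5856 := d22_1 D8481 (iv D5856) (iv F26951)
theorem F38217 : act 4 n8481 = n5849 := d33_1 D8481 (iv D5849) (iv F26952)
def n8482 : Q := act 3 n5847
theorem D8482 : act 3 n5847 = n8482 := rfl
def n8483 : Q := act 9 n5847
theorem D8483 : act 9 n5847 = n8483 := rfl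
theorem F38223 : act 2 n8483 = n5858 := d23_1 D8483 (iv D5858) (iv F26954)
theorem F38224 : act 4 n8483 = n5851 := d34_1 D8483 (iv D5851) (iv F26955)
def n8484 : Q := act 8 n5848
theorem D8484 : act 8 n5848 = n8484 := rfl
theorem F38228 : act 2 n8484 = n5859 := d22_1 D8484 (iv D5859) (iv F26959)
def n8485 : Q := act 3 n5849
theorem D8485 : act 3 n5849 = n8485 := rfl
def n8486 : Q := act 9 n5849
theorem D8486 : act 9 n5849 = n8486 := rfl
theorem F38236 : act 2 n8486 = n5860 := d23_1 D8486 (iv D5860) (iv F26963)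
def n8487 : Q := act 4 n5850
theorem D8487 : act 4 n5850 = n8487 := rfl
def n8488 : Q := act 9 n5850
theorem D8488 : act 9 n5850 = n8488 := rfl
theorem F38244 : act 3 n8488 = n5851 := d29_1 D8488 (iv D5851) D5850
theorem F38245 : act 5 n8488 = n5853 := d38_1 D8488 (iv D5853) (iv F26967)
def n8491 : Q := act 8 n5853
theorem D8491 : act 8 n5853 = n8491 := rfl
def n8493 : Q := act 8 n5854
theorem D8493 : act 8 n5854 = n8493 := rfl
theorem F38265 : act 5 n8493 = n5856 := d37_1 D8493 (iv D5856) D5854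
def n8494 : Q := act 8 n5855
theorem D8494 : act 8 n5855 = n8494 := rfl
theorem F38268 : act 4 n8494 = n5859 := d33_1 D8494 (iv D5859) (iv F26988)
theorem F38270 : act 7 n8494 = n5856 := d42_1 D8494 (iv D5856) D5855
def n8495 : Q := act 3 n5856
theorem D8495 : act 3 n5856 = n8495 := rfl
theorem F38273 : act 6 n8495 = n5857 := d26_2 (iv F26992) D8495 (iv D5857)
def n8496 : Q := act 9 n5856
theorem D8496 : act 9 n5856 = n8496 := rfl
theorem F38276 : act 4 n8496 = n5860 := d34_1 D8496 (iv D5860) (iv F26991)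
def n8497 : Q := act 2 n5857
theorem D8497 : act 2 n5857 = n8497 := rfl
def n8498 : Q := act 9 n5857
theorem D8498 : act 9 n5857 = n8498 := rfl
theorem F38283 : act 1 n8498 = n5866 := d16_1 D8498 (iv D5866) (iv F26993)
theorem F38284 : act 3 n8498 = n5858 := d29_1 D8498 (iv D5858) D5857
def n8499 : Q := act 9 n5859
theorem D8499 : act 9 n5859 = n8499 := rfl
def n8502 : Q := act 3 n5862
theorem D8502 : act 3 n5862 = n8502 := rfl
theorem F38300 : act 5 n8502 = n5864 := d25_2 (iv F27013) D8502 (iv D5864)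
def n8503 : Q := act 9 n5862
theorem D8503 : act 9 n5862 = n8503 := rfl
theorem F38304 : act 5 n8503 = n5865 := d38_1 D8503 (iv D5865) (iv F27013)
def n8506 : Q := act 9 n5864
theorem D8506 : act 9 n5864 = n8506 := rfl
def n8507 : Q := act 8 n5866
theorem D8507 : act 8 n5866 = n8507 := rfl
def n8508 : Q := act 1 n5868
theorem D8508 : act 1 n5868 = n8508 := rfl
theorem F38327 : act 7 n8508 = n5909 := d14_2 (iv F27039) D8508 (iv D5909)
theorem F38328 : act 9 n8508 = n5884 := d16_2 (iv F27040) D8508 (iv D5884)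
def n8509 : Q := act 5 n5868
theorem D8509 : act 5 n5868 = n8509 := rfl
theorem F38329 : act 0 n8509 = n5872 := d4_1 D8509 (iv D5872) (iv F27035)
theorem F38330 : act 2 n8509 = n5869 := d19_1 D8509 (iv D5869) D5868
theorem F38332 : act 7 n8509 = n5910 := d36_2 (iv F27039) D8509 (iv D5910)
theorem F38333 : act 9 n8509 = n5885 := d38_2 (iv F27040) D8509 (iv D5885)
def n8510 : Q := act 8 n5868
theorem D8510 : act 8 n5868 = n8510 := rfl
theorem F38334 : act 0 n8510 = n5873 := d7_1 D8510 (iv D5873) (iv F27035)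
theorem F38335 : act 2 n8510 = n5870 := d22_1 D8510 (iv D5870) D5868
theorem F38338 : act 7 n8510 = n5911 := d42_1 D8510 (iv D5911) (iv F27039)
def n8511 : Q := act 4 n5869
theorem D8511 : act 4 n5869 = n8511 := rfl
theorem F38339 : act 0 n8511 = n5874 := d3_1 D8511 (iv D5874) (iv F27041)
theorem F38342 : act 7 n8511 = n5912 := d32_2 (iv F27043) D8511 (iv D5912)
theorem F38343 : act 9 n8511 = n5887 := d34_2 (iv F27044) D8511 (iv D5887)
def n8512 : Q := act 6 n5869
theorem D8512 : act 6 n5869 = n8512 := rfl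
theorem F38344 : act 0 n8512 = n5875 := d5_1 D8512 (iv D5875) (iv F27041)
theorem F38345 : act 3 n8512 = n5871 := d26_1 D8512 (iv D5871) (iv F27042)
theorem F38347 : act 9 n8512 = n5888 := d41_2 (iv F27044) D8512 (iv D5888)
def n8513 : Q := act 8 n5869
theorem D8513 : act 8 n5869 = n8513 := rfl
def n8514 : Q := act 9 n5870
theorem D8514 : act 9 n5870 = n8514 := rfl
theorem F38356 : act 7 n8514 = n5915 := d43_1 D8514 (iv D5915) (iv F27049)
def n8515 : Q := act 7 n5871
theorem D8515 : act 7 n5871 = n8515 := rfl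
theorem F38358 : act 0 n8515 = n5878 := d6_1 D8515 (iv D5878) (iv F27050)
theorem F38364 : act 9 n8515 = n5891 := d43_2 (iv F27055) D8515 (iv D5891)
def n8516 : Q := act 4 n5872
theorem D8516 : act 4 n5872 = n8516 := rfl
theorem F38365 : act 2 n8516 = n5874 := d18_1 D8516 (iv D5874) (iv F27056)
theorem F38368 : act 9 n8516 = n5892 := d34_2 (iv F27059) D8516 (iv D5892)
def n8517 : Q := act 6 n5872
theorem D8517 : act 6 n5872 = n8517 := rfl
theorem F38369 : act 2 n8517 = n5875 := d20_1 D8517 (iv D5875) (iv F27056)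
theorem F38372 : act 9 n8517 = n5893 := d41_2 (iv F27059) D8517 (iv D5893)
def n8518 : Q := act 8 n5872
theorem D8518 : act 8 n5872 = n8518 := rfl
theorem F38373 : act 2 n8518 = n5876 := d22_1 D8518 (iv D5876) (iv F27056)
theorem F38375 : act 7 n8518 = n5919 := d42_1 D8518 (iv D5919) (iv F27058)
def n8519 : Q := act 3 n5873
theorem D8519 : act 3 n5873 = n8519 := rfl
theorem F38378 : act 7 n8519 = n5920 := d27_2 (iv F27063) D8519 (iv D5920)
def n8520 : Q := act 9 n5873
theorem D8520 : act 9 n5873 = n8520 := rfl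
theorem F38380 : act 2 n8520 = n5877 := d23_1 D8520 (iv D5877) (iv F27060)
theorem F38384 : act 8 n8520 = n5896 := d44_1 D8520 (iv D5896) (iv D4072) (iv F19155) D5873
def n8521 : Q := act 6 n5874
theorem D8521 : act 6 n5874 = n8521 := rfl
theorem F38387 : act 4 n8521 = n5875 := d31_1 D8521 (iv D5875) D5874
def n8522 : Q := act 8 n5874
theorem D8522 : act 8 n5874 = n8522 := rfl
theorem F38390 : act 4 n8522 = n5876 := d33_1 D8522 (iv D5876) D5874
theorem F38392 : act 7 n8522 = n5923 := d42_1 D8522 (iv D5923) (iv F27067)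
def n8523 : Q := act 7 n5875
theorem D8523 : act 7 n5875 = n8523 := rfl
theorem F38393 : act 1 n8523 = n5881 := d14_1 D8523 (iv D5881) (iv F27069)
theorem F38394 : act 3 n8523 = n5878 := d27_1 D8523 (iv D5878) (iv F27070)
def n8524 : Q := act 8 n5875
theorem D8524 : act 8 n5875 = n8524 := rfl
theorem F38398 : act 1 n8524 = n5882 := d15_1 D8524 (iv D5882) (iv F27069)
def n8525 : Q := act 9 n5876
theorem D8525 : act 9 n5876 = n8525 := rfl
theorem F38402 : act 1 n8525 = n5883 := d16_1 D8525 (iv D5883) (iv F27073)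
def n8529 : Q := act 3 n5880
theorem D8529 : act 3 n5880 = n8529 := rfl
theorem F38419 : act 7 n8529 = n5930 := d27_2 (iv F27095) D8529 (iv D5930)
def n8530 : Q := act 9 n5880
theorem D8530 : act 9 n5880 = n8530 := rfl
theorem F38421 : act 4 n8530 = n5883 := d34_1 D8530 (iv D5883) (iv F27093)
theorem F38424 : act 8 n8530 = n5906 := d44_1 D8530 (iv D5906) (iv D4079) (iv F19174) D5880
def n8531 : Q := act 8 n5881
theorem D8531 : act 8 n5881 = n8531 := rfl
def n8533 : Q := act 5 n5884
theorem D8533 : act 5 n5884 = n8533 := rfl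
def n8535 : Q := act 4 n5885
theorem D8535 : act 4 n5885 = n8535 := rfl
theorem F38440 : act 0 n8535 = n5892 := d3_1 D8535 (iv D5892) (iv F27111)
def n8536 : Q := act 6 n5885
theorem D8536 : act 6 n5885 = n8536 := rfl
theorem F38445 : act 2 n8536 = n5888 := d20_1 D8536 (iv D5888) (iv F27112)
def n8537 : Q := act 8 n5885
theorem D8537 : act 8 n5885 = n8537 := rfl
theorem F38449 : act 2 n8537 = n5889 := d22_1 D8537 (iv D5889) (iv F27112)
def n8540 : Q := act 6 n5887
theorem D8540 : act 6 n5887 = n8540 := rfl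
theorem F38462 : act 0 n8540 = n5897 := d5_1 D8540 (iv D5897) (iv F27120)
theorem F38464 : act 4 n8540 = n5888 := d31_1 D8540 (iv D5888) D5887
def n8541 : Q := act 8 n5887
theorem D8541 : act 8 n5887 = n8541 := rfl
theorem F38465 : act 0 n8541 = n5898 := d7_1 D8541 (iv D5898) (iv F27120)
theorem F38466 : act 4 n8541 = n5889 := d33_1 D8541 (iv D5889) D5887
theorem F38468 : act 7 n8541 = n5942 := d42_1 D8541 (iv D5942) (iv F27123)
def n8542 : Q := act 7 n5888
theorem D8542 : act 7 n5888 = n8542 := rfl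
theorem F38470 : act 3 n8542 = n5891 := d27_1 D8542 (iv D5891) (iv F27125)
def n8543 : Q := act 8 n5888
theorem D8543 : act 8 n5888 = n8543 := rfl
theorem F38474 : act 3 n8543 = n6111 := d28_1 D8543 (iv D6111) F19809 (iv F19209) (iv F27125)
def n8544 : Q := act 9 n5889
theorem D8544 : act 9 n5889 = n8544 := rfl
theorem F38480 : act 7 n8544 = n5945 := d43_1 D8544 (iv D5945) (iv F27130)
def n8547 : Q := act 8 n5892
theorem D8547 : act 8 n5892 = n8547 := rfl
theorem F38488 : act 4 n8547 = n5894 := d33_1 D8547 (iv D5894) D5892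
def n8548 : Q := act 7 n5893
theorem D8548 : act 7 n5893 = n8548 := rfl
theorem F38491 : act 2 n8548 = n5899 := d21_1 D8548 (iv D5899) (iv F27145)
def n8549 : Q := act 8 n5893
theorem D8549 : act 8 n5893 = n8549 := rfl
theorem F38495 : act 2 n8549 = n5900 := d22_1 D8549 (iv D5900) (iv F27145)
def n8550 : Q := act 3 n5894
theorem D8550 : act 3 n5894 = n8550 := rfl
def n8551 : Q := act 9 n5894
theorem D8551 : act 9 n5894 = n8551 := rfl
def n8552 : Q := act 4 n5895
theorem D8552 : act 4 n5895 = n8552 := rfl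
theorem F38505 : act 2 n8552 = n6120 := d18_1 D8552 (iv D6120) (iv F27151)
def n8553 : Q := act 9 n5895
theorem D8553 : act 9 n5895 = n8553 := rfl
theorem F38510 : act 2 n8553 = n6121 := d23_1 D8553 (iv D6121) (iv F27151)
theorem F38511 : act 3 n8553 = n5896 := d29_1 D8553 (iv D5896) D5895
def n8554 : Q := act 5 n5897
theorem D8554 : act 5 n5897 = n8554 := rfl
theorem F38514 : act 1 n8554 = n5902 := d12_1 D8554 (iv D5902) (iv F27159)
def n8555 : Q := act 7 n5897
theorem D8555 : act 7 n5897 = n8555 := rfl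
theorem F38518 : act 1 n8555 = n5903 := d14_1 D8555 (iv D5903) (iv F27159)
theorem F38520 : act 4 n8555 = n5899 := d32_1 D8555 (iv D5899) (iv F27161)
def n8556 : Q := act 8 n5897
theorem D8556 : act 8 n5897 = n8556 := rfl
theorem F38522 : act 1 n8556 = n5904 := d15_1 D8556 (iv D5904) (iv F27159)
theorem F38523 : act 4 n8556 = n5900 := d33_1 D8556 (iv D5900) (iv F27161)
def n8557 : Q := act 3 n5898
theorem D8557 : act 3 n5898 = n8557 := rfl
theorem F38525 : act 1 n8557 = n5905 := d10_1 D8557 (iv D5905) (iv F27162)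
theorem F38526 : act 4 n8557 = n6125 := d24_2 (iv F27163) D8557 (iv D6125) F19855 (iv F19225)
theorem F38528 : act 7 n8557 = n5958 := d27_2 (iv F27165) D8557 (iv D5958)
def n8558 : Q := act 9 n5898
theorem D8558 : act 9 n5898 = n8558 := rfl
def n8559 : Q := act 8 n5899
theorem D8559 : act 8 n5899 = n8559 := rfl
theorem F38535 : act 3 n8559 = n6127 := d28_1 D8559 (iv D6127) F19859 (iv F19238) (iv F27167)
def n8562 : Q := act 8 n5902
theorem D8562 : act 8 n5902 = n8562 := rfl
theorem F38547 : act 5 n8562 = n5904 := d37_1 D8562 (iv D5904) D5902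
def n8563 : Q := act 8 n5903
theorem D8563 : act 8 n5903 = n8563 := rfl
theorem F38549 : act 4 n8563 = n5907 := d33_1 D8563 (iv D5907) (iv F27182)
theorem F38550 : act 6 n8563 = n5964 := d40_1 D8563 (iv D5964) (iv F27183)
theorem F38551 : act 7 n8563 = n5904 := d42_1 D8563 (iv D5904) D5903
def n8564 : Q := act 3 n5904
theorem D8564 : act 3 n5904 = n8564 := rfl
theorem F38552 : act 4 n8564 = n6132 := d24_2 (iv F27184) D8564 (iv D6132) F19881 (iv F19247)
theorem F38553 : act 6 n8564 = n5905 := d26_2 (iv F27185) D8564 (iv D5905)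
def n8565 : Q := act 9 n5904
theorem D8565 : act 9 n5904 = n8565 := rfl
theorem F38555 : act 4 n8565 = n5908 := d34_1 D8565 (iv D5908) (iv F27184)
def n8566 : Q := act 2 n5905
theorem D8566 : act 2 n5905 = n8566 := rfl
theorem F38557 : act 4 n8566 = n6134 := d18_2 (iv F27186) D8566 (iv D6134)
theorem F38559 : act 7 n8566 = n5967 := d21_2 (iv F27188) D8566 (iv D5967)
def n8567 : Q := act 9 n5905
theorem D8567 : act 9 n5905 = n8567 := rfl
theorem F38561 : act 3 n8567 = n5906 := d29_1 D8567 (iv D5906) D5905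
theorem F38562 : act 4 n8567 = n6135 := d34_1 D8567 (iv D6135) (iv F27186)
theorem F38564 : act 7 n8567 = n5968 := d43_1 D8567 (iv D5968) (iv F27188)
def n8568 : Q := act 9 n5907
theorem D8568 : act 9 n5907 = n8568 := rfl
def n8569 : Q := act 5 n5909
theorem D8569 : act 5 n5909 = n8569 := rfl
theorem F38571 : act 9 n8569 = n5934 := d38_2 (iv F27203) D8569 (iv D5934)
def n8570 : Q := act 8 n5909
theorem D8570 : act 8 n5909 = n8570 := rfl
theorem F38574 : act 6 n8570 = n5971 := d40_1 D8570 (iv D5971) (iv F27202)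
def n8571 : Q := act 4 n5910
theorem D8571 : act 4 n5910 = n8571 := rfl
theorem F38578 : act 9 n8571 = n5936 := d34_2 (iv F27207) D8571 (iv D5936)
def n8572 : Q := act 6 n5910
theorem D8572 : act 6 n5910 = n8572 := rfl
theorem F38579 : act 0 n8572 = n5918 := d5_1 D8572 (iv D5918) (iv F27204)
theorem F38580 : act 2 n8572 = n5913 := d20_1 D8572 (iv D5913) (iv F27205)
theorem F38582 : act 5 n8572 = n5973 := d35_1 D8572 (iv D5973) (iv D4125) (iv F19256) D5910
theorem F38583 : act 9 n8572 = n5937 := d41_2 (iv F27207) D8572 (iv D5937)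
def n8573 : Q := act 8 n5910
theorem D8573 : act 8 n5910 = n8573 := rfl
theorem F38585 : act 2 n8573 = n5914 := d22_1 D8573 (iv D5914) (iv F27205)
def n8575 : Q := act 9 n5911
theorem D8575 : act 9 n5911 = n8575 := rfl
theorem F38594 : act 6 n8575 = n5976 := d41_1 D8575 (iv D5976) (iv F27211)
def n8576 : Q := act 6 n5912
theorem D8576 : act 6 n5912 = n8576 := rfl
theorem F38596 : act 0 n8576 = n5922 := d5_1 D8576 (iv D5922) (iv F27212)
theorem F38598 : act 4 n8576 = n5913 := d31_1 D8576 (iv D5913) D5912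
theorem F38599 : act 9 n8576 = n5941 := d41_2 (iv F27215) D8576 (iv D5941)
def n8577 : Q := act 8 n5912
theorem D8577 : act 8 n5912 = n8577 := rfl
theorem F38601 : act 4 n8577 = n5914 := d33_1 D8577 (iv D5914) D5912
def n8578 : Q := act 7 n5913
theorem D8578 : act 7 n5913 = n8578 := rfl
theorem F38603 : act 0 n8578 = n5924 := d6_1 D8578 (iv D5924) (iv F27216)
theorem F38604 : act 3 n8578 = n5916 := d27_1 D8578 (iv D5916) (iv F27217)
theorem F38605 : act 5 n8578 = n5979 := d36_1 D8578 (iv D5979) (iv F27218)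
theorem F38606 : act 9 n8578 = n5943 := d43_2 (iv F27219) D8578 (iv D5943)
def n8580 : Q := act 9 n5914
theorem D8580 : act 9 n5914 = n8580 := rfl
def n8584 : Q := act 7 n5918
theorem D8584 : act 7 n5918 = n8584 := rfl
theorem F38625 : act 2 n8584 = n5924 := d21_1 D8584 (iv D5924) (iv F27237)
theorem F38628 : act 9 n8584 = n5949 := d43_2 (iv F27240) D8584 (iv D5949)
def n8585 : Q := act 8 n5918
theorem D8585 : act 8 n5918 = n8585 := rfl
theorem F38629 : act 2 n8585 = n5925 := d22_1 D8585 (iv D5925) (iv F27237)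
theorem F38630 : act 5 n8585 = n5986 := d37_1 D8585 (iv D5986) (iv F27239)
theorem F38631 : act 6 n8585 = n5919 := d40_1 D8585 (iv D5919) D5918
def n8586 : Q := act 3 n5919
theorem D8586 : act 3 n5919 = n8586 := rfl
def n8587 : Q := act 9 n5919
theorem D8587 : act 9 n5919 = n8587 := rfl
theorem F38635 : act 2 n8587 = n5926 := d23_1 D8587 (iv D5926) (iv F27241)
def n8589 : Q := act 9 n5920
theorem D8589 : act 9 n5920 = n8589 := rfl
theorem F38643 : act 3 n8589 = n5921 := d29_1 D8589 (iv D5921) D5920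
theorem F38644 : act 6 n8589 = n5990 := d41_1 D8589 (iv D5990) (iv F27244)
def n8590 : Q := act 5 n5922
theorem D8590 : act 5 n5922 = n8590 := rfl
theorem F38649 : act 9 n8590 = n5955 := d38_2 (iv F27253) D8590 (iv D5955)
def n8592 : Q := act 8 n5922
theorem D8592 : act 8 n5922 = n8592 := rfl
theorem F38656 : act 6 n8592 = n5923 := d40_1 D8592 (iv D5923) D5922
def n8593 : Q := act 3 n5923
theorem D8593 : act 3 n5923 = n8593 := rfl
def n8594 : Q := act 9 n5923
theorem D8594 : act 9 n5923 = n8594 := rfl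
theorem F38661 : act 1 n8594 = n5931 := d16_1 D8594 (iv D5931) (iv F27254)
theorem F38662 : act 4 n8594 = n5926 := d34_1 D8594 (iv D5926) (iv F27255)
def n8595 : Q := act 8 n5924
theorem D8595 : act 8 n5924 = n8595 := rfl
theorem F38665 : act 1 n8595 = n5932 := d15_1 D8595 (iv D5932) (iv F27257)
theorem F38667 : act 5 n8595 = n5996 := d37_1 D8595 (iv D5996) (iv F27259)
def n8596 : Q := act 9 n5925
theorem D8596 : act 9 n5925 = n8596 := rfl
theorem F38669 : act 1 n8596 = n5933 := d16_1 D8596 (iv D5933) (iv F27261)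
def n8598 : Q := act 8 n5927
theorem D8598 : act 8 n5927 = n8598 := rfl
theorem F38679 : act 5 n8598 = n5929 := d37_1 D8598 (iv D5929) D5927
def n8599 : Q := act 8 n5928
theorem D8599 : act 8 n5928 = n8599 := rfl
theorem F38681 : act 4 n8599 = n5932 := d33_1 D8599 (iv D5932) (iv F27274)
def n8600 : Q := act 3 n5929
theorem D8600 : act 3 n5929 = n8600 := rfl
theorem F38684 : act 6 n8600 = n5930 := d26_2 (iv F27277) D8600 (iv D5930)
def n8601 : Q := act 9 n5929
theorem D8601 : act 9 n5929 = n8601 := rfl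
theorem F38687 : act 6 n8601 = n5931 := d41_1 D8601 (iv D5931) (iv F27277)
def n8603 : Q := act 9 n5930
theorem D8603 : act 9 n5930 = n8603 := rfl
theorem F38692 : act 3 n8603 = n5931 := d29_1 D8603 (iv D5931) D5930
def n8604 : Q := act 9 n5932
theorem D8604 : act 9 n5932 = n8604 := rfl
theorem F38696 : act 5 n8604 = n6005 := d38_1 D8604 (iv D6005) (iv F27285)
def n8605 : Q := act 4 n5934
theorem D8605 : act 4 n5934 = n8605 := rfl
def n8606 : Q := act 6 n5934
theorem D8606 : act 6 n5934 = n8606 := rfl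
theorem F38703 : act 5 n8606 = n6007 := d35_1 D8606 (iv D6007) (iv D4149) (iv F19315) D5934
def n8611 : Q := act 6 n5936
theorem D8611 : act 6 n5936 = n8611 := rfl
theorem F38716 : act 0 n8611 = n5947 := d5_1 D8611 (iv D5947) (iv F27296)
theorem F38718 : act 4 n8611 = n5937 := d31_1 D8611 (iv D5937) D5936
def n8612 : Q := act 8 n5936
theorem D8612 : act 8 n5936 = n8612 := rfl
theorem F38719 : act 0 n8612 = n5948 := d7_1 D8612 (iv D5948) (iv F27296)
theorem F38720 : act 2 n8612 = n5942 := d22_1 D8612 (iv D5942) (iv F27297)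
def n8613 : Q := act 7 n5937
theorem D8613 : act 7 n5937 = n8613 := rfl
theorem F38724 : act 2 n8613 = n5943 := d21_1 D8613 (iv D5943) (iv F27300)
def n8614 : Q := act 8 n5937
theorem D8614 : act 8 n5937 = n8614 := rfl
theorem F38728 : act 2 n8614 = n5944 := d22_1 D8614 (iv D5944) (iv F27300)
def n8619 : Q := act 5 n5941
theorem D8619 : act 5 n5941 = n8619 := rfl
theorem F38747 : act 0 n8619 = n5955 := d4_1 D8619 (iv D5955) (iv F27314)
theorem F38749 : act 4 n8619 = n6020 := d30_1 D8619 (iv D6020) F19511 (iv F19328) (iv F27316)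
def n8621 : Q := act 8 n5941
theorem D8621 : act 8 n5941 = n8621 := rfl
theorem F38754 : act 0 n8621 = n5957 := d7_1 D8621 (iv D5957) (iv F27314)
theorem F38755 : act 4 n8621 = n5944 := d33_1 D8621 (iv D5944) (iv F27316)
theorem F38756 : act 6 n8621 = n5942 := d40_1 D8621 (iv D5942) D5941
def n8622 : Q := act 3 n5942
theorem D8622 : act 3 n5942 = n8622 := rfl
def n8623 : Q := act 9 n5942
theorem D8623 : act 9 n5942 = n8623 := rfl
def n8624 : Q := act 8 n5943
theorem D8624 : act 8 n5943 = n8624 := rfl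
theorem F38764 : act 0 n8624 = n5960 := d7_1 D8624 (iv D5960) (iv F27320)
theorem F38765 : act 3 n8624 = n6155 := d28_1 D8624 (iv D6155) F19936 (iv F19340) (iv F27321)
theorem F38766 : act 5 n8624 = n6024 := d37_1 D8624 (iv D6024) (iv F27322)
theorem F38767 : act 7 n8624 = n5944 := d42_1 D8624 (iv D5944) D5943
def n8625 : Q := act 9 n5944
theorem D8625 : act 9 n5944 = n8625 := rfl
theorem F38770 : act 5 n8625 = n6025 := d38_1 D8625 (iv D6025) (iv F27325)
def n8628 : Q := act 5 n5947
theorem D8628 : act 5 n5947 = n8628 := rfl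
theorem F38779 : act 4 n8628 = n6028 := d30_1 D8628 (iv D6028) F19532 (iv F19345) (iv F27334)
def n8630 : Q := act 8 n5947
theorem D8630 : act 8 n5947 = n8630 := rfl
theorem F38785 : act 6 n8630 = n5948 := d40_1 D8630 (iv D5948) D5947
def n8632 : Q := act 9 n5948
theorem D8632 : act 9 n5948 = n8632 := rfl
theorem F38787 : act 2 n8632 = n5959 := d23_1 D8632 (iv D5959) (iv F27335)
def n8633 : Q := act 8 n5949
theorem D8633 : act 8 n5949 = n8633 := rfl
theorem F38790 : act 2 n8633 = n5960 := d22_1 D8633 (iv D5960) (iv F27338)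
def n8641 : Q := act 7 n5955
theorem D8641 : act 7 n5955 = n8641 := rfl
theorem F38815 : act 1 n8641 = n5962 := d14_1 D8641 (iv D5962) (iv F27356)
theorem F38817 : act 4 n8641 = n6041 := d32_1 D8641 (iv D6041) (iv F27358)
def n8642 : Q := act 8 n5955
theorem D8642 : act 8 n5955 = n8642 := rfl
theorem F38819 : act 1 n8642 = n5963 := d15_1 D8642 (iv D5963) (iv F27356)
theorem F38820 : act 4 n8642 = n6042 := d33_1 D8642 (iv D6042) (iv F27358)
theorem F38821 : act 5 n8642 = n5957 := d37_1 D8642 (iv D5957) D5955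
def n8643 : Q := act 8 n5956
theorem D8643 : act 8 n5956 = n8643 := rfl
theorem F38823 : act 1 n8643 = n5964 := d15_1 D8643 (iv D5964) (iv F27360)
theorem F38824 : act 4 n8643 = n5960 := d33_1 D8643 (iv D5960) (iv F27362)
def n8644 : Q := act 3 n5957
theorem D8644 : act 3 n5957 = n8644 := rfl
theorem F38826 : act 1 n8644 = n5965 := d10_1 D8644 (iv D5965) (iv F27363)
theorem F38827 : act 4 n8644 = n6172 := d24_2 (iv F27364) D8644 (iv D6172) F19988 (iv F19364)
theorem F38828 : act 6 n8644 = n5958 := d26_2 (iv F27365) D8644 (iv D5958)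
def n8645 : Q := act 9 n5957
theorem D8645 : act 9 n5957 = n8645 := rfl
def n8646 : Q := act 2 n5958
theorem D8646 : act 2 n5958 = n8646 := rfl
theorem F38833 : act 4 n8646 = n6174 := d18_2 (iv F27367) D8646 (iv D6174)
def n8647 : Q := act 9 n5958
theorem D8647 : act 9 n5958 = n8647 := rfl
theorem F38837 : act 3 n8647 = n5959 := d29_1 D8647 (iv D5959) D5958
def n8650 : Q := act 8 n5962
theorem D8650 : act 8 n5962 = n8650 := rfl
theorem F38847 : act 4 n8650 = n6047 := d33_1 D8650 (iv D6047) (iv F27382)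
theorem F38848 : act 5 n8650 = n5964 := d37_1 D8650 (iv D5964) (iv F27383)
def n8651 : Q := act 3 n5963
theorem D8651 : act 3 n5963 = n8651 := rfl
theorem F38851 : act 5 n8651 = n5965 := d25_2 (iv F27385) D8651 (iv D5965)
def n8652 : Q := act 9 n5963
theorem D8652 : act 9 n5963 = n8652 := rfl
def n8653 : Q := act 3 n5964
theorem D8653 : act 3 n5964 = n8653 := rfl
theorem F38858 : act 7 n8653 = n5965 := d27_2 (iv F27388) D8653 (iv D5965)
def n8654 : Q := act 9 n5964
theorem D8654 : act 9 n5964 = n8654 := rfl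
theorem F38860 : act 4 n8654 = n5969 := d34_1 D8654 (iv D5969) (iv F27387)
def n8655 : Q := act 2 n5965
theorem D8655 : act 2 n5965 = n8655 := rfl
theorem F38862 : act 4 n8655 = n6179 := d18_2 (iv F27389) D8655 (iv D6179)
theorem F38863 : act 6 n8655 = n5967 := d20_2 (iv F27390) D8655 (iv D5967)
def n8656 : Q := act 9 n5965
theorem D8656 : act 9 n5965 = n8656 := rfl
theorem F38865 : act 3 n8656 = n5966 := d29_1 D8656 (iv D5966) D5965
theorem F38867 : act 6 n8656 = n5968 := d41_1 D8656 (iv D5968) (iv F27390)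
def n8657 : Q := act 1 n5967
theorem D8657 : act 1 n5967 = n8657 := rfl
theorem F38868 : act 4 n8657 = n6181 := d11_2 (iv F27394) D8657 (iv D6181)
def n8658 : Q := act 9 n5967
theorem D8658 : act 9 n5967 = n8658 := rfl
theorem F38871 : act 2 n8658 = n5968 := d23_1 D8658 (iv D5968) D5967
theorem F38872 : act 4 n8658 = n6182 := d34_1 D8658 (iv D6182) (iv F27394)
def n8659 : Q := act 8 n5968
theorem D8659 : act 8 n5968 = n8659 := rfl
def n8660 : Q := act 4 n5970
theorem D8660 : act 4 n5970 = n8660 := rfl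
theorem F38877 : act 1 n8660 = n5972 := d11_1 D8660 (iv D5972) (iv F27403)
theorem F38880 : act 9 n8660 = n6006 := d34_2 (iv F27406) D8660 (iv D6006)
def n8661 : Q := act 6 n5970
theorem D8661 : act 6 n5970 = n8661 := rfl
theorem F38883 : act 9 n8661 = n6007 := d41_2 (iv F27406) D8661 (iv D6007)
def n8662 : Q := act 8 n5970
theorem D8662 : act 8 n5970 = n8662 := rfl
theorem F38885 : act 5 n8662 = n5971 := d37_1 D8662 (iv D5971) D5970
def n8665 : Q := act 3 n5972
theorem D8665 : act 3 n5972 = n8665 := rfl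
theorem F38895 : act 2 n8665 = n6054 := d17_1 D8665 (iv D6054) F19606 (iv F19402) (iv F27411)
theorem F38899 : act 9 n8665 = n6011 := d29_2 (iv F27414) D8665 (iv D6011)
def n8666 : Q := act 6 n5972
theorem D8666 : act 6 n5972 = n8666 := rfl
theorem F38900 : act 0 n8666 = n5983 := d5_1 D8666 (iv D5983) (iv F27410)
theorem F38901 : act 2 n8666 = n5977 := d20_1 D8666 (iv D5977) (iv F27411)
theorem F38902 : act 4 n8666 = n5973 := d31_1 D8666 (iv D5973) D5972
theorem F38903 : act 9 n8666 = n6012 := d41_2 (iv F27414) D8666 (iv D6012)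
def n8667 : Q := act 8 n5972
theorem D8667 : act 8 n5972 = n8667 := rfl
theorem F38904 : act 0 n8667 = n5984 := d7_1 D8667 (iv D5984) (iv F27410)
theorem F38906 : act 4 n8667 = n5974 := d33_1 D8667 (iv D5974) D5972
def n8668 : Q := act 7 n5973
theorem D8668 : act 7 n5973 = n8668 := rfl
theorem F38909 : act 0 n8668 = n5985 := d6_1 D8668 (iv D5985) (iv F27415)
theorem F38910 : act 2 n8668 = n5979 := d21_1 D8668 (iv D5979) (iv F27416)
def n8669 : Q := act 8 n5973
theorem D8669 : act 8 n5973 = n8669 := rfl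
theorem F38915 : act 2 n8669 = n5980 := d22_1 D8669 (iv D5980) (iv F27416)
def n8671 : Q := act 9 n5974
theorem D8671 : act 9 n5974 = n8671 := rfl
theorem F38924 : act 5 n8671 = n5976 := d38_1 D8671 (iv D5976) (iv F27421)
def n8674 : Q := act 5 n5977
theorem D8674 : act 5 n5977 = n8674 := rfl
theorem F38936 : act 0 n8674 = n5991 := d4_1 D8674 (iv D5991) (iv F27432)
theorem F38937 : act 3 n8674 = n6061 := d25_1 D8674 (iv D6061) (iv F27433)
theorem F38939 : act 9 n8674 = n6020 := d38_2 (iv F27435) D8674 (iv D6020)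
def n8675 : Q := act 7 n5977
theorem D8675 : act 7 n5977 = n8675 := rfl
theorem F38940 : act 0 n8675 = n5992 := d6_1 D8675 (iv D5992) (iv F27432)
theorem F38941 : act 3 n8675 = n6062 := d27_1 D8675 (iv D6062) (iv F27433)
theorem F38942 : act 4 n8675 = n5979 := d32_1 D8675 (iv D5979) (iv F27434)
theorem F38944 : act 9 n8675 = n6021 := d43_2 (iv F27435) D8675 (iv D6021)
def n8676 : Q := act 8 n5977
theorem D8676 : act 8 n5977 = n8676 := rfl
theorem F38945 : act 0 n8676 = n5993 := d7_1 D8676 (iv D5993) (iv F27432)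
theorem F38946 : act 4 n8676 = n5980 := d33_1 D8676 (iv D5980) (iv F27434)
def n8677 : Q := act 3 n5978
theorem D8677 : act 3 n5978 = n8677 := rfl
theorem F38948 : act 0 n8677 = n5994 := d2_1 D8677 (iv D5994) (iv F27436)
theorem F38952 : act 8 n8677 = n6064 := d28_2 D5978 D8677 (iv D6064) (iv D4188) (iv F19402)
def n8678 : Q := act 9 n5978
theorem D8678 : act 9 n5978 = n8678 := rfl
theorem F38954 : act 4 n8678 = n5981 := d34_1 D8678 (iv D5981) (iv F27437)
def n8679 : Q := act 8 n5979
theorem D8679 : act 8 n5979 = n8679 := rfl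
def n8680 : Q := act 9 n5980
theorem D8680 : act 9 n5980 = n8680 := rfl
def n8681 : Q := act 6 n5982
theorem D8681 : act 6 n5982 = n8681 := rfl
theorem F38966 : act 2 n8681 = n6066 := d20_1 D8681 (iv D6066) (iv F27452)
theorem F38967 : act 3 n8681 = n5983 := d26_1 D8681 (iv D5983) D5982
theorem F38969 : act 9 n8681 = n6026 := d41_2 (iv F27456) D8681 (iv D6026)
def n8682 : Q := act 8 n5982
theorem D8682 : act 8 n5982 = n8682 := rfl
theorem F38970 : act 2 n8682 = n6067 := d22_1 D8682 (iv D6067) (iv F27452)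
def n8684 : Q := act 7 n5983
theorem D8684 : act 7 n5983 = n8684 := rfl
theorem F38977 : act 2 n8684 = n5992 := d21_1 D8684 (iv D5992) (iv F27457)
theorem F38978 : act 4 n8684 = n5985 := d32_1 D8684 (iv D5985) (iv F27458)
theorem F38980 : act 9 n8684 = n6029 := d43_2 (iv F27459) D8684 (iv D6029)
def n8685 : Q := act 8 n5983
theorem D8685 : act 8 n5983 = n8685 := rfl
theorem F38982 : act 4 n8685 = n5986 := d33_1 D8685 (iv D5986) (iv F27458)
def n8686 : Q := act 3 n5984
theorem D8686 : act 3 n5984 = n8686 := rfl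
def n8687 : Q := act 9 n5984
theorem D8687 : act 9 n5984 = n8687 := rfl
theorem F38987 : act 4 n8687 = n5988 := d34_1 D8687 (iv D5988) (iv F27461)
def n8688 : Q := act 8 n5985
theorem D8688 : act 8 n5985 = n8688 := rfl
theorem F38991 : act 2 n8688 = n5996 := d22_1 D8688 (iv D5996) (iv F27464)
def n8689 : Q := act 3 n5986
theorem D8689 : act 3 n5986 = n8689 := rfl
def n8690 : Q := act 9 n5986
theorem D8690 : act 9 n5986 = n8690 := rfl
theorem F38997 : act 2 n8690 = n5997 := d23_1 D8690 (iv D5997) (iv F27468)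
def n8692 : Q := act 9 n5987
theorem D8692 : act 9 n5987 = n8692 := rfl
theorem F39004 : act 3 n8692 = n5988 := d29_1 D8692 (iv D5988) D5987
theorem F39005 : act 5 n8692 = n5990 := d38_1 D8692 (iv D5990) (iv F27471)
def n8695 : Q := act 8 n5990
theorem D8695 : act 8 n5990 = n8695 := rfl
def n8697 : Q := act 8 n5991
theorem D8697 : act 8 n5991 = n8697 := rfl
theorem F39024 : act 5 n8697 = n5993 := d37_1 D8697 (iv D5993) D5991
def n8698 : Q := act 8 n5992
theorem D8698 : act 8 n5992 = n8698 := rfl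
theorem F39029 : act 7 n8698 = n5993 := d42_1 D8698 (iv D5993) D5992
def n8699 : Q := act 3 n5993
theorem D8699 : act 3 n5993 = n8699 := rfl
theorem F39030 : act 1 n8699 = n6001 := d10_1 D8699 (iv D6001) (iv F27494)
theorem F39033 : act 8 n8699 = n6079 := d28_2 D5993 D8699 (iv D6079) (iv D4200) (iv F19442)
def n8700 : Q := act 9 n5993
theorem D8700 : act 9 n5993 = n8700 := rfl
theorem F39035 : act 4 n8700 = n5997 := d34_1 D8700 (iv D5997) (iv F27495)
def n8701 : Q := act 2 n5994
theorem D8701 : act 2 n5994 = n8701 := rfl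
theorem F39041 : act 8 n8701 = n6080 := d22_2 (iv F27501) D8701 (iv D6080)
def n8702 : Q := act 9 n5994
theorem D8702 : act 9 n5994 = n8702 := rfl
theorem F39042 : act 1 n8702 = n6004 := d16_1 D8702 (iv D6004) (iv F27497)
theorem F39043 : act 3 n8702 = n5995 := d29_1 D8702 (iv D5995) D5994
def n8703 : Q := act 9 n5996
theorem D8703 : act 9 n5996 = n8703 := rfl
def n8705 : Q := act 8 n5998
theorem D8705 : act 8 n5998 = n8705 := rfl
theorem F39057 : act 5 n8705 = n6000 := d37_1 D8705 (iv D6000) (iv F27516)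
def n8706 : Q := act 3 n5999
theorem D8706 : act 3 n5999 = n8706 := rfl
theorem F39059 : act 5 n8706 = n6001 := d25_2 (iv F27518) D8706 (iv D6001)
theorem F39061 : act 8 n8706 = n6083 := d28_2 D5999 D8706 (iv D6083) (iv D4204) (iv F19461)
def n8707 : Q := act 9 n5999
theorem D8707 : act 9 n5999 = n8707 := rfl
theorem F39064 : act 8 n8707 = n6048 := d44_1 D8707 (iv D6048) (iv D4177) (iv F19463) D5999
def n8708 : Q := act 3 n6000
theorem D8708 : act 3 n6000 = n8708 := rfl
theorem F39067 : act 7 n8708 = n6001 := d27_2 (iv F27522) D8708 (iv D6001)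
theorem F39068 : act 8 n8708 = n6084 := d28_2 D6000 D8708 (iv D6084) (iv D4205) (iv F19464)
def n8709 : Q := act 9 n6000
theorem D8709 : act 9 n6000 = n8709 := rfl
theorem F39069 : act 4 n8709 = n6005 := d34_1 D8709 (iv D6005) (iv F27520)
def n8710 : Q := act 2 n6001
theorem D8710 : act 2 n6001 = n8710 := rfl
theorem F39075 : act 8 n8710 = n6085 := d22_2 (iv F27525) D8710 (iv D6085)
def n8711 : Q := act 9 n6001
theorem D8711 : act 9 n6001 = n8711 := rfl
def n8712 : Q := act 1 n6003
theorem D8712 : act 1 n6003 = n8712 := rfl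
theorem F39083 : act 8 n8712 = n6086 := d15_2 (iv F27532) D8712 (iv D6086)
def n8713 : Q := act 9 n6003
theorem D8713 : act 9 n6003 = n8713 := rfl
theorem F39084 : act 2 n8713 = n6004 := d23_1 D8713 (iv D6004) D6003
def n8714 : Q := act 3 n6006
theorem D8714 : act 3 n6006 = n8714 := rfl
theorem F39089 : act 1 n8714 = n6011 := d10_1 D8714 (iv D6011) (iv F27542)
def n8715 : Q := act 6 n6006
theorem D8715 : act 6 n6006 = n8715 := rfl
theorem F39093 : act 1 n8715 = n6012 := d13_1 D8715 (iv D6012) (iv F27542)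
theorem F39094 : act 4 n8715 = n6007 := d31_1 D8715 (iv D6007) D6006
def n8717 : Q := act 7 n6007
theorem D8717 : act 7 n6007 = n8717 := rfl
def n8724 : Q := act 6 n6011
theorem D8724 : act 6 n6011 = n8724 := rfl
theorem F39122 : act 2 n8724 = n6090 := d20_1 D8724 (iv D6090) (iv F27557)
theorem F39123 : act 3 n8724 = n6012 := d26_1 D8724 (iv D6012) D6011
def n8726 : Q := act 5 n6012
theorem D8726 : act 5 n6012 = n8726 := rfl
def n8727 : Q := act 7 n6012
theorem D8727 : act 7 n6012 = n8727 := rfl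
theorem F39134 : act 2 n8727 = n6021 := d21_1 D8727 (iv D6021) (iv F27562)
def n8739 : Q := act 7 n6020
theorem D8739 : act 7 n6020 = n8739 := rfl
theorem F39185 : act 3 n8739 = n6094 := d27_1 D8739 (iv D6094) (iv F27595)
def n8740 : Q := act 8 n6020
theorem D8740 : act 8 n6020 = n8740 := rfl
theorem F39189 : act 5 n8740 = n6022 := d37_1 D8740 (iv D6022) D6020
def n8744 : Q := act 5 n6026
theorem D8744 : act 5 n6026 = n8744 := rfl
theorem F39204 : act 2 n8744 = n6095 := d19_1 D8744 (iv D6095) (iv F27617)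
theorem F39205 : act 3 n8744 = n6028 := d25_1 D8744 (iv D6028) (iv F27618)
def n8771 : Q := act 9 n6047
theorem D8771 : act 9 n6047 = n8771 := rfl
theorem F39300 : act 5 n8771 = n6049 := d38_1 D8771 (iv D6049) (iv F27689)
def n8772 : Q := act 3 n6050
theorem D8772 : act 3 n6050 = n8772 := rfl
theorem F39302 : act 0 n8772 = n8772 := d2_1 D8772 (iv D8772) F27698
theorem F39303 : act 1 n8772 = n6054 := d10_1 D8772 (iv D6054) (iv F27699)
theorem F39304 : act 4 n8772 = n8772 := d24_2 D6050 D8772 (iv D8772) (iv D6050) F19596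
theorem F39305 : act 5 n8772 = n8772 := d25_2 F27700 D8772 (iv D8772)
theorem F39306 : act 7 n8772 = n8772 := d27_2 F27701 D8772 (iv D8772)
theorem F39307 : act 9 n8772 = n6087 := d29_2 (iv F27702) D8772 (iv D6087)
def n8773 : Q := act 6 n6050
theorem D8773 : act 6 n6050 = n8773 := rfl
theorem F39308 : act 0 n8773 = n8773 := d5_1 D8773 (iv D8773) F27698
theorem F39309 : act 1 n8773 = n6055 := d13_1 D8773 (iv D6055) (iv F27699)
theorem F39310 : act 4 n8773 = n6051 := d31_1 D8773 (iv D6051) D6050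
theorem F39311 : act 9 n8773 = n6088 := d41_2 (iv F27702) D8773 (iv D6088)
def n8774 : Q := act 8 n6050
theorem D8774 : act 8 n6050 = n8774 := rfl
theorem F39313 : act 1 n8774 = n6056 := d15_1 D8774 (iv D6056) (iv F27699)
def n8775 : Q := act 7 n6051
theorem D8775 : act 7 n6051 = n8775 := rfl
theorem F39318 : act 0 n8775 = n8775 := d6_1 D8775 (iv D8775) F27703
theorem F39319 : act 1 n8775 = n6057 := d14_1 D8775 (iv D6057) (iv F27704)
theorem F39320 : act 3 n8775 = n8775 := d27_1 D8775 (iv D8775) F27705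
theorem F39321 : act 5 n8775 = n8775 := d36_1 D8775 (iv D8775) F27706
theorem F39322 : act 6 n8775 = n8775 := d39_1 D8775 (iv D8775) (iv D6051) F19597 D6051
theorem F39323 : act 9 n8775 = n6089 := d43_2 (iv F27707) D8775 (iv D6089)
def n8776 : Q := act 8 n6051
theorem D8776 : act 8 n6051 = n8776 := rfl
theorem F39325 : act 1 n8776 = n6058 := d15_1 D8776 (iv D6058) (iv F27704)
def n8780 : Q := act 6 n6054
theorem D8780 : act 6 n6054 = n8780 := rfl
theorem F39348 : act 0 n8780 = n6066 := d5_1 D8780 (iv D6066) (iv F27719)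
theorem F39349 : act 3 n8780 = n6055 := d26_1 D8780 (iv D6055) D6054
theorem F39350 : act 4 n8780 = n8780 := d31_1 D8780 (iv D8780) F27720
theorem F39351 : act 9 n8780 = n6090 := d41_2 (iv F27723) D8780 (iv D6090)
def n8781 : Q := act 8 n6054
theorem D8781 : act 8 n6054 = n8781 := rfl
def n8782 : Q := act 5 n6055
theorem D8782 : act 5 n6055 = n8782 := rfl
theorem F39356 : act 0 n8782 = n6068 := d4_1 D8782 (iv D6068) (iv F27724)
theorem F39357 : act 2 n8782 = n6061 := d19_1 D8782 (iv D6061) (iv F27725)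
theorem F39358 : act 4 n8782 = n8782 := d30_1 D8782 (iv D8782) F27726 F19613 (iv F27726)
theorem F39359 : act 6 n8782 = n8782 := d35_2 D6055 D8782 (iv D8782) (iv D6055) F19607
theorem F39360 : act 9 n8782 = n6092 := d38_2 (iv F27727) D8782 (iv D6092)
def n8783 : Q := act 7 n6055
theorem D8783 : act 7 n6055 = n8783 := rfl
theorem F39361 : act 0 n8783 = n6069 := d6_1 D8783 (iv D6069) (iv F27724)
theorem F39362 : act 2 n8783 = n6062 := d21_1 D8783 (iv D6062) (iv F27725)
theorem F39363 : act 4 n8783 = n6057 := d32_1 D8783 (iv D6057) (iv F27726)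
theorem F39364 : act 6 n8783 = n8783 := d39_1 D8783 (iv D8783) (iv D6055) F19608 D6055
theorem F39365 : act 9 n8783 = n6093 := d43_2 (iv F27727) D8783 (iv D6093)
def n8784 : Q := act 8 n6055
theorem D8784 : act 8 n6055 = n8784 := rfl
theorem F39366 : act 0 n8784 = n6070 := d7_1 D8784 (iv D6070) (iv F27724)
theorem F39367 : act 2 n8784 = n6063 := d22_1 D8784 (iv D6063) (iv F27725)
theorem F39368 : act 4 n8784 = n6058 := d33_1 D8784 (iv D6058) (iv F27726)
theorem F39369 : act 6 n8784 = n6056 := d40_1 D8784 (iv D6056) D6055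
theorem F39370 : act 9 n8784 = n8784 := d44_2 (iv F27727) D8784 (iv D8784) F27727 F19745
def n8785 : Q := act 3 n6056
theorem D8785 : act 3 n6056 = n8785 := rfl
def n8786 : Q := act 8 n6057
theorem D8786 : act 8 n6057 = n8786 := rfl
theorem F39375 : act 0 n8786 = n6072 := d7_1 D8786 (iv D6072) (iv F27734)
theorem F39376 : act 2 n8786 = n6065 := d22_1 D8786 (iv D6065) (iv F27735)
theorem F39377 : act 5 n8786 = n8786 := d37_1 D8786 (iv D8786) F27737
theorem F39378 : act 6 n8786 = n8786 := d40_1 D8786 (iv D8786) F27738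
theorem F39379 : act 7 n8786 = n6058 := d42_1 D8786 (iv D6058) D6057
theorem F39380 : act 9 n8786 = n8786 := d44_2 (iv F27739) D8786 (iv D8786) F27739 F19751
def n8787 : Q := act 3 n6058
theorem D8787 : act 3 n6058 = n8787 := rfl
theorem F39381 : act 0 n8787 = n6073 := d2_1 D8787 (iv D6073) (iv F27740)
def n8791 : Q := act 8 n6061
theorem D8791 : act 8 n6061 = n8791 := rfl
theorem F39402 : act 0 n8791 = n6077 := d7_1 D8791 (iv D6077) (iv F27758)
theorem F39404 : act 5 n8791 = n6063 := d37_1 D8791 (iv D6063) D6061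
def n8792 : Q := act 8 n6062
theorem D8792 : act 8 n6062 = n8792 := rfl
theorem F39407 : act 0 n8792 = n6078 := d7_1 D8792 (iv D6078) (iv F27762)
theorem F39408 : act 4 n8792 = n6065 := d33_1 D8792 (iv D6065) (iv F27763)
theorem F39410 : act 7 n8792 = n6063 := d42_1 D8792 (iv D6063) D6062
def n8793 : Q := act 3 n6063
theorem D8793 : act 3 n6063 = n8793 := rfl
theorem F39412 : act 0 n8793 = n6079 := d2_1 D8793 (iv D6079) (iv F27766)
theorem F39414 : act 6 n8793 = n6064 := d26_2 (iv F27768) D8793 (iv D6064)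
def n8794 : Q := act 2 n6064
theorem D8794 : act 2 n6064 = n8794 := rfl
def n8796 : Q := act 7 n6066
theorem D8796 : act 7 n6066 = n8796 := rfl
theorem F39426 : act 3 n8796 = n6069 := d27_1 D8796 (iv D6069) (iv F27782)
theorem F39429 : act 9 n8796 = n6096 := d43_2 (iv F27784) D8796 (iv D6096)
def n8797 : Q := act 8 n6066
theorem D8797 : act 8 n6066 = n8797 := rfl
def n8800 : Q := act 7 n6068
theorem D8800 : act 7 n6068 = n8800 := rfl
theorem F39445 : act 5 n8800 = n6069 := d36_1 D8800 (iv D6069) D6068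
def n8801 : Q := act 8 n6068
theorem D8801 : act 8 n6068 = n8801 := rfl
theorem F39447 : act 1 n8801 = n8801 := d15_1 D8801 (iv D8801) F27789
theorem F39448 : act 2 n8801 = n6077 := d22_1 D8801 (iv D6077) (iv F27790)
theorem F39449 : act 4 n8801 = n8801 := d33_1 D8801 (iv D8801) F27791
theorem F39450 : act 5 n8801 = n6070 := d37_1 D8801 (iv D6070) D6068
theorem F39451 : act 6 n8801 = n8801 := d40_1 D8801 (iv D8801) F27792
theorem F39452 : act 9 n8801 = n8801 := d44_2 (iv F27793) D8801 (iv D8801) F27793 F19772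
def n8802 : Q := act 8 n6069
theorem D8802 : act 8 n6069 = n8802 := rfl
theorem F39453 : act 1 n8802 = n8802 := d15_1 D8802 (iv D8802) F27794
theorem F39454 : act 2 n8802 = n6078 := d22_1 D8802 (iv D6078) (iv F27795)
theorem F39455 : act 4 n8802 = n6072 := d33_1 D8802 (iv D6072) (iv F27796)
theorem F39456 : act 6 n8802 = n8802 := d40_1 D8802 (iv D8802) F27797
theorem F39457 : act 7 n8802 = n6070 := d42_1 D8802 (iv D6070) D6069
theorem F39458 : act 9 n8802 = n8802 := d44_2 (iv F27798) D8802 (iv D8802) F27798 F19777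
def n8803 : Q := act 3 n6070
theorem D8803 : act 3 n6070 = n8803 := rfl
def n8804 : Q := act 2 n6071
theorem D8804 : act 2 n6071 = n8804 := rfl
theorem F39462 : act 3 n8804 = n6080 := d17_2 D6071 D8804 (iv D6080) (iv D4201) (iv F19654)
def n8805 : Q := act 4 n6071
theorem D8805 : act 4 n6071 = n8805 := rfl
theorem F39467 : act 3 n8805 = n6074 := d24_1 D8805 (iv D6074) (iv D4196) (iv F19655) D6071
def n8806 : Q := act 3 n6072
theorem D8806 : act 3 n6072 = n8806 := rfl
theorem F39470 : act 1 n8806 = n8806 := d10_1 D8806 (iv D8806) F27808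
theorem F39471 : act 2 n8806 = n8806 := d17_1 D8806 (iv D8806) F27809 F19701 (iv F27809)
theorem F39472 : act 5 n8806 = n8806 := d25_2 F27810 D8806 (iv D8806)
theorem F39473 : act 6 n8806 = n8806 := d26_2 F27811 D8806 (iv D8806)
theorem F39474 : act 7 n8806 = n6073 := d27_2 (iv F27812) D8806 (iv D6073)
theorem F39475 : act 8 n8806 = n8806 := d28_2 D6072 D8806 (iv D8806) (iv D6072) F19661
theorem F39476 : act 9 n8806 = n8806 := d29_2 F27813 D8806 (iv D8806)
def n8807 : Q := act 4 n6073
theorem D8807 : act 4 n6073 = n8807 := rfl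
def n8812 : Q := act 3 n6077
theorem D8812 : act 3 n6077 = n8812 := rfl
def n8813 : Q := act 3 n6078
theorem D8813 : act 3 n6078 = n8813 := rfl
def n8814 : Q := act 2 n6079
theorem D8814 : act 2 n6079 = n8814 := rfl
def n8818 : Q := act 2 n6083
theorem D8818 : act 2 n6083 = n8818 := rfl
theorem F39531 : act 5 n8818 = n6085 := d19_2 (iv F27863) D8818 (iv D6085)
def n8820 : Q := act 2 n6084
theorem D8820 : act 2 n6084 = n8820 := rfl
theorem F39541 : act 7 n8820 = n6085 := d21_2 (iv F27868) D8820 (iv D6085)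
def n8821 : Q := act 1 n6085
theorem D8821 : act 1 n6085 = n8821 := rfl
def n8823 : Q := act 2 n6087
theorem D8823 : act 2 n6087 = n8823 := rfl
theorem F39552 : act 0 n8823 = n8823 := d1_1 D8823 (iv D8823) F27879
theorem F39553 : act 4 n8823 = n8823 := d18_2 F27881 D8823 (iv D8823)
theorem F39554 : act 5 n8823 = n8823 := d19_2 F27882 D8823 (iv D8823)
theorem F39555 : act 7 n8823 = n8823 := d21_2 F27883 D8823 (iv D8823)
def n8824 : Q := act 6 n6087
theorem D8824 : act 6 n6087 = n8824 := rfl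
theorem F39556 : act 0 n8824 = n8824 := d5_1 D8824 (iv D8824) F27879
theorem F39557 : act 1 n8824 = n6090 := d13_1 D8824 (iv D6090) (iv F27880)
theorem F39558 : act 3 n8824 = n6088 := d26_1 D8824 (iv D6088) D6087
theorem F39559 : act 4 n8824 = n8824 := d31_1 D8824 (iv D8824) F27881
def n8825 : Q := act 8 n6087
theorem D8825 : act 8 n6087 = n8825 := rfl
def n8826 : Q := act 5 n6088
theorem D8826 : act 5 n6088 = n8826 := rfl
theorem F39566 : act 0 n8826 = n8826 := d4_1 D8826 (iv D8826) F27884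
theorem F39567 : act 1 n8826 = n6092 := d12_1 D8826 (iv D6092) (iv F27885)
theorem F39568 : act 4 n8826 = n8826 := d30_1 D8826 (iv D8826) F27886 F19736 (iv F27886)
theorem F39569 : act 6 n8826 = n8826 := d35_2 D6088 D8826 (iv D8826) (iv D6088) F19730
theorem F39570 : act 8 n8826 = n8826 := d37_2 F27887 D8826 (iv D8826)
def n8827 : Q := act 7 n6088
theorem D8827 : act 7 n6088 = n8827 := rfl
theorem F39571 : act 0 n8827 = n8827 := d6_1 D8827 (iv D8827) F27884
theorem F39572 : act 1 n8827 = n6093 := d14_1 D8827 (iv D6093) (iv F27885)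
theorem F39573 : act 4 n8827 = n6089 := d32_1 D8827 (iv D6089) (iv F27886)
theorem F39574 : act 6 n8827 = n8827 := d39_1 D8827 (iv D8827) (iv D6088) F19731 D6088
theorem F39575 : act 8 n8827 = n8827 := d42_2 F27887 D8827 (iv D8827)
def n8828 : Q := act 5 n6090
theorem D8828 : act 5 n6090 = n8828 := rfl
def n8829 : Q := act 7 n6090
theorem D8829 : act 7 n6090 = n8829 := rfl
theorem F39580 : act 3 n8829 = n6093 := d27_1 D8829 (iv D6093) (iv F27895)
def n8830 : Q := act 8 n6090
theorem D8830 : act 8 n6090 = n8830 := rfl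
def n8832 : Q := act 7 n6092
theorem D8832 : act 7 n6092 = n8832 := rfl
theorem F39593 : act 2 n8832 = n6094 := d21_1 D8832 (iv D6094) (iv F27903)
theorem F39595 : act 5 n8832 = n6093 := d36_1 D8832 (iv D6093) D6092
def n8840 : Q := act 4 n6101
theorem D8840 : act 4 n6101 = n8840 := rfl
theorem F39630 : act 5 n8840 = n6210 := d30_2 D6101 D8840 (iv D6210) (iv D4300) (iv F19789)
theorem F39631 : act 7 n8840 = n6137 := d32_2 (iv F27945) D8840 (iv D6137)
def n8841 : Q := act 6 n6101
theorem D8841 : act 6 n6101 = n8841 := rfl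
def n8842 : Q := act 8 n6101
theorem D8842 : act 8 n6101 = n8842 := rfl
def n8846 : Q := act 6 n6103
theorem D8846 : act 6 n6103 = n8846 := rfl
theorem F39661 : act 4 n8846 = n6104 := d31_1 D8846 (iv D6104) D6103
def n8847 : Q := act 8 n6103
theorem D8847 : act 8 n6103 = n8847 := rfl
theorem F39664 : act 2 n8847 = n6109 := d22_1 D8847 (iv D6109) (iv F27953)
theorem F39666 : act 5 n8847 = n6217 := d37_1 D8847 (iv D6217) (iv F27954)
def n8848 : Q := act 7 n6104
theorem D8848 : act 7 n6104 = n8848 := rfl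
theorem F39669 : act 2 n8848 = n6110 := d21_1 D8848 (iv D6110) (iv F27958)
theorem F39672 : act 6 n8848 = n6145 := d39_1 D8848 (iv D6145) (iv D4249) (iv F19796) D6104
def n8849 : Q := act 8 n6104
theorem D8849 : act 8 n6104 = n8849 := rfl
theorem F39675 : act 2 n8849 = n6111 := d22_1 D8849 (iv D6111) (iv F27958)
def n8850 : Q := act 3 n6105
theorem D8850 : act 3 n6105 = n8850 := rfl
def n8851 : Q := act 9 n6105
theorem D8851 : act 9 n6105 = n8851 := rfl
theorem F39683 : act 2 n8851 = n6112 := d23_1 D8851 (iv D6112) (iv F27963)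
def n8854 : Q := act 5 n6108
theorem D8854 : act 5 n6108 = n8854 := rfl
theorem F39699 : act 6 n8854 = n6223 := d35_2 D6108 D8854 (iv D6223) (iv D4307) (iv F19805)
def n8855 : Q := act 7 n6108
theorem D8855 : act 7 n6108 = n8855 := rfl
theorem F39704 : act 6 n8855 = n6151 := d39_1 D8855 (iv D6151) (iv D4253) (iv F19806) D6108
def n8856 : Q := act 8 n6108
theorem D8856 : act 8 n6108 = n8856 := rfl
theorem F39707 : act 4 n8856 = n6111 := d33_1 D8856 (iv D6111) (iv F27978)
def n8857 : Q := act 3 n6109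
theorem D8857 : act 3 n6109 = n8857 := rfl
theorem F39710 : act 5 n8857 = n6225 := d25_2 (iv F27982) D8857 (iv D6225)
def n8858 : Q := act 9 n6109
theorem D8858 : act 9 n6109 = n8858 := rfl
theorem F39715 : act 5 n8858 = n6226 := d38_1 D8858 (iv D6226) (iv F27982)
def n8859 : Q := act 8 n6110
theorem D8859 : act 8 n6110 = n8859 := rfl
def n8863 : Q := act 5 n6114
theorem D8863 : act 5 n6114 = n8863 := rfl
theorem F39739 : act 6 n8863 = n6230 := d35_2 D6114 D8863 (iv D6230) (iv D4312) (iv F19828)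
def n8865 : Q := act 8 n6114
theorem D8865 : act 8 n6114 = n8865 := rfl
theorem F39748 : act 4 n8865 = n6117 := d33_1 D8865 (iv D6117) (iv F28004)
def n8866 : Q := act 3 n6115
theorem D8866 : act 3 n6115 = n8866 := rfl
theorem F39751 : act 5 n8866 = n6232 := d25_2 (iv F28009) D8866 (iv D6232)
def n8869 : Q := act 3 n6117
theorem D8869 : act 3 n6117 = n8869 := rfl
def n8874 : Q := act 9 n6120
theorem D8874 : act 9 n6120 = n8874 := rfl
theorem F39785 : act 3 n8874 = n6239 := d29_1 D8874 (iv D6239) (iv F28031)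
def n8875 : Q := act 8 n6121
theorem D8875 : act 8 n6121 = n8875 := rfl
def n8877 : Q := act 8 n6122
theorem D8877 : act 8 n6122 = n8877 := rfl
theorem F39802 : act 5 n8877 = n6124 := d37_1 D8877 (iv D6124) D6122
theorem F39803 : act 6 n8877 = n6241 := d40_1 D8877 (iv D6241) (iv F28042)
def n8878 : Q := act 8 n6123
theorem D8878 : act 8 n6123 = n8878 := rfl
theorem F39805 : act 4 n8878 = n6127 := d33_1 D8878 (iv D6127) (iv F28046)
theorem F39807 : act 7 n8878 = n6124 := d42_1 D8878 (iv D6124) D6123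
def n8879 : Q := act 3 n6124
theorem D8879 : act 3 n6124 = n8879 := rfl
def n8881 : Q := act 2 n6125
theorem D8881 : act 2 n6125 = n8881 := rfl
def n8882 : Q := act 9 n6125
theorem D8882 : act 9 n6125 = n8882 := rfl
theorem F39820 : act 5 n8882 = n6245 := d38_1 D8882 (iv D6245) (iv F28053)
def n8885 : Q := act 3 n6130
theorem D8885 : act 3 n6130 = n8885 := rfl
theorem F39832 : act 5 n8885 = n6132 := d25_2 (iv F28077) D8885 (iv D6132)
theorem F39833 : act 6 n8885 = n6246 := d26_2 (iv F28078) D8885 (iv D6246)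
def n8887 : Q := act 3 n6131
theorem D8887 : act 3 n6131 = n8887 := rfl
theorem F39840 : act 6 n8887 = n6177 := d26_2 (iv F28081) D8887 (iv D6177)
theorem F39841 : act 7 n8887 = n6132 := d27_2 (iv F28082) D8887 (iv D6132)
def n8889 : Q := act 2 n6132
theorem D8889 : act 2 n6132 = n8889 := rfl
def n8890 : Q := act 9 n6132
theorem D8890 : act 9 n6132 = n8890 := rfl
theorem F39851 : act 3 n8890 = n6133 := d29_1 D8890 (iv D6133) D6132
def n8892 : Q := act 9 n6134
theorem D8892 : act 9 n6134 = n8892 := rfl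
theorem F39859 : act 5 n8892 = n6251 := d38_1 D8892 (iv D6251) (iv F28090)
def n8893 : Q := act 8 n6135
theorem D8893 : act 8 n6135 = n8893 := rfl
theorem F39862 : act 5 n8893 = n6252 := d37_1 D8893 (iv D6252) (iv F28094)
theorem F39863 : act 7 n8893 = n6183 := d42_1 D8893 (iv D6183) (iv F28095)
def n8895 : Q := act 6 n6137
theorem D8895 : act 6 n6137 = n8895 := rfl
def n8896 : Q := act 8 n6137
theorem D8896 : act 8 n6137 = n8896 := rfl
def n8907 : Q := act 8 n6143
theorem D8907 : act 8 n6143 = n8907 := rfl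
theorem F39923 : act 0 n8907 = n6160 := d7_1 D8907 (iv D6160) (iv F28127)
theorem F39924 : act 2 n8907 = n6152 := d22_1 D8907 (iv D6152) (iv F28128)
theorem F39927 : act 6 n8907 = n6144 := d40_1 D8907 (iv D6144) D6143
def n8909 : Q := act 9 n6144
theorem D8909 : act 9 n6144 = n8909 := rfl
theorem F39931 : act 2 n8909 = n6154 := d23_1 D8909 (iv D6154) (iv F28133)
def n8910 : Q := act 8 n6145
theorem D8910 : act 8 n6145 = n8910 := rfl
theorem F39936 : act 2 n8910 = n6155 := d22_1 D8910 (iv D6155) (iv F28137)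
def n8918 : Q := act 8 n6151
theorem D8918 : act 8 n6151 = n8918 := rfl
theorem F39967 : act 7 n8918 = n6152 := d42_1 D8918 (iv D6152) D6151
def n8919 : Q := act 3 n6152
theorem D8919 : act 3 n6152 = n8919 := rfl
def n8928 : Q := act 8 n6159
theorem D8928 : act 8 n6159 = n8928 := rfl
theorem F40007 : act 2 n8928 = n6171 := d22_1 D8928 (iv D6171) (iv F28193)
theorem F40008 : act 4 n8928 = n6163 := d33_1 D8928 (iv D6163) (iv F28194)
def n8931 : Q := act 2 n6161
theorem D8931 : act 2 n6161 = n8931 := rfl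
theorem F40020 : act 3 n8931 = n6174 := d17_2 D6161 D8931 (iv D6174) (iv D4269) (iv F19956)
def n8935 : Q := act 9 n6163
theorem D8935 : act 9 n6163 = n8935 := rfl
theorem F40033 : act 5 n8935 = n6201 := d38_1 D8935 (iv D6201) (iv F28211)
def n8944 : Q := act 3 n6171
theorem D8944 : act 3 n6171 = n8944 := rfl
def n8945 : Q := act 9 n6171
theorem D8945 : act 9 n6171 = n8945 := rfl
def n8952 : Q := act 9 n6177
theorem D8952 : act 9 n6177 = n8952 := rfl
theorem F40092 : act 3 n8952 = n6178 := d29_1 D8952 (iv D6178) D6177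
def n8993 : Q := act 6 n6210
theorem D8993 : act 6 n6210 = n8993 := rfl
theorem F40263 : act 1 n8993 = n6216 := d13_1 D8993 (iv D6216) (iv F28398)
def n8994 : Q := act 8 n6210
theorem D8994 : act 8 n6210 = n8994 := rfl
def n9003 : Q := act 5 n6216
theorem D9003 : act 5 n6216 = n9003 := rfl
def n9005 : Q := act 3 n6217
theorem D9005 : act 3 n6217 = n9005 := rfl
def n9007 : Q := act 3 n6218
theorem D9007 : act 3 n6218 = n9007 := rfl
theorem F40331 : act 6 n9007 = n6219 := d26_2 (iv F28438) D9007 (iv D6219)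
theorem F40333 : act 8 n9007 = n6314 := d28_2 D6218 D9007 (iv D6314) (iv D4371) (iv F20133)
def n9009 : Q := act 4 n6219
theorem D9009 : act 4 n6219 = n9009 := rfl
def n9014 : Q := act 8 n6223
theorem D9014 : act 8 n6223 = n9014 := rfl
theorem F40364 : act 0 n9014 = n6241 := d7_1 D9014 (iv D6241) (iv F28460)
theorem F40366 : act 5 n9014 = n6224 := d37_1 D9014 (iv D6224) D6223
def n9015 : Q := act 3 n6224
theorem D9015 : act 3 n6224 = n9015 := rfl
theorem F40370 : act 6 n9015 = n6225 := d26_2 (iv F28467) D9015 (iv D6225)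
def n9016 : Q := act 9 n6224
theorem D9016 : act 9 n6224 = n9016 := rfl
def n9018 : Q := act 9 n6225
theorem D9018 : act 9 n6225 = n9018 := rfl
def n9019 : Q := act 5 n6228
theorem D9019 : act 5 n6228 = n9019 := rfl
theorem F40388 : act 3 n9019 = n6230 := d25_1 D9019 (iv D6230) (iv F28485)
def n9023 : Q := act 8 n6230
theorem D9023 : act 8 n6230 = n9023 := rfl
def n9027 : Q := act 4 n6232
theorem D9027 : act 4 n6232 = n9027 := rfl
theorem F40421 : act 3 n9027 = n6236 := d24_1 D9027 (iv D6236) (iv D4315) (iv F20181) D6232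
def n9029 : Q := act 4 n6234
theorem D9029 : act 4 n6234 = n9029 := rfl
theorem F40428 : act 6 n9029 = n6236 := d31_2 (iv F28513) D9029 (iv D6236)
theorem F40430 : act 8 n9029 = n6336 := d33_2 (iv F28515) D9029 (iv D6336)
def n9037 : Q := act 3 n6241
theorem D9037 : act 3 n6241 = n9037 := rfl
theorem F40466 : act 1 n9037 = n6246 := d10_1 D9037 (iv D6246) (iv F28546)
theorem F40467 : act 5 n9037 = n6242 := d25_2 (iv F28548) D9037 (iv D6242)
def n9040 : Q := act 9 n6242
theorem D9040 : act 9 n6242 = n9040 := rfl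
theorem F40482 : act 6 n9040 = n6245 := d41_1 D9040 (iv D6245) (iv F28552)
def n9043 : Q := act 8 n6245
theorem D9043 : act 8 n6245 = n9043 := rfl
def n9044 : Q := act 2 n6246
theorem D9044 : act 2 n6246 = n9044 := rfl
theorem F40497 : act 5 n9044 = n6248 := d19_2 (iv F28567) D9044 (iv D6248)
def n9045 : Q := act 4 n6246
theorem D9045 : act 4 n6246 = n9045 := rfl
def n9046 : Q := act 9 n6246
theorem D9046 : act 9 n6246 = n9046 := rfl
theorem F40505 : act 5 n9046 = n6249 := d38_1 D9046 (iv D6249) (iv F28567)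
def n9048 : Q := act 9 n6248
theorem D9048 : act 9 n6248 = n9048 := rfl
theorem F40515 : act 6 n9048 = n6251 := d41_1 D9048 (iv D6251) (iv F28577)
def n9049 : Q := act 8 n6249
theorem D9049 : act 8 n6249 = n9049 := rfl
theorem F40517 : act 3 n9049 = n9049 := d28_1 D9049 (iv D9049) F28580 F20243 (iv F28580)
theorem F40519 : act 6 n9049 = n6252 := d40_1 D9049 (iv D6252) (iv F28582)
def n9052 : Q := act 8 n6251
theorem D9052 : act 8 n6251 = n9052 := rfl
def n9138 : Q := act 3 n6311
theorem D9138 : act 3 n6311 = n9138 := rfl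
def n9143 : Q := act 4 n6314
theorem D9143 : act 4 n6314 = n9143 := rfl
def n9151 : Q := act 3 n6321
theorem D9151 : act 3 n6321 = n9151 := rfl
theorem F40966 : act 0 n9151 = n6344 := d2_1 D9151 (iv D6344) (iv F28902)
theorem F40967 : act 1 n9151 = n9151 := d10_1 D9151 (iv D9151) F28903
theorem F40968 : act 5 n9151 = n6322 := d25_2 (iv F28905) D9151 (iv D6322)
def n9152 : Q := act 9 n6321
theorem D9152 : act 9 n6321 = n9152 := rfl
theorem F40974 : act 4 n9152 = n9152 := d34_1 D9152 (iv D9152) F28904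
theorem F40975 : act 5 n9152 = n6323 := d38_1 D9152 (iv D6323) (iv F28905)
def n9153 : Q := act 2 n6322
theorem D9153 : act 2 n6322 = n9153 := rfl
def n9154 : Q := act 9 n6322
theorem D9154 : act 9 n6322 = n9154 := rfl
theorem F40984 : act 0 n9154 = n6347 := d8_1 D9154 (iv D6347) (iv F28908)
def n9158 : Q := act 4 n6326
theorem D9158 : act 4 n6326 = n9158 := rfl
theorem F41007 : act 1 n9158 = n9158 := d11_1 D9158 (iv D9158) F28931
theorem F41008 : act 2 n9158 = n9158 := d18_1 D9158 (iv D9158) F28932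
theorem F41009 : act 3 n9158 = n9158 := d24_1 D9158 (iv D9158) F28933 F20505 (iv F28933)
theorem F41012 : act 9 n9158 = n9158 := d34_2 F28936 D9158 (iv D9158)
def n9167 : Q := act 2 n6331
theorem D9167 : act 2 n6331 = n9167 := rfl
theorem F41049 : act 3 n9167 = n6346 := d17_2 D6331 D9167 (iv D6346) (iv D4395) (iv F20510)
def n9168 : Q := act 4 n6331
theorem D9168 : act 4 n6331 = n9168 := rfl
theorem F41053 : act 3 n9168 = n6336 := d24_1 D9168 (iv D6336) (iv D4387) (iv F20511) D6331
def n9169 : Q := act 9 n6331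
theorem D9169 : act 9 n6331 = n9169 := rfl
theorem F41057 : act 3 n9169 = n6332 := d29_1 D9169 (iv D6332) D6331
def n9170 : Q := act 1 n6333
theorem D9170 : act 1 n6333 = n9170 := rfl
theorem F41061 : act 3 n9170 = n6348 := d10_2 (iv F28965) D9170 (iv D6348)
def n9171 : Q := act 4 n6333
theorem D9171 : act 4 n6333 = n9171 := rfl
theorem F41064 : act 2 n9171 = n6334 := d18_1 D9171 (iv D6334) D6333
def n9186 : Q := act 2 n6344
theorem D9186 : act 2 n6344 = n9186 := rfl
theorem F41129 : act 5 n9186 = n6346 := d19_2 (iv F29013) D9186 (iv D6346)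
def n9187 : Q := act 4 n6344
theorem D9187 : act 4 n6344 = n9187 := rfl
theorem F41133 : act 1 n9187 = n6352 := d11_1 D9187 (iv D6352) (iv F29012)
theorem F41134 : act 3 n9187 = n9187 := d24_1 D9187 (iv D9187) (iv D6344) F20558 D6344
theorem F41135 : act 5 n9187 = n9187 := d30_2 (iv F29013) D9187 (iv D9187) F29013 F20563
def n9188 : Q := act 9 n6344
theorem D9188 : act 9 n6344 = n9188 := rfl
theorem F41139 : act 1 n9188 = n6353 := d16_1 D9188 (iv D6353) (iv F29012)
theorem F41140 : act 3 n9188 = n6345 := d29_1 D9188 (iv D6345) D6344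
theorem F41141 : act 5 n9188 = n6347 := d38_1 D9188 (iv D6347) (iv F29013)
def n9189 : Q := act 1 n6346
theorem D9189 : act 1 n6346 = n9189 := rfl
theorem F41144 : act 2 n9189 = n6354 := d9_2 D6346 D9189 (iv D6354) (iv D4401) (iv F20562)
def n9190 : Q := act 9 n6346
theorem D9190 : act 9 n6346 = n9190 := rfl
theorem F41149 : act 2 n9190 = n6347 := d23_1 D9190 (iv D6347) D6346
def n9191 : Q := act 8 n6347
theorem D9191 : act 8 n6347 = n9191 := rfl
theorem F41153 : act 1 n9191 = n6356 := d15_1 D9191 (iv D6356) (iv F29027)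
theorem F41154 : act 3 n9191 = n9191 := d28_1 D9191 (iv D9191) F29028 F20571 (iv F29028)
theorem F41155 : act 4 n9191 = n9191 := d33_1 D9191 (iv D9191) F29029
def n9195 : Q := act 1 n6351
theorem D9195 : act 1 n6351 = n9195 := rfl
theorem F41175 : act 5 n9195 = n6354 := d12_2 (iv F29049) D9195 (iv D6354)
def n9196 : Q := act 4 n6351
theorem D9196 : act 4 n6351 = n9196 := rfl
theorem F41179 : act 0 n9196 = n9196 := d3_1 D9196 (iv D9196) F29047
theorem F41180 : act 2 n9196 = n6352 := d18_1 D9196 (iv D6352) D6351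
theorem F41181 : act 5 n9196 = n9196 := d30_2 (iv F29049) D9196 (iv D9196) F29049 F20595
theorem F41182 : act 6 n9196 = n9196 := d31_2 F29050 D9196 (iv D9196)
theorem F41183 : act 7 n9196 = n9196 := d32_2 F29051 D9196 (iv D9196)
theorem F41184 : act 8 n9196 = n9196 := d33_2 F29052 D9196 (iv D9196)
def n9197 : Q := act 9 n6351
theorem D9197 : act 9 n6351 = n9197 := rfl
theorem F41185 : act 0 n9197 = n9197 := d8_1 D9197 (iv D9197) F29047
theorem F41186 : act 2 n9197 = n6353 := d23_1 D9197 (iv D6353) D6351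
theorem F41187 : act 3 n9197 = n9197 := d29_1 D9197 (iv D9197) F29048
theorem F41188 : act 5 n9197 = n6355 := d38_1 D9197 (iv D6355) (iv F29049)
def n9198 : Q := act 9 n6352
theorem D9198 : act 9 n6352 = n9198 := rfl
theorem F41192 : act 3 n9198 = n9198 := d29_1 D9198 (iv D9198) F29054
theorem F41193 : act 4 n9198 = n6353 := d34_1 D9198 (iv D6353) D6352
def n9199 : Q := act 8 n6353
theorem D9199 : act 8 n6353 = n9199 := rfl
theorem F41197 : act 0 n9199 = n9199 := d7_1 D9199 (iv D9199) F29059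
theorem F41198 : act 3 n9199 = n9199 := d28_1 D9199 (iv D9199) F29060 F20592 (iv F29060)
def n9201 : Q := act 9 n6354
theorem D9201 : act 9 n6354 = n9201 := rfl
theorem F41209 : act 1 n9201 = n6355 := d16_1 D9201 (iv D6355) D6354
def n9202 : Q := act 8 n6355
theorem D9202 : act 8 n6355 = n9202 := rfl
theorem F41214 : act 0 n9202 = n9202 := d7_1 D9202 (iv D9202) F29069
theorem F41215 : act 2 n9202 = n6356 := d22_1 D9202 (iv D6356) (iv F29070)
theorem F41216 : act 4 n9202 = n9202 := d33_1 D9202 (iv D9202) F29072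
def n9250 : Q := act 4 n6389
theorem D9250 : act 4 n6389 = n9250 := rfl
theorem F41423 : act 1 n9250 = n6390 := d11_1 D9250 (iv D6390) D6389
def n9292 : Q := act 3 n6423
theorem D9292 : act 3 n6423 = n9292 := rfl
theorem F41615 : act 0 n9292 = n9292 := d2_1 D9292 (iv D9292) F29378
theorem F41616 : act 1 n9292 = n9292 := d10_1 D9292 (iv D9292) F29379
theorem F41617 : act 5 n9292 = n6424 := d25_2 (iv F29382) D9292 (iv D6424)
theorem F41618 : act 6 n9292 = n9292 := d26_2 F29383 D9292 (iv D9292)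
theorem F41619 : act 7 n9292 = n9292 := d27_2 F29384 D9292 (iv D9292)
theorem F41620 : act 8 n9292 = n9292 := d28_2 D6423 D9292 (iv D9292) (iv D6423) F20834
theorem F41621 : act 9 n9292 = n9292 := d29_2 F29385 D9292 (iv D9292)
def n9293 : Q := act 2 n6424
theorem D9293 : act 2 n6424 = n9293 := rfl
theorem F41622 : act 0 n9293 = n9293 := d1_1 D9293 (iv D9293) F29386
theorem F41623 : act 3 n9293 = n9293 := d17_2 D6424 D9293 (iv D9293) (iv D6424) F20841
theorem F41624 : act 6 n9293 = n6425 := d20_2 (iv F29388) D9293 (iv D6425)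
theorem F41625 : act 7 n9293 = n9293 := d21_2 F29389 D9293 (iv D9293)
theorem F41626 : act 8 n9293 = n9293 := d22_2 F29390 D9293 (iv D9293)
theorem F41627 : act 9 n9293 = n9293 := d23_2 F29391 D9293 (iv D9293)
def n9294 : Q := act 4 n6424
theorem D9294 : act 4 n6424 = n9294 := rfl
theorem F41628 : act 0 n9294 = n9294 := d3_1 D9294 (iv D9294) F29386
theorem F41629 : act 1 n9294 = n9294 := d11_1 D9294 (iv D9294) F29387
theorem F41630 : act 3 n9294 = n6431 := d24_1 D9294 (iv D6431) (iv D4457) (iv F20842) D6424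
theorem F41631 : act 6 n9294 = n6426 := d31_2 (iv F29388) D9294 (iv D6426)
theorem F41632 : act 7 n9294 = n9294 := d32_2 F29389 D9294 (iv D9294)
theorem F41633 : act 8 n9294 = n9294 := d33_2 F29390 D9294 (iv D9294)
theorem F41634 : act 9 n9294 = n9294 := d34_2 F29391 D9294 (iv D9294)
def n9295 : Q := act 1 n6425
theorem D9295 : act 1 n6425 = n9295 := rfl
theorem F41635 : act 2 n9295 = n9295 := d9_2 D6425 D9295 (iv D9295) (iv D6425) F20847
theorem F41636 : act 3 n9295 = n9295 := d10_2 F29393 D9295 (iv D9295)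
theorem F41637 : act 5 n9295 = n9295 := d12_2 F29394 D9295 (iv D9295)
theorem F41638 : act 7 n9295 = n6427 := d14_2 (iv F29395) D9295 (iv D6427)
theorem F41639 : act 8 n9295 = n9295 := d15_2 F29396 D9295 (iv D9295)
theorem F41640 : act 9 n9295 = n9295 := d16_2 F29397 D9295 (iv D9295)
def n9296 : Q := act 4 n6425
theorem D9296 : act 4 n6425 = n9296 := rfl
theorem F41641 : act 0 n9296 = n9296 := d3_1 D9296 (iv D9296) F29392
theorem F41642 : act 2 n9296 = n6426 := d18_1 D9296 (iv D6426) D6425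
theorem F41643 : act 7 n9296 = n6428 := d32_2 (iv F29395) D9296 (iv D6428)
theorem F41644 : act 8 n9296 = n9296 := d33_2 F29396 D9296 (iv D9296)
theorem F41645 : act 9 n9296 = n9296 := d34_2 F29397 D9296 (iv D9296)
def n9297 : Q := act 5 n6426
theorem D9297 : act 5 n6426 = n9297 := rfl
theorem F41646 : act 0 n9297 = n9297 := d4_1 D9297 (iv D9297) F29398
theorem F41647 : act 1 n9297 = n9297 := d12_1 D9297 (iv D9297) F29399
theorem F41648 : act 3 n9297 = n6434 := d25_1 D9297 (iv D6434) (iv F29400)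
theorem F41649 : act 4 n9297 = n9297 := d30_1 D9297 (iv D9297) (iv D6426) F20848 D6426
theorem F41650 : act 7 n9297 = n6429 := d36_2 (iv F29401) D9297 (iv D6429)
theorem F41651 : act 8 n9297 = n9297 := d37_2 F29402 D9297 (iv D9297)
theorem F41652 : act 9 n9297 = n9297 := d38_2 F29403 D9297 (iv D9297)
def n9298 : Q := act 0 n6427
theorem D9298 : act 0 n6427 = n9298 := rfl
theorem F41653 : act 1 n9298 = n9298 := d0_2 D6427 D9298 (iv D9298) (iv D6427) F20852
theorem F41654 : act 2 n9298 = n9298 := d1_2 F29404 D9298 (iv D9298)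
theorem F41655 : act 3 n9298 = n9298 := d2_2 F29405 D9298 (iv D9298)
theorem F41656 : act 5 n9298 = n9298 := d4_2 F29406 D9298 (iv D9298)
theorem F41657 : act 6 n9298 = n9298 := d5_2 F29407 D9298 (iv D9298)
theorem F41658 : act 8 n9298 = n9298 := d7_2 F29408 D9298 (iv D9298)
theorem F41659 : act 9 n9298 = n9298 := d8_2 F29409 D9298 (iv D9298)
def n9299 : Q := act 4 n6427
theorem D9299 : act 4 n6427 = n9299 := rfl
theorem F41660 : act 1 n9299 = n6428 := d11_1 D9299 (iv D6428) D6427
theorem F41661 : act 2 n9299 = n9299 := d18_1 D9299 (iv D9299) F29404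
theorem F41662 : act 6 n9299 = n9299 := d31_2 F29407 D9299 (iv D9299)
theorem F41663 : act 8 n9299 = n9299 := d33_2 F29408 D9299 (iv D9299)
theorem F41664 : act 9 n9299 = n9299 := d34_2 F29409 D9299 (iv D9299)
def n9300 : Q := act 3 n6428
theorem D9300 : act 3 n6428 = n9300 := rfl
theorem F41665 : act 0 n9300 = n9300 := d2_1 D9300 (iv D9300) F29410
theorem F41666 : act 2 n9300 = n6437 := d17_1 D9300 (iv D6437) F20889 (iv F20860) (iv F29411)
theorem F41667 : act 4 n9300 = n9300 := d24_2 D6428 D9300 (iv D9300) (iv D6428) F20853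
theorem F41668 : act 6 n9300 = n9300 := d26_2 F29412 D9300 (iv D9300)
theorem F41669 : act 9 n9300 = n9300 := d29_2 F29414 D9300 (iv D9300)
def n9301 : Q := act 5 n6428
theorem D9301 : act 5 n6428 = n9301 := rfl
theorem F41670 : act 0 n9301 = n9301 := d4_1 D9301 (iv D9301) F29410
theorem F41671 : act 2 n9301 = n6429 := d19_1 D9301 (iv D6429) (iv F29411)
theorem F41672 : act 4 n9301 = n9301 := d30_1 D9301 (iv D9301) (iv D6428) F20854 D6428
theorem F41673 : act 8 n9301 = n9301 := d37_2 F29413 D9301 (iv D9301)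
theorem F41674 : act 9 n9301 = n9301 := d38_2 F29414 D9301 (iv D9301)
def n9302 : Q := act 6 n6429
theorem D9302 : act 6 n6429 = n9302 := rfl
theorem F41675 : act 0 n9302 = n9302 := d5_1 D9302 (iv D9302) F29415
theorem F41676 : act 1 n9302 = n9302 := d13_1 D9302 (iv D9302) F29416
theorem F41677 : act 3 n9302 = n6439 := d26_1 D9302 (iv D6439) (iv F29417)
theorem F41678 : act 4 n9302 = n9302 := d31_1 D9302 (iv D9302) F29418
theorem F41679 : act 5 n9302 = n9302 := d35_1 D9302 (iv D9302) (iv D6429) F20861 D6429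
theorem F41680 : act 8 n9302 = n9302 := d40_2 F29419 D9302 (iv D9302)
theorem F41681 : act 9 n9302 = n9302 := d41_2 F29420 D9302 (iv D9302)
def n9303 : Q := act 1 n6430
theorem D9303 : act 1 n6430 = n9303 := rfl
theorem F41682 : act 2 n9303 = n9303 := d9_2 D6430 D9303 (iv D9303) (iv D6430) F20865
theorem F41683 : act 3 n9303 = n9303 := d10_2 F29422 D9303 (iv D9303)
theorem F41684 : act 5 n9303 = n9303 := d12_2 F29423 D9303 (iv D9303)
theorem F41685 : act 6 n9303 = n6432 := d13_2 (iv F29424) D9303 (iv D6432)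
theorem F41686 : act 7 n9303 = n9303 := d14_2 F29425 D9303 (iv D9303)
theorem F41687 : act 8 n9303 = n6465 := d15_2 (iv F29426) D9303 (iv D6465)
theorem F41688 : act 9 n9303 = n9303 := d16_2 F29427 D9303 (iv D9303)
def n9304 : Q := act 4 n6430
theorem D9304 : act 4 n6430 = n9304 := rfl
theorem F41689 : act 0 n9304 = n9304 := d3_1 D9304 (iv D9304) F29421
theorem F41690 : act 2 n9304 = n6431 := d18_1 D9304 (iv D6431) D6430
theorem F41691 : act 6 n9304 = n6433 := d31_2 (iv F29424) D9304 (iv D6433)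
theorem F41692 : act 7 n9304 = n9304 := d32_2 F29425 D9304 (iv D9304)
theorem F41693 : act 8 n9304 = n6466 := d33_2 (iv F29426) D9304 (iv D6466)
theorem F41694 : act 9 n9304 = n9304 := d34_2 F29427 D9304 (iv D9304)
def n9305 : Q := act 5 n6431
theorem D9305 : act 5 n6431 = n9305 := rfl
theorem F41695 : act 0 n9305 = n9305 := d4_1 D9305 (iv D9305) F29428
theorem F41696 : act 1 n9305 = n9305 := d12_1 D9305 (iv D9305) F29429
theorem F41697 : act 4 n9305 = n9305 := d30_1 D9305 (iv D9305) (iv D6431) F20866 D6431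
theorem F41698 : act 7 n9305 = n9305 := d36_2 F29431 D9305 (iv D9305)
theorem F41699 : act 8 n9305 = n6467 := d37_2 (iv F29432) D9305 (iv D6467)
theorem F41700 : act 9 n9305 = n9305 := d38_2 F29433 D9305 (iv D9305)
def n9306 : Q := act 0 n6432
theorem D9306 : act 0 n6432 = n9306 := rfl
theorem F41701 : act 1 n9306 = n9306 := d0_2 D6432 D9306 (iv D9306) (iv D6432) F20871
theorem F41702 : act 2 n9306 = n9306 := d1_2 F29434 D9306 (iv D9306)
theorem F41703 : act 3 n9306 = n9306 := d2_2 F29435 D9306 (iv D9306)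
theorem F41704 : act 5 n9306 = n6440 := d4_2 (iv F29436) D9306 (iv D6440)
theorem F41705 : act 7 n9306 = n6435 := d6_2 (iv F29437) D9306 (iv D6435)
theorem F41706 : act 8 n9306 = n6471 := d7_2 (iv F29438) D9306 (iv D6471)
theorem F41707 : act 9 n9306 = n9306 := d8_2 F29439 D9306 (iv D9306)
def n9307 : Q := act 4 n6432
theorem D9307 : act 4 n6432 = n9307 := rfl
theorem F41708 : act 1 n9307 = n6433 := d11_1 D9307 (iv D6433) D6432
theorem F41709 : act 2 n9307 = n9307 := d18_1 D9307 (iv D9307) F29434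
theorem F41710 : act 7 n9307 = n6436 := d32_2 (iv F29437) D9307 (iv D6436)
theorem F41711 : act 8 n9307 = n6472 := d33_2 (iv F29438) D9307 (iv D6472)
theorem F41712 : act 9 n9307 = n9307 := d34_2 F29439 D9307 (iv D9307)
def n9308 : Q := act 3 n6433
theorem D9308 : act 3 n6433 = n9308 := rfl
theorem F41713 : act 0 n9308 = n9308 := d2_1 D9308 (iv D9308) F29440
theorem F41714 : act 4 n9308 = n9308 := d24_2 D6433 D9308 (iv D9308) (iv D6433) F20872
theorem F41715 : act 7 n9308 = n6437 := d27_2 (iv F29442) D9308 (iv D6437)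
theorem F41716 : act 9 n9308 = n9308 := d29_2 F29444 D9308 (iv D9308)
def n9309 : Q := act 5 n6433
theorem D9309 : act 5 n6433 = n9309 := rfl
theorem F41717 : act 0 n9309 = n9309 := d4_1 D9309 (iv D9309) F29440
theorem F41718 : act 2 n9309 = n6434 := d19_1 D9309 (iv D6434) (iv F29441)
theorem F41719 : act 4 n9309 = n6443 := d30_1 D9309 (iv D6443) (iv D4464) (iv F20873) D6433
theorem F41720 : act 7 n9309 = n6438 := d36_2 (iv F29442) D9309 (iv D6438)
theorem F41721 : act 8 n9309 = n6474 := d37_2 (iv F29443) D9309 (iv D6474)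
theorem F41722 : act 9 n9309 = n9309 := d38_2 F29444 D9309 (iv D9309)
def n9310 : Q := act 6 n6434
theorem D9310 : act 6 n6434 = n9310 := rfl
theorem F41723 : act 0 n9310 = n9310 := d5_1 D9310 (iv D9310) F29445
theorem F41724 : act 1 n9310 = n9310 := d13_1 D9310 (iv D9310) F29446
theorem F41725 : act 4 n9310 = n6444 := d31_1 D9310 (iv D6444) (iv F29447)
theorem F41726 : act 8 n9310 = n6475 := d40_2 (iv F29449) D9310 (iv D6475)
theorem F41727 : act 9 n9310 = n9310 := d41_2 F29450 D9310 (iv D9310)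
def n9311 : Q := act 4 n6435
theorem D9311 : act 4 n6435 = n9311 := rfl
theorem F41728 : act 0 n9311 = n6436 := d3_1 D9311 (iv D6436) D6435
theorem F41729 : act 1 n9311 = n9311 := d11_1 D9311 (iv D9311) F29451
theorem F41730 : act 2 n9311 = n9311 := d18_1 D9311 (iv D9311) F29452
theorem F41731 : act 6 n9311 = n9311 := d31_2 F29455 D9311 (iv D9311)
theorem F41732 : act 8 n9311 = n6481 := d33_2 (iv F29456) D9311 (iv D6481)
theorem F41733 : act 9 n9311 = n9311 := d34_2 F29457 D9311 (iv D9311)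
def n9312 : Q := act 3 n6436
theorem D9312 : act 3 n6436 = n9312 := rfl
theorem F41734 : act 1 n9312 = n6437 := d10_1 D9312 (iv D6437) (iv F29458)
theorem F41735 : act 4 n9312 = n9312 := d24_2 D6436 D9312 (iv D9312) (iv D6436) F20883
theorem F41736 : act 6 n9312 = n9312 := d26_2 F29460 D9312 (iv D9312)
theorem F41737 : act 9 n9312 = n9312 := d29_2 F29462 D9312 (iv D9312)
def n9313 : Q := act 5 n6436
theorem D9313 : act 5 n6436 = n9313 := rfl
theorem F41738 : act 1 n9313 = n6438 := d12_1 D9313 (iv D6438) (iv F29458)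
theorem F41739 : act 2 n9313 = n9313 := d19_1 D9313 (iv D9313) F29459
theorem F41740 : act 4 n9313 = n6447 := d30_1 D9313 (iv D6447) (iv D4467) (iv F20884) D6436
theorem F41741 : act 8 n9313 = n6483 := d37_2 (iv F29461) D9313 (iv D6483)
theorem F41742 : act 9 n9313 = n9313 := d38_2 F29462 D9313 (iv D9313)
def n9314 : Q := act 5 n6437
theorem D9314 : act 5 n6437 = n9314 := rfl
theorem F41743 : act 0 n9314 = n9314 := d4_1 D9314 (iv D9314) F29463
theorem F41744 : act 3 n9314 = n6438 := d25_1 D9314 (iv D6438) D6437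
theorem F41745 : act 9 n9314 = n9314 := d38_2 F29466 D9314 (iv D9314)
def n9315 : Q := act 8 n6437
theorem D9315 : act 8 n6437 = n9315 := rfl
theorem F41746 : act 0 n9315 = n9315 := d7_1 D9315 (iv D9315) F29463
theorem F41747 : act 3 n9315 = n6485 := d28_1 D9315 (iv D6485) (iv D4491) (iv F20891) D6437
theorem F41748 : act 4 n9315 = n9315 := d33_1 D9315 (iv D9315) F29464
theorem F41749 : act 6 n9315 = n9315 := d40_1 D9315 (iv D9315) F29465
def n9316 : Q := act 6 n6438
theorem D9316 : act 6 n6438 = n9316 := rfl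
theorem F41750 : act 0 n9316 = n9316 := d5_1 D9316 (iv D9316) F29467
theorem F41751 : act 2 n9316 = n6439 := d20_1 D9316 (iv D6439) (iv F29468)
theorem F41752 : act 4 n9316 = n6450 := d31_1 D9316 (iv D6450) (iv F29469)
theorem F41753 : act 5 n9316 = n9316 := d35_1 D9316 (iv D9316) (iv D6438) F20890 D6438
theorem F41754 : act 8 n9316 = n6486 := d40_2 (iv F29470) D9316 (iv D6486)
theorem F41755 : act 9 n9316 = n9316 := d41_2 F29471 D9316 (iv D9316)
def n9317 : Q := act 7 n6439
theorem D9317 : act 7 n6439 = n9317 := rfl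
theorem F41756 : act 0 n9317 = n9317 := d6_1 D9317 (iv D9317) F29472
theorem F41757 : act 1 n9317 = n9317 := d14_1 D9317 (iv D9317) F29473
theorem F41758 : act 4 n9317 = n6451 := d32_1 D9317 (iv D6451) (iv F29474)
theorem F41759 : act 5 n9317 = n9317 := d36_1 D9317 (iv D9317) F29475
theorem F41760 : act 8 n9317 = n6487 := d42_2 (iv F29476) D9317 (iv D6487)
theorem F41761 : act 9 n9317 = n9317 := d43_2 F29477 D9317 (iv D9317)
def n9318 : Q := act 4 n6440
theorem D9318 : act 4 n6440 = n9318 := rfl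
theorem F41762 : act 0 n9318 = n6441 := d3_1 D9318 (iv D6441) D6440
theorem F41763 : act 1 n9318 = n9318 := d11_1 D9318 (iv D9318) F29478
theorem F41764 : act 2 n9318 = n9318 := d18_1 D9318 (iv D9318) F29479
theorem F41765 : act 6 n9318 = n9318 := d31_2 F29481 D9318 (iv D9318)
theorem F41766 : act 7 n9318 = n6445 := d32_2 (iv F29482) D9318 (iv D6445)
theorem F41767 : act 8 n9318 = n6493 := d33_2 (iv F29483) D9318 (iv D6493)
theorem F41768 : act 9 n9318 = n9318 := d34_2 F29484 D9318 (iv D9318)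
def n9319 : Q := act 3 n6441
theorem D9319 : act 3 n6441 = n9319 := rfl
theorem F41769 : act 1 n9319 = n6442 := d10_1 D9319 (iv D6442) (iv F29485)
theorem F41770 : act 4 n9319 = n9319 := d24_2 D6441 D9319 (iv D9319) (iv D6441) F20899
theorem F41771 : act 6 n9319 = n9319 := d26_2 F29487 D9319 (iv D9319)
theorem F41772 : act 7 n9319 = n6446 := d27_2 (iv F29488) D9319 (iv D6446)
theorem F41773 : act 9 n9319 = n9319 := d29_2 F29490 D9319 (iv D9319)
def n9320 : Q := act 5 n6441
theorem D9320 : act 5 n6441 = n9320 := rfl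
theorem F41774 : act 1 n9320 = n6443 := d12_1 D9320 (iv D6443) (iv F29485)
theorem F41775 : act 2 n9320 = n9320 := d19_1 D9320 (iv D9320) F29486
theorem F41776 : act 7 n9320 = n6447 := d36_2 (iv F29488) D9320 (iv D6447)
theorem F41777 : act 8 n9320 = n6495 := d37_2 (iv F29489) D9320 (iv D6495)
theorem F41778 : act 9 n9320 = n9320 := d38_2 F29490 D9320 (iv D9320)
def n9321 : Q := act 5 n6442
theorem D9321 : act 5 n6442 = n9321 := rfl
theorem F41779 : act 0 n9321 = n9321 := d4_1 D9321 (iv D9321) F29491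
theorem F41780 : act 2 n9321 = n9321 := d19_1 D9321 (iv D9321) F29492
theorem F41781 : act 3 n9321 = n6443 := d25_1 D9321 (iv D6443) D6442
theorem F41782 : act 7 n9321 = n6448 := d36_2 (iv F29495) D9321 (iv D6448)
theorem F41783 : act 9 n9321 = n9321 := d38_2 F29496 D9321 (iv D9321)
def n9322 : Q := act 8 n6442
theorem D9322 : act 8 n6442 = n9322 := rfl
theorem F41784 : act 0 n9322 = n9322 := d7_1 D9322 (iv D9322) F29491
theorem F41785 : act 2 n9322 = n9322 := d22_1 D9322 (iv D9322) F29492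
theorem F41786 : act 3 n9322 = n6497 := d28_1 D9322 (iv D6497) (iv D4499) (iv F20908) D6442
theorem F41787 : act 4 n9322 = n9322 := d33_1 D9322 (iv D9322) F29493
theorem F41788 : act 6 n9322 = n9322 := d40_1 D9322 (iv D9322) F29494
theorem F41789 : act 7 n9322 = n6449 := d42_1 D9322 (iv D6449) (iv F29495)
def n9323 : Q := act 6 n6443
theorem D9323 : act 6 n6443 = n9323 := rfl
theorem F41790 : act 0 n9323 = n9323 := d5_1 D9323 (iv D9323) F29497
theorem F41791 : act 2 n9323 = n6444 := d20_1 D9323 (iv D6444) (iv F29498)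
theorem F41792 : act 5 n9323 = n9323 := d35_1 D9323 (iv D9323) (iv D6443) F20906 D6443
theorem F41793 : act 8 n9323 = n6498 := d40_2 (iv F29500) D9323 (iv D6498)
theorem F41794 : act 9 n9323 = n9323 := d41_2 F29501 D9323 (iv D9323)
def n9324 : Q := act 7 n6444
theorem D9324 : act 7 n6444 = n9324 := rfl
theorem F41795 : act 0 n9324 = n9324 := d6_1 D9324 (iv D9324) F29502
theorem F41796 : act 1 n9324 = n9324 := d14_1 D9324 (iv D9324) F29503
theorem F41797 : act 3 n9324 = n9324 := d27_1 D9324 (iv D9324) F29504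
theorem F41798 : act 5 n9324 = n9324 := d36_1 D9324 (iv D9324) F29505
theorem F41799 : act 6 n9324 = n6451 := d39_1 D9324 (iv D6451) (iv D4470) (iv F20913) D6444
theorem F41800 : act 8 n9324 = n6499 := d42_2 (iv F29506) D9324 (iv D6499)
theorem F41801 : act 9 n9324 = n9324 := d43_2 F29507 D9324 (iv D9324)
def n9325 : Q := act 3 n6445
theorem D9325 : act 3 n6445 = n9325 := rfl
theorem F41802 : act 0 n9325 = n6446 := d2_1 D9325 (iv D6446) (iv F29508)
theorem F41803 : act 1 n9325 = n9325 := d10_1 D9325 (iv D9325) F29509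
theorem F41804 : act 4 n9325 = n9325 := d24_2 D6445 D9325 (iv D9325) (iv D6445) F20918
theorem F41805 : act 6 n9325 = n6452 := d26_2 (iv F29511) D9325 (iv D6452)
theorem F41806 : act 9 n9325 = n9325 := d29_2 F29513 D9325 (iv D9325)
def n9326 : Q := act 5 n6445
theorem D9326 : act 5 n6445 = n9326 := rfl
theorem F41807 : act 0 n9326 = n6447 := d4_1 D9326 (iv D6447) (iv F29508)
theorem F41808 : act 1 n9326 = n9326 := d12_1 D9326 (iv D9326) F29509
theorem F41809 : act 2 n9326 = n9326 := d19_1 D9326 (iv D9326) F29510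
theorem F41810 : act 8 n9326 = n6508 := d37_2 (iv F29512) D9326 (iv D6508)
theorem F41811 : act 9 n9326 = n9326 := d38_2 F29513 D9326 (iv D9326)
def n9327 : Q := act 2 n6446
theorem D9327 : act 2 n6446 = n9327 := rfl
theorem F41812 : act 1 n9327 = n9327 := d9_1 D9327 (iv D9327) F29514 F20928 (iv F29514)
theorem F41813 : act 3 n9327 = n9327 := d17_2 D6446 D9327 (iv D9327) (iv D6446) F20923
theorem F41814 : act 4 n9327 = n9327 := d18_2 F29515 D9327 (iv D9327)
theorem F41815 : act 6 n9327 = n6454 := d20_2 (iv F29516) D9327 (iv D6454)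
theorem F41816 : act 9 n9327 = n9327 := d23_2 F29517 D9327 (iv D9327)
def n9328 : Q := act 5 n6446
theorem D9328 : act 5 n6446 = n9328 := rfl
theorem F41817 : act 1 n9328 = n6448 := d12_1 D9328 (iv D6448) (iv F29514)
theorem F41818 : act 3 n9328 = n6447 := d25_1 D9328 (iv D6447) D6446
theorem F41819 : act 9 n9328 = n9328 := d38_2 F29517 D9328 (iv D9328)
def n9329 : Q := act 8 n6446
theorem D9329 : act 8 n6446 = n9329 := rfl
theorem F41820 : act 1 n9329 = n6449 := d15_1 D9329 (iv D6449) (iv F29514)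
theorem F41821 : act 3 n9329 = n6511 := d28_1 D9329 (iv D6511) (iv D4508) (iv F20925) D6446
theorem F41822 : act 4 n9329 = n9329 := d33_1 D9329 (iv D9329) F29515
theorem F41823 : act 6 n9329 = n6456 := d40_1 D9329 (iv D6456) (iv F29516)
def n9330 : Q := act 6 n6447
theorem D9330 : act 6 n6447 = n9330 := rfl
theorem F41824 : act 1 n9330 = n6450 := d13_1 D9330 (iv D6450) (iv F29518)
theorem F41825 : act 2 n9330 = n9330 := d20_1 D9330 (iv D9330) F29519
theorem F41826 : act 5 n9330 = n6457 := d35_1 D9330 (iv D6457) (iv D4473) (iv F20924) D6447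
theorem F41827 : act 8 n9330 = n6512 := d40_2 (iv F29520) D9330 (iv D6512)
theorem F41828 : act 9 n9330 = n9330 := d41_2 F29521 D9330 (iv D9330)
def n9331 : Q := act 4 n6448
theorem D9331 : act 4 n6448 = n9331 := rfl
theorem F41829 : act 0 n9331 = n9331 := d3_1 D9331 (iv D9331) F29522
theorem F41830 : act 2 n9331 = n9331 := d18_1 D9331 (iv D9331) F29523
theorem F41831 : act 5 n9331 = n9331 := d30_2 D6448 D9331 (iv D9331) (iv D6448) F20929
theorem F41832 : act 9 n9331 = n9331 := d34_2 F29525 D9331 (iv D9331)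
def n9332 : Q := act 6 n6448
theorem D9332 : act 6 n6448 = n9332 := rfl
theorem F41833 : act 0 n9332 = n9332 := d5_1 D9332 (iv D9332) F29522
theorem F41834 : act 2 n9332 = n9332 := d20_1 D9332 (iv D9332) F29523
theorem F41835 : act 3 n9332 = n6450 := d26_1 D9332 (iv D6450) (iv F29524)
theorem F41836 : act 5 n9332 = n6459 := d35_1 D9332 (iv D6459) (iv D4474) (iv F20930) D6448
theorem F41837 : act 9 n9332 = n9332 := d41_2 F29525 D9332 (iv D9332)
def n9333 : Q := act 8 n6448
theorem D9333 : act 8 n6448 = n9333 := rfl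
theorem F41838 : act 0 n9333 = n9333 := d7_1 D9333 (iv D9333) F29522
theorem F41839 : act 2 n9333 = n9333 := d22_1 D9333 (iv D9333) F29523
theorem F41840 : act 3 n9333 = n6515 := d28_1 D9333 (iv D6515) F21134 (iv F20934) (iv F29524)
theorem F41841 : act 5 n9333 = n6449 := d37_1 D9333 (iv D6449) D6448
def n9334 : Q := act 9 n6449
theorem D9334 : act 9 n6449 = n9334 := rfl
theorem F41842 : act 0 n9334 = n9334 := d8_1 D9334 (iv D9334) F29526
theorem F41843 : act 2 n9334 = n9334 := d23_1 D9334 (iv D9334) F29527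
theorem F41844 : act 3 n9334 = n6516 := d29_1 D9334 (iv D6516) (iv F29528)
theorem F41845 : act 4 n9334 = n9334 := d34_1 D9334 (iv D9334) F29529
theorem F41846 : act 6 n9334 = n6461 := d41_1 D9334 (iv D6461) (iv F29530)
theorem F41847 : act 8 n9334 = n9334 := d44_1 D9334 (iv D9334) (iv D6449) F20931 D6449
def n9335 : Q := act 7 n6450
theorem D9335 : act 7 n6450 = n9335 := rfl
theorem F41848 : act 0 n9335 = n9335 := d6_1 D9335 (iv D9335) F29531
theorem F41849 : act 2 n9335 = n6451 := d21_1 D9335 (iv D6451) (iv F29532)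
theorem F41850 : act 5 n9335 = n6462 := d36_1 D9335 (iv D6462) (iv F29533)
theorem F41851 : act 8 n9335 = n6517 := d42_2 (iv F29534) D9335 (iv D6517)
theorem F41852 : act 9 n9335 = n9335 := d43_2 F29535 D9335 (iv D9335)
def n9336 : Q := act 2 n6452
theorem D9336 : act 2 n6452 = n9336 := rfl
theorem F41853 : act 0 n9336 = n6454 := d1_1 D9336 (iv D6454) (iv F29542)
theorem F41854 : act 3 n9336 = n9336 := d17_2 D6452 D9336 (iv D9336) (iv D6452) F20944
theorem F41855 : act 4 n9336 = n9336 := d18_2 F29544 D9336 (iv D9336)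
theorem F41856 : act 7 n9336 = n9336 := d21_2 F29545 D9336 (iv D9336)
theorem F41857 : act 9 n9336 = n9336 := d23_2 F29546 D9336 (iv D9336)
def n9337 : Q := act 5 n6452
theorem D9337 : act 5 n6452 = n9337 := rfl
theorem F41858 : act 0 n9337 = n6455 := d4_1 D9337 (iv D6455) (iv F29542)
theorem F41859 : act 1 n9337 = n9337 := d12_1 D9337 (iv D9337) F29543
theorem F41860 : act 3 n9337 = n6453 := d25_1 D9337 (iv D6453) D6452
theorem F41861 : act 7 n9337 = n9337 := d36_2 F29545 D9337 (iv D9337)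
theorem F41862 : act 9 n9337 = n9337 := d38_2 F29546 D9337 (iv D9337)
def n9338 : Q := act 8 n6452
theorem D9338 : act 8 n6452 = n9338 := rfl
theorem F41863 : act 0 n9338 = n6456 := d7_1 D9338 (iv D6456) (iv F29542)
theorem F41864 : act 1 n9338 = n9338 := d15_1 D9338 (iv D9338) F29543
theorem F41865 : act 3 n9338 = n6531 := d28_1 D9338 (iv D6531) (iv D4521) (iv F20946) D6452
theorem F41866 : act 4 n9338 = n9338 := d33_1 D9338 (iv D9338) F29544
theorem F41867 : act 7 n9338 = n9338 := d42_1 D9338 (iv D9338) F29545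
def n9339 : Q := act 6 n6453
theorem D9339 : act 6 n6453 = n9339 := rfl
theorem F41868 : act 0 n9339 = n6457 := d5_1 D9339 (iv D6457) (iv F29547)
theorem F41869 : act 1 n9339 = n9339 := d13_1 D9339 (iv D9339) F29548
theorem F41870 : act 2 n9339 = n9339 := d20_1 D9339 (iv D9339) F29549
theorem F41871 : act 4 n9339 = n9339 := d31_1 D9339 (iv D9339) F29550
theorem F41872 : act 8 n9339 = n6532 := d40_2 (iv F29552) D9339 (iv D6532)
theorem F41873 : act 9 n9339 = n9339 := d41_2 F29553 D9339 (iv D9339)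
def n9340 : Q := act 5 n6454
theorem D9340 : act 5 n6454 = n9340 := rfl
theorem F41874 : act 1 n9340 = n9340 := d12_1 D9340 (iv D9340) F29554
theorem F41875 : act 2 n9340 = n6455 := d19_1 D9340 (iv D6455) D6454
theorem F41876 : act 3 n9340 = n9340 := d25_1 D9340 (iv D9340) F29555
theorem F41877 : act 7 n9340 = n9340 := d36_2 F29557 D9340 (iv D9340)
theorem F41878 : act 9 n9340 = n9340 := d38_2 F29558 D9340 (iv D9340)
def n9341 : Q := act 8 n6454
theorem D9341 : act 8 n6454 = n9341 := rfl
theorem F41879 : act 1 n9341 = n9341 := d15_1 D9341 (iv D9341) F29554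
theorem F41880 : act 2 n9341 = n6456 := d22_1 D9341 (iv D6456) D6454
theorem F41881 : act 4 n9341 = n9341 := d33_1 D9341 (iv D9341) F29556
theorem F41882 : act 7 n9341 = n9341 := d42_1 D9341 (iv D9341) F29557
def n9342 : Q := act 4 n6455
theorem D9342 : act 4 n6455 = n9342 := rfl
theorem F41883 : act 1 n9342 = n6458 := d11_1 D9342 (iv D6458) (iv F29559)
theorem F41884 : act 3 n9342 = n9342 := d24_1 D9342 (iv D9342) F29560 F20954 (iv F29560)
theorem F41885 : act 5 n9342 = n9342 := d30_2 D6455 D9342 (iv D9342) (iv D6455) F20949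
theorem F41886 : act 7 n9342 = n9342 := d32_2 F29561 D9342 (iv D9342)
theorem F41887 : act 9 n9342 = n9342 := d34_2 F29562 D9342 (iv D9342)
def n9343 : Q := act 6 n6455
theorem D9343 : act 6 n6455 = n9343 := rfl
theorem F41888 : act 1 n9343 = n6459 := d13_1 D9343 (iv D6459) (iv F29559)
theorem F41889 : act 3 n9343 = n6457 := d26_1 D9343 (iv D6457) (iv F29560)
theorem F41890 : act 9 n9343 = n9343 := d41_2 F29562 D9343 (iv D9343)
def n9344 : Q := act 8 n6455
theorem D9344 : act 8 n6455 = n9344 := rfl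
theorem F41891 : act 1 n9344 = n6460 := d15_1 D9344 (iv D6460) (iv F29559)
theorem F41892 : act 3 n9344 = n6537 := d28_1 D9344 (iv D6537) F21198 (iv F20956) (iv F29560)
theorem F41893 : act 5 n9344 = n6456 := d37_1 D9344 (iv D6456) D6455
theorem F41894 : act 7 n9344 = n9344 := d42_1 D9344 (iv D9344) F29561
def n9345 : Q := act 9 n6456
theorem D9345 : act 9 n6456 = n9345 := rfl
theorem F41895 : act 1 n9345 = n6461 := d16_1 D9345 (iv D6461) (iv F29563)
theorem F41896 : act 3 n9345 = n6538 := d29_1 D9345 (iv D6538) (iv F29564)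
theorem F41897 : act 4 n9345 = n9345 := d34_1 D9345 (iv D9345) F29565
theorem F41898 : act 7 n9345 = n9345 := d43_1 D9345 (iv D9345) F29566
theorem F41899 : act 8 n9345 = n9345 := d44_1 D9345 (iv D9345) (iv D6456) F20951 D6456
def n9346 : Q := act 7 n6457
theorem D9346 : act 7 n6457 = n9346 := rfl
theorem F41900 : act 1 n9346 = n6462 := d14_1 D9346 (iv D6462) (iv F29567)
theorem F41901 : act 2 n9346 = n9346 := d21_1 D9346 (iv D9346) F29568
theorem F41902 : act 4 n9346 = n9346 := d32_1 D9346 (iv D9346) F29569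
theorem F41903 : act 6 n9346 = n9346 := d39_1 D9346 (iv D9346) (iv D6457) F20955 D6457
theorem F41904 : act 8 n9346 = n6539 := d42_2 (iv F29570) D9346 (iv D6539)
theorem F41905 : act 9 n9346 = n9346 := d43_2 F29571 D9346 (iv D9346)
def n9347 : Q := act 6 n6458
theorem D9347 : act 6 n6458 = n9347 := rfl
theorem F41906 : act 0 n9347 = n9347 := d5_1 D9347 (iv D9347) F29572
theorem F41907 : act 2 n9347 = n9347 := d20_1 D9347 (iv D9347) F29573
theorem F41908 : act 3 n9347 = n9347 := d26_1 D9347 (iv D9347) F29574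
theorem F41909 : act 4 n9347 = n6459 := d31_1 D9347 (iv D6459) D6458
theorem F41910 : act 9 n9347 = n9347 := d41_2 F29577 D9347 (iv D9347)
def n9348 : Q := act 8 n6458
theorem D9348 : act 8 n6458 = n9348 := rfl
theorem F41911 : act 0 n9348 = n9348 := d7_1 D9348 (iv D9348) F29572
theorem F41912 : act 2 n9348 = n9348 := d22_1 D9348 (iv D9348) F29573
theorem F41913 : act 4 n9348 = n6460 := d33_1 D9348 (iv D6460) D6458
theorem F41914 : act 5 n9348 = n9348 := d37_1 D9348 (iv D9348) F29575
theorem F41915 : act 7 n9348 = n9348 := d42_1 D9348 (iv D9348) F29576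
def n9349 : Q := act 7 n6459
theorem D9349 : act 7 n6459 = n9349 := rfl
theorem F41916 : act 0 n9349 = n9349 := d6_1 D9349 (iv D9349) F29578
theorem F41917 : act 2 n9349 = n9349 := d21_1 D9349 (iv D9349) F29579
theorem F41918 : act 3 n9349 = n6462 := d27_1 D9349 (iv D6462) (iv F29580)
theorem F41919 : act 6 n9349 = n9349 := d39_1 D9349 (iv D9349) (iv D6459) F20961 D6459
theorem F41920 : act 9 n9349 = n9349 := d43_2 F29581 D9349 (iv D9349)
def n9350 : Q := act 8 n6459
theorem D9350 : act 8 n6459 = n9350 := rfl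
theorem F41921 : act 0 n9350 = n9350 := d7_1 D9350 (iv D9350) F29578
theorem F41922 : act 2 n9350 = n9350 := d22_1 D9350 (iv D9350) F29579
theorem F41923 : act 3 n9350 = n6543 := d28_1 D9350 (iv D6543) F21213 (iv F20971) (iv F29580)
theorem F41924 : act 6 n9350 = n6460 := d40_1 D9350 (iv D6460) D6459
def n9351 : Q := act 9 n6460
theorem D9351 : act 9 n6460 = n9351 := rfl
theorem F41925 : act 0 n9351 = n9351 := d8_1 D9351 (iv D9351) F29582
theorem F41926 : act 2 n9351 = n9351 := d23_1 D9351 (iv D9351) F29583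
theorem F41927 : act 3 n9351 = n6544 := d29_1 D9351 (iv D6544) (iv F29584)
theorem F41928 : act 5 n9351 = n6461 := d38_1 D9351 (iv D6461) (iv F29585)
theorem F41929 : act 7 n9351 = n9351 := d43_1 D9351 (iv D9351) F29586
theorem F41930 : act 8 n9351 = n9351 := d44_1 D9351 (iv D9351) (iv D6460) F20962 D6460
def n9352 : Q := act 1 n6463
theorem D9352 : act 1 n6463 = n9352 := rfl
theorem F41931 : act 2 n9352 = n9352 := d9_2 D6463 D9352 (iv D9352) (iv D6463) F20981
theorem F41932 : act 3 n9352 = n6745 := d10_2 (iv F29600) D9352 (iv D6745)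
theorem F41933 : act 5 n9352 = n9352 := d12_2 F29601 D9352 (iv D9352)
theorem F41934 : act 6 n9352 = n6468 := d13_2 (iv F29602) D9352 (iv D6468)
theorem F41935 : act 7 n9352 = n9352 := d14_2 F29603 D9352 (iv D9352)
theorem F41936 : act 8 n9352 = n9352 := d15_2 F29604 D9352 (iv D9352)
theorem F41937 : act 9 n9352 = n6465 := d16_2 (iv F29605) D9352 (iv D6465)
def n9353 : Q := act 4 n6463
theorem D9353 : act 4 n6463 = n9353 := rfl
theorem F41938 : act 0 n9353 = n9353 := d3_1 D9353 (iv D9353) F29599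
theorem F41939 : act 2 n9353 = n6464 := d18_1 D9353 (iv D6464) D6463
theorem F41940 : act 6 n9353 = n6469 := d31_2 (iv F29602) D9353 (iv D6469)
theorem F41941 : act 7 n9353 = n9353 := d32_2 F29603 D9353 (iv D9353)
theorem F41942 : act 8 n9353 = n9353 := d33_2 F29604 D9353 (iv D9353)
theorem F41943 : act 9 n9353 = n6466 := d34_2 (iv F29605) D9353 (iv D6466)
def n9354 : Q := act 5 n6464
theorem D9354 : act 5 n6464 = n9354 := rfl
theorem F41944 : act 0 n9354 = n9354 := d4_1 D9354 (iv D9354) F29606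
theorem F41945 : act 1 n9354 = n9354 := d12_1 D9354 (iv D9354) F29607
theorem F41946 : act 3 n9354 = n9354 := d25_1 D9354 (iv D9354) F29608
theorem F41947 : act 4 n9354 = n9354 := d30_1 D9354 (iv D9354) (iv D6464) F20982 D6464
theorem F41948 : act 7 n9354 = n9354 := d36_2 F29610 D9354 (iv D9354)
theorem F41949 : act 8 n9354 = n9354 := d37_2 F29611 D9354 (iv D9354)
theorem F41950 : act 9 n9354 = n6467 := d38_2 (iv F29612) D9354 (iv D6467)
def n9355 : Q := act 0 n6465
theorem D9355 : act 0 n6465 = n9355 := rfl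
theorem F41951 : act 1 n9355 = n9355 := d0_2 D6465 D9355 (iv D9355) (iv D6465) F20987
theorem F41952 : act 2 n9355 = n9355 := d1_2 F29613 D9355 (iv D9355)
theorem F41953 : act 3 n9355 = n6748 := d2_2 (iv F29614) D9355 (iv D6748)
theorem F41954 : act 5 n9355 = n9355 := d4_2 F29615 D9355 (iv D9355)
theorem F41955 : act 6 n9355 = n6471 := d5_2 (iv F29616) D9355 (iv D6471)
theorem F41956 : act 7 n9355 = n9355 := d6_2 F29617 D9355 (iv D9355)
def n9356 : Q := act 4 n6465
theorem D9356 : act 4 n6465 = n9356 := rfl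
theorem F41957 : act 1 n9356 = n6466 := d11_1 D9356 (iv D6466) D6465
theorem F41958 : act 2 n9356 = n9356 := d18_1 D9356 (iv D9356) F29613
theorem F41959 : act 6 n9356 = n6472 := d31_2 (iv F29616) D9356 (iv D6472)
theorem F41960 : act 7 n9356 = n9356 := d32_2 F29617 D9356 (iv D9356)
def n9357 : Q := act 3 n6466
theorem D9357 : act 3 n6466 = n9357 := rfl
theorem F41961 : act 0 n9357 = n9357 := d2_1 D9357 (iv D9357) F29618
theorem F41962 : act 2 n9357 = n9357 := d17_1 D9357 (iv D9357) F29619 F20994 (iv F29619)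
theorem F41963 : act 4 n9357 = n6750 := d24_2 D6466 D9357 (iv D6750) (iv D4669) (iv F20988)
theorem F41964 : act 6 n9357 = n6473 := d26_2 (iv F29620) D9357 (iv D6473)
theorem F41965 : act 7 n9357 = n9357 := d27_2 F29621 D9357 (iv D9357)
def n9358 : Q := act 5 n6466
theorem D9358 : act 5 n6466 = n9358 := rfl
theorem F41966 : act 0 n9358 = n9358 := d4_1 D9358 (iv D9358) F29618
theorem F41967 : act 2 n9358 = n6467 := d19_1 D9358 (iv D6467) (iv F29619)
theorem F41968 : act 4 n9358 = n9358 := d30_1 D9358 (iv D9358) (iv D6466) F20989 D6466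
theorem F41969 : act 7 n9358 = n9358 := d36_2 F29621 D9358 (iv D9358)
def n9359 : Q := act 6 n6467
theorem D9359 : act 6 n6467 = n9359 := rfl
theorem F41970 : act 0 n9359 = n9359 := d5_1 D9359 (iv D9359) F29622
theorem F41971 : act 1 n9359 = n9359 := d13_1 D9359 (iv D9359) F29623
theorem F41972 : act 3 n9359 = n9359 := d26_1 D9359 (iv D9359) F29624
theorem F41973 : act 4 n9359 = n9359 := d31_1 D9359 (iv D9359) F29625
theorem F41974 : act 5 n9359 = n6475 := d35_1 D9359 (iv D6475) (iv D4485) (iv F20995) D6467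
def n9360 : Q := act 0 n6468
theorem D9360 : act 0 n6468 = n9360 := rfl
theorem F41977 : act 3 n9360 = n6758 := d2_2 (iv F29628) D9360 (iv D6758)
theorem F41978 : act 5 n9360 = n6488 := d4_2 (iv F29629) D9360 (iv D6488)
theorem F41981 : act 9 n9360 = n6471 := d8_2 (iv F29632) D9360 (iv D6471)
def n9361 : Q := act 4 n6468
theorem D9361 : act 4 n6468 = n9361 := rfl
theorem F41982 : act 1 n9361 = n6469 := d11_1 D9361 (iv D6469) D6468
theorem F41983 : act 2 n9361 = n9361 := d18_1 D9361 (iv D9361) F29627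
theorem F41984 : act 7 n9361 = n6477 := d32_2 (iv F29630) D9361 (iv D6477)
theorem F41985 : act 8 n9361 = n9361 := d33_2 F29631 D9361 (iv D9361)
theorem F41986 : act 9 n9361 = n6472 := d34_2 (iv F29632) D9361 (iv D6472)
def n9362 : Q := act 3 n6469
theorem D9362 : act 3 n6469 = n9362 := rfl
theorem F41987 : act 0 n9362 = n9362 := d2_1 D9362 (iv D9362) F29633
theorem F41988 : act 2 n9362 = n9362 := d17_1 D9362 (iv D9362) F29634 F21005 (iv F29634)
theorem F41989 : act 4 n9362 = n6760 := d24_2 D6469 D9362 (iv D6760) (iv D4675) (iv F20998)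
theorem F41990 : act 7 n9362 = n6478 := d27_2 (iv F29635) D9362 (iv D6478)
theorem F41991 : act 9 n9362 = n6473 := d29_2 (iv F29637) D9362 (iv D6473)
def n9363 : Q := act 5 n6469
theorem D9363 : act 5 n6469 = n9363 := rfl
theorem F41992 : act 0 n9363 = n9363 := d4_1 D9363 (iv D9363) F29633
theorem F41993 : act 2 n9363 = n6470 := d19_1 D9363 (iv D6470) (iv F29634)
theorem F41994 : act 4 n9363 = n6491 := d30_1 D9363 (iv D6491) (iv D4495) (iv F20999) D6469
theorem F41995 : act 7 n9363 = n6479 := d36_2 (iv F29635) D9363 (iv D6479)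
theorem F41996 : act 8 n9363 = n9363 := d37_2 F29636 D9363 (iv D9363)
theorem F41997 : act 9 n9363 = n6474 := d38_2 (iv F29637) D9363 (iv D6474)
def n9364 : Q := act 6 n6470
theorem D9364 : act 6 n6470 = n9364 := rfl
theorem F41998 : act 0 n9364 = n9364 := d5_1 D9364 (iv D9364) F29638
theorem F41999 : act 1 n9364 = n9364 := d13_1 D9364 (iv D9364) F29639
theorem F42000 : act 3 n9364 = n9364 := d26_1 D9364 (iv D9364) F29640
theorem F42001 : act 4 n9364 = n6492 := d31_1 D9364 (iv D6492) (iv F29641)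
theorem F42002 : act 8 n9364 = n9364 := d40_2 F29643 D9364 (iv D9364)
theorem F42003 : act 9 n9364 = n6475 := d41_2 (iv F29644) D9364 (iv D6475)
def n9365 : Q := act 4 n6471
theorem D9365 : act 4 n6471 = n9365 := rfl
theorem F42004 : act 0 n9365 = n6472 := d3_1 D9365 (iv D6472) D6471
theorem F42005 : act 1 n9365 = n9365 := d11_1 D9365 (iv D9365) F29645
theorem F42006 : act 2 n9365 = n9365 := d18_1 D9365 (iv D9365) F29646
theorem F42007 : act 7 n9365 = n6481 := d32_2 (iv F29649) D9365 (iv D6481)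
def n9366 : Q := act 3 n6472
theorem D9366 : act 3 n6472 = n9366 := rfl
theorem F42008 : act 1 n9366 = n6473 := d10_1 D9366 (iv D6473) (iv F29650)
theorem F42009 : act 4 n9366 = n6764 := d24_2 D6472 D9366 (iv D6764) (iv D4678) (iv F21010)
theorem F42010 : act 7 n9366 = n6482 := d27_2 (iv F29652) D9366 (iv D6482)
def n9367 : Q := act 5 n6472
theorem D9367 : act 5 n6472 = n9367 := rfl
theorem F42011 : act 1 n9367 = n6474 := d12_1 D9367 (iv D6474) (iv F29650)
theorem F42012 : act 2 n9367 = n9367 := d19_1 D9367 (iv D9367) F29651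
theorem F42013 : act 4 n9367 = n6495 := d30_1 D9367 (iv D6495) (iv D4498) (iv F21011) D6472
theorem F42014 : act 7 n9367 = n6483 := d36_2 (iv F29652) D9367 (iv D6483)
def n9368 : Q := act 5 n6473
theorem D9368 : act 5 n6473 = n9368 := rfl
theorem F42015 : act 0 n9368 = n9368 := d4_1 D9368 (iv D9368) F29653
theorem F42016 : act 2 n9368 = n9368 := d19_1 D9368 (iv D9368) F29654
theorem F42017 : act 3 n9368 = n6474 := d25_1 D9368 (iv D6474) D6473
theorem F42018 : act 7 n9368 = n6484 := d36_2 (iv F29656) D9368 (iv D6484)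
def n9369 : Q := act 8 n6473
theorem D9369 : act 8 n6473 = n9369 := rfl
theorem F42019 : act 0 n9369 = n9369 := d7_1 D9369 (iv D9369) F29653
theorem F42020 : act 2 n9369 = n9369 := d22_1 D9369 (iv D9369) F29654
theorem F42021 : act 4 n9369 = n6767 := d33_1 D9369 (iv D6767) (iv F29655)
theorem F42022 : act 7 n9369 = n6485 := d42_1 D9369 (iv D6485) (iv F29656)
def n9370 : Q := act 6 n6474
theorem D9370 : act 6 n6474 = n9370 := rfl
theorem F42023 : act 0 n9370 = n9370 := d5_1 D9370 (iv D9370) F29657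
theorem F42024 : act 2 n9370 = n6475 := d20_1 D9370 (iv D6475) (iv F29658)
theorem F42025 : act 4 n9370 = n6498 := d31_1 D9370 (iv D6498) (iv F29659)
def n9371 : Q := act 7 n6475
theorem D9371 : act 7 n6475 = n9371 := rfl
theorem F42026 : act 0 n9371 = n9371 := d6_1 D9371 (iv D9371) F29661
theorem F42027 : act 1 n9371 = n9371 := d14_1 D9371 (iv D9371) F29662
theorem F42028 : act 3 n9371 = n9371 := d27_1 D9371 (iv D9371) F29663
theorem F42029 : act 4 n9371 = n6499 := d32_1 D9371 (iv D6499) (iv F29664)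
theorem F42030 : act 6 n9371 = n6487 := d39_1 D9371 (iv D6487) (iv D4493) (iv F21020) D6475
def n9372 : Q := act 4 n6476
theorem D9372 : act 4 n6476 = n9372 := rfl
theorem F42031 : act 0 n9372 = n6477 := d3_1 D9372 (iv D6477) D6476
theorem F42036 : act 9 n9372 = n6481 := d34_2 (iv F29671) D9372 (iv D6481)
def n9373 : Q := act 3 n6477
theorem D9373 : act 3 n6477 = n9373 := rfl
theorem F42037 : act 1 n9373 = n6478 := d10_1 D9373 (iv D6478) (iv F29672)
theorem F42038 : act 4 n9373 = n6779 := d24_2 D6477 D9373 (iv D6779) (iv D4688) (iv F21022)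
theorem F42039 : act 6 n9373 = n9373 := d26_2 F29674 D9373 (iv D9373)
theorem F42040 : act 9 n9373 = n6482 := d29_2 (iv F29676) D9373 (iv D6482)
def n9374 : Q := act 5 n6477
theorem D9374 : act 5 n6477 = n9374 := rfl
theorem F42041 : act 1 n9374 = n6479 := d12_1 D9374 (iv D6479) (iv F29672)
theorem F42042 : act 2 n9374 = n9374 := d19_1 D9374 (iv D9374) F29673
theorem F42043 : act 4 n9374 = n6502 := d30_1 D9374 (iv D6502) (iv D4503) (iv F21023) D6477
theorem F42044 : act 8 n9374 = n9374 := d37_2 F29675 D9374 (iv D9374)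
theorem F42045 : act 9 n9374 = n6483 := d38_2 (iv F29676) D9374 (iv D6483)
def n9375 : Q := act 5 n6478
theorem D9375 : act 5 n6478 = n9375 := rfl
theorem F42046 : act 0 n9375 = n9375 := d4_1 D9375 (iv D9375) F29677
theorem F42047 : act 2 n9375 = n9375 := d19_1 D9375 (iv D9375) F29678
theorem F42048 : act 3 n9375 = n6479 := d25_1 D9375 (iv D6479) D6478
theorem F42049 : act 9 n9375 = n6484 := d38_2 (iv F29681) D9375 (iv D6484)
def n9376 : Q := act 8 n6478
theorem D9376 : act 8 n6478 = n9376 := rfl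
theorem F42050 : act 0 n9376 = n9376 := d7_1 D9376 (iv D9376) F29677
theorem F42051 : act 2 n9376 = n9376 := d22_1 D9376 (iv D9376) F29678
theorem F42052 : act 3 n9376 = n9376 := d28_1 D9376 (iv D9376) (iv D6478) F21030 D6478
theorem F42053 : act 4 n9376 = n6782 := d33_1 D9376 (iv D6782) (iv F29679)
theorem F42054 : act 6 n9376 = n9376 := d40_1 D9376 (iv D9376) F29680
def n9377 : Q := act 6 n6479
theorem D9377 : act 6 n6479 = n9377 := rfl
theorem F42055 : act 0 n9377 = n9377 := d5_1 D9377 (iv D9377) F29682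
theorem F42056 : act 2 n9377 = n6480 := d20_1 D9377 (iv D6480) (iv F29683)
theorem F42057 : act 4 n9377 = n6505 := d31_1 D9377 (iv D6505) (iv F29684)
theorem F42058 : act 5 n9377 = n9377 := d35_1 D9377 (iv D9377) (iv D6479) F21029 D6479
theorem F42059 : act 8 n9377 = n9377 := d40_2 F29685 D9377 (iv D9377)
theorem F42060 : act 9 n9377 = n6486 := d41_2 (iv F29686) D9377 (iv D6486)
def n9378 : Q := act 7 n6480
theorem D9378 : act 7 n6480 = n9378 := rfl
theorem F42061 : act 0 n9378 = n9378 := d6_1 D9378 (iv D9378) F29687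
theorem F42062 : act 1 n9378 = n9378 := d14_1 D9378 (iv D9378) F29688
theorem F42063 : act 3 n9378 = n9378 := d27_1 D9378 (iv D9378) F29689
theorem F42064 : act 4 n9378 = n6506 := d32_1 D9378 (iv D6506) (iv F29690)
theorem F42065 : act 5 n9378 = n9378 := d36_1 D9378 (iv D9378) F29691
theorem F42066 : act 8 n9378 = n9378 := d42_2 F29692 D9378 (iv D9378)
theorem F42067 : act 9 n9378 = n6487 := d43_2 (iv F29693) D9378 (iv D6487)
def n9379 : Q := act 3 n6481
theorem D9379 : act 3 n6481 = n9379 := rfl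
theorem F42068 : act 0 n9379 = n6482 := d2_1 D9379 (iv D6482) (iv F29694)
theorem F42069 : act 1 n9379 = n9379 := d10_1 D9379 (iv D9379) F29695
theorem F42070 : act 4 n9379 = n6785 := d24_2 D6481 D9379 (iv D6785) (iv D4692) (iv F21040)
theorem F42071 : act 6 n9379 = n9379 := d26_2 F29697 D9379 (iv D9379)
def n9380 : Q := act 5 n6481
theorem D9380 : act 5 n6481 = n9380 := rfl
theorem F42072 : act 0 n9380 = n6483 := d4_1 D9380 (iv D6483) (iv F29694)
theorem F42073 : act 1 n9380 = n9380 := d12_1 D9380 (iv D9380) F29695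
theorem F42074 : act 2 n9380 = n9380 := d19_1 D9380 (iv D9380) F29696
theorem F42075 : act 4 n9380 = n6508 := d30_1 D9380 (iv D6508) (iv D4507) (iv F21041) D6481
def n9381 : Q := act 2 n6482
theorem D9381 : act 2 n6482 = n9381 := rfl
theorem F42076 : act 1 n9381 = n9381 := d9_1 D9381 (iv D9381) F29698 F21047 (iv F29698)
theorem F42077 : act 3 n9381 = n9381 := d17_2 D6482 D9381 (iv D9381) (iv D6482) F21044
theorem F42078 : act 4 n9381 = n6787 := d18_2 (iv F29699) D9381 (iv D6787)
theorem F42079 : act 6 n9381 = n9381 := d20_2 F29700 D9381 (iv D9381)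
def n9382 : Q := act 5 n6482
theorem D9382 : act 5 n6482 = n9382 := rfl
theorem F42080 : act 1 n9382 = n6484 := d12_1 D9382 (iv D6484) (iv F29698)
theorem F42081 : act 3 n9382 = n6483 := d25_1 D9382 (iv D6483) D6482
def n9383 : Q := act 8 n6482
theorem D9383 : act 8 n6482 = n9383 := rfl
theorem F42082 : act 1 n9383 = n6485 := d15_1 D9383 (iv D6485) (iv F29698)
theorem F42083 : act 4 n9383 = n6789 := d33_1 D9383 (iv D6789) (iv F29699)
theorem F42084 : act 6 n9383 = n9383 := d40_1 D9383 (iv D9383) F29700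
def n9384 : Q := act 6 n6483
theorem D9384 : act 6 n6483 = n9384 := rfl
theorem F42085 : act 1 n9384 = n6486 := d13_1 D9384 (iv D6486) (iv F29701)
theorem F42086 : act 2 n9384 = n9384 := d20_1 D9384 (iv D9384) F29702
theorem F42087 : act 4 n9384 = n6512 := d31_1 D9384 (iv D6512) (iv F29703)
theorem F42088 : act 5 n9384 = n9384 := d35_1 D9384 (iv D9384) (iv D6483) F21045 D6483
def n9385 : Q := act 4 n6484
theorem D9385 : act 4 n6484 = n9385 := rfl
theorem F42089 : act 0 n9385 = n9385 := d3_1 D9385 (iv D9385) F29704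
theorem F42090 : act 2 n9385 = n9385 := d18_1 D9385 (iv D9385) F29705
theorem F42091 : act 3 n9385 = n6513 := d24_1 D9385 (iv D6513) F21134 (iv F21052) (iv F29706)
theorem F42092 : act 5 n9385 = n6791 := d30_2 D6484 D9385 (iv D6791) (iv D4695) (iv F21048)
def n9386 : Q := act 6 n6484
theorem D9386 : act 6 n6484 = n9386 := rfl
theorem F42093 : act 0 n9386 = n9386 := d5_1 D9386 (iv D9386) F29704
theorem F42094 : act 2 n9386 = n9386 := d20_1 D9386 (iv D9386) F29705
theorem F42095 : act 3 n9386 = n6486 := d26_1 D9386 (iv D6486) (iv F29706)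
theorem F42096 : act 5 n9386 = n9386 := d35_1 D9386 (iv D9386) (iv D6484) F21049 D6484
def n9387 : Q := act 8 n6484
theorem D9387 : act 8 n6484 = n9387 := rfl
theorem F42097 : act 0 n9387 = n9387 := d7_1 D9387 (iv D9387) F29704
theorem F42098 : act 2 n9387 = n9387 := d22_1 D9387 (iv D9387) F29705
theorem F42099 : act 5 n9387 = n6485 := d37_1 D9387 (iv D6485) D6484
def n9388 : Q := act 9 n6485
theorem D9388 : act 9 n6485 = n9388 := rfl
theorem F42100 : act 0 n9388 = n9388 := d8_1 D9388 (iv D9388) F29707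
theorem F42101 : act 2 n9388 = n9388 := d23_1 D9388 (iv D9388) F29708
theorem F42102 : act 4 n9388 = n6794 := d34_1 D9388 (iv D6794) (iv F29709)
theorem F42103 : act 6 n9388 = n9388 := d41_1 D9388 (iv D9388) F29710
def n9389 : Q := act 7 n6486
theorem D9389 : act 7 n6486 = n9389 := rfl
theorem F42104 : act 0 n9389 = n9389 := d6_1 D9389 (iv D9389) F29711
theorem F42105 : act 2 n9389 = n6487 := d21_1 D9389 (iv D6487) (iv F29712)
theorem F42106 : act 4 n9389 = n6517 := d32_1 D9389 (iv D6517) (iv F29713)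
theorem F42107 : act 5 n9389 = n9389 := d36_1 D9389 (iv D9389) F29714
def n9390 : Q := act 4 n6488
theorem D9390 : act 4 n6488 = n9390 := rfl
theorem F42108 : act 0 n9390 = n6489 := d3_1 D9390 (iv D6489) D6488
theorem F42112 : act 7 n9390 = n6500 := d32_2 (iv F29724) D9390 (iv D6500)
theorem F42114 : act 9 n9390 = n6493 := d34_2 (iv F29726) D9390 (iv D6493)
def n9391 : Q := act 3 n6489
theorem D9391 : act 3 n6489 = n9391 := rfl
theorem F42115 : act 1 n9391 = n6490 := d10_1 D9391 (iv D6490) (iv F29727)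
theorem F42116 : act 4 n9391 = n6802 := d24_2 D6489 D9391 (iv D6802) (iv D4703) (iv F21059)
theorem F42117 : act 6 n9391 = n9391 := d26_2 F29729 D9391 (iv D9391)
theorem F42118 : act 7 n9391 = n6501 := d27_2 (iv F29730) D9391 (iv D6501)
theorem F42119 : act 9 n9391 = n6494 := d29_2 (iv F29732) D9391 (iv D6494)
def n9392 : Q := act 5 n6489
theorem D9392 : act 5 n6489 = n9392 := rfl
theorem F42120 : act 1 n9392 = n6491 := d12_1 D9392 (iv D6491) (iv F29727)
theorem F42121 : act 2 n9392 = n9392 := d19_1 D9392 (iv D9392) F29728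
theorem F42122 : act 7 n9392 = n6502 := d36_2 (iv F29730) D9392 (iv D6502)
theorem F42123 : act 8 n9392 = n9392 := d37_2 F29731 D9392 (iv D9392)
theorem F42124 : act 9 n9392 = n6495 := d38_2 (iv F29732) D9392 (iv D6495)
def n9393 : Q := act 5 n6490
theorem D9393 : act 5 n6490 = n9393 := rfl
theorem F42125 : act 0 n9393 = n9393 := d4_1 D9393 (iv D9393) F29733
theorem F42126 : act 2 n9393 = n6553 := d19_1 D9393 (iv D6553) (iv F29734)
theorem F42127 : act 3 n9393 = n6491 := d25_1 D9393 (iv D6491) D6490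
theorem F42128 : act 7 n9393 = n6503 := d36_2 (iv F29737) D9393 (iv D6503)
theorem F42129 : act 9 n9393 = n6496 := d38_2 (iv F29738) D9393 (iv D6496)
def n9394 : Q := act 8 n6490
theorem D9394 : act 8 n6490 = n9394 := rfl
theorem F42130 : act 0 n9394 = n9394 := d7_1 D9394 (iv D9394) F29733
theorem F42131 : act 2 n9394 = n6554 := d22_1 D9394 (iv D6554) (iv F29734)
theorem F42132 : act 3 n9394 = n9394 := d28_1 D9394 (iv D9394) (iv D6490) F21068 D6490
theorem F42133 : act 4 n9394 = n6805 := d33_1 D9394 (iv D6805) (iv F29735)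
theorem F42134 : act 6 n9394 = n9394 := d40_1 D9394 (iv D9394) F29736
theorem F42135 : act 7 n9394 = n6504 := d42_1 D9394 (iv D6504) (iv F29737)
def n9395 : Q := act 6 n6491
theorem D9395 : act 6 n6491 = n9395 := rfl
theorem F42136 : act 0 n9395 = n9395 := d5_1 D9395 (iv D9395) F29739
theorem F42137 : act 2 n9395 = n6492 := d20_1 D9395 (iv D6492) (iv F29740)
theorem F42138 : act 5 n9395 = n9395 := d35_1 D9395 (iv D9395) (iv D6491) F21066 D6491
theorem F42139 : act 8 n9395 = n9395 := d40_2 F29742 D9395 (iv D9395)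
theorem F42140 : act 9 n9395 = n6498 := d41_2 (iv F29743) D9395 (iv D6498)
def n9396 : Q := act 7 n6492
theorem D9396 : act 7 n6492 = n9396 := rfl
theorem F42141 : act 0 n9396 = n9396 := d6_1 D9396 (iv D9396) F29744
theorem F42142 : act 1 n9396 = n9396 := d14_1 D9396 (iv D9396) F29745
theorem F42143 : act 3 n9396 = n6556 := d27_1 D9396 (iv D6556) (iv F29746)
theorem F42144 : act 5 n9396 = n9396 := d36_1 D9396 (iv D9396) F29747
theorem F42145 : act 6 n9396 = n6506 := d39_1 D9396 (iv D6506) (iv D4506) (iv F21073) D6492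
theorem F42146 : act 8 n9396 = n9396 := d42_2 F29748 D9396 (iv D9396)
theorem F42147 : act 9 n9396 = n6499 := d43_2 (iv F29749) D9396 (iv D6499)
def n9397 : Q := act 3 n6493
theorem D9397 : act 3 n6493 = n9397 := rfl
theorem F42148 : act 0 n9397 = n6494 := d2_1 D9397 (iv D6494) (iv F29750)
theorem F42149 : act 1 n9397 = n9397 := d10_1 D9397 (iv D9397) F29751
theorem F42150 : act 4 n9397 = n6808 := d24_2 D6493 D9397 (iv D6808) (iv D4707) (iv F21078)
theorem F42151 : act 6 n9397 = n9397 := d26_2 F29753 D9397 (iv D9397)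
theorem F42152 : act 7 n9397 = n6507 := d27_2 (iv F29754) D9397 (iv D6507)
def n9398 : Q := act 5 n6493
theorem D9398 : act 5 n6493 = n9398 := rfl
theorem F42153 : act 0 n9398 = n6495 := d4_1 D9398 (iv D6495) (iv F29750)
theorem F42154 : act 1 n9398 = n9398 := d12_1 D9398 (iv D9398) F29751
theorem F42155 : act 2 n9398 = n9398 := d19_1 D9398 (iv D9398) F29752
theorem F42156 : act 7 n9398 = n6508 := d36_2 (iv F29754) D9398 (iv D6508)
def n9399 : Q := act 2 n6494
theorem D9399 : act 2 n6494 = n9399 := rfl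
theorem F42157 : act 1 n9399 = n6559 := d9_1 D9399 (iv D6559) F21279 (iv F21086) (iv F29755)
theorem F42158 : act 3 n9399 = n9399 := d17_2 D6494 D9399 (iv D9399) (iv D6494) F21082
theorem F42159 : act 4 n9399 = n6810 := d18_2 (iv F29756) D9399 (iv D6810)
theorem F42160 : act 6 n9399 = n9399 := d20_2 F29757 D9399 (iv D9399)
theorem F42161 : act 7 n9399 = n6509 := d21_2 (iv F29758) D9399 (iv D6509)
def n9400 : Q := act 5 n6494
theorem D9400 : act 5 n6494 = n9400 := rfl
theorem F42162 : act 1 n9400 = n6496 := d12_1 D9400 (iv D6496) (iv F29755)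
theorem F42163 : act 3 n9400 = n6495 := d25_1 D9400 (iv D6495) D6494
theorem F42164 : act 7 n9400 = n6510 := d36_2 (iv F29758) D9400 (iv D6510)
def n9401 : Q := act 8 n6494
theorem D9401 : act 8 n6494 = n9401 := rfl
theorem F42165 : act 1 n9401 = n6497 := d15_1 D9401 (iv D6497) (iv F29755)
theorem F42166 : act 4 n9401 = n6812 := d33_1 D9401 (iv D6812) (iv F29756)
theorem F42167 : act 6 n9401 = n9401 := d40_1 D9401 (iv D9401) F29757
theorem F42168 : act 7 n9401 = n6511 := d42_1 D9401 (iv D6511) (iv F29758)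
def n9402 : Q := act 6 n6495
theorem D9402 : act 6 n6495 = n9402 := rfl
theorem F42169 : act 1 n9402 = n6498 := d13_1 D9402 (iv D6498) (iv F29759)
theorem F42170 : act 2 n9402 = n9402 := d20_1 D9402 (iv D9402) F29760
theorem F42171 : act 5 n9402 = n9402 := d35_1 D9402 (iv D9402) (iv D6495) F21083 D6495
def n9403 : Q := act 4 n6496
theorem D9403 : act 4 n6496 = n9403 := rfl
theorem F42172 : act 0 n9403 = n9403 := d3_1 D9403 (iv D9403) F29762
theorem F42173 : act 2 n9403 = n6563 := d18_1 D9403 (iv D6563) (iv F29763)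
theorem F42174 : act 5 n9403 = n6814 := d30_2 D6496 D9403 (iv D6814) (iv D4710) (iv F21087)
theorem F42175 : act 7 n9403 = n6513 := d32_2 (iv F29765) D9403 (iv D6513)
def n9404 : Q := act 6 n6496
theorem D9404 : act 6 n6496 = n9404 := rfl
theorem F42176 : act 0 n9404 = n9404 := d5_1 D9404 (iv D9404) F29762
theorem F42177 : act 2 n9404 = n6564 := d20_1 D9404 (iv D6564) (iv F29763)
theorem F42178 : act 3 n9404 = n6498 := d26_1 D9404 (iv D6498) (iv F29764)
theorem F42179 : act 5 n9404 = n9404 := d35_1 D9404 (iv D9404) (iv D6496) F21088 D6496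
def n9405 : Q := act 8 n6496
theorem D9405 : act 8 n6496 = n9405 := rfl
theorem F42180 : act 0 n9405 = n9405 := d7_1 D9405 (iv D9405) F29762
theorem F42181 : act 2 n9405 = n6565 := d22_1 D9405 (iv D6565) (iv F29763)
theorem F42182 : act 5 n9405 = n6497 := d37_1 D9405 (iv D6497) D6496
theorem F42183 : act 7 n9405 = n6515 := d42_1 D9405 (iv D6515) (iv F29765)
def n9406 : Q := act 9 n6497
theorem D9406 : act 9 n6497 = n9406 := rfl
theorem F42184 : act 0 n9406 = n9406 := d8_1 D9406 (iv D9406) F29766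
theorem F42185 : act 2 n9406 = n6566 := d23_1 D9406 (iv D6566) (iv F29767)
theorem F42186 : act 4 n9406 = n6817 := d34_1 D9406 (iv D6817) (iv F29768)
theorem F42187 : act 6 n9406 = n9406 := d41_1 D9406 (iv D9406) F29769
theorem F42188 : act 7 n9406 = n6516 := d43_1 D9406 (iv D6516) (iv F29770)
def n9407 : Q := act 7 n6498
theorem D9407 : act 7 n6498 = n9407 := rfl
theorem F42189 : act 0 n9407 = n9407 := d6_1 D9407 (iv D9407) F29771
theorem F42190 : act 2 n9407 = n6499 := d21_1 D9407 (iv D6499) (iv F29772)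
theorem F42191 : act 5 n9407 = n9407 := d36_1 D9407 (iv D9407) F29773
theorem F42192 : act 6 n9407 = n6517 := d39_1 D9407 (iv D6517) (iv D4512) (iv F21092) D6498
def n9408 : Q := act 3 n6500
theorem D9408 : act 3 n6500 = n9408 := rfl
theorem F42193 : act 0 n9408 = n6501 := d2_1 D9408 (iv D6501) (iv F29779)
theorem F42195 : act 4 n9408 = n6826 := d24_2 D6500 D9408 (iv D6826) (iv D4719) (iv F21099)
theorem F42197 : act 9 n9408 = n6507 := d29_2 (iv F29784) D9408 (iv D6507)
def n9409 : Q := act 5 n6500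
theorem D9409 : act 5 n6500 = n9409 := rfl
theorem F42198 : act 0 n9409 = n6502 := d4_1 D9409 (iv D6502) (iv F29779)
theorem F42202 : act 9 n9409 = n6508 := d38_2 (iv F29784) D9409 (iv D6508)
def n9410 : Q := act 2 n6501
theorem D9410 : act 2 n6501 = n9410 := rfl
theorem F42203 : act 1 n9410 = n6577 := d9_1 D9410 (iv D6577) F21341 (iv F21109) (iv F29785)
theorem F42204 : act 3 n9410 = n9410 := d17_2 D6501 D9410 (iv D9410) (iv D6501) F21104
theorem F42205 : act 4 n9410 = n6828 := d18_2 (iv F29786) D9410 (iv D6828)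
theorem F42206 : act 6 n9410 = n6520 := d20_2 (iv F29787) D9410 (iv D6520)
theorem F42207 : act 9 n9410 = n6509 := d23_2 (iv F29788) D9410 (iv D6509)
def n9411 : Q := act 5 n6501
theorem D9411 : act 5 n6501 = n9411 := rfl
theorem F42208 : act 1 n9411 = n6503 := d12_1 D9411 (iv D6503) (iv F29785)
theorem F42209 : act 3 n9411 = n6502 := d25_1 D9411 (iv D6502) D6501
theorem F42210 : act 9 n9411 = n6510 := d38_2 (iv F29788) D9411 (iv D6510)
def n9412 : Q := act 8 n6501
theorem D9412 : act 8 n6501 = n9412 := rfl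
theorem F42211 : act 1 n9412 = n6504 := d15_1 D9412 (iv D6504) (iv F29785)
theorem F42212 : act 3 n9412 = n9412 := d28_1 D9412 (iv D9412) (iv D6501) F21106 D6501
theorem F42213 : act 4 n9412 = n6830 := d33_1 D9412 (iv D6830) (iv F29786)
theorem F42214 : act 6 n9412 = n6522 := d40_1 D9412 (iv D6522) (iv F29787)
def n9413 : Q := act 6 n6502
theorem D9413 : act 6 n6502 = n9413 := rfl
theorem F42215 : act 1 n9413 = n6505 := d13_1 D9413 (iv D6505) (iv F29789)
theorem F42216 : act 2 n9413 = n9413 := d20_1 D9413 (iv D9413) F29790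
theorem F42217 : act 5 n9413 = n6523 := d35_1 D9413 (iv D6523) (iv D4516) (iv F21105) D6502
theorem F42218 : act 8 n9413 = n9413 := d40_2 F29791 D9413 (iv D9413)
theorem F42219 : act 9 n9413 = n6512 := d41_2 (iv F29792) D9413 (iv D6512)
def n9414 : Q := act 4 n6503
theorem D9414 : act 4 n6503 = n9414 := rfl
theorem F42220 : act 0 n9414 = n9414 := d3_1 D9414 (iv D9414) F29793
theorem F42221 : act 2 n9414 = n6581 := d18_1 D9414 (iv D6581) (iv F29794)
theorem F42222 : act 5 n9414 = n6832 := d30_2 D6503 D9414 (iv D6832) (iv D4722) (iv F21110)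
theorem F42223 : act 9 n9414 = n6513 := d34_2 (iv F29796) D9414 (iv D6513)
def n9415 : Q := act 6 n6503
theorem D9415 : act 6 n6503 = n9415 := rfl
theorem F42224 : act 0 n9415 = n9415 := d5_1 D9415 (iv D9415) F29793
theorem F42225 : act 2 n9415 = n6582 := d20_1 D9415 (iv D6582) (iv F29794)
theorem F42226 : act 3 n9415 = n6505 := d26_1 D9415 (iv D6505) (iv F29795)
theorem F42227 : act 5 n9415 = n6525 := d35_1 D9415 (iv D6525) (iv D4517) (iv F21111) D6503
theorem F42228 : act 9 n9415 = n6514 := d41_2 (iv F29796) D9415 (iv D6514)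
def n9416 : Q := act 8 n6503
theorem D9416 : act 8 n6503 = n9416 := rfl
theorem F42229 : act 0 n9416 = n9416 := d7_1 D9416 (iv D9416) F29793
theorem F42230 : act 2 n9416 = n6583 := d22_1 D9416 (iv D6583) (iv F29794)
theorem F42231 : act 3 n9416 = n9416 := d28_1 D9416 (iv D9416) F29795 F21115 (iv F29795)
theorem F42232 : act 5 n9416 = n6504 := d37_1 D9416 (iv D6504) D6503
def n9417 : Q := act 9 n6504
theorem D9417 : act 9 n6504 = n9417 := rfl
theorem F42233 : act 0 n9417 = n9417 := d8_1 D9417 (iv D9417) F29797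
theorem F42234 : act 2 n9417 = n6584 := d23_1 D9417 (iv D6584) (iv F29798)
theorem F42235 : act 3 n9417 = n9417 := d29_1 D9417 (iv D9417) F29799
theorem F42236 : act 4 n9417 = n6835 := d34_1 D9417 (iv D6835) (iv F29800)
theorem F42237 : act 6 n9417 = n6527 := d41_1 D9417 (iv D6527) (iv F29801)
theorem F42238 : act 8 n9417 = n6516 := d44_1 D9417 (iv D6516) (iv D4511) (iv F21112) D6504
def n9418 : Q := act 7 n6505
theorem D9418 : act 7 n6505 = n9418 := rfl
theorem F42239 : act 0 n9418 = n9418 := d6_1 D9418 (iv D9418) F29802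
theorem F42240 : act 2 n9418 = n6506 := d21_1 D9418 (iv D6506) (iv F29803)
theorem F42241 : act 5 n9418 = n6528 := d36_1 D9418 (iv D6528) (iv F29804)
theorem F42242 : act 8 n9418 = n9418 := d42_2 F29805 D9418 (iv D9418)
theorem F42243 : act 9 n9418 = n6517 := d43_2 (iv F29806) D9418 (iv D6517)
def n9419 : Q := act 2 n6507
theorem D9419 : act 2 n6507 = n9419 := rfl
theorem F42244 : act 0 n9419 = n6509 := d1_1 D9419 (iv D6509) (iv F29813)
theorem F42245 : act 3 n9419 = n9419 := d17_2 D6507 D9419 (iv D9419) (iv D6507) F21125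
theorem F42246 : act 4 n9419 = n6837 := d18_2 (iv F29815) D9419 (iv D6837)
theorem F42247 : act 6 n9419 = n6529 := d20_2 (iv F29816) D9419 (iv D6529)
def n9420 : Q := act 5 n6507
theorem D9420 : act 5 n6507 = n9420 := rfl
theorem F42248 : act 0 n9420 = n6510 := d4_1 D9420 (iv D6510) (iv F29813)
theorem F42249 : act 1 n9420 = n9420 := d12_1 D9420 (iv D9420) F29814
theorem F42250 : act 3 n9420 = n6508 := d25_1 D9420 (iv D6508) D6507
def n9421 : Q := act 8 n6507
theorem D9421 : act 8 n6507 = n9421 := rfl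
theorem F42251 : act 0 n9421 = n6511 := d7_1 D9421 (iv D6511) (iv F29813)
theorem F42252 : act 1 n9421 = n9421 := d15_1 D9421 (iv D9421) F29814
theorem F42253 : act 4 n9421 = n6839 := d33_1 D9421 (iv D6839) (iv F29815)
theorem F42254 : act 6 n9421 = n6531 := d40_1 D9421 (iv D6531) (iv F29816)
def n9422 : Q := act 6 n6508
theorem D9422 : act 6 n6508 = n9422 := rfl
theorem F42255 : act 0 n9422 = n6512 := d5_1 D9422 (iv D6512) (iv F29817)
theorem F42256 : act 1 n9422 = n9422 := d13_1 D9422 (iv D9422) F29818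
theorem F42257 : act 2 n9422 = n9422 := d20_1 D9422 (iv D9422) F29819
theorem F42258 : act 5 n9422 = n6532 := d35_1 D9422 (iv D6532) (iv D4522) (iv F21126) D6508
def n9423 : Q := act 5 n6509
theorem D9423 : act 5 n6509 = n9423 := rfl
theorem F42259 : act 1 n9423 = n6590 := d12_1 D9423 (iv D6590) (iv F29820)
theorem F42260 : act 2 n9423 = n6510 := d19_1 D9423 (iv D6510) D6509
theorem F42261 : act 3 n9423 = n9423 := d25_1 D9423 (iv D9423) F29821
def n9424 : Q := act 8 n6509
theorem D9424 : act 8 n6509 = n9424 := rfl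
theorem F42262 : act 1 n9424 = n6591 := d15_1 D9424 (iv D6591) (iv F29820)
theorem F42263 : act 2 n9424 = n6511 := d22_1 D9424 (iv D6511) D6509
theorem F42264 : act 4 n9424 = n6842 := d33_1 D9424 (iv D6842) (iv F29822)
theorem F42265 : act 6 n9424 = n6534 := d40_1 D9424 (iv D6534) (iv F29823)
def n9425 : Q := act 4 n6510
theorem D9425 : act 4 n6510 = n9425 := rfl
theorem F42266 : act 1 n9425 = n6513 := d11_1 D9425 (iv D6513) (iv F29824)
theorem F42267 : act 5 n9425 = n6843 := d30_2 D6510 D9425 (iv D6843) (iv D4729) (iv F21128)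
def n9426 : Q := act 6 n6510
theorem D9426 : act 6 n6510 = n9426 := rfl
theorem F42268 : act 1 n9426 = n6514 := d13_1 D9426 (iv D6514) (iv F29824)
theorem F42269 : act 3 n9426 = n6512 := d26_1 D9426 (iv D6512) (iv F29825)
theorem F42270 : act 5 n9426 = n6536 := d35_1 D9426 (iv D6536) (iv D4524) (iv F21129) D6510
def n9427 : Q := act 8 n6510
theorem D9427 : act 8 n6510 = n9427 := rfl
theorem F42271 : act 1 n9427 = n6515 := d15_1 D9427 (iv D6515) (iv F29824)
theorem F42272 : act 5 n9427 = n6511 := d37_1 D9427 (iv D6511) D6510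
def n9428 : Q := act 9 n6511
theorem D9428 : act 9 n6511 = n9428 := rfl
theorem F42273 : act 1 n9428 = n6516 := d16_1 D9428 (iv D6516) (iv F29826)
theorem F42274 : act 4 n9428 = n6846 := d34_1 D9428 (iv D6846) (iv F29827)
theorem F42275 : act 6 n9428 = n6538 := d41_1 D9428 (iv D6538) (iv F29828)
def n9429 : Q := act 7 n6512
theorem D9429 : act 7 n6512 = n9429 := rfl
theorem F42276 : act 1 n9429 = n6517 := d14_1 D9429 (iv D6517) (iv F29829)
theorem F42277 : act 2 n9429 = n9429 := d21_1 D9429 (iv D9429) F29830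
theorem F42278 : act 5 n9429 = n6539 := d36_1 D9429 (iv D6539) (iv F29831)
def n9430 : Q := act 6 n6513
theorem D9430 : act 6 n6513 = n9430 := rfl
theorem F42279 : act 0 n9430 = n9430 := d5_1 D9430 (iv D9430) F29832
theorem F42280 : act 2 n9430 = n6597 := d20_1 D9430 (iv D6597) (iv F29833)
theorem F42281 : act 4 n9430 = n6514 := d31_1 D9430 (iv D6514) D6513
def n9431 : Q := act 8 n6513
theorem D9431 : act 8 n6513 = n9431 := rfl
theorem F42282 : act 0 n9431 = n9431 := d7_1 D9431 (iv D9431) F29832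
theorem F42283 : act 2 n9431 = n6598 := d22_1 D9431 (iv D6598) (iv F29833)
theorem F42284 : act 4 n9431 = n6515 := d33_1 D9431 (iv D6515) D6513
theorem F42285 : act 5 n9431 = n6849 := d37_1 D9431 (iv D6849) (iv F29834)
def n9432 : Q := act 7 n6514
theorem D9432 : act 7 n6514 = n9432 := rfl
theorem F42286 : act 0 n9432 = n9432 := d6_1 D9432 (iv D9432) F29835
theorem F42287 : act 2 n9432 = n6599 := d21_1 D9432 (iv D6599) (iv F29836)
theorem F42288 : act 3 n9432 = n6517 := d27_1 D9432 (iv D6517) (iv F29837)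
theorem F42289 : act 5 n9432 = n6542 := d36_1 D9432 (iv D6542) (iv F29838)
def n9433 : Q := act 8 n6514
theorem D9433 : act 8 n6514 = n9433 := rfl
theorem F42290 : act 0 n9433 = n9433 := d7_1 D9433 (iv D9433) F29835
theorem F42291 : act 2 n9433 = n6600 := d22_1 D9433 (iv D6600) (iv F29836)
theorem F42292 : act 5 n9433 = n6543 := d37_1 D9433 (iv D6543) (iv F29838)
theorem F42293 : act 6 n9433 = n6515 := d40_1 D9433 (iv D6515) D6514
def n9434 : Q := act 9 n6515
theorem D9434 : act 9 n6515 = n9434 := rfl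
theorem F42294 : act 0 n9434 = n9434 := d8_1 D9434 (iv D9434) F29839
theorem F42295 : act 2 n9434 = n6601 := d23_1 D9434 (iv D6601) (iv F29840)
theorem F42296 : act 5 n9434 = n6516 := d38_1 D9434 (iv D6516) (iv F29841)
def n9435 : Q := act 2 n6518
theorem D9435 : act 2 n6518 = n9435 := rfl
theorem F42297 : act 0 n9435 = n6520 := d1_1 D9435 (iv D6520) (iv F29849)
theorem F42299 : act 4 n9435 = n6864 := d18_2 (iv F29851) D9435 (iv D6864)
theorem F42301 : act 9 n9435 = n6529 := d23_2 (iv F29853) D9435 (iv D6529)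
def n9436 : Q := act 5 n6518
theorem D9436 : act 5 n6518 = n9436 := rfl
theorem F42302 : act 0 n9436 = n6521 := d4_1 D9436 (iv D6521) (iv F29849)
theorem F42306 : act 9 n9436 = n6530 := d38_2 (iv F29853) D9436 (iv D6530)
def n9437 : Q := act 8 n6518
theorem D9437 : act 8 n6518 = n9437 := rfl
theorem F42307 : act 0 n9437 = n6522 := d7_1 D9437 (iv D6522) (iv F29849)
theorem F42310 : act 4 n9437 = n6866 := d33_1 D9437 (iv D6866) (iv F29851)
def n9438 : Q := act 6 n6519
theorem D9438 : act 6 n6519 = n9438 := rfl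
theorem F42312 : act 0 n9438 = n6523 := d5_1 D9438 (iv D6523) (iv F29854)
theorem F42317 : act 9 n9438 = n6532 := d41_2 (iv F29860) D9438 (iv D6532)
def n9439 : Q := act 5 n6520
theorem D9439 : act 5 n6520 = n9439 := rfl
theorem F42318 : act 1 n9439 = n6617 := d12_1 D9439 (iv D6617) (iv F29861)
theorem F42319 : act 2 n9439 = n6521 := d19_1 D9439 (iv D6521) D6520
theorem F42320 : act 3 n9439 = n9439 := d25_1 D9439 (iv D9439) F29862
theorem F42321 : act 7 n9439 = n9439 := d36_2 F29864 D9439 (iv D9439)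
theorem F42322 : act 9 n9439 = n6533 := d38_2 (iv F29865) D9439 (iv D6533)

end Cfsg.Agent.Helper17.Fi23TC
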