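import Cfsg.Agent.Helper17.Fi23TC.Facts3

set_option autoImplicit false
set_option linter.all false

noncomputable section

namespace Cfsg.Agent.Helper17.Fi23TC

def n9440 : Q := act 8 n6520
theorem D9440 : act 8 n6520 = n9440 := rfl
theorem F42323 : act 1 n9440 = n6618 := d15_1 D9440 (iv D6618) (iv F29861)
theorem F42324 : act 2 n9440 = n6522 := d22_1 D9440 (iv D6522) D6520
theorem F42325 : act 4 n9440 = n6869 := d33_1 D9440 (iv D6869) (iv F29863)
theorem F42326 : act 7 n9440 = n9440 := d42_1 D9440 (iv D9440) F29864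
def n9441 : Q := act 4 n6521
theorem D9441 : act 4 n6521 = n9441 := rfl
theorem F42327 : act 1 n9441 = n6524 := d11_1 D9441 (iv D6524) (iv F29866)
theorem F42328 : act 3 n9441 = n9441 := d24_1 D9441 (iv D9441) F29867 F21158 (iv F29867)
theorem F42329 : act 5 n9441 = n6870 := d30_2 D6521 D9441 (iv D6870) (iv D4747) (iv F21153)
theorem F42330 : act 7 n9441 = n9441 := d32_2 F29868 D9441 (iv D9441)
theorem F42331 : act 9 n9441 = n6535 := d34_2 (iv F29869) D9441 (iv D6535)
def n9442 : Q := act 6 n6521
theorem D9442 : act 6 n6521 = n9442 := rfl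
theorem F42332 : act 1 n9442 = n6525 := d13_1 D9442 (iv D6525) (iv F29866)
theorem F42333 : act 3 n9442 = n6523 := d26_1 D9442 (iv D6523) (iv F29867)
theorem F42334 : act 9 n9442 = n6536 := d41_2 (iv F29869) D9442 (iv D6536)
def n9443 : Q := act 8 n6521
theorem D9443 : act 8 n6521 = n9443 := rfl
theorem F42335 : act 1 n9443 = n6526 := d15_1 D9443 (iv D6526) (iv F29866)
theorem F42336 : act 3 n9443 = n9443 := d28_1 D9443 (iv D9443) F29867 F21160 (iv F29867)
theorem F42337 : act 5 n9443 = n6522 := d37_1 D9443 (iv D6522) D6521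
theorem F42338 : act 7 n9443 = n9443 := d42_1 D9443 (iv D9443) F29868
def n9444 : Q := act 9 n6522
theorem D9444 : act 9 n6522 = n9444 := rfl
theorem F42339 : act 1 n9444 = n6527 := d16_1 D9444 (iv D6527) (iv F29870)
theorem F42340 : act 3 n9444 = n9444 := d29_1 D9444 (iv D9444) F29871
theorem F42341 : act 4 n9444 = n6873 := d34_1 D9444 (iv D6873) (iv F29872)
theorem F42342 : act 7 n9444 = n9444 := d43_1 D9444 (iv D9444) F29873
theorem F42343 : act 8 n9444 = n6538 := d44_1 D9444 (iv D6538) (iv D4525) (iv F21155) D6522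
def n9445 : Q := act 7 n6523
theorem D9445 : act 7 n6523 = n9445 := rfl
theorem F42344 : act 1 n9445 = n6528 := d14_1 D9445 (iv D6528) (iv F29874)
theorem F42345 : act 2 n9445 = n9445 := d21_1 D9445 (iv D9445) F29875
theorem F42346 : act 4 n9445 = n9445 := d32_1 D9445 (iv D9445) F29876
theorem F42347 : act 6 n9445 = n9445 := d39_1 D9445 (iv D9445) (iv D6523) F21159 D6523
theorem F42348 : act 8 n9445 = n9445 := d42_2 F29877 D9445 (iv D9445)
theorem F42349 : act 9 n9445 = n6539 := d43_2 (iv F29878) D9445 (iv D6539)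
def n9446 : Q := act 6 n6524
theorem D9446 : act 6 n6524 = n9446 := rfl
theorem F42350 : act 0 n9446 = n9446 := d5_1 D9446 (iv D9446) F29879
theorem F42351 : act 2 n9446 = n6624 := d20_1 D9446 (iv D6624) (iv F29880)
theorem F42352 : act 3 n9446 = n9446 := d26_1 D9446 (iv D9446) F29881
theorem F42353 : act 4 n9446 = n6525 := d31_1 D9446 (iv D6525) D6524
theorem F42354 : act 9 n9446 = n6540 := d41_2 (iv F29884) D9446 (iv D6540)
def n9447 : Q := act 8 n6524
theorem D9447 : act 8 n6524 = n9447 := rfl
theorem F42355 : act 0 n9447 = n9447 := d7_1 D9447 (iv D9447) F29879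
theorem F42356 : act 2 n9447 = n6625 := d22_1 D9447 (iv D6625) (iv F29880)
theorem F42357 : act 4 n9447 = n6526 := d33_1 D9447 (iv D6526) D6524
theorem F42358 : act 5 n9447 = n6876 := d37_1 D9447 (iv D6876) (iv F29882)
theorem F42359 : act 7 n9447 = n9447 := d42_1 D9447 (iv D9447) F29883
def n9448 : Q := act 7 n6525
theorem D9448 : act 7 n6525 = n9448 := rfl
theorem F42360 : act 0 n9448 = n9448 := d6_1 D9448 (iv D9448) F29885
theorem F42361 : act 2 n9448 = n6626 := d21_1 D9448 (iv D6626) (iv F29886)
theorem F42362 : act 3 n9448 = n6528 := d27_1 D9448 (iv D6528) (iv F29887)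
theorem F42363 : act 6 n9448 = n9448 := d39_1 D9448 (iv D9448) (iv D6525) F21165 D6525
theorem F42364 : act 9 n9448 = n6542 := d43_2 (iv F29888) D9448 (iv D6542)
def n9449 : Q := act 8 n6525
theorem D9449 : act 8 n6525 = n9449 := rfl
theorem F42365 : act 0 n9449 = n9449 := d7_1 D9449 (iv D9449) F29885
theorem F42366 : act 2 n9449 = n6627 := d22_1 D9449 (iv D6627) (iv F29886)
theorem F42367 : act 3 n9449 = n9449 := d28_1 D9449 (iv D9449) F29887 F21175 (iv F29887)
theorem F42368 : act 6 n9449 = n6526 := d40_1 D9449 (iv D6526) D6525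
def n9450 : Q := act 9 n6526
theorem D9450 : act 9 n6526 = n9450 := rfl
theorem F42369 : act 0 n9450 = n9450 := d8_1 D9450 (iv D9450) F29889
theorem F42370 : act 2 n9450 = n6628 := d23_1 D9450 (iv D6628) (iv F29890)
theorem F42371 : act 3 n9450 = n9450 := d29_1 D9450 (iv D9450) F29891
theorem F42372 : act 5 n9450 = n6527 := d38_1 D9450 (iv D6527) (iv F29892)
theorem F42373 : act 7 n9450 = n9450 := d43_1 D9450 (iv D9450) F29893
theorem F42374 : act 8 n9450 = n6544 := d44_1 D9450 (iv D6544) (iv D4529) (iv F21166) D6526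
def n9451 : Q := act 1 n6529
theorem D9451 : act 1 n6529 = n9451 := rfl
theorem F42375 : act 0 n9451 = n6629 := d0_1 D9451 (iv D6629) F21490 (iv F21193) (iv F29906)
theorem F42376 : act 2 n9451 = n9451 := d9_2 D6529 D9451 (iv D9451) (iv D6529) F21185
theorem F42377 : act 3 n9451 = n9451 := d10_2 F29907 D9451 (iv D9451)
theorem F42378 : act 4 n9451 = n6880 := d11_2 (iv F29908) D9451 (iv D6880)
theorem F42379 : act 7 n9451 = n9451 := d14_2 F29909 D9451 (iv D9451)
def n9452 : Q := act 5 n6529
theorem D9452 : act 5 n6529 = n9452 := rfl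
theorem F42380 : act 0 n9452 = n6533 := d4_1 D9452 (iv D6533) (iv F29906)
theorem F42381 : act 2 n9452 = n6530 := d19_1 D9452 (iv D6530) D6529
theorem F42382 : act 3 n9452 = n9452 := d25_1 D9452 (iv D9452) F29907
theorem F42383 : act 7 n9452 = n9452 := d36_2 F29909 D9452 (iv D9452)
def n9453 : Q := act 8 n6529
theorem D9453 : act 8 n6529 = n9453 := rfl
theorem F42384 : act 0 n9453 = n6534 := d7_1 D9453 (iv D6534) (iv F29906)
theorem F42385 : act 2 n9453 = n6531 := d22_1 D9453 (iv D6531) D6529
theorem F42386 : act 4 n9453 = n6882 := d33_1 D9453 (iv D6882) (iv F29908)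
theorem F42387 : act 7 n9453 = n9453 := d42_1 D9453 (iv D9453) F29909
def n9454 : Q := act 4 n6530
theorem D9454 : act 4 n6530 = n9454 := rfl
theorem F42388 : act 0 n9454 = n6535 := d3_1 D9454 (iv D6535) (iv F29910)
theorem F42389 : act 1 n9454 = n9454 := d11_1 D9454 (iv D9454) F29911
theorem F42390 : act 3 n9454 = n9454 := d24_1 D9454 (iv D9454) F29912 F21191 (iv F29912)
theorem F42391 : act 5 n9454 = n6883 := d30_2 D6530 D9454 (iv D6883) (iv D4756) (iv F21186)
theorem F42392 : act 7 n9454 = n9454 := d32_2 F29913 D9454 (iv D9454)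
def n9455 : Q := act 6 n6530
theorem D9455 : act 6 n6530 = n9455 := rfl
theorem F42393 : act 0 n9455 = n6536 := d5_1 D9455 (iv D6536) (iv F29910)
theorem F42394 : act 1 n9455 = n9455 := d13_1 D9455 (iv D9455) F29911
theorem F42395 : act 3 n9455 = n6532 := d26_1 D9455 (iv D6532) (iv F29912)
def n9456 : Q := act 8 n6530
theorem D9456 : act 8 n6530 = n9456 := rfl
theorem F42396 : act 0 n9456 = n6537 := d7_1 D9456 (iv D6537) (iv F29910)
theorem F42397 : act 1 n9456 = n9456 := d15_1 D9456 (iv D9456) F29911
theorem F42398 : act 5 n9456 = n6531 := d37_1 D9456 (iv D6531) D6530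
theorem F42399 : act 7 n9456 = n9456 := d42_1 D9456 (iv D9456) F29913
def n9457 : Q := act 9 n6531
theorem D9457 : act 9 n6531 = n9457 := rfl
theorem F42400 : act 0 n9457 = n6538 := d8_1 D9457 (iv D6538) (iv F29914)
theorem F42401 : act 1 n9457 = n9457 := d16_1 D9457 (iv D9457) F29915
theorem F42402 : act 4 n9457 = n6886 := d34_1 D9457 (iv D6886) (iv F29916)
theorem F42403 : act 7 n9457 = n9457 := d43_1 D9457 (iv D9457) F29917
def n9458 : Q := act 7 n6532
theorem D9458 : act 7 n6532 = n9458 := rfl
theorem F42404 : act 0 n9458 = n6539 := d6_1 D9458 (iv D6539) (iv F29918)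
theorem F42405 : act 1 n9458 = n9458 := d14_1 D9458 (iv D9458) F29919
theorem F42406 : act 2 n9458 = n9458 := d21_1 D9458 (iv D9458) F29920
theorem F42407 : act 4 n9458 = n9458 := d32_1 D9458 (iv D9458) F29921
theorem F42408 : act 6 n9458 = n9458 := d39_1 D9458 (iv D9458) (iv D6532) F21192 D6532
def n9459 : Q := act 4 n6533
theorem D9459 : act 4 n6533 = n9459 := rfl
theorem F42409 : act 1 n9459 = n6637 := d11_1 D9459 (iv D6637) (iv F29922)
theorem F42410 : act 2 n9459 = n6535 := d18_1 D9459 (iv D6535) (iv F29923)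
theorem F42411 : act 5 n9459 = n6888 := d30_2 D6533 D9459 (iv D6888) (iv D4759) (iv F21195)
theorem F42412 : act 7 n9459 = n9459 := d32_2 F29925 D9459 (iv D9459)
def n9460 : Q := act 6 n6533
theorem D9460 : act 6 n6533 = n9460 := rfl
theorem F42413 : act 1 n9460 = n6638 := d13_1 D9460 (iv D6638) (iv F29922)
theorem F42414 : act 2 n9460 = n6536 := d20_1 D9460 (iv D6536) (iv F29923)
theorem F42415 : act 3 n9460 = n9460 := d26_1 D9460 (iv D9460) F29924
def n9461 : Q := act 8 n6533
theorem D9461 : act 8 n6533 = n9461 := rfl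
theorem F42416 : act 1 n9461 = n6639 := d15_1 D9461 (iv D6639) (iv F29922)
theorem F42417 : act 2 n9461 = n6537 := d22_1 D9461 (iv D6537) (iv F29923)
theorem F42418 : act 5 n9461 = n6534 := d37_1 D9461 (iv D6534) D6533
theorem F42419 : act 7 n9461 = n9461 := d42_1 D9461 (iv D9461) F29925
def n9462 : Q := act 3 n6534
theorem D9462 : act 3 n6534 = n9462 := rfl
theorem F42420 : act 1 n9462 = n6640 := d10_1 D9462 (iv D6640) (iv F29926)
theorem F42421 : act 7 n9462 = n9462 := d27_2 F29929 D9462 (iv D9462)
theorem F42422 : act 8 n9462 = n9462 := d28_2 D6534 D9462 (iv D9462) (iv D6534) F21194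
def n9463 : Q := act 9 n6534
theorem D9463 : act 9 n6534 = n9463 := rfl
theorem F42423 : act 1 n9463 = n6641 := d16_1 D9463 (iv D6641) (iv F29926)
theorem F42424 : act 2 n9463 = n6538 := d23_1 D9463 (iv D6538) (iv F29927)
theorem F42425 : act 4 n9463 = n6892 := d34_1 D9463 (iv D6892) (iv F29928)
theorem F42426 : act 7 n9463 = n9463 := d43_1 D9463 (iv D9463) F29929
def n9464 : Q := act 6 n6535
theorem D9464 : act 6 n6535 = n9464 := rfl
theorem F42427 : act 1 n9464 = n6540 := d13_1 D9464 (iv D6540) (iv F29930)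
theorem F42428 : act 3 n9464 = n9464 := d26_1 D9464 (iv D9464) F29931
theorem F42429 : act 4 n9464 = n6536 := d31_1 D9464 (iv D6536) D6535
def n9465 : Q := act 8 n6535
theorem D9465 : act 8 n6535 = n9465 := rfl
theorem F42430 : act 1 n9465 = n6541 := d15_1 D9465 (iv D6541) (iv F29930)
theorem F42431 : act 4 n9465 = n6537 := d33_1 D9465 (iv D6537) D6535
theorem F42432 : act 5 n9465 = n6894 := d37_1 D9465 (iv D6894) (iv F29932)
theorem F42433 : act 7 n9465 = n9465 := d42_1 D9465 (iv D9465) F29933
def n9466 : Q := act 7 n6536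
theorem D9466 : act 7 n6536 = n9466 := rfl
theorem F42434 : act 1 n9466 = n6542 := d14_1 D9466 (iv D6542) (iv F29934)
theorem F42435 : act 3 n9466 = n6539 := d27_1 D9466 (iv D6539) (iv F29935)
theorem F42436 : act 6 n9466 = n9466 := d39_1 D9466 (iv D9466) (iv D6536) F21199 D6536
def n9467 : Q := act 8 n6536
theorem D9467 : act 8 n6536 = n9467 := rfl
theorem F42437 : act 1 n9467 = n6543 := d15_1 D9467 (iv D6543) (iv F29934)
theorem F42438 : act 6 n9467 = n6537 := d40_1 D9467 (iv D6537) D6536
def n9468 : Q := act 9 n6537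
theorem D9468 : act 9 n6537 = n9468 := rfl
theorem F42439 : act 1 n9468 = n6544 := d16_1 D9468 (iv D6544) (iv F29936)
theorem F42440 : act 5 n9468 = n6538 := d38_1 D9468 (iv D6538) (iv F29937)
theorem F42441 : act 7 n9468 = n9468 := d43_1 D9468 (iv D9468) F29938
def n9469 : Q := act 5 n6540
theorem D9469 : act 5 n6540 = n9469 := rfl
theorem F42442 : act 0 n9469 = n9469 := d4_1 D9469 (iv D9469) F29946
theorem F42443 : act 2 n9469 = n6647 := d19_1 D9469 (iv D6647) (iv F29947)
theorem F42444 : act 3 n9469 = n9469 := d25_1 D9469 (iv D9469) F29948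
theorem F42445 : act 6 n9469 = n6898 := d35_2 D6540 D9469 (iv D6898) (iv D4766) (iv F21209)
def n9470 : Q := act 7 n6540
theorem D9470 : act 7 n6540 = n9470 := rfl
theorem F42446 : act 0 n9470 = n9470 := d6_1 D9470 (iv D9470) F29946
theorem F42447 : act 2 n9470 = n6648 := d21_1 D9470 (iv D6648) (iv F29947)
theorem F42448 : act 3 n9470 = n9470 := d27_1 D9470 (iv D9470) F29948
theorem F42449 : act 4 n9470 = n6542 := d32_1 D9470 (iv D6542) (iv F29949)
theorem F42450 : act 6 n9470 = n9470 := d39_1 D9470 (iv D9470) (iv D6540) F21210 D6540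
def n9471 : Q := act 8 n6540
theorem D9471 : act 8 n6540 = n9471 := rfl
theorem F42451 : act 0 n9471 = n9471 := d7_1 D9471 (iv D9471) F29946
theorem F42452 : act 2 n9471 = n6649 := d22_1 D9471 (iv D6649) (iv F29947)
theorem F42453 : act 4 n9471 = n6543 := d33_1 D9471 (iv D6543) (iv F29949)
theorem F42454 : act 6 n9471 = n6541 := d40_1 D9471 (iv D6541) D6540
def n9472 : Q := act 3 n6541
theorem D9472 : act 3 n6541 = n9472 := rfl
theorem F42455 : act 0 n9472 = n9472 := d2_1 D9472 (iv D9472) F29950
theorem F42456 : act 5 n9472 = n6901 := d25_2 (iv F29953) D9472 (iv D6901)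
theorem F42457 : act 7 n9472 = n9472 := d27_2 F29954 D9472 (iv D9472)
theorem F42458 : act 8 n9472 = n9472 := d28_2 D6541 D9472 (iv D9472) (iv D6541) F21208
def n9473 : Q := act 9 n6541
theorem D9473 : act 9 n6541 = n9473 := rfl
theorem F42459 : act 0 n9473 = n9473 := d8_1 D9473 (iv D9473) F29950
theorem F42460 : act 2 n9473 = n6651 := d23_1 D9473 (iv D6651) (iv F29951)
theorem F42461 : act 4 n9473 = n6544 := d34_1 D9473 (iv D6544) (iv F29952)
theorem F42462 : act 5 n9473 = n6902 := d38_1 D9473 (iv D6902) (iv F29953)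
theorem F42463 : act 7 n9473 = n9473 := d43_1 D9473 (iv D9473) F29954
def n9474 : Q := act 8 n6542
theorem D9474 : act 8 n6542 = n9474 := rfl
theorem F42464 : act 0 n9474 = n9474 := d7_1 D9474 (iv D9474) F29955
theorem F42465 : act 2 n9474 = n6652 := d22_1 D9474 (iv D6652) (iv F29956)
theorem F42466 : act 6 n9474 = n9474 := d40_1 D9474 (iv D9474) F29958
theorem F42467 : act 7 n9474 = n6543 := d42_1 D9474 (iv D6543) D6542
def n9475 : Q := act 9 n6543
theorem D9475 : act 9 n6543 = n9475 := rfl
theorem F42468 : act 0 n9475 = n9475 := d8_1 D9475 (iv D9475) F29959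
theorem F42469 : act 2 n9475 = n6653 := d23_1 D9475 (iv D6653) (iv F29960)
theorem F42470 : act 6 n9475 = n6544 := d41_1 D9475 (iv D6544) (iv F29961)
def n9476 : Q := act 4 n6545
theorem D9476 : act 4 n6545 = n9476 := rfl
theorem F42471 : act 0 n9476 = n6546 := d3_1 D9476 (iv D6546) D6545
theorem F42472 : act 1 n9476 = n9476 := d11_1 D9476 (iv D9476) F29966
theorem F42473 : act 2 n9476 = n9476 := d18_1 D9476 (iv D9476) F29967
theorem F42474 : act 6 n9476 = n9476 := d31_2 F29970 D9476 (iv D9476)
theorem F42475 : act 7 n9476 = n6568 := d32_2 (iv F29971) D9476 (iv D6568)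
theorem F42476 : act 8 n9476 = n6550 := d33_2 (iv F29972) D9476 (iv D6550)
theorem F42477 : act 9 n9476 = n9476 := d34_2 F29973 D9476 (iv D9476)
def n9477 : Q := act 3 n6546
theorem D9477 : act 3 n6546 = n9477 := rfl
theorem F42478 : act 1 n9477 = n6547 := d10_1 D9477 (iv D6547) (iv F29974)
theorem F42479 : act 4 n9477 = n9477 := d24_2 D6546 D9477 (iv D9477) (iv D6546) F21227
theorem F42480 : act 6 n9477 = n9477 := d26_2 F29976 D9477 (iv D9477)
theorem F42481 : act 7 n9477 = n6569 := d27_2 (iv F29977) D9477 (iv D6569)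
theorem F42482 : act 9 n9477 = n9477 := d29_2 F29979 D9477 (iv D9477)
def n9478 : Q := act 5 n6546
theorem D9478 : act 5 n6546 = n9478 := rfl
theorem F42483 : act 1 n9478 = n6548 := d12_1 D9478 (iv D6548) (iv F29974)
theorem F42484 : act 2 n9478 = n9478 := d19_1 D9478 (iv D9478) F29975
theorem F42485 : act 4 n9478 = n9478 := d30_1 D9478 (iv D9478) (iv D6546) F21228 D6546
theorem F42486 : act 7 n9478 = n6570 := d36_2 (iv F29977) D9478 (iv D6570)
theorem F42487 : act 8 n9478 = n6552 := d37_2 (iv F29978) D9478 (iv D6552)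
theorem F42488 : act 9 n9478 = n9478 := d38_2 F29979 D9478 (iv D9478)
def n9479 : Q := act 5 n6547
theorem D9479 : act 5 n6547 = n9479 := rfl
theorem F42489 : act 0 n9479 = n9479 := d4_1 D9479 (iv D9479) F29980
theorem F42490 : act 2 n9479 = n9479 := d19_1 D9479 (iv D9479) F29981
theorem F42491 : act 3 n9479 = n6548 := d25_1 D9479 (iv D6548) D6547
theorem F42492 : act 7 n9479 = n6571 := d36_2 (iv F29984) D9479 (iv D6571)
theorem F42493 : act 9 n9479 = n9479 := d38_2 F29985 D9479 (iv D9479)
def n9480 : Q := act 8 n6547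
theorem D9480 : act 8 n6547 = n9480 := rfl
theorem F42494 : act 0 n9480 = n9480 := d7_1 D9480 (iv D9480) F29980
theorem F42495 : act 2 n9480 = n9480 := d22_1 D9480 (iv D9480) F29981
theorem F42496 : act 3 n9480 = n6554 := d28_1 D9480 (iv D6554) (iv D4537) (iv F21237) D6547
theorem F42497 : act 4 n9480 = n9480 := d33_1 D9480 (iv D9480) F29982
theorem F42498 : act 6 n9480 = n9480 := d40_1 D9480 (iv D9480) F29983
theorem F42499 : act 7 n9480 = n6572 := d42_1 D9480 (iv D6572) (iv F29984)
def n9481 : Q := act 6 n6548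
theorem D9481 : act 6 n6548 = n9481 := rfl
theorem F42500 : act 0 n9481 = n9481 := d5_1 D9481 (iv D9481) F29986
theorem F42501 : act 2 n9481 = n6549 := d20_1 D9481 (iv D6549) (iv F29987)
theorem F42502 : act 4 n9481 = n9481 := d31_1 D9481 (iv D9481) F29988
theorem F42503 : act 5 n9481 = n9481 := d35_1 D9481 (iv D9481) (iv D6548) F21235 D6548
theorem F42504 : act 8 n9481 = n6555 := d40_2 (iv F29990) D9481 (iv D6555)
theorem F42505 : act 9 n9481 = n9481 := d41_2 F29991 D9481 (iv D9481)
def n9482 : Q := act 7 n6549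
theorem D9482 : act 7 n6549 = n9482 := rfl
theorem F42506 : act 0 n9482 = n9482 := d6_1 D9482 (iv D9482) F29992
theorem F42507 : act 1 n9482 = n9482 := d14_1 D9482 (iv D9482) F29993
theorem F42508 : act 3 n9482 = n9482 := d27_1 D9482 (iv D9482) F29994
theorem F42509 : act 4 n9482 = n9482 := d32_1 D9482 (iv D9482) F29995
theorem F42510 : act 5 n9482 = n9482 := d36_1 D9482 (iv D9482) F29996
theorem F42511 : act 6 n9482 = n6574 := d39_1 D9482 (iv D6574) (iv D4551) (iv F21243) D6549
theorem F42512 : act 8 n9482 = n6556 := d42_2 (iv F29997) D9482 (iv D6556)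
theorem F42513 : act 9 n9482 = n9482 := d43_2 F29998 D9482 (iv D9482)
def n9483 : Q := act 3 n6550
theorem D9483 : act 3 n6550 = n9483 := rfl
theorem F42514 : act 0 n9483 = n6551 := d2_1 D9483 (iv D6551) (iv F29999)
theorem F42515 : act 1 n9483 = n9483 := d10_1 D9483 (iv D9483) F30000
theorem F42516 : act 4 n9483 = n6905 := d24_2 D6550 D9483 (iv D6905) (iv D4771) (iv F21248)
theorem F42517 : act 6 n9483 = n9483 := d26_2 F30002 D9483 (iv D9483)
theorem F42518 : act 7 n9483 = n6575 := d27_2 (iv F30003) D9483 (iv D6575)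
theorem F42519 : act 9 n9483 = n6557 := d29_2 (iv F30004) D9483 (iv D6557)
def n9484 : Q := act 5 n6550
theorem D9484 : act 5 n6550 = n9484 := rfl
theorem F42520 : act 0 n9484 = n6552 := d4_1 D9484 (iv D6552) (iv F29999)
theorem F42521 : act 1 n9484 = n9484 := d12_1 D9484 (iv D9484) F30000
theorem F42522 : act 2 n9484 = n9484 := d19_1 D9484 (iv D9484) F30001
theorem F42523 : act 4 n9484 = n9484 := d30_1 D9484 (iv D9484) (iv D6550) F21249 D6550
theorem F42524 : act 7 n9484 = n6576 := d36_2 (iv F30003) D9484 (iv D6576)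
theorem F42525 : act 9 n9484 = n6558 := d38_2 (iv F30004) D9484 (iv D6558)
def n9485 : Q := act 2 n6551
theorem D9485 : act 2 n6551 = n9485 := rfl
theorem F42526 : act 3 n9485 = n9485 := d17_2 D6551 D9485 (iv D9485) (iv D6551) F21254
theorem F42527 : act 4 n9485 = n6907 := d18_2 (iv F30006) D9485 (iv D6907)
theorem F42528 : act 6 n9485 = n9485 := d20_2 F30007 D9485 (iv D9485)
theorem F42529 : act 7 n9485 = n6577 := d21_2 (iv F30008) D9485 (iv D6577)
theorem F42530 : act 9 n9485 = n6559 := d23_2 (iv F30009) D9485 (iv D6559)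
def n9486 : Q := act 5 n6551
theorem D9486 : act 5 n6551 = n9486 := rfl
theorem F42531 : act 1 n9486 = n6553 := d12_1 D9486 (iv D6553) (iv F30005)
theorem F42532 : act 3 n9486 = n6552 := d25_1 D9486 (iv D6552) D6551
theorem F42533 : act 7 n9486 = n6578 := d36_2 (iv F30008) D9486 (iv D6578)
theorem F42534 : act 9 n9486 = n6560 := d38_2 (iv F30009) D9486 (iv D6560)
def n9487 : Q := act 8 n6551
theorem D9487 : act 8 n6551 = n9487 := rfl
theorem F42535 : act 1 n9487 = n6554 := d15_1 D9487 (iv D6554) (iv F30005)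
theorem F42536 : act 4 n9487 = n6909 := d33_1 D9487 (iv D6909) (iv F30006)
theorem F42537 : act 6 n9487 = n9487 := d40_1 D9487 (iv D9487) F30007
theorem F42538 : act 7 n9487 = n6579 := d42_1 D9487 (iv D6579) (iv F30008)
def n9488 : Q := act 6 n6552
theorem D9488 : act 6 n6552 = n9488 := rfl
theorem F42539 : act 1 n9488 = n6555 := d13_1 D9488 (iv D6555) (iv F30010)
theorem F42540 : act 2 n9488 = n9488 := d20_1 D9488 (iv D9488) F30011
theorem F42541 : act 4 n9488 = n9488 := d31_1 D9488 (iv D9488) F30012
theorem F42542 : act 5 n9488 = n9488 := d35_1 D9488 (iv D9488) (iv D6552) F21255 D6552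
theorem F42543 : act 9 n9488 = n6562 := d41_2 (iv F30014) D9488 (iv D6562)
def n9489 : Q := act 4 n6553
theorem D9489 : act 4 n6553 = n9489 := rfl
theorem F42544 : act 0 n9489 = n9489 := d3_1 D9489 (iv D9489) F30015
theorem F42545 : act 3 n9489 = n9489 := d24_1 D9489 (iv D9489) F30016 F21265 (iv F30016)
theorem F42546 : act 5 n9489 = n6911 := d30_2 D6553 D9489 (iv D6911) (iv D4774) (iv F21259)
theorem F42547 : act 7 n9489 = n6581 := d32_2 (iv F30017) D9489 (iv D6581)
theorem F42548 : act 9 n9489 = n6563 := d34_2 (iv F30018) D9489 (iv D6563)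
def n9490 : Q := act 6 n6553
theorem D9490 : act 6 n6553 = n9490 := rfl
theorem F42549 : act 0 n9490 = n9490 := d5_1 D9490 (iv D9490) F30015
theorem F42550 : act 3 n9490 = n6555 := d26_1 D9490 (iv D6555) (iv F30016)
theorem F42551 : act 5 n9490 = n9490 := d35_1 D9490 (iv D9490) (iv D6553) F21260 D6553
theorem F42552 : act 9 n9490 = n6564 := d41_2 (iv F30018) D9490 (iv D6564)
def n9491 : Q := act 8 n6553
theorem D9491 : act 8 n6553 = n9491 := rfl
theorem F42553 : act 0 n9491 = n9491 := d7_1 D9491 (iv D9491) F30015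
theorem F42554 : act 5 n9491 = n6554 := d37_1 D9491 (iv D6554) D6553
theorem F42555 : act 7 n9491 = n6583 := d42_1 D9491 (iv D6583) (iv F30017)
def n9492 : Q := act 9 n6554
theorem D9492 : act 9 n6554 = n9492 := rfl
theorem F42556 : act 0 n9492 = n9492 := d8_1 D9492 (iv D9492) F30019
theorem F42557 : act 4 n9492 = n6914 := d34_1 D9492 (iv D6914) (iv F30020)
theorem F42558 : act 6 n9492 = n9492 := d41_1 D9492 (iv D9492) F30021
theorem F42559 : act 7 n9492 = n6584 := d43_1 D9492 (iv D6584) (iv F30022)
theorem F42560 : act 8 n9492 = n6566 := d44_1 D9492 (iv D6566) (iv D4544) (iv F21262) D6554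
def n9493 : Q := act 7 n6555
theorem D9493 : act 7 n6555 = n9493 := rfl
theorem F42561 : act 0 n9493 = n9493 := d6_1 D9493 (iv D9493) F30023
theorem F42562 : act 2 n9493 = n6556 := d21_1 D9493 (iv D6556) (iv F30024)
theorem F42563 : act 4 n9493 = n9493 := d32_1 D9493 (iv D9493) F30025
theorem F42564 : act 5 n9493 = n9493 := d36_1 D9493 (iv D9493) F30026
theorem F42565 : act 6 n9493 = n6585 := d39_1 D9493 (iv D6585) (iv D4557) (iv F21266) D6555
theorem F42566 : act 9 n9493 = n6567 := d43_2 (iv F30027) D9493 (iv D6567)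
def n9494 : Q := act 2 n6557
theorem D9494 : act 2 n6557 = n9494 := rfl
theorem F42567 : act 0 n9494 = n6559 := d1_1 D9494 (iv D6559) (iv F30034)
theorem F42568 : act 3 n9494 = n9494 := d17_2 D6557 D9494 (iv D9494) (iv D6557) F21275
theorem F42569 : act 4 n9494 = n6916 := d18_2 (iv F30036) D9494 (iv D6916)
theorem F42570 : act 6 n9494 = n9494 := d20_2 F30037 D9494 (iv D9494)
theorem F42571 : act 7 n9494 = n6586 := d21_2 (iv F30038) D9494 (iv D6586)
def n9495 : Q := act 5 n6557
theorem D9495 : act 5 n6557 = n9495 := rfl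
theorem F42572 : act 0 n9495 = n6560 := d4_1 D9495 (iv D6560) (iv F30034)
theorem F42573 : act 1 n9495 = n9495 := d12_1 D9495 (iv D9495) F30035
theorem F42574 : act 3 n9495 = n6558 := d25_1 D9495 (iv D6558) D6557
theorem F42575 : act 7 n9495 = n6587 := d36_2 (iv F30038) D9495 (iv D6587)
def n9496 : Q := act 8 n6557
theorem D9496 : act 8 n6557 = n9496 := rfl
theorem F42576 : act 0 n9496 = n6561 := d7_1 D9496 (iv D6561) (iv F30034)
theorem F42577 : act 1 n9496 = n9496 := d15_1 D9496 (iv D9496) F30035
theorem F42578 : act 3 n9496 = n9496 := d28_1 D9496 (iv D9496) (iv D6557) F21278 D6557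
theorem F42579 : act 4 n9496 = n6918 := d33_1 D9496 (iv D6918) (iv F30036)
theorem F42580 : act 6 n9496 = n9496 := d40_1 D9496 (iv D9496) F30037
theorem F42581 : act 7 n9496 = n6588 := d42_1 D9496 (iv D6588) (iv F30038)
def n9497 : Q := act 6 n6558
theorem D9497 : act 6 n6558 = n9497 := rfl
theorem F42582 : act 0 n9497 = n6562 := d5_1 D9497 (iv D6562) (iv F30039)
theorem F42583 : act 1 n9497 = n9497 := d13_1 D9497 (iv D9497) F30040
theorem F42584 : act 2 n9497 = n9497 := d20_1 D9497 (iv D9497) F30041
theorem F42585 : act 4 n9497 = n9497 := d31_1 D9497 (iv D9497) F30042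
theorem F42586 : act 5 n9497 = n9497 := d35_1 D9497 (iv D9497) (iv D6558) F21276 D6558
theorem F42587 : act 8 n9497 = n9497 := d40_2 F30044 D9497 (iv D9497)
def n9498 : Q := act 5 n6559
theorem D9498 : act 5 n6559 = n9498 := rfl
theorem F42588 : act 2 n9498 = n6560 := d19_1 D9498 (iv D6560) D6559
theorem F42589 : act 3 n9498 = n9498 := d25_1 D9498 (iv D9498) F30045
theorem F42590 : act 7 n9498 = n6590 := d36_2 (iv F30048) D9498 (iv D6590)
def n9499 : Q := act 8 n6559
theorem D9499 : act 8 n6559 = n9499 := rfl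
theorem F42591 : act 2 n9499 = n6561 := d22_1 D9499 (iv D6561) D6559
theorem F42592 : act 4 n9499 = n6921 := d33_1 D9499 (iv D6921) (iv F30046)
theorem F42593 : act 6 n9499 = n9499 := d40_1 D9499 (iv D9499) F30047
theorem F42594 : act 7 n9499 = n6591 := d42_1 D9499 (iv D6591) (iv F30048)
def n9500 : Q := act 4 n6560
theorem D9500 : act 4 n6560 = n9500 := rfl
theorem F42595 : act 1 n9500 = n6563 := d11_1 D9500 (iv D6563) (iv F30049)
theorem F42596 : act 3 n9500 = n9500 := d24_1 D9500 (iv D9500) F30050 F21285 (iv F30050)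
theorem F42597 : act 5 n9500 = n6922 := d30_2 D6560 D9500 (iv D6922) (iv D4781) (iv F21280)
theorem F42598 : act 7 n9500 = n6592 := d32_2 (iv F30051) D9500 (iv D6592)
def n9501 : Q := act 6 n6560
theorem D9501 : act 6 n6560 = n9501 := rfl
theorem F42599 : act 1 n9501 = n6564 := d13_1 D9501 (iv D6564) (iv F30049)
theorem F42600 : act 3 n9501 = n6562 := d26_1 D9501 (iv D6562) (iv F30050)
theorem F42601 : act 5 n9501 = n9501 := d35_1 D9501 (iv D9501) (iv D6560) F21281 D6560
def n9502 : Q := act 8 n6560
theorem D9502 : act 8 n6560 = n9502 := rfl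
theorem F42602 : act 1 n9502 = n6565 := d15_1 D9502 (iv D6565) (iv F30049)
theorem F42603 : act 3 n9502 = n9502 := d28_1 D9502 (iv D9502) F30050 F21287 (iv F30050)
theorem F42604 : act 5 n9502 = n6561 := d37_1 D9502 (iv D6561) D6560
theorem F42605 : act 7 n9502 = n6594 := d42_1 D9502 (iv D6594) (iv F30051)
def n9503 : Q := act 9 n6561
theorem D9503 : act 9 n6561 = n9503 := rfl
theorem F42606 : act 1 n9503 = n6566 := d16_1 D9503 (iv D6566) (iv F30052)
theorem F42607 : act 3 n9503 = n9503 := d29_1 D9503 (iv D9503) F30053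
theorem F42608 : act 4 n9503 = n6925 := d34_1 D9503 (iv D6925) (iv F30054)
theorem F42609 : act 6 n9503 = n9503 := d41_1 D9503 (iv D9503) F30055
theorem F42610 : act 7 n9503 = n6595 := d43_1 D9503 (iv D6595) (iv F30056)
def n9504 : Q := act 7 n6562
theorem D9504 : act 7 n6562 = n9504 := rfl
theorem F42611 : act 1 n9504 = n6567 := d14_1 D9504 (iv D6567) (iv F30057)
theorem F42612 : act 2 n9504 = n9504 := d21_1 D9504 (iv D9504) F30058
theorem F42613 : act 4 n9504 = n9504 := d32_1 D9504 (iv D9504) F30059
theorem F42614 : act 5 n9504 = n9504 := d36_1 D9504 (iv D9504) F30060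
theorem F42615 : act 6 n9504 = n6596 := d39_1 D9504 (iv D6596) (iv D4564) (iv F21286) D6562
theorem F42616 : act 8 n9504 = n9504 := d42_2 F30061 D9504 (iv D9504)
def n9505 : Q := act 6 n6563
theorem D9505 : act 6 n6563 = n9505 := rfl
theorem F42617 : act 0 n9505 = n9505 := d5_1 D9505 (iv D9505) F30062
theorem F42618 : act 3 n9505 = n9505 := d26_1 D9505 (iv D9505) F30063
theorem F42619 : act 4 n9505 = n6564 := d31_1 D9505 (iv D6564) D6563
def n9506 : Q := act 8 n6563
theorem D9506 : act 8 n6563 = n9506 := rfl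
theorem F42620 : act 0 n9506 = n9506 := d7_1 D9506 (iv D9506) F30062
theorem F42621 : act 4 n9506 = n6565 := d33_1 D9506 (iv D6565) D6563
theorem F42622 : act 5 n9506 = n6928 := d37_1 D9506 (iv D6928) (iv F30064)
theorem F42623 : act 7 n9506 = n6598 := d42_1 D9506 (iv D6598) (iv F30065)
def n9507 : Q := act 7 n6564
theorem D9507 : act 7 n6564 = n9507 := rfl
theorem F42624 : act 0 n9507 = n9507 := d6_1 D9507 (iv D9507) F30066
theorem F42625 : act 3 n9507 = n6567 := d27_1 D9507 (iv D6567) (iv F30067)
theorem F42626 : act 5 n9507 = n9507 := d36_1 D9507 (iv D9507) F30068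
theorem F42627 : act 6 n9507 = n6599 := d39_1 D9507 (iv D6599) (iv D4566) (iv F21290) D6564
def n9508 : Q := act 8 n6564
theorem D9508 : act 8 n6564 = n9508 := rfl
theorem F42628 : act 0 n9508 = n9508 := d7_1 D9508 (iv D9508) F30066
theorem F42629 : act 3 n9508 = n9508 := d28_1 D9508 (iv D9508) F30067 F21300 (iv F30067)
theorem F42630 : act 5 n9508 = n9508 := d37_1 D9508 (iv D9508) F30068
theorem F42631 : act 6 n9508 = n6565 := d40_1 D9508 (iv D6565) D6564
def n9509 : Q := act 9 n6565
theorem D9509 : act 9 n6565 = n9509 := rfl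
theorem F42632 : act 0 n9509 = n9509 := d8_1 D9509 (iv D9509) F30069
theorem F42633 : act 3 n9509 = n9509 := d29_1 D9509 (iv D9509) F30070
theorem F42634 : act 5 n9509 = n6566 := d38_1 D9509 (iv D6566) (iv F30071)
theorem F42635 : act 7 n9509 = n6601 := d43_1 D9509 (iv D6601) (iv F30072)
def n9510 : Q := act 3 n6568
theorem D9510 : act 3 n6568 = n9510 := rfl
theorem F42636 : act 0 n9510 = n6569 := d2_1 D9510 (iv D6569) (iv F30084)
theorem F42637 : act 1 n9510 = n9510 := d10_1 D9510 (iv D9510) F30085
theorem F42638 : act 4 n9510 = n9510 := d24_2 D6568 D9510 (iv D9510) (iv D6568) F21309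
theorem F42639 : act 6 n9510 = n6602 := d26_2 (iv F30087) D9510 (iv D6602)
theorem F42640 : act 9 n9510 = n9510 := d29_2 F30089 D9510 (iv D9510)
def n9511 : Q := act 5 n6568
theorem D9511 : act 5 n6568 = n9511 := rfl
theorem F42641 : act 0 n9511 = n6570 := d4_1 D9511 (iv D6570) (iv F30084)
theorem F42642 : act 1 n9511 = n9511 := d12_1 D9511 (iv D9511) F30085
theorem F42643 : act 2 n9511 = n9511 := d19_1 D9511 (iv D9511) F30086
theorem F42644 : act 4 n9511 = n9511 := d30_1 D9511 (iv D9511) (iv D6568) F21310 D6568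
theorem F42645 : act 8 n9511 = n6576 := d37_2 (iv F30088) D9511 (iv D6576)
theorem F42646 : act 9 n9511 = n9511 := d38_2 F30089 D9511 (iv D9511)
def n9512 : Q := act 2 n6569
theorem D9512 : act 2 n6569 = n9512 := rfl
theorem F42647 : act 1 n9512 = n9512 := d9_1 D9512 (iv D9512) F30090 F21320 (iv F30090)
theorem F42648 : act 3 n9512 = n9512 := d17_2 D6569 D9512 (iv D9512) (iv D6569) F21315
theorem F42649 : act 4 n9512 = n9512 := d18_2 F30091 D9512 (iv D9512)
theorem F42650 : act 6 n9512 = n6604 := d20_2 (iv F30092) D9512 (iv D6604)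
theorem F42651 : act 9 n9512 = n9512 := d23_2 F30093 D9512 (iv D9512)
def n9513 : Q := act 5 n6569
theorem D9513 : act 5 n6569 = n9513 := rfl
theorem F42652 : act 1 n9513 = n6571 := d12_1 D9513 (iv D6571) (iv F30090)
theorem F42653 : act 3 n9513 = n6570 := d25_1 D9513 (iv D6570) D6569
theorem F42654 : act 9 n9513 = n9513 := d38_2 F30093 D9513 (iv D9513)
def n9514 : Q := act 8 n6569
theorem D9514 : act 8 n6569 = n9514 := rfl
theorem F42655 : act 1 n9514 = n6572 := d15_1 D9514 (iv D6572) (iv F30090)
theorem F42656 : act 3 n9514 = n6579 := d28_1 D9514 (iv D6579) (iv D4553) (iv F21317) D6569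
theorem F42657 : act 4 n9514 = n9514 := d33_1 D9514 (iv D9514) F30091
theorem F42658 : act 6 n9514 = n6606 := d40_1 D9514 (iv D6606) (iv F30092)
def n9515 : Q := act 6 n6570
theorem D9515 : act 6 n6570 = n9515 := rfl
theorem F42659 : act 1 n9515 = n6573 := d13_1 D9515 (iv D6573) (iv F30094)
theorem F42660 : act 2 n9515 = n9515 := d20_1 D9515 (iv D9515) F30095
theorem F42661 : act 4 n9515 = n9515 := d31_1 D9515 (iv D9515) F30096
theorem F42662 : act 5 n9515 = n6607 := d35_1 D9515 (iv D6607) (iv D4572) (iv F21316) D6570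
theorem F42663 : act 8 n9515 = n6580 := d40_2 (iv F30097) D9515 (iv D6580)
theorem F42664 : act 9 n9515 = n9515 := d41_2 F30098 D9515 (iv D9515)
def n9516 : Q := act 4 n6571
theorem D9516 : act 4 n6571 = n9516 := rfl
theorem F42665 : act 0 n9516 = n9516 := d3_1 D9516 (iv D9516) F30099
theorem F42666 : act 2 n9516 = n9516 := d18_1 D9516 (iv D9516) F30100
theorem F42667 : act 3 n9516 = n9516 := d24_1 D9516 (iv D9516) F30101 F21326 (iv F30101)
theorem F42668 : act 5 n9516 = n9516 := d30_2 D6571 D9516 (iv D9516) (iv D6571) F21321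
theorem F42669 : act 9 n9516 = n9516 := d34_2 F30102 D9516 (iv D9516)
def n9517 : Q := act 6 n6571
theorem D9517 : act 6 n6571 = n9517 := rfl
theorem F42670 : act 0 n9517 = n9517 := d5_1 D9517 (iv D9517) F30099
theorem F42671 : act 2 n9517 = n9517 := d20_1 D9517 (iv D9517) F30100
theorem F42672 : act 3 n9517 = n6573 := d26_1 D9517 (iv D6573) (iv F30101)
theorem F42673 : act 5 n9517 = n6609 := d35_1 D9517 (iv D6609) (iv D4573) (iv F21322) D6571
theorem F42674 : act 9 n9517 = n9517 := d41_2 F30102 D9517 (iv D9517)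
def n9518 : Q := act 8 n6571
theorem D9518 : act 8 n6571 = n9518 := rfl
theorem F42675 : act 0 n9518 = n9518 := d7_1 D9518 (iv D9518) F30099
theorem F42676 : act 2 n9518 = n9518 := d22_1 D9518 (iv D9518) F30100
theorem F42677 : act 3 n9518 = n6583 := d28_1 D9518 (iv D6583) F21350 (iv F21327) (iv F30101)
theorem F42678 : act 5 n9518 = n6572 := d37_1 D9518 (iv D6572) D6571
def n9519 : Q := act 9 n6572
theorem D9519 : act 9 n6572 = n9519 := rfl
theorem F42679 : act 0 n9519 = n9519 := d8_1 D9519 (iv D9519) F30103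
theorem F42680 : act 2 n9519 = n9519 := d23_1 D9519 (iv D9519) F30104
theorem F42681 : act 3 n9519 = n6584 := d29_1 D9519 (iv D6584) (iv F30105)
theorem F42682 : act 4 n9519 = n9519 := d34_1 D9519 (iv D9519) F30106
theorem F42683 : act 6 n9519 = n6611 := d41_1 D9519 (iv D6611) (iv F30107)
theorem F42684 : act 8 n9519 = n9519 := d44_1 D9519 (iv D9519) (iv D6572) F21323 D6572
def n9520 : Q := act 7 n6573
theorem D9520 : act 7 n6573 = n9520 := rfl
theorem F42685 : act 0 n9520 = n9520 := d6_1 D9520 (iv D9520) F30108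
theorem F42686 : act 2 n9520 = n6574 := d21_1 D9520 (iv D6574) (iv F30109)
theorem F42687 : act 4 n9520 = n9520 := d32_1 D9520 (iv D9520) F30110
theorem F42688 : act 5 n9520 = n6612 := d36_1 D9520 (iv D6612) (iv F30111)
theorem F42689 : act 8 n9520 = n6585 := d42_2 (iv F30112) D9520 (iv D6585)
theorem F42690 : act 9 n9520 = n9520 := d43_2 F30113 D9520 (iv D9520)
def n9521 : Q := act 2 n6575
theorem D9521 : act 2 n6575 = n9521 := rfl
theorem F42691 : act 0 n9521 = n6577 := d1_1 D9521 (iv D6577) (iv F30121)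
theorem F42692 : act 3 n9521 = n9521 := d17_2 D6575 D9521 (iv D9521) (iv D6575) F21338
theorem F42693 : act 4 n9521 = n6932 := d18_2 (iv F30123) D9521 (iv D6932)
theorem F42694 : act 6 n9521 = n6613 := d20_2 (iv F30124) D9521 (iv D6613)
theorem F42695 : act 9 n9521 = n6586 := d23_2 (iv F30125) D9521 (iv D6586)
def n9522 : Q := act 5 n6575
theorem D9522 : act 5 n6575 = n9522 := rfl
theorem F42696 : act 0 n9522 = n6578 := d4_1 D9522 (iv D6578) (iv F30121)
theorem F42697 : act 1 n9522 = n9522 := d12_1 D9522 (iv D9522) F30122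
theorem F42698 : act 3 n9522 = n6576 := d25_1 D9522 (iv D6576) D6575
theorem F42699 : act 9 n9522 = n6587 := d38_2 (iv F30125) D9522 (iv D6587)
def n9523 : Q := act 8 n6575
theorem D9523 : act 8 n6575 = n9523 := rfl
theorem F42700 : act 0 n9523 = n6579 := d7_1 D9523 (iv D6579) (iv F30121)
theorem F42701 : act 1 n9523 = n9523 := d15_1 D9523 (iv D9523) F30122
theorem F42702 : act 4 n9523 = n6934 := d33_1 D9523 (iv D6934) (iv F30123)
theorem F42703 : act 6 n9523 = n6615 := d40_1 D9523 (iv D6615) (iv F30124)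
def n9524 : Q := act 6 n6576
theorem D9524 : act 6 n6576 = n9524 := rfl
theorem F42704 : act 0 n9524 = n6580 := d5_1 D9524 (iv D6580) (iv F30126)
theorem F42705 : act 1 n9524 = n9524 := d13_1 D9524 (iv D9524) F30127
theorem F42706 : act 2 n9524 = n9524 := d20_1 D9524 (iv D9524) F30128
theorem F42707 : act 4 n9524 = n9524 := d31_1 D9524 (iv D9524) F30129
theorem F42708 : act 5 n9524 = n6616 := d35_1 D9524 (iv D6616) (iv D4578) (iv F21339) D6576
theorem F42709 : act 9 n9524 = n6589 := d41_2 (iv F30130) D9524 (iv D6589)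
def n9525 : Q := act 5 n6577
theorem D9525 : act 5 n6577 = n9525 := rfl
theorem F42710 : act 2 n9525 = n6578 := d19_1 D9525 (iv D6578) D6577
theorem F42711 : act 3 n9525 = n9525 := d25_1 D9525 (iv D9525) F30131
theorem F42712 : act 9 n9525 = n6590 := d38_2 (iv F30134) D9525 (iv D6590)
def n9526 : Q := act 8 n6577
theorem D9526 : act 8 n6577 = n9526 := rfl
theorem F42713 : act 2 n9526 = n6579 := d22_1 D9526 (iv D6579) D6577
theorem F42714 : act 4 n9526 = n6937 := d33_1 D9526 (iv D6937) (iv F30132)
theorem F42715 : act 6 n9526 = n6618 := d40_1 D9526 (iv D6618) (iv F30133)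
def n9527 : Q := act 4 n6578
theorem D9527 : act 4 n6578 = n9527 := rfl
theorem F42716 : act 1 n9527 = n6581 := d11_1 D9527 (iv D6581) (iv F30135)
theorem F42717 : act 3 n9527 = n9527 := d24_1 D9527 (iv D9527) F30136 F21347 (iv F30136)
theorem F42718 : act 5 n9527 = n6938 := d30_2 D6578 D9527 (iv D6938) (iv D4792) (iv F21342)
theorem F42719 : act 9 n9527 = n6592 := d34_2 (iv F30137) D9527 (iv D6592)
def n9528 : Q := act 6 n6578
theorem D9528 : act 6 n6578 = n9528 := rfl
theorem F42720 : act 1 n9528 = n6582 := d13_1 D9528 (iv D6582) (iv F30135)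
theorem F42721 : act 3 n9528 = n6580 := d26_1 D9528 (iv D6580) (iv F30136)
theorem F42722 : act 5 n9528 = n6620 := d35_1 D9528 (iv D6620) (iv D4580) (iv F21343) D6578
theorem F42723 : act 9 n9528 = n6593 := d41_2 (iv F30137) D9528 (iv D6593)
def n9529 : Q := act 8 n6578
theorem D9529 : act 8 n6578 = n9529 := rfl
theorem F42724 : act 1 n9529 = n6583 := d15_1 D9529 (iv D6583) (iv F30135)
theorem F42725 : act 5 n9529 = n6579 := d37_1 D9529 (iv D6579) D6578
def n9530 : Q := act 9 n6579
theorem D9530 : act 9 n6579 = n9530 := rfl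
theorem F42726 : act 1 n9530 = n6584 := d16_1 D9530 (iv D6584) (iv F30138)
theorem F42727 : act 4 n9530 = n6941 := d34_1 D9530 (iv D6941) (iv F30139)
theorem F42728 : act 6 n9530 = n6622 := d41_1 D9530 (iv D6622) (iv F30140)
theorem F42729 : act 8 n9530 = n6595 := d44_1 D9530 (iv D6595) (iv D4563) (iv F21344) D6579
def n9531 : Q := act 7 n6580
theorem D9531 : act 7 n6580 = n9531 := rfl
theorem F42730 : act 1 n9531 = n6585 := d14_1 D9531 (iv D6585) (iv F30141)
theorem F42731 : act 2 n9531 = n9531 := d21_1 D9531 (iv D9531) F30142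
theorem F42732 : act 4 n9531 = n9531 := d32_1 D9531 (iv D9531) F30143
theorem F42733 : act 5 n9531 = n6623 := d36_1 D9531 (iv D6623) (iv F30144)
theorem F42734 : act 9 n9531 = n6596 := d43_2 (iv F30145) D9531 (iv D6596)
def n9532 : Q := act 6 n6581
theorem D9532 : act 6 n6581 = n9532 := rfl
theorem F42735 : act 0 n9532 = n9532 := d5_1 D9532 (iv D9532) F30146
theorem F42736 : act 3 n9532 = n9532 := d26_1 D9532 (iv D9532) F30147
theorem F42737 : act 4 n9532 = n6582 := d31_1 D9532 (iv D6582) D6581
theorem F42738 : act 9 n9532 = n6597 := d41_2 (iv F30149) D9532 (iv D6597)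
def n9533 : Q := act 8 n6581
theorem D9533 : act 8 n6581 = n9533 := rfl
theorem F42739 : act 0 n9533 = n9533 := d7_1 D9533 (iv D9533) F30146
theorem F42740 : act 4 n9533 = n6583 := d33_1 D9533 (iv D6583) D6581
theorem F42741 : act 5 n9533 = n6944 := d37_1 D9533 (iv D6944) (iv F30148)
def n9534 : Q := act 7 n6582
theorem D9534 : act 7 n6582 = n9534 := rfl
theorem F42742 : act 0 n9534 = n9534 := d6_1 D9534 (iv D9534) F30150
theorem F42743 : act 3 n9534 = n6585 := d27_1 D9534 (iv D6585) (iv F30151)
theorem F42744 : act 5 n9534 = n6626 := d36_1 D9534 (iv D6626) (iv F30152)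
theorem F42745 : act 9 n9534 = n6599 := d43_2 (iv F30153) D9534 (iv D6599)
def n9535 : Q := act 8 n6582
theorem D9535 : act 8 n6582 = n9535 := rfl
theorem F42746 : act 0 n9535 = n9535 := d7_1 D9535 (iv D9535) F30150
theorem F42747 : act 5 n9535 = n6627 := d37_1 D9535 (iv D6627) (iv F30152)
theorem F42748 : act 6 n9535 = n6583 := d40_1 D9535 (iv D6583) D6582
def n9536 : Q := act 9 n6583
theorem D9536 : act 9 n6583 = n9536 := rfl
theorem F42749 : act 0 n9536 = n9536 := d8_1 D9536 (iv D9536) F30154
theorem F42750 : act 5 n9536 = n6584 := d38_1 D9536 (iv D6584) (iv F30155)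
theorem F42751 : act 8 n9536 = n6601 := d44_1 D9536 (iv D6601) (iv D4567) (iv F21351) D6583
def n9537 : Q := act 1 n6586
theorem D9537 : act 1 n6586 = n9537 := rfl
theorem F42752 : act 2 n9537 = n9537 := d9_2 D6586 D9537 (iv D9537) (iv D6586) F21366
theorem F42753 : act 3 n9537 = n9537 := d10_2 F30166 D9537 (iv D9537)
theorem F42754 : act 4 n9537 = n6948 := d11_2 (iv F30167) D9537 (iv D6948)
theorem F42755 : act 6 n9537 = n6629 := d13_2 (iv F30168) D9537 (iv D6629)
def n9538 : Q := act 5 n6586
theorem D9538 : act 5 n6586 = n9538 := rfl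
theorem F42756 : act 0 n9538 = n6590 := d4_1 D9538 (iv D6590) (iv F30165)
theorem F42757 : act 2 n9538 = n6587 := d19_1 D9538 (iv D6587) D6586
theorem F42758 : act 3 n9538 = n9538 := d25_1 D9538 (iv D9538) F30166
def n9539 : Q := act 8 n6586
theorem D9539 : act 8 n6586 = n9539 := rfl
theorem F42759 : act 0 n9539 = n6591 := d7_1 D9539 (iv D6591) (iv F30165)
theorem F42760 : act 2 n9539 = n6588 := d22_1 D9539 (iv D6588) D6586
theorem F42761 : act 4 n9539 = n6950 := d33_1 D9539 (iv D6950) (iv F30167)
theorem F42762 : act 6 n9539 = n6631 := d40_1 D9539 (iv D6631) (iv F30168)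
def n9540 : Q := act 4 n6587
theorem D9540 : act 4 n6587 = n9540 := rfl
theorem F42763 : act 0 n9540 = n6592 := d3_1 D9540 (iv D6592) (iv F30169)
theorem F42764 : act 1 n9540 = n9540 := d11_1 D9540 (iv D9540) F30170
theorem F42765 : act 3 n9540 = n9540 := d24_1 D9540 (iv D9540) F30171 F21372 (iv F30171)
theorem F42766 : act 5 n9540 = n6951 := d30_2 D6587 D9540 (iv D6951) (iv D4801) (iv F21367)
def n9541 : Q := act 6 n6587
theorem D9541 : act 6 n6587 = n9541 := rfl
theorem F42767 : act 0 n9541 = n6593 := d5_1 D9541 (iv D6593) (iv F30169)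
theorem F42768 : act 1 n9541 = n9541 := d13_1 D9541 (iv D9541) F30170
theorem F42769 : act 3 n9541 = n6589 := d26_1 D9541 (iv D6589) (iv F30171)
theorem F42770 : act 5 n9541 = n6633 := d35_1 D9541 (iv D6633) (iv D4589) (iv F21368) D6587
def n9542 : Q := act 8 n6587
theorem D9542 : act 8 n6587 = n9542 := rfl
theorem F42771 : act 0 n9542 = n6594 := d7_1 D9542 (iv D6594) (iv F30169)
theorem F42772 : act 1 n9542 = n9542 := d15_1 D9542 (iv D9542) F30170
theorem F42773 : act 3 n9542 = n9542 := d28_1 D9542 (iv D9542) F30171 F21373 (iv F30171)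
theorem F42774 : act 5 n9542 = n6588 := d37_1 D9542 (iv D6588) D6587
def n9543 : Q := act 9 n6588
theorem D9543 : act 9 n6588 = n9543 := rfl
theorem F42775 : act 0 n9543 = n6595 := d8_1 D9543 (iv D6595) (iv F30172)
theorem F42776 : act 1 n9543 = n9543 := d16_1 D9543 (iv D9543) F30173
theorem F42777 : act 3 n9543 = n9543 := d29_1 D9543 (iv D9543) F30174
theorem F42778 : act 4 n9543 = n6954 := d34_1 D9543 (iv D6954) (iv F30175)
theorem F42779 : act 6 n9543 = n6635 := d41_1 D9543 (iv D6635) (iv F30176)
def n9544 : Q := act 7 n6589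
theorem D9544 : act 7 n6589 = n9544 := rfl
theorem F42780 : act 0 n9544 = n6596 := d6_1 D9544 (iv D6596) (iv F30177)
theorem F42781 : act 1 n9544 = n9544 := d14_1 D9544 (iv D9544) F30178
theorem F42782 : act 2 n9544 = n9544 := d21_1 D9544 (iv D9544) F30179
theorem F42783 : act 4 n9544 = n9544 := d32_1 D9544 (iv D9544) F30180
theorem F42784 : act 5 n9544 = n6636 := d36_1 D9544 (iv D6636) (iv F30181)
theorem F42785 : act 8 n9544 = n9544 := d42_2 F30182 D9544 (iv D9544)
def n9545 : Q := act 4 n6590
theorem D9545 : act 4 n6590 = n9545 := rfl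
theorem F42786 : act 2 n9545 = n6592 := d18_1 D9545 (iv D6592) (iv F30183)
theorem F42787 : act 5 n9545 = n6956 := d30_2 D6590 D9545 (iv D6956) (iv D4804) (iv F21375)
def n9546 : Q := act 6 n6590
theorem D9546 : act 6 n6590 = n9546 := rfl
theorem F42788 : act 2 n9546 = n6593 := d20_1 D9546 (iv D6593) (iv F30183)
theorem F42789 : act 3 n9546 = n9546 := d26_1 D9546 (iv D9546) F30184
theorem F42790 : act 5 n9546 = n6638 := d35_1 D9546 (iv D6638) (iv D4592) (iv F21376) D6590
def n9547 : Q := act 8 n6590
theorem D9547 : act 8 n6590 = n9547 := rfl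
theorem F42791 : act 2 n9547 = n6594 := d22_1 D9547 (iv D6594) (iv F30183)
theorem F42792 : act 5 n9547 = n6591 := d37_1 D9547 (iv D6591) D6590
def n9548 : Q := act 3 n6591
theorem D9548 : act 3 n6591 = n9548 := rfl
theorem F42793 : act 2 n9548 = n9548 := d17_1 D9548 (iv D9548) F30185 F21380 (iv F30185)
theorem F42794 : act 6 n9548 = n6640 := d26_2 (iv F30187) D9548 (iv D6640)
theorem F42795 : act 8 n9548 = n9548 := d28_2 D6591 D9548 (iv D9548) (iv D6591) F21374
def n9549 : Q := act 9 n6591
theorem D9549 : act 9 n6591 = n9549 := rfl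
theorem F42796 : act 2 n9549 = n6595 := d23_1 D9549 (iv D6595) (iv F30185)
theorem F42797 : act 4 n9549 = n6960 := d34_1 D9549 (iv D6960) (iv F30186)
theorem F42798 : act 6 n9549 = n6641 := d41_1 D9549 (iv D6641) (iv F30187)
def n9550 : Q := act 6 n6592
theorem D9550 : act 6 n6592 = n9550 := rfl
theorem F42799 : act 1 n9550 = n6597 := d13_1 D9550 (iv D6597) (iv F30188)
theorem F42800 : act 3 n9550 = n9550 := d26_1 D9550 (iv D9550) F30189
theorem F42801 : act 4 n9550 = n6593 := d31_1 D9550 (iv D6593) D6592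
def n9551 : Q := act 8 n6592
theorem D9551 : act 8 n6592 = n9551 := rfl
theorem F42802 : act 1 n9551 = n6598 := d15_1 D9551 (iv D6598) (iv F30188)
theorem F42803 : act 4 n9551 = n6594 := d33_1 D9551 (iv D6594) D6592
theorem F42804 : act 5 n9551 = n6962 := d37_1 D9551 (iv D6962) (iv F30190)
def n9552 : Q := act 7 n6593
theorem D9552 : act 7 n6593 = n9552 := rfl
theorem F42805 : act 1 n9552 = n6599 := d14_1 D9552 (iv D6599) (iv F30191)
theorem F42806 : act 3 n9552 = n6596 := d27_1 D9552 (iv D6596) (iv F30192)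
theorem F42807 : act 5 n9552 = n6644 := d36_1 D9552 (iv D6644) (iv F30193)
def n9553 : Q := act 8 n6593
theorem D9553 : act 8 n6593 = n9553 := rfl
theorem F42808 : act 1 n9553 = n6600 := d15_1 D9553 (iv D6600) (iv F30191)
theorem F42809 : act 3 n9553 = n9553 := d28_1 D9553 (iv D9553) F30192 F21387 (iv F30192)
theorem F42810 : act 5 n9553 = n6645 := d37_1 D9553 (iv D6645) (iv F30193)
theorem F42811 : act 6 n9553 = n6594 := d40_1 D9553 (iv D6594) D6593
def n9554 : Q := act 9 n6594
theorem D9554 : act 9 n6594 = n9554 := rfl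
theorem F42812 : act 1 n9554 = n6601 := d16_1 D9554 (iv D6601) (iv F30194)
theorem F42813 : act 3 n9554 = n9554 := d29_1 D9554 (iv D9554) F30195
theorem F42814 : act 5 n9554 = n6595 := d38_1 D9554 (iv D6595) (iv F30196)
def n9555 : Q := act 5 n6597
theorem D9555 : act 5 n6597 = n9555 := rfl
theorem F42815 : act 0 n9555 = n9555 := d4_1 D9555 (iv D9555) F30206
theorem F42816 : act 3 n9555 = n9555 := d25_1 D9555 (iv D9555) F30207
theorem F42817 : act 4 n9555 = n6647 := d30_1 D9555 (iv D6647) F21535 (iv F21393) (iv F30208)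
theorem F42818 : act 6 n9555 = n6966 := d35_2 D6597 D9555 (iv D6966) (iv D4811) (iv F21390)
def n9556 : Q := act 7 n6597
theorem D9556 : act 7 n6597 = n9556 := rfl
theorem F42819 : act 0 n9556 = n9556 := d6_1 D9556 (iv D9556) F30206
theorem F42820 : act 3 n9556 = n9556 := d27_1 D9556 (iv D9556) F30207
theorem F42821 : act 4 n9556 = n6599 := d32_1 D9556 (iv D6599) (iv F30208)
def n9557 : Q := act 8 n6597
theorem D9557 : act 8 n6597 = n9557 := rfl
theorem F42822 : act 0 n9557 = n9557 := d7_1 D9557 (iv D9557) F30206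
theorem F42823 : act 4 n9557 = n6600 := d33_1 D9557 (iv D6600) (iv F30208)
theorem F42824 : act 6 n9557 = n6598 := d40_1 D9557 (iv D6598) D6597
def n9558 : Q := act 3 n6598
theorem D9558 : act 3 n6598 = n9558 := rfl
theorem F42825 : act 0 n9558 = n9558 := d2_1 D9558 (iv D9558) F30209
theorem F42826 : act 4 n9558 = n9558 := d24_2 (iv F30210) D9558 (iv D9558) F30210 F21395
theorem F42827 : act 5 n9558 = n6969 := d25_2 (iv F30211) D9558 (iv D6969)
theorem F42828 : act 8 n9558 = n9558 := d28_2 D6598 D9558 (iv D9558) (iv D6598) F21389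
def n9559 : Q := act 9 n6598
theorem D9559 : act 9 n6598 = n9559 := rfl
theorem F42829 : act 0 n9559 = n9559 := d8_1 D9559 (iv D9559) F30209
theorem F42830 : act 4 n9559 = n6601 := d34_1 D9559 (iv D6601) (iv F30210)
theorem F42831 : act 5 n9559 = n6970 := d38_1 D9559 (iv D6970) (iv F30211)
def n9560 : Q := act 8 n6599
theorem D9560 : act 8 n6599 = n9560 := rfl
theorem F42832 : act 0 n9560 = n9560 := d7_1 D9560 (iv D9560) F30212
theorem F42833 : act 3 n9560 = n9560 := d28_1 D9560 (iv D9560) F30213 F21405 (iv F30213)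
theorem F42834 : act 5 n9560 = n6652 := d37_1 D9560 (iv D6652) (iv F30214)
theorem F42835 : act 7 n9560 = n6600 := d42_1 D9560 (iv D6600) D6599
def n9561 : Q := act 9 n6600
theorem D9561 : act 9 n6600 = n9561 := rfl
theorem F42836 : act 0 n9561 = n9561 := d8_1 D9561 (iv D9561) F30215
theorem F42837 : act 3 n9561 = n9561 := d29_1 D9561 (iv D9561) F30216
theorem F42838 : act 5 n9561 = n6653 := d38_1 D9561 (iv D6653) (iv F30217)
theorem F42839 : act 6 n9561 = n6601 := d41_1 D9561 (iv D6601) (iv F30218)
def n9562 : Q := act 2 n6602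
theorem D9562 : act 2 n6602 = n9562 := rfl
theorem F42840 : act 0 n9562 = n6604 := d1_1 D9562 (iv D6604) (iv F30222)
theorem F42841 : act 3 n9562 = n9562 := d17_2 D6602 D9562 (iv D9562) (iv D6602) F21408
theorem F42842 : act 4 n9562 = n9562 := d18_2 F30224 D9562 (iv D9562)
theorem F42843 : act 7 n9562 = n9562 := d21_2 F30225 D9562 (iv D9562)
theorem F42844 : act 9 n9562 = n9562 := d23_2 F30226 D9562 (iv D9562)
def n9563 : Q := act 5 n6602
theorem D9563 : act 5 n6602 = n9563 := rfl
theorem F42845 : act 0 n9563 = n6605 := d4_1 D9563 (iv D6605) (iv F30222)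
theorem F42846 : act 1 n9563 = n9563 := d12_1 D9563 (iv D9563) F30223
theorem F42847 : act 3 n9563 = n6603 := d25_1 D9563 (iv D6603) D6602
theorem F42848 : act 7 n9563 = n9563 := d36_2 F30225 D9563 (iv D9563)
theorem F42849 : act 9 n9563 = n9563 := d38_2 F30226 D9563 (iv D9563)
def n9564 : Q := act 8 n6602
theorem D9564 : act 8 n6602 = n9564 := rfl
theorem F42850 : act 0 n9564 = n6606 := d7_1 D9564 (iv D6606) (iv F30222)
theorem F42851 : act 1 n9564 = n9564 := d15_1 D9564 (iv D9564) F30223
theorem F42852 : act 3 n9564 = n6615 := d28_1 D9564 (iv D6615) (iv D4577) (iv F21410) D6602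
theorem F42853 : act 4 n9564 = n9564 := d33_1 D9564 (iv D9564) F30224
theorem F42854 : act 7 n9564 = n9564 := d42_1 D9564 (iv D9564) F30225
def n9565 : Q := act 6 n6603
theorem D9565 : act 6 n6603 = n9565 := rfl
theorem F42855 : act 0 n9565 = n6607 := d5_1 D9565 (iv D6607) (iv F30227)
theorem F42856 : act 1 n9565 = n9565 := d13_1 D9565 (iv D9565) F30228
theorem F42857 : act 2 n9565 = n9565 := d20_1 D9565 (iv D9565) F30229
theorem F42858 : act 4 n9565 = n6668 := d31_1 D9565 (iv D6668) (iv F30230)
theorem F42859 : act 8 n9565 = n6616 := d40_2 (iv F30232) D9565 (iv D6616)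
theorem F42860 : act 9 n9565 = n9565 := d41_2 F30233 D9565 (iv D9565)
def n9566 : Q := act 5 n6604
theorem D9566 : act 5 n6604 = n9566 := rfl
theorem F42861 : act 1 n9566 = n9566 := d12_1 D9566 (iv D9566) F30234
theorem F42862 : act 2 n9566 = n6605 := d19_1 D9566 (iv D6605) D6604
theorem F42863 : act 3 n9566 = n9566 := d25_1 D9566 (iv D9566) F30235
theorem F42864 : act 7 n9566 = n9566 := d36_2 F30237 D9566 (iv D9566)
theorem F42865 : act 9 n9566 = n9566 := d38_2 F30238 D9566 (iv D9566)
def n9567 : Q := act 8 n6604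
theorem D9567 : act 8 n6604 = n9567 := rfl
theorem F42866 : act 1 n9567 = n9567 := d15_1 D9567 (iv D9567) F30234
theorem F42867 : act 2 n9567 = n6606 := d22_1 D9567 (iv D6606) D6604
theorem F42868 : act 4 n9567 = n9567 := d33_1 D9567 (iv D9567) F30236
theorem F42869 : act 7 n9567 = n9567 := d42_1 D9567 (iv D9567) F30237
def n9568 : Q := act 4 n6605
theorem D9568 : act 4 n6605 = n9568 := rfl
theorem F42870 : act 1 n9568 = n6608 := d11_1 D9568 (iv D6608) (iv F30239)
theorem F42871 : act 3 n9568 = n6671 := d24_1 D9568 (iv D6671) F21611 (iv F21418) (iv F30240)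
theorem F42872 : act 5 n9568 = n9568 := d30_2 D6605 D9568 (iv D9568) (iv D6605) F21413
theorem F42873 : act 7 n9568 = n9568 := d32_2 F30241 D9568 (iv D9568)
theorem F42874 : act 9 n9568 = n9568 := d34_2 F30242 D9568 (iv D9568)
def n9569 : Q := act 6 n6605
theorem D9569 : act 6 n6605 = n9569 := rfl
theorem F42875 : act 1 n9569 = n6609 := d13_1 D9569 (iv D6609) (iv F30239)
theorem F42876 : act 3 n9569 = n6607 := d26_1 D9569 (iv D6607) (iv F30240)
theorem F42877 : act 9 n9569 = n9569 := d41_2 F30242 D9569 (iv D9569)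
def n9570 : Q := act 8 n6605
theorem D9570 : act 8 n6605 = n9570 := rfl
theorem F42878 : act 1 n9570 = n6610 := d15_1 D9570 (iv D6610) (iv F30239)
theorem F42879 : act 3 n9570 = n6621 := d28_1 D9570 (iv D6621) F21460 (iv F21420) (iv F30240)
theorem F42880 : act 5 n9570 = n6606 := d37_1 D9570 (iv D6606) D6605
theorem F42881 : act 7 n9570 = n9570 := d42_1 D9570 (iv D9570) F30241
def n9571 : Q := act 9 n6606
theorem D9571 : act 9 n6606 = n9571 := rfl
theorem F42882 : act 1 n9571 = n6611 := d16_1 D9571 (iv D6611) (iv F30243)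
theorem F42883 : act 3 n9571 = n6622 := d29_1 D9571 (iv D6622) (iv F30244)
theorem F42884 : act 4 n9571 = n9571 := d34_1 D9571 (iv D9571) F30245
theorem F42885 : act 7 n9571 = n9571 := d43_1 D9571 (iv D9571) F30246
theorem F42886 : act 8 n9571 = n9571 := d44_1 D9571 (iv D9571) (iv D6606) F21415 D6606
def n9572 : Q := act 7 n6607
theorem D9572 : act 7 n6607 = n9572 := rfl
theorem F42887 : act 1 n9572 = n6612 := d14_1 D9572 (iv D6612) (iv F30247)
theorem F42888 : act 2 n9572 = n9572 := d21_1 D9572 (iv D9572) F30248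
theorem F42889 : act 4 n9572 = n6675 := d32_1 D9572 (iv D6675) (iv F30249)
theorem F42890 : act 6 n9572 = n9572 := d39_1 D9572 (iv D9572) (iv D6607) F21419 D6607
theorem F42891 : act 8 n9572 = n6623 := d42_2 (iv F30250) D9572 (iv D6623)
theorem F42892 : act 9 n9572 = n9572 := d43_2 F30251 D9572 (iv D9572)
def n9573 : Q := act 6 n6608
theorem D9573 : act 6 n6608 = n9573 := rfl
theorem F42893 : act 0 n9573 = n9573 := d5_1 D9573 (iv D9573) F30252
theorem F42894 : act 2 n9573 = n9573 := d20_1 D9573 (iv D9573) F30253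
theorem F42895 : act 3 n9573 = n6676 := d26_1 D9573 (iv D6676) (iv F30254)
theorem F42896 : act 4 n9573 = n6609 := d31_1 D9573 (iv D6609) D6608
theorem F42897 : act 9 n9573 = n9573 := d41_2 F30257 D9573 (iv D9573)
def n9574 : Q := act 8 n6608
theorem D9574 : act 8 n6608 = n9574 := rfl
theorem F42898 : act 0 n9574 = n9574 := d7_1 D9574 (iv D9574) F30252
theorem F42899 : act 2 n9574 = n9574 := d22_1 D9574 (iv D9574) F30253
theorem F42900 : act 4 n9574 = n6610 := d33_1 D9574 (iv D6610) D6608
theorem F42901 : act 5 n9574 = n9574 := d37_1 D9574 (iv D9574) F30255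
theorem F42902 : act 7 n9574 = n9574 := d42_1 D9574 (iv D9574) F30256
def n9575 : Q := act 7 n6609
theorem D9575 : act 7 n6609 = n9575 := rfl
theorem F42903 : act 0 n9575 = n9575 := d6_1 D9575 (iv D9575) F30258
theorem F42904 : act 2 n9575 = n9575 := d21_1 D9575 (iv D9575) F30259
theorem F42905 : act 3 n9575 = n6612 := d27_1 D9575 (iv D6612) (iv F30260)
theorem F42906 : act 6 n9575 = n9575 := d39_1 D9575 (iv D9575) (iv D6609) F21425 D6609
theorem F42907 : act 9 n9575 = n9575 := d43_2 F30261 D9575 (iv D9575)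
def n9576 : Q := act 8 n6609
theorem D9576 : act 8 n6609 = n9576 := rfl
theorem F42908 : act 0 n9576 = n9576 := d7_1 D9576 (iv D9576) F30258
theorem F42909 : act 2 n9576 = n9576 := d22_1 D9576 (iv D9576) F30259
theorem F42910 : act 3 n9576 = n6627 := d28_1 D9576 (iv D6627) F21476 (iv F21435) (iv F30260)
theorem F42911 : act 6 n9576 = n6610 := d40_1 D9576 (iv D6610) D6609
def n9577 : Q := act 9 n6610
theorem D9577 : act 9 n6610 = n9577 := rfl
theorem F42912 : act 0 n9577 = n9577 := d8_1 D9577 (iv D9577) F30262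
theorem F42913 : act 2 n9577 = n9577 := d23_1 D9577 (iv D9577) F30263
theorem F42914 : act 3 n9577 = n6628 := d29_1 D9577 (iv D6628) (iv F30264)
theorem F42915 : act 5 n9577 = n6611 := d38_1 D9577 (iv D6611) (iv F30265)
theorem F42916 : act 7 n9577 = n9577 := d43_1 D9577 (iv D9577) F30266
theorem F42917 : act 8 n9577 = n9577 := d44_1 D9577 (iv D9577) (iv D6610) F21426 D6610
def n9578 : Q := act 1 n6613
theorem D9578 : act 1 n6613 = n9578 := rfl
theorem F42918 : act 2 n9578 = n9578 := d9_2 D6613 D9578 (iv D9578) (iv D6613) F21445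
theorem F42919 : act 3 n9578 = n9578 := d10_2 F30280 D9578 (iv D9578)
theorem F42920 : act 4 n9578 = n6973 := d11_2 (iv F30281) D9578 (iv D6973)
theorem F42921 : act 7 n9578 = n9578 := d14_2 F30282 D9578 (iv D9578)
theorem F42922 : act 9 n9578 = n6629 := d16_2 (iv F30283) D9578 (iv D6629)
def n9579 : Q := act 5 n6613
theorem D9579 : act 5 n6613 = n9579 := rfl
theorem F42923 : act 0 n9579 = n6617 := d4_1 D9579 (iv D6617) (iv F30279)
theorem F42924 : act 2 n9579 = n6614 := d19_1 D9579 (iv D6614) D6613
theorem F42925 : act 3 n9579 = n9579 := d25_1 D9579 (iv D9579) F30280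
theorem F42926 : act 7 n9579 = n9579 := d36_2 F30282 D9579 (iv D9579)
theorem F42927 : act 9 n9579 = n6630 := d38_2 (iv F30283) D9579 (iv D6630)
def n9580 : Q := act 8 n6613
theorem D9580 : act 8 n6613 = n9580 := rfl
theorem F42928 : act 0 n9580 = n6618 := d7_1 D9580 (iv D6618) (iv F30279)
theorem F42929 : act 2 n9580 = n6615 := d22_1 D9580 (iv D6615) D6613
theorem F42930 : act 4 n9580 = n6975 := d33_1 D9580 (iv D6975) (iv F30281)
theorem F42931 : act 7 n9580 = n9580 := d42_1 D9580 (iv D9580) F30282
def n9581 : Q := act 4 n6614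
theorem D9581 : act 4 n6614 = n9581 := rfl
theorem F42932 : act 0 n9581 = n6619 := d3_1 D9581 (iv D6619) (iv F30284)
theorem F42933 : act 1 n9581 = n9581 := d11_1 D9581 (iv D9581) F30285
theorem F42934 : act 3 n9581 = n6684 := d24_1 D9581 (iv D6684) F21656 (iv F21452) (iv F30286)
theorem F42935 : act 5 n9581 = n6976 := d30_2 D6614 D9581 (iv D6976) (iv D4817) (iv F21446)
theorem F42936 : act 7 n9581 = n9581 := d32_2 F30287 D9581 (iv D9581)
theorem F42937 : act 9 n9581 = n6632 := d34_2 (iv F30288) D9581 (iv D6632)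
def n9582 : Q := act 6 n6614
theorem D9582 : act 6 n6614 = n9582 := rfl
theorem F42938 : act 0 n9582 = n6620 := d5_1 D9582 (iv D6620) (iv F30284)
theorem F42939 : act 1 n9582 = n9582 := d13_1 D9582 (iv D9582) F30285
theorem F42940 : act 3 n9582 = n6616 := d26_1 D9582 (iv D6616) (iv F30286)
theorem F42941 : act 9 n9582 = n6633 := d41_2 (iv F30288) D9582 (iv D6633)
def n9583 : Q := act 8 n6614
theorem D9583 : act 8 n6614 = n9583 := rfl
theorem F42942 : act 0 n9583 = n6621 := d7_1 D9583 (iv D6621) (iv F30284)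
theorem F42943 : act 1 n9583 = n9583 := d15_1 D9583 (iv D9583) F30285
theorem F42944 : act 5 n9583 = n6615 := d37_1 D9583 (iv D6615) D6614
theorem F42945 : act 7 n9583 = n9583 := d42_1 D9583 (iv D9583) F30287
def n9584 : Q := act 9 n6615
theorem D9584 : act 9 n6615 = n9584 := rfl
theorem F42946 : act 0 n9584 = n6622 := d8_1 D9584 (iv D6622) (iv F30289)
theorem F42947 : act 1 n9584 = n9584 := d16_1 D9584 (iv D9584) F30290
theorem F42948 : act 4 n9584 = n6979 := d34_1 D9584 (iv D6979) (iv F30291)
theorem F42949 : act 7 n9584 = n9584 := d43_1 D9584 (iv D9584) F30292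
theorem F42950 : act 8 n9584 = n6635 := d44_1 D9584 (iv D6635) (iv D4590) (iv F21448) D6615
def n9585 : Q := act 7 n6616
theorem D9585 : act 7 n6616 = n9585 := rfl
theorem F42951 : act 0 n9585 = n6623 := d6_1 D9585 (iv D6623) (iv F30293)
theorem F42952 : act 1 n9585 = n9585 := d14_1 D9585 (iv D9585) F30294
theorem F42953 : act 2 n9585 = n9585 := d21_1 D9585 (iv D9585) F30295
theorem F42954 : act 4 n9585 = n6688 := d32_1 D9585 (iv D6688) (iv F30296)
theorem F42955 : act 6 n9585 = n9585 := d39_1 D9585 (iv D9585) (iv D6616) F21453 D6616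
theorem F42956 : act 9 n9585 = n6636 := d43_2 (iv F30297) D9585 (iv D6636)
def n9586 : Q := act 4 n6617
theorem D9586 : act 4 n6617 = n9586 := rfl
theorem F42957 : act 2 n9586 = n6619 := d18_1 D9586 (iv D6619) (iv F30298)
theorem F42958 : act 5 n9586 = n6981 := d30_2 D6617 D9586 (iv D6981) (iv D4820) (iv F21456)
theorem F42959 : act 7 n9586 = n9586 := d32_2 F30300 D9586 (iv D9586)
theorem F42960 : act 9 n9586 = n6637 := d34_2 (iv F30301) D9586 (iv D6637)
def n9587 : Q := act 6 n6617
theorem D9587 : act 6 n6617 = n9587 := rfl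
theorem F42961 : act 2 n9587 = n6620 := d20_1 D9587 (iv D6620) (iv F30298)
theorem F42962 : act 3 n9587 = n9587 := d26_1 D9587 (iv D9587) F30299
theorem F42963 : act 9 n9587 = n6638 := d41_2 (iv F30301) D9587 (iv D6638)
def n9588 : Q := act 8 n6617
theorem D9588 : act 8 n6617 = n9588 := rfl
theorem F42964 : act 2 n9588 = n6621 := d22_1 D9588 (iv D6621) (iv F30298)
theorem F42965 : act 5 n9588 = n6618 := d37_1 D9588 (iv D6618) D6617
theorem F42966 : act 7 n9588 = n9588 := d42_1 D9588 (iv D9588) F30300
def n9589 : Q := act 3 n6618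
theorem D9589 : act 3 n6618 = n9589 := rfl
theorem F42967 : act 7 n9589 = n9589 := d27_2 F30304 D9589 (iv D9589)
theorem F42968 : act 8 n9589 = n9589 := d28_2 D6618 D9589 (iv D9589) (iv D6618) F21455
def n9590 : Q := act 9 n6618
theorem D9590 : act 9 n6618 = n9590 := rfl
theorem F42969 : act 2 n9590 = n6622 := d23_1 D9590 (iv D6622) (iv F30302)
theorem F42970 : act 4 n9590 = n6985 := d34_1 D9590 (iv D6985) (iv F30303)
theorem F42971 : act 7 n9590 = n9590 := d43_1 D9590 (iv D9590) F30304
theorem F42972 : act 8 n9590 = n6641 := d44_1 D9590 (iv D6641) (iv D4593) (iv F21458) D6618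
def n9591 : Q := act 6 n6619
theorem D9591 : act 6 n6619 = n9591 := rfl
theorem F42973 : act 1 n9591 = n6624 := d13_1 D9591 (iv D6624) (iv F30305)
theorem F42974 : act 3 n9591 = n6694 := d26_1 D9591 (iv D6694) (iv F30306)
theorem F42975 : act 4 n9591 = n6620 := d31_1 D9591 (iv D6620) D6619
theorem F42976 : act 9 n9591 = n6642 := d41_2 (iv F30309) D9591 (iv D6642)
def n9592 : Q := act 8 n6619
theorem D9592 : act 8 n6619 = n9592 := rfl
theorem F42977 : act 1 n9592 = n6625 := d15_1 D9592 (iv D6625) (iv F30305)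
theorem F42978 : act 4 n9592 = n6621 := d33_1 D9592 (iv D6621) D6619
theorem F42979 : act 5 n9592 = n6987 := d37_1 D9592 (iv D6987) (iv F30307)
theorem F42980 : act 7 n9592 = n9592 := d42_1 D9592 (iv D9592) F30308
def n9593 : Q := act 7 n6620
theorem D9593 : act 7 n6620 = n9593 := rfl
theorem F42981 : act 1 n9593 = n6626 := d14_1 D9593 (iv D6626) (iv F30310)
theorem F42982 : act 3 n9593 = n6623 := d27_1 D9593 (iv D6623) (iv F30311)
theorem F42983 : act 6 n9593 = n9593 := d39_1 D9593 (iv D9593) (iv D6620) F21461 D6620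
theorem F42984 : act 9 n9593 = n6644 := d43_2 (iv F30312) D9593 (iv D6644)
def n9594 : Q := act 8 n6620
theorem D9594 : act 8 n6620 = n9594 := rfl
theorem F42985 : act 1 n9594 = n6627 := d15_1 D9594 (iv D6627) (iv F30310)
theorem F42986 : act 6 n9594 = n6621 := d40_1 D9594 (iv D6621) D6620
def n9595 : Q := act 9 n6621
theorem D9595 : act 9 n6621 = n9595 := rfl
theorem F42987 : act 1 n9595 = n6628 := d16_1 D9595 (iv D6628) (iv F30313)
theorem F42988 : act 5 n9595 = n6622 := d38_1 D9595 (iv D6622) (iv F30314)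
theorem F42989 : act 7 n9595 = n9595 := d43_1 D9595 (iv D9595) F30315
theorem F42990 : act 8 n9595 = n6646 := d44_1 D9595 (iv D6646) (iv D4596) (iv F21462) D6621
def n9596 : Q := act 5 n6624
theorem D9596 : act 5 n6624 = n9596 := rfl
theorem F42991 : act 0 n9596 = n9596 := d4_1 D9596 (iv D9596) F30325
theorem F42992 : act 3 n9596 = n6699 := d25_1 D9596 (iv D6699) (iv F30326)
theorem F42993 : act 6 n9596 = n6991 := d35_2 D6624 D9596 (iv D6991) (iv D4827) (iv F21472)
theorem F42994 : act 9 n9596 = n6647 := d38_2 (iv F30328) D9596 (iv D6647)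
def n9597 : Q := act 7 n6624
theorem D9597 : act 7 n6624 = n9597 := rfl
theorem F42995 : act 0 n9597 = n9597 := d6_1 D9597 (iv D9597) F30325
theorem F42996 : act 3 n9597 = n6700 := d27_1 D9597 (iv D6700) (iv F30326)
theorem F42997 : act 4 n9597 = n6626 := d32_1 D9597 (iv D6626) (iv F30327)
theorem F42998 : act 6 n9597 = n9597 := d39_1 D9597 (iv D9597) (iv D6624) F21473 D6624
theorem F42999 : act 9 n9597 = n6648 := d43_2 (iv F30328) D9597 (iv D6648)
def n9598 : Q := act 8 n6624
theorem D9598 : act 8 n6624 = n9598 := rfl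
theorem F43000 : act 0 n9598 = n9598 := d7_1 D9598 (iv D9598) F30325
theorem F43001 : act 4 n9598 = n6627 := d33_1 D9598 (iv D6627) (iv F30327)
theorem F43002 : act 6 n9598 = n6625 := d40_1 D9598 (iv D6625) D6624
def n9599 : Q := act 3 n6625
theorem D9599 : act 3 n6625 = n9599 := rfl
theorem F43003 : act 0 n9599 = n9599 := d2_1 D9599 (iv D9599) F30329
theorem F43004 : act 5 n9599 = n6994 := d25_2 (iv F30331) D9599 (iv D6994)
theorem F43005 : act 7 n9599 = n9599 := d27_2 F30332 D9599 (iv D9599)
theorem F43006 : act 8 n9599 = n6702 := d28_2 D6625 D9599 (iv D6702) (iv D4634) (iv F21471)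
def n9600 : Q := act 9 n6625
theorem D9600 : act 9 n6625 = n9600 := rfl
theorem F43007 : act 0 n9600 = n9600 := d8_1 D9600 (iv D9600) F30329
theorem F43008 : act 4 n9600 = n6628 := d34_1 D9600 (iv D6628) (iv F30330)
theorem F43009 : act 5 n9600 = n6995 := d38_1 D9600 (iv D6995) (iv F30331)
theorem F43010 : act 7 n9600 = n9600 := d43_1 D9600 (iv D9600) F30332
theorem F43011 : act 8 n9600 = n6651 := d44_1 D9600 (iv D6651) (iv D4600) (iv F21474) D6625
def n9601 : Q := act 8 n6626
theorem D9601 : act 8 n6626 = n9601 := rfl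
theorem F43012 : act 0 n9601 = n9601 := d7_1 D9601 (iv D9601) F30333
theorem F43013 : act 6 n9601 = n9601 := d40_1 D9601 (iv D9601) F30335
theorem F43014 : act 7 n9601 = n6627 := d42_1 D9601 (iv D6627) D6626
def n9602 : Q := act 9 n6627
theorem D9602 : act 9 n6627 = n9602 := rfl
theorem F43015 : act 0 n9602 = n9602 := d8_1 D9602 (iv D9602) F30337
theorem F43016 : act 6 n9602 = n6628 := d41_1 D9602 (iv D6628) (iv F30338)
theorem F43017 : act 8 n9602 = n6653 := d44_1 D9602 (iv D6653) (iv D4602) (iv F21477) D6627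
def n9603 : Q := act 5 n6629
theorem D9603 : act 5 n6629 = n9603 := rfl
theorem F43018 : act 1 n9603 = n6630 := d12_1 D9603 (iv D6630) D6629
theorem F43019 : act 2 n9603 = n9603 := d19_1 D9603 (iv D9603) F30343
theorem F43020 : act 3 n9603 = n9603 := d25_1 D9603 (iv D9603) F30344
theorem F43021 : act 7 n9603 = n9603 := d36_2 F30346 D9603 (iv D9603)
def n9604 : Q := act 8 n6629
theorem D9604 : act 8 n6629 = n9604 := rfl
theorem F43022 : act 1 n9604 = n6631 := d15_1 D9604 (iv D6631) D6629
theorem F43023 : act 2 n9604 = n9604 := d22_1 D9604 (iv D9604) F30343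
theorem F43025 : act 7 n9604 = n9604 := d42_1 D9604 (iv D9604) F30346
def n9605 : Q := act 4 n6630
theorem D9605 : act 4 n6630 = n9605 := rfl
theorem F43026 : act 0 n9605 = n6637 := d3_1 D9605 (iv D6637) (iv F30347)
theorem F43027 : act 2 n9605 = n6632 := d18_1 D9605 (iv D6632) (iv F30348)
theorem F43028 : act 5 n9605 = n7000 := d30_2 D6630 D9605 (iv D7000) (iv D4833) (iv F21492)
theorem F43029 : act 7 n9605 = n9605 := d32_2 F30350 D9605 (iv D9605)
def n9606 : Q := act 6 n6630
theorem D9606 : act 6 n6630 = n9606 := rfl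
theorem F43030 : act 0 n9606 = n6638 := d5_1 D9606 (iv D6638) (iv F30347)
theorem F43031 : act 2 n9606 = n6633 := d20_1 D9606 (iv D6633) (iv F30348)
theorem F43032 : act 3 n9606 = n9606 := d26_1 D9606 (iv D9606) F30349
def n9607 : Q := act 8 n6630
theorem D9607 : act 8 n6630 = n9607 := rfl
theorem F43033 : act 0 n9607 = n6639 := d7_1 D9607 (iv D6639) (iv F30347)
theorem F43034 : act 2 n9607 = n6634 := d22_1 D9607 (iv D6634) (iv F30348)
theorem F43035 : act 5 n9607 = n6631 := d37_1 D9607 (iv D6631) D6630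
theorem F43036 : act 7 n9607 = n9607 := d42_1 D9607 (iv D9607) F30350
def n9608 : Q := act 3 n6631
theorem D9608 : act 3 n6631 = n9608 := rfl
theorem F43037 : act 0 n9608 = n6640 := d2_1 D9608 (iv D6640) (iv F30351)
theorem F43038 : act 2 n9608 = n9608 := d17_1 D9608 (iv D9608) F30352 F21500 (iv F30352)
theorem F43039 : act 7 n9608 = n9608 := d27_2 F30354 D9608 (iv D9608)
theorem F43040 : act 8 n9608 = n9608 := d28_2 D6631 D9608 (iv D9608) (iv D6631) F21491
def n9609 : Q := act 9 n6631
theorem D9609 : act 9 n6631 = n9609 := rfl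
theorem F43041 : act 0 n9609 = n6641 := d8_1 D9609 (iv D6641) (iv F30351)
theorem F43042 : act 2 n9609 = n6635 := d23_1 D9609 (iv D6635) (iv F30352)
theorem F43043 : act 4 n9609 = n7004 := d34_1 D9609 (iv D7004) (iv F30353)
theorem F43044 : act 7 n9609 = n9609 := d43_1 D9609 (iv D9609) F30354
def n9610 : Q := act 6 n6632
theorem D9610 : act 6 n6632 = n9610 := rfl
theorem F43045 : act 0 n9610 = n6642 := d5_1 D9610 (iv D6642) (iv F30355)
theorem F43046 : act 1 n9610 = n9610 := d13_1 D9610 (iv D9610) F30356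
theorem F43047 : act 3 n9610 = n6713 := d26_1 D9610 (iv D6713) (iv F30357)
theorem F43048 : act 4 n9610 = n6633 := d31_1 D9610 (iv D6633) D6632
def n9611 : Q := act 8 n6632
theorem D9611 : act 8 n6632 = n9611 := rfl
theorem F43049 : act 0 n9611 = n6643 := d7_1 D9611 (iv D6643) (iv F30355)
theorem F43050 : act 1 n9611 = n9611 := d15_1 D9611 (iv D9611) F30356
theorem F43051 : act 4 n9611 = n6634 := d33_1 D9611 (iv D6634) D6632
theorem F43052 : act 5 n9611 = n7006 := d37_1 D9611 (iv D7006) (iv F30358)
theorem F43053 : act 7 n9611 = n9611 := d42_1 D9611 (iv D9611) F30359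
def n9612 : Q := act 7 n6633
theorem D9612 : act 7 n6633 = n9612 := rfl
theorem F43054 : act 0 n9612 = n6644 := d6_1 D9612 (iv D6644) (iv F30360)
theorem F43055 : act 1 n9612 = n9612 := d14_1 D9612 (iv D9612) F30361
theorem F43056 : act 3 n9612 = n6636 := d27_1 D9612 (iv D6636) (iv F30362)
theorem F43057 : act 6 n9612 = n9612 := d39_1 D9612 (iv D9612) (iv D6633) F21497 D6633
def n9613 : Q := act 8 n6633
theorem D9613 : act 8 n6633 = n9613 := rfl
theorem F43058 : act 0 n9613 = n6645 := d7_1 D9613 (iv D6645) (iv F30360)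
theorem F43059 : act 1 n9613 = n9613 := d15_1 D9613 (iv D9613) F30361
theorem F43060 : act 3 n9613 = n9613 := d28_1 D9613 (iv D9613) F30362 F21507 (iv F30362)
theorem F43061 : act 6 n9613 = n6634 := d40_1 D9613 (iv D6634) D6633
def n9614 : Q := act 9 n6634
theorem D9614 : act 9 n6634 = n9614 := rfl
theorem F43062 : act 0 n9614 = n6646 := d8_1 D9614 (iv D6646) (iv F30363)
theorem F43063 : act 1 n9614 = n9614 := d16_1 D9614 (iv D9614) F30364
theorem F43064 : act 3 n9614 = n9614 := d29_1 D9614 (iv D9614) F30365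
theorem F43065 : act 5 n9614 = n6635 := d38_1 D9614 (iv D6635) (iv F30366)
theorem F43066 : act 7 n9614 = n9614 := d43_1 D9614 (iv D9614) F30367
def n9615 : Q := act 3 n6637
theorem D9615 : act 3 n6637 = n9615 := rfl
theorem F43067 : act 2 n9615 = n6718 := d17_1 D9615 (iv D6718) F21765 (iv F21515) (iv F30379)
theorem F43068 : act 4 n9615 = n9615 := d24_2 D6637 D9615 (iv D9615) (iv D6637) F21509
theorem F43069 : act 5 n9615 = n7010 := d25_2 (iv F30380) D9615 (iv D7010)
theorem F43070 : act 7 n9615 = n9615 := d27_2 F30381 D9615 (iv D9615)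
def n9616 : Q := act 6 n6637
theorem D9616 : act 6 n6637 = n9616 := rfl
theorem F43071 : act 2 n9616 = n6642 := d20_1 D9616 (iv D6642) (iv F30379)
theorem F43072 : act 4 n9616 = n6638 := d31_1 D9616 (iv D6638) D6637
def n9617 : Q := act 8 n6637
theorem D9617 : act 8 n6637 = n9617 := rfl
theorem F43073 : act 2 n9617 = n6643 := d22_1 D9617 (iv D6643) (iv F30379)
theorem F43074 : act 4 n9617 = n6639 := d33_1 D9617 (iv D6639) D6637
theorem F43075 : act 5 n9617 = n7012 := d37_1 D9617 (iv D7012) (iv F30380)
theorem F43076 : act 7 n9617 = n9617 := d42_1 D9617 (iv D9617) F30381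
def n9618 : Q := act 7 n6638
theorem D9618 : act 7 n6638 = n9618 := rfl
theorem F43077 : act 2 n9618 = n6644 := d21_1 D9618 (iv D6644) (iv F30382)
theorem F43078 : act 3 n9618 = n9618 := d27_1 D9618 (iv D9618) F30383
theorem F43079 : act 6 n9618 = n9618 := d39_1 D9618 (iv D9618) (iv D6638) F21510 D6638
def n9619 : Q := act 8 n6638
theorem D9619 : act 8 n6638 = n9619 := rfl
theorem F43080 : act 2 n9619 = n6645 := d22_1 D9619 (iv D6645) (iv F30382)
theorem F43081 : act 6 n9619 = n6639 := d40_1 D9619 (iv D6639) D6638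
def n9620 : Q := act 3 n6639
theorem D9620 : act 3 n6639 = n9620 := rfl
theorem F43082 : act 2 n9620 = n9620 := d17_1 D9620 (iv D9620) F30384 F21521 (iv F30384)
theorem F43083 : act 5 n9620 = n6640 := d25_2 (iv F30385) D9620 (iv D6640)
theorem F43084 : act 7 n9620 = n9620 := d27_2 F30386 D9620 (iv D9620)
theorem F43085 : act 8 n9620 = n9620 := d28_2 D6639 D9620 (iv D9620) (iv D6639) F21509
def n9621 : Q := act 9 n6639
theorem D9621 : act 9 n6639 = n9621 := rfl
theorem F43086 : act 2 n9621 = n6646 := d23_1 D9621 (iv D6646) (iv F30384)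
theorem F43087 : act 5 n9621 = n6641 := d38_1 D9621 (iv D6641) (iv F30385)
theorem F43088 : act 7 n9621 = n9621 := d43_1 D9621 (iv D9621) F30386
def n9622 : Q := act 4 n6640
theorem D9622 : act 4 n6640 = n9622 := rfl
theorem F43089 : act 2 n9622 = n9622 := d18_1 D9622 (iv D9622) F30387
theorem F43090 : act 3 n9622 = n7017 := d24_1 D9622 (iv D7017) (iv D4843) (iv F21512) D6640
theorem F43091 : act 7 n9622 = n9622 := d32_2 F30388 D9622 (iv D9622)
theorem F43092 : act 8 n9622 = n9622 := d33_2 F30389 D9622 (iv D9622)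
def n9623 : Q := act 9 n6640
theorem D9623 : act 9 n6640 = n9623 := rfl
theorem F43093 : act 2 n9623 = n9623 := d23_1 D9623 (iv D9623) F30387
theorem F43094 : act 3 n9623 = n6641 := d29_1 D9623 (iv D6641) D6640
theorem F43095 : act 7 n9623 = n9623 := d43_1 D9623 (iv D9623) F30388
def n9624 : Q := act 5 n6642
theorem D9624 : act 5 n6642 = n9624 := rfl
theorem F43096 : act 1 n9624 = n6647 := d12_1 D9624 (iv D6647) (iv F30393)
theorem F43097 : act 3 n9624 = n6726 := d25_1 D9624 (iv D6726) (iv F30394)
theorem F43098 : act 6 n9624 = n7019 := d35_2 D6642 D9624 (iv D7019) (iv D4845) (iv F21516)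
def n9625 : Q := act 7 n6642
theorem D9625 : act 7 n6642 = n9625 := rfl
theorem F43099 : act 1 n9625 = n6648 := d14_1 D9625 (iv D6648) (iv F30393)
theorem F43100 : act 3 n9625 = n6727 := d27_1 D9625 (iv D6727) (iv F30394)
theorem F43101 : act 4 n9625 = n6644 := d32_1 D9625 (iv D6644) (iv F30395)
theorem F43102 : act 6 n9625 = n9625 := d39_1 D9625 (iv D9625) (iv D6642) F21517 D6642
def n9626 : Q := act 8 n6642
theorem D9626 : act 8 n6642 = n9626 := rfl
theorem F43103 : act 1 n9626 = n6649 := d15_1 D9626 (iv D6649) (iv F30393)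
theorem F43104 : act 4 n9626 = n6645 := d33_1 D9626 (iv D6645) (iv F30395)
theorem F43105 : act 6 n9626 = n6643 := d40_1 D9626 (iv D6643) D6642
def n9627 : Q := act 3 n6643
theorem D9627 : act 3 n6643 = n9627 := rfl
theorem F43106 : act 1 n9627 = n6650 := d10_1 D9627 (iv D6650) (iv F30396)
theorem F43107 : act 4 n9627 = n9627 := d24_2 (iv F30397) D9627 (iv D9627) F30397 F21521
theorem F43108 : act 5 n9627 = n7022 := d25_2 (iv F30398) D9627 (iv D7022)
theorem F43109 : act 7 n9627 = n9627 := d27_2 F30399 D9627 (iv D9627)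
theorem F43110 : act 8 n9627 = n6729 := d28_2 D6643 D9627 (iv D6729) (iv D4652) (iv F21515)
def n9628 : Q := act 9 n6643
theorem D9628 : act 9 n6643 = n9628 := rfl
theorem F43111 : act 1 n9628 = n6651 := d16_1 D9628 (iv D6651) (iv F30396)
theorem F43112 : act 4 n9628 = n6646 := d34_1 D9628 (iv D6646) (iv F30397)
theorem F43113 : act 5 n9628 = n7023 := d38_1 D9628 (iv D7023) (iv F30398)
theorem F43114 : act 7 n9628 = n9628 := d43_1 D9628 (iv D9628) F30399
def n9629 : Q := act 8 n6644
theorem D9629 : act 8 n6644 = n9629 := rfl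
theorem F43115 : act 1 n9629 = n6652 := d15_1 D9629 (iv D6652) (iv F30400)
theorem F43116 : act 3 n9629 = n9629 := d28_1 D9629 (iv D9629) F30401 F21532 (iv F30401)
theorem F43117 : act 6 n9629 = n9629 := d40_1 D9629 (iv D9629) F30402
theorem F43118 : act 7 n9629 = n6645 := d42_1 D9629 (iv D6645) D6644
def n9630 : Q := act 9 n6645
theorem D9630 : act 9 n6645 = n9630 := rfl
theorem F43119 : act 1 n9630 = n6653 := d16_1 D9630 (iv D6653) (iv F30403)
theorem F43120 : act 3 n9630 = n9630 := d29_1 D9630 (iv D9630) F30404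
theorem F43121 : act 6 n9630 = n6646 := d41_1 D9630 (iv D6646) (iv F30405)
def n9631 : Q := act 7 n6647
theorem D9631 : act 7 n6647 = n9631 := rfl
theorem F43122 : act 0 n9631 = n9631 := d6_1 D9631 (iv D9631) F30410
theorem F43123 : act 3 n9631 = n6733 := d27_1 D9631 (iv D6733) (iv F30411)
theorem F43124 : act 5 n9631 = n6648 := d36_1 D9631 (iv D6648) D6647
def n9632 : Q := act 8 n6647
theorem D9632 : act 8 n6647 = n9632 := rfl
theorem F43125 : act 0 n9632 = n9632 := d7_1 D9632 (iv D9632) F30410
theorem F43126 : act 5 n9632 = n6649 := d37_1 D9632 (iv D6649) D6647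
theorem F43127 : act 6 n9632 = n7027 := d40_1 D9632 (iv D7027) (iv F30412)
def n9633 : Q := act 8 n6648
theorem D9633 : act 8 n6648 = n9633 := rfl
theorem F43128 : act 0 n9633 = n9633 := d7_1 D9633 (iv D9633) F30413
theorem F43129 : act 4 n9633 = n6652 := d33_1 D9633 (iv D6652) (iv F30415)
theorem F43130 : act 6 n9633 = n9633 := d40_1 D9633 (iv D9633) F30416
theorem F43131 : act 7 n9633 = n6649 := d42_1 D9633 (iv D6649) D6648
def n9634 : Q := act 3 n6649
theorem D9634 : act 3 n6649 = n9634 := rfl
theorem F43132 : act 0 n9634 = n9634 := d2_1 D9634 (iv D9634) F30417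
theorem F43133 : act 4 n9634 = n9634 := d24_2 (iv F30418) D9634 (iv D9634) F30418 F21544
theorem F43134 : act 6 n9634 = n6650 := d26_2 (iv F30419) D9634 (iv D6650)
theorem F43135 : act 8 n9634 = n6736 := d28_2 D6649 D9634 (iv D6736) (iv D4658) (iv F21534)
def n9635 : Q := act 9 n6649
theorem D9635 : act 9 n6649 = n9635 := rfl
theorem F43136 : act 0 n9635 = n9635 := d8_1 D9635 (iv D9635) F30417
theorem F43137 : act 4 n9635 = n6653 := d34_1 D9635 (iv D6653) (iv F30418)
theorem F43138 : act 6 n9635 = n6651 := d41_1 D9635 (iv D6651) (iv F30419)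
def n9636 : Q := act 2 n6650
theorem D9636 : act 2 n6650 = n9636 := rfl
theorem F43139 : act 0 n9636 = n9636 := d1_1 D9636 (iv D9636) F30420
theorem F43140 : act 4 n9636 = n9636 := d18_2 F30421 D9636 (iv D9636)
theorem F43141 : act 5 n9636 = n7031 := d19_2 (iv F30422) D9636 (iv D7031)
theorem F43142 : act 7 n9636 = n9636 := d21_2 F30423 D9636 (iv D9636)
theorem F43143 : act 8 n9636 = n6738 := d22_2 (iv F30424) D9636 (iv D6738)
def n9637 : Q := act 9 n6650
theorem D9637 : act 9 n6650 = n9637 := rfl
theorem F43144 : act 0 n9637 = n9637 := d8_1 D9637 (iv D9637) F30420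
theorem F43145 : act 3 n9637 = n6651 := d29_1 D9637 (iv D6651) D6650
theorem F43146 : act 4 n9637 = n9637 := d34_1 D9637 (iv D9637) F30421
theorem F43147 : act 5 n9637 = n7032 := d38_1 D9637 (iv D7032) (iv F30422)
theorem F43148 : act 7 n9637 = n9637 := d43_1 D9637 (iv D9637) F30423
def n9638 : Q := act 9 n6652
theorem D9638 : act 9 n6652 = n9638 := rfl
theorem F43149 : act 0 n9638 = n9638 := d8_1 D9638 (iv D9638) F30429
theorem F43150 : act 3 n9638 = n9638 := d29_1 D9638 (iv D9638) F30430
theorem F43151 : act 6 n9638 = n9638 := d41_1 D9638 (iv D9638) F30431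
theorem F43152 : act 7 n9638 = n6653 := d43_1 D9638 (iv D6653) (iv F30432)
def n9639 : Q := act 2 n6654
theorem D9639 : act 2 n6654 = n9639 := rfl
theorem F43153 : act 0 n9639 = n6656 := d1_1 D9639 (iv D6656) (iv F30436)
theorem F43156 : act 6 n9639 = n9639 := d20_2 F30439 D9639 (iv D9639)
def n9640 : Q := act 5 n6654
theorem D9640 : act 5 n6654 = n9640 := rfl
theorem F43159 : act 0 n9640 = n6657 := d4_1 D9640 (iv D6657) (iv F30436)
theorem F43160 : act 1 n9640 = n9640 := d12_1 D9640 (iv D9640) F30437
def n9641 : Q := act 8 n6654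
theorem D9641 : act 8 n6654 = n9641 := rfl
def n9643 : Q := act 5 n6656
theorem D9643 : act 5 n6656 = n9643 := rfl
theorem F43177 : act 1 n9643 = n6669 := d12_1 D9643 (iv D6669) (iv F30449)
theorem F43178 : act 2 n9643 = n6657 := d19_1 D9643 (iv D6657) D6656
def n9644 : Q := act 8 n6656
theorem D9644 : act 8 n6656 = n9644 := rfl
theorem F43183 : act 2 n9644 = n6658 := d22_1 D9644 (iv D6658) D6656
theorem F43185 : act 6 n9644 = n9644 := d40_1 D9644 (iv D9644) F30452
def n9645 : Q := act 4 n6657
theorem D9645 : act 4 n6657 = n9645 := rfl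
theorem F43187 : act 1 n9645 = n6660 := d11_1 D9645 (iv D6660) (iv F30455)
def n9646 : Q := act 6 n6657
theorem D9646 : act 6 n6657 = n9646 := rfl
theorem F43193 : act 3 n9646 = n6659 := d26_1 D9646 (iv D6659) (iv F30456)
def n9647 : Q := act 8 n6657
theorem D9647 : act 8 n6657 = n9647 := rfl
theorem F43196 : act 1 n9647 = n6662 := d15_1 D9647 (iv D6662) (iv F30455)
def n9649 : Q := act 7 n6659
theorem D9649 : act 7 n6659 = n9649 := rfl
theorem F43206 : act 1 n9649 = n6664 := d14_1 D9649 (iv D6664) (iv F30464)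
theorem F43207 : act 2 n9649 = n9649 := d21_1 D9649 (iv D9649) F30465
theorem F43208 : act 4 n9649 = n9649 := d32_1 D9649 (iv D9649) F30466
theorem F43209 : act 5 n9649 = n9649 := d36_1 D9649 (iv D9649) F30467
theorem F43210 : act 6 n9649 = n9649 := d39_1 D9649 (iv D9649) (iv D6659) F21565 D6659
theorem F43211 : act 8 n9649 = n9649 := d42_2 F30468 D9649 (iv D9649)
theorem F43212 : act 9 n9649 = n9649 := d43_2 F30469 D9649 (iv D9649)
def n9650 : Q := act 6 n6660
theorem D9650 : act 6 n6660 = n9650 := rfl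
theorem F43213 : act 0 n9650 = n9650 := d5_1 D9650 (iv D9650) F30470
theorem F43214 : act 2 n9650 = n6676 := d20_1 D9650 (iv D6676) (iv F30471)
theorem F43215 : act 3 n9650 = n9650 := d26_1 D9650 (iv D9650) F30472
theorem F43216 : act 4 n9650 = n6661 := d31_1 D9650 (iv D6661) D6660
theorem F43217 : act 9 n9650 = n9650 := d41_2 F30475 D9650 (iv D9650)
def n9651 : Q := act 8 n6660
theorem D9651 : act 8 n6660 = n9651 := rfl
theorem F43218 : act 0 n9651 = n9651 := d7_1 D9651 (iv D9651) F30470
theorem F43219 : act 2 n9651 = n6677 := d22_1 D9651 (iv D6677) (iv F30471)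
def n9652 : Q := act 7 n6661
theorem D9652 : act 7 n6661 = n9652 := rfl
theorem F43223 : act 0 n9652 = n9652 := d6_1 D9652 (iv D9652) F30476
theorem F43224 : act 2 n9652 = n6678 := d21_1 D9652 (iv D6678) (iv F30477)
theorem F43225 : act 3 n9652 = n6664 := d27_1 D9652 (iv D6664) (iv F30478)
theorem F43226 : act 5 n9652 = n9652 := d36_1 D9652 (iv D9652) F30479
theorem F43227 : act 6 n9652 = n9652 := d39_1 D9652 (iv D9652) (iv D6661) F21571 D6661
theorem F43228 : act 9 n9652 = n9652 := d43_2 F30480 D9652 (iv D9652)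
def n9655 : Q := act 1 n6665
theorem D9655 : act 1 n6665 = n9655 := rfl
def n9656 : Q := act 5 n6665
theorem D9656 : act 5 n6665 = n9656 := rfl
theorem F43246 : act 0 n9656 = n6669 := d4_1 D9656 (iv D6669) (iv F30500)
theorem F43247 : act 2 n9656 = n6666 := d19_1 D9656 (iv D6666) D6665
def n9658 : Q := act 4 n6666
theorem D9658 : act 4 n6666 = n9658 := rfl
theorem F43256 : act 0 n9658 = n6671 := d3_1 D9658 (iv D6671) (iv F30506)
def n9659 : Q := act 6 n6666
theorem D9659 : act 6 n6666 = n9659 := rfl
theorem F43263 : act 3 n9659 = n6668 := d26_1 D9659 (iv D6668) (iv F30508)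
def n9660 : Q := act 8 n6666
theorem D9660 : act 8 n6666 = n9660 := rfl
theorem F43268 : act 3 n9660 = n6686 := d28_1 D9660 (iv D6686) F21656 (iv F21603) (iv F30508)
def n9662 : Q := act 7 n6668
theorem D9662 : act 7 n6668 = n9662 := rfl
theorem F43278 : act 0 n9662 = n6675 := d6_1 D9662 (iv D6675) (iv F30517)
theorem F43279 : act 1 n9662 = n9662 := d14_1 D9662 (iv D9662) F30518
theorem F43280 : act 2 n9662 = n9662 := d21_1 D9662 (iv D9662) F30519
theorem F43281 : act 5 n9662 = n9662 := d36_1 D9662 (iv D9662) F30520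
theorem F43282 : act 6 n9662 = n9662 := d39_1 D9662 (iv D9662) (iv D6668) F21602 D6668
theorem F43283 : act 8 n9662 = n6688 := d42_2 (iv F30521) D9662 (iv D6688)
theorem F43284 : act 9 n9662 = n9662 := d43_2 F30522 D9662 (iv D9662)
def n9663 : Q := act 4 n6669
theorem D9663 : act 4 n6669 = n9663 := rfl
theorem F43285 : act 2 n9663 = n6671 := d18_1 D9663 (iv D6671) (iv F30523)
def n9664 : Q := act 6 n6669
theorem D9664 : act 6 n6669 = n9664 := rfl
theorem F43289 : act 2 n9664 = n6672 := d20_1 D9664 (iv D6672) (iv F30523)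
theorem F43291 : act 5 n9664 = n9664 := d35_1 D9664 (iv D9664) (iv D6669) F21607 D6669
def n9665 : Q := act 8 n6669
theorem D9665 : act 8 n6669 = n9665 := rfl
theorem F43293 : act 2 n9665 = n6673 := d22_1 D9665 (iv D6673) (iv F30523)
def n9668 : Q := act 6 n6671
theorem D9668 : act 6 n6671 = n9668 := rfl
theorem F43305 : act 1 n9668 = n6676 := d13_1 D9668 (iv D6676) (iv F30531)
theorem F43306 : act 4 n9668 = n6672 := d31_1 D9668 (iv D6672) D6671
theorem F43307 : act 9 n9668 = n9668 := d41_2 F30534 D9668 (iv D9668)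
def n9669 : Q := act 8 n6671
theorem D9669 : act 8 n6671 = n9669 := rfl
theorem F43308 : act 1 n9669 = n6677 := d15_1 D9669 (iv D6677) (iv F30531)
theorem F43309 : act 4 n9669 = n6673 := d33_1 D9669 (iv D6673) D6671
def n9670 : Q := act 7 n6672
theorem D9670 : act 7 n6672 = n9670 := rfl
theorem F43312 : act 1 n9670 = n6678 := d14_1 D9670 (iv D6678) (iv F30535)
theorem F43313 : act 3 n9670 = n6675 := d27_1 D9670 (iv D6675) (iv F30536)
theorem F43314 : act 5 n9670 = n9670 := d36_1 D9670 (iv D9670) F30537
theorem F43315 : act 6 n9670 = n9670 := d39_1 D9670 (iv D9670) (iv D6672) F21612 D6672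
theorem F43316 : act 9 n9670 = n9670 := d43_2 F30538 D9670 (iv D9670)
def n9671 : Q := act 8 n6672
theorem D9671 : act 8 n6672 = n9671 := rfl
theorem F43317 : act 1 n9671 = n6679 := d15_1 D9671 (iv D6679) (iv F30535)
def n9672 : Q := act 9 n6673
theorem D9672 : act 9 n6673 = n9672 := rfl
theorem F43322 : act 3 n9672 = n6698 := d29_1 D9672 (iv D6698) (iv F30540)
def n9673 : Q := act 5 n6676
theorem D9673 : act 5 n6676 = n9673 := rfl
theorem F43326 : act 0 n9673 = n9673 := d4_1 D9673 (iv D9673) F30555
theorem F43327 : act 4 n9673 = n9673 := d30_1 D9673 (iv D9673) F30556 F21630 (iv F30556)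
theorem F43328 : act 6 n9673 = n9673 := d35_2 D6676 D9673 (iv D9673) (iv D6676) F21625
theorem F43329 : act 9 n9673 = n9673 := d38_2 F30557 D9673 (iv D9673)
def n9674 : Q := act 7 n6676
theorem D9674 : act 7 n6676 = n9674 := rfl
theorem F43330 : act 0 n9674 = n9674 := d6_1 D9674 (iv D9674) F30555
theorem F43331 : act 4 n9674 = n6678 := d32_1 D9674 (iv D6678) (iv F30556)
theorem F43332 : act 6 n9674 = n9674 := d39_1 D9674 (iv D9674) (iv D6676) F21626 D6676
theorem F43333 : act 9 n9674 = n9674 := d43_2 F30557 D9674 (iv D9674)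
def n9675 : Q := act 8 n6676
theorem D9675 : act 8 n6676 = n9675 := rfl
theorem F43334 : act 0 n9675 = n9675 := d7_1 D9675 (iv D9675) F30555
theorem F43335 : act 4 n9675 = n6679 := d33_1 D9675 (iv D6679) (iv F30556)
theorem F43336 : act 6 n9675 = n6677 := d40_1 D9675 (iv D6677) D6676
def n9676 : Q := act 3 n6677
theorem D9676 : act 3 n6677 = n9676 := rfl
theorem F43337 : act 0 n9676 = n9676 := d2_1 D9676 (iv D9676) F30558
theorem F43338 : act 4 n9676 = n6702 := d24_2 (iv F30559) D9676 (iv D6702) F21706 (iv F21633)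
theorem F43339 : act 5 n9676 = n9676 := d25_2 F30560 D9676 (iv D9676)
theorem F43340 : act 7 n9676 = n9676 := d27_2 F30561 D9676 (iv D9676)
def n9677 : Q := act 9 n6677
theorem D9677 : act 9 n6677 = n9677 := rfl
theorem F43342 : act 4 n9677 = n6680 := d34_1 D9677 (iv D6680) (iv F30559)
def n9678 : Q := act 8 n6678
theorem D9678 : act 8 n6678 = n9678 := rfl
theorem F43346 : act 0 n9678 = n9678 := d7_1 D9678 (iv D9678) F30562
theorem F43347 : act 3 n9678 = n6704 := d28_1 D9678 (iv D6704) F21711 (iv F21646) (iv F30563)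
theorem F43348 : act 5 n9678 = n9678 := d37_1 D9678 (iv D9678) F30564
theorem F43349 : act 6 n9678 = n9678 := d40_1 D9678 (iv D9678) F30565
theorem F43350 : act 7 n9678 = n6679 := d42_1 D9678 (iv D6679) D6678
def n9679 : Q := act 9 n6679
theorem D9679 : act 9 n6679 = n9679 := rfl
def n9680 : Q := act 5 n6681
theorem D9680 : act 5 n6681 = n9680 := rfl
theorem F43357 : act 1 n9680 = n6682 := d12_1 D9680 (iv D6682) D6681
def n9681 : Q := act 8 n6681
theorem D9681 : act 8 n6681 = n9681 := rfl
theorem F43365 : act 4 n9681 = n7035 := d33_1 D9681 (iv D7035) (iv F30579)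
def n9682 : Q := act 4 n6682
theorem D9682 : act 4 n6682 = n9682 := rfl
theorem F43368 : act 0 n9682 = n6689 := d3_1 D9682 (iv D6689) (iv F30583)
theorem F43369 : act 2 n9682 = n6684 := d18_1 D9682 (iv D6684) (iv F30584)
theorem F43370 : act 5 n9682 = n7036 := d30_2 D6682 D9682 (iv D7036) (iv D4858) (iv F21650)
theorem F43372 : act 9 n9682 = n6708 := d34_2 (iv F30587) D9682 (iv D6708)
def n9683 : Q := act 6 n6682
theorem D9683 : act 6 n6682 = n9683 := rfl
theorem F43373 : act 0 n9683 = n6690 := d5_1 D9683 (iv D6690) (iv F30583)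
theorem F43374 : act 2 n9683 = n6685 := d20_1 D9683 (iv D6685) (iv F30584)
theorem F43377 : act 9 n9683 = n6709 := d41_2 (iv F30587) D9683 (iv D6709)
def n9684 : Q := act 8 n6682
theorem D9684 : act 8 n6682 = n9684 := rfl
theorem F43379 : act 2 n9684 = n6686 := d22_1 D9684 (iv D6686) (iv F30584)
theorem F43380 : act 5 n9684 = n6683 := d37_1 D9684 (iv D6683) D6682
def n9685 : Q := act 3 n6683
theorem D9685 : act 3 n6683 = n9685 := rfl
def n9686 : Q := act 9 n6683
theorem D9686 : act 9 n6683 = n9686 := rfl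
theorem F43391 : act 8 n9686 = n6712 := d44_1 D9686 (iv D6712) (iv D4640) (iv F21653) D6683
def n9687 : Q := act 6 n6684
theorem D9687 : act 6 n6684 = n9687 := rfl
theorem F43392 : act 0 n9687 = n6694 := d5_1 D9687 (iv D6694) (iv F30593)
theorem F43393 : act 1 n9687 = n9687 := d13_1 D9687 (iv D9687) F30594
theorem F43394 : act 4 n9687 = n6685 := d31_1 D9687 (iv D6685) D6684
theorem F43395 : act 9 n9687 = n6713 := d41_2 (iv F30597) D9687 (iv D6713)
def n9688 : Q := act 8 n6684
theorem D9688 : act 8 n6684 = n9688 := rfl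
theorem F43398 : act 4 n9688 = n6686 := d33_1 D9688 (iv D6686) D6684
def n9689 : Q := act 7 n6685
theorem D9689 : act 7 n6685 = n9689 := rfl
theorem F43401 : act 0 n9689 = n6696 := d6_1 D9689 (iv D6696) (iv F30598)
theorem F43402 : act 1 n9689 = n9689 := d14_1 D9689 (iv D9689) F30599
theorem F43403 : act 3 n9689 = n6688 := d27_1 D9689 (iv D6688) (iv F30600)
theorem F43404 : act 5 n9689 = n9689 := d36_1 D9689 (iv D9689) F30601
theorem F43405 : act 6 n9689 = n9689 := d39_1 D9689 (iv D9689) (iv D6685) F21657 D6685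
theorem F43406 : act 9 n9689 = n6715 := d43_2 (iv F30602) D9689 (iv D6715)
def n9690 : Q := act 8 n6685
theorem D9690 : act 8 n6685 = n9690 := rfl
def n9691 : Q := act 9 n6686
theorem D9691 : act 9 n6686 = n9691 := rfl
theorem F43415 : act 8 n9691 = n6717 := d44_1 D9691 (iv D6717) (iv D4643) (iv F21658) D6686
def n9692 : Q := act 3 n6689
theorem D9692 : act 3 n6689 = n9692 := rfl
theorem F43416 : act 1 n9692 = n9692 := d10_1 D9692 (iv D9692) F30619
theorem F43417 : act 4 n9692 = n9692 := d24_2 D6689 D9692 (iv D9692) (iv D6689) F21671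
theorem F43418 : act 5 n9692 = n7046 := d25_2 (iv F30621) D9692 (iv D7046)
theorem F43419 : act 7 n9692 = n9692 := d27_2 F30622 D9692 (iv D9692)
theorem F43420 : act 9 n9692 = n6718 := d29_2 (iv F30623) D9692 (iv D6718)
def n9693 : Q := act 6 n6689
theorem D9693 : act 6 n6689 = n9693 := rfl
theorem F43421 : act 1 n9693 = n9693 := d13_1 D9693 (iv D9693) F30619
theorem F43422 : act 2 n9693 = n6694 := d20_1 D9693 (iv D6694) (iv F30620)
theorem F43423 : act 4 n9693 = n6690 := d31_1 D9693 (iv D6690) D6689
theorem F43424 : act 9 n9693 = n6719 := d41_2 (iv F30623) D9693 (iv D6719)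
def n9694 : Q := act 8 n6689
theorem D9694 : act 8 n6689 = n9694 := rfl
theorem F43426 : act 2 n9694 = n6695 := d22_1 D9694 (iv D6695) (iv F30620)
theorem F43427 : act 4 n9694 = n6691 := d33_1 D9694 (iv D6691) D6689
theorem F43428 : act 5 n9694 = n7048 := d37_1 D9694 (iv D7048) (iv F30621)
def n9695 : Q := act 7 n6690
theorem D9695 : act 7 n6690 = n9695 := rfl
theorem F43430 : act 1 n9695 = n9695 := d14_1 D9695 (iv D9695) F30624
theorem F43431 : act 2 n9695 = n6696 := d21_1 D9695 (iv D6696) (iv F30625)
theorem F43432 : act 3 n9695 = n9695 := d27_1 D9695 (iv D9695) F30626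
theorem F43433 : act 5 n9695 = n9695 := d36_1 D9695 (iv D9695) F30627
theorem F43434 : act 6 n9695 = n9695 := d39_1 D9695 (iv D9695) (iv D6690) F21672 D6690
theorem F43435 : act 9 n9695 = n6721 := d43_2 (iv F30628) D9695 (iv D6721)
def n9696 : Q := act 8 n6690
theorem D9696 : act 8 n6690 = n9696 := rfl
theorem F43437 : act 2 n9696 = n6697 := d22_1 D9696 (iv D6697) (iv F30625)
theorem F43439 : act 6 n9696 = n6691 := d40_1 D9696 (iv D6691) D6690
def n9697 : Q := act 3 n6691
theorem D9697 : act 3 n6691 = n9697 := rfl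
theorem F43441 : act 5 n9697 = n6692 := d25_2 (iv F30631) D9697 (iv D6692)
def n9698 : Q := act 9 n6691
theorem D9698 : act 9 n6691 = n9698 := rfl
theorem F43445 : act 2 n9698 = n6698 := d23_1 D9698 (iv D6698) (iv F30630)
theorem F43446 : act 5 n9698 = n6693 := d38_1 D9698 (iv D6693) (iv F30631)
theorem F43448 : act 8 n9698 = n6724 := d44_1 D9698 (iv D6724) (iv D4648) (iv F21673) D6691
def n9699 : Q := act 4 n6692
theorem D9699 : act 4 n6692 = n9699 := rfl
theorem F43450 : act 3 n9699 = n7053 := d24_1 D9699 (iv D7053) (iv D4868) (iv F21676) D6692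
def n9701 : Q := act 5 n6694
theorem D9701 : act 5 n6694 = n9701 := rfl
theorem F43458 : act 1 n9701 = n6699 := d12_1 D9701 (iv D6699) (iv F30643)
theorem F43459 : act 4 n9701 = n9701 := d30_1 D9701 (iv D9701) F30644 F21685 (iv F30644)
theorem F43460 : act 6 n9701 = n7055 := d35_2 D6694 D9701 (iv D7055) (iv D4870) (iv F21680)
theorem F43461 : act 9 n9701 = n6726 := d38_2 (iv F30645) D9701 (iv D6726)
def n9702 : Q := act 7 n6694
theorem D9702 : act 7 n6694 = n9702 := rfl
theorem F43462 : act 1 n9702 = n6700 := d14_1 D9702 (iv D6700) (iv F30643)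
theorem F43463 : act 4 n9702 = n6696 := d32_1 D9702 (iv D6696) (iv F30644)
theorem F43464 : act 6 n9702 = n9702 := d39_1 D9702 (iv D9702) (iv D6694) F21681 D6694
theorem F43465 : act 9 n9702 = n6727 := d43_2 (iv F30645) D9702 (iv D6727)
def n9703 : Q := act 8 n6694
theorem D9703 : act 8 n6694 = n9703 := rfl
theorem F43466 : act 1 n9703 = n6701 := d15_1 D9703 (iv D6701) (iv F30643)
theorem F43467 : act 4 n9703 = n6697 := d33_1 D9703 (iv D6697) (iv F30644)
theorem F43468 : act 6 n9703 = n6695 := d40_1 D9703 (iv D6695) D6694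
def n9704 : Q := act 3 n6695
theorem D9704 : act 3 n6695 = n9704 := rfl
theorem F43469 : act 1 n9704 = n6702 := d10_1 D9704 (iv D6702) (iv F30646)
theorem F43470 : act 5 n9704 = n7058 := d25_2 (iv F30648) D9704 (iv D7058)
theorem F43471 : act 7 n9704 = n9704 := d27_2 F30649 D9704 (iv D9704)
def n9705 : Q := act 9 n6695
theorem D9705 : act 9 n6695 = n9705 := rfl
theorem F43472 : act 1 n9705 = n6703 := d16_1 D9705 (iv D6703) (iv F30646)
theorem F43476 : act 8 n9705 = n6730 := d44_1 D9705 (iv D6730) (iv D4652) (iv F21682) D6695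
def n9706 : Q := act 8 n6696
theorem D9706 : act 8 n6696 = n9706 := rfl
theorem F43477 : act 1 n9706 = n6704 := d15_1 D9706 (iv D6704) (iv F30650)
theorem F43478 : act 5 n9706 = n9706 := d37_1 D9706 (iv D9706) F30652
theorem F43479 : act 6 n9706 = n9706 := d40_1 D9706 (iv D9706) F30653
theorem F43480 : act 7 n9706 = n6697 := d42_1 D9706 (iv D6697) D6696
def n9707 : Q := act 9 n6697
theorem D9707 : act 9 n6697 = n9707 := rfl
theorem F43484 : act 8 n9707 = n6732 := d44_1 D9707 (iv D6732) (iv D4654) (iv F21686) D6697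
def n9708 : Q := act 7 n6699
theorem D9708 : act 7 n6699 = n9708 := rfl
theorem F43485 : act 0 n9708 = n9708 := d6_1 D9708 (iv D9708) F30662
theorem F43486 : act 2 n9708 = n9708 := d21_1 D9708 (iv D9708) F30663
theorem F43487 : act 4 n9708 = n9708 := d32_1 D9708 (iv D9708) F30664
theorem F43488 : act 5 n9708 = n6700 := d36_1 D9708 (iv D6700) D6699
theorem F43489 : act 9 n9708 = n6733 := d43_2 (iv F30666) D9708 (iv D6733)
def n9709 : Q := act 8 n6699
theorem D9709 : act 8 n6699 = n9709 := rfl
theorem F43490 : act 0 n9709 = n9709 := d7_1 D9709 (iv D9709) F30662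
theorem F43491 : act 2 n9709 = n9709 := d22_1 D9709 (iv D9709) F30663
theorem F43492 : act 4 n9709 = n9709 := d33_1 D9709 (iv D9709) F30664
theorem F43493 : act 5 n9709 = n6701 := d37_1 D9709 (iv D6701) D6699
theorem F43494 : act 6 n9709 = n7063 := d40_1 D9709 (iv D7063) (iv F30665)
def n9710 : Q := act 8 n6700
theorem D9710 : act 8 n6700 = n9710 := rfl
theorem F43495 : act 0 n9710 = n9710 := d7_1 D9710 (iv D9710) F30667
theorem F43496 : act 2 n9710 = n9710 := d22_1 D9710 (iv D9710) F30668
theorem F43497 : act 4 n9710 = n6704 := d33_1 D9710 (iv D6704) (iv F30669)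
theorem F43498 : act 6 n9710 = n9710 := d40_1 D9710 (iv D9710) F30670
theorem F43499 : act 7 n9710 = n6701 := d42_1 D9710 (iv D6701) D6700
def n9711 : Q := act 3 n6701
theorem D9711 : act 3 n6701 = n9711 := rfl
theorem F43500 : act 0 n9711 = n9711 := d2_1 D9711 (iv D9711) F30672
theorem F43501 : act 6 n9711 = n6702 := d26_2 (iv F30675) D9711 (iv D6702)
def n9712 : Q := act 9 n6701
theorem D9712 : act 9 n6701 = n9712 := rfl
theorem F43502 : act 0 n9712 = n9712 := d8_1 D9712 (iv D9712) F30672
theorem F43503 : act 2 n9712 = n9712 := d23_1 D9712 (iv D9712) F30673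
theorem F43504 : act 4 n9712 = n6705 := d34_1 D9712 (iv D6705) (iv F30674)
theorem F43505 : act 6 n9712 = n6703 := d41_1 D9712 (iv D6703) (iv F30675)
theorem F43506 : act 8 n9712 = n6737 := d44_1 D9712 (iv D6737) (iv D4658) (iv F21703) D6701
def n9713 : Q := act 2 n6702
theorem D9713 : act 2 n6702 = n9713 := rfl
theorem F43507 : act 0 n9713 = n9713 := d1_1 D9713 (iv D9713) F30676
theorem F43508 : act 3 n9713 = n9713 := d17_2 D6702 D9713 (iv D9713) (iv D6702) F21705
theorem F43509 : act 5 n9713 = n7067 := d19_2 (iv F30677) D9713 (iv D7067)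
theorem F43510 : act 7 n9713 = n9713 := d21_2 F30678 D9713 (iv D9713)
def n9714 : Q := act 9 n6702
theorem D9714 : act 9 n6702 = n9714 := rfl
theorem F43511 : act 0 n9714 = n9714 := d8_1 D9714 (iv D9714) F30676
theorem F43512 : act 3 n9714 = n6703 := d29_1 D9714 (iv D6703) D6702
theorem F43513 : act 5 n9714 = n7068 := d38_1 D9714 (iv D7068) (iv F30677)
theorem F43514 : act 7 n9714 = n9714 := d43_1 D9714 (iv D9714) F30678
def n9715 : Q := act 9 n6704
theorem D9715 : act 9 n6704 = n9715 := rfl
theorem F43515 : act 0 n9715 = n9715 := d8_1 D9715 (iv D9715) F30685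
theorem F43516 : act 2 n9715 = n9715 := d23_1 D9715 (iv D9715) F30686
theorem F43517 : act 5 n9715 = n9715 := d38_1 D9715 (iv D9715) F30687
theorem F43518 : act 6 n9715 = n9715 := d41_1 D9715 (iv D9715) F30688
theorem F43519 : act 7 n9715 = n6705 := d43_1 D9715 (iv D6705) (iv F30689)
theorem F43520 : act 8 n9715 = n6740 := d44_1 D9715 (iv D6740) (iv D4661) (iv F21714) D6704
def n9721 : Q := act 3 n6708
theorem D9721 : act 3 n6708 = n9721 := rfl
theorem F43548 : act 0 n9721 = n6718 := d2_1 D9721 (iv D6718) (iv F30706)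
theorem F43549 : act 4 n9721 = n9721 := d24_2 D6708 D9721 (iv D9721) (iv D6708) F21732
theorem F43550 : act 5 n9721 = n7074 := d25_2 (iv F30708) D9721 (iv D7074)
theorem F43551 : act 7 n9721 = n9721 := d27_2 F30709 D9721 (iv D9721)
def n9722 : Q := act 6 n6708
theorem D9722 : act 6 n6708 = n9722 := rfl
theorem F43552 : act 0 n9722 = n6719 := d5_1 D9722 (iv D6719) (iv F30706)
theorem F43553 : act 2 n9722 = n6713 := d20_1 D9722 (iv D6713) (iv F30707)
theorem F43554 : act 4 n9722 = n6709 := d31_1 D9722 (iv D6709) D6708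
def n9723 : Q := act 8 n6708
theorem D9723 : act 8 n6708 = n9723 := rfl
def n9724 : Q := act 7 n6709
theorem D9724 : act 7 n6709 = n9724 := rfl
theorem F43560 : act 0 n9724 = n6721 := d6_1 D9724 (iv D6721) (iv F30710)
theorem F43561 : act 2 n9724 = n6715 := d21_1 D9724 (iv D6715) (iv F30711)
theorem F43562 : act 3 n9724 = n9724 := d27_1 D9724 (iv D9724) F30712
theorem F43563 : act 5 n9724 = n9724 := d36_1 D9724 (iv D9724) F30713
theorem F43564 : act 6 n9724 = n9724 := d39_1 D9724 (iv D9724) (iv D6709) F21733 D6709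
def n9725 : Q := act 8 n6709
theorem D9725 : act 8 n6709 = n9725 := rfl
def n9727 : Q := act 9 n6710
theorem D9727 : act 9 n6710 = n9727 := rfl
def n9729 : Q := act 5 n6713
theorem D9729 : act 5 n6713 = n9729 := rfl
theorem F43584 : act 0 n9729 = n6726 := d4_1 D9729 (iv D6726) (iv F30729)
theorem F43585 : act 1 n9729 = n9729 := d12_1 D9729 (iv D9729) F30730
theorem F43586 : act 4 n9729 = n9729 := d30_1 D9729 (iv D9729) F30731 F21746 (iv F30731)
theorem F43587 : act 6 n9729 = n7080 := d35_2 D6713 D9729 (iv D7080) (iv D4888) (iv F21741)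
def n9730 : Q := act 7 n6713
theorem D9730 : act 7 n6713 = n9730 := rfl
theorem F43588 : act 0 n9730 = n6727 := d6_1 D9730 (iv D6727) (iv F30729)
theorem F43589 : act 1 n9730 = n9730 := d14_1 D9730 (iv D9730) F30730
theorem F43590 : act 4 n9730 = n6715 := d32_1 D9730 (iv D6715) (iv F30731)
theorem F43591 : act 6 n9730 = n9730 := d39_1 D9730 (iv D9730) (iv D6713) F21742 D6713
def n9731 : Q := act 8 n6713
theorem D9731 : act 8 n6713 = n9731 := rfl
theorem F43592 : act 0 n9731 = n6728 := d7_1 D9731 (iv D6728) (iv F30729)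
theorem F43593 : act 1 n9731 = n9731 := d15_1 D9731 (iv D9731) F30730
theorem F43594 : act 4 n9731 = n6716 := d33_1 D9731 (iv D6716) (iv F30731)
theorem F43595 : act 6 n9731 = n6714 := d40_1 D9731 (iv D6714) D6713
def n9732 : Q := act 3 n6714
theorem D9732 : act 3 n6714 = n9732 := rfl
theorem F43596 : act 0 n9732 = n6729 := d2_1 D9732 (iv D6729) (iv F30732)
theorem F43597 : act 1 n9732 = n9732 := d10_1 D9732 (iv D9732) F30733
theorem F43598 : act 4 n9732 = n9732 := d24_2 (iv F30734) D9732 (iv D9732) F30734 F21749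
theorem F43599 : act 5 n9732 = n7083 := d25_2 (iv F30735) D9732 (iv D7083)
theorem F43600 : act 7 n9732 = n9732 := d27_2 F30736 D9732 (iv D9732)
def n9734 : Q := act 8 n6715
theorem D9734 : act 8 n6715 = n9734 := rfl
theorem F43606 : act 0 n9734 = n6731 := d7_1 D9734 (iv D6731) (iv F30737)
theorem F43607 : act 1 n9734 = n9734 := d15_1 D9734 (iv D9734) F30738
theorem F43608 : act 3 n9734 = n9734 := d28_1 D9734 (iv D9734) F30739 F21763 (iv F30739)
theorem F43609 : act 5 n9734 = n9734 := d37_1 D9734 (iv D9734) F30740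
theorem F43610 : act 6 n9734 = n9734 := d40_1 D9734 (iv D9734) F30741
theorem F43611 : act 7 n9734 = n6716 := d42_1 D9734 (iv D6716) D6715
def n9735 : Q := act 9 n6716
theorem D9735 : act 9 n6716 = n9735 := rfl
def n9736 : Q := act 6 n6718
theorem D9736 : act 6 n6718 = n9736 := rfl
theorem F43617 : act 1 n9736 = n9736 := d13_1 D9736 (iv D9736) F30752
theorem F43618 : act 3 n9736 = n6719 := d26_1 D9736 (iv D6719) D6718
theorem F43619 : act 4 n9736 = n9736 := d31_1 D9736 (iv D9736) F30753
def n9737 : Q := act 8 n6718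
theorem D9737 : act 8 n6718 = n9737 := rfl
theorem F43620 : act 1 n9737 = n9737 := d15_1 D9737 (iv D9737) F30752
theorem F43621 : act 4 n9737 = n9737 := d33_1 D9737 (iv D9737) F30753
theorem F43622 : act 5 n9737 = n7088 := d37_1 D9737 (iv D7088) (iv F30754)
theorem F43623 : act 7 n9737 = n9737 := d42_1 D9737 (iv D9737) F30755
def n9738 : Q := act 5 n6719
theorem D9738 : act 5 n6719 = n9738 := rfl
theorem F43624 : act 1 n9738 = n9738 := d12_1 D9738 (iv D9738) F30756
theorem F43625 : act 2 n9738 = n6726 := d19_1 D9738 (iv D6726) (iv F30757)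
theorem F43626 : act 4 n9738 = n9738 := d30_1 D9738 (iv D9738) F30758 F21771 (iv F30758)
theorem F43627 : act 6 n9738 = n7089 := d35_2 D6719 D9738 (iv D7089) (iv D4894) (iv F21766)
def n9739 : Q := act 7 n6719
theorem D9739 : act 7 n6719 = n9739 := rfl
theorem F43628 : act 1 n9739 = n9739 := d14_1 D9739 (iv D9739) F30756
theorem F43629 : act 2 n9739 = n6727 := d21_1 D9739 (iv D6727) (iv F30757)
theorem F43630 : act 4 n9739 = n6721 := d32_1 D9739 (iv D6721) (iv F30758)
theorem F43631 : act 6 n9739 = n9739 := d39_1 D9739 (iv D9739) (iv D6719) F21767 D6719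
def n9740 : Q := act 8 n6719
theorem D9740 : act 8 n6719 = n9740 := rfl
theorem F43632 : act 1 n9740 = n9740 := d15_1 D9740 (iv D9740) F30756
theorem F43633 : act 2 n9740 = n6728 := d22_1 D9740 (iv D6728) (iv F30757)
theorem F43634 : act 4 n9740 = n6722 := d33_1 D9740 (iv D6722) (iv F30758)
theorem F43635 : act 6 n9740 = n6720 := d40_1 D9740 (iv D6720) D6719
def n9741 : Q := act 3 n6720
theorem D9741 : act 3 n6720 = n9741 := rfl
theorem F43636 : act 1 n9741 = n9741 := d10_1 D9741 (iv D9741) F30759
theorem F43637 : act 5 n9741 = n7092 := d25_2 (iv F30762) D9741 (iv D7092)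
theorem F43638 : act 7 n9741 = n9741 := d27_2 F30763 D9741 (iv D9741)
def n9742 : Q := act 9 n6720
theorem D9742 : act 9 n6720 = n9742 := rfl
def n9743 : Q := act 8 n6721
theorem D9743 : act 8 n6721 = n9743 := rfl
theorem F43644 : act 1 n9743 = n9743 := d15_1 D9743 (iv D9743) F30764
theorem F43645 : act 2 n9743 = n6731 := d22_1 D9743 (iv D6731) (iv F30765)
theorem F43646 : act 5 n9743 = n9743 := d37_1 D9743 (iv D9743) F30767
theorem F43647 : act 6 n9743 = n9743 := d40_1 D9743 (iv D9743) F30768
theorem F43648 : act 7 n9743 = n6722 := d42_1 D9743 (iv D6722) D6721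
def n9744 : Q := act 3 n6722
theorem D9744 : act 3 n6722 = n9744 := rfl
def n9745 : Q := act 9 n6722
theorem D9745 : act 9 n6722 = n9745 := rfl
def n9747 : Q := act 9 n6723
theorem D9747 : act 9 n6723 = n9747 := rfl
theorem F43665 : act 3 n9747 = n6724 := d29_1 D9747 (iv D6724) D6723
theorem F43666 : act 5 n9747 = n6725 := d38_1 D9747 (iv D6725) (iv F30775)
def n9748 : Q := act 8 n6725
theorem D9748 : act 8 n6725 = n9748 := rfl
def n9749 : Q := act 7 n6726
theorem D9749 : act 7 n6726 = n9749 := rfl
theorem F43674 : act 1 n9749 = n6733 := d14_1 D9749 (iv D6733) (iv F30788)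
theorem F43675 : act 4 n9749 = n9749 := d32_1 D9749 (iv D9749) F30789
theorem F43676 : act 5 n9749 = n6727 := d36_1 D9749 (iv D6727) D6726
def n9750 : Q := act 8 n6726
theorem D9750 : act 8 n6726 = n9750 := rfl
theorem F43677 : act 1 n9750 = n6734 := d15_1 D9750 (iv D6734) (iv F30788)
theorem F43678 : act 4 n9750 = n9750 := d33_1 D9750 (iv D9750) F30789
theorem F43679 : act 5 n9750 = n6728 := d37_1 D9750 (iv D6728) D6726
theorem F43680 : act 6 n9750 = n7097 := d40_1 D9750 (iv D7097) (iv F30790)
def n9751 : Q := act 8 n6727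
theorem D9751 : act 8 n6727 = n9751 := rfl
theorem F43681 : act 1 n9751 = n6735 := d15_1 D9751 (iv D6735) (iv F30791)
theorem F43682 : act 4 n9751 = n6731 := d33_1 D9751 (iv D6731) (iv F30792)
theorem F43683 : act 6 n9751 = n9751 := d40_1 D9751 (iv D9751) F30793
theorem F43684 : act 7 n9751 = n6728 := d42_1 D9751 (iv D6728) D6727
def n9752 : Q := act 3 n6728
theorem D9752 : act 3 n6728 = n9752 := rfl
theorem F43685 : act 1 n9752 = n6736 := d10_1 D9752 (iv D6736) (iv F30794)
theorem F43686 : act 4 n9752 = n9752 := d24_2 (iv F30795) D9752 (iv D9752) F30795 F21798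
theorem F43687 : act 6 n9752 = n6729 := d26_2 (iv F30796) D9752 (iv D6729)
def n9753 : Q := act 9 n6728
theorem D9753 : act 9 n6728 = n9753 := rfl
theorem F43688 : act 1 n9753 = n6737 := d16_1 D9753 (iv D6737) (iv F30794)
theorem F43689 : act 4 n9753 = n6732 := d34_1 D9753 (iv D6732) (iv F30795)
theorem F43690 : act 6 n9753 = n6730 := d41_1 D9753 (iv D6730) (iv F30796)
def n9754 : Q := act 2 n6729
theorem D9754 : act 2 n6729 = n9754 := rfl
theorem F43691 : act 4 n9754 = n9754 := d18_2 F30798 D9754 (iv D9754)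
theorem F43692 : act 5 n9754 = n7101 := d19_2 (iv F30799) D9754 (iv D7101)
theorem F43693 : act 7 n9754 = n9754 := d21_2 F30800 D9754 (iv D9754)
def n9755 : Q := act 9 n6729
theorem D9755 : act 9 n6729 = n9755 := rfl
theorem F43694 : act 1 n9755 = n6739 := d16_1 D9755 (iv D6739) (iv F30797)
theorem F43695 : act 3 n9755 = n6730 := d29_1 D9755 (iv D6730) D6729
theorem F43696 : act 4 n9755 = n9755 := d34_1 D9755 (iv D9755) F30798
theorem F43697 : act 5 n9755 = n7102 := d38_1 D9755 (iv D7102) (iv F30799)
theorem F43698 : act 7 n9755 = n9755 := d43_1 D9755 (iv D9755) F30800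
def n9756 : Q := act 9 n6731
theorem D9756 : act 9 n6731 = n9756 := rfl
theorem F43699 : act 1 n9756 = n6740 := d16_1 D9756 (iv D6740) (iv F30805)
theorem F43700 : act 3 n9756 = n9756 := d29_1 D9756 (iv D9756) F30806
theorem F43701 : act 5 n9756 = n9756 := d38_1 D9756 (iv D9756) F30807
theorem F43702 : act 6 n9756 = n9756 := d41_1 D9756 (iv D9756) F30808
theorem F43703 : act 7 n9756 = n6732 := d43_1 D9756 (iv D6732) (iv F30809)
def n9757 : Q := act 6 n6733
theorem D9757 : act 6 n6733 = n9757 := rfl
theorem F43704 : act 0 n9757 = n9757 := d5_1 D9757 (iv D9757) F30814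
theorem F43705 : act 2 n9757 = n9757 := d20_1 D9757 (iv D9757) F30815
theorem F43706 : act 4 n9757 = n9757 := d31_1 D9757 (iv D9757) F30816
theorem F43707 : act 5 n9757 = n9757 := d35_1 D9757 (iv D9757) F30817 F21812 (iv F30817)
theorem F43708 : act 7 n9757 = n7104 := d39_2 D6733 D9757 (iv D7104) (iv D4906) (iv F21808)
def n9758 : Q := act 8 n6733
theorem D9758 : act 8 n6733 = n9758 := rfl
theorem F43709 : act 0 n9758 = n9758 := d7_1 D9758 (iv D9758) F30814
theorem F43710 : act 2 n9758 = n9758 := d22_1 D9758 (iv D9758) F30815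
theorem F43711 : act 4 n9758 = n9758 := d33_1 D9758 (iv D9758) F30816
theorem F43712 : act 5 n9758 = n6735 := d37_1 D9758 (iv D6735) (iv F30817)
theorem F43713 : act 7 n9758 = n6734 := d42_1 D9758 (iv D6734) D6733
def n9759 : Q := act 3 n6734
theorem D9759 : act 3 n6734 = n9759 := rfl
theorem F43714 : act 0 n9759 = n9759 := d2_1 D9759 (iv D9759) F30818
theorem F43715 : act 5 n9759 = n6736 := d25_2 (iv F30821) D9759 (iv D6736)
theorem F43716 : act 6 n9759 = n7106 := d26_2 (iv F30822) D9759 (iv D7106)
def n9760 : Q := act 9 n6734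
theorem D9760 : act 9 n6734 = n9760 := rfl
theorem F43717 : act 0 n9760 = n9760 := d8_1 D9760 (iv D9760) F30818
theorem F43718 : act 2 n9760 = n9760 := d23_1 D9760 (iv D9760) F30819
theorem F43719 : act 4 n9760 = n9760 := d34_1 D9760 (iv D9760) F30820
theorem F43720 : act 5 n9760 = n6737 := d38_1 D9760 (iv D6737) (iv F30821)
theorem F43721 : act 6 n9760 = n7107 := d41_1 D9760 (iv D7107) (iv F30822)
def n9761 : Q := act 3 n6735
theorem D9761 : act 3 n6735 = n9761 := rfl
theorem F43722 : act 0 n9761 = n9761 := d2_1 D9761 (iv D9761) F30823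
theorem F43723 : act 4 n9761 = n9761 := d24_2 (iv F30825) D9761 (iv D9761) F30825 F21828
theorem F43724 : act 6 n9761 = n9761 := d26_2 F30826 D9761 (iv D9761)
theorem F43725 : act 7 n9761 = n6736 := d27_2 (iv F30827) D9761 (iv D6736)
def n9762 : Q := act 9 n6735
theorem D9762 : act 9 n6735 = n9762 := rfl
theorem F43726 : act 0 n9762 = n9762 := d8_1 D9762 (iv D9762) F30823
theorem F43727 : act 2 n9762 = n9762 := d23_1 D9762 (iv D9762) F30824
theorem F43728 : act 4 n9762 = n6740 := d34_1 D9762 (iv D6740) (iv F30825)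
theorem F43729 : act 6 n9762 = n9762 := d41_1 D9762 (iv D9762) F30826
theorem F43730 : act 7 n9762 = n6737 := d43_1 D9762 (iv D6737) (iv F30827)
def n9763 : Q := act 2 n6736
theorem D9763 : act 2 n6736 = n9763 := rfl
theorem F43731 : act 0 n9763 = n9763 := d1_1 D9763 (iv D9763) F30828
theorem F43732 : act 3 n9763 = n9763 := d17_2 D6736 D9763 (iv D9763) (iv D6736) F21814
theorem F43733 : act 4 n9763 = n9763 := d18_2 F30829 D9763 (iv D9763)
theorem F43734 : act 6 n9763 = n6738 := d20_2 (iv F30830) D9763 (iv D6738)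
def n9764 : Q := act 9 n6736
theorem D9764 : act 9 n6736 = n9764 := rfl
theorem F43735 : act 0 n9764 = n9764 := d8_1 D9764 (iv D9764) F30828
theorem F43736 : act 3 n9764 = n6737 := d29_1 D9764 (iv D6737) D6736
theorem F43737 : act 4 n9764 = n9764 := d34_1 D9764 (iv D9764) F30829
theorem F43738 : act 6 n9764 = n6739 := d41_1 D9764 (iv D6739) (iv F30830)
def n9765 : Q := act 1 n6738
theorem D9765 : act 1 n6738 = n9765 := rfl
theorem F43739 : act 3 n9765 = n9765 := d10_2 F30836 D9765 (iv D9765)
theorem F43740 : act 4 n9765 = n9765 := d11_2 F30837 D9765 (iv D9765)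
theorem F43741 : act 5 n9765 = n7112 := d12_2 (iv F30838) D9765 (iv D7112)
theorem F43742 : act 7 n9765 = n9765 := d14_2 F30839 D9765 (iv D9765)
def n9766 : Q := act 9 n6738
theorem D9766 : act 9 n6738 = n9766 := rfl
theorem F43743 : act 0 n9766 = n9766 := d8_1 D9766 (iv D9766) F30835
theorem F43744 : act 2 n9766 = n6739 := d23_1 D9766 (iv D6739) D6738
theorem F43745 : act 3 n9766 = n9766 := d29_1 D9766 (iv D9766) F30836
theorem F43746 : act 4 n9766 = n9766 := d34_1 D9766 (iv D9766) F30837
theorem F43747 : act 5 n9766 = n7113 := d38_1 D9766 (iv D7113) (iv F30838)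
theorem F43748 : act 7 n9766 = n9766 := d43_1 D9766 (iv D9766) F30839
def n9767 : Q := act 8 n6739
theorem D9767 : act 8 n6739 = n9767 := rfl
theorem F43749 : act 0 n9767 = n9767 := d7_1 D9767 (iv D9767) F30840
theorem F43750 : act 4 n9767 = n9767 := d33_1 D9767 (iv D9767) F30842
theorem F43751 : act 5 n9767 = n7114 := d37_1 D9767 (iv D7114) (iv F30843)
theorem F43752 : act 7 n9767 = n9767 := d42_1 D9767 (iv D9767) F30844
def n9768 : Q := act 3 n6741
theorem D9768 : act 3 n6741 = n9768 := rfl
theorem F43753 : act 0 n9768 = n9768 := d2_1 D9768 (iv D9768) F30851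
theorem F43754 : act 1 n9768 = n7289 := d10_1 D9768 (iv D7289) (iv F30852)
theorem F43755 : act 5 n9768 = n6742 := d25_2 (iv F30855) D9768 (iv D6742)
theorem F43756 : act 6 n9768 = n9768 := d26_2 F30856 D9768 (iv D9768)
theorem F43757 : act 7 n9768 = n9768 := d27_2 F30857 D9768 (iv D9768)
theorem F43758 : act 8 n9768 = n9768 := d28_2 D6741 D9768 (iv D9768) (iv D6741) F21840
theorem F43759 : act 9 n9768 = n9768 := d29_2 F30858 D9768 (iv D9768)
def n9769 : Q := act 2 n6742
theorem D9769 : act 2 n6742 = n9769 := rfl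
theorem F43760 : act 0 n9769 = n9769 := d1_1 D9769 (iv D9769) F30859
theorem F43761 : act 3 n9769 = n9769 := d17_2 D6742 D9769 (iv D9769) (iv D6742) F21847
theorem F43762 : act 6 n9769 = n6753 := d20_2 (iv F30861) D9769 (iv D6753)
theorem F43763 : act 7 n9769 = n9769 := d21_2 F30862 D9769 (iv D9769)
theorem F43764 : act 8 n9769 = n9769 := d22_2 F30863 D9769 (iv D9769)
theorem F43765 : act 9 n9769 = n9769 := d23_2 F30864 D9769 (iv D9769)
def n9770 : Q := act 4 n6742
theorem D9770 : act 4 n6742 = n9770 := rfl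
theorem F43766 : act 0 n9770 = n9770 := d3_1 D9770 (iv D9770) F30859
theorem F43767 : act 1 n9770 = n7291 := d11_1 D9770 (iv D7291) (iv F30860)
theorem F43768 : act 3 n9770 = n6744 := d24_1 D9770 (iv D6744) (iv D4665) (iv F21848) D6742
theorem F43769 : act 6 n9770 = n6754 := d31_2 (iv F30861) D9770 (iv D6754)
theorem F43770 : act 7 n9770 = n9770 := d32_2 F30862 D9770 (iv D9770)
theorem F43771 : act 8 n9770 = n9770 := d33_2 F30863 D9770 (iv D9770)
theorem F43772 : act 9 n9770 = n9770 := d34_2 F30864 D9770 (iv D9770)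
def n9771 : Q := act 1 n6743
theorem D9771 : act 1 n6743 = n9771 := rfl
theorem F43776 : act 6 n9771 = n6755 := d13_2 (iv F30868) D9771 (iv D6755)
theorem F43778 : act 8 n9771 = n6745 := d15_2 (iv F30870) D9771 (iv D6745)
def n9772 : Q := act 4 n6743
theorem D9772 : act 4 n6743 = n9772 := rfl
theorem F43780 : act 0 n9772 = n9772 := d3_1 D9772 (iv D9772) F30865
theorem F43781 : act 2 n9772 = n6744 := d18_1 D9772 (iv D6744) D6743
theorem F43782 : act 6 n9772 = n6756 := d31_2 (iv F30868) D9772 (iv D6756)
theorem F43783 : act 7 n9772 = n9772 := d32_2 F30869 D9772 (iv D9772)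
theorem F43784 : act 8 n9772 = n6746 := d33_2 (iv F30870) D9772 (iv D6746)
theorem F43785 : act 9 n9772 = n9772 := d34_2 F30871 D9772 (iv D9772)
def n9773 : Q := act 5 n6744
theorem D9773 : act 5 n6744 = n9773 := rfl
theorem F43786 : act 0 n9773 = n9773 := d4_1 D9773 (iv D9773) F30872
theorem F43787 : act 1 n9773 = n7294 := d12_1 D9773 (iv D7294) (iv F30873)
theorem F43788 : act 4 n9773 = n9773 := d30_1 D9773 (iv D9773) (iv D6744) F21854 D6744
theorem F43789 : act 7 n9773 = n9773 := d36_2 F30875 D9773 (iv D9773)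
theorem F43790 : act 8 n9773 = n6747 := d37_2 (iv F30876) D9773 (iv D6747)
theorem F43791 : act 9 n9773 = n9773 := d38_2 F30877 D9773 (iv D9773)
def n9774 : Q := act 0 n6745
theorem D9774 : act 0 n6745 = n9774 := rfl
theorem F43795 : act 6 n9774 = n6758 := d5_2 (iv F30880) D9774 (iv D6758)
theorem F43797 : act 9 n9774 = n6748 := d8_2 (iv F30882) D9774 (iv D6748)
def n9775 : Q := act 4 n6745
theorem D9775 : act 4 n6745 = n9775 := rfl
theorem F43798 : act 1 n9775 = n6746 := d11_1 D9775 (iv D6746) D6745
theorem F43799 : act 2 n9775 = n7296 := d18_1 D9775 (iv D7296) (iv F30878)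
theorem F43800 : act 6 n9775 = n6759 := d31_2 (iv F30880) D9775 (iv D6759)
theorem F43801 : act 7 n9775 = n9775 := d32_2 F30881 D9775 (iv D9775)
theorem F43802 : act 9 n9775 = n6749 := d34_2 (iv F30882) D9775 (iv D6749)
def n9776 : Q := act 3 n6746
theorem D9776 : act 3 n6746 = n9776 := rfl
theorem F43803 : act 0 n9776 = n9776 := d2_1 D9776 (iv D9776) F30883
theorem F43804 : act 2 n9776 = n9776 := d17_1 D9776 (iv D9776) F30884 F21866 (iv F30884)
theorem F43805 : act 6 n9776 = n6760 := d26_2 (iv F30885) D9776 (iv D6760)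
theorem F43806 : act 7 n9776 = n9776 := d27_2 F30886 D9776 (iv D9776)
theorem F43807 : act 9 n9776 = n6750 := d29_2 (iv F30887) D9776 (iv D6750)
def n9777 : Q := act 5 n6746
theorem D9777 : act 5 n6746 = n9777 := rfl
theorem F43808 : act 0 n9777 = n9777 := d4_1 D9777 (iv D9777) F30883
theorem F43809 : act 2 n9777 = n6747 := d19_1 D9777 (iv D6747) (iv F30884)
theorem F43810 : act 4 n9777 = n9777 := d30_1 D9777 (iv D9777) (iv D6746) F21860 D6746
theorem F43811 : act 7 n9777 = n9777 := d36_2 F30886 D9777 (iv D9777)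
theorem F43812 : act 9 n9777 = n6751 := d38_2 (iv F30887) D9777 (iv D6751)
def n9778 : Q := act 6 n6747
theorem D9778 : act 6 n6747 = n9778 := rfl
theorem F43813 : act 0 n9778 = n9778 := d5_1 D9778 (iv D9778) F30888
theorem F43814 : act 1 n9778 = n7299 := d13_1 D9778 (iv D7299) (iv F30889)
theorem F43815 : act 3 n9778 = n9778 := d26_1 D9778 (iv D9778) F30890
theorem F43816 : act 4 n9778 = n9778 := d31_1 D9778 (iv D9778) F30891
theorem F43817 : act 5 n9778 = n6762 := d35_1 D9778 (iv D6762) (iv D4676) (iv F21867) D6747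
theorem F43818 : act 9 n9778 = n6752 := d41_2 (iv F30893) D9778 (iv D6752)
def n9779 : Q := act 4 n6748
theorem D9779 : act 4 n6748 = n9779 := rfl
theorem F43819 : act 0 n9779 = n6749 := d3_1 D9779 (iv D6749) D6748
theorem F43820 : act 1 n9779 = n9779 := d11_1 D9779 (iv D9779) F30894
theorem F43821 : act 2 n9779 = n7300 := d18_1 D9779 (iv D7300) (iv F30895)
theorem F43822 : act 6 n9779 = n6763 := d31_2 (iv F30897) D9779 (iv D6763)
theorem F43823 : act 7 n9779 = n9779 := d32_2 F30898 D9779 (iv D9779)
theorem F43824 : act 8 n9779 = n9779 := d33_2 F30899 D9779 (iv D9779)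
def n9780 : Q := act 3 n6749
theorem D9780 : act 3 n6749 = n9780 := rfl
theorem F43825 : act 1 n9780 = n6750 := d10_1 D9780 (iv D6750) (iv F30900)
theorem F43826 : act 6 n9780 = n6764 := d26_2 (iv F30902) D9780 (iv D6764)
theorem F43827 : act 7 n9780 = n9780 := d27_2 F30903 D9780 (iv D9780)
def n9781 : Q := act 5 n6749
theorem D9781 : act 5 n6749 = n9781 := rfl
theorem F43828 : act 1 n9781 = n6751 := d12_1 D9781 (iv D6751) (iv F30900)
theorem F43829 : act 2 n9781 = n7302 := d19_1 D9781 (iv D7302) (iv F30901)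
theorem F43830 : act 4 n9781 = n9781 := d30_1 D9781 (iv D9781) (iv D6749) F21871 D6749
theorem F43831 : act 7 n9781 = n9781 := d36_2 F30903 D9781 (iv D9781)
theorem F43832 : act 8 n9781 = n9781 := d37_2 F30904 D9781 (iv D9781)
def n9782 : Q := act 5 n6750
theorem D9782 : act 5 n6750 = n9782 := rfl
theorem F43833 : act 0 n9782 = n9782 := d4_1 D9782 (iv D9782) F30905
theorem F43834 : act 2 n9782 = n9782 := d19_1 D9782 (iv D9782) F30906
theorem F43835 : act 3 n9782 = n6751 := d25_1 D9782 (iv D6751) D6750
theorem F43836 : act 7 n9782 = n9782 := d36_2 F30908 D9782 (iv D9782)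
def n9783 : Q := act 8 n6750
theorem D9783 : act 8 n6750 = n9783 := rfl
theorem F43837 : act 0 n9783 = n9783 := d7_1 D9783 (iv D9783) F30905
theorem F43838 : act 2 n9783 = n9783 := d22_1 D9783 (iv D9783) F30906
theorem F43839 : act 3 n9783 = n9783 := d28_1 D9783 (iv D9783) (iv D6750) F21879 D6750
theorem F43840 : act 6 n9783 = n6767 := d40_1 D9783 (iv D6767) (iv F30907)
theorem F43841 : act 7 n9783 = n9783 := d42_1 D9783 (iv D9783) F30908
def n9784 : Q := act 6 n6751
theorem D9784 : act 6 n6751 = n9784 := rfl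
theorem F43842 : act 0 n9784 = n9784 := d5_1 D9784 (iv D9784) F30909
theorem F43843 : act 2 n9784 = n6752 := d20_1 D9784 (iv D6752) (iv F30910)
theorem F43844 : act 4 n9784 = n9784 := d31_1 D9784 (iv D9784) F30911
theorem F43845 : act 5 n9784 = n6768 := d35_1 D9784 (iv D6768) (iv D4680) (iv F21877) D6751
theorem F43846 : act 8 n9784 = n9784 := d40_2 F30913 D9784 (iv D9784)
def n9785 : Q := act 7 n6752
theorem D9785 : act 7 n6752 = n9785 := rfl
theorem F43851 : act 5 n9785 = n6769 := d36_1 D9785 (iv D6769) (iv F30918)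
def n9786 : Q := act 1 n6753
theorem D9786 : act 1 n6753 = n9786 := rfl
theorem F43854 : act 2 n9786 = n7314 := d9_2 D6753 D9786 (iv D7314) (iv D5053) (iv F21887)
def n9787 : Q := act 4 n6753
theorem D9787 : act 4 n6753 = n9787 := rfl
theorem F43860 : act 0 n9787 = n9787 := d3_1 D9787 (iv D9787) F30920
theorem F43861 : act 2 n9787 = n6754 := d18_1 D9787 (iv D6754) D6753
theorem F43862 : act 7 n9787 = n6771 := d32_2 (iv F30923) D9787 (iv D6771)
theorem F43863 : act 8 n9787 = n9787 := d33_2 F30924 D9787 (iv D9787)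
theorem F43864 : act 9 n9787 = n9787 := d34_2 F30925 D9787 (iv D9787)
def n9788 : Q := act 5 n6754
theorem D9788 : act 5 n6754 = n9788 := rfl
theorem F43865 : act 0 n9788 = n9788 := d4_1 D9788 (iv D9788) F30926
theorem F43866 : act 1 n9788 = n7316 := d12_1 D9788 (iv D7316) (iv F30927)
theorem F43867 : act 3 n9788 = n6757 := d25_1 D9788 (iv D6757) (iv F30928)
theorem F43868 : act 4 n9788 = n9788 := d30_1 D9788 (iv D9788) (iv D6754) F21888 D6754
theorem F43869 : act 7 n9788 = n6772 := d36_2 (iv F30929) D9788 (iv D6772)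
theorem F43870 : act 8 n9788 = n9788 := d37_2 F30930 D9788 (iv D9788)
theorem F43871 : act 9 n9788 = n9788 := d38_2 F30931 D9788 (iv D9788)
def n9789 : Q := act 0 n6755
theorem D9789 : act 0 n6755 = n9789 := rfl
theorem F43875 : act 5 n9789 = n6796 := d4_2 (iv F30934) D9789 (iv D6796)
theorem F43876 : act 7 n9789 = n6773 := d6_2 (iv F30935) D9789 (iv D6773)
theorem F43877 : act 8 n9789 = n6758 := d7_2 (iv F30936) D9789 (iv D6758)
def n9790 : Q := act 4 n6755
theorem D9790 : act 4 n6755 = n9790 := rfl
theorem F43879 : act 1 n9790 = n6756 := d11_1 D9790 (iv D6756) D6755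
theorem F43881 : act 7 n9790 = n6774 := d32_2 (iv F30935) D9790 (iv D6774)
theorem F43882 : act 8 n9790 = n6759 := d33_2 (iv F30936) D9790 (iv D6759)
def n9791 : Q := act 3 n6756
theorem D9791 : act 3 n6756 = n9791 := rfl
theorem F43884 : act 0 n9791 = n9791 := d2_1 D9791 (iv D9791) F30938
theorem F43885 : act 4 n9791 = n9791 := d24_2 D6756 D9791 (iv D9791) (iv D6756) F21893
theorem F43886 : act 7 n9791 = n6775 := d27_2 (iv F30940) D9791 (iv D6775)
theorem F43887 : act 9 n9791 = n9791 := d29_2 F30942 D9791 (iv D9791)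
def n9792 : Q := act 5 n6756
theorem D9792 : act 5 n6756 = n9792 := rfl
theorem F43888 : act 0 n9792 = n9792 := d4_1 D9792 (iv D9792) F30938
theorem F43889 : act 2 n9792 = n6757 := d19_1 D9792 (iv D6757) (iv F30939)
theorem F43890 : act 4 n9792 = n6799 := d30_1 D9792 (iv D6799) (iv D4700) (iv F21894) D6756
theorem F43891 : act 7 n9792 = n6776 := d36_2 (iv F30940) D9792 (iv D6776)
theorem F43892 : act 8 n9792 = n6761 := d37_2 (iv F30941) D9792 (iv D6761)
theorem F43893 : act 9 n9792 = n9792 := d38_2 F30942 D9792 (iv D9792)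
def n9793 : Q := act 6 n6757
theorem D9793 : act 6 n6757 = n9793 := rfl
theorem F43894 : act 0 n9793 = n9793 := d5_1 D9793 (iv D9793) F30943
theorem F43895 : act 1 n9793 = n7321 := d13_1 D9793 (iv D7321) (iv F30944)
theorem F43896 : act 4 n9793 = n6800 := d31_1 D9793 (iv D6800) (iv F30945)
theorem F43897 : act 8 n9793 = n6762 := d40_2 (iv F30947) D9793 (iv D6762)
theorem F43898 : act 9 n9793 = n9793 := d41_2 F30948 D9793 (iv D9793)
def n9794 : Q := act 4 n6758
theorem D9794 : act 4 n6758 = n9794 := rfl
theorem F43899 : act 0 n9794 = n6759 := d3_1 D9794 (iv D6759) D6758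
theorem F43902 : act 7 n9794 = n6778 := d32_2 (iv F30952) D9794 (iv D6778)
theorem F43903 : act 9 n9794 = n6763 := d34_2 (iv F30953) D9794 (iv D6763)
def n9795 : Q := act 3 n6759
theorem D9795 : act 3 n6759 = n9795 := rfl
theorem F43904 : act 1 n9795 = n6760 := d10_1 D9795 (iv D6760) (iv F30954)
theorem F43905 : act 7 n9795 = n6779 := d27_2 (iv F30956) D9795 (iv D6779)
theorem F43906 : act 9 n9795 = n6764 := d29_2 (iv F30957) D9795 (iv D6764)
def n9796 : Q := act 5 n6759
theorem D9796 : act 5 n6759 = n9796 := rfl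
theorem F43907 : act 1 n9796 = n6761 := d12_1 D9796 (iv D6761) (iv F30954)
theorem F43908 : act 2 n9796 = n7324 := d19_1 D9796 (iv D7324) (iv F30955)
theorem F43909 : act 4 n9796 = n6803 := d30_1 D9796 (iv D6803) (iv D4703) (iv F21904) D6759
theorem F43910 : act 7 n9796 = n6780 := d36_2 (iv F30956) D9796 (iv D6780)
theorem F43911 : act 9 n9796 = n6765 := d38_2 (iv F30957) D9796 (iv D6765)
def n9797 : Q := act 5 n6760
theorem D9797 : act 5 n6760 = n9797 := rfl
theorem F43912 : act 0 n9797 = n9797 := d4_1 D9797 (iv D9797) F30958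
theorem F43913 : act 2 n9797 = n9797 := d19_1 D9797 (iv D9797) F30959
theorem F43914 : act 3 n9797 = n6761 := d25_1 D9797 (iv D6761) D6760
theorem F43915 : act 7 n9797 = n6781 := d36_2 (iv F30960) D9797 (iv D6781)
theorem F43916 : act 9 n9797 = n6766 := d38_2 (iv F30961) D9797 (iv D6766)
def n9798 : Q := act 8 n6760
theorem D9798 : act 8 n6760 = n9798 := rfl
theorem F43917 : act 0 n9798 = n9798 := d7_1 D9798 (iv D9798) F30958
theorem F43918 : act 2 n9798 = n9798 := d22_1 D9798 (iv D9798) F30959
theorem F43919 : act 7 n9798 = n6782 := d42_1 D9798 (iv D6782) (iv F30960)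
def n9799 : Q := act 6 n6761
theorem D9799 : act 6 n6761 = n9799 := rfl
theorem F43920 : act 0 n9799 = n9799 := d5_1 D9799 (iv D9799) F30962
theorem F43921 : act 2 n9799 = n6762 := d20_1 D9799 (iv D6762) (iv F30963)
theorem F43922 : act 4 n9799 = n6806 := d31_1 D9799 (iv D6806) (iv F30964)
theorem F43923 : act 9 n9799 = n6768 := d41_2 (iv F30966) D9799 (iv D6768)
def n9800 : Q := act 7 n6762
theorem D9800 : act 7 n6762 = n9800 := rfl
theorem F43924 : act 0 n9800 = n9800 := d6_1 D9800 (iv D9800) F30967
theorem F43925 : act 1 n9800 = n7328 := d14_1 D9800 (iv D7328) (iv F30968)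
theorem F43926 : act 3 n9800 = n9800 := d27_1 D9800 (iv D9800) F30969
theorem F43927 : act 4 n9800 = n6807 := d32_1 D9800 (iv D6807) (iv F30970)
theorem F43928 : act 6 n9800 = n6784 := d39_1 D9800 (iv D6784) (iv D4691) (iv F21915) D6762
theorem F43929 : act 9 n9800 = n6769 := d43_2 (iv F30971) D9800 (iv D6769)
def n9801 : Q := act 3 n6763
theorem D9801 : act 3 n6763 = n9801 := rfl
theorem F43930 : act 0 n9801 = n6764 := d2_1 D9801 (iv D6764) (iv F30972)
theorem F43931 : act 1 n9801 = n9801 := d10_1 D9801 (iv D9801) F30973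
theorem F43932 : act 7 n9801 = n6785 := d27_2 (iv F30975) D9801 (iv D6785)
def n9802 : Q := act 5 n6763
theorem D9802 : act 5 n6763 = n9802 := rfl
theorem F43933 : act 0 n9802 = n6765 := d4_1 D9802 (iv D6765) (iv F30972)
theorem F43934 : act 1 n9802 = n9802 := d12_1 D9802 (iv D9802) F30973
theorem F43935 : act 2 n9802 = n7330 := d19_1 D9802 (iv D7330) (iv F30974)
theorem F43936 : act 4 n9802 = n6809 := d30_1 D9802 (iv D6809) (iv D4707) (iv F21919) D6763
theorem F43937 : act 7 n9802 = n6786 := d36_2 (iv F30975) D9802 (iv D6786)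
theorem F43938 : act 8 n9802 = n9802 := d37_2 F30976 D9802 (iv D9802)
def n9803 : Q := act 2 n6764
theorem D9803 : act 2 n6764 = n9803 := rfl
theorem F43939 : act 1 n9803 = n9803 := d9_1 D9803 (iv D9803) F30977 F21927 (iv F30977)
theorem F43940 : act 3 n9803 = n7331 := d17_2 D6764 D9803 (iv D7331) (iv D5064) (iv F21923)
theorem F43941 : act 7 n9803 = n6787 := d21_2 (iv F30978) D9803 (iv D6787)
def n9804 : Q := act 5 n6764
theorem D9804 : act 5 n6764 = n9804 := rfl
theorem F43942 : act 1 n9804 = n6766 := d12_1 D9804 (iv D6766) (iv F30977)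
theorem F43943 : act 3 n9804 = n6765 := d25_1 D9804 (iv D6765) D6764
theorem F43944 : act 7 n9804 = n6788 := d36_2 (iv F30978) D9804 (iv D6788)
def n9805 : Q := act 8 n6764
theorem D9805 : act 8 n6764 = n9805 := rfl
theorem F43945 : act 1 n9805 = n6767 := d15_1 D9805 (iv D6767) (iv F30977)
theorem F43946 : act 3 n9805 = n9805 := d28_1 D9805 (iv D9805) (iv D6764) F21925 D6764
theorem F43947 : act 7 n9805 = n6789 := d42_1 D9805 (iv D6789) (iv F30978)
def n9806 : Q := act 6 n6765
theorem D9806 : act 6 n6765 = n9806 := rfl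
theorem F43948 : act 1 n9806 = n6768 := d13_1 D9806 (iv D6768) (iv F30979)
theorem F43949 : act 2 n9806 = n7334 := d20_1 D9806 (iv D7334) (iv F30980)
theorem F43950 : act 4 n9806 = n6813 := d31_1 D9806 (iv D6813) (iv F30981)
theorem F43951 : act 8 n9806 = n9806 := d40_2 F30983 D9806 (iv D9806)
def n9807 : Q := act 4 n6766
theorem D9807 : act 4 n6766 = n9807 := rfl
theorem F43952 : act 0 n9807 = n9807 := d3_1 D9807 (iv D9807) F30984
theorem F43953 : act 2 n9807 = n9807 := d18_1 D9807 (iv D9807) F30985
theorem F43954 : act 3 n9807 = n6814 := d24_1 D9807 (iv D6814) F22076 (iv F21931) (iv F30986)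
theorem F43955 : act 7 n9807 = n6791 := d32_2 (iv F30987) D9807 (iv D6791)
def n9808 : Q := act 6 n6766
theorem D9808 : act 6 n6766 = n9808 := rfl
theorem F43956 : act 0 n9808 = n9808 := d5_1 D9808 (iv D9808) F30984
theorem F43957 : act 2 n9808 = n9808 := d20_1 D9808 (iv D9808) F30985
theorem F43958 : act 3 n9808 = n6768 := d26_1 D9808 (iv D6768) (iv F30986)
def n9809 : Q := act 8 n6766
theorem D9809 : act 8 n6766 = n9809 := rfl
theorem F43959 : act 0 n9809 = n9809 := d7_1 D9809 (iv D9809) F30984
theorem F43960 : act 2 n9809 = n9809 := d22_1 D9809 (iv D9809) F30985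
theorem F43961 : act 3 n9809 = n9809 := d28_1 D9809 (iv D9809) F30986 F21933 (iv F30986)
theorem F43962 : act 5 n9809 = n6767 := d37_1 D9809 (iv D6767) D6766
theorem F43963 : act 7 n9809 = n6793 := d42_1 D9809 (iv D6793) (iv F30987)
def n9810 : Q := act 9 n6767
theorem D9810 : act 9 n6767 = n9810 := rfl
theorem F43964 : act 0 n9810 = n9810 := d8_1 D9810 (iv D9810) F30988
theorem F43965 : act 2 n9810 = n9810 := d23_1 D9810 (iv D9810) F30989
theorem F43966 : act 3 n9810 = n9810 := d29_1 D9810 (iv D9810) F30990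
theorem F43967 : act 7 n9810 = n6794 := d43_1 D9810 (iv D6794) (iv F30991)
def n9811 : Q := act 7 n6768
theorem D9811 : act 7 n6768 = n9811 := rfl
theorem F43968 : act 0 n9811 = n9811 := d6_1 D9811 (iv D9811) F30992
theorem F43969 : act 2 n9811 = n6769 := d21_1 D9811 (iv D6769) (iv F30993)
theorem F43970 : act 4 n9811 = n6818 := d32_1 D9811 (iv D6818) (iv F30994)
theorem F43971 : act 6 n9811 = n6795 := d39_1 D9811 (iv D6795) (iv D4697) (iv F21932) D6768
theorem F43972 : act 8 n9811 = n9811 := d42_2 F30995 D9811 (iv D9811)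
def n9813 : Q := act 4 n6770
theorem D9813 : act 4 n6770 = n9813 := rfl
theorem F43980 : act 1 n9813 = n6771 := d11_1 D9813 (iv D6771) D6770
theorem F43981 : act 2 n9813 = n7352 := d18_1 D9813 (iv D7352) (iv F31002)
def n9814 : Q := act 3 n6771
theorem D9814 : act 3 n6771 = n9814 := rfl
theorem F43985 : act 0 n9814 = n9814 := d2_1 D9814 (iv D9814) F31008
theorem F43986 : act 2 n9814 = n6775 := d17_1 D9814 (iv D6775) F21958 (iv F21947) (iv F31009)
theorem F43987 : act 4 n9814 = n9814 := d24_2 D6771 D9814 (iv D9814) (iv D6771) F21940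
theorem F43988 : act 6 n9814 = n9814 := d26_2 F31010 D9814 (iv D9814)
theorem F43989 : act 9 n9814 = n9814 := d29_2 F31012 D9814 (iv D9814)
def n9815 : Q := act 5 n6771
theorem D9815 : act 5 n6771 = n9815 := rfl
theorem F43990 : act 0 n9815 = n9815 := d4_1 D9815 (iv D9815) F31008
theorem F43991 : act 2 n9815 = n6772 := d19_1 D9815 (iv D6772) (iv F31009)
theorem F43992 : act 4 n9815 = n9815 := d30_1 D9815 (iv D9815) (iv D6771) F21941 D6771
theorem F43993 : act 8 n9815 = n9815 := d37_2 F31011 D9815 (iv D9815)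
theorem F43994 : act 9 n9815 = n9815 := d38_2 F31012 D9815 (iv D9815)
def n9816 : Q := act 6 n6772
theorem D9816 : act 6 n6772 = n9816 := rfl
theorem F43995 : act 0 n9816 = n9816 := d5_1 D9816 (iv D9816) F31013
theorem F43996 : act 1 n9816 = n7355 := d13_1 D9816 (iv D7355) (iv F31014)
theorem F43997 : act 3 n9816 = n6777 := d26_1 D9816 (iv D6777) (iv F31015)
theorem F43998 : act 4 n9816 = n9816 := d31_1 D9816 (iv D9816) F31016
theorem F43999 : act 5 n9816 = n9816 := d35_1 D9816 (iv D9816) (iv D6772) F21948 D6772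
theorem F44000 : act 8 n9816 = n9816 := d40_2 F31017 D9816 (iv D9816)
theorem F44001 : act 9 n9816 = n9816 := d41_2 F31018 D9816 (iv D9816)
def n9817 : Q := act 4 n6773
theorem D9817 : act 4 n6773 = n9817 := rfl
theorem F44006 : act 8 n9817 = n6778 := d33_2 (iv F31024) D9817 (iv D6778)
def n9818 : Q := act 3 n6774
theorem D9818 : act 3 n6774 = n9818 := rfl
theorem F44008 : act 1 n9818 = n6775 := d10_1 D9818 (iv D6775) (iv F31026)
def n9819 : Q := act 5 n6774
theorem D9819 : act 5 n6774 = n9819 := rfl
theorem F44012 : act 1 n9819 = n6776 := d12_1 D9819 (iv D6776) (iv F31026)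
theorem F44015 : act 8 n9819 = n6780 := d37_2 (iv F31029) D9819 (iv D6780)
def n9820 : Q := act 5 n6775
theorem D9820 : act 5 n6775 = n9820 := rfl
theorem F44017 : act 0 n9820 = n9820 := d4_1 D9820 (iv D9820) F31031
theorem F44018 : act 3 n9820 = n6776 := d25_1 D9820 (iv D6776) D6775
theorem F44019 : act 9 n9820 = n9820 := d38_2 F31034 D9820 (iv D9820)
def n9821 : Q := act 8 n6775
theorem D9821 : act 8 n6775 = n9821 := rfl
theorem F44020 : act 0 n9821 = n9821 := d7_1 D9821 (iv D9821) F31031
theorem F44021 : act 3 n9821 = n6782 := d28_1 D9821 (iv D6782) (iv D4689) (iv F21960) D6775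
theorem F44022 : act 4 n9821 = n9821 := d33_1 D9821 (iv D9821) F31032
theorem F44023 : act 6 n9821 = n9821 := d40_1 D9821 (iv D9821) F31033
def n9822 : Q := act 6 n6776
theorem D9822 : act 6 n6776 = n9822 := rfl
theorem F44024 : act 0 n9822 = n9822 := d5_1 D9822 (iv D9822) F31035
theorem F44025 : act 2 n9822 = n6777 := d20_1 D9822 (iv D6777) (iv F31036)
theorem F44026 : act 4 n9822 = n6824 := d31_1 D9822 (iv D6824) (iv F31037)
theorem F44027 : act 5 n9822 = n9822 := d35_1 D9822 (iv D9822) (iv D6776) F21959 D6776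
theorem F44028 : act 8 n9822 = n6783 := d40_2 (iv F31038) D9822 (iv D6783)
theorem F44029 : act 9 n9822 = n9822 := d41_2 F31039 D9822 (iv D9822)
def n9823 : Q := act 7 n6777
theorem D9823 : act 7 n6777 = n9823 := rfl
theorem F44030 : act 0 n9823 = n9823 := d6_1 D9823 (iv D9823) F31040
theorem F44031 : act 1 n9823 = n7362 := d14_1 D9823 (iv D7362) (iv F31041)
theorem F44032 : act 4 n9823 = n6825 := d32_1 D9823 (iv D6825) (iv F31042)
theorem F44033 : act 5 n9823 = n9823 := d36_1 D9823 (iv D9823) F31043
theorem F44034 : act 8 n9823 = n6784 := d42_2 (iv F31044) D9823 (iv D6784)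
theorem F44035 : act 9 n9823 = n9823 := d43_2 F31045 D9823 (iv D9823)
def n9824 : Q := act 3 n6778
theorem D9824 : act 3 n6778 = n9824 := rfl
theorem F44036 : act 0 n9824 = n6779 := d2_1 D9824 (iv D6779) (iv F31046)
theorem F44039 : act 9 n9824 = n6785 := d29_2 (iv F31050) D9824 (iv D6785)
def n9825 : Q := act 5 n6778
theorem D9825 : act 5 n6778 = n9825 := rfl
theorem F44040 : act 0 n9825 = n6780 := d4_1 D9825 (iv D6780) (iv F31046)
theorem F44044 : act 9 n9825 = n6786 := d38_2 (iv F31050) D9825 (iv D6786)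
def n9826 : Q := act 2 n6779
theorem D9826 : act 2 n6779 = n9826 := rfl
theorem F44045 : act 1 n9826 = n9826 := d9_1 D9826 (iv D9826) F31051 F21977 (iv F31051)
theorem F44046 : act 3 n9826 = n7365 := d17_2 D6779 D9826 (iv D7365) (iv D5086) (iv F21973)
theorem F44047 : act 6 n9826 = n9826 := d20_2 F31052 D9826 (iv D9826)
theorem F44048 : act 9 n9826 = n6787 := d23_2 (iv F31053) D9826 (iv D6787)
def n9827 : Q := act 5 n6779
theorem D9827 : act 5 n6779 = n9827 := rfl
theorem F44049 : act 1 n9827 = n6781 := d12_1 D9827 (iv D6781) (iv F31051)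
theorem F44050 : act 3 n9827 = n6780 := d25_1 D9827 (iv D6780) D6779
theorem F44051 : act 9 n9827 = n6788 := d38_2 (iv F31053) D9827 (iv D6788)
def n9828 : Q := act 8 n6779
theorem D9828 : act 8 n6779 = n9828 := rfl
theorem F44052 : act 1 n9828 = n6782 := d15_1 D9828 (iv D6782) (iv F31051)
theorem F44053 : act 6 n9828 = n9828 := d40_1 D9828 (iv D9828) F31052
def n9829 : Q := act 6 n6780
theorem D9829 : act 6 n6780 = n9829 := rfl
theorem F44054 : act 1 n9829 = n6783 := d13_1 D9829 (iv D6783) (iv F31054)
theorem F44055 : act 2 n9829 = n7368 := d20_1 D9829 (iv D7368) (iv F31055)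
theorem F44056 : act 4 n9829 = n6831 := d31_1 D9829 (iv D6831) (iv F31056)
theorem F44057 : act 5 n9829 = n9829 := d35_1 D9829 (iv D9829) (iv D6780) F21974 D6780
theorem F44058 : act 9 n9829 = n6790 := d41_2 (iv F31057) D9829 (iv D6790)
def n9830 : Q := act 4 n6781
theorem D9830 : act 4 n6781 = n9830 := rfl
theorem F44059 : act 0 n9830 = n9830 := d3_1 D9830 (iv D9830) F31058
theorem F44060 : act 2 n9830 = n9830 := d18_1 D9830 (iv D9830) F31059
theorem F44061 : act 3 n9830 = n6832 := d24_1 D9830 (iv D6832) F22132 (iv F21982) (iv F31060)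
theorem F44062 : act 9 n9830 = n6791 := d34_2 (iv F31061) D9830 (iv D6791)
def n9831 : Q := act 6 n6781
theorem D9831 : act 6 n6781 = n9831 := rfl
theorem F44063 : act 0 n9831 = n9831 := d5_1 D9831 (iv D9831) F31058
theorem F44064 : act 2 n9831 = n9831 := d20_1 D9831 (iv D9831) F31059
theorem F44065 : act 3 n9831 = n6783 := d26_1 D9831 (iv D6783) (iv F31060)
theorem F44066 : act 5 n9831 = n9831 := d35_1 D9831 (iv D9831) (iv D6781) F21978 D6781
theorem F44067 : act 9 n9831 = n6792 := d41_2 (iv F31061) D9831 (iv D6792)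
def n9832 : Q := act 8 n6781
theorem D9832 : act 8 n6781 = n9832 := rfl
theorem F44068 : act 0 n9832 = n9832 := d7_1 D9832 (iv D9832) F31058
theorem F44069 : act 2 n9832 = n9832 := d22_1 D9832 (iv D9832) F31059
theorem F44070 : act 5 n9832 = n6782 := d37_1 D9832 (iv D6782) D6781
def n9833 : Q := act 9 n6782
theorem D9833 : act 9 n6782 = n9833 := rfl
theorem F44071 : act 0 n9833 = n9833 := d8_1 D9833 (iv D9833) F31062
theorem F44072 : act 2 n9833 = n9833 := d23_1 D9833 (iv D9833) F31063
theorem F44073 : act 6 n9833 = n9833 := d41_1 D9833 (iv D9833) F31064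
theorem F44074 : act 8 n9833 = n6794 := d44_1 D9833 (iv D6794) (iv D4696) (iv F21979) D6782
def n9834 : Q := act 7 n6783
theorem D9834 : act 7 n6783 = n9834 := rfl
theorem F44075 : act 0 n9834 = n9834 := d6_1 D9834 (iv D9834) F31065
theorem F44076 : act 2 n9834 = n6784 := d21_1 D9834 (iv D6784) (iv F31066)
theorem F44077 : act 4 n9834 = n6836 := d32_1 D9834 (iv D6836) (iv F31067)
theorem F44078 : act 5 n9834 = n9834 := d36_1 D9834 (iv D9834) F31068
theorem F44079 : act 9 n9834 = n6795 := d43_2 (iv F31069) D9834 (iv D6795)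
def n9835 : Q := act 2 n6785
theorem D9835 : act 2 n6785 = n9835 := rfl
theorem F44080 : act 0 n9835 = n6787 := d1_1 D9835 (iv D6787) (iv F31076)
theorem F44081 : act 3 n9835 = n7374 := d17_2 D6785 D9835 (iv D7374) (iv D5092) (iv F21992)
def n9836 : Q := act 5 n6785
theorem D9836 : act 5 n6785 = n9836 := rfl
theorem F44083 : act 0 n9836 = n6788 := d4_1 D9836 (iv D6788) (iv F31076)
theorem F44084 : act 1 n9836 = n9836 := d12_1 D9836 (iv D9836) F31077
theorem F44085 : act 3 n9836 = n6786 := d25_1 D9836 (iv D6786) D6785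
def n9837 : Q := act 8 n6785
theorem D9837 : act 8 n6785 = n9837 := rfl
theorem F44086 : act 0 n9837 = n6789 := d7_1 D9837 (iv D6789) (iv F31076)
def n9838 : Q := act 6 n6786
theorem D9838 : act 6 n6786 = n9838 := rfl
theorem F44090 : act 0 n9838 = n6790 := d5_1 D9838 (iv D6790) (iv F31079)
theorem F44091 : act 1 n9838 = n9838 := d13_1 D9838 (iv D9838) F31080
theorem F44092 : act 2 n9838 = n7377 := d20_1 D9838 (iv D7377) (iv F31081)
theorem F44093 : act 4 n9838 = n6840 := d31_1 D9838 (iv D6840) (iv F31082)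
theorem F44094 : act 5 n9838 = n9838 := d35_1 D9838 (iv D9838) (iv D6786) F21993 D6786
theorem F44095 : act 8 n9838 = n9838 := d40_2 F31083 D9838 (iv D9838)
def n9839 : Q := act 5 n6787
theorem D9839 : act 5 n6787 = n9839 := rfl
theorem F44096 : act 1 n9839 = n9839 := d12_1 D9839 (iv D9839) F31084
theorem F44097 : act 2 n9839 = n6788 := d19_1 D9839 (iv D6788) D6787
theorem F44098 : act 3 n9839 = n7378 := d25_1 D9839 (iv D7378) (iv F31085)
def n9840 : Q := act 8 n6787
theorem D9840 : act 8 n6787 = n9840 := rfl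
theorem F44100 : act 2 n9840 = n6789 := d22_1 D9840 (iv D6789) D6787
def n9841 : Q := act 4 n6788
theorem D9841 : act 4 n6788 = n9841 := rfl
theorem F44102 : act 1 n9841 = n6791 := d11_1 D9841 (iv D6791) (iv F31087)
theorem F44103 : act 3 n9841 = n6843 := d24_1 D9841 (iv D6843) F22157 (iv F21999) (iv F31088)
def n9842 : Q := act 6 n6788
theorem D9842 : act 6 n6788 = n9842 := rfl
theorem F44104 : act 1 n9842 = n6792 := d13_1 D9842 (iv D6792) (iv F31087)
theorem F44105 : act 3 n9842 = n6790 := d26_1 D9842 (iv D6790) (iv F31088)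
theorem F44106 : act 5 n9842 = n9842 := d35_1 D9842 (iv D9842) (iv D6788) F21996 D6788
def n9843 : Q := act 8 n6788
theorem D9843 : act 8 n6788 = n9843 := rfl
theorem F44107 : act 1 n9843 = n6793 := d15_1 D9843 (iv D6793) (iv F31087)
theorem F44108 : act 3 n9843 = n9843 := d28_1 D9843 (iv D9843) F31088 F22000 (iv F31088)
theorem F44109 : act 5 n9843 = n6789 := d37_1 D9843 (iv D6789) D6788
def n9844 : Q := act 9 n6789
theorem D9844 : act 9 n6789 = n9844 := rfl
theorem F44110 : act 1 n9844 = n6794 := d16_1 D9844 (iv D6794) (iv F31089)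
theorem F44111 : act 3 n9844 = n9844 := d29_1 D9844 (iv D9844) F31090
theorem F44112 : act 6 n9844 = n9844 := d41_1 D9844 (iv D9844) F31091
def n9845 : Q := act 7 n6790
theorem D9845 : act 7 n6790 = n9845 := rfl
theorem F44113 : act 1 n9845 = n6795 := d14_1 D9845 (iv D6795) (iv F31092)
theorem F44114 : act 2 n9845 = n7384 := d21_1 D9845 (iv D7384) (iv F31093)
theorem F44115 : act 4 n9845 = n6847 := d32_1 D9845 (iv D6847) (iv F31094)
theorem F44116 : act 5 n9845 = n9845 := d36_1 D9845 (iv D9845) F31095
theorem F44117 : act 8 n9845 = n9845 := d42_2 F31096 D9845 (iv D9845)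
def n9846 : Q := act 6 n6791
theorem D9846 : act 6 n6791 = n9846 := rfl
theorem F44118 : act 0 n9846 = n9846 := d5_1 D9846 (iv D9846) F31097
theorem F44119 : act 2 n9846 = n9846 := d20_1 D9846 (iv D9846) F31098
theorem F44120 : act 3 n9846 = n6848 := d26_1 D9846 (iv D6848) (iv F31099)
theorem F44121 : act 4 n9846 = n6792 := d31_1 D9846 (iv D6792) D6791
def n9847 : Q := act 8 n6791
theorem D9847 : act 8 n6791 = n9847 := rfl
theorem F44122 : act 0 n9847 = n9847 := d7_1 D9847 (iv D9847) F31097
theorem F44123 : act 2 n9847 = n9847 := d22_1 D9847 (iv D9847) F31098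
theorem F44124 : act 4 n9847 = n6793 := d33_1 D9847 (iv D6793) D6791
def n9848 : Q := act 7 n6792
theorem D9848 : act 7 n6792 = n9848 := rfl
theorem F44125 : act 0 n9848 = n9848 := d6_1 D9848 (iv D9848) F31100
theorem F44126 : act 2 n9848 = n9848 := d21_1 D9848 (iv D9848) F31101
theorem F44127 : act 3 n9848 = n6795 := d27_1 D9848 (iv D6795) (iv F31102)
theorem F44128 : act 5 n9848 = n9848 := d36_1 D9848 (iv D9848) F31103
def n9849 : Q := act 8 n6792
theorem D9849 : act 8 n6792 = n9849 := rfl
theorem F44129 : act 0 n9849 = n9849 := d7_1 D9849 (iv D9849) F31100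
theorem F44130 : act 2 n9849 = n9849 := d22_1 D9849 (iv D9849) F31101
theorem F44131 : act 3 n9849 = n9849 := d28_1 D9849 (iv D9849) F31102 F22012 (iv F31102)
theorem F44132 : act 5 n9849 = n9849 := d37_1 D9849 (iv D9849) F31103
theorem F44133 : act 6 n9849 = n6793 := d40_1 D9849 (iv D6793) D6792
def n9850 : Q := act 9 n6793
theorem D9850 : act 9 n6793 = n9850 := rfl
theorem F44134 : act 0 n9850 = n9850 := d8_1 D9850 (iv D9850) F31104
theorem F44135 : act 2 n9850 = n9850 := d23_1 D9850 (iv D9850) F31105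
theorem F44136 : act 3 n9850 = n9850 := d29_1 D9850 (iv D9850) F31106
theorem F44137 : act 5 n9850 = n6794 := d38_1 D9850 (iv D6794) (iv F31107)
def n9851 : Q := act 4 n6796
theorem D9851 : act 4 n6796 = n9851 := rfl
theorem F44142 : act 7 n9851 = n6819 := d32_2 (iv F31121) D9851 (iv D6819)
theorem F44143 : act 8 n9851 = n6801 := d33_2 (iv F31122) D9851 (iv D6801)
def n9852 : Q := act 3 n6797
theorem D9852 : act 3 n6797 = n9852 := rfl
theorem F44145 : act 1 n9852 = n6798 := d10_1 D9852 (iv D6798) (iv F31124)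
def n9853 : Q := act 5 n6797
theorem D9853 : act 5 n6797 = n9853 := rfl
theorem F44150 : act 1 n9853 = n6799 := d12_1 D9853 (iv D6799) (iv F31124)
theorem F44152 : act 7 n9853 = n6821 := d36_2 (iv F31127) D9853 (iv D6821)
theorem F44153 : act 8 n9853 = n6803 := d37_2 (iv F31128) D9853 (iv D6803)
def n9854 : Q := act 5 n6798
theorem D9854 : act 5 n6798 = n9854 := rfl
theorem F44155 : act 0 n9854 = n9854 := d4_1 D9854 (iv D9854) F31130
theorem F44156 : act 2 n9854 = n9854 := d19_1 D9854 (iv D9854) F31131
theorem F44157 : act 3 n9854 = n6799 := d25_1 D9854 (iv D6799) D6798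
theorem F44158 : act 7 n9854 = n6822 := d36_2 (iv F31134) D9854 (iv D6822)
theorem F44159 : act 9 n9854 = n9854 := d38_2 F31135 D9854 (iv D9854)
def n9855 : Q := act 8 n6798
theorem D9855 : act 8 n6798 = n9855 := rfl
theorem F44160 : act 0 n9855 = n9855 := d7_1 D9855 (iv D9855) F31130
theorem F44161 : act 2 n9855 = n9855 := d22_1 D9855 (iv D9855) F31131
theorem F44162 : act 3 n9855 = n6805 := d28_1 D9855 (iv D6805) (iv D4704) (iv F22029) D6798
theorem F44163 : act 4 n9855 = n9855 := d33_1 D9855 (iv D9855) F31132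
theorem F44164 : act 6 n9855 = n9855 := d40_1 D9855 (iv D9855) F31133
theorem F44165 : act 7 n9855 = n6823 := d42_1 D9855 (iv D6823) (iv F31134)
def n9856 : Q := act 6 n6799
theorem D9856 : act 6 n6799 = n9856 := rfl
theorem F44166 : act 0 n9856 = n9856 := d5_1 D9856 (iv D9856) F31136
theorem F44167 : act 2 n9856 = n6800 := d20_1 D9856 (iv D6800) (iv F31137)
theorem F44168 : act 5 n9856 = n9856 := d35_1 D9856 (iv D9856) (iv D6799) F22027 D6799
theorem F44169 : act 8 n9856 = n6806 := d40_2 (iv F31139) D9856 (iv D6806)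
theorem F44170 : act 9 n9856 = n9856 := d41_2 F31140 D9856 (iv D9856)
def n9857 : Q := act 7 n6800
theorem D9857 : act 7 n6800 = n9857 := rfl
theorem F44171 : act 0 n9857 = n9857 := d6_1 D9857 (iv D9857) F31141
theorem F44172 : act 1 n9857 = n7401 := d14_1 D9857 (iv D7401) (iv F31142)
theorem F44173 : act 3 n9857 = n9857 := d27_1 D9857 (iv D9857) F31143
theorem F44174 : act 5 n9857 = n9857 := d36_1 D9857 (iv D9857) F31144
theorem F44175 : act 6 n9857 = n6825 := d39_1 D9857 (iv D6825) (iv D4718) (iv F22034) D6800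
theorem F44176 : act 8 n9857 = n6807 := d42_2 (iv F31145) D9857 (iv D6807)
theorem F44177 : act 9 n9857 = n9857 := d43_2 F31146 D9857 (iv D9857)
def n9858 : Q := act 3 n6801
theorem D9858 : act 3 n6801 = n9858 := rfl
theorem F44178 : act 0 n9858 = n6802 := d2_1 D9858 (iv D6802) (iv F31147)
theorem F44181 : act 7 n9858 = n6826 := d27_2 (iv F31151) D9858 (iv D6826)
theorem F44182 : act 9 n9858 = n6808 := d29_2 (iv F31152) D9858 (iv D6808)
def n9859 : Q := act 5 n6801
theorem D9859 : act 5 n6801 = n9859 := rfl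
theorem F44183 : act 0 n9859 = n6803 := d4_1 D9859 (iv D6803) (iv F31147)
theorem F44186 : act 7 n9859 = n6827 := d36_2 (iv F31151) D9859 (iv D6827)
theorem F44187 : act 9 n9859 = n6809 := d38_2 (iv F31152) D9859 (iv D6809)
def n9860 : Q := act 2 n6802
theorem D9860 : act 2 n6802 = n9860 := rfl
theorem F44188 : act 1 n9860 = n6907 := d9_1 D9860 (iv D6907) F22335 (iv F22048) (iv F31153)
theorem F44189 : act 3 n9860 = n7404 := d17_2 D6802 D9860 (iv D7404) (iv D5112) (iv F22043)
theorem F44190 : act 6 n9860 = n9860 := d20_2 F31154 D9860 (iv D9860)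
theorem F44191 : act 7 n9860 = n6828 := d21_2 (iv F31155) D9860 (iv D6828)
theorem F44192 : act 9 n9860 = n6810 := d23_2 (iv F31156) D9860 (iv D6810)
def n9861 : Q := act 5 n6802
theorem D9861 : act 5 n6802 = n9861 := rfl
theorem F44193 : act 1 n9861 = n6804 := d12_1 D9861 (iv D6804) (iv F31153)
theorem F44194 : act 3 n9861 = n6803 := d25_1 D9861 (iv D6803) D6802
theorem F44195 : act 7 n9861 = n6829 := d36_2 (iv F31155) D9861 (iv D6829)
theorem F44196 : act 9 n9861 = n6811 := d38_2 (iv F31156) D9861 (iv D6811)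
def n9862 : Q := act 8 n6802
theorem D9862 : act 8 n6802 = n9862 := rfl
theorem F44197 : act 1 n9862 = n6805 := d15_1 D9862 (iv D6805) (iv F31153)
theorem F44198 : act 6 n9862 = n9862 := d40_1 D9862 (iv D9862) F31154
theorem F44199 : act 7 n9862 = n6830 := d42_1 D9862 (iv D6830) (iv F31155)
def n9863 : Q := act 6 n6803
theorem D9863 : act 6 n6803 = n9863 := rfl
theorem F44200 : act 1 n9863 = n6806 := d13_1 D9863 (iv D6806) (iv F31157)
theorem F44201 : act 2 n9863 = n7407 := d20_1 D9863 (iv D7407) (iv F31158)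
theorem F44202 : act 5 n9863 = n9863 := d35_1 D9863 (iv D9863) (iv D6803) F22044 D6803
theorem F44203 : act 9 n9863 = n6813 := d41_2 (iv F31160) D9863 (iv D6813)
def n9864 : Q := act 4 n6804
theorem D9864 : act 4 n6804 = n9864 := rfl
theorem F44204 : act 0 n9864 = n9864 := d3_1 D9864 (iv D9864) F31161
theorem F44205 : act 2 n9864 = n6911 := d18_1 D9864 (iv D6911) (iv F31162)
theorem F44206 : act 7 n9864 = n6832 := d32_2 (iv F31164) D9864 (iv D6832)
theorem F44207 : act 9 n9864 = n6814 := d34_2 (iv F31165) D9864 (iv D6814)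
def n9865 : Q := act 6 n6804
theorem D9865 : act 6 n6804 = n9865 := rfl
theorem F44208 : act 0 n9865 = n9865 := d5_1 D9865 (iv D9865) F31161
theorem F44209 : act 2 n9865 = n6912 := d20_1 D9865 (iv D6912) (iv F31162)
theorem F44210 : act 3 n9865 = n6806 := d26_1 D9865 (iv D6806) (iv F31163)
theorem F44211 : act 5 n9865 = n9865 := d35_1 D9865 (iv D9865) (iv D6804) F22049 D6804
theorem F44212 : act 9 n9865 = n6815 := d41_2 (iv F31165) D9865 (iv D6815)
def n9866 : Q := act 8 n6804
theorem D9866 : act 8 n6804 = n9866 := rfl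
theorem F44213 : act 0 n9866 = n9866 := d7_1 D9866 (iv D9866) F31161
theorem F44214 : act 2 n9866 = n6913 := d22_1 D9866 (iv D6913) (iv F31162)
theorem F44215 : act 5 n9866 = n6805 := d37_1 D9866 (iv D6805) D6804
theorem F44216 : act 7 n9866 = n6834 := d42_1 D9866 (iv D6834) (iv F31164)
def n9867 : Q := act 9 n6805
theorem D9867 : act 9 n6805 = n9867 := rfl
theorem F44217 : act 0 n9867 = n9867 := d8_1 D9867 (iv D9867) F31166
theorem F44218 : act 2 n9867 = n6914 := d23_1 D9867 (iv D6914) (iv F31167)
theorem F44219 : act 6 n9867 = n9867 := d41_1 D9867 (iv D9867) F31168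
theorem F44220 : act 7 n9867 = n6835 := d43_1 D9867 (iv D6835) (iv F31169)
theorem F44221 : act 8 n9867 = n6817 := d44_1 D9867 (iv D6817) (iv D4711) (iv F22051) D6805
def n9868 : Q := act 7 n6806
theorem D9868 : act 7 n6806 = n9868 := rfl
theorem F44222 : act 0 n9868 = n9868 := d6_1 D9868 (iv D9868) F31170
theorem F44223 : act 2 n9868 = n6807 := d21_1 D9868 (iv D6807) (iv F31171)
theorem F44224 : act 5 n9868 = n9868 := d36_1 D9868 (iv D9868) F31172
theorem F44225 : act 6 n9868 = n6836 := d39_1 D9868 (iv D6836) (iv D4724) (iv F22054) D6806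
theorem F44226 : act 9 n9868 = n6818 := d43_2 (iv F31173) D9868 (iv D6818)
def n9869 : Q := act 2 n6808
theorem D9869 : act 2 n6808 = n9869 := rfl
theorem F44227 : act 0 n9869 = n6810 := d1_1 D9869 (iv D6810) (iv F31180)
theorem F44228 : act 3 n9869 = n7413 := d17_2 D6808 D9869 (iv D7413) (iv D5118) (iv F22063)
theorem F44229 : act 6 n9869 = n9869 := d20_2 F31182 D9869 (iv D9869)
theorem F44230 : act 7 n9869 = n6837 := d21_2 (iv F31183) D9869 (iv D6837)
def n9870 : Q := act 5 n6808
theorem D9870 : act 5 n6808 = n9870 := rfl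
theorem F44231 : act 0 n9870 = n6811 := d4_1 D9870 (iv D6811) (iv F31180)
theorem F44232 : act 1 n9870 = n9870 := d12_1 D9870 (iv D9870) F31181
theorem F44233 : act 3 n9870 = n6809 := d25_1 D9870 (iv D6809) D6808
theorem F44234 : act 7 n9870 = n6838 := d36_2 (iv F31183) D9870 (iv D6838)
def n9871 : Q := act 8 n6808
theorem D9871 : act 8 n6808 = n9871 := rfl
theorem F44235 : act 0 n9871 = n6812 := d7_1 D9871 (iv D6812) (iv F31180)
theorem F44236 : act 1 n9871 = n9871 := d15_1 D9871 (iv D9871) F31181
theorem F44237 : act 3 n9871 = n9871 := d28_1 D9871 (iv D9871) (iv D6808) F22066 D6808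
theorem F44238 : act 6 n9871 = n9871 := d40_1 D9871 (iv D9871) F31182
theorem F44239 : act 7 n9871 = n6839 := d42_1 D9871 (iv D6839) (iv F31183)
def n9872 : Q := act 6 n6809
theorem D9872 : act 6 n6809 = n9872 := rfl
theorem F44240 : act 0 n9872 = n6813 := d5_1 D9872 (iv D6813) (iv F31184)
theorem F44241 : act 1 n9872 = n9872 := d13_1 D9872 (iv D9872) F31185
theorem F44242 : act 2 n9872 = n7416 := d20_1 D9872 (iv D7416) (iv F31186)
theorem F44243 : act 5 n9872 = n9872 := d35_1 D9872 (iv D9872) (iv D6809) F22064 D6809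
theorem F44244 : act 8 n9872 = n9872 := d40_2 F31188 D9872 (iv D9872)
def n9873 : Q := act 5 n6810
theorem D9873 : act 5 n6810 = n9873 := rfl
theorem F44245 : act 1 n9873 = n6920 := d12_1 D9873 (iv D6920) (iv F31189)
theorem F44246 : act 2 n9873 = n6811 := d19_1 D9873 (iv D6811) D6810
theorem F44247 : act 3 n9873 = n7417 := d25_1 D9873 (iv D7417) (iv F31190)
theorem F44248 : act 7 n9873 = n6841 := d36_2 (iv F31192) D9873 (iv D6841)
def n9874 : Q := act 8 n6810
theorem D9874 : act 8 n6810 = n9874 := rfl
theorem F44249 : act 1 n9874 = n6921 := d15_1 D9874 (iv D6921) (iv F31189)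
theorem F44250 : act 2 n9874 = n6812 := d22_1 D9874 (iv D6812) D6810
theorem F44251 : act 6 n9874 = n9874 := d40_1 D9874 (iv D9874) F31191
theorem F44252 : act 7 n9874 = n6842 := d42_1 D9874 (iv D6842) (iv F31192)
def n9875 : Q := act 4 n6811
theorem D9875 : act 4 n6811 = n9875 := rfl
theorem F44253 : act 1 n9875 = n6814 := d11_1 D9875 (iv D6814) (iv F31193)
theorem F44254 : act 7 n9875 = n6843 := d32_2 (iv F31195) D9875 (iv D6843)
def n9876 : Q := act 6 n6811
theorem D9876 : act 6 n6811 = n9876 := rfl
theorem F44255 : act 1 n9876 = n6815 := d13_1 D9876 (iv D6815) (iv F31193)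
theorem F44256 : act 3 n9876 = n6813 := d26_1 D9876 (iv D6813) (iv F31194)
theorem F44257 : act 5 n9876 = n9876 := d35_1 D9876 (iv D9876) (iv D6811) F22068 D6811
def n9877 : Q := act 8 n6811
theorem D9877 : act 8 n6811 = n9877 := rfl
theorem F44258 : act 1 n9877 = n6816 := d15_1 D9877 (iv D6816) (iv F31193)
theorem F44259 : act 3 n9877 = n9877 := d28_1 D9877 (iv D9877) F31194 F22073 (iv F31194)
theorem F44260 : act 5 n9877 = n6812 := d37_1 D9877 (iv D6812) D6811
theorem F44261 : act 7 n9877 = n6845 := d42_1 D9877 (iv D6845) (iv F31195)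
def n9878 : Q := act 9 n6812
theorem D9878 : act 9 n6812 = n9878 := rfl
theorem F44262 : act 1 n9878 = n6817 := d16_1 D9878 (iv D6817) (iv F31196)
theorem F44263 : act 3 n9878 = n9878 := d29_1 D9878 (iv D9878) F31197
theorem F44264 : act 6 n9878 = n9878 := d41_1 D9878 (iv D9878) F31198
theorem F44265 : act 7 n9878 = n6846 := d43_1 D9878 (iv D6846) (iv F31199)
def n9879 : Q := act 7 n6813
theorem D9879 : act 7 n6813 = n9879 := rfl
theorem F44266 : act 1 n9879 = n6818 := d14_1 D9879 (iv D6818) (iv F31200)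
theorem F44267 : act 2 n9879 = n7423 := d21_1 D9879 (iv D7423) (iv F31201)
theorem F44268 : act 5 n9879 = n9879 := d36_1 D9879 (iv D9879) F31202
theorem F44269 : act 6 n9879 = n6847 := d39_1 D9879 (iv D6847) (iv D4731) (iv F22072) D6813
theorem F44270 : act 8 n9879 = n9879 := d42_2 F31203 D9879 (iv D9879)
def n9880 : Q := act 6 n6814
theorem D9880 : act 6 n6814 = n9880 := rfl
theorem F44271 : act 0 n9880 = n9880 := d5_1 D9880 (iv D9880) F31204
theorem F44272 : act 2 n9880 = n6927 := d20_1 D9880 (iv D6927) (iv F31205)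
theorem F44273 : act 4 n9880 = n6815 := d31_1 D9880 (iv D6815) D6814
def n9881 : Q := act 8 n6814
theorem D9881 : act 8 n6814 = n9881 := rfl
theorem F44274 : act 0 n9881 = n9881 := d7_1 D9881 (iv D9881) F31204
theorem F44275 : act 2 n9881 = n6928 := d22_1 D9881 (iv D6928) (iv F31205)
theorem F44276 : act 4 n9881 = n6816 := d33_1 D9881 (iv D6816) D6814
theorem F44277 : act 7 n9881 = n6849 := d42_1 D9881 (iv D6849) (iv F31206)
def n9882 : Q := act 7 n6815
theorem D9882 : act 7 n6815 = n9882 := rfl
theorem F44278 : act 0 n9882 = n9882 := d6_1 D9882 (iv D9882) F31207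
theorem F44279 : act 2 n9882 = n6929 := d21_1 D9882 (iv D6929) (iv F31208)
theorem F44280 : act 3 n9882 = n6818 := d27_1 D9882 (iv D6818) (iv F31209)
theorem F44281 : act 5 n9882 = n9882 := d36_1 D9882 (iv D9882) F31210
theorem F44282 : act 6 n9882 = n6850 := d39_1 D9882 (iv D6850) (iv D4733) (iv F22077) D6815
def n9883 : Q := act 8 n6815
theorem D9883 : act 8 n6815 = n9883 := rfl
theorem F44283 : act 0 n9883 = n9883 := d7_1 D9883 (iv D9883) F31207
theorem F44284 : act 2 n9883 = n6930 := d22_1 D9883 (iv D6930) (iv F31208)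
theorem F44285 : act 3 n9883 = n9883 := d28_1 D9883 (iv D9883) F31209 F22086 (iv F31209)
theorem F44286 : act 5 n9883 = n9883 := d37_1 D9883 (iv D9883) F31210
theorem F44287 : act 6 n9883 = n6816 := d40_1 D9883 (iv D6816) D6815
def n9884 : Q := act 9 n6816
theorem D9884 : act 9 n6816 = n9884 := rfl
theorem F44288 : act 0 n9884 = n9884 := d8_1 D9884 (iv D9884) F31211
theorem F44289 : act 2 n9884 = n6931 := d23_1 D9884 (iv D6931) (iv F31212)
theorem F44290 : act 3 n9884 = n9884 := d29_1 D9884 (iv D9884) F31213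
theorem F44291 : act 5 n9884 = n6817 := d38_1 D9884 (iv D6817) (iv F31214)
theorem F44292 : act 7 n9884 = n6852 := d43_1 D9884 (iv D6852) (iv F31215)
def n9886 : Q := act 5 n6819
theorem D9886 : act 5 n6819 = n9886 := rfl
theorem F44301 : act 8 n9886 = n6827 := d37_2 (iv F31230) D9886 (iv D6827)
def n9888 : Q := act 5 n6820
theorem D9888 : act 5 n6820 = n9888 := rfl
theorem F44308 : act 1 n9888 = n6822 := d12_1 D9888 (iv D6822) (iv F31232)
theorem F44309 : act 3 n9888 = n6821 := d25_1 D9888 (iv D6821) D6820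
def n9889 : Q := act 8 n6820
theorem D9889 : act 8 n6820 = n9889 := rfl
theorem F44311 : act 1 n9889 = n6823 := d15_1 D9889 (iv D6823) (iv F31232)
theorem F44312 : act 3 n9889 = n6830 := d28_1 D9889 (iv D6830) (iv D4720) (iv F22102) D6820
def n9890 : Q := act 6 n6821
theorem D9890 : act 6 n6821 = n9890 := rfl
theorem F44315 : act 1 n9890 = n6824 := d13_1 D9890 (iv D6824) (iv F31236)
theorem F44318 : act 8 n9890 = n6831 := d40_2 (iv F31238) D9890 (iv D6831)
def n9891 : Q := act 4 n6822
theorem D9891 : act 4 n6822 = n9891 := rfl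
theorem F44320 : act 0 n9891 = n9891 := d3_1 D9891 (iv D9891) F31240
theorem F44321 : act 2 n9891 = n9891 := d18_1 D9891 (iv D9891) F31241
theorem F44322 : act 5 n9891 = n9891 := d30_2 D6822 D9891 (iv D9891) (iv D6822) F22106
theorem F44323 : act 9 n9891 = n9891 := d34_2 F31243 D9891 (iv D9891)
def n9892 : Q := act 6 n6822
theorem D9892 : act 6 n6822 = n9892 := rfl
theorem F44324 : act 0 n9892 = n9892 := d5_1 D9892 (iv D9892) F31240
theorem F44325 : act 2 n9892 = n9892 := d20_1 D9892 (iv D9892) F31241
theorem F44326 : act 3 n9892 = n6824 := d26_1 D9892 (iv D6824) (iv F31242)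
theorem F44327 : act 5 n9892 = n6860 := d35_1 D9892 (iv D6860) (iv D4740) (iv F22107) D6822
theorem F44328 : act 9 n9892 = n9892 := d41_2 F31243 D9892 (iv D9892)
def n9893 : Q := act 8 n6822
theorem D9893 : act 8 n6822 = n9893 := rfl
theorem F44329 : act 0 n9893 = n9893 := d7_1 D9893 (iv D9893) F31240
theorem F44330 : act 2 n9893 = n9893 := d22_1 D9893 (iv D9893) F31241
theorem F44331 : act 3 n9893 = n6834 := d28_1 D9893 (iv D6834) F22132 (iv F22111) (iv F31242)
theorem F44332 : act 5 n9893 = n6823 := d37_1 D9893 (iv D6823) D6822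
def n9894 : Q := act 9 n6823
theorem D9894 : act 9 n6823 = n9894 := rfl
theorem F44333 : act 0 n9894 = n9894 := d8_1 D9894 (iv D9894) F31244
theorem F44334 : act 2 n9894 = n9894 := d23_1 D9894 (iv D9894) F31245
theorem F44335 : act 3 n9894 = n6835 := d29_1 D9894 (iv D6835) (iv F31246)
theorem F44336 : act 4 n9894 = n9894 := d34_1 D9894 (iv D9894) F31247
theorem F44337 : act 6 n9894 = n6862 := d41_1 D9894 (iv D6862) (iv F31248)
theorem F44338 : act 8 n9894 = n9894 := d44_1 D9894 (iv D9894) (iv D6823) F22108 D6823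
def n9895 : Q := act 7 n6824
theorem D9895 : act 7 n6824 = n9895 := rfl
theorem F44339 : act 0 n9895 = n9895 := d6_1 D9895 (iv D9895) F31249
theorem F44340 : act 2 n9895 = n6825 := d21_1 D9895 (iv D6825) (iv F31250)
theorem F44341 : act 5 n9895 = n6863 := d36_1 D9895 (iv D6863) (iv F31251)
theorem F44342 : act 8 n9895 = n6836 := d42_2 (iv F31252) D9895 (iv D6836)
theorem F44343 : act 9 n9895 = n9895 := d43_2 F31253 D9895 (iv D9895)
def n9896 : Q := act 2 n6826
theorem D9896 : act 2 n6826 = n9896 := rfl
theorem F44344 : act 0 n9896 = n6828 := d1_1 D9896 (iv D6828) (iv F31260)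
theorem F44345 : act 3 n9896 = n7447 := d17_2 D6826 D9896 (iv D7447) (iv D5141) (iv F22121)
theorem F44346 : act 6 n9896 = n6864 := d20_2 (iv F31262) D9896 (iv D6864)
theorem F44347 : act 9 n9896 = n6837 := d23_2 (iv F31263) D9896 (iv D6837)
def n9897 : Q := act 5 n6826
theorem D9897 : act 5 n6826 = n9897 := rfl
theorem F44348 : act 0 n9897 = n6829 := d4_1 D9897 (iv D6829) (iv F31260)
theorem F44350 : act 3 n9897 = n6827 := d25_1 D9897 (iv D6827) D6826
theorem F44351 : act 9 n9897 = n6838 := d38_2 (iv F31263) D9897 (iv D6838)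
def n9898 : Q := act 8 n6826
theorem D9898 : act 8 n6826 = n9898 := rfl
theorem F44352 : act 0 n9898 = n6830 := d7_1 D9898 (iv D6830) (iv F31260)
def n9899 : Q := act 6 n6827
theorem D9899 : act 6 n6827 = n9899 := rfl
theorem F44355 : act 0 n9899 = n6831 := d5_1 D9899 (iv D6831) (iv F31264)
theorem F44359 : act 9 n9899 = n6840 := d41_2 (iv F31267) D9899 (iv D6840)
def n9900 : Q := act 5 n6828
theorem D9900 : act 5 n6828 = n9900 := rfl
theorem F44360 : act 1 n9900 = n6936 := d12_1 D9900 (iv D6936) (iv F31268)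
theorem F44361 : act 2 n9900 = n6829 := d19_1 D9900 (iv D6829) D6828
theorem F44362 : act 3 n9900 = n7451 := d25_1 D9900 (iv D7451) (iv F31269)
theorem F44363 : act 9 n9900 = n6841 := d38_2 (iv F31271) D9900 (iv D6841)
def n9901 : Q := act 8 n6828
theorem D9901 : act 8 n6828 = n9901 := rfl
theorem F44364 : act 1 n9901 = n6937 := d15_1 D9901 (iv D6937) (iv F31268)
theorem F44365 : act 2 n9901 = n6830 := d22_1 D9901 (iv D6830) D6828
theorem F44366 : act 6 n9901 = n6869 := d40_1 D9901 (iv D6869) (iv F31270)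
def n9902 : Q := act 4 n6829
theorem D9902 : act 4 n6829 = n9902 := rfl
theorem F44367 : act 1 n9902 = n6832 := d11_1 D9902 (iv D6832) (iv F31272)
theorem F44368 : act 9 n9902 = n6843 := d34_2 (iv F31274) D9902 (iv D6843)
def n9903 : Q := act 6 n6829
theorem D9903 : act 6 n6829 = n9903 := rfl
theorem F44369 : act 1 n9903 = n6833 := d13_1 D9903 (iv D6833) (iv F31272)
theorem F44370 : act 3 n9903 = n6831 := d26_1 D9903 (iv D6831) (iv F31273)
theorem F44371 : act 5 n9903 = n6871 := d35_1 D9903 (iv D6871) (iv D4747) (iv F22125) D6829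
theorem F44372 : act 9 n9903 = n6844 := d41_2 (iv F31274) D9903 (iv D6844)
def n9904 : Q := act 8 n6829
theorem D9904 : act 8 n6829 = n9904 := rfl
theorem F44373 : act 1 n9904 = n6834 := d15_1 D9904 (iv D6834) (iv F31272)
theorem F44374 : act 5 n9904 = n6830 := d37_1 D9904 (iv D6830) D6829
def n9905 : Q := act 9 n6830
theorem D9905 : act 9 n6830 = n9905 := rfl
theorem F44375 : act 1 n9905 = n6835 := d16_1 D9905 (iv D6835) (iv F31275)
theorem F44376 : act 6 n9905 = n6873 := d41_1 D9905 (iv D6873) (iv F31276)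
theorem F44377 : act 8 n9905 = n6846 := d44_1 D9905 (iv D6846) (iv D4730) (iv F22126) D6830
def n9906 : Q := act 7 n6831
theorem D9906 : act 7 n6831 = n9906 := rfl
theorem F44378 : act 1 n9906 = n6836 := d14_1 D9906 (iv D6836) (iv F31277)
theorem F44379 : act 2 n9906 = n7457 := d21_1 D9906 (iv D7457) (iv F31278)
theorem F44380 : act 5 n9906 = n6874 := d36_1 D9906 (iv D6874) (iv F31279)
theorem F44381 : act 9 n9906 = n6847 := d43_2 (iv F31280) D9906 (iv D6847)
def n9907 : Q := act 6 n6832
theorem D9907 : act 6 n6832 = n9907 := rfl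
theorem F44382 : act 0 n9907 = n9907 := d5_1 D9907 (iv D9907) F31281
theorem F44383 : act 2 n9907 = n6943 := d20_1 D9907 (iv D6943) (iv F31282)
theorem F44384 : act 4 n9907 = n6833 := d31_1 D9907 (iv D6833) D6832
theorem F44385 : act 9 n9907 = n6848 := d41_2 (iv F31283) D9907 (iv D6848)
def n9908 : Q := act 8 n6832
theorem D9908 : act 8 n6832 = n9908 := rfl
theorem F44386 : act 0 n9908 = n9908 := d7_1 D9908 (iv D9908) F31281
theorem F44387 : act 2 n9908 = n6944 := d22_1 D9908 (iv D6944) (iv F31282)
theorem F44388 : act 4 n9908 = n6834 := d33_1 D9908 (iv D6834) D6832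
def n9909 : Q := act 7 n6833
theorem D9909 : act 7 n6833 = n9909 := rfl
theorem F44389 : act 0 n9909 = n9909 := d6_1 D9909 (iv D9909) F31284
theorem F44390 : act 2 n9909 = n6945 := d21_1 D9909 (iv D6945) (iv F31285)
theorem F44391 : act 3 n9909 = n6836 := d27_1 D9909 (iv D6836) (iv F31286)
theorem F44392 : act 5 n9909 = n6877 := d36_1 D9909 (iv D6877) (iv F31287)
theorem F44393 : act 9 n9909 = n6850 := d43_2 (iv F31288) D9909 (iv D6850)
def n9910 : Q := act 8 n6833
theorem D9910 : act 8 n6833 = n9910 := rfl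
theorem F44394 : act 0 n9910 = n9910 := d7_1 D9910 (iv D9910) F31284
theorem F44395 : act 2 n9910 = n6946 := d22_1 D9910 (iv D6946) (iv F31285)
theorem F44396 : act 5 n9910 = n6878 := d37_1 D9910 (iv D6878) (iv F31287)
theorem F44397 : act 6 n9910 = n6834 := d40_1 D9910 (iv D6834) D6833
def n9911 : Q := act 9 n6834
theorem D9911 : act 9 n6834 = n9911 := rfl
theorem F44398 : act 0 n9911 = n9911 := d8_1 D9911 (iv D9911) F31289
theorem F44399 : act 2 n9911 = n6947 := d23_1 D9911 (iv D6947) (iv F31290)
theorem F44400 : act 5 n9911 = n6835 := d38_1 D9911 (iv D6835) (iv F31291)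
theorem F44401 : act 8 n9911 = n6852 := d44_1 D9911 (iv D6852) (iv D4734) (iv F22133) D6834
def n9912 : Q := act 1 n6837
theorem D9912 : act 1 n6837 = n9912 := rfl
theorem F44402 : act 0 n9912 = n6948 := d0_1 D9912 (iv D6948) F22456 (iv F22153) (iv F31300)
theorem F44403 : act 2 n9912 = n9912 := d9_2 D6837 D9912 (iv D9912) (iv D6837) F22147
theorem F44404 : act 3 n9912 = n7463 := d10_2 (iv F31301) D9912 (iv D7463)
theorem F44405 : act 6 n9912 = n6880 := d13_2 (iv F31302) D9912 (iv D6880)
def n9913 : Q := act 5 n6837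
theorem D9913 : act 5 n6837 = n9913 := rfl
theorem F44406 : act 0 n9913 = n6841 := d4_1 D9913 (iv D6841) (iv F31300)
theorem F44407 : act 2 n9913 = n6838 := d19_1 D9913 (iv D6838) D6837
theorem F44408 : act 3 n9913 = n7464 := d25_1 D9913 (iv D7464) (iv F31301)
def n9914 : Q := act 8 n6837
theorem D9914 : act 8 n6837 = n9914 := rfl
theorem F44409 : act 0 n9914 = n6842 := d7_1 D9914 (iv D6842) (iv F31300)
theorem F44410 : act 2 n9914 = n6839 := d22_1 D9914 (iv D6839) D6837
theorem F44411 : act 6 n9914 = n6882 := d40_1 D9914 (iv D6882) (iv F31302)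
def n9915 : Q := act 4 n6838
theorem D9915 : act 4 n6838 = n9915 := rfl
theorem F44412 : act 0 n9915 = n6843 := d3_1 D9915 (iv D6843) (iv F31303)
theorem F44413 : act 1 n9915 = n9915 := d11_1 D9915 (iv D9915) F31304
def n9916 : Q := act 6 n6838
theorem D9916 : act 6 n6838 = n9916 := rfl
theorem F44414 : act 0 n9916 = n6844 := d5_1 D9916 (iv D6844) (iv F31303)
theorem F44415 : act 1 n9916 = n9916 := d13_1 D9916 (iv D9916) F31304
theorem F44416 : act 3 n9916 = n6840 := d26_1 D9916 (iv D6840) (iv F31305)
theorem F44417 : act 5 n9916 = n6884 := d35_1 D9916 (iv D6884) (iv D4756) (iv F22148) D6838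
def n9917 : Q := act 8 n6838
theorem D9917 : act 8 n6838 = n9917 := rfl
theorem F44418 : act 0 n9917 = n6845 := d7_1 D9917 (iv D6845) (iv F31303)
theorem F44419 : act 1 n9917 = n9917 := d15_1 D9917 (iv D9917) F31304
theorem F44420 : act 3 n9917 = n9917 := d28_1 D9917 (iv D9917) F31305 F22152 (iv F31305)
theorem F44421 : act 5 n9917 = n6839 := d37_1 D9917 (iv D6839) D6838
def n9918 : Q := act 9 n6839
theorem D9918 : act 9 n6839 = n9918 := rfl
theorem F44422 : act 0 n9918 = n6846 := d8_1 D9918 (iv D6846) (iv F31306)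
theorem F44423 : act 1 n9918 = n9918 := d16_1 D9918 (iv D9918) F31307
theorem F44424 : act 3 n9918 = n9918 := d29_1 D9918 (iv D9918) F31308
theorem F44425 : act 6 n9918 = n6886 := d41_1 D9918 (iv D6886) (iv F31309)
def n9919 : Q := act 7 n6840
theorem D9919 : act 7 n6840 = n9919 := rfl
theorem F44426 : act 0 n9919 = n6847 := d6_1 D9919 (iv D6847) (iv F31310)
theorem F44427 : act 1 n9919 = n9919 := d14_1 D9919 (iv D9919) F31311
theorem F44428 : act 2 n9919 = n7470 := d21_1 D9919 (iv D7470) (iv F31312)
theorem F44429 : act 5 n9919 = n6887 := d36_1 D9919 (iv D6887) (iv F31313)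
theorem F44430 : act 8 n9919 = n9919 := d42_2 F31314 D9919 (iv D9919)
def n9920 : Q := act 4 n6841
theorem D9920 : act 4 n6841 = n9920 := rfl
theorem F44431 : act 1 n9920 = n6956 := d11_1 D9920 (iv D6956) (iv F31315)
theorem F44432 : act 2 n9920 = n6843 := d18_1 D9920 (iv D6843) (iv F31316)
def n9921 : Q := act 6 n6841
theorem D9921 : act 6 n6841 = n9921 := rfl
theorem F44433 : act 1 n9921 = n6957 := d13_1 D9921 (iv D6957) (iv F31315)
theorem F44434 : act 2 n9921 = n6844 := d20_1 D9921 (iv D6844) (iv F31316)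
theorem F44435 : act 3 n9921 = n7472 := d26_1 D9921 (iv D7472) (iv F31317)
theorem F44436 : act 5 n9921 = n6889 := d35_1 D9921 (iv D6889) (iv D4759) (iv F22155) D6841
def n9922 : Q := act 8 n6841
theorem D9922 : act 8 n6841 = n9922 := rfl
theorem F44437 : act 1 n9922 = n6958 := d15_1 D9922 (iv D6958) (iv F31315)
theorem F44438 : act 2 n9922 = n6845 := d22_1 D9922 (iv D6845) (iv F31316)
theorem F44439 : act 5 n9922 = n6842 := d37_1 D9922 (iv D6842) D6841
def n9923 : Q := act 3 n6842
theorem D9923 : act 3 n6842 = n9923 := rfl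
theorem F44440 : act 1 n9923 = n6959 := d10_1 D9923 (iv D6959) (iv F31318)
theorem F44441 : act 2 n9923 = n9923 := d17_1 D9923 (iv D9923) F31319 F22159 (iv F31319)
theorem F44442 : act 6 n9923 = n6891 := d26_2 (iv F31320) D9923 (iv D6891)
theorem F44443 : act 8 n9923 = n7474 := d28_2 D6842 D9923 (iv D7474) (iv D5157) (iv F22154)
def n9924 : Q := act 9 n6842
theorem D9924 : act 9 n6842 = n9924 := rfl
theorem F44444 : act 1 n9924 = n6960 := d16_1 D9924 (iv D6960) (iv F31318)
theorem F44445 : act 2 n9924 = n6846 := d23_1 D9924 (iv D6846) (iv F31319)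
theorem F44446 : act 6 n9924 = n6892 := d41_1 D9924 (iv D6892) (iv F31320)
def n9925 : Q := act 6 n6843
theorem D9925 : act 6 n6843 = n9925 := rfl
theorem F44447 : act 1 n9925 = n6848 := d13_1 D9925 (iv D6848) (iv F31321)
theorem F44448 : act 4 n9925 = n6844 := d31_1 D9925 (iv D6844) D6843
def n9926 : Q := act 8 n6843
theorem D9926 : act 8 n6843 = n9926 := rfl
theorem F44449 : act 1 n9926 = n6849 := d15_1 D9926 (iv D6849) (iv F31321)
theorem F44450 : act 4 n9926 = n6845 := d33_1 D9926 (iv D6845) D6843
def n9927 : Q := act 7 n6844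
theorem D9927 : act 7 n6844 = n9927 := rfl
theorem F44451 : act 1 n9927 = n6850 := d14_1 D9927 (iv D6850) (iv F31322)
theorem F44452 : act 3 n9927 = n6847 := d27_1 D9927 (iv D6847) (iv F31323)
theorem F44453 : act 5 n9927 = n6895 := d36_1 D9927 (iv D6895) (iv F31324)
def n9928 : Q := act 8 n6844
theorem D9928 : act 8 n6844 = n9928 := rfl
theorem F44454 : act 1 n9928 = n6851 := d15_1 D9928 (iv D6851) (iv F31322)
theorem F44455 : act 3 n9928 = n9928 := d28_1 D9928 (iv D9928) F31323 F22164 (iv F31323)
theorem F44456 : act 5 n9928 = n6896 := d37_1 D9928 (iv D6896) (iv F31324)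
theorem F44457 : act 6 n9928 = n6845 := d40_1 D9928 (iv D6845) D6844
def n9929 : Q := act 9 n6845
theorem D9929 : act 9 n6845 = n9929 := rfl
theorem F44458 : act 1 n9929 = n6852 := d16_1 D9929 (iv D6852) (iv F31325)
theorem F44459 : act 3 n9929 = n9929 := d29_1 D9929 (iv D9929) F31326
theorem F44460 : act 5 n9929 = n6846 := d38_1 D9929 (iv D6846) (iv F31327)
def n9930 : Q := act 5 n6848
theorem D9930 : act 5 n6848 = n9930 := rfl
theorem F44461 : act 0 n9930 = n9930 := d4_1 D9930 (iv D9930) F31335
theorem F44462 : act 2 n9930 = n6966 := d19_1 D9930 (iv D6966) (iv F31336)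
theorem F44463 : act 4 n9930 = n6898 := d30_1 D9930 (iv D6898) F22310 (iv F22170) (iv F31337)
def n9931 : Q := act 7 n6848
theorem D9931 : act 7 n6848 = n9931 := rfl
theorem F44464 : act 0 n9931 = n9931 := d6_1 D9931 (iv D9931) F31335
theorem F44465 : act 2 n9931 = n6967 := d21_1 D9931 (iv D6967) (iv F31336)
theorem F44466 : act 4 n9931 = n6850 := d32_1 D9931 (iv D6850) (iv F31337)
def n9932 : Q := act 8 n6848
theorem D9932 : act 8 n6848 = n9932 := rfl
theorem F44467 : act 0 n9932 = n9932 := d7_1 D9932 (iv D9932) F31335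
theorem F44468 : act 2 n9932 = n6968 := d22_1 D9932 (iv D6968) (iv F31336)
theorem F44469 : act 4 n9932 = n6851 := d33_1 D9932 (iv D6851) (iv F31337)
theorem F44470 : act 6 n9932 = n6849 := d40_1 D9932 (iv D6849) D6848
def n9933 : Q := act 3 n6849
theorem D9933 : act 3 n6849 = n9933 := rfl
theorem F44471 : act 0 n9933 = n9933 := d2_1 D9933 (iv D9933) F31338
theorem F44472 : act 4 n9933 = n9933 := d24_2 (iv F31340) D9933 (iv D9933) F31340 F22173
def n9934 : Q := act 9 n6849
theorem D9934 : act 9 n6849 = n9934 := rfl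
theorem F44473 : act 0 n9934 = n9934 := d8_1 D9934 (iv D9934) F31338
theorem F44474 : act 2 n9934 = n6970 := d23_1 D9934 (iv D6970) (iv F31339)
theorem F44475 : act 4 n9934 = n6852 := d34_1 D9934 (iv D6852) (iv F31340)
def n9935 : Q := act 8 n6850
theorem D9935 : act 8 n6850 = n9935 := rfl
theorem F44476 : act 0 n9935 = n9935 := d7_1 D9935 (iv D9935) F31341
theorem F44477 : act 2 n9935 = n6971 := d22_1 D9935 (iv D6971) (iv F31342)
theorem F44478 : act 3 n9935 = n9935 := d28_1 D9935 (iv D9935) F31343 F22182 (iv F31343)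
theorem F44479 : act 5 n9935 = n6903 := d37_1 D9935 (iv D6903) (iv F31344)
theorem F44480 : act 7 n9935 = n6851 := d42_1 D9935 (iv D6851) D6850
def n9936 : Q := act 9 n6851
theorem D9936 : act 9 n6851 = n9936 := rfl
theorem F44481 : act 0 n9936 = n9936 := d8_1 D9936 (iv D9936) F31345
theorem F44482 : act 2 n9936 = n6972 := d23_1 D9936 (iv D6972) (iv F31346)
theorem F44483 : act 3 n9936 = n9936 := d29_1 D9936 (iv D9936) F31347
theorem F44484 : act 5 n9936 = n6904 := d38_1 D9936 (iv D6904) (iv F31348)
theorem F44485 : act 6 n9936 = n6852 := d41_1 D9936 (iv D6852) (iv F31349)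
def n9940 : Q := act 6 n6854
theorem D9940 : act 6 n6854 = n9940 := rfl
theorem F44505 : act 8 n9940 = n6867 := d40_2 (iv F31364) D9940 (iv D6867)
def n9941 : Q := act 5 n6855
theorem D9941 : act 5 n6855 = n9941 := rfl
theorem F44508 : act 2 n9941 = n6856 := d19_1 D9941 (iv D6856) D6855
theorem F44509 : act 3 n9941 = n7503 := d25_1 D9941 (iv D7503) (iv F31367)
def n9943 : Q := act 4 n6856
theorem D9943 : act 4 n6856 = n9943 := rfl
theorem F44516 : act 1 n9943 = n6859 := d11_1 D9943 (iv D6859) (iv F31371)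
def n9944 : Q := act 6 n6856
theorem D9944 : act 6 n6856 = n9944 := rfl
theorem F44521 : act 1 n9944 = n6860 := d13_1 D9944 (iv D6860) (iv F31371)
theorem F44522 : act 3 n9944 = n6858 := d26_1 D9944 (iv D6858) (iv F31372)
def n9945 : Q := act 8 n6856
theorem D9945 : act 8 n6856 = n9945 := rfl
theorem F44524 : act 1 n9945 = n6861 := d15_1 D9945 (iv D6861) (iv F31371)
theorem F44525 : act 3 n9945 = n6872 := d28_1 D9945 (iv D6872) F22236 (iv F22197) (iv F31372)
def n9946 : Q := act 9 n6857
theorem D9946 : act 9 n6857 = n9946 := rfl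
theorem F44528 : act 1 n9946 = n6862 := d16_1 D9946 (iv D6862) (iv F31375)
theorem F44529 : act 3 n9946 = n6873 := d29_1 D9946 (iv D6873) (iv F31376)
def n9947 : Q := act 7 n6858
theorem D9947 : act 7 n6858 = n9947 := rfl
theorem F44533 : act 1 n9947 = n6863 := d14_1 D9947 (iv D6863) (iv F31379)
theorem F44537 : act 8 n9947 = n6874 := d42_2 (iv F31382) D9947 (iv D6874)
def n9948 : Q := act 6 n6859
theorem D9948 : act 6 n6859 = n9948 := rfl
theorem F44539 : act 0 n9948 = n9948 := d5_1 D9948 (iv D9948) F31384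
theorem F44540 : act 2 n9948 = n9948 := d20_1 D9948 (iv D9948) F31385
theorem F44541 : act 3 n9948 = n9948 := d26_1 D9948 (iv D9948) F31386
theorem F44542 : act 4 n9948 = n6860 := d31_1 D9948 (iv D6860) D6859
theorem F44543 : act 9 n9948 = n9948 := d41_2 F31389 D9948 (iv D9948)
def n9949 : Q := act 8 n6859
theorem D9949 : act 8 n6859 = n9949 := rfl
theorem F44544 : act 0 n9949 = n9949 := d7_1 D9949 (iv D9949) F31384
theorem F44545 : act 2 n9949 = n9949 := d22_1 D9949 (iv D9949) F31385
theorem F44546 : act 4 n9949 = n6861 := d33_1 D9949 (iv D6861) D6859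
theorem F44547 : act 5 n9949 = n9949 := d37_1 D9949 (iv D9949) F31387
theorem F44548 : act 7 n9949 = n9949 := d42_1 D9949 (iv D9949) F31388
def n9950 : Q := act 7 n6860
theorem D9950 : act 7 n6860 = n9950 := rfl
theorem F44549 : act 0 n9950 = n9950 := d6_1 D9950 (iv D9950) F31390
theorem F44550 : act 2 n9950 = n9950 := d21_1 D9950 (iv D9950) F31391
theorem F44551 : act 3 n9950 = n6863 := d27_1 D9950 (iv D6863) (iv F31392)
theorem F44552 : act 6 n9950 = n9950 := d39_1 D9950 (iv D9950) (iv D6860) F22202 D6860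
theorem F44553 : act 9 n9950 = n9950 := d43_2 F31393 D9950 (iv D9950)
def n9951 : Q := act 8 n6860
theorem D9951 : act 8 n6860 = n9951 := rfl
theorem F44554 : act 0 n9951 = n9951 := d7_1 D9951 (iv D9951) F31390
theorem F44555 : act 2 n9951 = n9951 := d22_1 D9951 (iv D9951) F31391
theorem F44556 : act 3 n9951 = n6878 := d28_1 D9951 (iv D6878) F22252 (iv F22212) (iv F31392)
theorem F44557 : act 6 n9951 = n6861 := d40_1 D9951 (iv D6861) D6860
def n9952 : Q := act 9 n6861
theorem D9952 : act 9 n6861 = n9952 := rfl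
theorem F44558 : act 0 n9952 = n9952 := d8_1 D9952 (iv D9952) F31394
theorem F44559 : act 2 n9952 = n9952 := d23_1 D9952 (iv D9952) F31395
theorem F44560 : act 3 n9952 = n6879 := d29_1 D9952 (iv D6879) (iv F31396)
theorem F44561 : act 5 n9952 = n6862 := d38_1 D9952 (iv D6862) (iv F31397)
theorem F44562 : act 7 n9952 = n9952 := d43_1 D9952 (iv D9952) F31398
theorem F44563 : act 8 n9952 = n9952 := d44_1 D9952 (iv D9952) (iv D6861) F22203 D6861
def n9953 : Q := act 1 n6864
theorem D9953 : act 1 n6864 = n9953 := rfl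
theorem F44564 : act 0 n9953 = n6973 := d0_1 D9953 (iv D6973) F22507 (iv F22231) (iv F31411)
theorem F44566 : act 3 n9953 = n7515 := d10_2 (iv F31412) D9953 (iv D7515)
theorem F44568 : act 9 n9953 = n6880 := d16_2 (iv F31414) D9953 (iv D6880)
def n9954 : Q := act 5 n6864
theorem D9954 : act 5 n6864 = n9954 := rfl
theorem F44569 : act 0 n9954 = n6868 := d4_1 D9954 (iv D6868) (iv F31411)
theorem F44570 : act 2 n9954 = n6865 := d19_1 D9954 (iv D6865) D6864
theorem F44571 : act 3 n9954 = n7516 := d25_1 D9954 (iv D7516) (iv F31412)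
theorem F44573 : act 9 n9954 = n6881 := d38_2 (iv F31414) D9954 (iv D6881)
def n9955 : Q := act 8 n6864
theorem D9955 : act 8 n6864 = n9955 := rfl
theorem F44574 : act 0 n9955 = n6869 := d7_1 D9955 (iv D6869) (iv F31411)
theorem F44575 : act 2 n9955 = n6866 := d22_1 D9955 (iv D6866) D6864
def n9956 : Q := act 4 n6865
theorem D9956 : act 4 n6865 = n9956 := rfl
theorem F44577 : act 0 n9956 = n6870 := d3_1 D9956 (iv D6870) (iv F31415)
theorem F44581 : act 9 n9956 = n6883 := d34_2 (iv F31419) D9956 (iv D6883)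
def n9957 : Q := act 6 n6865
theorem D9957 : act 6 n6865 = n9957 := rfl
theorem F44582 : act 0 n9957 = n6871 := d5_1 D9957 (iv D6871) (iv F31415)
theorem F44584 : act 3 n9957 = n6867 := d26_1 D9957 (iv D6867) (iv F31417)
theorem F44585 : act 9 n9957 = n6884 := d41_2 (iv F31419) D9957 (iv D6884)
def n9958 : Q := act 8 n6865
theorem D9958 : act 8 n6865 = n9958 := rfl
theorem F44586 : act 0 n9958 = n6872 := d7_1 D9958 (iv D6872) (iv F31415)
def n9959 : Q := act 9 n6866
theorem D9959 : act 9 n6866 = n9959 := rfl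
theorem F44590 : act 0 n9959 = n6873 := d8_1 D9959 (iv D6873) (iv F31420)
theorem F44593 : act 8 n9959 = n6886 := d44_1 D9959 (iv D6886) (iv D4757) (iv F22224) D6866
def n9960 : Q := act 7 n6867
theorem D9960 : act 7 n6867 = n9960 := rfl
theorem F44594 : act 0 n9960 = n6874 := d6_1 D9960 (iv D6874) (iv F31423)
theorem F44596 : act 2 n9960 = n7522 := d21_1 D9960 (iv D7522) (iv F31425)
theorem F44599 : act 9 n9960 = n6887 := d43_2 (iv F31427) D9960 (iv D6887)
def n9961 : Q := act 4 n6868
theorem D9961 : act 4 n6868 = n9961 := rfl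
theorem F44600 : act 1 n9961 = n6981 := d11_1 D9961 (iv D6981) (iv F31428)
theorem F44601 : act 2 n9961 = n6870 := d18_1 D9961 (iv D6870) (iv F31429)
theorem F44602 : act 7 n9961 = n9961 := d32_2 F31431 D9961 (iv D9961)
theorem F44603 : act 9 n9961 = n6888 := d34_2 (iv F31432) D9961 (iv D6888)
def n9962 : Q := act 6 n6868
theorem D9962 : act 6 n6868 = n9962 := rfl
theorem F44604 : act 1 n9962 = n6982 := d13_1 D9962 (iv D6982) (iv F31428)
theorem F44605 : act 2 n9962 = n6871 := d20_1 D9962 (iv D6871) (iv F31429)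
theorem F44606 : act 3 n9962 = n7524 := d26_1 D9962 (iv D7524) (iv F31430)
theorem F44607 : act 9 n9962 = n6889 := d41_2 (iv F31432) D9962 (iv D6889)
def n9963 : Q := act 8 n6868
theorem D9963 : act 8 n6868 = n9963 := rfl
theorem F44608 : act 1 n9963 = n6983 := d15_1 D9963 (iv D6983) (iv F31428)
theorem F44609 : act 2 n9963 = n6872 := d22_1 D9963 (iv D6872) (iv F31429)
theorem F44610 : act 5 n9963 = n6869 := d37_1 D9963 (iv D6869) D6868
theorem F44611 : act 7 n9963 = n9963 := d42_1 D9963 (iv D9963) F31431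
def n9964 : Q := act 3 n6869
theorem D9964 : act 3 n6869 = n9964 := rfl
theorem F44612 : act 1 n9964 = n6984 := d10_1 D9964 (iv D6984) (iv F31433)
theorem F44614 : act 8 n9964 = n7526 := d28_2 D6869 D9964 (iv D7526) (iv D5191) (iv F22232)
def n9965 : Q := act 9 n6869
theorem D9965 : act 9 n6869 = n9965 := rfl
theorem F44615 : act 1 n9965 = n6985 := d16_1 D9965 (iv D6985) (iv F31433)
theorem F44616 : act 2 n9965 = n6873 := d23_1 D9965 (iv D6873) (iv F31434)
theorem F44617 : act 7 n9965 = n9965 := d43_1 D9965 (iv D9965) F31435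
theorem F44618 : act 8 n9965 = n6892 := d44_1 D9965 (iv D6892) (iv D4760) (iv F22234) D6869
def n9966 : Q := act 6 n6870
theorem D9966 : act 6 n6870 = n9966 := rfl
theorem F44619 : act 1 n9966 = n6875 := d13_1 D9966 (iv D6875) (iv F31436)
theorem F44620 : act 3 n9966 = n9966 := d26_1 D9966 (iv D9966) F31437
theorem F44621 : act 4 n9966 = n6871 := d31_1 D9966 (iv D6871) D6870
theorem F44622 : act 9 n9966 = n6893 := d41_2 (iv F31439) D9966 (iv D6893)
def n9967 : Q := act 8 n6870
theorem D9967 : act 8 n6870 = n9967 := rfl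
theorem F44623 : act 1 n9967 = n6876 := d15_1 D9967 (iv D6876) (iv F31436)
theorem F44624 : act 4 n9967 = n6872 := d33_1 D9967 (iv D6872) D6870
theorem F44625 : act 7 n9967 = n9967 := d42_1 D9967 (iv D9967) F31438
def n9968 : Q := act 7 n6871
theorem D9968 : act 7 n6871 = n9968 := rfl
theorem F44626 : act 1 n9968 = n6877 := d14_1 D9968 (iv D6877) (iv F31440)
theorem F44627 : act 3 n9968 = n6874 := d27_1 D9968 (iv D6874) (iv F31441)
theorem F44628 : act 6 n9968 = n9968 := d39_1 D9968 (iv D9968) (iv D6871) F22237 D6871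
theorem F44629 : act 9 n9968 = n6895 := d43_2 (iv F31442) D9968 (iv D6895)
def n9969 : Q := act 8 n6871
theorem D9969 : act 8 n6871 = n9969 := rfl
theorem F44630 : act 1 n9969 = n6878 := d15_1 D9969 (iv D6878) (iv F31440)
theorem F44631 : act 6 n9969 = n6872 := d40_1 D9969 (iv D6872) D6871
def n9970 : Q := act 9 n6872
theorem D9970 : act 9 n6872 = n9970 := rfl
theorem F44632 : act 1 n9970 = n6879 := d16_1 D9970 (iv D6879) (iv F31443)
theorem F44633 : act 5 n9970 = n6873 := d38_1 D9970 (iv D6873) (iv F31444)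
theorem F44634 : act 7 n9970 = n9970 := d43_1 D9970 (iv D9970) F31445
theorem F44635 : act 8 n9970 = n6897 := d44_1 D9970 (iv D6897) (iv D4763) (iv F22238) D6872
def n9971 : Q := act 5 n6875
theorem D9971 : act 5 n6875 = n9971 := rfl
theorem F44636 : act 0 n9971 = n9971 := d4_1 D9971 (iv D9971) F31454
theorem F44637 : act 2 n9971 = n6991 := d19_1 D9971 (iv D6991) (iv F31455)
theorem F44638 : act 3 n9971 = n9971 := d25_1 D9971 (iv D9971) F31456
theorem F44639 : act 9 n9971 = n6898 := d38_2 (iv F31458) D9971 (iv D6898)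
def n9972 : Q := act 7 n6875
theorem D9972 : act 7 n6875 = n9972 := rfl
theorem F44640 : act 0 n9972 = n9972 := d6_1 D9972 (iv D9972) F31454
theorem F44641 : act 2 n9972 = n6992 := d21_1 D9972 (iv D6992) (iv F31455)
theorem F44642 : act 3 n9972 = n9972 := d27_1 D9972 (iv D9972) F31456
theorem F44643 : act 4 n9972 = n6877 := d32_1 D9972 (iv D6877) (iv F31457)
theorem F44644 : act 6 n9972 = n9972 := d39_1 D9972 (iv D9972) (iv D6875) F22248 D6875
theorem F44645 : act 9 n9972 = n6899 := d43_2 (iv F31458) D9972 (iv D6899)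
def n9973 : Q := act 8 n6875
theorem D9973 : act 8 n6875 = n9973 := rfl
theorem F44646 : act 0 n9973 = n9973 := d7_1 D9973 (iv D9973) F31454
theorem F44647 : act 2 n9973 = n6993 := d22_1 D9973 (iv D6993) (iv F31455)
theorem F44648 : act 4 n9973 = n6878 := d33_1 D9973 (iv D6878) (iv F31457)
theorem F44649 : act 6 n9973 = n6876 := d40_1 D9973 (iv D6876) D6875
def n9974 : Q := act 3 n6876
theorem D9974 : act 3 n6876 = n9974 := rfl
theorem F44650 : act 0 n9974 = n9974 := d2_1 D9974 (iv D9974) F31459
theorem F44651 : act 7 n9974 = n9974 := d27_2 F31462 D9974 (iv D9974)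
theorem F44652 : act 8 n9974 = n9974 := d28_2 D6876 D9974 (iv D9974) (iv D6876) F22247
def n9975 : Q := act 9 n6876
theorem D9975 : act 9 n6876 = n9975 := rfl
theorem F44653 : act 0 n9975 = n9975 := d8_1 D9975 (iv D9975) F31459
theorem F44654 : act 2 n9975 = n6995 := d23_1 D9975 (iv D6995) (iv F31460)
theorem F44655 : act 4 n9975 = n6879 := d34_1 D9975 (iv D6879) (iv F31461)
theorem F44656 : act 7 n9975 = n9975 := d43_1 D9975 (iv D9975) F31462
theorem F44657 : act 8 n9975 = n6902 := d44_1 D9975 (iv D6902) (iv D4767) (iv F22249) D6876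
def n9976 : Q := act 8 n6877
theorem D9976 : act 8 n6877 = n9976 := rfl
theorem F44658 : act 0 n9976 = n9976 := d7_1 D9976 (iv D9976) F31463
theorem F44659 : act 2 n9976 = n6996 := d22_1 D9976 (iv D6996) (iv F31464)
theorem F44660 : act 6 n9976 = n9976 := d40_1 D9976 (iv D9976) F31466
theorem F44661 : act 7 n9976 = n6878 := d42_1 D9976 (iv D6878) D6877
def n9977 : Q := act 9 n6878
theorem D9977 : act 9 n6878 = n9977 := rfl
theorem F44662 : act 0 n9977 = n9977 := d8_1 D9977 (iv D9977) F31468
theorem F44663 : act 2 n9977 = n6997 := d23_1 D9977 (iv D6997) (iv F31469)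
theorem F44664 : act 6 n9977 = n6879 := d41_1 D9977 (iv D6879) (iv F31470)
theorem F44665 : act 8 n9977 = n6904 := d44_1 D9977 (iv D6904) (iv D4769) (iv F22253) D6878
def n9978 : Q := act 5 n6880
theorem D9978 : act 5 n6880 = n9978 := rfl
theorem F44666 : act 0 n9978 = n6998 := d4_1 D9978 (iv D6998) (iv F31476)
theorem F44667 : act 1 n9978 = n6881 := d12_1 D9978 (iv D6881) D6880
theorem F44668 : act 2 n9978 = n9978 := d19_1 D9978 (iv D9978) F31477
theorem F44669 : act 3 n9978 = n7540 := d25_1 D9978 (iv D7540) (iv F31478)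
theorem F44670 : act 7 n9978 = n9978 := d36_2 F31479 D9978 (iv D9978)
def n9979 : Q := act 8 n6880
theorem D9979 : act 8 n6880 = n9979 := rfl
theorem F44671 : act 0 n9979 = n6999 := d7_1 D9979 (iv D6999) (iv F31476)
theorem F44672 : act 1 n9979 = n6882 := d15_1 D9979 (iv D6882) D6880
theorem F44673 : act 2 n9979 = n9979 := d22_1 D9979 (iv D9979) F31477
theorem F44674 : act 7 n9979 = n9979 := d42_1 D9979 (iv D9979) F31479
def n9980 : Q := act 4 n6881
theorem D9980 : act 4 n6881 = n9980 := rfl
theorem F44675 : act 0 n9980 = n6888 := d3_1 D9980 (iv D6888) (iv F31480)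
theorem F44676 : act 2 n9980 = n6883 := d18_1 D9980 (iv D6883) (iv F31481)
theorem F44677 : act 7 n9980 = n9980 := d32_2 F31483 D9980 (iv D9980)
def n9981 : Q := act 6 n6881
theorem D9981 : act 6 n6881 = n9981 := rfl
theorem F44678 : act 0 n9981 = n6889 := d5_1 D9981 (iv D6889) (iv F31480)
theorem F44679 : act 2 n9981 = n6884 := d20_1 D9981 (iv D6884) (iv F31481)
theorem F44680 : act 3 n9981 = n7543 := d26_1 D9981 (iv D7543) (iv F31482)
def n9982 : Q := act 8 n6881
theorem D9982 : act 8 n6881 = n9982 := rfl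
theorem F44681 : act 0 n9982 = n6890 := d7_1 D9982 (iv D6890) (iv F31480)
theorem F44682 : act 2 n9982 = n6885 := d22_1 D9982 (iv D6885) (iv F31481)
theorem F44683 : act 5 n9982 = n6882 := d37_1 D9982 (iv D6882) D6881
theorem F44684 : act 7 n9982 = n9982 := d42_1 D9982 (iv D9982) F31483
def n9983 : Q := act 3 n6882
theorem D9983 : act 3 n6882 = n9983 := rfl
theorem F44685 : act 0 n9983 = n6891 := d2_1 D9983 (iv D6891) (iv F31484)
theorem F44686 : act 2 n9983 = n9983 := d17_1 D9983 (iv D9983) F31485 F22276 (iv F31485)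
theorem F44687 : act 7 n9983 = n9983 := d27_2 F31486 D9983 (iv D9983)
theorem F44688 : act 8 n9983 = n7545 := d28_2 D6882 D9983 (iv D7545) (iv D5204) (iv F22268)
def n9984 : Q := act 9 n6882
theorem D9984 : act 9 n6882 = n9984 := rfl
theorem F44689 : act 0 n9984 = n6892 := d8_1 D9984 (iv D6892) (iv F31484)
theorem F44690 : act 2 n9984 = n6886 := d23_1 D9984 (iv D6886) (iv F31485)
theorem F44691 : act 7 n9984 = n9984 := d43_1 D9984 (iv D9984) F31486
def n9985 : Q := act 6 n6883
theorem D9985 : act 6 n6883 = n9985 := rfl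
theorem F44692 : act 0 n9985 = n6893 := d5_1 D9985 (iv D6893) (iv F31487)
theorem F44693 : act 1 n9985 = n9985 := d13_1 D9985 (iv D9985) F31488
theorem F44694 : act 3 n9985 = n9985 := d26_1 D9985 (iv D9985) F31489
theorem F44695 : act 4 n9985 = n6884 := d31_1 D9985 (iv D6884) D6883
def n9986 : Q := act 8 n6883
theorem D9986 : act 8 n6883 = n9986 := rfl
theorem F44696 : act 0 n9986 = n6894 := d7_1 D9986 (iv D6894) (iv F31487)
theorem F44697 : act 1 n9986 = n9986 := d15_1 D9986 (iv D9986) F31488
theorem F44698 : act 4 n9986 = n6885 := d33_1 D9986 (iv D6885) D6883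
theorem F44699 : act 7 n9986 = n9986 := d42_1 D9986 (iv D9986) F31490
def n9987 : Q := act 7 n6884
theorem D9987 : act 7 n6884 = n9987 := rfl
theorem F44700 : act 0 n9987 = n6895 := d6_1 D9987 (iv D6895) (iv F31491)
theorem F44701 : act 1 n9987 = n9987 := d14_1 D9987 (iv D9987) F31492
theorem F44702 : act 3 n9987 = n6887 := d27_1 D9987 (iv D6887) (iv F31493)
theorem F44703 : act 6 n9987 = n9987 := d39_1 D9987 (iv D9987) (iv D6884) F22273 D6884
def n9988 : Q := act 8 n6884
theorem D9988 : act 8 n6884 = n9988 := rfl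
theorem F44704 : act 0 n9988 = n6896 := d7_1 D9988 (iv D6896) (iv F31491)
theorem F44705 : act 1 n9988 = n9988 := d15_1 D9988 (iv D9988) F31492
theorem F44706 : act 3 n9988 = n9988 := d28_1 D9988 (iv D9988) F31493 F22282 (iv F31493)
theorem F44707 : act 6 n9988 = n6885 := d40_1 D9988 (iv D6885) D6884
def n9989 : Q := act 9 n6885
theorem D9989 : act 9 n6885 = n9989 := rfl
theorem F44708 : act 0 n9989 = n6897 := d8_1 D9989 (iv D6897) (iv F31494)
theorem F44709 : act 1 n9989 = n9989 := d16_1 D9989 (iv D9989) F31495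
theorem F44710 : act 3 n9989 = n9989 := d29_1 D9989 (iv D9989) F31496
theorem F44711 : act 5 n9989 = n6886 := d38_1 D9989 (iv D6886) (iv F31497)
theorem F44712 : act 7 n9989 = n9989 := d43_1 D9989 (iv D9989) F31498
def n9990 : Q := act 3 n6888
theorem D9990 : act 3 n6888 = n9990 := rfl
theorem F44713 : act 1 n9990 = n7010 := d10_1 D9990 (iv D7010) (iv F31509)
theorem F44714 : act 2 n9990 = n9990 := d17_1 D9990 (iv D9990) F31510 F22291 (iv F31510)
theorem F44715 : act 4 n9990 = n7552 := d24_2 D6888 D9990 (iv D7552) (iv D5210) (iv F22285)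
theorem F44716 : act 7 n9990 = n9990 := d27_2 F31511 D9990 (iv D9990)
def n9991 : Q := act 6 n6888
theorem D9991 : act 6 n6888 = n9991 := rfl
theorem F44717 : act 1 n9991 = n7011 := d13_1 D9991 (iv D7011) (iv F31509)
theorem F44718 : act 2 n9991 = n6893 := d20_1 D9991 (iv D6893) (iv F31510)
theorem F44719 : act 4 n9991 = n6889 := d31_1 D9991 (iv D6889) D6888
def n9992 : Q := act 8 n6888
theorem D9992 : act 8 n6888 = n9992 := rfl
theorem F44720 : act 1 n9992 = n7012 := d15_1 D9992 (iv D7012) (iv F31509)
theorem F44721 : act 2 n9992 = n6894 := d22_1 D9992 (iv D6894) (iv F31510)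
theorem F44722 : act 4 n9992 = n6890 := d33_1 D9992 (iv D6890) D6888
theorem F44723 : act 7 n9992 = n9992 := d42_1 D9992 (iv D9992) F31511
def n9993 : Q := act 7 n6889
theorem D9993 : act 7 n6889 = n9993 := rfl
theorem F44724 : act 1 n9993 = n7013 := d14_1 D9993 (iv D7013) (iv F31512)
theorem F44725 : act 2 n9993 = n6895 := d21_1 D9993 (iv D6895) (iv F31513)
theorem F44726 : act 3 n9993 = n7555 := d27_1 D9993 (iv D7555) (iv F31514)
theorem F44727 : act 6 n9993 = n9993 := d39_1 D9993 (iv D9993) (iv D6889) F22286 D6889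
def n9994 : Q := act 8 n6889
theorem D9994 : act 8 n6889 = n9994 := rfl
theorem F44728 : act 1 n9994 = n7014 := d15_1 D9994 (iv D7014) (iv F31512)
theorem F44729 : act 2 n9994 = n6896 := d22_1 D9994 (iv D6896) (iv F31513)
theorem F44730 : act 6 n9994 = n6890 := d40_1 D9994 (iv D6890) D6889
def n9995 : Q := act 3 n6890
theorem D9995 : act 3 n6890 = n9995 := rfl
theorem F44731 : act 1 n9995 = n7015 := d10_1 D9995 (iv D7015) (iv F31515)
theorem F44732 : act 2 n9995 = n9995 := d17_1 D9995 (iv D9995) F31516 F22296 (iv F31516)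
theorem F44733 : act 5 n9995 = n6891 := d25_2 (iv F31517) D9995 (iv D6891)
theorem F44734 : act 7 n9995 = n9995 := d27_2 F31518 D9995 (iv D9995)
theorem F44735 : act 8 n9995 = n7557 := d28_2 D6890 D9995 (iv D7557) (iv D5212) (iv F22285)
def n9996 : Q := act 9 n6890
theorem D9996 : act 9 n6890 = n9996 := rfl
theorem F44736 : act 1 n9996 = n7016 := d16_1 D9996 (iv D7016) (iv F31515)
theorem F44737 : act 2 n9996 = n6897 := d23_1 D9996 (iv D6897) (iv F31516)
theorem F44738 : act 5 n9996 = n6892 := d38_1 D9996 (iv D6892) (iv F31517)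
theorem F44739 : act 7 n9996 = n9996 := d43_1 D9996 (iv D9996) F31518
def n9997 : Q := act 4 n6891
theorem D9997 : act 4 n6891 = n9997 := rfl
theorem F44740 : act 1 n9997 = n7017 := d11_1 D9997 (iv D7017) (iv F31519)
theorem F44741 : act 2 n9997 = n9997 := d18_1 D9997 (iv D9997) F31520
theorem F44742 : act 7 n9997 = n9997 := d32_2 F31521 D9997 (iv D9997)
theorem F44743 : act 8 n9997 = n7559 := d33_2 (iv F31522) D9997 (iv D7559)
def n9998 : Q := act 9 n6891
theorem D9998 : act 9 n6891 = n9998 := rfl
theorem F44744 : act 1 n9998 = n7018 := d16_1 D9998 (iv D7018) (iv F31519)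
theorem F44745 : act 2 n9998 = n9998 := d23_1 D9998 (iv D9998) F31520
theorem F44746 : act 3 n9998 = n6892 := d29_1 D9998 (iv D6892) D6891
theorem F44747 : act 7 n9998 = n9998 := d43_1 D9998 (iv D9998) F31521
def n9999 : Q := act 5 n6893
theorem D9999 : act 5 n6893 = n9999 := rfl
theorem F44748 : act 1 n9999 = n6898 := d12_1 D9999 (iv D6898) (iv F31526)
theorem F44749 : act 3 n9999 = n9999 := d25_1 D9999 (iv D9999) F31527
def n10000 : Q := act 7 n6893
theorem D10000 : act 7 n6893 = n10000 := rfl
theorem F44750 : act 1 n10000 = n6899 := d14_1 D10000 (iv D6899) (iv F31526)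
theorem F44751 : act 3 n10000 = n10000 := d27_1 D10000 (iv D10000) F31527
theorem F44752 : act 4 n10000 = n6895 := d32_1 D10000 (iv D6895) (iv F31528)
theorem F44753 : act 6 n10000 = n10000 := d39_1 D10000 (iv D10000) (iv D6893) F22292 D6893
def n10001 : Q := act 8 n6893
theorem D10001 : act 8 n6893 = n10001 := rfl
theorem F44754 : act 1 n10001 = n6900 := d15_1 D10001 (iv D6900) (iv F31526)
theorem F44755 : act 4 n10001 = n6896 := d33_1 D10001 (iv D6896) (iv F31528)
theorem F44756 : act 6 n10001 = n6894 := d40_1 D10001 (iv D6894) D6893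
def n10002 : Q := act 3 n6894
theorem D10002 : act 3 n6894 = n10002 := rfl
theorem F44757 : act 1 n10002 = n6901 := d10_1 D10002 (iv D6901) (iv F31529)
theorem F44758 : act 4 n10002 = n10002 := d24_2 (iv F31530) D10002 (iv D10002) F31530 F22296
theorem F44759 : act 7 n10002 = n10002 := d27_2 F31531 D10002 (iv D10002)
theorem F44760 : act 8 n10002 = n10002 := d28_2 D6894 D10002 (iv D10002) (iv D6894) F22291
def n10003 : Q := act 9 n6894
theorem D10003 : act 9 n6894 = n10003 := rfl
theorem F44761 : act 1 n10003 = n6902 := d16_1 D10003 (iv D6902) (iv F31529)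
theorem F44762 : act 4 n10003 = n6897 := d34_1 D10003 (iv D6897) (iv F31530)
theorem F44763 : act 7 n10003 = n10003 := d43_1 D10003 (iv D10003) F31531
def n10004 : Q := act 8 n6895
theorem D10004 : act 8 n6895 = n10004 := rfl
theorem F44764 : act 1 n10004 = n6903 := d15_1 D10004 (iv D6903) (iv F31532)
theorem F44765 : act 3 n10004 = n10004 := d28_1 D10004 (iv D10004) F31533 F22306 (iv F31533)
theorem F44766 : act 6 n10004 = n10004 := d40_1 D10004 (iv D10004) F31534
theorem F44767 : act 7 n10004 = n6896 := d42_1 D10004 (iv D6896) D6895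
def n10005 : Q := act 9 n6896
theorem D10005 : act 9 n6896 = n10005 := rfl
theorem F44768 : act 1 n10005 = n6904 := d16_1 D10005 (iv D6904) (iv F31535)
theorem F44769 : act 3 n10005 = n10005 := d29_1 D10005 (iv D10005) F31536
theorem F44770 : act 6 n10005 = n6897 := d41_1 D10005 (iv D6897) (iv F31537)
def n10006 : Q := act 7 n6898
theorem D10006 : act 7 n6898 = n10006 := rfl
theorem F44771 : act 0 n10006 = n10006 := d6_1 D10006 (iv D10006) F31542
theorem F44772 : act 2 n10006 = n7026 := d21_1 D10006 (iv D7026) (iv F31543)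
theorem F44773 : act 3 n10006 = n10006 := d27_1 D10006 (iv D10006) F31544
theorem F44774 : act 5 n10006 = n6899 := d36_1 D10006 (iv D6899) D6898
def n10007 : Q := act 8 n6898
theorem D10007 : act 8 n6898 = n10007 := rfl
theorem F44775 : act 0 n10007 = n10007 := d7_1 D10007 (iv D10007) F31542
theorem F44776 : act 2 n10007 = n7027 := d22_1 D10007 (iv D7027) (iv F31543)
theorem F44777 : act 5 n10007 = n6900 := d37_1 D10007 (iv D6900) D6898
def n10008 : Q := act 8 n6899
theorem D10008 : act 8 n6899 = n10008 := rfl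
theorem F44778 : act 0 n10008 = n10008 := d7_1 D10008 (iv D10008) F31545
theorem F44779 : act 2 n10008 = n7028 := d22_1 D10008 (iv D7028) (iv F31546)
theorem F44780 : act 4 n10008 = n6903 := d33_1 D10008 (iv D6903) (iv F31548)
theorem F44781 : act 6 n10008 = n10008 := d40_1 D10008 (iv D10008) F31549
theorem F44782 : act 7 n10008 = n6900 := d42_1 D10008 (iv D6900) D6899
def n10009 : Q := act 3 n6900
theorem D10009 : act 3 n6900 = n10009 := rfl
theorem F44783 : act 0 n10009 = n10009 := d2_1 D10009 (iv D10009) F31550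
theorem F44784 : act 4 n10009 = n10009 := d24_2 (iv F31552) D10009 (iv D10009) F31552 F22321
theorem F44785 : act 6 n10009 = n6901 := d26_2 (iv F31553) D10009 (iv D6901)
theorem F44786 : act 8 n10009 = n10009 := d28_2 D6900 D10009 (iv D10009) (iv D6900) F22309
def n10010 : Q := act 9 n6900
theorem D10010 : act 9 n6900 = n10010 := rfl
theorem F44787 : act 0 n10010 = n10010 := d8_1 D10010 (iv D10010) F31550
theorem F44788 : act 2 n10010 = n7030 := d23_1 D10010 (iv D7030) (iv F31551)
theorem F44789 : act 4 n10010 = n6904 := d34_1 D10010 (iv D6904) (iv F31552)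
theorem F44790 : act 6 n10010 = n6902 := d41_1 D10010 (iv D6902) (iv F31553)
def n10011 : Q := act 2 n6901
theorem D10011 : act 2 n6901 = n10011 := rfl
theorem F44791 : act 0 n10011 = n10011 := d1_1 D10011 (iv D10011) F31554
theorem F44792 : act 3 n10011 = n7031 := d17_2 D6901 D10011 (iv D7031) (iv D4853) (iv F22312)
theorem F44793 : act 4 n10011 = n10011 := d18_2 F31555 D10011 (iv D10011)
theorem F44794 : act 7 n10011 = n10011 := d21_2 F31556 D10011 (iv D10011)
theorem F44795 : act 8 n10011 = n10011 := d22_2 F31557 D10011 (iv D10011)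
def n10012 : Q := act 9 n6901
theorem D10012 : act 9 n6901 = n10012 := rfl
theorem F44796 : act 0 n10012 = n10012 := d8_1 D10012 (iv D10012) F31554
theorem F44797 : act 3 n10012 = n6902 := d29_1 D10012 (iv D6902) D6901
theorem F44798 : act 4 n10012 = n10012 := d34_1 D10012 (iv D10012) F31555
theorem F44799 : act 7 n10012 = n10012 := d43_1 D10012 (iv D10012) F31556
def n10013 : Q := act 9 n6903
theorem D10013 : act 9 n6903 = n10013 := rfl
theorem F44800 : act 0 n10013 = n10013 := d8_1 D10013 (iv D10013) F31562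
theorem F44801 : act 2 n10013 = n7033 := d23_1 D10013 (iv D7033) (iv F31563)
theorem F44802 : act 3 n10013 = n10013 := d29_1 D10013 (iv D10013) F31564
theorem F44803 : act 6 n10013 = n10013 := d41_1 D10013 (iv D10013) F31565
theorem F44804 : act 7 n10013 = n6904 := d43_1 D10013 (iv D6904) (iv F31566)
def n10014 : Q := act 2 n6905
theorem D10014 : act 2 n6905 = n10014 := rfl
theorem F44805 : act 0 n10014 = n6907 := d1_1 D10014 (iv D6907) (iv F31571)
theorem F44806 : act 3 n10014 = n7575 := d17_2 D6905 D10014 (iv D7575) (iv D5227) (iv F22330)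
theorem F44807 : act 6 n10014 = n10014 := d20_2 F31573 D10014 (iv D10014)
theorem F44808 : act 7 n10014 = n6932 := d21_2 (iv F31574) D10014 (iv D6932)
theorem F44809 : act 9 n10014 = n6916 := d23_2 (iv F31575) D10014 (iv D6916)
def n10015 : Q := act 5 n6905
theorem D10015 : act 5 n6905 = n10015 := rfl
theorem F44810 : act 0 n10015 = n6908 := d4_1 D10015 (iv D6908) (iv F31571)
theorem F44811 : act 1 n10015 = n10015 := d12_1 D10015 (iv D10015) F31572
theorem F44812 : act 3 n10015 = n6906 := d25_1 D10015 (iv D6906) D6905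
theorem F44813 : act 7 n10015 = n6933 := d36_2 (iv F31574) D10015 (iv D6933)
theorem F44814 : act 9 n10015 = n6917 := d38_2 (iv F31575) D10015 (iv D6917)
def n10016 : Q := act 8 n6905
theorem D10016 : act 8 n6905 = n10016 := rfl
theorem F44815 : act 0 n10016 = n6909 := d7_1 D10016 (iv D6909) (iv F31571)
theorem F44816 : act 1 n10016 = n10016 := d15_1 D10016 (iv D10016) F31572
theorem F44817 : act 3 n10016 = n10016 := d28_1 D10016 (iv D10016) (iv D6905) F22333 D6905
theorem F44818 : act 6 n10016 = n10016 := d40_1 D10016 (iv D10016) F31573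
theorem F44819 : act 7 n10016 = n6934 := d42_1 D10016 (iv D6934) (iv F31574)
def n10017 : Q := act 6 n6906
theorem D10017 : act 6 n6906 = n10017 := rfl
theorem F44820 : act 0 n10017 = n6910 := d5_1 D10017 (iv D6910) (iv F31576)
theorem F44821 : act 1 n10017 = n10017 := d13_1 D10017 (iv D10017) F31577
theorem F44822 : act 2 n10017 = n7578 := d20_1 D10017 (iv D7578) (iv F31578)
theorem F44823 : act 4 n10017 = n10017 := d31_1 D10017 (iv D10017) F31579
theorem F44824 : act 5 n10017 = n10017 := d35_1 D10017 (iv D10017) (iv D6906) F22331 D6906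
theorem F44825 : act 8 n10017 = n10017 := d40_2 F31581 D10017 (iv D10017)
theorem F44826 : act 9 n10017 = n6919 := d41_2 (iv F31582) D10017 (iv D6919)
def n10018 : Q := act 5 n6907
theorem D10018 : act 5 n6907 = n10018 := rfl
theorem F44827 : act 2 n10018 = n6908 := d19_1 D10018 (iv D6908) D6907
theorem F44828 : act 3 n10018 = n7579 := d25_1 D10018 (iv D7579) (iv F31583)
theorem F44829 : act 7 n10018 = n6936 := d36_2 (iv F31585) D10018 (iv D6936)
theorem F44830 : act 9 n10018 = n6920 := d38_2 (iv F31586) D10018 (iv D6920)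
def n10019 : Q := act 8 n6907
theorem D10019 : act 8 n6907 = n10019 := rfl
theorem F44831 : act 2 n10019 = n6909 := d22_1 D10019 (iv D6909) D6907
theorem F44832 : act 6 n10019 = n10019 := d40_1 D10019 (iv D10019) F31584
theorem F44833 : act 7 n10019 = n6937 := d42_1 D10019 (iv D6937) (iv F31585)
def n10020 : Q := act 4 n6908
theorem D10020 : act 4 n6908 = n10020 := rfl
theorem F44834 : act 1 n10020 = n6911 := d11_1 D10020 (iv D6911) (iv F31587)
theorem F44835 : act 3 n10020 = n10020 := d24_1 D10020 (iv D10020) F31588 F22341 (iv F31588)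
theorem F44836 : act 7 n10020 = n6938 := d32_2 (iv F31589) D10020 (iv D6938)
theorem F44837 : act 9 n10020 = n6922 := d34_2 (iv F31590) D10020 (iv D6922)
def n10021 : Q := act 6 n6908
theorem D10021 : act 6 n6908 = n10021 := rfl
theorem F44838 : act 1 n10021 = n6912 := d13_1 D10021 (iv D6912) (iv F31587)
theorem F44839 : act 3 n10021 = n6910 := d26_1 D10021 (iv D6910) (iv F31588)
theorem F44840 : act 5 n10021 = n10021 := d35_1 D10021 (iv D10021) (iv D6908) F22336 D6908
theorem F44841 : act 9 n10021 = n6923 := d41_2 (iv F31590) D10021 (iv D6923)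
def n10022 : Q := act 8 n6908
theorem D10022 : act 8 n6908 = n10022 := rfl
theorem F44842 : act 1 n10022 = n6913 := d15_1 D10022 (iv D6913) (iv F31587)
theorem F44843 : act 3 n10022 = n10022 := d28_1 D10022 (iv D10022) F31588 F22343 (iv F31588)
theorem F44844 : act 5 n10022 = n6909 := d37_1 D10022 (iv D6909) D6908
theorem F44845 : act 7 n10022 = n6940 := d42_1 D10022 (iv D6940) (iv F31589)
def n10023 : Q := act 9 n6909
theorem D10023 : act 9 n6909 = n10023 := rfl
theorem F44846 : act 1 n10023 = n6914 := d16_1 D10023 (iv D6914) (iv F31591)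
theorem F44847 : act 3 n10023 = n10023 := d29_1 D10023 (iv D10023) F31592
theorem F44848 : act 6 n10023 = n10023 := d41_1 D10023 (iv D10023) F31593
theorem F44849 : act 7 n10023 = n6941 := d43_1 D10023 (iv D6941) (iv F31594)
theorem F44850 : act 8 n10023 = n6925 := d44_1 D10023 (iv D6925) (iv D4782) (iv F22338) D6909
def n10024 : Q := act 7 n6910
theorem D10024 : act 7 n6910 = n10024 := rfl
theorem F44851 : act 1 n10024 = n6915 := d14_1 D10024 (iv D6915) (iv F31595)
theorem F44852 : act 2 n10024 = n7585 := d21_1 D10024 (iv D7585) (iv F31596)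
theorem F44853 : act 4 n10024 = n10024 := d32_1 D10024 (iv D10024) F31597
theorem F44854 : act 5 n10024 = n10024 := d36_1 D10024 (iv D10024) F31598
theorem F44855 : act 6 n10024 = n6942 := d39_1 D10024 (iv D6942) (iv D4794) (iv F22342) D6910
theorem F44856 : act 8 n10024 = n10024 := d42_2 F31599 D10024 (iv D10024)
theorem F44857 : act 9 n10024 = n6926 := d43_2 (iv F31600) D10024 (iv D6926)
def n10025 : Q := act 6 n6911
theorem D10025 : act 6 n6911 = n10025 := rfl
theorem F44858 : act 0 n10025 = n10025 := d5_1 D10025 (iv D10025) F31601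
theorem F44859 : act 3 n10025 = n10025 := d26_1 D10025 (iv D10025) F31602
theorem F44860 : act 4 n10025 = n6912 := d31_1 D10025 (iv D6912) D6911
theorem F44861 : act 9 n10025 = n6927 := d41_2 (iv F31604) D10025 (iv D6927)
def n10026 : Q := act 8 n6911
theorem D10026 : act 8 n6911 = n10026 := rfl
theorem F44862 : act 0 n10026 = n10026 := d7_1 D10026 (iv D10026) F31601
theorem F44863 : act 4 n10026 = n6913 := d33_1 D10026 (iv D6913) D6911
theorem F44864 : act 7 n10026 = n6944 := d42_1 D10026 (iv D6944) (iv F31603)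
def n10027 : Q := act 7 n6912
theorem D10027 : act 7 n6912 = n10027 := rfl
theorem F44865 : act 0 n10027 = n10027 := d6_1 D10027 (iv D10027) F31605
theorem F44866 : act 3 n10027 = n6915 := d27_1 D10027 (iv D6915) (iv F31606)
theorem F44867 : act 5 n10027 = n10027 := d36_1 D10027 (iv D10027) F31607
theorem F44868 : act 6 n10027 = n6945 := d39_1 D10027 (iv D6945) (iv D4796) (iv F22347) D6912
theorem F44869 : act 9 n10027 = n6929 := d43_2 (iv F31608) D10027 (iv D6929)
def n10028 : Q := act 8 n6912
theorem D10028 : act 8 n6912 = n10028 := rfl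
theorem F44870 : act 0 n10028 = n10028 := d7_1 D10028 (iv D10028) F31605
theorem F44871 : act 3 n10028 = n10028 := d28_1 D10028 (iv D10028) F31606 F22357 (iv F31606)
theorem F44872 : act 5 n10028 = n10028 := d37_1 D10028 (iv D10028) F31607
theorem F44873 : act 6 n10028 = n6913 := d40_1 D10028 (iv D6913) D6912
def n10029 : Q := act 9 n6913
theorem D10029 : act 9 n6913 = n10029 := rfl
theorem F44874 : act 0 n10029 = n10029 := d8_1 D10029 (iv D10029) F31609
theorem F44875 : act 3 n10029 = n10029 := d29_1 D10029 (iv D10029) F31610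
theorem F44876 : act 5 n10029 = n6914 := d38_1 D10029 (iv D6914) (iv F31611)
theorem F44877 : act 7 n10029 = n6947 := d43_1 D10029 (iv D6947) (iv F31612)
theorem F44878 : act 8 n10029 = n6931 := d44_1 D10029 (iv D6931) (iv D4786) (iv F22348) D6913
def n10030 : Q := act 1 n6916
theorem D10030 : act 1 n6916 = n10030 := rfl
theorem F44879 : act 2 n10030 = n10030 := d9_2 D6916 D10030 (iv D10030) (iv D6916) F22367
theorem F44880 : act 3 n10030 = n7591 := d10_2 (iv F31626) D10030 (iv D7591)
theorem F44881 : act 6 n10030 = n10030 := d13_2 F31627 D10030 (iv D10030)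
theorem F44882 : act 7 n10030 = n6948 := d14_2 (iv F31628) D10030 (iv D6948)
def n10031 : Q := act 5 n6916
theorem D10031 : act 5 n6916 = n10031 := rfl
theorem F44883 : act 0 n10031 = n6920 := d4_1 D10031 (iv D6920) (iv F31625)
theorem F44884 : act 2 n10031 = n6917 := d19_1 D10031 (iv D6917) D6916
theorem F44885 : act 3 n10031 = n7592 := d25_1 D10031 (iv D7592) (iv F31626)
theorem F44886 : act 7 n10031 = n6949 := d36_2 (iv F31628) D10031 (iv D6949)
def n10032 : Q := act 8 n6916
theorem D10032 : act 8 n6916 = n10032 := rfl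
theorem F44887 : act 0 n10032 = n6921 := d7_1 D10032 (iv D6921) (iv F31625)
theorem F44888 : act 2 n10032 = n6918 := d22_1 D10032 (iv D6918) D6916
theorem F44889 : act 6 n10032 = n10032 := d40_1 D10032 (iv D10032) F31627
theorem F44890 : act 7 n10032 = n6950 := d42_1 D10032 (iv D6950) (iv F31628)
def n10033 : Q := act 4 n6917
theorem D10033 : act 4 n6917 = n10033 := rfl
theorem F44891 : act 0 n10033 = n6922 := d3_1 D10033 (iv D6922) (iv F31629)
theorem F44892 : act 1 n10033 = n10033 := d11_1 D10033 (iv D10033) F31630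
theorem F44893 : act 3 n10033 = n10033 := d24_1 D10033 (iv D10033) F31631 F22373 (iv F31631)
theorem F44894 : act 7 n10033 = n6951 := d32_2 (iv F31632) D10033 (iv D6951)
def n10034 : Q := act 6 n6917
theorem D10034 : act 6 n6917 = n10034 := rfl
theorem F44895 : act 0 n10034 = n6923 := d5_1 D10034 (iv D6923) (iv F31629)
theorem F44896 : act 1 n10034 = n10034 := d13_1 D10034 (iv D10034) F31630
theorem F44897 : act 3 n10034 = n6919 := d26_1 D10034 (iv D6919) (iv F31631)
theorem F44898 : act 5 n10034 = n10034 := d35_1 D10034 (iv D10034) (iv D6917) F22368 D6917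
def n10035 : Q := act 8 n6917
theorem D10035 : act 8 n6917 = n10035 := rfl
theorem F44899 : act 0 n10035 = n6924 := d7_1 D10035 (iv D6924) (iv F31629)
theorem F44900 : act 1 n10035 = n10035 := d15_1 D10035 (iv D10035) F31630
theorem F44901 : act 3 n10035 = n7120 := d28_1 D10035 (iv D7120) F22913 (iv F22375) (iv F31631)
theorem F44902 : act 5 n10035 = n6918 := d37_1 D10035 (iv D6918) D6917
theorem F44903 : act 7 n10035 = n6953 := d42_1 D10035 (iv D6953) (iv F31632)
def n10036 : Q := act 9 n6918
theorem D10036 : act 9 n6918 = n10036 := rfl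
theorem F44904 : act 0 n10036 = n6925 := d8_1 D10036 (iv D6925) (iv F31633)
theorem F44905 : act 1 n10036 = n10036 := d16_1 D10036 (iv D10036) F31634
theorem F44906 : act 3 n10036 = n7121 := d29_1 D10036 (iv D7121) (iv F31635)
theorem F44907 : act 6 n10036 = n10036 := d41_1 D10036 (iv D10036) F31636
theorem F44908 : act 7 n10036 = n6954 := d43_1 D10036 (iv D6954) (iv F31637)
def n10037 : Q := act 7 n6919
theorem D10037 : act 7 n6919 = n10037 := rfl
theorem F44909 : act 0 n10037 = n6926 := d6_1 D10037 (iv D6926) (iv F31638)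
theorem F44910 : act 1 n10037 = n10037 := d14_1 D10037 (iv D10037) F31639
theorem F44911 : act 2 n10037 = n7598 := d21_1 D10037 (iv D7598) (iv F31640)
theorem F44912 : act 4 n10037 = n10037 := d32_1 D10037 (iv D10037) F31641
theorem F44913 : act 5 n10037 = n10037 := d36_1 D10037 (iv D10037) F31642
theorem F44914 : act 6 n10037 = n6955 := d39_1 D10037 (iv D6955) (iv D4803) (iv F22374) D6919
theorem F44915 : act 8 n10037 = n7122 := d42_2 (iv F31643) D10037 (iv D7122)
def n10038 : Q := act 4 n6920
theorem D10038 : act 4 n6920 = n10038 := rfl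
theorem F44916 : act 2 n10038 = n6922 := d18_1 D10038 (iv D6922) (iv F31644)
theorem F44917 : act 7 n10038 = n6956 := d32_2 (iv F31646) D10038 (iv D6956)
def n10039 : Q := act 6 n6920
theorem D10039 : act 6 n6920 = n10039 := rfl
theorem F44918 : act 2 n10039 = n6923 := d20_1 D10039 (iv D6923) (iv F31644)
theorem F44919 : act 3 n10039 = n7600 := d26_1 D10039 (iv D7600) (iv F31645)
theorem F44920 : act 5 n10039 = n10039 := d35_1 D10039 (iv D10039) (iv D6920) F22377 D6920
def n10040 : Q := act 8 n6920
theorem D10040 : act 8 n6920 = n10040 := rfl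
theorem F44921 : act 2 n10040 = n6924 := d22_1 D10040 (iv D6924) (iv F31644)
theorem F44922 : act 5 n10040 = n6921 := d37_1 D10040 (iv D6921) D6920
theorem F44923 : act 7 n10040 = n6958 := d42_1 D10040 (iv D6958) (iv F31646)
def n10041 : Q := act 3 n6921
theorem D10041 : act 3 n6921 = n10041 := rfl
theorem F44924 : act 2 n10041 = n7126 := d17_1 D10041 (iv D7126) F22933 (iv F22383) (iv F31647)
theorem F44925 : act 6 n10041 = n10041 := d26_2 F31648 D10041 (iv D10041)
theorem F44926 : act 7 n10041 = n6959 := d27_2 (iv F31649) D10041 (iv D6959)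
theorem F44927 : act 8 n10041 = n7602 := d28_2 D6921 D10041 (iv D7602) (iv D5243) (iv F22376)
def n10042 : Q := act 9 n6921
theorem D10042 : act 9 n6921 = n10042 := rfl
theorem F44928 : act 2 n10042 = n6925 := d23_1 D10042 (iv D6925) (iv F31647)
theorem F44929 : act 6 n10042 = n10042 := d41_1 D10042 (iv D10042) F31648
theorem F44930 : act 7 n10042 = n6960 := d43_1 D10042 (iv D6960) (iv F31649)
def n10043 : Q := act 6 n6922
theorem D10043 : act 6 n6922 = n10043 := rfl
theorem F44931 : act 1 n10043 = n6927 := d13_1 D10043 (iv D6927) (iv F31650)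
theorem F44932 : act 3 n10043 = n10043 := d26_1 D10043 (iv D10043) F31651
theorem F44933 : act 4 n10043 = n6923 := d31_1 D10043 (iv D6923) D6922
def n10044 : Q := act 8 n6922
theorem D10044 : act 8 n6922 = n10044 := rfl
theorem F44934 : act 1 n10044 = n6928 := d15_1 D10044 (iv D6928) (iv F31650)
theorem F44935 : act 4 n10044 = n6924 := d33_1 D10044 (iv D6924) D6922
theorem F44936 : act 7 n10044 = n6962 := d42_1 D10044 (iv D6962) (iv F31652)
def n10045 : Q := act 7 n6923
theorem D10045 : act 7 n6923 = n10045 := rfl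
theorem F44937 : act 1 n10045 = n6929 := d14_1 D10045 (iv D6929) (iv F31653)
theorem F44938 : act 3 n10045 = n6926 := d27_1 D10045 (iv D6926) (iv F31654)
theorem F44939 : act 5 n10045 = n10045 := d36_1 D10045 (iv D10045) F31655
theorem F44940 : act 6 n10045 = n6963 := d39_1 D10045 (iv D6963) (iv D4807) (iv F22381) D6923
def n10046 : Q := act 8 n6923
theorem D10046 : act 8 n6923 = n10046 := rfl
theorem F44941 : act 1 n10046 = n6930 := d15_1 D10046 (iv D6930) (iv F31653)
theorem F44942 : act 3 n10046 = n7131 := d28_1 D10046 (iv D7131) F22943 (iv F22390) (iv F31654)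
theorem F44943 : act 5 n10046 = n10046 := d37_1 D10046 (iv D10046) F31655
theorem F44944 : act 6 n10046 = n6924 := d40_1 D10046 (iv D6924) D6923
def n10047 : Q := act 9 n6924
theorem D10047 : act 9 n6924 = n10047 := rfl
theorem F44945 : act 1 n10047 = n6931 := d16_1 D10047 (iv D6931) (iv F31656)
theorem F44946 : act 3 n10047 = n7132 := d29_1 D10047 (iv D7132) (iv F31657)
theorem F44947 : act 5 n10047 = n6925 := d38_1 D10047 (iv D6925) (iv F31658)
theorem F44948 : act 7 n10047 = n6965 := d43_1 D10047 (iv D6965) (iv F31659)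
def n10048 : Q := act 5 n6927
theorem D10048 : act 5 n6927 = n10048 := rfl
theorem F44949 : act 0 n10048 = n10048 := d4_1 D10048 (iv D10048) F31670
theorem F44950 : act 3 n10048 = n10048 := d25_1 D10048 (iv D10048) F31671
theorem F44951 : act 4 n10048 = n10048 := d30_1 D10048 (iv D10048) F31672 F22396 (iv F31672)
def n10049 : Q := act 7 n6927
theorem D10049 : act 7 n6927 = n10049 := rfl
theorem F44952 : act 0 n10049 = n10049 := d6_1 D10049 (iv D10049) F31670
theorem F44953 : act 3 n10049 = n10049 := d27_1 D10049 (iv D10049) F31671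
theorem F44954 : act 4 n10049 = n6929 := d32_1 D10049 (iv D6929) (iv F31672)
theorem F44955 : act 6 n10049 = n6967 := d39_1 D10049 (iv D6967) (iv D4811) (iv F22393) D6927
def n10050 : Q := act 8 n6927
theorem D10050 : act 8 n6927 = n10050 := rfl
theorem F44956 : act 0 n10050 = n10050 := d7_1 D10050 (iv D10050) F31670
theorem F44957 : act 4 n10050 = n6930 := d33_1 D10050 (iv D6930) (iv F31672)
theorem F44958 : act 6 n10050 = n6928 := d40_1 D10050 (iv D6928) D6927
def n10051 : Q := act 3 n6928
theorem D10051 : act 3 n6928 = n10051 := rfl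
theorem F44959 : act 0 n10051 = n10051 := d2_1 D10051 (iv D10051) F31673
theorem F44960 : act 4 n10051 = n7136 := d24_2 (iv F31674) D10051 (iv D7136) F22967 (iv F22398)
theorem F44961 : act 7 n10051 = n6969 := d27_2 (iv F31675) D10051 (iv D6969)
theorem F44962 : act 8 n10051 = n10051 := d28_2 D6928 D10051 (iv D10051) (iv D6928) F22392
def n10052 : Q := act 9 n6928
theorem D10052 : act 9 n6928 = n10052 := rfl
theorem F44963 : act 0 n10052 = n10052 := d8_1 D10052 (iv D10052) F31673
theorem F44964 : act 4 n10052 = n6931 := d34_1 D10052 (iv D6931) (iv F31674)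
theorem F44965 : act 7 n10052 = n6970 := d43_1 D10052 (iv D6970) (iv F31675)
def n10053 : Q := act 8 n6929
theorem D10053 : act 8 n6929 = n10053 := rfl
theorem F44966 : act 0 n10053 = n10053 := d7_1 D10053 (iv D10053) F31676
theorem F44967 : act 3 n10053 = n7138 := d28_1 D10053 (iv D7138) F22972 (iv F22410) (iv F31677)
theorem F44968 : act 5 n10053 = n10053 := d37_1 D10053 (iv D10053) F31678
theorem F44969 : act 6 n10053 = n6971 := d40_1 D10053 (iv D6971) (iv F31679)
theorem F44970 : act 7 n10053 = n6930 := d42_1 D10053 (iv D6930) D6929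
def n10054 : Q := act 9 n6930
theorem D10054 : act 9 n6930 = n10054 := rfl
theorem F44971 : act 0 n10054 = n10054 := d8_1 D10054 (iv D10054) F31680
theorem F44972 : act 3 n10054 = n7139 := d29_1 D10054 (iv D7139) (iv F31681)
theorem F44973 : act 5 n10054 = n10054 := d38_1 D10054 (iv D10054) F31682
theorem F44974 : act 6 n10054 = n6931 := d41_1 D10054 (iv D6931) (iv F31683)
def n10055 : Q := act 1 n6932
theorem D10055 : act 1 n6932 = n10055 := rfl
theorem F44975 : act 2 n10055 = n10055 := d9_2 D6932 D10055 (iv D10055) (iv D6932) F22412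
theorem F44976 : act 3 n10055 = n7616 := d10_2 (iv F31689) D10055 (iv D7616)
theorem F44977 : act 6 n10055 = n6973 := d13_2 (iv F31690) D10055 (iv D6973)
theorem F44978 : act 9 n10055 = n6948 := d16_2 (iv F31691) D10055 (iv D6948)
def n10056 : Q := act 5 n6932
theorem D10056 : act 5 n6932 = n10056 := rfl
theorem F44979 : act 0 n10056 = n6936 := d4_1 D10056 (iv D6936) (iv F31688)
theorem F44980 : act 2 n10056 = n6933 := d19_1 D10056 (iv D6933) D6932
theorem F44981 : act 3 n10056 = n7617 := d25_1 D10056 (iv D7617) (iv F31689)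
theorem F44982 : act 9 n10056 = n6949 := d38_2 (iv F31691) D10056 (iv D6949)
def n10057 : Q := act 8 n6932
theorem D10057 : act 8 n6932 = n10057 := rfl
theorem F44983 : act 0 n10057 = n6937 := d7_1 D10057 (iv D6937) (iv F31688)
theorem F44984 : act 2 n10057 = n6934 := d22_1 D10057 (iv D6934) D6932
theorem F44985 : act 6 n10057 = n6975 := d40_1 D10057 (iv D6975) (iv F31690)
def n10058 : Q := act 4 n6933
theorem D10058 : act 4 n6933 = n10058 := rfl
theorem F44986 : act 0 n10058 = n6938 := d3_1 D10058 (iv D6938) (iv F31692)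
theorem F44987 : act 1 n10058 = n10058 := d11_1 D10058 (iv D10058) F31693
theorem F44988 : act 3 n10058 = n10058 := d24_1 D10058 (iv D10058) F31694 F22418 (iv F31694)
theorem F44989 : act 9 n10058 = n6951 := d34_2 (iv F31695) D10058 (iv D6951)
def n10059 : Q := act 6 n6933
theorem D10059 : act 6 n6933 = n10059 := rfl
theorem F44990 : act 0 n10059 = n6939 := d5_1 D10059 (iv D6939) (iv F31692)
theorem F44991 : act 1 n10059 = n10059 := d13_1 D10059 (iv D10059) F31693
theorem F44992 : act 3 n10059 = n6935 := d26_1 D10059 (iv D6935) (iv F31694)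
theorem F44993 : act 5 n10059 = n6977 := d35_1 D10059 (iv D6977) (iv D4817) (iv F22413) D6933
theorem F44994 : act 9 n10059 = n6952 := d41_2 (iv F31695) D10059 (iv D6952)
def n10060 : Q := act 8 n6933
theorem D10060 : act 8 n6933 = n10060 := rfl
theorem F44995 : act 0 n10060 = n6940 := d7_1 D10060 (iv D6940) (iv F31692)
theorem F44996 : act 1 n10060 = n10060 := d15_1 D10060 (iv D10060) F31693
theorem F44997 : act 3 n10060 = n10060 := d28_1 D10060 (iv D10060) F31694 F22419 (iv F31694)
theorem F44998 : act 5 n10060 = n6934 := d37_1 D10060 (iv D6934) D6933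
def n10061 : Q := act 9 n6934
theorem D10061 : act 9 n6934 = n10061 := rfl
theorem F44999 : act 0 n10061 = n6941 := d8_1 D10061 (iv D6941) (iv F31696)
theorem F45000 : act 1 n10061 = n10061 := d16_1 D10061 (iv D10061) F31697
theorem F45001 : act 3 n10061 = n10061 := d29_1 D10061 (iv D10061) F31698
theorem F45002 : act 6 n10061 = n6979 := d41_1 D10061 (iv D6979) (iv F31699)
theorem F45003 : act 8 n10061 = n6954 := d44_1 D10061 (iv D6954) (iv D4802) (iv F22414) D6934
def n10062 : Q := act 7 n6935
theorem D10062 : act 7 n6935 = n10062 := rfl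
theorem F45004 : act 0 n10062 = n6942 := d6_1 D10062 (iv D6942) (iv F31700)
theorem F45005 : act 1 n10062 = n10062 := d14_1 D10062 (iv D10062) F31701
theorem F45006 : act 2 n10062 = n7623 := d21_1 D10062 (iv D7623) (iv F31702)
theorem F45007 : act 4 n10062 = n10062 := d32_1 D10062 (iv D10062) F31703
theorem F45008 : act 5 n10062 = n6980 := d36_1 D10062 (iv D6980) (iv F31704)
theorem F45009 : act 8 n10062 = n10062 := d42_2 F31705 D10062 (iv D10062)
theorem F45010 : act 9 n10062 = n6955 := d43_2 (iv F31706) D10062 (iv D6955)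
def n10063 : Q := act 4 n6936
theorem D10063 : act 4 n6936 = n10063 := rfl
theorem F45011 : act 2 n10063 = n6938 := d18_1 D10063 (iv D6938) (iv F31707)
theorem F45012 : act 9 n10063 = n6956 := d34_2 (iv F31709) D10063 (iv D6956)
def n10064 : Q := act 6 n6936
theorem D10064 : act 6 n6936 = n10064 := rfl
theorem F45013 : act 2 n10064 = n6939 := d20_1 D10064 (iv D6939) (iv F31707)
theorem F45014 : act 3 n10064 = n7625 := d26_1 D10064 (iv D7625) (iv F31708)
theorem F45015 : act 5 n10064 = n6982 := d35_1 D10064 (iv D6982) (iv D4820) (iv F22422) D6936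
theorem F45016 : act 9 n10064 = n6957 := d41_2 (iv F31709) D10064 (iv D6957)
def n10065 : Q := act 8 n6936
theorem D10065 : act 8 n6936 = n10065 := rfl
theorem F45017 : act 2 n10065 = n6940 := d22_1 D10065 (iv D6940) (iv F31707)
theorem F45018 : act 5 n10065 = n6937 := d37_1 D10065 (iv D6937) D6936
def n10066 : Q := act 3 n6937
theorem D10066 : act 3 n6937 = n10066 := rfl
theorem F45019 : act 2 n10066 = n10066 := d17_1 D10066 (iv D10066) F31710 F22428 (iv F31710)
theorem F45020 : act 6 n10066 = n6984 := d26_2 (iv F31711) D10066 (iv D6984)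
theorem F45021 : act 8 n10066 = n7627 := d28_2 D6937 D10066 (iv D7627) (iv D5259) (iv F22421)
def n10067 : Q := act 9 n6937
theorem D10067 : act 9 n6937 = n10067 := rfl
theorem F45022 : act 2 n10067 = n6941 := d23_1 D10067 (iv D6941) (iv F31710)
theorem F45023 : act 6 n10067 = n6985 := d41_1 D10067 (iv D6985) (iv F31711)
theorem F45024 : act 8 n10067 = n6960 := d44_1 D10067 (iv D6960) (iv D4805) (iv F22423) D6937
def n10068 : Q := act 6 n6938
theorem D10068 : act 6 n6938 = n10068 := rfl
theorem F45025 : act 1 n10068 = n6943 := d13_1 D10068 (iv D6943) (iv F31712)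
theorem F45026 : act 3 n10068 = n10068 := d26_1 D10068 (iv D10068) F31713
theorem F45027 : act 4 n10068 = n6939 := d31_1 D10068 (iv D6939) D6938
theorem F45028 : act 9 n10068 = n6961 := d41_2 (iv F31714) D10068 (iv D6961)
def n10069 : Q := act 8 n6938
theorem D10069 : act 8 n6938 = n10069 := rfl
theorem F45029 : act 1 n10069 = n6944 := d15_1 D10069 (iv D6944) (iv F31712)
theorem F45030 : act 4 n10069 = n6940 := d33_1 D10069 (iv D6940) D6938
def n10070 : Q := act 7 n6939
theorem D10070 : act 7 n6939 = n10070 := rfl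
theorem F45031 : act 1 n10070 = n6945 := d14_1 D10070 (iv D6945) (iv F31715)
theorem F45032 : act 3 n10070 = n6942 := d27_1 D10070 (iv D6942) (iv F31716)
theorem F45033 : act 5 n10070 = n6988 := d36_1 D10070 (iv D6988) (iv F31717)
theorem F45034 : act 9 n10070 = n6963 := d43_2 (iv F31718) D10070 (iv D6963)
def n10071 : Q := act 8 n6939
theorem D10071 : act 8 n6939 = n10071 := rfl
theorem F45035 : act 1 n10071 = n6946 := d15_1 D10071 (iv D6946) (iv F31715)
theorem F45036 : act 3 n10071 = n10071 := d28_1 D10071 (iv D10071) F31716 F22434 (iv F31716)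
theorem F45037 : act 5 n10071 = n6989 := d37_1 D10071 (iv D6989) (iv F31717)
theorem F45038 : act 6 n10071 = n6940 := d40_1 D10071 (iv D6940) D6939
def n10072 : Q := act 9 n6940
theorem D10072 : act 9 n6940 = n10072 := rfl
theorem F45039 : act 1 n10072 = n6947 := d16_1 D10072 (iv D6947) (iv F31719)
theorem F45040 : act 3 n10072 = n10072 := d29_1 D10072 (iv D10072) F31720
theorem F45041 : act 5 n10072 = n6941 := d38_1 D10072 (iv D6941) (iv F31721)
theorem F45042 : act 8 n10072 = n6965 := d44_1 D10072 (iv D6965) (iv D4808) (iv F22426) D6940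
def n10073 : Q := act 5 n6943
theorem D10073 : act 5 n6943 = n10073 := rfl
theorem F45043 : act 0 n10073 = n10073 := d4_1 D10073 (iv D10073) F31732
theorem F45044 : act 3 n10073 = n10073 := d25_1 D10073 (iv D10073) F31733
theorem F45045 : act 4 n10073 = n6991 := d30_1 D10073 (iv D6991) F22555 (iv F22441) (iv F31734)
theorem F45046 : act 9 n10073 = n6966 := d38_2 (iv F31735) D10073 (iv D6966)
def n10074 : Q := act 7 n6943
theorem D10074 : act 7 n6943 = n10074 := rfl
theorem F45047 : act 0 n10074 = n10074 := d6_1 D10074 (iv D10074) F31732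
theorem F45048 : act 3 n10074 = n10074 := d27_1 D10074 (iv D10074) F31733
theorem F45049 : act 4 n10074 = n6945 := d32_1 D10074 (iv D6945) (iv F31734)
theorem F45050 : act 9 n10074 = n6967 := d43_2 (iv F31735) D10074 (iv D6967)
def n10075 : Q := act 8 n6943
theorem D10075 : act 8 n6943 = n10075 := rfl
theorem F45051 : act 0 n10075 = n10075 := d7_1 D10075 (iv D10075) F31732
theorem F45052 : act 4 n10075 = n6946 := d33_1 D10075 (iv D6946) (iv F31734)
theorem F45053 : act 6 n10075 = n6944 := d40_1 D10075 (iv D6944) D6943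
def n10076 : Q := act 3 n6944
theorem D10076 : act 3 n6944 = n10076 := rfl
theorem F45054 : act 0 n10076 = n10076 := d2_1 D10076 (iv D10076) F31736
theorem F45055 : act 4 n10076 = n10076 := d24_2 (iv F31737) D10076 (iv D10076) F31737 F22444
theorem F45056 : act 8 n10076 = n10076 := d28_2 D6944 D10076 (iv D10076) (iv D6944) F22437
def n10077 : Q := act 9 n6944
theorem D10077 : act 9 n6944 = n10077 := rfl
theorem F45057 : act 0 n10077 = n10077 := d8_1 D10077 (iv D10077) F31736
theorem F45058 : act 4 n10077 = n6947 := d34_1 D10077 (iv D6947) (iv F31737)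
theorem F45059 : act 8 n10077 = n6970 := d44_1 D10077 (iv D6970) (iv D4812) (iv F22438) D6944
def n10078 : Q := act 8 n6945
theorem D10078 : act 8 n6945 = n10078 := rfl
theorem F45060 : act 0 n10078 = n10078 := d7_1 D10078 (iv D10078) F31738
theorem F45061 : act 3 n10078 = n10078 := d28_1 D10078 (iv D10078) F31739 F22454 (iv F31739)
theorem F45062 : act 5 n10078 = n6996 := d37_1 D10078 (iv D6996) (iv F31740)
theorem F45063 : act 7 n10078 = n6946 := d42_1 D10078 (iv D6946) D6945
def n10079 : Q := act 9 n6946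
theorem D10079 : act 9 n6946 = n10079 := rfl
theorem F45064 : act 0 n10079 = n10079 := d8_1 D10079 (iv D10079) F31742
theorem F45065 : act 3 n10079 = n10079 := d29_1 D10079 (iv D10079) F31743
theorem F45066 : act 5 n10079 = n6997 := d38_1 D10079 (iv D6997) (iv F31744)
theorem F45067 : act 6 n10079 = n6947 := d41_1 D10079 (iv D6947) (iv F31745)
theorem F45068 : act 8 n10079 = n6972 := d44_1 D10079 (iv D6972) (iv D4814) (iv F22442) D6946
def n10080 : Q := act 5 n6948
theorem D10080 : act 5 n6948 = n10080 := rfl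
theorem F45069 : act 1 n10080 = n6949 := d12_1 D10080 (iv D6949) D6948
theorem F45070 : act 2 n10080 = n10080 := d19_1 D10080 (iv D10080) F31750
theorem F45071 : act 3 n10080 = n7641 := d25_1 D10080 (iv D7641) (iv F31751)
def n10081 : Q := act 8 n6948
theorem D10081 : act 8 n6948 = n10081 := rfl
def n10082 : Q := act 4 n6949
theorem D10082 : act 4 n6949 = n10082 := rfl
theorem F45075 : act 0 n10082 = n6956 := d3_1 D10082 (iv D6956) (iv F31753)
theorem F45076 : act 2 n10082 = n6951 := d18_1 D10082 (iv D6951) (iv F31754)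
def n10083 : Q := act 6 n6949
theorem D10083 : act 6 n6949 = n10083 := rfl
theorem F45077 : act 0 n10083 = n6957 := d5_1 D10083 (iv D6957) (iv F31753)
theorem F45078 : act 2 n10083 = n6952 := d20_1 D10083 (iv D6952) (iv F31754)
theorem F45079 : act 3 n10083 = n7644 := d26_1 D10083 (iv D7644) (iv F31755)
theorem F45080 : act 5 n10083 = n7001 := d35_1 D10083 (iv D7001) (iv D4833) (iv F22458) D6949
def n10084 : Q := act 8 n6949
theorem D10084 : act 8 n6949 = n10084 := rfl
theorem F45081 : act 0 n10084 = n6958 := d7_1 D10084 (iv D6958) (iv F31753)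
theorem F45082 : act 2 n10084 = n6953 := d22_1 D10084 (iv D6953) (iv F31754)
theorem F45083 : act 5 n10084 = n6950 := d37_1 D10084 (iv D6950) D6949
def n10085 : Q := act 3 n6950
theorem D10085 : act 3 n6950 = n10085 := rfl
theorem F45084 : act 0 n10085 = n6959 := d2_1 D10085 (iv D6959) (iv F31756)
theorem F45087 : act 8 n10085 = n7646 := d28_2 D6950 D10085 (iv D7646) (iv D5272) (iv F22457)
def n10086 : Q := act 9 n6950
theorem D10086 : act 9 n6950 = n10086 := rfl
theorem F45088 : act 0 n10086 = n6960 := d8_1 D10086 (iv D6960) (iv F31756)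
theorem F45089 : act 2 n10086 = n6954 := d23_1 D10086 (iv D6954) (iv F31757)
theorem F45090 : act 6 n10086 = n7004 := d41_1 D10086 (iv D7004) (iv F31758)
def n10087 : Q := act 6 n6951
theorem D10087 : act 6 n6951 = n10087 := rfl
theorem F45091 : act 0 n10087 = n6961 := d5_1 D10087 (iv D6961) (iv F31759)
theorem F45092 : act 1 n10087 = n10087 := d13_1 D10087 (iv D10087) F31760
theorem F45093 : act 3 n10087 = n10087 := d26_1 D10087 (iv D10087) F31761
theorem F45094 : act 4 n10087 = n6952 := d31_1 D10087 (iv D6952) D6951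
def n10088 : Q := act 8 n6951
theorem D10088 : act 8 n6951 = n10088 := rfl
theorem F45095 : act 0 n10088 = n6962 := d7_1 D10088 (iv D6962) (iv F31759)
theorem F45096 : act 1 n10088 = n10088 := d15_1 D10088 (iv D10088) F31760
theorem F45097 : act 4 n10088 = n6953 := d33_1 D10088 (iv D6953) D6951
def n10089 : Q := act 7 n6952
theorem D10089 : act 7 n6952 = n10089 := rfl
theorem F45098 : act 0 n10089 = n6963 := d6_1 D10089 (iv D6963) (iv F31762)
theorem F45099 : act 1 n10089 = n10089 := d14_1 D10089 (iv D10089) F31763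
theorem F45100 : act 3 n10089 = n6955 := d27_1 D10089 (iv D6955) (iv F31764)
theorem F45101 : act 5 n10089 = n7007 := d36_1 D10089 (iv D7007) (iv F31765)
def n10090 : Q := act 8 n6952
theorem D10090 : act 8 n6952 = n10090 := rfl
theorem F45102 : act 0 n10090 = n6964 := d7_1 D10090 (iv D6964) (iv F31762)
theorem F45103 : act 1 n10090 = n10090 := d15_1 D10090 (iv D10090) F31763
theorem F45104 : act 3 n10090 = n7150 := d28_1 D10090 (iv D7150) F23006 (iv F22471) (iv F31764)
theorem F45105 : act 5 n10090 = n7008 := d37_1 D10090 (iv D7008) (iv F31765)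
theorem F45106 : act 6 n10090 = n6953 := d40_1 D10090 (iv D6953) D6952
def n10091 : Q := act 9 n6953
theorem D10091 : act 9 n6953 = n10091 := rfl
theorem F45107 : act 0 n10091 = n6965 := d8_1 D10091 (iv D6965) (iv F31766)
theorem F45108 : act 1 n10091 = n10091 := d16_1 D10091 (iv D10091) F31767
theorem F45109 : act 3 n10091 = n7151 := d29_1 D10091 (iv D7151) (iv F31768)
theorem F45110 : act 5 n10091 = n6954 := d38_1 D10091 (iv D6954) (iv F31769)
def n10092 : Q := act 3 n6956
theorem D10092 : act 3 n6956 = n10092 := rfl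
theorem F45111 : act 2 n10092 = n10092 := d17_1 D10092 (iv D10092) F31780 F22477 (iv F31780)
theorem F45112 : act 4 n10092 = n7653 := d24_2 D6956 D10092 (iv D7653) (iv D5278) (iv F22473)
def n10093 : Q := act 6 n6956
theorem D10093 : act 6 n6956 = n10093 := rfl
theorem F45113 : act 2 n10093 = n6961 := d20_1 D10093 (iv D6961) (iv F31780)
theorem F45114 : act 4 n10093 = n6957 := d31_1 D10093 (iv D6957) D6956
def n10094 : Q := act 8 n6956
theorem D10094 : act 8 n6956 = n10094 := rfl
theorem F45115 : act 2 n10094 = n6962 := d22_1 D10094 (iv D6962) (iv F31780)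
theorem F45116 : act 4 n10094 = n6958 := d33_1 D10094 (iv D6958) D6956
def n10095 : Q := act 7 n6957
theorem D10095 : act 7 n6957 = n10095 := rfl
theorem F45117 : act 2 n10095 = n6963 := d21_1 D10095 (iv D6963) (iv F31781)
theorem F45118 : act 3 n10095 = n7656 := d27_1 D10095 (iv D7656) (iv F31782)
theorem F45119 : act 5 n10095 = n7013 := d36_1 D10095 (iv D7013) (iv F31783)
def n10096 : Q := act 8 n6957
theorem D10096 : act 8 n6957 = n10096 := rfl
theorem F45120 : act 2 n10096 = n6964 := d22_1 D10096 (iv D6964) (iv F31781)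
theorem F45121 : act 5 n10096 = n7014 := d37_1 D10096 (iv D7014) (iv F31783)
theorem F45122 : act 6 n10096 = n6958 := d40_1 D10096 (iv D6958) D6957
def n10097 : Q := act 3 n6958
theorem D10097 : act 3 n6958 = n10097 := rfl
theorem F45123 : act 2 n10097 = n7157 := d17_1 D10097 (iv D7157) F23033 (iv F22482) (iv F31784)
theorem F45124 : act 5 n10097 = n6959 := d25_2 (iv F31785) D10097 (iv D6959)
theorem F45125 : act 8 n10097 = n7658 := d28_2 D6958 D10097 (iv D7658) (iv D5280) (iv F22473)
def n10098 : Q := act 9 n6958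
theorem D10098 : act 9 n6958 = n10098 := rfl
theorem F45126 : act 2 n10098 = n6965 := d23_1 D10098 (iv D6965) (iv F31784)
theorem F45127 : act 5 n10098 = n6960 := d38_1 D10098 (iv D6960) (iv F31785)
def n10099 : Q := act 4 n6959
theorem D10099 : act 4 n6959 = n10099 := rfl
theorem F45128 : act 2 n10099 = n7159 := d18_1 D10099 (iv D7159) (iv F31786)
theorem F45129 : act 6 n10099 = n7017 := d31_2 (iv F31787) D10099 (iv D7017)
theorem F45130 : act 8 n10099 = n7660 := d33_2 (iv F31788) D10099 (iv D7660)
def n10100 : Q := act 9 n6959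
theorem D10100 : act 9 n6959 = n10100 := rfl
theorem F45131 : act 2 n10100 = n7160 := d23_1 D10100 (iv D7160) (iv F31786)
theorem F45132 : act 3 n10100 = n6960 := d29_1 D10100 (iv D6960) D6959
theorem F45133 : act 6 n10100 = n7018 := d41_1 D10100 (iv D7018) (iv F31787)
def n10101 : Q := act 5 n6961
theorem D10101 : act 5 n6961 = n10101 := rfl
theorem F45134 : act 1 n10101 = n6966 := d12_1 D10101 (iv D6966) (iv F31791)
theorem F45135 : act 3 n10101 = n10101 := d25_1 D10101 (iv D10101) F31792
theorem F45136 : act 4 n10101 = n7019 := d30_1 D10101 (iv D7019) F22618 (iv F22480) (iv F31793)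
def n10102 : Q := act 7 n6961
theorem D10102 : act 7 n6961 = n10102 := rfl
theorem F45137 : act 1 n10102 = n6967 := d14_1 D10102 (iv D6967) (iv F31791)
theorem F45138 : act 3 n10102 = n10102 := d27_1 D10102 (iv D10102) F31792
theorem F45139 : act 4 n10102 = n6963 := d32_1 D10102 (iv D6963) (iv F31793)
def n10103 : Q := act 8 n6961
theorem D10103 : act 8 n6961 = n10103 := rfl
theorem F45140 : act 1 n10103 = n6968 := d15_1 D10103 (iv D6968) (iv F31791)
theorem F45141 : act 4 n10103 = n6964 := d33_1 D10103 (iv D6964) (iv F31793)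
theorem F45142 : act 6 n10103 = n6962 := d40_1 D10103 (iv D6962) D6961
def n10104 : Q := act 3 n6962
theorem D10104 : act 3 n6962 = n10104 := rfl
theorem F45143 : act 1 n10104 = n6969 := d10_1 D10104 (iv D6969) (iv F31794)
theorem F45144 : act 4 n10104 = n7164 := d24_2 (iv F31795) D10104 (iv D7164) F23048 (iv F22482)
theorem F45145 : act 8 n10104 = n10104 := d28_2 D6962 D10104 (iv D10104) (iv D6962) F22477
def n10105 : Q := act 9 n6962
theorem D10105 : act 9 n6962 = n10105 := rfl
theorem F45146 : act 1 n10105 = n6970 := d16_1 D10105 (iv D6970) (iv F31794)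
theorem F45147 : act 4 n10105 = n6965 := d34_1 D10105 (iv D6965) (iv F31795)
def n10106 : Q := act 8 n6963
theorem D10106 : act 8 n6963 = n10106 := rfl
theorem F45148 : act 1 n10106 = n6971 := d15_1 D10106 (iv D6971) (iv F31796)
theorem F45149 : act 3 n10106 = n7166 := d28_1 D10106 (iv D7166) F23051 (iv F22491) (iv F31797)
theorem F45150 : act 5 n10106 = n7024 := d37_1 D10106 (iv D7024) (iv F31798)
theorem F45151 : act 7 n10106 = n6964 := d42_1 D10106 (iv D6964) D6963
def n10107 : Q := act 9 n6964
theorem D10107 : act 9 n6964 = n10107 := rfl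
theorem F45152 : act 1 n10107 = n6972 := d16_1 D10107 (iv D6972) (iv F31799)
theorem F45153 : act 3 n10107 = n7167 := d29_1 D10107 (iv D7167) (iv F31800)
theorem F45154 : act 5 n10107 = n7025 := d38_1 D10107 (iv D7025) (iv F31801)
theorem F45155 : act 6 n10107 = n6965 := d41_1 D10107 (iv D6965) (iv F31802)
def n10108 : Q := act 7 n6966
theorem D10108 : act 7 n6966 = n10108 := rfl
theorem F45156 : act 0 n10108 = n10108 := d6_1 D10108 (iv D10108) F31806
theorem F45157 : act 3 n10108 = n10108 := d27_1 D10108 (iv D10108) F31807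
theorem F45158 : act 4 n10108 = n7026 := d32_1 D10108 (iv D7026) (iv F31808)
theorem F45159 : act 5 n10108 = n6967 := d36_1 D10108 (iv D6967) D6966
def n10109 : Q := act 8 n6966
theorem D10109 : act 8 n6966 = n10109 := rfl
theorem F45160 : act 0 n10109 = n10109 := d7_1 D10109 (iv D10109) F31806
theorem F45161 : act 4 n10109 = n7027 := d33_1 D10109 (iv D7027) (iv F31808)
theorem F45162 : act 5 n10109 = n6968 := d37_1 D10109 (iv D6968) D6966
def n10110 : Q := act 8 n6967
theorem D10110 : act 8 n6967 = n10110 := rfl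
theorem F45163 : act 0 n10110 = n10110 := d7_1 D10110 (iv D10110) F31809
theorem F45164 : act 4 n10110 = n6971 := d33_1 D10110 (iv D6971) (iv F31811)
theorem F45165 : act 7 n10110 = n6968 := d42_1 D10110 (iv D6968) D6967
def n10111 : Q := act 3 n6968
theorem D10111 : act 3 n6968 = n10111 := rfl
theorem F45166 : act 0 n10111 = n10111 := d2_1 D10111 (iv D10111) F31812
theorem F45167 : act 4 n10111 = n7171 := d24_2 (iv F31813) D10111 (iv D7171) F23073 (iv F22501)
theorem F45168 : act 6 n10111 = n6969 := d26_2 (iv F31814) D10111 (iv D6969)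
theorem F45169 : act 8 n10111 = n10111 := d28_2 D6968 D10111 (iv D10111) (iv D6968) F22493
def n10112 : Q := act 9 n6968
theorem D10112 : act 9 n6968 = n10112 := rfl
theorem F45170 : act 0 n10112 = n10112 := d8_1 D10112 (iv D10112) F31812
theorem F45171 : act 4 n10112 = n6972 := d34_1 D10112 (iv D6972) (iv F31813)
theorem F45172 : act 6 n10112 = n6970 := d41_1 D10112 (iv D6970) (iv F31814)
def n10113 : Q := act 2 n6969
theorem D10113 : act 2 n6969 = n10113 := rfl
theorem F45173 : act 0 n10113 = n10113 := d1_1 D10113 (iv D10113) F31815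
theorem F45174 : act 4 n10113 = n7173 := d18_2 (iv F31816) D10113 (iv D7173)
theorem F45175 : act 8 n10113 = n10113 := d22_2 F31817 D10113 (iv D10113)
def n10114 : Q := act 9 n6969
theorem D10114 : act 9 n6969 = n10114 := rfl
theorem F45176 : act 0 n10114 = n10114 := d8_1 D10114 (iv D10114) F31815
theorem F45177 : act 3 n10114 = n6970 := d29_1 D10114 (iv D6970) D6969
theorem F45178 : act 4 n10114 = n7174 := d34_1 D10114 (iv D7174) (iv F31816)
def n10115 : Q := act 9 n6971
theorem D10115 : act 9 n6971 = n10115 := rfl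
theorem F45179 : act 0 n10115 = n10115 := d8_1 D10115 (iv D10115) F31820
theorem F45180 : act 3 n10115 = n7175 := d29_1 D10115 (iv D7175) (iv F31821)
theorem F45181 : act 5 n10115 = n7033 := d38_1 D10115 (iv D7033) (iv F31822)
theorem F45182 : act 7 n10115 = n6972 := d43_1 D10115 (iv D6972) (iv F31823)
def n10116 : Q := act 5 n6973
theorem D10116 : act 5 n6973 = n10116 := rfl
theorem F45183 : act 1 n10116 = n6974 := d12_1 D10116 (iv D6974) D6973
theorem F45184 : act 2 n10116 = n10116 := d19_1 D10116 (iv D10116) F31828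
theorem F45185 : act 3 n10116 = n7677 := d25_1 D10116 (iv D7677) (iv F31829)
theorem F45186 : act 7 n10116 = n10116 := d36_2 F31830 D10116 (iv D10116)
theorem F45187 : act 9 n10116 = n6998 := d38_2 (iv F31831) D10116 (iv D6998)
def n10117 : Q := act 8 n6973
theorem D10117 : act 8 n6973 = n10117 := rfl
def n10118 : Q := act 4 n6974
theorem D10118 : act 4 n6974 = n10118 := rfl
theorem F45191 : act 0 n10118 = n6981 := d3_1 D10118 (iv D6981) (iv F31832)
theorem F45192 : act 2 n10118 = n6976 := d18_1 D10118 (iv D6976) (iv F31833)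
theorem F45193 : act 7 n10118 = n10118 := d32_2 F31835 D10118 (iv D10118)
theorem F45194 : act 9 n10118 = n7000 := d34_2 (iv F31836) D10118 (iv D7000)
def n10119 : Q := act 6 n6974
theorem D10119 : act 6 n6974 = n10119 := rfl
theorem F45195 : act 0 n10119 = n6982 := d5_1 D10119 (iv D6982) (iv F31832)
theorem F45196 : act 2 n10119 = n6977 := d20_1 D10119 (iv D6977) (iv F31833)
theorem F45197 : act 3 n10119 = n7680 := d26_1 D10119 (iv D7680) (iv F31834)
theorem F45198 : act 9 n10119 = n7001 := d41_2 (iv F31836) D10119 (iv D7001)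
def n10120 : Q := act 8 n6974
theorem D10120 : act 8 n6974 = n10120 := rfl
theorem F45199 : act 0 n10120 = n6983 := d7_1 D10120 (iv D6983) (iv F31832)
theorem F45200 : act 2 n10120 = n6978 := d22_1 D10120 (iv D6978) (iv F31833)
theorem F45201 : act 5 n10120 = n6975 := d37_1 D10120 (iv D6975) D6974
theorem F45202 : act 7 n10120 = n10120 := d42_1 D10120 (iv D10120) F31835
def n10121 : Q := act 3 n6975
theorem D10121 : act 3 n6975 = n10121 := rfl
theorem F45206 : act 8 n10121 = n7682 := d28_2 D6975 D10121 (iv D7682) (iv D5297) (iv F22508)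
def n10122 : Q := act 9 n6975
theorem D10122 : act 9 n6975 = n10122 := rfl
theorem F45207 : act 0 n10122 = n6985 := d8_1 D10122 (iv D6985) (iv F31837)
theorem F45208 : act 2 n10122 = n6979 := d23_1 D10122 (iv D6979) (iv F31838)
theorem F45209 : act 7 n10122 = n10122 := d43_1 D10122 (iv D10122) F31839
theorem F45210 : act 8 n10122 = n7004 := d44_1 D10122 (iv D7004) (iv D4834) (iv F22510) D6975
def n10123 : Q := act 6 n6976
theorem D10123 : act 6 n6976 = n10123 := rfl
theorem F45211 : act 0 n10123 = n6986 := d5_1 D10123 (iv D6986) (iv F31840)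
theorem F45212 : act 1 n10123 = n10123 := d13_1 D10123 (iv D10123) F31841
theorem F45213 : act 3 n10123 = n7041 := d26_1 D10123 (iv D7041) (iv F31842)
theorem F45214 : act 4 n10123 = n6977 := d31_1 D10123 (iv D6977) D6976
theorem F45215 : act 9 n10123 = n7005 := d41_2 (iv F31844) D10123 (iv D7005)
def n10124 : Q := act 8 n6976
theorem D10124 : act 8 n6976 = n10124 := rfl
theorem F45216 : act 0 n10124 = n6987 := d7_1 D10124 (iv D6987) (iv F31840)
theorem F45217 : act 1 n10124 = n10124 := d15_1 D10124 (iv D10124) F31841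
theorem F45218 : act 4 n10124 = n6978 := d33_1 D10124 (iv D6978) D6976
theorem F45219 : act 7 n10124 = n10124 := d42_1 D10124 (iv D10124) F31843
def n10125 : Q := act 7 n6977
theorem D10125 : act 7 n6977 = n10125 := rfl
theorem F45220 : act 0 n10125 = n6988 := d6_1 D10125 (iv D6988) (iv F31845)
theorem F45221 : act 1 n10125 = n10125 := d14_1 D10125 (iv D10125) F31846
theorem F45222 : act 3 n10125 = n6980 := d27_1 D10125 (iv D6980) (iv F31847)
theorem F45223 : act 6 n10125 = n10125 := d39_1 D10125 (iv D10125) (iv D6977) F22514 D6977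
theorem F45224 : act 9 n10125 = n7007 := d43_2 (iv F31848) D10125 (iv D7007)
def n10126 : Q := act 8 n6977
theorem D10126 : act 8 n6977 = n10126 := rfl
theorem F45225 : act 0 n10126 = n6989 := d7_1 D10126 (iv D6989) (iv F31845)
theorem F45226 : act 1 n10126 = n10126 := d15_1 D10126 (iv D10126) F31846
theorem F45227 : act 3 n10126 = n10126 := d28_1 D10126 (iv D10126) F31847 F22524 (iv F31847)
theorem F45228 : act 6 n10126 = n6978 := d40_1 D10126 (iv D6978) D6977
def n10127 : Q := act 9 n6978
theorem D10127 : act 9 n6978 = n10127 := rfl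
theorem F45229 : act 0 n10127 = n6990 := d8_1 D10127 (iv D6990) (iv F31849)
theorem F45230 : act 1 n10127 = n10127 := d16_1 D10127 (iv D10127) F31850
theorem F45231 : act 3 n10127 = n10127 := d29_1 D10127 (iv D10127) F31851
theorem F45232 : act 5 n10127 = n6979 := d38_1 D10127 (iv D6979) (iv F31852)
theorem F45233 : act 7 n10127 = n10127 := d43_1 D10127 (iv D10127) F31853
theorem F45234 : act 8 n10127 = n7009 := d44_1 D10127 (iv D7009) (iv D4837) (iv F22515) D6978
def n10128 : Q := act 3 n6981
theorem D10128 : act 3 n6981 = n10128 := rfl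
theorem F45235 : act 2 n10128 = n7046 := d17_1 D10128 (iv D7046) F22698 (iv F22533) (iv F31866)
theorem F45236 : act 4 n10128 = n7689 := d24_2 D6981 D10128 (iv D7689) (iv D5303) (iv F22527)
theorem F45237 : act 7 n10128 = n10128 := d27_2 F31867 D10128 (iv D10128)
theorem F45238 : act 9 n10128 = n7010 := d29_2 (iv F31868) D10128 (iv D7010)
def n10129 : Q := act 6 n6981
theorem D10129 : act 6 n6981 = n10129 := rfl
theorem F45239 : act 2 n10129 = n6986 := d20_1 D10129 (iv D6986) (iv F31866)
theorem F45240 : act 4 n10129 = n6982 := d31_1 D10129 (iv D6982) D6981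
theorem F45241 : act 9 n10129 = n7011 := d41_2 (iv F31868) D10129 (iv D7011)
def n10130 : Q := act 8 n6981
theorem D10130 : act 8 n6981 = n10130 := rfl
theorem F45242 : act 2 n10130 = n6987 := d22_1 D10130 (iv D6987) (iv F31866)
theorem F45243 : act 4 n10130 = n6983 := d33_1 D10130 (iv D6983) D6981
theorem F45244 : act 7 n10130 = n10130 := d42_1 D10130 (iv D10130) F31867
def n10131 : Q := act 7 n6982
theorem D10131 : act 7 n6982 = n10131 := rfl
theorem F45245 : act 2 n10131 = n6988 := d21_1 D10131 (iv D6988) (iv F31869)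
theorem F45246 : act 3 n10131 = n7692 := d27_1 D10131 (iv D7692) (iv F31870)
theorem F45247 : act 6 n10131 = n10131 := d39_1 D10131 (iv D10131) (iv D6982) F22528 D6982
theorem F45248 : act 9 n10131 = n7013 := d43_2 (iv F31871) D10131 (iv D7013)
def n10132 : Q := act 8 n6982
theorem D10132 : act 8 n6982 = n10132 := rfl
theorem F45249 : act 2 n10132 = n6989 := d22_1 D10132 (iv D6989) (iv F31869)
theorem F45250 : act 6 n10132 = n6983 := d40_1 D10132 (iv D6983) D6982
def n10133 : Q := act 3 n6983
theorem D10133 : act 3 n6983 = n10133 := rfl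
theorem F45251 : act 2 n10133 = n10133 := d17_1 D10133 (iv D10133) F31872 F22540 (iv F31872)
theorem F45252 : act 5 n10133 = n6984 := d25_2 (iv F31873) D10133 (iv D6984)
theorem F45253 : act 7 n10133 = n10133 := d27_2 F31874 D10133 (iv D10133)
theorem F45254 : act 8 n10133 = n7694 := d28_2 D6983 D10133 (iv D7694) (iv D5305) (iv F22527)
def n10134 : Q := act 9 n6983
theorem D10134 : act 9 n6983 = n10134 := rfl
theorem F45255 : act 2 n10134 = n6990 := d23_1 D10134 (iv D6990) (iv F31872)
theorem F45256 : act 5 n10134 = n6985 := d38_1 D10134 (iv D6985) (iv F31873)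
theorem F45257 : act 7 n10134 = n10134 := d43_1 D10134 (iv D10134) F31874
theorem F45258 : act 8 n10134 = n7016 := d44_1 D10134 (iv D7016) (iv D4842) (iv F22529) D6983
def n10135 : Q := act 4 n6984
theorem D10135 : act 4 n6984 = n10135 := rfl
theorem F45261 : act 8 n10135 = n7696 := d33_2 (iv F31877) D10135 (iv D7696)
def n10136 : Q := act 9 n6984
theorem D10136 : act 9 n6984 = n10136 := rfl
theorem F45262 : act 2 n10136 = n10136 := d23_1 D10136 (iv D10136) F31875
theorem F45263 : act 3 n10136 = n6985 := d29_1 D10136 (iv D6985) D6984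
theorem F45264 : act 7 n10136 = n10136 := d43_1 D10136 (iv D10136) F31876
def n10137 : Q := act 5 n6986
theorem D10137 : act 5 n6986 = n10137 := rfl
theorem F45265 : act 1 n10137 = n6991 := d12_1 D10137 (iv D6991) (iv F31881)
theorem F45266 : act 3 n10137 = n7055 := d25_1 D10137 (iv D7055) (iv F31882)
theorem F45267 : act 9 n10137 = n7019 := d38_2 (iv F31884) D10137 (iv D7019)
def n10138 : Q := act 7 n6986
theorem D10138 : act 7 n6986 = n10138 := rfl
theorem F45268 : act 1 n10138 = n6992 := d14_1 D10138 (iv D6992) (iv F31881)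
theorem F45269 : act 3 n10138 = n7056 := d27_1 D10138 (iv D7056) (iv F31882)
theorem F45270 : act 4 n10138 = n6988 := d32_1 D10138 (iv D6988) (iv F31883)
theorem F45271 : act 6 n10138 = n10138 := d39_1 D10138 (iv D10138) (iv D6986) F22534 D6986
theorem F45272 : act 9 n10138 = n7020 := d43_2 (iv F31884) D10138 (iv D7020)
def n10139 : Q := act 8 n6986
theorem D10139 : act 8 n6986 = n10139 := rfl
theorem F45273 : act 1 n10139 = n6993 := d15_1 D10139 (iv D6993) (iv F31881)
theorem F45274 : act 4 n10139 = n6989 := d33_1 D10139 (iv D6989) (iv F31883)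
theorem F45275 : act 6 n10139 = n6987 := d40_1 D10139 (iv D6987) D6986
def n10140 : Q := act 3 n6987
theorem D10140 : act 3 n6987 = n10140 := rfl
theorem F45276 : act 1 n10140 = n6994 := d10_1 D10140 (iv D6994) (iv F31885)
theorem F45277 : act 4 n10140 = n10140 := d24_2 (iv F31886) D10140 (iv D10140) F31886 F22540
theorem F45278 : act 7 n10140 = n10140 := d27_2 F31887 D10140 (iv D10140)
theorem F45279 : act 8 n10140 = n7058 := d28_2 D6987 D10140 (iv D7058) (iv D4871) (iv F22533)
def n10141 : Q := act 9 n6987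
theorem D10141 : act 9 n6987 = n10141 := rfl
theorem F45280 : act 1 n10141 = n6995 := d16_1 D10141 (iv D6995) (iv F31885)
theorem F45281 : act 4 n10141 = n6990 := d34_1 D10141 (iv D6990) (iv F31886)
theorem F45282 : act 7 n10141 = n10141 := d43_1 D10141 (iv D10141) F31887
theorem F45283 : act 8 n10141 = n7023 := d44_1 D10141 (iv D7023) (iv D4846) (iv F22535) D6987
def n10142 : Q := act 8 n6988
theorem D10142 : act 8 n6988 = n10142 := rfl
theorem F45284 : act 1 n10142 = n6996 := d15_1 D10142 (iv D6996) (iv F31888)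
theorem F45285 : act 3 n10142 = n10142 := d28_1 D10142 (iv D10142) F31889 F22551 (iv F31889)
theorem F45286 : act 6 n10142 = n10142 := d40_1 D10142 (iv D10142) F31890
theorem F45287 : act 7 n10142 = n6989 := d42_1 D10142 (iv D6989) D6988
def n10143 : Q := act 9 n6989
theorem D10143 : act 9 n6989 = n10143 := rfl
theorem F45288 : act 1 n10143 = n6997 := d16_1 D10143 (iv D6997) (iv F31892)
theorem F45289 : act 3 n10143 = n10143 := d29_1 D10143 (iv D10143) F31893
theorem F45290 : act 6 n10143 = n6990 := d41_1 D10143 (iv D6990) (iv F31894)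
theorem F45291 : act 8 n10143 = n7025 := d44_1 D10143 (iv D7025) (iv D4848) (iv F22538) D6989
def n10144 : Q := act 7 n6991
theorem D10144 : act 7 n6991 = n10144 := rfl
theorem F45292 : act 0 n10144 = n10144 := d6_1 D10144 (iv D10144) F31900
theorem F45293 : act 3 n10144 = n7062 := d27_1 D10144 (iv D7062) (iv F31901)
theorem F45294 : act 5 n10144 = n6992 := d36_1 D10144 (iv D6992) D6991
theorem F45295 : act 9 n10144 = n7026 := d43_2 (iv F31902) D10144 (iv D7026)
def n10145 : Q := act 8 n6991
theorem D10145 : act 8 n6991 = n10145 := rfl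
theorem F45296 : act 0 n10145 = n10145 := d7_1 D10145 (iv D10145) F31900
theorem F45297 : act 5 n10145 = n6993 := d37_1 D10145 (iv D6993) D6991
def n10146 : Q := act 8 n6992
theorem D10146 : act 8 n6992 = n10146 := rfl
theorem F45298 : act 0 n10146 = n10146 := d7_1 D10146 (iv D10146) F31903
theorem F45299 : act 4 n10146 = n6996 := d33_1 D10146 (iv D6996) (iv F31905)
theorem F45300 : act 6 n10146 = n10146 := d40_1 D10146 (iv D10146) F31906
theorem F45301 : act 7 n10146 = n6993 := d42_1 D10146 (iv D6993) D6992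
def n10147 : Q := act 3 n6993
theorem D10147 : act 3 n6993 = n10147 := rfl
theorem F45302 : act 0 n10147 = n10147 := d2_1 D10147 (iv D10147) F31908
theorem F45303 : act 4 n10147 = n10147 := d24_2 (iv F31909) D10147 (iv D10147) F31909 F22565
theorem F45304 : act 6 n10147 = n6994 := d26_2 (iv F31910) D10147 (iv D6994)
theorem F45305 : act 8 n10147 = n7065 := d28_2 D6993 D10147 (iv D7065) (iv D4877) (iv F22554)
def n10148 : Q := act 9 n6993
theorem D10148 : act 9 n6993 = n10148 := rfl
theorem F45306 : act 0 n10148 = n10148 := d8_1 D10148 (iv D10148) F31908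
theorem F45307 : act 4 n10148 = n6997 := d34_1 D10148 (iv D6997) (iv F31909)
theorem F45308 : act 6 n10148 = n6995 := d41_1 D10148 (iv D6995) (iv F31910)
theorem F45309 : act 8 n10148 = n7030 := d44_1 D10148 (iv D7030) (iv D4852) (iv F22556) D6993
def n10149 : Q := act 2 n6994
theorem D10149 : act 2 n6994 = n10149 := rfl
theorem F45310 : act 0 n10149 = n10149 := d1_1 D10149 (iv D10149) F31911
theorem F45311 : act 4 n10149 = n10149 := d18_2 F31912 D10149 (iv D10149)
theorem F45312 : act 7 n10149 = n10149 := d21_2 F31913 D10149 (iv D10149)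
theorem F45313 : act 8 n10149 = n7067 := d22_2 (iv F31914) D10149 (iv D7067)
def n10150 : Q := act 9 n6994
theorem D10150 : act 9 n6994 = n10150 := rfl
theorem F45314 : act 0 n10150 = n10150 := d8_1 D10150 (iv D10150) F31911
theorem F45315 : act 3 n10150 = n6995 := d29_1 D10150 (iv D6995) D6994
theorem F45316 : act 4 n10150 = n10150 := d34_1 D10150 (iv D10150) F31912
theorem F45317 : act 7 n10150 = n10150 := d43_1 D10150 (iv D10150) F31913
def n10151 : Q := act 9 n6996
theorem D10151 : act 9 n6996 = n10151 := rfl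
theorem F45318 : act 0 n10151 = n10151 := d8_1 D10151 (iv D10151) F31919
theorem F45319 : act 3 n10151 = n10151 := d29_1 D10151 (iv D10151) F31920
theorem F45320 : act 6 n10151 = n10151 := d41_1 D10151 (iv D10151) F31921
theorem F45321 : act 7 n10151 = n6997 := d43_1 D10151 (iv D6997) (iv F31922)
theorem F45322 : act 8 n10151 = n7033 := d44_1 D10151 (iv D7033) (iv D4855) (iv F22563) D6996
def n10152 : Q := act 4 n6998
theorem D10152 : act 4 n6998 = n10152 := rfl
theorem F45323 : act 1 n10152 = n7000 := d11_1 D10152 (iv D7000) (iv F31927)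
theorem F45324 : act 2 n10152 = n10152 := d18_1 D10152 (iv D10152) F31928
theorem F45325 : act 7 n10152 = n10152 := d32_2 F31930 D10152 (iv D10152)
def n10153 : Q := act 6 n6998
theorem D10153 : act 6 n6998 = n10153 := rfl
theorem F45326 : act 1 n10153 = n7001 := d13_1 D10153 (iv D7001) (iv F31927)
theorem F45327 : act 2 n10153 = n10153 := d20_1 D10153 (iv D10153) F31928
theorem F45328 : act 3 n10153 = n7714 := d26_1 D10153 (iv D7714) (iv F31929)
def n10154 : Q := act 8 n6998
theorem D10154 : act 8 n6998 = n10154 := rfl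
def n10156 : Q := act 9 n6999
theorem D10156 : act 9 n6999 = n10156 := rfl
def n10157 : Q := act 3 n7000
theorem D10157 : act 3 n7000 = n10157 := rfl
theorem F45339 : act 0 n10157 = n7010 := d2_1 D10157 (iv D7010) (iv F31934)
theorem F45340 : act 2 n10157 = n7074 := d17_1 D10157 (iv D7074) F22785 (iv F22584) (iv F31935)
theorem F45341 : act 4 n10157 = n7718 := d24_2 D7000 D10157 (iv D7718) (iv D5322) (iv F22577)
theorem F45342 : act 7 n10157 = n10157 := d27_2 F31936 D10157 (iv D10157)
def n10158 : Q := act 6 n7000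
theorem D10158 : act 6 n7000 = n10158 := rfl
theorem F45343 : act 0 n10158 = n7011 := d5_1 D10158 (iv D7011) (iv F31934)
theorem F45344 : act 2 n10158 = n7005 := d20_1 D10158 (iv D7005) (iv F31935)
theorem F45345 : act 4 n10158 = n7001 := d31_1 D10158 (iv D7001) D7000
def n10159 : Q := act 8 n7000
theorem D10159 : act 8 n7000 = n10159 := rfl
theorem F45346 : act 0 n10159 = n7012 := d7_1 D10159 (iv D7012) (iv F31934)
theorem F45347 : act 2 n10159 = n7006 := d22_1 D10159 (iv D7006) (iv F31935)
theorem F45348 : act 4 n10159 = n7002 := d33_1 D10159 (iv D7002) D7000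
theorem F45349 : act 7 n10159 = n10159 := d42_1 D10159 (iv D10159) F31936
def n10160 : Q := act 7 n7001
theorem D10160 : act 7 n7001 = n10160 := rfl
theorem F45350 : act 0 n10160 = n7013 := d6_1 D10160 (iv D7013) (iv F31937)
theorem F45351 : act 2 n10160 = n7007 := d21_1 D10160 (iv D7007) (iv F31938)
theorem F45352 : act 3 n10160 = n7721 := d27_1 D10160 (iv D7721) (iv F31939)
theorem F45353 : act 6 n10160 = n10160 := d39_1 D10160 (iv D10160) (iv D7001) F22578 D7001
def n10161 : Q := act 8 n7001
theorem D10161 : act 8 n7001 = n10161 := rfl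
theorem F45354 : act 0 n10161 = n7014 := d7_1 D10161 (iv D7014) (iv F31937)
theorem F45355 : act 2 n10161 = n7008 := d22_1 D10161 (iv D7008) (iv F31938)
theorem F45356 : act 6 n10161 = n7002 := d40_1 D10161 (iv D7002) D7001
def n10162 : Q := act 3 n7002
theorem D10162 : act 3 n7002 = n10162 := rfl
theorem F45357 : act 0 n10162 = n7015 := d2_1 D10162 (iv D7015) (iv F31940)
theorem F45361 : act 8 n10162 = n7723 := d28_2 D7002 D10162 (iv D7723) (iv D5324) (iv F22577)
def n10163 : Q := act 9 n7002
theorem D10163 : act 9 n7002 = n10163 := rfl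
theorem F45362 : act 0 n10163 = n7016 := d8_1 D10163 (iv D7016) (iv F31940)
theorem F45363 : act 2 n10163 = n7009 := d23_1 D10163 (iv D7009) (iv F31941)
theorem F45364 : act 5 n10163 = n7004 := d38_1 D10163 (iv D7004) (iv F31942)
theorem F45365 : act 7 n10163 = n10163 := d43_1 D10163 (iv D10163) F31943
def n10164 : Q := act 4 n7003
theorem D10164 : act 4 n7003 = n10164 := rfl
theorem F45366 : act 0 n10164 = n7017 := d3_1 D10164 (iv D7017) (iv F31944)
theorem F45369 : act 8 n10164 = n7725 := d33_2 (iv F31947) D10164 (iv D7725)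
def n10166 : Q := act 5 n7005
theorem D10166 : act 5 n7005 = n10166 := rfl
theorem F45374 : act 0 n10166 = n7019 := d4_1 D10166 (iv D7019) (iv F31951)
theorem F45375 : act 1 n10166 = n10166 := d12_1 D10166 (iv D10166) F31952
theorem F45376 : act 3 n10166 = n7080 := d25_1 D10166 (iv D7080) (iv F31953)
def n10167 : Q := act 7 n7005
theorem D10167 : act 7 n7005 = n10167 := rfl
theorem F45377 : act 0 n10167 = n7020 := d6_1 D10167 (iv D7020) (iv F31951)
theorem F45378 : act 1 n10167 = n10167 := d14_1 D10167 (iv D10167) F31952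
theorem F45379 : act 3 n10167 = n7081 := d27_1 D10167 (iv D7081) (iv F31953)
theorem F45380 : act 4 n10167 = n7007 := d32_1 D10167 (iv D7007) (iv F31954)
theorem F45381 : act 6 n10167 = n10167 := d39_1 D10167 (iv D10167) (iv D7005) F22585 D7005
def n10168 : Q := act 8 n7005
theorem D10168 : act 8 n7005 = n10168 := rfl
theorem F45382 : act 0 n10168 = n7021 := d7_1 D10168 (iv D7021) (iv F31951)
theorem F45383 : act 1 n10168 = n10168 := d15_1 D10168 (iv D10168) F31952
theorem F45384 : act 4 n10168 = n7008 := d33_1 D10168 (iv D7008) (iv F31954)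
theorem F45385 : act 6 n10168 = n7006 := d40_1 D10168 (iv D7006) D7005
def n10169 : Q := act 3 n7006
theorem D10169 : act 3 n7006 = n10169 := rfl
theorem F45386 : act 0 n10169 = n7022 := d2_1 D10169 (iv D7022) (iv F31955)
theorem F45387 : act 1 n10169 = n10169 := d10_1 D10169 (iv D10169) F31956
theorem F45388 : act 4 n10169 = n7192 := d24_2 (iv F31957) D10169 (iv D7192) F23132 (iv F22591)
theorem F45389 : act 7 n10169 = n10169 := d27_2 F31958 D10169 (iv D10169)
theorem F45390 : act 8 n10169 = n7083 := d28_2 D7006 D10169 (iv D7083) (iv D4889) (iv F22584)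
def n10170 : Q := act 9 n7006
theorem D10170 : act 9 n7006 = n10170 := rfl
theorem F45391 : act 0 n10170 = n7023 := d8_1 D10170 (iv D7023) (iv F31955)
theorem F45392 : act 1 n10170 = n10170 := d16_1 D10170 (iv D10170) F31956
theorem F45393 : act 4 n10170 = n7009 := d34_1 D10170 (iv D7009) (iv F31957)
theorem F45394 : act 7 n10170 = n10170 := d43_1 D10170 (iv D10170) F31958
def n10171 : Q := act 8 n7007
theorem D10171 : act 8 n7007 = n10171 := rfl
theorem F45395 : act 0 n10171 = n7024 := d7_1 D10171 (iv D7024) (iv F31959)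
theorem F45396 : act 1 n10171 = n10171 := d15_1 D10171 (iv D10171) F31960
theorem F45397 : act 3 n10171 = n7194 := d28_1 D10171 (iv D7194) F23137 (iv F22603) (iv F31961)
theorem F45398 : act 6 n10171 = n10171 := d40_1 D10171 (iv D10171) F31962
theorem F45399 : act 7 n10171 = n7008 := d42_1 D10171 (iv D7008) D7007
def n10172 : Q := act 9 n7008
theorem D10172 : act 9 n7008 = n10172 := rfl
theorem F45400 : act 0 n10172 = n7025 := d8_1 D10172 (iv D7025) (iv F31963)
theorem F45401 : act 1 n10172 = n10172 := d16_1 D10172 (iv D10172) F31964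
theorem F45402 : act 3 n10172 = n7195 := d29_1 D10172 (iv D7195) (iv F31965)
theorem F45403 : act 6 n10172 = n7009 := d41_1 D10172 (iv D7009) (iv F31966)
def n10173 : Q := act 6 n7010
theorem D10173 : act 6 n7010 = n10173 := rfl
theorem F45404 : act 2 n10173 = n7087 := d20_1 D10173 (iv D7087) (iv F31972)
theorem F45405 : act 3 n10173 = n7011 := d26_1 D10173 (iv D7011) D7010
theorem F45406 : act 4 n10173 = n7733 := d31_1 D10173 (iv D7733) (iv F31973)
def n10174 : Q := act 8 n7010
theorem D10174 : act 8 n7010 = n10174 := rfl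
theorem F45407 : act 2 n10174 = n7088 := d22_1 D10174 (iv D7088) (iv F31972)
theorem F45408 : act 4 n10174 = n7734 := d33_1 D10174 (iv D7734) (iv F31973)
theorem F45409 : act 7 n10174 = n10174 := d42_1 D10174 (iv D10174) F31974
def n10175 : Q := act 5 n7011
theorem D10175 : act 5 n7011 = n10175 := rfl
theorem F45410 : act 2 n10175 = n7019 := d19_1 D10175 (iv D7019) (iv F31975)
def n10176 : Q := act 7 n7011
theorem D10176 : act 7 n7011 = n10176 := rfl
theorem F45411 : act 2 n10176 = n7020 := d21_1 D10176 (iv D7020) (iv F31975)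
theorem F45412 : act 4 n10176 = n7013 := d32_1 D10176 (iv D7013) (iv F31976)
theorem F45413 : act 6 n10176 = n10176 := d39_1 D10176 (iv D10176) (iv D7011) F22605 D7011
def n10177 : Q := act 8 n7011
theorem D10177 : act 8 n7011 = n10177 := rfl
theorem F45414 : act 2 n10177 = n7021 := d22_1 D10177 (iv D7021) (iv F31975)
theorem F45415 : act 4 n10177 = n7014 := d33_1 D10177 (iv D7014) (iv F31976)
theorem F45416 : act 6 n10177 = n7012 := d40_1 D10177 (iv D7012) D7011
def n10178 : Q := act 3 n7012
theorem D10178 : act 3 n7012 = n10178 := rfl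
theorem F45417 : act 7 n10178 = n10178 := d27_2 F31979 D10178 (iv D10178)
def n10179 : Q := act 9 n7012
theorem D10179 : act 9 n7012 = n10179 := rfl
theorem F45418 : act 2 n10179 = n7023 := d23_1 D10179 (iv D7023) (iv F31977)
theorem F45419 : act 4 n10179 = n7016 := d34_1 D10179 (iv D7016) (iv F31978)
theorem F45420 : act 7 n10179 = n10179 := d43_1 D10179 (iv D10179) F31979
def n10180 : Q := act 8 n7013
theorem D10180 : act 8 n7013 = n10180 := rfl
theorem F45421 : act 2 n10180 = n7024 := d22_1 D10180 (iv D7024) (iv F31980)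
theorem F45422 : act 6 n10180 = n10180 := d40_1 D10180 (iv D10180) F31982
theorem F45423 : act 7 n10180 = n7014 := d42_1 D10180 (iv D7014) D7013
def n10181 : Q := act 3 n7014
theorem D10181 : act 3 n7014 = n10181 := rfl
theorem F45424 : act 2 n10181 = n7202 := d17_1 D10181 (iv D7202) F23164 (iv F22626) (iv F31983)
theorem F45425 : act 6 n10181 = n7015 := d26_2 (iv F31984) D10181 (iv D7015)
theorem F45426 : act 8 n10181 = n7741 := d28_2 D7014 D10181 (iv D7741) (iv D5336) (iv F22607)
def n10182 : Q := act 9 n7014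
theorem D10182 : act 9 n7014 = n10182 := rfl
theorem F45427 : act 2 n10182 = n7025 := d23_1 D10182 (iv D7025) (iv F31983)
theorem F45428 : act 6 n10182 = n7016 := d41_1 D10182 (iv D7016) (iv F31984)
def n10183 : Q := act 4 n7015
theorem D10183 : act 4 n7015 = n10183 := rfl
theorem F45429 : act 2 n10183 = n7204 := d18_1 D10183 (iv D7204) (iv F31985)
theorem F45430 : act 7 n10183 = n10183 := d32_2 F31987 D10183 (iv D10183)
theorem F45431 : act 8 n10183 = n7743 := d33_2 (iv F31988) D10183 (iv D7743)
def n10184 : Q := act 9 n7015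
theorem D10184 : act 9 n7015 = n10184 := rfl
theorem F45432 : act 2 n10184 = n7205 := d23_1 D10184 (iv D7205) (iv F31985)
theorem F45433 : act 3 n10184 = n7016 := d29_1 D10184 (iv D7016) D7015
theorem F45434 : act 5 n10184 = n7018 := d38_1 D10184 (iv D7018) (iv F31986)
theorem F45435 : act 7 n10184 = n10184 := d43_1 D10184 (iv D10184) F31987
def n10185 : Q := act 5 n7017
theorem D10185 : act 5 n7017 = n10185 := rfl
theorem F45436 : act 2 n10185 = n7206 := d19_1 D10185 (iv D7206) (iv F31992)
theorem F45437 : act 7 n10185 = n10185 := d36_2 F31993 D10185 (iv D10185)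
theorem F45438 : act 8 n10185 = n7745 := d37_2 (iv F31994) D10185 (iv D7745)
def n10186 : Q := act 9 n7017
theorem D10186 : act 9 n7017 = n10186 := rfl
theorem F45439 : act 2 n10186 = n7207 := d23_1 D10186 (iv D7207) (iv F31992)
theorem F45440 : act 4 n10186 = n7018 := d34_1 D10186 (iv D7018) D7017
theorem F45441 : act 7 n10186 = n10186 := d43_1 D10186 (iv D10186) F31993
def n10187 : Q := act 8 n7018
theorem D10187 : act 8 n7018 = n10187 := rfl
def n10188 : Q := act 7 n7019
theorem D10188 : act 7 n7019 = n10188 := rfl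
theorem F45445 : act 1 n10188 = n7026 := d14_1 D10188 (iv D7026) (iv F31998)
theorem F45446 : act 3 n10188 = n7096 := d27_1 D10188 (iv D7096) (iv F31999)
theorem F45447 : act 5 n10188 = n7020 := d36_1 D10188 (iv D7020) D7019
def n10189 : Q := act 8 n7019
theorem D10189 : act 8 n7019 = n10189 := rfl
theorem F45448 : act 1 n10189 = n7027 := d15_1 D10189 (iv D7027) (iv F31998)
theorem F45449 : act 5 n10189 = n7021 := d37_1 D10189 (iv D7021) D7019
def n10190 : Q := act 8 n7020
theorem D10190 : act 8 n7020 = n10190 := rfl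
theorem F45450 : act 1 n10190 = n7028 := d15_1 D10190 (iv D7028) (iv F32000)
theorem F45451 : act 4 n10190 = n7024 := d33_1 D10190 (iv D7024) (iv F32002)
theorem F45452 : act 6 n10190 = n10190 := d40_1 D10190 (iv D10190) F32003
theorem F45453 : act 7 n10190 = n7021 := d42_1 D10190 (iv D7021) D7020
def n10191 : Q := act 3 n7021
theorem D10191 : act 3 n7021 = n10191 := rfl
theorem F45454 : act 1 n10191 = n7029 := d10_1 D10191 (iv D7029) (iv F32004)
theorem F45455 : act 4 n10191 = n7212 := d24_2 (iv F32005) D10191 (iv D7212) F23192 (iv F22626)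
theorem F45456 : act 6 n10191 = n7022 := d26_2 (iv F32006) D10191 (iv D7022)
theorem F45457 : act 8 n10191 = n7099 := d28_2 D7021 D10191 (iv D7099) (iv D4901) (iv F22617)
def n10192 : Q := act 9 n7021
theorem D10192 : act 9 n7021 = n10192 := rfl
theorem F45458 : act 1 n10192 = n7030 := d16_1 D10192 (iv D7030) (iv F32004)
theorem F45459 : act 4 n10192 = n7025 := d34_1 D10192 (iv D7025) (iv F32005)
theorem F45460 : act 6 n10192 = n7023 := d41_1 D10192 (iv D7023) (iv F32006)
def n10193 : Q := act 2 n7022
theorem D10193 : act 2 n7022 = n10193 := rfl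
theorem F45461 : act 4 n10193 = n7214 := d18_2 (iv F32008) D10193 (iv D7214)
theorem F45462 : act 7 n10193 = n10193 := d21_2 F32009 D10193 (iv D10193)
theorem F45463 : act 8 n10193 = n7101 := d22_2 (iv F32010) D10193 (iv D7101)
def n10194 : Q := act 9 n7022
theorem D10194 : act 9 n7022 = n10194 := rfl
theorem F45464 : act 1 n10194 = n7032 := d16_1 D10194 (iv D7032) (iv F32007)
theorem F45465 : act 3 n10194 = n7023 := d29_1 D10194 (iv D7023) D7022
theorem F45466 : act 4 n10194 = n7215 := d34_1 D10194 (iv D7215) (iv F32008)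
theorem F45467 : act 7 n10194 = n10194 := d43_1 D10194 (iv D10194) F32009
def n10195 : Q := act 9 n7024
theorem D10195 : act 9 n7024 = n10195 := rfl
theorem F45468 : act 1 n10195 = n7033 := d16_1 D10195 (iv D7033) (iv F32014)
theorem F45469 : act 3 n10195 = n7216 := d29_1 D10195 (iv D7216) (iv F32015)
theorem F45470 : act 6 n10195 = n10195 := d41_1 D10195 (iv D10195) F32016
theorem F45471 : act 7 n10195 = n7025 := d43_1 D10195 (iv D7025) (iv F32017)
def n10196 : Q := act 6 n7026
theorem D10196 : act 6 n7026 = n10196 := rfl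
theorem F45472 : act 0 n10196 = n10196 := d5_1 D10196 (iv D10196) F32021
theorem F45473 : act 3 n10196 = n7104 := d26_1 D10196 (iv D7104) (iv F32022)
theorem F45474 : act 5 n10196 = n10196 := d35_1 D10196 (iv D10196) F32023 F22637 (iv F32023)
def n10197 : Q := act 8 n7026
theorem D10197 : act 8 n7026 = n10197 := rfl
theorem F45475 : act 0 n10197 = n10197 := d7_1 D10197 (iv D10197) F32021
theorem F45476 : act 5 n10197 = n7028 := d37_1 D10197 (iv D7028) (iv F32023)
theorem F45477 : act 7 n10197 = n7027 := d42_1 D10197 (iv D7027) D7026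
def n10198 : Q := act 3 n7027
theorem D10198 : act 3 n7027 = n10198 := rfl
theorem F45478 : act 0 n10198 = n10198 := d2_1 D10198 (iv D10198) F32024
theorem F45479 : act 5 n10198 = n7029 := d25_2 (iv F32025) D10198 (iv D7029)
theorem F45480 : act 8 n10198 = n7106 := d28_2 D7027 D10198 (iv D7106) (iv D4907) (iv F22633)
def n10199 : Q := act 9 n7027
theorem D10199 : act 9 n7027 = n10199 := rfl
theorem F45481 : act 0 n10199 = n10199 := d8_1 D10199 (iv D10199) F32024
theorem F45482 : act 5 n10199 = n7030 := d38_1 D10199 (iv D7030) (iv F32025)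
def n10200 : Q := act 3 n7028
theorem D10200 : act 3 n7028 = n10200 := rfl
theorem F45483 : act 0 n10200 = n10200 := d2_1 D10200 (iv D10200) F32026
theorem F45484 : act 4 n10200 = n7221 := d24_2 (iv F32027) D10200 (iv D7221) F23220 (iv F22649)
theorem F45485 : act 6 n10200 = n10200 := d26_2 F32028 D10200 (iv D10200)
theorem F45486 : act 7 n10200 = n7029 := d27_2 (iv F32029) D10200 (iv D7029)
theorem F45487 : act 8 n10200 = n7108 := d28_2 D7028 D10200 (iv D7108) (iv D4908) (iv F22635)
def n10201 : Q := act 9 n7028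
theorem D10201 : act 9 n7028 = n10201 := rfl
theorem F45488 : act 0 n10201 = n10201 := d8_1 D10201 (iv D10201) F32026
theorem F45489 : act 4 n10201 = n7033 := d34_1 D10201 (iv D7033) (iv F32027)
theorem F45490 : act 6 n10201 = n10201 := d41_1 D10201 (iv D10201) F32028
theorem F45491 : act 7 n10201 = n7030 := d43_1 D10201 (iv D7030) (iv F32029)
def n10202 : Q := act 2 n7029
theorem D10202 : act 2 n7029 = n10202 := rfl
theorem F45492 : act 0 n10202 = n10202 := d1_1 D10202 (iv D10202) F32030
theorem F45493 : act 4 n10202 = n7223 := d18_2 (iv F32031) D10202 (iv D7223)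
theorem F45494 : act 6 n10202 = n7031 := d20_2 (iv F32032) D10202 (iv D7031)
theorem F45495 : act 8 n10202 = n7110 := d22_2 (iv F32033) D10202 (iv D7110)
def n10203 : Q := act 9 n7029
theorem D10203 : act 9 n7029 = n10203 := rfl
theorem F45496 : act 0 n10203 = n10203 := d8_1 D10203 (iv D10203) F32030
theorem F45497 : act 3 n10203 = n7030 := d29_1 D10203 (iv D7030) D7029
theorem F45498 : act 4 n10203 = n7224 := d34_1 D10203 (iv D7224) (iv F32031)
theorem F45499 : act 6 n10203 = n7032 := d41_1 D10203 (iv D7032) (iv F32032)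
def n10204 : Q := act 1 n7031
theorem D10204 : act 1 n7031 = n10204 := rfl
theorem F45500 : act 4 n10204 = n7225 := d11_2 (iv F32038) D10204 (iv D7225)
theorem F45501 : act 7 n10204 = n10204 := d14_2 F32039 D10204 (iv D10204)
theorem F45502 : act 8 n10204 = n7112 := d15_2 (iv F32040) D10204 (iv D7112)
def n10205 : Q := act 9 n7031
theorem D10205 : act 9 n7031 = n10205 := rfl
theorem F45503 : act 0 n10205 = n10205 := d8_1 D10205 (iv D10205) F32037
theorem F45504 : act 2 n10205 = n7032 := d23_1 D10205 (iv D7032) D7031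
theorem F45505 : act 4 n10205 = n7226 := d34_1 D10205 (iv D7226) (iv F32038)
theorem F45506 : act 7 n10205 = n10205 := d43_1 D10205 (iv D10205) F32039
def n10206 : Q := act 8 n7032
theorem D10206 : act 8 n7032 = n10206 := rfl
theorem F45507 : act 0 n10206 = n10206 := d7_1 D10206 (iv D10206) F32041
theorem F45508 : act 4 n10206 = n7227 := d33_1 D10206 (iv D7227) (iv F32043)
theorem F45509 : act 7 n10206 = n10206 := d42_1 D10206 (iv D10206) F32044
theorem F45510 : act 9 n10206 = n7114 := d44_2 D7032 D10206 (iv D7114) (iv D4912) (iv F22644)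
def n10207 : Q := act 4 n7034
theorem D10207 : act 4 n7034 = n10207 := rfl
theorem F45515 : act 9 n10207 = n7070 := d34_2 (iv F32054) D10207 (iv D7070)
def n10210 : Q := act 3 n7035
theorem D10210 : act 3 n7035 = n10210 := rfl
theorem F45531 : act 8 n10210 = n7760 := d28_2 D7035 D10210 (iv D7760) (iv D5353) (iv F22657)
def n10212 : Q := act 3 n7036
theorem D10212 : act 3 n7036 = n10212 := rfl
theorem F45538 : act 0 n10212 = n7046 := d2_1 D10212 (iv D7046) (iv F32060)
theorem F45539 : act 4 n10212 = n7761 := d24_2 D7036 D10212 (iv D7761) (iv D5354) (iv F22663)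
theorem F45541 : act 9 n10212 = n7074 := d29_2 (iv F32063) D10212 (iv D7074)
def n10213 : Q := act 6 n7036
theorem D10213 : act 6 n7036 = n10213 := rfl
theorem F45542 : act 0 n10213 = n7047 := d5_1 D10213 (iv D7047) (iv F32060)
theorem F45543 : act 2 n10213 = n7041 := d20_1 D10213 (iv D7041) (iv F32061)
theorem F45545 : act 9 n10213 = n7075 := d41_2 (iv F32063) D10213 (iv D7075)
def n10214 : Q := act 8 n7036
theorem D10214 : act 8 n7036 = n10214 := rfl
theorem F45546 : act 0 n10214 = n7048 := d7_1 D10214 (iv D7048) (iv F32060)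
theorem F45547 : act 2 n10214 = n7042 := d22_1 D10214 (iv D7042) (iv F32061)
def n10215 : Q := act 7 n7037
theorem D10215 : act 7 n7037 = n10215 := rfl
theorem F45550 : act 0 n10215 = n7049 := d6_1 D10215 (iv D7049) (iv F32064)
theorem F45551 : act 2 n10215 = n7043 := d21_1 D10215 (iv D7043) (iv F32065)
theorem F45552 : act 3 n10215 = n7764 := d27_1 D10215 (iv D7764) (iv F32066)
theorem F45555 : act 9 n10215 = n7077 := d43_2 (iv F32068) D10215 (iv D7077)
def n10219 : Q := act 4 n7039
theorem D10219 : act 4 n7039 = n10219 := rfl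
def n10221 : Q := act 5 n7041
theorem D10221 : act 5 n7041 = n10221 := rfl
theorem F45581 : act 0 n10221 = n7055 := d4_1 D10221 (iv D7055) (iv F32083)
theorem F45582 : act 1 n10221 = n10221 := d12_1 D10221 (iv D10221) F32084
theorem F45583 : act 4 n10221 = n10221 := d30_1 D10221 (iv D10221) F32085 F22677 (iv F32085)
theorem F45584 : act 9 n10221 = n7080 := d38_2 (iv F32086) D10221 (iv D7080)
def n10222 : Q := act 7 n7041
theorem D10222 : act 7 n7041 = n10222 := rfl
theorem F45585 : act 0 n10222 = n7056 := d6_1 D10222 (iv D7056) (iv F32083)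
theorem F45586 : act 1 n10222 = n10222 := d14_1 D10222 (iv D10222) F32084
theorem F45587 : act 4 n10222 = n7043 := d32_1 D10222 (iv D7043) (iv F32085)
theorem F45588 : act 6 n10222 = n10222 := d39_1 D10222 (iv D10222) (iv D7041) F22672 D7041
theorem F45589 : act 9 n10222 = n7081 := d43_2 (iv F32086) D10222 (iv D7081)
def n10223 : Q := act 8 n7041
theorem D10223 : act 8 n7041 = n10223 := rfl
theorem F45590 : act 0 n10223 = n7057 := d7_1 D10223 (iv D7057) (iv F32083)
theorem F45593 : act 6 n10223 = n7042 := d40_1 D10223 (iv D7042) D7041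
def n10224 : Q := act 3 n7042
theorem D10224 : act 3 n7042 = n10224 := rfl
theorem F45594 : act 0 n10224 = n7058 := d2_1 D10224 (iv D7058) (iv F32087)
def n10225 : Q := act 9 n7042
theorem D10225 : act 9 n7042 = n10225 := rfl
theorem F45602 : act 8 n10225 = n7084 := d44_1 D10225 (iv D7084) (iv D4889) (iv F22673) D7042
def n10226 : Q := act 8 n7043
theorem D10226 : act 8 n7043 = n10226 := rfl
theorem F45603 : act 0 n10226 = n7060 := d7_1 D10226 (iv D7060) (iv F32091)
def n10228 : Q := act 6 n7046
theorem D10228 : act 6 n7046 = n10228 := rfl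
theorem F45615 : act 1 n10228 = n10228 := d13_1 D10228 (iv D10228) F32108
theorem F45616 : act 3 n10228 = n7047 := d26_1 D10228 (iv D7047) D7046
theorem F45617 : act 4 n10228 = n7773 := d31_1 D10228 (iv D7773) (iv F32109)
theorem F45618 : act 9 n10228 = n7087 := d41_2 (iv F32111) D10228 (iv D7087)
def n10229 : Q := act 8 n7046
theorem D10229 : act 8 n7046 = n10229 := rfl
theorem F45619 : act 1 n10229 = n10229 := d15_1 D10229 (iv D10229) F32108
theorem F45620 : act 4 n10229 = n7774 := d33_1 D10229 (iv D7774) (iv F32109)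
theorem F45621 : act 7 n10229 = n10229 := d42_1 D10229 (iv D10229) F32110
def n10230 : Q := act 5 n7047
theorem D10230 : act 5 n7047 = n10230 := rfl
theorem F45622 : act 1 n10230 = n10230 := d12_1 D10230 (iv D10230) F32112
theorem F45623 : act 2 n10230 = n7055 := d19_1 D10230 (iv D7055) (iv F32113)
theorem F45624 : act 4 n10230 = n10230 := d30_1 D10230 (iv D10230) F32114 F22704 (iv F32114)
theorem F45625 : act 9 n10230 = n7089 := d38_2 (iv F32115) D10230 (iv D7089)
def n10231 : Q := act 7 n7047
theorem D10231 : act 7 n7047 = n10231 := rfl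
theorem F45626 : act 1 n10231 = n10231 := d14_1 D10231 (iv D10231) F32112
theorem F45627 : act 2 n10231 = n7056 := d21_1 D10231 (iv D7056) (iv F32113)
theorem F45628 : act 4 n10231 = n7049 := d32_1 D10231 (iv D7049) (iv F32114)
theorem F45629 : act 6 n10231 = n10231 := d39_1 D10231 (iv D10231) (iv D7047) F22699 D7047
theorem F45630 : act 9 n10231 = n7090 := d43_2 (iv F32115) D10231 (iv D7090)
def n10232 : Q := act 8 n7047
theorem D10232 : act 8 n7047 = n10232 := rfl
theorem F45632 : act 2 n10232 = n7057 := d22_1 D10232 (iv D7057) (iv F32113)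
theorem F45634 : act 6 n10232 = n7048 := d40_1 D10232 (iv D7048) D7047
def n10233 : Q := act 3 n7048
theorem D10233 : act 3 n7048 = n10233 := rfl
def n10234 : Q := act 9 n7048
theorem D10234 : act 9 n7048 = n10234 := rfl
theorem F45641 : act 8 n10234 = n7093 := d44_1 D10234 (iv D7093) (iv D4895) (iv F22700) D7048
def n10235 : Q := act 8 n7049
theorem D10235 : act 8 n7049 = n10235 := rfl
theorem F45643 : act 2 n10235 = n7060 := d22_1 D10235 (iv D7060) (iv F32121)
def n10240 : Q := act 5 n7053
theorem D10240 : act 5 n7053 = n10240 := rfl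
def n10242 : Q := act 7 n7055
theorem D10242 : act 7 n7055 = n10242 := rfl
theorem F45677 : act 1 n10242 = n7062 := d14_1 D10242 (iv D7062) (iv F32151)
theorem F45678 : act 4 n10242 = n10242 := d32_1 D10242 (iv D10242) F32152
theorem F45679 : act 5 n10242 = n7056 := d36_1 D10242 (iv D7056) D7055
theorem F45680 : act 9 n10242 = n7096 := d43_2 (iv F32153) D10242 (iv D7096)
def n10243 : Q := act 8 n7055
theorem D10243 : act 8 n7055 = n10243 := rfl
theorem F45681 : act 1 n10243 = n7063 := d15_1 D10243 (iv D7063) (iv F32151)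
theorem F45682 : act 4 n10243 = n10243 := d33_1 D10243 (iv D10243) F32152
theorem F45683 : act 5 n10243 = n7057 := d37_1 D10243 (iv D7057) D7055
def n10244 : Q := act 8 n7056
theorem D10244 : act 8 n7056 = n10244 := rfl
theorem F45684 : act 1 n10244 = n7064 := d15_1 D10244 (iv D7064) (iv F32154)
theorem F45685 : act 4 n10244 = n7060 := d33_1 D10244 (iv D7060) (iv F32155)
theorem F45686 : act 6 n10244 = n10244 := d40_1 D10244 (iv D10244) F32156
theorem F45687 : act 7 n10244 = n7057 := d42_1 D10244 (iv D7057) D7056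
def n10245 : Q := act 3 n7057
theorem D10245 : act 3 n7057 = n10245 := rfl
theorem F45688 : act 1 n10245 = n7065 := d10_1 D10245 (iv D7065) (iv F32158)
theorem F45689 : act 4 n10245 = n10245 := d24_2 (iv F32159) D10245 (iv D10245) F32159 F22732
theorem F45690 : act 6 n10245 = n7058 := d26_2 (iv F32160) D10245 (iv D7058)
def n10246 : Q := act 9 n7057
theorem D10246 : act 9 n7057 = n10246 := rfl
theorem F45691 : act 1 n10246 = n7066 := d16_1 D10246 (iv D7066) (iv F32158)
theorem F45694 : act 8 n10246 = n7100 := d44_1 D10246 (iv D7100) (iv D4901) (iv F22722) D7057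
def n10247 : Q := act 2 n7058
theorem D10247 : act 2 n7058 = n10247 := rfl
theorem F45695 : act 4 n10247 = n10247 := d18_2 F32162 D10247 (iv D10247)
theorem F45696 : act 7 n10247 = n10247 := d21_2 F32163 D10247 (iv D10247)
def n10248 : Q := act 9 n7058
theorem D10248 : act 9 n7058 = n10248 := rfl
theorem F45697 : act 1 n10248 = n7068 := d16_1 D10248 (iv D7068) (iv F32161)
theorem F45698 : act 3 n10248 = n7059 := d29_1 D10248 (iv D7059) D7058
def n10249 : Q := act 9 n7060
theorem D10249 : act 9 n7060 = n10249 := rfl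
theorem F45701 : act 1 n10249 = n7069 := d16_1 D10249 (iv D7069) (iv F32168)
def n10250 : Q := act 6 n7062
theorem D10250 : act 6 n7062 = n10250 := rfl
theorem F45707 : act 0 n10250 = n10250 := d5_1 D10250 (iv D10250) F32178
theorem F45708 : act 2 n10250 = n10250 := d20_1 D10250 (iv D10250) F32179
theorem F45709 : act 4 n10250 = n10250 := d31_1 D10250 (iv D10250) F32180
theorem F45710 : act 5 n10250 = n10250 := d35_1 D10250 (iv D10250) F32181 F22747 (iv F32181)
theorem F45711 : act 9 n10250 = n7104 := d41_2 (iv F32182) D10250 (iv D7104)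
def n10251 : Q := act 8 n7062
theorem D10251 : act 8 n7062 = n10251 := rfl
theorem F45712 : act 0 n10251 = n10251 := d7_1 D10251 (iv D10251) F32178
theorem F45713 : act 2 n10251 = n10251 := d22_1 D10251 (iv D10251) F32179
theorem F45714 : act 4 n10251 = n10251 := d33_1 D10251 (iv D10251) F32180
theorem F45715 : act 5 n10251 = n7064 := d37_1 D10251 (iv D7064) (iv F32181)
theorem F45716 : act 7 n10251 = n7063 := d42_1 D10251 (iv D7063) D7062
def n10252 : Q := act 3 n7063
theorem D10252 : act 3 n7063 = n10252 := rfl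
theorem F45717 : act 0 n10252 = n10252 := d2_1 D10252 (iv D10252) F32183
theorem F45718 : act 5 n10252 = n7065 := d25_2 (iv F32186) D10252 (iv D7065)
def n10253 : Q := act 9 n7063
theorem D10253 : act 9 n7063 = n10253 := rfl
theorem F45719 : act 0 n10253 = n10253 := d8_1 D10253 (iv D10253) F32183
theorem F45720 : act 2 n10253 = n10253 := d23_1 D10253 (iv D10253) F32184
theorem F45721 : act 4 n10253 = n10253 := d34_1 D10253 (iv D10253) F32185
theorem F45722 : act 5 n10253 = n7066 := d38_1 D10253 (iv D7066) (iv F32186)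
theorem F45723 : act 8 n10253 = n7107 := d44_1 D10253 (iv D7107) (iv D4907) (iv F22743) D7063
def n10254 : Q := act 3 n7064
theorem D10254 : act 3 n7064 = n10254 := rfl
theorem F45724 : act 0 n10254 = n10254 := d2_1 D10254 (iv D10254) F32187
theorem F45725 : act 4 n10254 = n10254 := d24_2 (iv F32189) D10254 (iv D10254) F32189 F22763
theorem F45726 : act 6 n10254 = n10254 := d26_2 F32190 D10254 (iv D10254)
theorem F45727 : act 7 n10254 = n7065 := d27_2 (iv F32191) D10254 (iv D7065)
def n10255 : Q := act 9 n7064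
theorem D10255 : act 9 n7064 = n10255 := rfl
theorem F45728 : act 0 n10255 = n10255 := d8_1 D10255 (iv D10255) F32187
theorem F45729 : act 2 n10255 = n10255 := d23_1 D10255 (iv D10255) F32188
theorem F45730 : act 4 n10255 = n7069 := d34_1 D10255 (iv D7069) (iv F32189)
theorem F45731 : act 6 n10255 = n10255 := d41_1 D10255 (iv D10255) F32190
theorem F45732 : act 7 n10255 = n7066 := d43_1 D10255 (iv D7066) (iv F32191)
theorem F45733 : act 8 n10255 = n7109 := d44_1 D10255 (iv D7109) (iv D4908) (iv F22748) D7064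
def n10256 : Q := act 2 n7065
theorem D10256 : act 2 n7065 = n10256 := rfl
theorem F45734 : act 0 n10256 = n10256 := d1_1 D10256 (iv D10256) F32192
theorem F45735 : act 3 n10256 = n10256 := d17_2 D7065 D10256 (iv D10256) (iv D7065) F22750
theorem F45736 : act 4 n10256 = n10256 := d18_2 F32193 D10256 (iv D10256)
theorem F45737 : act 6 n10256 = n7067 := d20_2 (iv F32194) D10256 (iv D7067)
def n10257 : Q := act 9 n7065
theorem D10257 : act 9 n7065 = n10257 := rfl
theorem F45738 : act 0 n10257 = n10257 := d8_1 D10257 (iv D10257) F32192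
theorem F45739 : act 3 n10257 = n7066 := d29_1 D10257 (iv D7066) D7065
theorem F45740 : act 4 n10257 = n10257 := d34_1 D10257 (iv D10257) F32193
theorem F45741 : act 6 n10257 = n7068 := d41_1 D10257 (iv D7068) (iv F32194)
def n10258 : Q := act 1 n7067
theorem D10258 : act 1 n7067 = n10258 := rfl
theorem F45742 : act 3 n10258 = n10258 := d10_2 F32201 D10258 (iv D10258)
theorem F45743 : act 4 n10258 = n10258 := d11_2 F32202 D10258 (iv D10258)
theorem F45744 : act 7 n10258 = n10258 := d14_2 F32203 D10258 (iv D10258)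
def n10259 : Q := act 9 n7067
theorem D10259 : act 9 n7067 = n10259 := rfl
theorem F45745 : act 0 n10259 = n10259 := d8_1 D10259 (iv D10259) F32200
theorem F45746 : act 2 n10259 = n7068 := d23_1 D10259 (iv D7068) D7067
theorem F45747 : act 3 n10259 = n10259 := d29_1 D10259 (iv D10259) F32201
theorem F45748 : act 4 n10259 = n10259 := d34_1 D10259 (iv D10259) F32202
theorem F45749 : act 7 n10259 = n10259 := d43_1 D10259 (iv D10259) F32203
def n10260 : Q := act 8 n7068
theorem D10260 : act 8 n7068 = n10260 := rfl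
theorem F45750 : act 0 n10260 = n10260 := d7_1 D10260 (iv D10260) F32204
theorem F45751 : act 3 n10260 = n7114 := d28_1 D10260 (iv D7114) F22896 (iv F22760) (iv F32205)
theorem F45752 : act 4 n10260 = n10260 := d33_1 D10260 (iv D10260) F32206
theorem F45753 : act 7 n10260 = n10260 := d42_1 D10260 (iv D10260) F32207
def n10261 : Q := act 3 n7070
theorem D10261 : act 3 n7070 = n10261 := rfl
theorem F45755 : act 1 n10261 = n7074 := d10_1 D10261 (iv D7074) (iv F32216)
theorem F45756 : act 4 n10261 = n7794 := d24_2 D7070 D10261 (iv D7794) (iv D5379) (iv F22776)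
def n10262 : Q := act 6 n7070
theorem D10262 : act 6 n7070 = n10262 := rfl
theorem F45759 : act 1 n10262 = n7075 := d13_1 D10262 (iv D7075) (iv F32216)
theorem F45761 : act 4 n10262 = n7071 := d31_1 D10262 (iv D7071) D7070
def n10264 : Q := act 7 n7071
theorem D10264 : act 7 n7071 = n10264 := rfl
theorem F45768 : act 1 n10264 = n7077 := d14_1 D10264 (iv D7077) (iv F32220)
theorem F45770 : act 3 n10264 = n7796 := d27_1 D10264 (iv D7796) (iv F32222)
def n10267 : Q := act 6 n7074
theorem D10267 : act 6 n7074 = n10267 := rfl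
theorem F45785 : act 0 n10267 = n7087 := d5_1 D10267 (iv D7087) (iv F32236)
theorem F45786 : act 3 n10267 = n7075 := d26_1 D10267 (iv D7075) D7074
theorem F45787 : act 4 n10267 = n7797 := d31_1 D10267 (iv D7797) (iv F32237)
def n10268 : Q := act 8 n7074
theorem D10268 : act 8 n7074 = n10268 := rfl
theorem F45788 : act 0 n10268 = n7088 := d7_1 D10268 (iv D7088) (iv F32236)
theorem F45789 : act 4 n10268 = n7798 := d33_1 D10268 (iv D7798) (iv F32237)
theorem F45790 : act 7 n10268 = n10268 := d42_1 D10268 (iv D10268) F32238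
def n10269 : Q := act 5 n7075
theorem D10269 : act 5 n7075 = n10269 := rfl
theorem F45791 : act 0 n10269 = n7089 := d4_1 D10269 (iv D7089) (iv F32239)
theorem F45792 : act 2 n10269 = n7080 := d19_1 D10269 (iv D7080) (iv F32240)
theorem F45793 : act 4 n10269 = n10269 := d30_1 D10269 (iv D10269) F32241 F22790 (iv F32241)
def n10270 : Q := act 7 n7075
theorem D10270 : act 7 n7075 = n10270 := rfl
theorem F45794 : act 0 n10270 = n7090 := d6_1 D10270 (iv D7090) (iv F32239)
theorem F45795 : act 2 n10270 = n7081 := d21_1 D10270 (iv D7081) (iv F32240)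
theorem F45796 : act 4 n10270 = n7077 := d32_1 D10270 (iv D7077) (iv F32241)
theorem F45797 : act 6 n10270 = n10270 := d39_1 D10270 (iv D10270) (iv D7075) F22786 D7075
def n10271 : Q := act 8 n7075
theorem D10271 : act 8 n7075 = n10271 := rfl
theorem F45798 : act 0 n10271 = n7091 := d7_1 D10271 (iv D7091) (iv F32239)
theorem F45799 : act 2 n10271 = n7082 := d22_1 D10271 (iv D7082) (iv F32240)
def n10272 : Q := act 3 n7076
theorem D10272 : act 3 n7076 = n10272 := rfl
theorem F45802 : act 0 n10272 = n7092 := d2_1 D10272 (iv D7092) (iv F32242)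
def n10273 : Q := act 9 n7076
theorem D10273 : act 9 n7076 = n10273 := rfl
def n10274 : Q := act 8 n7077
theorem D10274 : act 8 n7077 = n10274 := rfl
theorem F45809 : act 0 n10274 = n7094 := d7_1 D10274 (iv D7094) (iv F32246)
theorem F45810 : act 2 n10274 = n7085 := d22_1 D10274 (iv D7085) (iv F32247)
def n10276 : Q := act 7 n7080
theorem D10276 : act 7 n7080 = n10276 := rfl
theorem F45820 : act 0 n10276 = n7096 := d6_1 D10276 (iv D7096) (iv F32261)
theorem F45821 : act 1 n10276 = n10276 := d14_1 D10276 (iv D10276) F32262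
theorem F45822 : act 4 n10276 = n10276 := d32_1 D10276 (iv D10276) F32263
theorem F45823 : act 5 n10276 = n7081 := d36_1 D10276 (iv D7081) D7080
def n10277 : Q := act 8 n7080
theorem D10277 : act 8 n7080 = n10277 := rfl
theorem F45824 : act 0 n10277 = n7097 := d7_1 D10277 (iv D7097) (iv F32261)
theorem F45825 : act 1 n10277 = n10277 := d15_1 D10277 (iv D10277) F32262
theorem F45826 : act 4 n10277 = n10277 := d33_1 D10277 (iv D10277) F32263
theorem F45827 : act 5 n10277 = n7082 := d37_1 D10277 (iv D7082) D7080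
def n10278 : Q := act 8 n7081
theorem D10278 : act 8 n7081 = n10278 := rfl
theorem F45828 : act 0 n10278 = n7098 := d7_1 D10278 (iv D7098) (iv F32264)
theorem F45829 : act 1 n10278 = n10278 := d15_1 D10278 (iv D10278) F32265
theorem F45830 : act 4 n10278 = n7085 := d33_1 D10278 (iv D7085) (iv F32266)
theorem F45831 : act 6 n10278 = n10278 := d40_1 D10278 (iv D10278) F32267
theorem F45832 : act 7 n10278 = n7082 := d42_1 D10278 (iv D7082) D7081
def n10279 : Q := act 3 n7082
theorem D10279 : act 3 n7082 = n10279 := rfl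
theorem F45833 : act 0 n10279 = n7099 := d2_1 D10279 (iv D7099) (iv F32268)
theorem F45834 : act 1 n10279 = n10279 := d10_1 D10279 (iv D10279) F32269
theorem F45835 : act 4 n10279 = n7231 := d24_2 (iv F32270) D10279 (iv D7231) F23260 (iv F22815)
theorem F45836 : act 6 n10279 = n7083 := d26_2 (iv F32271) D10279 (iv D7083)
def n10280 : Q := act 9 n7082
theorem D10280 : act 9 n7082 = n10280 := rfl
theorem F45837 : act 0 n10280 = n7100 := d8_1 D10280 (iv D7100) (iv F32268)
def n10281 : Q := act 2 n7083
theorem D10281 : act 2 n7083 = n10281 := rfl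
theorem F45841 : act 0 n10281 = n7101 := d1_1 D10281 (iv D7101) (iv F32272)
theorem F45842 : act 4 n10281 = n7233 := d18_2 (iv F32274) D10281 (iv D7233)
theorem F45843 : act 7 n10281 = n10281 := d21_2 F32275 D10281 (iv D10281)
def n10282 : Q := act 9 n7083
theorem D10282 : act 9 n7083 = n10282 := rfl
theorem F45844 : act 0 n10282 = n7102 := d8_1 D10282 (iv D7102) (iv F32272)
theorem F45846 : act 3 n10282 = n7084 := d29_1 D10282 (iv D7084) D7083
theorem F45847 : act 4 n10282 = n7234 := d34_1 D10282 (iv D7234) (iv F32274)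
def n10283 : Q := act 9 n7085
theorem D10283 : act 9 n7085 = n10283 := rfl
def n10284 : Q := act 5 n7087
theorem D10284 : act 5 n7087 = n10284 := rfl
theorem F45855 : act 1 n10284 = n10284 := d12_1 D10284 (iv D10284) F32291
theorem F45856 : act 3 n10284 = n7089 := d25_1 D10284 (iv D7089) (iv F32292)
def n10285 : Q := act 7 n7087
theorem D10285 : act 7 n7087 = n10285 := rfl
theorem F45857 : act 1 n10285 = n10285 := d14_1 D10285 (iv D10285) F32291
theorem F45858 : act 3 n10285 = n7090 := d27_1 D10285 (iv D7090) (iv F32292)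
theorem F45859 : act 4 n10285 = n7803 := d32_1 D10285 (iv D7803) (iv F32293)
theorem F45860 : act 6 n10285 = n10285 := d39_1 D10285 (iv D10285) (iv D7087) F22825 D7087
def n10286 : Q := act 8 n7087
theorem D10286 : act 8 n7087 = n10286 := rfl
theorem F45861 : act 1 n10286 = n10286 := d15_1 D10286 (iv D10286) F32291
theorem F45862 : act 4 n10286 = n7804 := d33_1 D10286 (iv D7804) (iv F32293)
theorem F45863 : act 6 n10286 = n7088 := d40_1 D10286 (iv D7088) D7087
def n10287 : Q := act 3 n7088
theorem D10287 : act 3 n7088 = n10287 := rfl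
theorem F45864 : act 1 n10287 = n10287 := d10_1 D10287 (iv D10287) F32294
theorem F45865 : act 4 n10287 = n10287 := d24_2 (iv F32295) D10287 (iv D10287) F32295 F24986
theorem F45866 : act 7 n10287 = n10287 := d27_2 F32296 D10287 (iv D10287)
theorem F45867 : act 8 n10287 = n7092 := d28_2 D7088 D10287 (iv D7092) (iv D4895) D4893
def n10288 : Q := act 9 n7088
theorem D10288 : act 9 n7088 = n10288 := rfl
theorem F45868 : act 1 n10288 = n10288 := d16_1 D10288 (iv D10288) F32294
theorem F45869 : act 4 n10288 = n7805 := d34_1 D10288 (iv D7805) (iv F32295)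
theorem F45870 : act 7 n10288 = n10288 := d43_1 D10288 (iv D10288) F32296
def n10289 : Q := act 7 n7089
theorem D10289 : act 7 n7089 = n10289 := rfl
theorem F45871 : act 1 n10289 = n10289 := d14_1 D10289 (iv D10289) F32297
theorem F45872 : act 2 n10289 = n7096 := d21_1 D10289 (iv D7096) (iv F32298)
theorem F45873 : act 4 n10289 = n10289 := d32_1 D10289 (iv D10289) F32299
theorem F45874 : act 5 n10289 = n7090 := d36_1 D10289 (iv D7090) D7089
def n10290 : Q := act 8 n7089
theorem D10290 : act 8 n7089 = n10290 := rfl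
theorem F45875 : act 1 n10290 = n10290 := d15_1 D10290 (iv D10290) F32297
theorem F45876 : act 2 n10290 = n7097 := d22_1 D10290 (iv D7097) (iv F32298)
theorem F45877 : act 4 n10290 = n10290 := d33_1 D10290 (iv D10290) F32299
theorem F45878 : act 5 n10290 = n7091 := d37_1 D10290 (iv D7091) D7089
def n10291 : Q := act 8 n7090
theorem D10291 : act 8 n7090 = n10291 := rfl
theorem F45879 : act 1 n10291 = n10291 := d15_1 D10291 (iv D10291) F32300
theorem F45880 : act 2 n10291 = n7098 := d22_1 D10291 (iv D7098) (iv F32301)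
theorem F45881 : act 4 n10291 = n7094 := d33_1 D10291 (iv D7094) (iv F32302)
theorem F45882 : act 6 n10291 = n10291 := d40_1 D10291 (iv D10291) F32303
theorem F45883 : act 7 n10291 = n7091 := d42_1 D10291 (iv D7091) D7090
def n10292 : Q := act 3 n7091
theorem D10292 : act 3 n7091 = n10292 := rfl
theorem F45884 : act 1 n10292 = n10292 := d10_1 D10292 (iv D10292) F32304
theorem F45885 : act 4 n10292 = n10292 := d24_2 (iv F32306) D10292 (iv D10292) F32306 F22840
theorem F45886 : act 6 n10292 = n7092 := d26_2 (iv F32307) D10292 (iv D7092)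
def n10293 : Q := act 9 n7091
theorem D10293 : act 9 n7091 = n10293 := rfl
theorem F45888 : act 2 n10293 = n7100 := d23_1 D10293 (iv D7100) (iv F32305)
def n10294 : Q := act 2 n7092
theorem D10294 : act 2 n7092 = n10294 := rfl
theorem F45891 : act 3 n10294 = n7101 := d17_2 D7092 D10294 (iv D7101) (iv D4902) (iv F22830)
theorem F45892 : act 4 n10294 = n10294 := d18_2 F32309 D10294 (iv D10294)
theorem F45893 : act 7 n10294 = n10294 := d21_2 F32310 D10294 (iv D10294)
def n10295 : Q := act 9 n7092
theorem D10295 : act 9 n7092 = n10295 := rfl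
theorem F45895 : act 3 n10295 = n7093 := d29_1 D10295 (iv D7093) D7092
def n10296 : Q := act 9 n7094
theorem D10296 : act 9 n7094 = n10296 := rfl
def n10297 : Q := act 6 n7096
theorem D10297 : act 6 n7096 = n10297 := rfl
theorem F45904 : act 1 n10297 = n7104 := d13_1 D10297 (iv D7104) (iv F32326)
theorem F45905 : act 4 n10297 = n10297 := d31_1 D10297 (iv D10297) F32327
theorem F45906 : act 5 n10297 = n10297 := d35_1 D10297 (iv D10297) F32328 F22852 (iv F32328)
def n10298 : Q := act 8 n7096
theorem D10298 : act 8 n7096 = n10298 := rfl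
theorem F45907 : act 1 n10298 = n7105 := d15_1 D10298 (iv D7105) (iv F32326)
theorem F45908 : act 4 n10298 = n10298 := d33_1 D10298 (iv D10298) F32327
theorem F45909 : act 5 n10298 = n7098 := d37_1 D10298 (iv D7098) (iv F32328)
theorem F45910 : act 7 n10298 = n7097 := d42_1 D10298 (iv D7097) D7096
def n10299 : Q := act 3 n7097
theorem D10299 : act 3 n7097 = n10299 := rfl
theorem F45911 : act 1 n10299 = n7106 := d10_1 D10299 (iv D7106) (iv F32329)
theorem F45912 : act 5 n10299 = n7099 := d25_2 (iv F32331) D10299 (iv D7099)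
def n10300 : Q := act 9 n7097
theorem D10300 : act 9 n7097 = n10300 := rfl
theorem F45913 : act 1 n10300 = n7107 := d16_1 D10300 (iv D7107) (iv F32329)
theorem F45914 : act 4 n10300 = n10300 := d34_1 D10300 (iv D10300) F32330
theorem F45915 : act 5 n10300 = n7100 := d38_1 D10300 (iv D7100) (iv F32331)
def n10301 : Q := act 3 n7098
theorem D10301 : act 3 n7098 = n10301 := rfl
theorem F45916 : act 1 n10301 = n7108 := d10_1 D10301 (iv D7108) (iv F32332)
theorem F45917 : act 4 n10301 = n7240 := d24_2 (iv F32333) D10301 (iv D7240) F23297 (iv F22863)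
theorem F45918 : act 6 n10301 = n10301 := d26_2 F32334 D10301 (iv D10301)
theorem F45919 : act 7 n10301 = n7099 := d27_2 (iv F32335) D10301 (iv D7099)
def n10302 : Q := act 9 n7098
theorem D10302 : act 9 n7098 = n10302 := rfl
theorem F45920 : act 1 n10302 = n7109 := d16_1 D10302 (iv D7109) (iv F32332)
theorem F45921 : act 4 n10302 = n7103 := d34_1 D10302 (iv D7103) (iv F32333)
theorem F45922 : act 6 n10302 = n10302 := d41_1 D10302 (iv D10302) F32334
theorem F45923 : act 7 n10302 = n7100 := d43_1 D10302 (iv D7100) (iv F32335)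
def n10303 : Q := act 2 n7099
theorem D10303 : act 2 n7099 = n10303 := rfl
theorem F45924 : act 4 n10303 = n7242 := d18_2 (iv F32337) D10303 (iv D7242)
theorem F45925 : act 6 n10303 = n7101 := d20_2 (iv F32338) D10303 (iv D7101)
def n10304 : Q := act 9 n7099
theorem D10304 : act 9 n7099 = n10304 := rfl
theorem F45926 : act 1 n10304 = n7111 := d16_1 D10304 (iv D7111) (iv F32336)
theorem F45927 : act 3 n10304 = n7100 := d29_1 D10304 (iv D7100) D7099
theorem F45928 : act 4 n10304 = n7243 := d34_1 D10304 (iv D7243) (iv F32337)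
theorem F45929 : act 6 n10304 = n7102 := d41_1 D10304 (iv D7102) (iv F32338)
def n10305 : Q := act 1 n7101
theorem D10305 : act 1 n7101 = n10305 := rfl
theorem F45930 : act 2 n10305 = n7112 := d9_2 D7101 D10305 (iv D7112) (iv D4911) (iv F22856)
theorem F45931 : act 4 n10305 = n7244 := d11_2 (iv F32342) D10305 (iv D7244)
theorem F45932 : act 7 n10305 = n10305 := d14_2 F32343 D10305 (iv D10305)
def n10306 : Q := act 9 n7101
theorem D10306 : act 9 n7101 = n10306 := rfl
theorem F45933 : act 2 n10306 = n7102 := d23_1 D10306 (iv D7102) D7101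
theorem F45934 : act 4 n10306 = n7245 := d34_1 D10306 (iv D7245) (iv F32342)
theorem F45935 : act 7 n10306 = n10306 := d43_1 D10306 (iv D10306) F32343
def n10307 : Q := act 8 n7102
theorem D10307 : act 8 n7102 = n10307 := rfl
theorem F45936 : act 1 n10307 = n7114 := d15_1 D10307 (iv D7114) (iv F32344)
theorem F45937 : act 4 n10307 = n7246 := d33_1 D10307 (iv D7246) (iv F32346)
theorem F45938 : act 7 n10307 = n10307 := d42_1 D10307 (iv D10307) F32347
def n10308 : Q := act 8 n7104
theorem D10308 : act 8 n7104 = n10308 := rfl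
theorem F45939 : act 0 n10308 = n10308 := d7_1 D10308 (iv D10308) F32353
theorem F45940 : act 2 n10308 = n10308 := d22_1 D10308 (iv D10308) F32354
theorem F45941 : act 4 n10308 = n10308 := d33_1 D10308 (iv D10308) F32355
theorem F45942 : act 5 n10308 = n10308 := d37_1 D10308 (iv D10308) F32356
theorem F45943 : act 6 n10308 = n7105 := d40_1 D10308 (iv D7105) D7104
def n10309 : Q := act 3 n7105
theorem D10309 : act 3 n7105 = n10309 := rfl
theorem F45944 : act 0 n10309 = n10309 := d2_1 D10309 (iv D10309) F32357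
theorem F45945 : act 5 n10309 = n7108 := d25_2 (iv F32360) D10309 (iv D7108)
theorem F45946 : act 7 n10309 = n7106 := d27_2 (iv F32361) D10309 (iv D7106)
def n10310 : Q := act 9 n7105
theorem D10310 : act 9 n7105 = n10310 := rfl
theorem F45947 : act 0 n10310 = n10310 := d8_1 D10310 (iv D10310) F32357
theorem F45948 : act 2 n10310 = n10310 := d23_1 D10310 (iv D10310) F32358
theorem F45949 : act 4 n10310 = n10310 := d34_1 D10310 (iv D10310) F32359
theorem F45950 : act 5 n10310 = n7109 := d38_1 D10310 (iv D7109) (iv F32360)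
theorem F45951 : act 7 n10310 = n7107 := d43_1 D10310 (iv D7107) (iv F32361)
def n10311 : Q := act 2 n7106
theorem D10311 : act 2 n7106 = n10311 := rfl
theorem F45952 : act 0 n10311 = n10311 := d1_1 D10311 (iv D10311) F32362
theorem F45953 : act 3 n10311 = n10311 := d17_2 D7106 D10311 (iv D10311) (iv D7106) F22876
theorem F45954 : act 5 n10311 = n7110 := d19_2 (iv F32363) D10311 (iv D7110)
def n10312 : Q := act 4 n7106
theorem D10312 : act 4 n7106 = n10312 := rfl
theorem F45955 : act 0 n10312 = n10312 := d3_1 D10312 (iv D10312) F32362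
theorem F45956 : act 3 n10312 = n10312 := d24_1 D10312 (iv D10312) (iv D7106) F22877 D7106
theorem F45957 : act 5 n10312 = n7251 := d30_2 (iv F32363) D10312 (iv D7251) F23332 (iv F22885)
def n10313 : Q := act 9 n7106
theorem D10313 : act 9 n7106 = n10313 := rfl
theorem F45958 : act 0 n10313 = n10313 := d8_1 D10313 (iv D10313) F32362
theorem F45959 : act 3 n10313 = n7107 := d29_1 D10313 (iv D7107) D7106
theorem F45960 : act 5 n10313 = n7111 := d38_1 D10313 (iv D7111) (iv F32363)
def n10314 : Q := act 2 n7108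
theorem D10314 : act 2 n7108 = n10314 := rfl
theorem F45961 : act 0 n10314 = n10314 := d1_1 D10314 (iv D10314) F32368
theorem F45962 : act 3 n10314 = n10314 := d17_2 D7108 D10314 (iv D10314) (iv D7108) F22880
theorem F45963 : act 4 n10314 = n7253 := d18_2 (iv F32369) D10314 (iv D7253)
theorem F45964 : act 6 n10314 = n10314 := d20_2 F32370 D10314 (iv D10314)
theorem F45965 : act 7 n10314 = n7110 := d21_2 (iv F32371) D10314 (iv D7110)
def n10315 : Q := act 9 n7108
theorem D10315 : act 9 n7108 = n10315 := rfl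
theorem F45966 : act 0 n10315 = n10315 := d8_1 D10315 (iv D10315) F32368
theorem F45967 : act 3 n10315 = n7109 := d29_1 D10315 (iv D7109) D7108
theorem F45968 : act 4 n10315 = n7254 := d34_1 D10315 (iv D7254) (iv F32369)
theorem F45969 : act 6 n10315 = n10315 := d41_1 D10315 (iv D10315) F32370
theorem F45970 : act 7 n10315 = n7111 := d43_1 D10315 (iv D7111) (iv F32371)
def n10316 : Q := act 1 n7110
theorem D10316 : act 1 n7110 = n10316 := rfl
theorem F45971 : act 3 n10316 = n10316 := d10_2 F32378 D10316 (iv D10316)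
theorem F45972 : act 4 n10316 = n7255 := d11_2 (iv F32379) D10316 (iv D7255)
theorem F45973 : act 6 n10316 = n7112 := d13_2 (iv F32380) D10316 (iv D7112)
def n10317 : Q := act 9 n7110
theorem D10317 : act 9 n7110 = n10317 := rfl
theorem F45974 : act 0 n10317 = n10317 := d8_1 D10317 (iv D10317) F32377
theorem F45975 : act 2 n10317 = n7111 := d23_1 D10317 (iv D7111) D7110
theorem F45976 : act 3 n10317 = n10317 := d29_1 D10317 (iv D10317) F32378
theorem F45977 : act 4 n10317 = n7256 := d34_1 D10317 (iv D7256) (iv F32379)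
theorem F45978 : act 6 n10317 = n7113 := d41_1 D10317 (iv D7113) (iv F32380)
def n10318 : Q := act 8 n7111
theorem D10318 : act 8 n7111 = n10318 := rfl
theorem F45979 : act 0 n10318 = n10318 := d7_1 D10318 (iv D10318) F32381
theorem F45980 : act 4 n10318 = n7257 := d33_1 D10318 (iv D7257) (iv F32383)
theorem F45981 : act 6 n10318 = n7114 := d40_1 D10318 (iv D7114) (iv F32384)
def n10319 : Q := act 0 n7112
theorem D10319 : act 0 n7112 = n10319 := rfl
theorem F45982 : act 1 n10319 = n10319 := d0_2 D7112 D10319 (iv D10319) (iv D7112) F22891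
theorem F45983 : act 3 n10319 = n10319 := d2_2 F32385 D10319 (iv D10319)
theorem F45984 : act 4 n10319 = n7258 := d3_2 (iv F32386) D10319 (iv D7258)
theorem F45985 : act 7 n10319 = n10319 := d6_2 F32387 D10319 (iv D10319)
def n10320 : Q := act 9 n7112
theorem D10320 : act 9 n7112 = n10320 := rfl
theorem F45986 : act 1 n10320 = n7113 := d16_1 D10320 (iv D7113) D7112
theorem F45987 : act 3 n10320 = n10320 := d29_1 D10320 (iv D10320) F32385
theorem F45988 : act 4 n10320 = n7259 := d34_1 D10320 (iv D7259) (iv F32386)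
theorem F45989 : act 7 n10320 = n10320 := d43_1 D10320 (iv D10320) F32387
def n10321 : Q := act 8 n7113
theorem D10321 : act 8 n7113 = n10321 := rfl
theorem F45990 : act 0 n10321 = n10321 := d7_1 D10321 (iv D10321) F32388
theorem F45991 : act 2 n10321 = n7114 := d22_1 D10321 (iv D7114) (iv F32389)
theorem F45992 : act 4 n10321 = n7260 := d33_1 D10321 (iv D7260) (iv F32391)
theorem F45993 : act 7 n10321 = n10321 := d42_1 D10321 (iv D10321) F32392
def n10324 : Q := act 4 n7116
theorem D10324 : act 4 n7116 = n10324 := rfl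
theorem F46006 : act 0 n10324 = n7123 := d3_1 D10324 (iv D7123) (iv F32403)
theorem F46007 : act 2 n10324 = n7118 := d18_1 D10324 (iv D7118) (iv F32404)
theorem F46008 : act 5 n10324 = n10324 := d30_2 D7116 D10324 (iv D10324) (iv D7116) F22907
theorem F46009 : act 7 n10324 = n7142 := d32_2 (iv F32406) D10324 (iv D7142)
theorem F46010 : act 9 n10324 = n10324 := d34_2 F32407 D10324 (iv D10324)
def n10325 : Q := act 6 n7116
theorem D10325 : act 6 n7116 = n10325 := rfl
theorem F46011 : act 0 n10325 = n7124 := d5_1 D10325 (iv D7124) (iv F32403)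
theorem F46012 : act 2 n10325 = n7119 := d20_1 D10325 (iv D7119) (iv F32404)
theorem F46013 : act 3 n10325 = n7811 := d26_1 D10325 (iv D7811) (iv F32405)
theorem F46014 : act 5 n10325 = n10325 := d35_1 D10325 (iv D10325) (iv D7116) F22908 D7116
theorem F46015 : act 9 n10325 = n10325 := d41_2 F32407 D10325 (iv D10325)
def n10326 : Q := act 8 n7116
theorem D10326 : act 8 n7116 = n10326 := rfl
theorem F46016 : act 0 n10326 = n7125 := d7_1 D10326 (iv D7125) (iv F32403)
theorem F46017 : act 2 n10326 = n7120 := d22_1 D10326 (iv D7120) (iv F32404)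
theorem F46018 : act 5 n10326 = n7117 := d37_1 D10326 (iv D7117) D7116
theorem F46019 : act 7 n10326 = n7144 := d42_1 D10326 (iv D7144) (iv F32406)
def n10327 : Q := act 3 n7117
theorem D10327 : act 3 n7117 = n10327 := rfl
theorem F46023 : act 8 n10327 = n7813 := d28_2 D7117 D10327 (iv D7813) (iv D5394) (iv F22906)
def n10328 : Q := act 9 n7117
theorem D10328 : act 9 n7117 = n10328 := rfl
theorem F46024 : act 0 n10328 = n7127 := d8_1 D10328 (iv D7127) (iv F32408)
theorem F46025 : act 2 n10328 = n7121 := d23_1 D10328 (iv D7121) (iv F32409)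
theorem F46026 : act 4 n10328 = n10328 := d34_1 D10328 (iv D10328) F32410
theorem F46027 : act 6 n10328 = n10328 := d41_1 D10328 (iv D10328) F32411
theorem F46028 : act 7 n10328 = n7146 := d43_1 D10328 (iv D7146) (iv F32412)
theorem F46029 : act 8 n10328 = n10328 := d44_1 D10328 (iv D10328) (iv D7117) F22910 D7117
def n10329 : Q := act 6 n7118
theorem D10329 : act 6 n7118 = n10329 := rfl
theorem F46030 : act 0 n10329 = n7128 := d5_1 D10329 (iv D7128) (iv F32413)
theorem F46031 : act 1 n10329 = n10329 := d13_1 D10329 (iv D10329) F32414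
theorem F46032 : act 3 n10329 = n10329 := d26_1 D10329 (iv D10329) F32415
theorem F46033 : act 4 n10329 = n7119 := d31_1 D10329 (iv D7119) D7118
theorem F46034 : act 9 n10329 = n10329 := d41_2 F32418 D10329 (iv D10329)
def n10330 : Q := act 8 n7118
theorem D10330 : act 8 n7118 = n10330 := rfl
theorem F46035 : act 0 n10330 = n7129 := d7_1 D10330 (iv D7129) (iv F32413)
theorem F46036 : act 1 n10330 = n10330 := d15_1 D10330 (iv D10330) F32414
theorem F46037 : act 4 n10330 = n7120 := d33_1 D10330 (iv D7120) D7118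
theorem F46038 : act 5 n10330 = n10330 := d37_1 D10330 (iv D10330) F32416
theorem F46039 : act 7 n10330 = n7148 := d42_1 D10330 (iv D7148) (iv F32417)
def n10331 : Q := act 7 n7119
theorem D10331 : act 7 n7119 = n10331 := rfl
theorem F46040 : act 0 n10331 = n7130 := d6_1 D10331 (iv D7130) (iv F32419)
theorem F46041 : act 1 n10331 = n10331 := d14_1 D10331 (iv D10331) F32420
theorem F46042 : act 3 n10331 = n7122 := d27_1 D10331 (iv D7122) (iv F32421)
theorem F46043 : act 5 n10331 = n10331 := d36_1 D10331 (iv D10331) F32422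
theorem F46044 : act 6 n10331 = n7149 := d39_1 D10331 (iv D7149) (iv D4934) (iv F22914) D7119
theorem F46045 : act 9 n10331 = n10331 := d43_2 F32423 D10331 (iv D10331)
def n10332 : Q := act 8 n7119
theorem D10332 : act 8 n7119 = n10332 := rfl
theorem F46046 : act 0 n10332 = n7131 := d7_1 D10332 (iv D7131) (iv F32419)
theorem F46047 : act 1 n10332 = n10332 := d15_1 D10332 (iv D10332) F32420
theorem F46048 : act 5 n10332 = n10332 := d37_1 D10332 (iv D10332) F32422
theorem F46049 : act 6 n10332 = n7120 := d40_1 D10332 (iv D7120) D7119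
def n10333 : Q := act 9 n7120
theorem D10333 : act 9 n7120 = n10333 := rfl
theorem F46050 : act 0 n10333 = n7132 := d8_1 D10333 (iv D7132) (iv F32424)
theorem F46051 : act 1 n10333 = n10333 := d16_1 D10333 (iv D10333) F32425
theorem F46052 : act 5 n10333 = n7121 := d38_1 D10333 (iv D7121) (iv F32426)
theorem F46053 : act 7 n10333 = n7151 := d43_1 D10333 (iv D7151) (iv F32427)
theorem F46054 : act 8 n10333 = n10333 := d44_1 D10333 (iv D10333) (iv D7120) F22915 D7120
def n10334 : Q := act 3 n7123
theorem D10334 : act 3 n7123 = n10334 := rfl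
theorem F46055 : act 1 n10334 = n10334 := d10_1 D10334 (iv D10334) F32441
theorem F46056 : act 2 n10334 = n10334 := d17_1 D10334 (iv D10334) F32442 F22938 (iv F32442)
theorem F46057 : act 4 n10334 = n7820 := d24_2 D7123 D10334 (iv D7820) (iv D5400) (iv F22929)
theorem F46058 : act 5 n10334 = n10334 := d25_2 F32443 D10334 (iv D10334)
theorem F46059 : act 7 n10334 = n7152 := d27_2 (iv F32444) D10334 (iv D7152)
theorem F46060 : act 9 n10334 = n10334 := d29_2 F32445 D10334 (iv D10334)
def n10335 : Q := act 6 n7123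
theorem D10335 : act 6 n7123 = n10335 := rfl
theorem F46061 : act 1 n10335 = n10335 := d13_1 D10335 (iv D10335) F32441
theorem F46062 : act 2 n10335 = n7128 := d20_1 D10335 (iv D7128) (iv F32442)
theorem F46063 : act 4 n10335 = n7124 := d31_1 D10335 (iv D7124) D7123
theorem F46064 : act 9 n10335 = n10335 := d41_2 F32445 D10335 (iv D10335)
def n10336 : Q := act 8 n7123
theorem D10336 : act 8 n7123 = n10336 := rfl
theorem F46065 : act 1 n10336 = n10336 := d15_1 D10336 (iv D10336) F32441
theorem F46066 : act 2 n10336 = n7129 := d22_1 D10336 (iv D7129) (iv F32442)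
theorem F46067 : act 4 n10336 = n7125 := d33_1 D10336 (iv D7125) D7123
theorem F46068 : act 5 n10336 = n10336 := d37_1 D10336 (iv D10336) F32443
theorem F46069 : act 7 n10336 = n7154 := d42_1 D10336 (iv D7154) (iv F32444)
def n10337 : Q := act 7 n7124
theorem D10337 : act 7 n7124 = n10337 := rfl
theorem F46070 : act 1 n10337 = n10337 := d14_1 D10337 (iv D10337) F32446
theorem F46071 : act 2 n10337 = n7130 := d21_1 D10337 (iv D7130) (iv F32447)
theorem F46072 : act 3 n10337 = n7823 := d27_1 D10337 (iv D7823) (iv F32448)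
theorem F46073 : act 5 n10337 = n10337 := d36_1 D10337 (iv D10337) F32449
theorem F46074 : act 6 n10337 = n7155 := d39_1 D10337 (iv D7155) (iv D4939) (iv F22930) D7124
theorem F46075 : act 9 n10337 = n10337 := d43_2 F32450 D10337 (iv D10337)
def n10338 : Q := act 8 n7124
theorem D10338 : act 8 n7124 = n10338 := rfl
theorem F46076 : act 1 n10338 = n10338 := d15_1 D10338 (iv D10338) F32446
theorem F46077 : act 2 n10338 = n7131 := d22_1 D10338 (iv D7131) (iv F32447)
theorem F46078 : act 5 n10338 = n10338 := d37_1 D10338 (iv D10338) F32449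
theorem F46079 : act 6 n10338 = n7125 := d40_1 D10338 (iv D7125) D7124
def n10339 : Q := act 3 n7125
theorem D10339 : act 3 n7125 = n10339 := rfl
theorem F46080 : act 1 n10339 = n10339 := d10_1 D10339 (iv D10339) F32451
theorem F46081 : act 5 n10339 = n7126 := d25_2 (iv F32453) D10339 (iv D7126)
theorem F46082 : act 7 n10339 = n7157 := d27_2 (iv F32454) D10339 (iv D7157)
theorem F46083 : act 8 n10339 = n7825 := d28_2 D7125 D10339 (iv D7825) (iv D5402) (iv F22929)
def n10340 : Q := act 9 n7125
theorem D10340 : act 9 n7125 = n10340 := rfl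
theorem F46084 : act 1 n10340 = n10340 := d16_1 D10340 (iv D10340) F32451
theorem F46085 : act 2 n10340 = n7132 := d23_1 D10340 (iv D7132) (iv F32452)
theorem F46086 : act 5 n10340 = n7127 := d38_1 D10340 (iv D7127) (iv F32453)
theorem F46087 : act 7 n10340 = n7158 := d43_1 D10340 (iv D7158) (iv F32454)
theorem F46088 : act 8 n10340 = n10340 := d44_1 D10340 (iv D10340) (iv D7125) F22931 D7125
def n10341 : Q := act 4 n7126
theorem D10341 : act 4 n7126 = n10341 := rfl
theorem F46089 : act 1 n10341 = n10341 := d11_1 D10341 (iv D10341) F32455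
theorem F46090 : act 3 n10341 = n10341 := d24_1 D10341 (iv D10341) (iv D7126) F22934 D7126
theorem F46091 : act 6 n10341 = n10341 := d31_2 F32456 D10341 (iv D10341)
theorem F46092 : act 7 n10341 = n7159 := d32_2 (iv F32457) D10341 (iv D7159)
theorem F46093 : act 8 n10341 = n7827 := d33_2 (iv F32458) D10341 (iv D7827)
def n10342 : Q := act 9 n7126
theorem D10342 : act 9 n7126 = n10342 := rfl
theorem F46094 : act 1 n10342 = n10342 := d16_1 D10342 (iv D10342) F32455
theorem F46095 : act 3 n10342 = n7127 := d29_1 D10342 (iv D7127) D7126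
theorem F46096 : act 6 n10342 = n10342 := d41_1 D10342 (iv D10342) F32456
theorem F46097 : act 7 n10342 = n7160 := d43_1 D10342 (iv D7160) (iv F32457)
def n10343 : Q := act 5 n7128
theorem D10343 : act 5 n7128 = n10343 := rfl
theorem F46098 : act 1 n10343 = n7133 := d12_1 D10343 (iv D7133) (iv F32465)
theorem F46099 : act 3 n10343 = n10343 := d25_1 D10343 (iv D10343) F32466
theorem F46100 : act 4 n10343 = n10343 := d30_1 D10343 (iv D10343) F32467 F22944 (iv F32467)
theorem F46101 : act 6 n10343 = n10343 := d35_2 D7128 D10343 (iv D10343) (iv D7128) F22939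
theorem F46102 : act 9 n10343 = n10343 := d38_2 F32468 D10343 (iv D10343)
def n10344 : Q := act 7 n7128
theorem D10344 : act 7 n7128 = n10344 := rfl
theorem F46103 : act 1 n10344 = n7134 := d14_1 D10344 (iv D7134) (iv F32465)
theorem F46104 : act 3 n10344 = n10344 := d27_1 D10344 (iv D10344) F32466
theorem F46105 : act 4 n10344 = n7130 := d32_1 D10344 (iv D7130) (iv F32467)
theorem F46106 : act 6 n10344 = n7162 := d39_1 D10344 (iv D7162) (iv D4943) (iv F22940) D7128
theorem F46107 : act 9 n10344 = n10344 := d43_2 F32468 D10344 (iv D10344)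
def n10345 : Q := act 8 n7128
theorem D10345 : act 8 n7128 = n10345 := rfl
theorem F46108 : act 1 n10345 = n7135 := d15_1 D10345 (iv D7135) (iv F32465)
theorem F46109 : act 4 n10345 = n7131 := d33_1 D10345 (iv D7131) (iv F32467)
theorem F46110 : act 6 n10345 = n7129 := d40_1 D10345 (iv D7129) D7128
def n10346 : Q := act 3 n7129
theorem D10346 : act 3 n7129 = n10346 := rfl
theorem F46111 : act 1 n10346 = n7136 := d10_1 D10346 (iv D7136) (iv F32469)
theorem F46112 : act 5 n10346 = n10346 := d25_2 F32471 D10346 (iv D10346)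
theorem F46113 : act 7 n10346 = n7164 := d27_2 (iv F32472) D10346 (iv D7164)
theorem F46114 : act 8 n10346 = n10346 := d28_2 D7129 D10346 (iv D10346) (iv D7129) F22938
def n10347 : Q := act 9 n7129
theorem D10347 : act 9 n7129 = n10347 := rfl
theorem F46115 : act 1 n10347 = n7137 := d16_1 D10347 (iv D7137) (iv F32469)
theorem F46116 : act 4 n10347 = n7132 := d34_1 D10347 (iv D7132) (iv F32470)
theorem F46117 : act 5 n10347 = n10347 := d38_1 D10347 (iv D10347) F32471
theorem F46118 : act 7 n10347 = n7165 := d43_1 D10347 (iv D7165) (iv F32472)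
theorem F46119 : act 8 n10347 = n10347 := d44_1 D10347 (iv D10347) (iv D7129) F22941 D7129
def n10348 : Q := act 8 n7130
theorem D10348 : act 8 n7130 = n10348 := rfl
theorem F46120 : act 1 n10348 = n7138 := d15_1 D10348 (iv D7138) (iv F32473)
theorem F46121 : act 5 n10348 = n10348 := d37_1 D10348 (iv D10348) F32475
theorem F46122 : act 6 n10348 = n7166 := d40_1 D10348 (iv D7166) (iv F32476)
theorem F46123 : act 7 n10348 = n7131 := d42_1 D10348 (iv D7131) D7130
def n10349 : Q := act 9 n7131
theorem D10349 : act 9 n7131 = n10349 := rfl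
theorem F46124 : act 1 n10349 = n7139 := d16_1 D10349 (iv D7139) (iv F32478)
theorem F46125 : act 5 n10349 = n10349 := d38_1 D10349 (iv D10349) F32479
theorem F46126 : act 6 n10349 = n7132 := d41_1 D10349 (iv D7132) (iv F32480)
theorem F46127 : act 8 n10349 = n10349 := d44_1 D10349 (iv D10349) (iv D7131) F22945 D7131
def n10350 : Q := act 7 n7133
theorem D10350 : act 7 n7133 = n10350 := rfl
theorem F46128 : act 0 n10350 = n10350 := d6_1 D10350 (iv D10350) F32485
theorem F46129 : act 2 n10350 = n10350 := d21_1 D10350 (iv D10350) F32486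
theorem F46130 : act 3 n10350 = n10350 := d27_1 D10350 (iv D10350) F32487
theorem F46131 : act 4 n10350 = n10350 := d32_1 D10350 (iv D10350) F32488
theorem F46132 : act 5 n10350 = n7134 := d36_1 D10350 (iv D7134) D7133
theorem F46133 : act 9 n10350 = n10350 := d43_2 F32490 D10350 (iv D10350)
def n10351 : Q := act 8 n7133
theorem D10351 : act 8 n7133 = n10351 := rfl
theorem F46134 : act 0 n10351 = n10351 := d7_1 D10351 (iv D10351) F32485
theorem F46135 : act 2 n10351 = n10351 := d22_1 D10351 (iv D10351) F32486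
theorem F46136 : act 4 n10351 = n10351 := d33_1 D10351 (iv D10351) F32488
theorem F46137 : act 5 n10351 = n7135 := d37_1 D10351 (iv D7135) D7133
theorem F46138 : act 6 n10351 = n10351 := d40_1 D10351 (iv D10351) F32489
def n10352 : Q := act 8 n7134
theorem D10352 : act 8 n7134 = n10352 := rfl
theorem F46139 : act 0 n10352 = n10352 := d7_1 D10352 (iv D10352) F32491
theorem F46140 : act 2 n10352 = n10352 := d22_1 D10352 (iv D10352) F32492
theorem F46141 : act 4 n10352 = n7138 := d33_1 D10352 (iv D7138) (iv F32494)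
theorem F46142 : act 6 n10352 = n7170 := d40_1 D10352 (iv D7170) (iv F32495)
theorem F46143 : act 7 n10352 = n7135 := d42_1 D10352 (iv D7135) D7134
def n10353 : Q := act 3 n7135
theorem D10353 : act 3 n7135 = n10353 := rfl
theorem F46144 : act 0 n10353 = n10353 := d2_1 D10353 (iv D10353) F32497
theorem F46145 : act 6 n10353 = n7136 := d26_2 (iv F32500) D10353 (iv D7136)
theorem F46146 : act 8 n10353 = n10353 := d28_2 D7135 D10353 (iv D10353) (iv D7135) F22962
def n10354 : Q := act 9 n7135
theorem D10354 : act 9 n7135 = n10354 := rfl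
theorem F46147 : act 0 n10354 = n10354 := d8_1 D10354 (iv D10354) F32497
theorem F46148 : act 2 n10354 = n10354 := d23_1 D10354 (iv D10354) F32498
theorem F46149 : act 4 n10354 = n7139 := d34_1 D10354 (iv D7139) (iv F32499)
theorem F46150 : act 6 n10354 = n7137 := d41_1 D10354 (iv D7137) (iv F32500)
theorem F46151 : act 8 n10354 = n10354 := d44_1 D10354 (iv D10354) (iv D7135) F22964 D7135
def n10355 : Q := act 2 n7136
theorem D10355 : act 2 n7136 = n10355 := rfl
theorem F46152 : act 0 n10355 = n10355 := d1_1 D10355 (iv D10355) F32501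
theorem F46153 : act 3 n10355 = n10355 := d17_2 D7136 D10355 (iv D10355) (iv D7136) F22966
theorem F46154 : act 5 n10355 = n10355 := d19_2 F32502 D10355 (iv D10355)
theorem F46155 : act 7 n10355 = n7173 := d21_2 (iv F32503) D10355 (iv D7173)
theorem F46156 : act 8 n10355 = n10355 := d22_2 F32504 D10355 (iv D10355)
def n10356 : Q := act 9 n7136
theorem D10356 : act 9 n7136 = n10356 := rfl
theorem F46157 : act 0 n10356 = n10356 := d8_1 D10356 (iv D10356) F32501
theorem F46158 : act 3 n10356 = n7137 := d29_1 D10356 (iv D7137) D7136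
theorem F46159 : act 5 n10356 = n10356 := d38_1 D10356 (iv D10356) F32502
theorem F46160 : act 7 n10356 = n7174 := d43_1 D10356 (iv D7174) (iv F32503)
def n10357 : Q := act 9 n7138
theorem D10357 : act 9 n7138 = n10357 := rfl
theorem F46161 : act 0 n10357 = n10357 := d8_1 D10357 (iv D10357) F32511
theorem F46162 : act 2 n10357 = n10357 := d23_1 D10357 (iv D10357) F32512
theorem F46163 : act 5 n10357 = n10357 := d38_1 D10357 (iv D10357) F32513
theorem F46164 : act 6 n10357 = n7175 := d41_1 D10357 (iv D7175) (iv F32514)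
theorem F46165 : act 7 n10357 = n7139 := d43_1 D10357 (iv D7139) (iv F32515)
theorem F46166 : act 8 n10357 = n10357 := d44_1 D10357 (iv D10357) (iv D7138) F22975 D7138
def n10359 : Q := act 6 n7140
theorem D10359 : act 6 n7140 = n10359 := rfl
theorem F46173 : act 1 n10359 = n7143 := d13_1 D10359 (iv D7143) (iv F32522)
theorem F46175 : act 3 n10359 = n7845 := d26_1 D10359 (iv D7845) (iv F32524)
def n10363 : Q := act 3 n7142
theorem D10363 : act 3 n7142 = n10363 := rfl
theorem F46192 : act 0 n10363 = n7152 := d2_1 D10363 (iv D7152) (iv F32531)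
theorem F46193 : act 2 n10363 = n10363 := d17_1 D10363 (iv D10363) F32532 F23001 (iv F32532)
theorem F46194 : act 4 n10363 = n7849 := d24_2 D7142 D10363 (iv D7849) (iv D5419) (iv F22993)
theorem F46195 : act 5 n10363 = n10363 := d25_2 F32533 D10363 (iv D10363)
theorem F46196 : act 9 n10363 = n10363 := d29_2 F32534 D10363 (iv D10363)
def n10364 : Q := act 6 n7142
theorem D10364 : act 6 n7142 = n10364 := rfl
theorem F46197 : act 0 n10364 = n7153 := d5_1 D10364 (iv D7153) (iv F32531)
theorem F46198 : act 2 n10364 = n7147 := d20_1 D10364 (iv D7147) (iv F32532)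
theorem F46199 : act 4 n10364 = n7143 := d31_1 D10364 (iv D7143) D7142
theorem F46200 : act 9 n10364 = n10364 := d41_2 F32534 D10364 (iv D10364)
def n10365 : Q := act 8 n7142
theorem D10365 : act 8 n7142 = n10365 := rfl
theorem F46201 : act 0 n10365 = n7154 := d7_1 D10365 (iv D7154) (iv F32531)
theorem F46202 : act 2 n10365 = n7148 := d22_1 D10365 (iv D7148) (iv F32532)
theorem F46203 : act 4 n10365 = n7144 := d33_1 D10365 (iv D7144) D7142
theorem F46204 : act 5 n10365 = n10365 := d37_1 D10365 (iv D10365) F32533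
def n10366 : Q := act 7 n7143
theorem D10366 : act 7 n7143 = n10366 := rfl
theorem F46205 : act 0 n10366 = n7155 := d6_1 D10366 (iv D7155) (iv F32535)
theorem F46206 : act 2 n10366 = n7149 := d21_1 D10366 (iv D7149) (iv F32536)
theorem F46207 : act 3 n10366 = n7852 := d27_1 D10366 (iv D7852) (iv F32537)
theorem F46208 : act 5 n10366 = n7183 := d36_1 D10366 (iv D7183) (iv F32538)
theorem F46209 : act 9 n10366 = n10366 := d43_2 F32539 D10366 (iv D10366)
def n10367 : Q := act 8 n7143
theorem D10367 : act 8 n7143 = n10367 := rfl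
theorem F46210 : act 0 n10367 = n7156 := d7_1 D10367 (iv D7156) (iv F32535)
theorem F46211 : act 2 n10367 = n7150 := d22_1 D10367 (iv D7150) (iv F32536)
theorem F46212 : act 5 n10367 = n7184 := d37_1 D10367 (iv D7184) (iv F32538)
theorem F46213 : act 6 n10367 = n7144 := d40_1 D10367 (iv D7144) D7143
def n10368 : Q := act 3 n7144
theorem D10368 : act 3 n7144 = n10368 := rfl
theorem F46216 : act 8 n10368 = n7854 := d28_2 D7144 D10368 (iv D7854) (iv D5421) (iv F22993)
def n10369 : Q := act 9 n7144
theorem D10369 : act 9 n7144 = n10369 := rfl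
theorem F46217 : act 0 n10369 = n7158 := d8_1 D10369 (iv D7158) (iv F32540)
theorem F46218 : act 2 n10369 = n7151 := d23_1 D10369 (iv D7151) (iv F32541)
theorem F46219 : act 5 n10369 = n7146 := d38_1 D10369 (iv D7146) (iv F32542)
theorem F46220 : act 8 n10369 = n10369 := d44_1 D10369 (iv D10369) (iv D7144) F22994 D7144
def n10371 : Q := act 9 n7145
theorem D10371 : act 9 n7145 = n10371 := rfl
theorem F46226 : act 3 n10371 = n7146 := d29_1 D10371 (iv D7146) D7145
def n10372 : Q := act 5 n7147
theorem D10372 : act 5 n7147 = n10372 := rfl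
theorem F46228 : act 0 n10372 = n7161 := d4_1 D10372 (iv D7161) (iv F32551)
theorem F46229 : act 1 n10372 = n10372 := d12_1 D10372 (iv D10372) F32552
theorem F46230 : act 3 n10372 = n10372 := d25_1 D10372 (iv D10372) F32553
theorem F46231 : act 4 n10372 = n7189 := d30_1 D10372 (iv D7189) F23128 (iv F23007) (iv F32554)
theorem F46232 : act 6 n10372 = n10372 := d35_2 D7147 D10372 (iv D10372) (iv D7147) F23002
theorem F46233 : act 9 n10372 = n10372 := d38_2 F32555 D10372 (iv D10372)
def n10373 : Q := act 7 n7147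
theorem D10373 : act 7 n7147 = n10373 := rfl
theorem F46234 : act 0 n10373 = n7162 := d6_1 D10373 (iv D7162) (iv F32551)
theorem F46235 : act 1 n10373 = n10373 := d14_1 D10373 (iv D10373) F32552
theorem F46236 : act 3 n10373 = n10373 := d27_1 D10373 (iv D10373) F32553
theorem F46237 : act 4 n10373 = n7149 := d32_1 D10373 (iv D7149) (iv F32554)
theorem F46238 : act 9 n10373 = n10373 := d43_2 F32555 D10373 (iv D10373)
def n10374 : Q := act 8 n7147
theorem D10374 : act 8 n7147 = n10374 := rfl
theorem F46239 : act 0 n10374 = n7163 := d7_1 D10374 (iv D7163) (iv F32551)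
theorem F46240 : act 1 n10374 = n10374 := d15_1 D10374 (iv D10374) F32552
theorem F46241 : act 4 n10374 = n7150 := d33_1 D10374 (iv D7150) (iv F32554)
theorem F46242 : act 6 n10374 = n7148 := d40_1 D10374 (iv D7148) D7147
def n10375 : Q := act 3 n7148
theorem D10375 : act 3 n7148 = n10375 := rfl
theorem F46243 : act 0 n10375 = n7164 := d2_1 D10375 (iv D7164) (iv F32556)
theorem F46244 : act 1 n10375 = n10375 := d10_1 D10375 (iv D10375) F32557
theorem F46245 : act 5 n10375 = n10375 := d25_2 F32559 D10375 (iv D10375)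
theorem F46246 : act 8 n10375 = n10375 := d28_2 D7148 D10375 (iv D10375) (iv D7148) F23001
def n10376 : Q := act 9 n7148
theorem D10376 : act 9 n7148 = n10376 := rfl
theorem F46247 : act 0 n10376 = n7165 := d8_1 D10376 (iv D7165) (iv F32556)
theorem F46248 : act 1 n10376 = n10376 := d16_1 D10376 (iv D10376) F32557
theorem F46249 : act 4 n10376 = n7151 := d34_1 D10376 (iv D7151) (iv F32558)
theorem F46250 : act 5 n10376 = n10376 := d38_1 D10376 (iv D10376) F32559
theorem F46251 : act 8 n10376 = n10376 := d44_1 D10376 (iv D10376) (iv D7148) F23003 D7148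
def n10377 : Q := act 8 n7149
theorem D10377 : act 8 n7149 = n10377 := rfl
theorem F46252 : act 0 n10377 = n7166 := d7_1 D10377 (iv D7166) (iv F32560)
theorem F46253 : act 1 n10377 = n10377 := d15_1 D10377 (iv D10377) F32561
theorem F46254 : act 5 n10377 = n7194 := d37_1 D10377 (iv D7194) (iv F32563)
theorem F46255 : act 7 n10377 = n7150 := d42_1 D10377 (iv D7150) D7149
def n10378 : Q := act 9 n7150
theorem D10378 : act 9 n7150 = n10378 := rfl
theorem F46256 : act 0 n10378 = n7167 := d8_1 D10378 (iv D7167) (iv F32565)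
theorem F46257 : act 1 n10378 = n10378 := d16_1 D10378 (iv D10378) F32566
theorem F46258 : act 5 n10378 = n7195 := d38_1 D10378 (iv D7195) (iv F32567)
theorem F46259 : act 6 n10378 = n7151 := d41_1 D10378 (iv D7151) (iv F32568)
theorem F46260 : act 8 n10378 = n10378 := d44_1 D10378 (iv D10378) (iv D7150) F23008 D7150
def n10379 : Q := act 6 n7152
theorem D10379 : act 6 n7152 = n10379 := rfl
theorem F46261 : act 1 n10379 = n10379 := d13_1 D10379 (iv D10379) F32573
theorem F46262 : act 2 n10379 = n10379 := d20_1 D10379 (iv D10379) F32574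
theorem F46263 : act 3 n10379 = n7153 := d26_1 D10379 (iv D7153) D7152
theorem F46264 : act 4 n10379 = n7864 := d31_1 D10379 (iv D7864) (iv F32575)
theorem F46265 : act 9 n10379 = n10379 := d41_2 F32577 D10379 (iv D10379)
def n10380 : Q := act 8 n7152
theorem D10380 : act 8 n7152 = n10380 := rfl
theorem F46266 : act 1 n10380 = n10380 := d15_1 D10380 (iv D10380) F32573
theorem F46267 : act 2 n10380 = n10380 := d22_1 D10380 (iv D10380) F32574
theorem F46268 : act 4 n10380 = n7865 := d33_1 D10380 (iv D7865) (iv F32575)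
theorem F46269 : act 5 n10380 = n10380 := d37_1 D10380 (iv D10380) F32576
def n10381 : Q := act 5 n7153
theorem D10381 : act 5 n7153 = n10381 := rfl
theorem F46270 : act 1 n10381 = n10381 := d12_1 D10381 (iv D10381) F32578
theorem F46271 : act 2 n10381 = n7161 := d19_1 D10381 (iv D7161) (iv F32579)
theorem F46272 : act 4 n10381 = n7196 := d30_1 D10381 (iv D7196) F23151 (iv F23030) (iv F32580)
theorem F46273 : act 6 n10381 = n10381 := d35_2 D7153 D10381 (iv D10381) (iv D7153) F23025
theorem F46274 : act 9 n10381 = n10381 := d38_2 F32581 D10381 (iv D10381)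
def n10382 : Q := act 7 n7153
theorem D10382 : act 7 n7153 = n10382 := rfl
theorem F46275 : act 1 n10382 = n10382 := d14_1 D10382 (iv D10382) F32578
theorem F46276 : act 2 n10382 = n7162 := d21_1 D10382 (iv D7162) (iv F32579)
theorem F46277 : act 4 n10382 = n7155 := d32_1 D10382 (iv D7155) (iv F32580)
theorem F46278 : act 9 n10382 = n10382 := d43_2 F32581 D10382 (iv D10382)
def n10383 : Q := act 8 n7153
theorem D10383 : act 8 n7153 = n10383 := rfl
theorem F46279 : act 1 n10383 = n10383 := d15_1 D10383 (iv D10383) F32578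
theorem F46280 : act 2 n10383 = n7163 := d22_1 D10383 (iv D7163) (iv F32579)
theorem F46281 : act 4 n10383 = n7156 := d33_1 D10383 (iv D7156) (iv F32580)
theorem F46282 : act 6 n10383 = n7154 := d40_1 D10383 (iv D7154) D7153
def n10384 : Q := act 3 n7154
theorem D10384 : act 3 n7154 = n10384 := rfl
theorem F46283 : act 1 n10384 = n10384 := d10_1 D10384 (iv D10384) F32582
theorem F46284 : act 5 n10384 = n10384 := d25_2 F32585 D10384 (iv D10384)
def n10385 : Q := act 9 n7154
theorem D10385 : act 9 n7154 = n10385 := rfl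
theorem F46285 : act 1 n10385 = n10385 := d16_1 D10385 (iv D10385) F32582
theorem F46286 : act 2 n10385 = n7165 := d23_1 D10385 (iv D7165) (iv F32583)
theorem F46287 : act 4 n10385 = n7158 := d34_1 D10385 (iv D7158) (iv F32584)
theorem F46288 : act 5 n10385 = n10385 := d38_1 D10385 (iv D10385) F32585
theorem F46289 : act 8 n10385 = n10385 := d44_1 D10385 (iv D10385) (iv D7154) F23026 D7154
def n10386 : Q := act 8 n7155
theorem D10386 : act 8 n7155 = n10386 := rfl
theorem F46290 : act 1 n10386 = n10386 := d15_1 D10386 (iv D10386) F32586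
theorem F46291 : act 2 n10386 = n7166 := d22_1 D10386 (iv D7166) (iv F32587)
theorem F46292 : act 5 n10386 = n7201 := d37_1 D10386 (iv D7201) (iv F32589)
theorem F46293 : act 7 n10386 = n7156 := d42_1 D10386 (iv D7156) D7155
def n10387 : Q := act 3 n7156
theorem D10387 : act 3 n7156 = n10387 := rfl
theorem F46294 : act 1 n10387 = n10387 := d10_1 D10387 (iv D10387) F32591
theorem F46295 : act 5 n10387 = n7202 := d25_2 (iv F32593) D10387 (iv D7202)
theorem F46296 : act 6 n10387 = n7157 := d26_2 (iv F32594) D10387 (iv D7157)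
theorem F46297 : act 8 n10387 = n7871 := d28_2 D7156 D10387 (iv D7871) (iv D5433) (iv F23029)
def n10388 : Q := act 9 n7156
theorem D10388 : act 9 n7156 = n10388 := rfl
theorem F46298 : act 1 n10388 = n10388 := d16_1 D10388 (iv D10388) F32591
theorem F46299 : act 2 n10388 = n7167 := d23_1 D10388 (iv D7167) (iv F32592)
theorem F46300 : act 5 n10388 = n7203 := d38_1 D10388 (iv D7203) (iv F32593)
theorem F46301 : act 6 n10388 = n7158 := d41_1 D10388 (iv D7158) (iv F32594)
theorem F46302 : act 8 n10388 = n10388 := d44_1 D10388 (iv D10388) (iv D7156) F23031 D7156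
def n10389 : Q := act 4 n7157
theorem D10389 : act 4 n7157 = n10389 := rfl
theorem F46303 : act 1 n10389 = n10389 := d11_1 D10389 (iv D10389) F32595
theorem F46304 : act 8 n10389 = n7873 := d33_2 (iv F32597) D10389 (iv D7873)
def n10390 : Q := act 9 n7157
theorem D10390 : act 9 n7157 = n10390 := rfl
theorem F46305 : act 1 n10390 = n10390 := d16_1 D10390 (iv D10390) F32595
theorem F46306 : act 3 n10390 = n7158 := d29_1 D10390 (iv D7158) D7157
theorem F46307 : act 5 n10390 = n7160 := d38_1 D10390 (iv D7160) (iv F32596)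
def n10391 : Q := act 5 n7159
theorem D10391 : act 5 n7159 = n10391 := rfl
theorem F46308 : act 1 n10391 = n10391 := d12_1 D10391 (iv D10391) F32602
theorem F46309 : act 3 n10391 = n10391 := d25_1 D10391 (iv D10391) F32603
theorem F46310 : act 8 n10391 = n7875 := d37_2 (iv F32605) D10391 (iv D7875)
def n10392 : Q := act 9 n7159
theorem D10392 : act 9 n7159 = n10392 := rfl
theorem F46311 : act 1 n10392 = n10392 := d16_1 D10392 (iv D10392) F32602
theorem F46312 : act 3 n10392 = n10392 := d29_1 D10392 (iv D10392) F32603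
theorem F46313 : act 4 n10392 = n7160 := d34_1 D10392 (iv D7160) D7159
theorem F46314 : act 6 n10392 = n7207 := d41_1 D10392 (iv D7207) (iv F32604)
def n10394 : Q := act 7 n7161
theorem D10394 : act 7 n7161 = n10394 := rfl
theorem F46319 : act 1 n10394 = n7168 := d14_1 D10394 (iv D7168) (iv F32609)
theorem F46320 : act 3 n10394 = n10394 := d27_1 D10394 (iv D10394) F32610
theorem F46321 : act 4 n10394 = n7209 := d32_1 D10394 (iv D7209) (iv F32611)
theorem F46322 : act 5 n10394 = n7162 := d36_1 D10394 (iv D7162) D7161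
theorem F46323 : act 9 n10394 = n10394 := d43_2 F32613 D10394 (iv D10394)
def n10395 : Q := act 8 n7161
theorem D10395 : act 8 n7161 = n10395 := rfl
theorem F46324 : act 1 n10395 = n7169 := d15_1 D10395 (iv D7169) (iv F32609)
theorem F46325 : act 4 n10395 = n7210 := d33_1 D10395 (iv D7210) (iv F32611)
theorem F46326 : act 5 n10395 = n7163 := d37_1 D10395 (iv D7163) D7161
theorem F46327 : act 6 n10395 = n10395 := d40_1 D10395 (iv D10395) F32612
def n10396 : Q := act 8 n7162
theorem D10396 : act 8 n7162 = n10396 := rfl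
theorem F46328 : act 1 n10396 = n7170 := d15_1 D10396 (iv D7170) (iv F32614)
theorem F46329 : act 4 n10396 = n7166 := d33_1 D10396 (iv D7166) (iv F32616)
theorem F46330 : act 7 n10396 = n7163 := d42_1 D10396 (iv D7163) D7162
def n10397 : Q := act 3 n7163
theorem D10397 : act 3 n7163 = n10397 := rfl
theorem F46331 : act 1 n10397 = n7171 := d10_1 D10397 (iv D7171) (iv F32618)
theorem F46332 : act 6 n10397 = n7164 := d26_2 (iv F32620) D10397 (iv D7164)
theorem F46333 : act 8 n10397 = n10397 := d28_2 D7163 D10397 (iv D10397) (iv D7163) F23044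
def n10398 : Q := act 9 n7163
theorem D10398 : act 9 n7163 = n10398 := rfl
theorem F46334 : act 1 n10398 = n7172 := d16_1 D10398 (iv D7172) (iv F32618)
theorem F46335 : act 4 n10398 = n7167 := d34_1 D10398 (iv D7167) (iv F32619)
theorem F46336 : act 6 n10398 = n7165 := d41_1 D10398 (iv D7165) (iv F32620)
theorem F46337 : act 8 n10398 = n10398 := d44_1 D10398 (iv D10398) (iv D7163) F23046 D7163
def n10399 : Q := act 2 n7164
theorem D10399 : act 2 n7164 = n10399 := rfl
theorem F46338 : act 5 n10399 = n10399 := d19_2 F32622 D10399 (iv D10399)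
theorem F46339 : act 8 n10399 = n10399 := d22_2 F32623 D10399 (iv D10399)
def n10400 : Q := act 9 n7164
theorem D10400 : act 9 n7164 = n10400 := rfl
theorem F46340 : act 1 n10400 = n7174 := d16_1 D10400 (iv D7174) (iv F32621)
theorem F46341 : act 3 n10400 = n7165 := d29_1 D10400 (iv D7165) D7164
theorem F46342 : act 5 n10400 = n10400 := d38_1 D10400 (iv D10400) F32622
def n10401 : Q := act 9 n7166
theorem D10401 : act 9 n7166 = n10401 := rfl
theorem F46343 : act 1 n10401 = n7175 := d16_1 D10401 (iv D7175) (iv F32628)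
theorem F46344 : act 5 n10401 = n7216 := d38_1 D10401 (iv D7216) (iv F32629)
theorem F46345 : act 7 n10401 = n7167 := d43_1 D10401 (iv D7167) (iv F32630)
theorem F46346 : act 8 n10401 = n10401 := d44_1 D10401 (iv D10401) (iv D7166) F23053 D7166
def n10402 : Q := act 6 n7168
theorem D10402 : act 6 n7168 = n10402 := rfl
theorem F46347 : act 0 n10402 = n10402 := d5_1 D10402 (iv D10402) F32635
theorem F46348 : act 2 n10402 = n10402 := d20_1 D10402 (iv D10402) F32636
theorem F46349 : act 3 n10402 = n10402 := d26_1 D10402 (iv D10402) F32637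
theorem F46350 : act 4 n10402 = n7217 := d31_1 D10402 (iv D7217) (iv F32638)
theorem F46351 : act 7 n10402 = n10402 := d39_2 D7168 D10402 (iv D10402) (iv D7168) F23064
theorem F46352 : act 9 n10402 = n10402 := d41_2 F32640 D10402 (iv D10402)
def n10403 : Q := act 8 n7168
theorem D10403 : act 8 n7168 = n10403 := rfl
theorem F46353 : act 0 n10403 = n10403 := d7_1 D10403 (iv D10403) F32635
theorem F46354 : act 2 n10403 = n10403 := d22_1 D10403 (iv D10403) F32636
theorem F46355 : act 4 n10403 = n7218 := d33_1 D10403 (iv D7218) (iv F32638)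
theorem F46356 : act 5 n10403 = n7170 := d37_1 D10403 (iv D7170) (iv F32639)
theorem F46357 : act 7 n10403 = n7169 := d42_1 D10403 (iv D7169) D7168
def n10404 : Q := act 3 n7169
theorem D10404 : act 3 n7169 = n10404 := rfl
theorem F46358 : act 0 n10404 = n10404 := d2_1 D10404 (iv D10404) F32641
theorem F46359 : act 5 n10404 = n7171 := d25_2 (iv F32644) D10404 (iv D7171)
theorem F46360 : act 6 n10404 = n10404 := d26_2 F32645 D10404 (iv D10404)
theorem F46361 : act 8 n10404 = n10404 := d28_2 D7169 D10404 (iv D10404) (iv D7169) F23062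
def n10405 : Q := act 9 n7169
theorem D10405 : act 9 n7169 = n10405 := rfl
theorem F46362 : act 0 n10405 = n10405 := d8_1 D10405 (iv D10405) F32641
theorem F46363 : act 2 n10405 = n10405 := d23_1 D10405 (iv D10405) F32642
theorem F46364 : act 4 n10405 = n7220 := d34_1 D10405 (iv D7220) (iv F32643)
theorem F46365 : act 5 n10405 = n7172 := d38_1 D10405 (iv D7172) (iv F32644)
theorem F46366 : act 6 n10405 = n10405 := d41_1 D10405 (iv D10405) F32645
theorem F46367 : act 8 n10405 = n10405 := d44_1 D10405 (iv D10405) (iv D7169) F23065 D7169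
def n10406 : Q := act 3 n7170
theorem D10406 : act 3 n7170 = n10406 := rfl
theorem F46368 : act 0 n10406 = n10406 := d2_1 D10406 (iv D10406) F32646
theorem F46369 : act 7 n10406 = n7171 := d27_2 (iv F32649) D10406 (iv D7171)
theorem F46370 : act 8 n10406 = n10406 := d28_2 D7170 D10406 (iv D10406) (iv D7170) F23068
def n10407 : Q := act 9 n7170
theorem D10407 : act 9 n7170 = n10407 := rfl
theorem F46371 : act 0 n10407 = n10407 := d8_1 D10407 (iv D10407) F32646
theorem F46372 : act 2 n10407 = n10407 := d23_1 D10407 (iv D10407) F32647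
theorem F46373 : act 4 n10407 = n7175 := d34_1 D10407 (iv D7175) (iv F32648)
theorem F46374 : act 7 n10407 = n7172 := d43_1 D10407 (iv D7172) (iv F32649)
theorem F46375 : act 8 n10407 = n10407 := d44_1 D10407 (iv D10407) (iv D7170) F23070 D7170
def n10408 : Q := act 2 n7171
theorem D10408 : act 2 n7171 = n10408 := rfl
theorem F46376 : act 0 n10408 = n10408 := d1_1 D10408 (iv D10408) F32650
theorem F46377 : act 3 n10408 = n10408 := d17_2 D7171 D10408 (iv D10408) (iv D7171) F23072
theorem F46378 : act 6 n10408 = n7173 := d20_2 (iv F32651) D10408 (iv D7173)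
theorem F46379 : act 8 n10408 = n10408 := d22_2 F32652 D10408 (iv D10408)
def n10409 : Q := act 9 n7171
theorem D10409 : act 9 n7171 = n10409 := rfl
theorem F46380 : act 0 n10409 = n10409 := d8_1 D10409 (iv D10409) F32650
theorem F46381 : act 3 n10409 = n7172 := d29_1 D10409 (iv D7172) D7171
theorem F46382 : act 6 n10409 = n7174 := d41_1 D10409 (iv D7174) (iv F32651)
def n10410 : Q := act 1 n7173
theorem D10410 : act 1 n7173 = n10410 := rfl
theorem F46383 : act 3 n10410 = n10410 := d10_2 F32659 D10410 (iv D10410)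
theorem F46384 : act 5 n10410 = n10410 := d12_2 F32660 D10410 (iv D10410)
theorem F46385 : act 8 n10410 = n10410 := d15_2 F32661 D10410 (iv D10410)
def n10411 : Q := act 9 n7173
theorem D10411 : act 9 n7173 = n10411 := rfl
theorem F46386 : act 0 n10411 = n10411 := d8_1 D10411 (iv D10411) F32658
theorem F46387 : act 2 n10411 = n7174 := d23_1 D10411 (iv D7174) D7173
theorem F46388 : act 3 n10411 = n10411 := d29_1 D10411 (iv D10411) F32659
theorem F46389 : act 5 n10411 = n10411 := d38_1 D10411 (iv D10411) F32660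
def n10412 : Q := act 8 n7174
theorem D10412 : act 8 n7174 = n10412 := rfl
theorem F46390 : act 0 n10412 = n10412 := d7_1 D10412 (iv D10412) F32662
theorem F46391 : act 3 n10412 = n10412 := d28_1 D10412 (iv D10412) F32663 F23082 (iv F32663)
theorem F46392 : act 5 n10412 = n10412 := d37_1 D10412 (iv D10412) F32664
theorem F46393 : act 9 n10412 = n10412 := d44_2 D7174 D10412 (iv D10412) (iv D7174) F23077
def n10422 : Q := act 5 n7181
theorem D10422 : act 5 n7181 = n10422 := rfl
theorem F46440 : act 0 n10422 = n7196 := d4_1 D10422 (iv D7196) (iv F32697)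
theorem F46441 : act 2 n10422 = n7189 := d19_1 D10422 (iv D7189) (iv F32698)
theorem F46442 : act 3 n10422 = n10422 := d25_1 D10422 (iv D10422) F32699
theorem F46443 : act 6 n10422 = n10422 := d35_2 D7181 D10422 (iv D10422) (iv D7181) F23106
theorem F46444 : act 9 n10422 = n10422 := d38_2 F32701 D10422 (iv D10422)
def n10423 : Q := act 7 n7181
theorem D10423 : act 7 n7181 = n10423 := rfl
theorem F46445 : act 0 n10423 = n7197 := d6_1 D10423 (iv D7197) (iv F32697)
theorem F46446 : act 2 n10423 = n7190 := d21_1 D10423 (iv D7190) (iv F32698)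
theorem F46447 : act 3 n10423 = n10423 := d27_1 D10423 (iv D10423) F32699
theorem F46448 : act 4 n10423 = n7183 := d32_1 D10423 (iv D7183) (iv F32700)
theorem F46449 : act 6 n10423 = n10423 := d39_1 D10423 (iv D10423) (iv D7181) F23107 D7181
theorem F46450 : act 9 n10423 = n10423 := d43_2 F32701 D10423 (iv D10423)
def n10424 : Q := act 8 n7181
theorem D10424 : act 8 n7181 = n10424 := rfl
theorem F46451 : act 0 n10424 = n7198 := d7_1 D10424 (iv D7198) (iv F32697)
theorem F46452 : act 2 n10424 = n7191 := d22_1 D10424 (iv D7191) (iv F32698)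
theorem F46453 : act 4 n10424 = n7184 := d33_1 D10424 (iv D7184) (iv F32700)
theorem F46454 : act 6 n10424 = n7182 := d40_1 D10424 (iv D7182) D7181
def n10425 : Q := act 3 n7182
theorem D10425 : act 3 n7182 = n10425 := rfl
theorem F46455 : act 0 n10425 = n7199 := d2_1 D10425 (iv D7199) (iv F32702)
theorem F46456 : act 5 n10425 = n10425 := d25_2 F32705 D10425 (iv D10425)
theorem F46457 : act 7 n10425 = n10425 := d27_2 F32706 D10425 (iv D10425)
theorem F46458 : act 8 n10425 = n10425 := d28_2 D7182 D10425 (iv D10425) (iv D7182) F23105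
def n10426 : Q := act 9 n7182
theorem D10426 : act 9 n7182 = n10426 := rfl
theorem F46459 : act 0 n10426 = n7200 := d8_1 D10426 (iv D7200) (iv F32702)
theorem F46460 : act 2 n10426 = n7193 := d23_1 D10426 (iv D7193) (iv F32703)
theorem F46461 : act 4 n10426 = n7186 := d34_1 D10426 (iv D7186) (iv F32704)
theorem F46462 : act 5 n10426 = n10426 := d38_1 D10426 (iv D10426) F32705
theorem F46463 : act 7 n10426 = n10426 := d43_1 D10426 (iv D10426) F32706
theorem F46464 : act 8 n10426 = n10426 := d44_1 D10426 (iv D10426) (iv D7182) F23108 D7182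
def n10427 : Q := act 8 n7183
theorem D10427 : act 8 n7183 = n10427 := rfl
theorem F46465 : act 0 n10427 = n7201 := d7_1 D10427 (iv D7201) (iv F32707)
theorem F46466 : act 2 n10427 = n7194 := d22_1 D10427 (iv D7194) (iv F32708)
theorem F46467 : act 6 n10427 = n10427 := d40_1 D10427 (iv D10427) F32710
theorem F46468 : act 7 n10427 = n7184 := d42_1 D10427 (iv D7184) D7183
def n10428 : Q := act 3 n7184
theorem D10428 : act 3 n7184 = n10428 := rfl
theorem F46471 : act 8 n10428 = n7899 := d28_2 D7184 D10428 (iv D7899) (iv D5455) (iv F23111)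
def n10429 : Q := act 9 n7184
theorem D10429 : act 9 n7184 = n10429 := rfl
theorem F46472 : act 0 n10429 = n7203 := d8_1 D10429 (iv D7203) (iv F32712)
theorem F46473 : act 2 n10429 = n7195 := d23_1 D10429 (iv D7195) (iv F32713)
theorem F46474 : act 6 n10429 = n7186 := d41_1 D10429 (iv D7186) (iv F32714)
theorem F46475 : act 8 n10429 = n10429 := d44_1 D10429 (iv D10429) (iv D7184) F23112 D7184
def n10430 : Q := act 4 n7185
theorem D10430 : act 4 n7185 = n10430 := rfl
theorem F46478 : act 8 n10430 = n7901 := d33_2 (iv F32718) D10430 (iv D7901)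
def n10431 : Q := act 9 n7185
theorem D10431 : act 9 n7185 = n10431 := rfl
theorem F46480 : act 3 n10431 = n7186 := d29_1 D10431 (iv D7186) D7185
def n10434 : Q := act 8 n7188
theorem D10434 : act 8 n7188 = n10434 := rfl
theorem F46494 : act 9 n10434 = n7905 := d44_2 D7188 D10434 (iv D7905) (iv D5459) (iv F23119)
def n10435 : Q := act 7 n7189
theorem D10435 : act 7 n7189 = n10435 := rfl
theorem F46495 : act 0 n10435 = n7209 := d6_1 D10435 (iv D7209) (iv F32731)
theorem F46496 : act 1 n10435 = n10435 := d14_1 D10435 (iv D10435) F32732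
theorem F46497 : act 3 n10435 = n7228 := d27_1 D10435 (iv D7228) (iv F32733)
theorem F46498 : act 5 n10435 = n7190 := d36_1 D10435 (iv D7190) D7189
theorem F46499 : act 9 n10435 = n10435 := d43_2 F32735 D10435 (iv D10435)
def n10436 : Q := act 8 n7189
theorem D10436 : act 8 n7189 = n10436 := rfl
theorem F46500 : act 0 n10436 = n7210 := d7_1 D10436 (iv D7210) (iv F32731)
theorem F46501 : act 1 n10436 = n10436 := d15_1 D10436 (iv D10436) F32732
theorem F46502 : act 5 n10436 = n7191 := d37_1 D10436 (iv D7191) D7189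
theorem F46503 : act 6 n10436 = n10436 := d40_1 D10436 (iv D10436) F32734
def n10437 : Q := act 8 n7190
theorem D10437 : act 8 n7190 = n10437 := rfl
theorem F46504 : act 0 n10437 = n7211 := d7_1 D10437 (iv D7211) (iv F32736)
theorem F46505 : act 1 n10437 = n10437 := d15_1 D10437 (iv D10437) F32737
theorem F46506 : act 4 n10437 = n7194 := d33_1 D10437 (iv D7194) (iv F32739)
theorem F46507 : act 6 n10437 = n10437 := d40_1 D10437 (iv D10437) F32740
theorem F46508 : act 7 n10437 = n7191 := d42_1 D10437 (iv D7191) D7190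
def n10438 : Q := act 3 n7191
theorem D10438 : act 3 n7191 = n10438 := rfl
theorem F46509 : act 0 n10438 = n7212 := d2_1 D10438 (iv D7212) (iv F32742)
theorem F46510 : act 1 n10438 = n10438 := d10_1 D10438 (iv D10438) F32743
theorem F46511 : act 6 n10438 = n7192 := d26_2 (iv F32745) D10438 (iv D7192)
theorem F46512 : act 8 n10438 = n7231 := d28_2 D7191 D10438 (iv D7231) (iv D4992) (iv F23127)
def n10439 : Q := act 9 n7191
theorem D10439 : act 9 n7191 = n10439 := rfl
theorem F46513 : act 0 n10439 = n7213 := d8_1 D10439 (iv D7213) (iv F32742)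
theorem F46514 : act 1 n10439 = n10439 := d16_1 D10439 (iv D10439) F32743
theorem F46515 : act 4 n10439 = n7195 := d34_1 D10439 (iv D7195) (iv F32744)
theorem F46516 : act 6 n10439 = n7193 := d41_1 D10439 (iv D7193) (iv F32745)
theorem F46517 : act 8 n10439 = n10439 := d44_1 D10439 (iv D10439) (iv D7191) F23129 D7191
def n10440 : Q := act 2 n7192
theorem D10440 : act 2 n7192 = n10440 := rfl
theorem F46518 : act 0 n10440 = n7214 := d1_1 D10440 (iv D7214) (iv F32746)
theorem F46519 : act 5 n10440 = n10440 := d19_2 F32748 D10440 (iv D10440)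
theorem F46520 : act 7 n10440 = n10440 := d21_2 F32749 D10440 (iv D10440)
theorem F46521 : act 8 n10440 = n7233 := d22_2 (iv F32750) D10440 (iv D7233)
def n10441 : Q := act 9 n7192
theorem D10441 : act 9 n7192 = n10441 := rfl
theorem F46522 : act 0 n10441 = n7215 := d8_1 D10441 (iv D7215) (iv F32746)
theorem F46523 : act 1 n10441 = n10441 := d16_1 D10441 (iv D10441) F32747
theorem F46524 : act 3 n10441 = n7193 := d29_1 D10441 (iv D7193) D7192
theorem F46525 : act 5 n10441 = n10441 := d38_1 D10441 (iv D10441) F32748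
theorem F46526 : act 7 n10441 = n10441 := d43_1 D10441 (iv D10441) F32749
def n10442 : Q := act 9 n7194
theorem D10442 : act 9 n7194 = n10442 := rfl
theorem F46527 : act 0 n10442 = n7216 := d8_1 D10442 (iv D7216) (iv F32757)
theorem F46528 : act 1 n10442 = n10442 := d16_1 D10442 (iv D10442) F32758
theorem F46529 : act 6 n10442 = n10442 := d41_1 D10442 (iv D10442) F32759
theorem F46530 : act 7 n10442 = n7195 := d43_1 D10442 (iv D7195) (iv F32760)
theorem F46531 : act 8 n10442 = n10442 := d44_1 D10442 (iv D10442) (iv D7194) F23139 D7194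
def n10443 : Q := act 7 n7196
theorem D10443 : act 7 n7196 = n10443 := rfl
theorem F46532 : act 1 n10443 = n10443 := d14_1 D10443 (iv D10443) F32765
theorem F46533 : act 2 n10443 = n7209 := d21_1 D10443 (iv D7209) (iv F32766)
theorem F46534 : act 3 n10443 = n10443 := d27_1 D10443 (iv D10443) F32767
theorem F46535 : act 5 n10443 = n7197 := d36_1 D10443 (iv D7197) D7196
theorem F46536 : act 9 n10443 = n10443 := d43_2 F32769 D10443 (iv D10443)
def n10444 : Q := act 8 n7196
theorem D10444 : act 8 n7196 = n10444 := rfl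
theorem F46537 : act 1 n10444 = n10444 := d15_1 D10444 (iv D10444) F32765
theorem F46538 : act 2 n10444 = n7210 := d22_1 D10444 (iv D7210) (iv F32766)
theorem F46539 : act 5 n10444 = n7198 := d37_1 D10444 (iv D7198) D7196
theorem F46540 : act 6 n10444 = n10444 := d40_1 D10444 (iv D10444) F32768
def n10445 : Q := act 8 n7197
theorem D10445 : act 8 n7197 = n10445 := rfl
theorem F46541 : act 1 n10445 = n10445 := d15_1 D10445 (iv D10445) F32770
theorem F46542 : act 2 n10445 = n7211 := d22_1 D10445 (iv D7211) (iv F32771)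
theorem F46543 : act 4 n10445 = n7201 := d33_1 D10445 (iv D7201) (iv F32773)
theorem F46544 : act 6 n10445 = n10445 := d40_1 D10445 (iv D10445) F32774
theorem F46545 : act 7 n10445 = n7198 := d42_1 D10445 (iv D7198) D7197
def n10446 : Q := act 3 n7198
theorem D10446 : act 3 n7198 = n10446 := rfl
theorem F46546 : act 1 n10446 = n10446 := d10_1 D10446 (iv D10446) F32776
theorem F46547 : act 6 n10446 = n7199 := d26_2 (iv F32779) D10446 (iv D7199)
theorem F46548 : act 8 n10446 = n10446 := d28_2 D7198 D10446 (iv D10446) (iv D7198) F23150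
def n10447 : Q := act 9 n7198
theorem D10447 : act 9 n7198 = n10447 := rfl
theorem F46549 : act 1 n10447 = n10447 := d16_1 D10447 (iv D10447) F32776
theorem F46550 : act 2 n10447 = n7213 := d23_1 D10447 (iv D7213) (iv F32777)
theorem F46551 : act 4 n10447 = n7203 := d34_1 D10447 (iv D7203) (iv F32778)
theorem F46552 : act 6 n10447 = n7200 := d41_1 D10447 (iv D7200) (iv F32779)
theorem F46553 : act 8 n10447 = n10447 := d44_1 D10447 (iv D10447) (iv D7198) F23152 D7198
def n10448 : Q := act 2 n7199
theorem D10448 : act 2 n7199 = n10448 := rfl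
theorem F46554 : act 3 n10448 = n7214 := d17_2 D7199 D10448 (iv D7214) (iv D4978) (iv F23154)
theorem F46555 : act 5 n10448 = n10448 := d19_2 F32781 D10448 (iv D10448)
theorem F46556 : act 7 n10448 = n10448 := d21_2 F32782 D10448 (iv D10448)
theorem F46557 : act 8 n10448 = n10448 := d22_2 F32783 D10448 (iv D10448)
def n10449 : Q := act 4 n7199
theorem D10449 : act 4 n7199 = n10449 := rfl
theorem F46558 : act 1 n10449 = n10449 := d11_1 D10449 (iv D10449) F32780
theorem F46559 : act 3 n10449 = n7204 := d24_1 D10449 (iv D7204) (iv D4971) (iv F23155) D7199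
theorem F46560 : act 7 n10449 = n10449 := d32_2 F32782 D10449 (iv D10449)
theorem F46561 : act 8 n10449 = n10449 := d33_2 F32783 D10449 (iv D10449)
def n10450 : Q := act 9 n7199
theorem D10450 : act 9 n7199 = n10450 := rfl
theorem F46562 : act 1 n10450 = n10450 := d16_1 D10450 (iv D10450) F32780
theorem F46563 : act 3 n10450 = n7200 := d29_1 D10450 (iv D7200) D7199
theorem F46564 : act 5 n10450 = n10450 := d38_1 D10450 (iv D10450) F32781
theorem F46565 : act 7 n10450 = n10450 := d43_1 D10450 (iv D10450) F32782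
def n10451 : Q := act 3 n7201
theorem D10451 : act 3 n7201 = n10451 := rfl
theorem F46566 : act 1 n10451 = n10451 := d10_1 D10451 (iv D10451) F32790
theorem F46567 : act 6 n10451 = n10451 := d26_2 F32792 D10451 (iv D10451)
theorem F46568 : act 7 n10451 = n7202 := d27_2 (iv F32793) D10451 (iv D7202)
theorem F46569 : act 8 n10451 = n7907 := d28_2 D7201 D10451 (iv D7907) (iv D5462) (iv F23160)
def n10452 : Q := act 9 n7201
theorem D10452 : act 9 n7201 = n10452 := rfl
theorem F46570 : act 1 n10452 = n10452 := d16_1 D10452 (iv D10452) F32790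
theorem F46571 : act 2 n10452 = n7216 := d23_1 D10452 (iv D7216) (iv F32791)
theorem F46572 : act 6 n10452 = n10452 := d41_1 D10452 (iv D10452) F32792
theorem F46573 : act 7 n10452 = n7203 := d43_1 D10452 (iv D7203) (iv F32793)
theorem F46574 : act 8 n10452 = n10452 := d44_1 D10452 (iv D10452) (iv D7201) F23162 D7201
def n10453 : Q := act 4 n7202
theorem D10453 : act 4 n7202 = n10453 := rfl
theorem F46575 : act 1 n10453 = n10453 := d11_1 D10453 (iv D10453) F32794
theorem F46576 : act 6 n10453 = n7204 := d31_2 (iv F32795) D10453 (iv D7204)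
theorem F46577 : act 8 n10453 = n7909 := d33_2 (iv F32796) D10453 (iv D7909)
def n10454 : Q := act 9 n7202
theorem D10454 : act 9 n7202 = n10454 := rfl
theorem F46578 : act 1 n10454 = n10454 := d16_1 D10454 (iv D10454) F32794
theorem F46579 : act 3 n10454 = n7203 := d29_1 D10454 (iv D7203) D7202
theorem F46580 : act 6 n10454 = n7205 := d41_1 D10454 (iv D7205) (iv F32795)
def n10455 : Q := act 5 n7204
theorem D10455 : act 5 n7204 = n10455 := rfl
theorem F46581 : act 1 n10455 = n10455 := d12_1 D10455 (iv D10455) F32801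
theorem F46582 : act 4 n10455 = n7206 := d30_1 D10455 (iv D7206) (iv D4973) (iv F23167) D7204
theorem F46583 : act 7 n10455 = n10455 := d36_2 F32802 D10455 (iv D10455)
theorem F46584 : act 8 n10455 = n7911 := d37_2 (iv F32803) D10455 (iv D7911)
def n10456 : Q := act 9 n7204
theorem D10456 : act 9 n7204 = n10456 := rfl
theorem F46585 : act 1 n10456 = n10456 := d16_1 D10456 (iv D10456) F32801
theorem F46586 : act 4 n10456 = n7205 := d34_1 D10456 (iv D7205) D7204
theorem F46587 : act 7 n10456 = n10456 := d43_1 D10456 (iv D10456) F32802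
def n10458 : Q := act 6 n7206
theorem D10458 : act 6 n7206 = n10458 := rfl
theorem F46593 : act 1 n10458 = n10458 := d13_1 D10458 (iv D10458) F32808
theorem F46594 : act 3 n10458 = n10458 := d26_1 D10458 (iv D10458) F32809
theorem F46595 : act 8 n10458 = n7914 := d40_2 (iv F32811) D10458 (iv D7914)
def n10459 : Q := act 9 n7206
theorem D10459 : act 9 n7206 = n10459 := rfl
theorem F46596 : act 1 n10459 = n10459 := d16_1 D10459 (iv D10459) F32808
theorem F46597 : act 3 n10459 = n10459 := d29_1 D10459 (iv D10459) F32809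
theorem F46598 : act 5 n10459 = n7207 := d38_1 D10459 (iv D7207) D7206
theorem F46599 : act 7 n10459 = n10459 := d43_1 D10459 (iv D10459) F32810
def n10461 : Q := act 6 n7209
theorem D10461 : act 6 n7209 = n10461 := rfl
theorem F46604 : act 1 n10461 = n7217 := d13_1 D10461 (iv D7217) (iv F32820)
theorem F46605 : act 3 n10461 = n7236 := d26_1 D10461 (iv D7236) (iv F32821)
theorem F46606 : act 5 n10461 = n10461 := d35_1 D10461 (iv D10461) F32822 F23189 (iv F32822)
theorem F46607 : act 7 n10461 = n10461 := d39_2 D7209 D10461 (iv D10461) (iv D7209) F23184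
theorem F46608 : act 9 n10461 = n10461 := d41_2 F32823 D10461 (iv D10461)
def n10462 : Q := act 8 n7209
theorem D10462 : act 8 n7209 = n10462 := rfl
theorem F46609 : act 1 n10462 = n7218 := d15_1 D10462 (iv D7218) (iv F32820)
theorem F46610 : act 5 n10462 = n7211 := d37_1 D10462 (iv D7211) (iv F32822)
theorem F46611 : act 7 n10462 = n7210 := d42_1 D10462 (iv D7210) D7209
def n10463 : Q := act 3 n7210
theorem D10463 : act 3 n7210 = n10463 := rfl
theorem F46612 : act 1 n10463 = n7219 := d10_1 D10463 (iv D7219) (iv F32824)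
theorem F46613 : act 5 n10463 = n7212 := d25_2 (iv F32825) D10463 (iv D7212)
theorem F46614 : act 6 n10463 = n10463 := d26_2 F32826 D10463 (iv D10463)
theorem F46615 : act 8 n10463 = n7238 := d28_2 D7210 D10463 (iv D7238) (iv D4998) (iv F23183)
def n10464 : Q := act 9 n7210
theorem D10464 : act 9 n7210 = n10464 := rfl
theorem F46616 : act 1 n10464 = n7220 := d16_1 D10464 (iv D7220) (iv F32824)
theorem F46617 : act 5 n10464 = n7213 := d38_1 D10464 (iv D7213) (iv F32825)
theorem F46618 : act 6 n10464 = n10464 := d41_1 D10464 (iv D10464) F32826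
theorem F46619 : act 8 n10464 = n10464 := d44_1 D10464 (iv D10464) (iv D7210) F23185 D7210
def n10465 : Q := act 3 n7211
theorem D10465 : act 3 n7211 = n10465 := rfl
theorem F46620 : act 1 n10465 = n7221 := d10_1 D10465 (iv D7221) (iv F32827)
theorem F46621 : act 6 n10465 = n10465 := d26_2 F32829 D10465 (iv D10465)
theorem F46622 : act 7 n10465 = n7212 := d27_2 (iv F32830) D10465 (iv D7212)
theorem F46623 : act 8 n10465 = n7240 := d28_2 D7211 D10465 (iv D7240) (iv D4999) (iv F23187)
def n10466 : Q := act 9 n7211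
theorem D10466 : act 9 n7211 = n10466 := rfl
theorem F46624 : act 1 n10466 = n7222 := d16_1 D10466 (iv D7222) (iv F32827)
theorem F46625 : act 4 n10466 = n7216 := d34_1 D10466 (iv D7216) (iv F32828)
theorem F46626 : act 6 n10466 = n10466 := d41_1 D10466 (iv D10466) F32829
theorem F46627 : act 7 n10466 = n7213 := d43_1 D10466 (iv D7213) (iv F32830)
theorem F46628 : act 8 n10466 = n10466 := d44_1 D10466 (iv D10466) (iv D7211) F23190 D7211
def n10467 : Q := act 2 n7212
theorem D10467 : act 2 n7212 = n10467 := rfl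
theorem F46629 : act 6 n10467 = n7214 := d20_2 (iv F32832) D10467 (iv D7214)
theorem F46630 : act 8 n10467 = n7242 := d22_2 (iv F32833) D10467 (iv D7242)
def n10468 : Q := act 9 n7212
theorem D10468 : act 9 n7212 = n10468 := rfl
theorem F46631 : act 1 n10468 = n7224 := d16_1 D10468 (iv D7224) (iv F32831)
theorem F46632 : act 3 n10468 = n7213 := d29_1 D10468 (iv D7213) D7212
theorem F46633 : act 6 n10468 = n7215 := d41_1 D10468 (iv D7215) (iv F32832)
def n10469 : Q := act 1 n7214
theorem D10469 : act 1 n7214 = n10469 := rfl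
theorem F46634 : act 2 n10469 = n7225 := d9_2 D7214 D10469 (iv D7225) (iv D4987) (iv F23194)
theorem F46635 : act 5 n10469 = n10469 := d12_2 F32838 D10469 (iv D10469)
theorem F46636 : act 7 n10469 = n10469 := d14_2 F32839 D10469 (iv D10469)
theorem F46637 : act 8 n10469 = n7244 := d15_2 (iv F32840) D10469 (iv D7244)
def n10470 : Q := act 9 n7214
theorem D10470 : act 9 n7214 = n10470 := rfl
theorem F46638 : act 2 n10470 = n7215 := d23_1 D10470 (iv D7215) D7214
theorem F46639 : act 5 n10470 = n10470 := d38_1 D10470 (iv D10470) F32838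
theorem F46640 : act 7 n10470 = n10470 := d43_1 D10470 (iv D10470) F32839
def n10471 : Q := act 8 n7215
theorem D10471 : act 8 n7215 = n10471 := rfl
theorem F46641 : act 1 n10471 = n7227 := d15_1 D10471 (iv D7227) (iv F32841)
theorem F46642 : act 3 n10471 = n10471 := d28_1 D10471 (iv D10471) F32842 F23202 (iv F32842)
theorem F46643 : act 5 n10471 = n10471 := d37_1 D10471 (iv D10471) F32843
theorem F46644 : act 7 n10471 = n10471 := d42_1 D10471 (iv D10471) F32844
theorem F46645 : act 9 n10471 = n7246 := d44_2 D7215 D10471 (iv D7246) (iv D5003) (iv F23197)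
def n10472 : Q := act 8 n7217
theorem D10472 : act 8 n7217 = n10472 := rfl
theorem F46646 : act 0 n10472 = n10472 := d7_1 D10472 (iv D10472) F32849
theorem F46647 : act 2 n10472 = n10472 := d22_1 D10472 (iv D10472) F32850
theorem F46648 : act 5 n10472 = n10472 := d37_1 D10472 (iv D10472) F32852
theorem F46649 : act 6 n10472 = n7218 := d40_1 D10472 (iv D7218) D7217
theorem F46650 : act 7 n10472 = n10472 := d42_1 D10472 (iv D10472) F32853
def n10473 : Q := act 3 n7218
theorem D10473 : act 3 n7218 = n10473 := rfl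
theorem F46651 : act 0 n10473 = n10473 := d2_1 D10473 (iv D10473) F32855
theorem F46652 : act 5 n10473 = n7221 := d25_2 (iv F32857) D10473 (iv D7221)
theorem F46653 : act 7 n10473 = n7219 := d27_2 (iv F32858) D10473 (iv D7219)
theorem F46654 : act 8 n10473 = n7248 := d28_2 D7218 D10473 (iv D7248) (iv D5006) (iv F23211)
def n10474 : Q := act 9 n7218
theorem D10474 : act 9 n7218 = n10474 := rfl
theorem F46655 : act 0 n10474 = n10474 := d8_1 D10474 (iv D10474) F32855
theorem F46656 : act 2 n10474 = n10474 := d23_1 D10474 (iv D10474) F32856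
theorem F46657 : act 5 n10474 = n7222 := d38_1 D10474 (iv D7222) (iv F32857)
theorem F46658 : act 7 n10474 = n7220 := d43_1 D10474 (iv D7220) (iv F32858)
theorem F46659 : act 8 n10474 = n10474 := d44_1 D10474 (iv D10474) (iv D7218) F23213 D7218
def n10475 : Q := act 2 n7219
theorem D10475 : act 2 n7219 = n10475 := rfl
theorem F46660 : act 0 n10475 = n10475 := d1_1 D10475 (iv D10475) F32859
theorem F46661 : act 3 n10475 = n10475 := d17_2 D7219 D10475 (iv D10475) (iv D7219) F23215
theorem F46662 : act 5 n10475 = n7223 := d19_2 (iv F32860) D10475 (iv D7223)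
theorem F46663 : act 6 n10475 = n10475 := d20_2 F32861 D10475 (iv D10475)
theorem F46664 : act 8 n10475 = n7250 := d22_2 (iv F32862) D10475 (iv D7250)
def n10476 : Q := act 4 n7219
theorem D10476 : act 4 n7219 = n10476 := rfl
theorem F46665 : act 0 n10476 = n10476 := d3_1 D10476 (iv D10476) F32859
theorem F46666 : act 6 n10476 = n10476 := d31_2 F32861 D10476 (iv D10476)
theorem F46667 : act 8 n10476 = n7251 := d33_2 (iv F32862) D10476 (iv D7251)
def n10477 : Q := act 9 n7219
theorem D10477 : act 9 n7219 = n10477 := rfl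
theorem F46668 : act 0 n10477 = n10477 := d8_1 D10477 (iv D10477) F32859
theorem F46669 : act 3 n10477 = n7220 := d29_1 D10477 (iv D7220) D7219
theorem F46670 : act 5 n10477 = n7224 := d38_1 D10477 (iv D7224) (iv F32860)
theorem F46671 : act 6 n10477 = n10477 := d41_1 D10477 (iv D10477) F32861
def n10478 : Q := act 2 n7221
theorem D10478 : act 2 n7221 = n10478 := rfl
theorem F46672 : act 0 n10478 = n10478 := d1_1 D10478 (iv D10478) F32868
theorem F46673 : act 3 n10478 = n10478 := d17_2 D7221 D10478 (iv D10478) (iv D7221) F23219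
theorem F46674 : act 6 n10478 = n10478 := d20_2 F32869 D10478 (iv D10478)
theorem F46675 : act 7 n10478 = n7223 := d21_2 (iv F32870) D10478 (iv D7223)
theorem F46676 : act 8 n10478 = n7253 := d22_2 (iv F32871) D10478 (iv D7253)
def n10479 : Q := act 9 n7221
theorem D10479 : act 9 n7221 = n10479 := rfl
theorem F46677 : act 0 n10479 = n10479 := d8_1 D10479 (iv D10479) F32868
theorem F46678 : act 3 n10479 = n7222 := d29_1 D10479 (iv D7222) D7221
theorem F46679 : act 6 n10479 = n10479 := d41_1 D10479 (iv D10479) F32869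
theorem F46680 : act 7 n10479 = n7224 := d43_1 D10479 (iv D7224) (iv F32870)
def n10480 : Q := act 1 n7223
theorem D10480 : act 1 n7223 = n10480 := rfl
theorem F46681 : act 3 n10480 = n10480 := d10_2 F32879 D10480 (iv D10480)
theorem F46682 : act 6 n10480 = n7225 := d13_2 (iv F32880) D10480 (iv D7225)
theorem F46683 : act 8 n10480 = n7255 := d15_2 (iv F32881) D10480 (iv D7255)
def n10481 : Q := act 9 n7223
theorem D10481 : act 9 n7223 = n10481 := rfl
theorem F46684 : act 0 n10481 = n10481 := d8_1 D10481 (iv D10481) F32878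
theorem F46685 : act 2 n10481 = n7224 := d23_1 D10481 (iv D7224) D7223
theorem F46686 : act 3 n10481 = n10481 := d29_1 D10481 (iv D10481) F32879
theorem F46687 : act 6 n10481 = n7226 := d41_1 D10481 (iv D7226) (iv F32880)
def n10482 : Q := act 8 n7224
theorem D10482 : act 8 n7224 = n10482 := rfl
theorem F46688 : act 0 n10482 = n10482 := d7_1 D10482 (iv D10482) F32882
theorem F46689 : act 3 n10482 = n10482 := d28_1 D10482 (iv D10482) F32883 F23230 (iv F32883)
theorem F46690 : act 6 n10482 = n7227 := d40_1 D10482 (iv D7227) (iv F32884)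
theorem F46691 : act 9 n10482 = n7257 := d44_2 D7224 D10482 (iv D7257) (iv D5012) (iv F23225)
def n10483 : Q := act 0 n7225
theorem D10483 : act 0 n7225 = n10483 := rfl
theorem F46692 : act 1 n10483 = n10483 := d0_2 D7225 D10483 (iv D10483) (iv D7225) F23231
theorem F46693 : act 3 n10483 = n10483 := d2_2 F32885 D10483 (iv D10483)
theorem F46694 : act 5 n10483 = n10483 := d4_2 F32886 D10483 (iv D10483)
theorem F46695 : act 7 n10483 = n10483 := d6_2 F32887 D10483 (iv D10483)
theorem F46696 : act 8 n10483 = n7258 := d7_2 (iv F32888) D10483 (iv D7258)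
def n10484 : Q := act 9 n7225
theorem D10484 : act 9 n7225 = n10484 := rfl
theorem F46697 : act 1 n10484 = n7226 := d16_1 D10484 (iv D7226) D7225
theorem F46698 : act 3 n10484 = n10484 := d29_1 D10484 (iv D10484) F32885
theorem F46699 : act 5 n10484 = n10484 := d38_1 D10484 (iv D10484) F32886
theorem F46700 : act 7 n10484 = n10484 := d43_1 D10484 (iv D10484) F32887
def n10485 : Q := act 8 n7226
theorem D10485 : act 8 n7226 = n10485 := rfl
theorem F46701 : act 0 n10485 = n10485 := d7_1 D10485 (iv D10485) F32889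
theorem F46702 : act 2 n10485 = n7227 := d22_1 D10485 (iv D7227) (iv F32890)
theorem F46703 : act 5 n10485 = n10485 := d37_1 D10485 (iv D10485) F32892
theorem F46704 : act 7 n10485 = n10485 := d42_1 D10485 (iv D10485) F32893
theorem F46705 : act 9 n10485 = n7260 := d44_2 D7226 D10485 (iv D7260) (iv D5014) (iv F23235)
def n10486 : Q := act 6 n7228
theorem D10486 : act 6 n7228 = n10486 := rfl
theorem F46706 : act 0 n10486 = n7236 := d5_1 D10486 (iv D7236) (iv F32899)
theorem F46707 : act 1 n10486 = n10486 := d13_1 D10486 (iv D10486) F32900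
theorem F46708 : act 2 n10486 = n10486 := d20_1 D10486 (iv D10486) F32901
theorem F46709 : act 4 n10486 = n10486 := d31_1 D10486 (iv D10486) F32902
theorem F46710 : act 5 n10486 = n10486 := d35_1 D10486 (iv D10486) F32903 F23255 (iv F32903)
theorem F46711 : act 7 n10486 = n10486 := d39_2 D7228 D10486 (iv D10486) (iv D7228) F23249
theorem F46712 : act 9 n10486 = n10486 := d41_2 F32904 D10486 (iv D10486)
def n10487 : Q := act 8 n7228
theorem D10487 : act 8 n7228 = n10487 := rfl
theorem F46713 : act 0 n10487 = n7237 := d7_1 D10487 (iv D7237) (iv F32899)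
theorem F46714 : act 1 n10487 = n10487 := d15_1 D10487 (iv D10487) F32900
theorem F46715 : act 2 n10487 = n10487 := d22_1 D10487 (iv D10487) F32901
theorem F46716 : act 4 n10487 = n10487 := d33_1 D10487 (iv D10487) F32902
theorem F46717 : act 5 n10487 = n7230 := d37_1 D10487 (iv D7230) (iv F32903)
theorem F46718 : act 7 n10487 = n7229 := d42_1 D10487 (iv D7229) D7228
def n10488 : Q := act 3 n7229
theorem D10488 : act 3 n7229 = n10488 := rfl
theorem F46719 : act 0 n10488 = n7238 := d2_1 D10488 (iv D7238) (iv F32905)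
theorem F46720 : act 1 n10488 = n10488 := d10_1 D10488 (iv D10488) F32906
theorem F46721 : act 5 n10488 = n7231 := d25_2 (iv F32909) D10488 (iv D7231)
theorem F46722 : act 6 n10488 = n10488 := d26_2 F32910 D10488 (iv D10488)
def n10489 : Q := act 9 n7229
theorem D10489 : act 9 n7229 = n10489 := rfl
theorem F46723 : act 0 n10489 = n7239 := d8_1 D10489 (iv D7239) (iv F32905)
theorem F46724 : act 1 n10489 = n10489 := d16_1 D10489 (iv D10489) F32906
theorem F46725 : act 2 n10489 = n10489 := d23_1 D10489 (iv D10489) F32907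
theorem F46726 : act 4 n10489 = n10489 := d34_1 D10489 (iv D10489) F32908
theorem F46727 : act 5 n10489 = n7232 := d38_1 D10489 (iv D7232) (iv F32909)
theorem F46728 : act 6 n10489 = n10489 := d41_1 D10489 (iv D10489) F32910
theorem F46729 : act 8 n10489 = n10489 := d44_1 D10489 (iv D10489) (iv D7229) F23250 D7229
def n10490 : Q := act 3 n7230
theorem D10490 : act 3 n7230 = n10490 := rfl
theorem F46730 : act 0 n10490 = n7240 := d2_1 D10490 (iv D7240) (iv F32911)
theorem F46731 : act 1 n10490 = n10490 := d10_1 D10490 (iv D10490) F32912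
theorem F46732 : act 6 n10490 = n10490 := d26_2 F32915 D10490 (iv D10490)
theorem F46733 : act 7 n10490 = n7231 := d27_2 (iv F32916) D10490 (iv D7231)
def n10491 : Q := act 9 n7230
theorem D10491 : act 9 n7230 = n10491 := rfl
theorem F46734 : act 0 n10491 = n7241 := d8_1 D10491 (iv D7241) (iv F32911)
theorem F46735 : act 1 n10491 = n10491 := d16_1 D10491 (iv D10491) F32912
theorem F46736 : act 2 n10491 = n10491 := d23_1 D10491 (iv D10491) F32913
theorem F46737 : act 4 n10491 = n7235 := d34_1 D10491 (iv D7235) (iv F32914)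
theorem F46738 : act 6 n10491 = n10491 := d41_1 D10491 (iv D10491) F32915
theorem F46739 : act 7 n10491 = n7232 := d43_1 D10491 (iv D7232) (iv F32916)
theorem F46740 : act 8 n10491 = n10491 := d44_1 D10491 (iv D10491) (iv D7230) F23256 D7230
def n10492 : Q := act 2 n7231
theorem D10492 : act 2 n7231 = n10492 := rfl
theorem F46741 : act 0 n10492 = n7242 := d1_1 D10492 (iv D7242) (iv F32917)
theorem F46742 : act 3 n10492 = n10492 := d17_2 D7231 D10492 (iv D10492) (iv D7231) F23259
theorem F46743 : act 6 n10492 = n7233 := d20_2 (iv F32919) D10492 (iv D7233)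
def n10493 : Q := act 9 n7231
theorem D10493 : act 9 n7231 = n10493 := rfl
theorem F46744 : act 0 n10493 = n7243 := d8_1 D10493 (iv D7243) (iv F32917)
theorem F46745 : act 1 n10493 = n10493 := d16_1 D10493 (iv D10493) F32918
theorem F46746 : act 3 n10493 = n7232 := d29_1 D10493 (iv D7232) D7231
theorem F46747 : act 6 n10493 = n7234 := d41_1 D10493 (iv D7234) (iv F32919)
def n10494 : Q := act 1 n7233
theorem D10494 : act 1 n7233 = n10494 := rfl
theorem F46748 : act 2 n10494 = n10494 := d9_2 D7233 D10494 (iv D10494) (iv D7233) F23263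
theorem F46749 : act 3 n10494 = n10494 := d10_2 F32927 D10494 (iv D10494)
theorem F46750 : act 5 n10494 = n10494 := d12_2 F32928 D10494 (iv D10494)
theorem F46751 : act 7 n10494 = n10494 := d14_2 F32929 D10494 (iv D10494)
def n10495 : Q := act 9 n7233
theorem D10495 : act 9 n7233 = n10495 := rfl
theorem F46752 : act 0 n10495 = n7245 := d8_1 D10495 (iv D7245) (iv F32926)
theorem F46753 : act 2 n10495 = n7234 := d23_1 D10495 (iv D7234) D7233
theorem F46754 : act 3 n10495 = n10495 := d29_1 D10495 (iv D10495) F32927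
theorem F46755 : act 5 n10495 = n10495 := d38_1 D10495 (iv D10495) F32928
theorem F46756 : act 7 n10495 = n10495 := d43_1 D10495 (iv D10495) F32929
def n10496 : Q := act 8 n7234
theorem D10496 : act 8 n7234 = n10496 := rfl
theorem F46757 : act 0 n10496 = n7246 := d7_1 D10496 (iv D7246) (iv F32930)
theorem F46758 : act 1 n10496 = n10496 := d15_1 D10496 (iv D10496) F32931
theorem F46759 : act 3 n10496 = n10496 := d28_1 D10496 (iv D10496) F32932 F23272 (iv F32932)
theorem F46760 : act 5 n10496 = n10496 := d37_1 D10496 (iv D10496) F32933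
theorem F46761 : act 7 n10496 = n10496 := d42_1 D10496 (iv D10496) F32934
def n10497 : Q := act 8 n7236
theorem D10497 : act 8 n7236 = n10497 := rfl
theorem F46766 : act 6 n10497 = n7237 := d40_1 D10497 (iv D7237) D7236
def n10498 : Q := act 3 n7237
theorem D10498 : act 3 n7237 = n10498 := rfl
theorem F46768 : act 1 n10498 = n7248 := d10_1 D10498 (iv D7248) (iv F32948)
theorem F46769 : act 5 n10498 = n7240 := d25_2 (iv F32951) D10498 (iv D7240)
theorem F46770 : act 7 n10498 = n7238 := d27_2 (iv F32952) D10498 (iv D7238)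
def n10499 : Q := act 9 n7237
theorem D10499 : act 9 n7237 = n10499 := rfl
theorem F46775 : act 7 n10499 = n7239 := d43_1 D10499 (iv D7239) (iv F32952)
def n10500 : Q := act 2 n7238
theorem D10500 : act 2 n7238 = n10500 := rfl
theorem F46777 : act 3 n10500 = n10500 := d17_2 D7238 D10500 (iv D10500) (iv D7238) F23291
theorem F46778 : act 5 n10500 = n7242 := d19_2 (iv F32954) D10500 (iv D7242)
theorem F46779 : act 6 n10500 = n10500 := d20_2 F32955 D10500 (iv D10500)
def n10501 : Q := act 4 n7238
theorem D10501 : act 4 n7238 = n10501 := rfl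
theorem F46780 : act 1 n10501 = n7251 := d11_1 D10501 (iv D7251) (iv F32953)
theorem F46781 : act 3 n10501 = n10501 := d24_1 D10501 (iv D10501) (iv D7238) F23292 D7238
theorem F46782 : act 6 n10501 = n10501 := d31_2 F32955 D10501 (iv D10501)
def n10502 : Q := act 9 n7238
theorem D10502 : act 9 n7238 = n10502 := rfl
theorem F46783 : act 1 n10502 = n7252 := d16_1 D10502 (iv D7252) (iv F32953)
theorem F46784 : act 3 n10502 = n7239 := d29_1 D10502 (iv D7239) D7238
theorem F46785 : act 5 n10502 = n7243 := d38_1 D10502 (iv D7243) (iv F32954)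
theorem F46786 : act 6 n10502 = n10502 := d41_1 D10502 (iv D10502) F32955
def n10503 : Q := act 2 n7240
theorem D10503 : act 2 n7240 = n10503 := rfl
theorem F46787 : act 3 n10503 = n10503 := d17_2 D7240 D10503 (iv D10503) (iv D7240) F23296
theorem F46788 : act 6 n10503 = n10503 := d20_2 F32963 D10503 (iv D10503)
theorem F46789 : act 7 n10503 = n7242 := d21_2 (iv F32964) D10503 (iv D7242)
def n10504 : Q := act 9 n7240
theorem D10504 : act 9 n7240 = n10504 := rfl
theorem F46790 : act 1 n10504 = n7254 := d16_1 D10504 (iv D7254) (iv F32962)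
theorem F46791 : act 3 n10504 = n7241 := d29_1 D10504 (iv D7241) D7240
theorem F46792 : act 6 n10504 = n10504 := d41_1 D10504 (iv D10504) F32963
theorem F46793 : act 7 n10504 = n7243 := d43_1 D10504 (iv D7243) (iv F32964)
def n10505 : Q := act 1 n7242
theorem D10505 : act 1 n7242 = n10505 := rfl
theorem F46794 : act 2 n10505 = n7255 := d9_2 D7242 D10505 (iv D7255) (iv D5011) (iv F23300)
theorem F46795 : act 3 n10505 = n10505 := d10_2 F32971 D10505 (iv D10505)
theorem F46796 : act 6 n10505 = n7244 := d13_2 (iv F32972) D10505 (iv D7244)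
def n10506 : Q := act 9 n7242
theorem D10506 : act 9 n7242 = n10506 := rfl
theorem F46797 : act 2 n10506 = n7243 := d23_1 D10506 (iv D7243) D7242
theorem F46798 : act 3 n10506 = n10506 := d29_1 D10506 (iv D10506) F32971
theorem F46799 : act 6 n10506 = n7245 := d41_1 D10506 (iv D7245) (iv F32972)
def n10507 : Q := act 8 n7243
theorem D10507 : act 8 n7243 = n10507 := rfl
theorem F46800 : act 1 n10507 = n7257 := d15_1 D10507 (iv D7257) (iv F32973)
theorem F46801 : act 3 n10507 = n10507 := d28_1 D10507 (iv D10507) F32974 F23306 (iv F32974)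
theorem F46802 : act 6 n10507 = n7246 := d40_1 D10507 (iv D7246) (iv F32975)
def n10508 : Q := act 0 n7244
theorem D10508 : act 0 n7244 = n10508 := rfl
theorem F46803 : act 2 n10508 = n7258 := d1_2 (iv F32976) D10508 (iv D7258)
theorem F46804 : act 3 n10508 = n10508 := d2_2 F32977 D10508 (iv D10508)
theorem F46805 : act 5 n10508 = n10508 := d4_2 F32978 D10508 (iv D10508)
theorem F46806 : act 7 n10508 = n10508 := d6_2 F32979 D10508 (iv D10508)
def n10509 : Q := act 9 n7244
theorem D10509 : act 9 n7244 = n10509 := rfl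
theorem F46807 : act 1 n10509 = n7245 := d16_1 D10509 (iv D7245) D7244
theorem F46808 : act 2 n10509 = n7259 := d23_1 D10509 (iv D7259) (iv F32976)
theorem F46809 : act 3 n10509 = n10509 := d29_1 D10509 (iv D10509) F32977
theorem F46810 : act 5 n10509 = n10509 := d38_1 D10509 (iv D10509) F32978
theorem F46811 : act 7 n10509 = n10509 := d43_1 D10509 (iv D10509) F32979
def n10510 : Q := act 8 n7245
theorem D10510 : act 8 n7245 = n10510 := rfl
theorem F46812 : act 2 n10510 = n7246 := d22_1 D10510 (iv D7246) (iv F32980)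
theorem F46813 : act 5 n10510 = n10510 := d37_1 D10510 (iv D10510) F32982
theorem F46814 : act 7 n10510 = n10510 := d42_1 D10510 (iv D10510) F32983
def n10511 : Q := act 3 n7247
theorem D10511 : act 3 n7247 = n10511 := rfl
theorem F46817 : act 6 n10511 = n7248 := d26_2 (iv F32992) D10511 (iv D7248)
def n10513 : Q := act 2 n7248
theorem D10513 : act 2 n7248 = n10513 := rfl
theorem F46827 : act 3 n10513 = n7263 := d17_2 D7248 D10513 (iv D7263) (iv D5017) (iv F23327)
theorem F46828 : act 5 n10513 = n7253 := d19_2 (iv F32995) D10513 (iv D7253)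
theorem F46829 : act 7 n10513 = n7250 := d21_2 (iv F32996) D10513 (iv D7250)
def n10514 : Q := act 4 n7248
theorem D10514 : act 4 n7248 = n10514 := rfl
theorem F46832 : act 7 n10514 = n7251 := d32_2 (iv F32996) D10514 (iv D7251)
def n10515 : Q := act 9 n7248
theorem D10515 : act 9 n7248 = n10515 := rfl
theorem F46836 : act 7 n10515 = n7252 := d43_1 D10515 (iv D7252) (iv F32996)
def n10516 : Q := act 1 n7250
theorem D10516 : act 1 n7250 = n10516 := rfl
theorem F46837 : act 3 n10516 = n7266 := d10_2 (iv F33004) D10516 (iv D7266)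
theorem F46838 : act 5 n10516 = n7255 := d12_2 (iv F33005) D10516 (iv D7255)
def n10517 : Q := act 4 n7250
theorem D10517 : act 4 n7250 = n10517 := rfl
theorem F46841 : act 2 n10517 = n7251 := d18_1 D10517 (iv D7251) D7250
def n10518 : Q := act 9 n7250
theorem D10518 : act 9 n7250 = n10518 := rfl
theorem F46844 : act 2 n10518 = n7252 := d23_1 D10518 (iv D7252) D7250
theorem F46845 : act 3 n10518 = n7268 := d29_1 D10518 (iv D7268) (iv F33004)
def n10519 : Q := act 9 n7251
theorem D10519 : act 9 n7251 = n10519 := rfl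
theorem F46850 : act 4 n10519 = n7252 := d34_1 D10519 (iv D7252) D7251
def n10520 : Q := act 8 n7252
theorem D10520 : act 8 n7252 = n10520 := rfl
def n10521 : Q := act 1 n7253
theorem D10521 : act 1 n7253 = n10521 := rfl
theorem F46856 : act 3 n10521 = n7271 := d10_2 (iv F33015) D10521 (iv D7271)
theorem F46858 : act 7 n10521 = n7255 := d14_2 (iv F33017) D10521 (iv D7255)
def n10523 : Q := act 8 n7254
theorem D10523 : act 8 n7254 = n10523 := rfl
theorem F46867 : act 7 n10523 = n7257 := d42_1 D10523 (iv D7257) (iv F33021)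
def n10524 : Q := act 0 n7255
theorem D10524 : act 0 n7255 = n10524 := rfl
theorem F46868 : act 1 n10524 = n10524 := d0_2 D7255 D10524 (iv D10524) (iv D7255) F23349
theorem F46869 : act 3 n10524 = n7274 := d2_2 (iv F33022) D10524 (iv D7274)
theorem F46870 : act 6 n10524 = n7258 := d5_2 (iv F33023) D10524 (iv D7258)
def n10525 : Q := act 9 n7255
theorem D10525 : act 9 n7255 = n10525 := rfl
theorem F46872 : act 3 n10525 = n7275 := d29_1 D10525 (iv D7275) (iv F33022)
theorem F46873 : act 6 n10525 = n7259 := d41_1 D10525 (iv D7259) (iv F33023)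
def n10526 : Q := act 8 n7256
theorem D10526 : act 8 n7256 = n10526 := rfl
theorem F46875 : act 2 n10526 = n7257 := d22_1 D10526 (iv D7257) (iv F33025)
def n10527 : Q := act 9 n7258
theorem D10527 : act 9 n7258 = n10527 := rfl
theorem F46877 : act 0 n10527 = n7259 := d8_1 D10527 (iv D7259) D7258
theorem F46878 : act 1 n10527 = n10527 := d16_1 D10527 (iv D10527) F33031
theorem F46879 : act 3 n10527 = n7277 := d29_1 D10527 (iv D7277) (iv F33032)
theorem F46880 : act 5 n10527 = n10527 := d38_1 D10527 (iv D10527) F33033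
theorem F46881 : act 7 n10527 = n10527 := d43_1 D10527 (iv D10527) F33034
def n10528 : Q := act 8 n7259
theorem D10528 : act 8 n7259 = n10528 := rfl
theorem F46882 : act 1 n10528 = n7260 := d15_1 D10528 (iv D7260) (iv F33035)
theorem F46883 : act 5 n10528 = n10528 := d37_1 D10528 (iv D10528) F33037
theorem F46884 : act 7 n10528 = n10528 := d42_1 D10528 (iv D10528) F33038
def n10529 : Q := act 3 n7260
theorem D10529 : act 3 n7260 = n10529 := rfl
def n10533 : Q := act 1 n7263
theorem D10533 : act 1 n7263 = n10533 := rfl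
theorem F46908 : act 5 n10533 = n7271 := d12_2 (iv F33057) D10533 (iv D7271)
theorem F46909 : act 7 n10533 = n7266 := d14_2 (iv F33058) D10533 (iv D7266)
def n10538 : Q := act 0 n7266
theorem D10538 : act 0 n7266 = n10538 := rfl
theorem F46934 : act 5 n10538 = n7274 := d4_2 (iv F33072) D10538 (iv D7274)
def n10540 : Q := act 9 n7266
theorem D10540 : act 9 n7266 = n10540 := rfl
theorem F46944 : act 5 n10540 = n7275 := d38_1 D10540 (iv D7275) (iv F33072)
def n10541 : Q := act 3 n7267
theorem D10541 : act 3 n7267 = n10541 := rfl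
def n10542 : Q := act 9 n7267
theorem D10542 : act 9 n7267 = n10542 := rfl
theorem F46951 : act 2 n10542 = n7269 := d23_1 D10542 (iv D7269) (iv F33076)
def n10545 : Q := act 0 n7271
theorem D10545 : act 0 n7271 = n10545 := rfl
theorem F46970 : act 7 n10545 = n7274 := d6_2 (iv F33099) D10545 (iv D7274)
def n10546 : Q := act 9 n7271
theorem D10546 : act 9 n7271 = n10546 := rfl
theorem F46976 : act 7 n10546 = n7275 := d43_1 D10546 (iv D7275) (iv F33099)
def n10548 : Q := act 9 n7274
theorem D10548 : act 9 n7274 = n10548 := rfl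
theorem F46987 : act 6 n10548 = n7277 := d41_1 D10548 (iv D7277) (iv F33116)
def n10549 : Q := act 8 n7275
theorem D10549 : act 8 n7275 = n10549 := rfl
theorem F46991 : act 6 n10549 = n7278 := d40_1 D10549 (iv D7278) (iv F33121)
def n10551 : Q := act 8 n7277
theorem D10551 : act 8 n7277 = n10551 := rfl
def n10552 : Q := act 3 n7278
theorem D10552 : act 3 n7278 = n10552 := rfl
theorem F47004 : act 1 n10552 = n7279 := d10_1 D10552 (iv D7279) (iv F33133)
def n10553 : Q := act 4 n7279
theorem D10553 : act 4 n7279 = n10553 := rfl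
def n10554 : Q := act 8 n7280
theorem D10554 : act 8 n7280 = n10554 := rfl
theorem F47013 : act 0 n10554 = n8018 := d7_1 D10554 (iv D8018) (iv F33144)
theorem F47014 : act 1 n10554 = n10554 := d15_1 D10554 (iv D10554) F33145
theorem F47015 : act 2 n10554 = n10554 := d22_1 D10554 (iv D10554) F33146
theorem F47016 : act 4 n10554 = n7281 := d33_1 D10554 (iv D7281) D7280
theorem F47017 : act 5 n10554 = n10554 := d37_1 D10554 (iv D10554) F33148
theorem F47018 : act 6 n10554 = n10554 := d40_1 D10554 (iv D10554) F33149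
theorem F47019 : act 7 n10554 = n10554 := d42_1 D10554 (iv D10554) F33150
def n10555 : Q := act 9 n7280
theorem D10555 : act 9 n7280 = n10555 := rfl
theorem F47020 : act 0 n10555 = n8019 := d8_1 D10555 (iv D8019) (iv F33144)
theorem F47021 : act 1 n10555 = n10555 := d16_1 D10555 (iv D10555) F33145
theorem F47022 : act 2 n10555 = n10555 := d23_1 D10555 (iv D10555) F33146
theorem F47023 : act 3 n10555 = n10555 := d29_1 D10555 (iv D10555) F33147
theorem F47024 : act 4 n10555 = n7282 := d34_1 D10555 (iv D7282) D7280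
theorem F47025 : act 5 n10555 = n10555 := d38_1 D10555 (iv D10555) F33148
theorem F47026 : act 6 n10555 = n10555 := d41_1 D10555 (iv D10555) F33149
theorem F47027 : act 7 n10555 = n10555 := d43_1 D10555 (iv D10555) F33150
def n10556 : Q := act 9 n7281
theorem D10556 : act 9 n7281 = n10556 := rfl
def n10557 : Q := act 8 n7282
theorem D10557 : act 8 n7282 = n10557 := rfl
def n10558 : Q := act 8 n7283
theorem D10558 : act 8 n7283 = n10558 := rfl
theorem F47047 : act 9 n10558 = n7284 := d44_2 D7283 D10558 (iv D7284) (iv D5032) D5031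
def n10559 : Q := act 3 n7284
theorem D10559 : act 3 n7284 = n10559 := rfl
theorem F47052 : act 8 n10559 = n7286 := d28_2 D7284 D10559 (iv D7286) (iv D5034) (iv F23457)
def n10560 : Q := act 3 n7285
theorem D10560 : act 3 n7285 = n10560 := rfl
theorem F47055 : act 5 n10560 = n7286 := d25_2 (iv F33182) D10560 (iv D7286)
def n10566 : Q := act 2 n7289
theorem D10566 : act 2 n7289 = n10566 := rfl
theorem F47090 : act 5 n10566 = n7290 := d19_2 (iv F33205) D10566 (iv D7290)
def n10567 : Q := act 4 n7289
theorem D10567 : act 4 n7289 = n10567 := rfl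
theorem F47095 : act 0 n10567 = n8031 := d3_1 D10567 (iv D8031) (iv F33204)
theorem F47096 : act 3 n10567 = n10567 := d24_1 D10567 (iv D10567) (iv D7289) F23483 D7289
theorem F47097 : act 6 n10567 = n10567 := d31_2 F33206 D10567 (iv D10567)
theorem F47098 : act 7 n10567 = n10567 := d32_2 F33207 D10567 (iv D10567)
theorem F47099 : act 8 n10567 = n10567 := d33_2 F33208 D10567 (iv D10567)
theorem F47100 : act 9 n10567 = n10567 := d34_2 F33209 D10567 (iv D10567)
def n10569 : Q := act 4 n7290
theorem D10569 : act 4 n7290 = n10569 := rfl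
theorem F47106 : act 2 n10569 = n7291 := d18_1 D10569 (iv D7291) D7290
theorem F47107 : act 6 n10569 = n7315 := d31_2 (iv F33211) D10569 (iv D7315)
def n10570 : Q := act 5 n7291
theorem D10570 : act 5 n7291 = n10570 := rfl
theorem F47111 : act 0 n10570 = n8034 := d4_1 D10570 (iv D8034) (iv F33215)
theorem F47112 : act 3 n10570 = n7294 := d25_1 D10570 (iv D7294) (iv F33216)
theorem F47113 : act 7 n10570 = n10570 := d36_2 F33218 D10570 (iv D10570)
theorem F47114 : act 8 n10570 = n10570 := d37_2 F33219 D10570 (iv D10570)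
theorem F47115 : act 9 n10570 = n10570 := d38_2 F33220 D10570 (iv D10570)
def n10571 : Q := act 0 n7292
theorem D10571 : act 0 n7292 = n10571 := rfl
theorem F47118 : act 6 n10571 = n7317 := d5_2 (iv F33222) D10571 (iv D7317)
theorem F47120 : act 8 n10571 = n7295 := d7_2 (iv F33224) D10571 (iv D7295)
def n10572 : Q := act 4 n7292
theorem D10572 : act 4 n7292 = n10572 := rfl
theorem F47122 : act 1 n10572 = n7293 := d11_1 D10572 (iv D7293) D7292
theorem F47123 : act 6 n10572 = n7318 := d31_2 (iv F33222) D10572 (iv D7318)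
theorem F47125 : act 8 n10572 = n7296 := d33_2 (iv F33224) D10572 (iv D7296)
def n10574 : Q := act 5 n7293
theorem D10574 : act 5 n7293 = n10574 := rfl
theorem F47132 : act 2 n10574 = n7294 := d19_1 D10574 (iv D7294) (iv F33227)
theorem F47135 : act 8 n10574 = n7298 := d37_2 (iv F33230) D10574 (iv D7298)
def n10575 : Q := act 6 n7294
theorem D10575 : act 6 n7294 = n10575 := rfl
theorem F47137 : act 0 n10575 = n8039 := d5_1 D10575 (iv D8039) (iv F33232)
theorem F47138 : act 4 n10575 = n10575 := d31_1 D10575 (iv D10575) F33233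
theorem F47139 : act 5 n10575 = n7321 := d35_1 D10575 (iv D7321) (iv D5057) (iv F23500) D7294
theorem F47140 : act 8 n10575 = n7299 := d40_2 (iv F33235) D10575 (iv D7299)
theorem F47141 : act 9 n10575 = n10575 := d41_2 F33236 D10575 (iv D10575)
def n10576 : Q := act 4 n7295
theorem D10576 : act 4 n7295 = n10576 := rfl
theorem F47142 : act 0 n10576 = n7296 := d3_1 D10576 (iv D7296) D7295
theorem F47146 : act 9 n10576 = n7300 := d34_2 (iv F33242) D10576 (iv D7300)
def n10577 : Q := act 3 n7296
theorem D10577 : act 3 n7296 = n10577 := rfl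
theorem F47147 : act 1 n10577 = n7297 := d10_1 D10577 (iv D7297) (iv F33243)
theorem F47148 : act 4 n10577 = n10577 := d24_2 D7296 D10577 (iv D10577) (iv D7296) F23504
theorem F47149 : act 6 n10577 = n7323 := d26_2 (iv F33244) D10577 (iv D7323)
theorem F47150 : act 7 n10577 = n10577 := d27_2 F33245 D10577 (iv D10577)
theorem F47151 : act 9 n10577 = n7301 := d29_2 (iv F33246) D10577 (iv D7301)
def n10578 : Q := act 5 n7296
theorem D10578 : act 5 n7296 = n10578 := rfl
theorem F47152 : act 1 n10578 = n7298 := d12_1 D10578 (iv D7298) (iv F33243)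
theorem F47153 : act 4 n10578 = n10578 := d30_1 D10578 (iv D10578) (iv D7296) F23505 D7296
theorem F47154 : act 7 n10578 = n10578 := d36_2 F33245 D10578 (iv D10578)
theorem F47155 : act 9 n10578 = n7302 := d38_2 (iv F33246) D10578 (iv D7302)
def n10580 : Q := act 8 n7297
theorem D10580 : act 8 n7297 = n10580 := rfl
theorem F47164 : act 6 n10580 = n7326 := d40_1 D10580 (iv D7326) (iv F33250)
def n10581 : Q := act 6 n7298
theorem D10581 : act 6 n7298 = n10581 := rfl
theorem F47167 : act 2 n10581 = n7299 := d20_1 D10581 (iv D7299) (iv F33254)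
def n10582 : Q := act 7 n7299
theorem D10582 : act 7 n7299 = n10582 := rfl
def n10583 : Q := act 3 n7300
theorem D10583 : act 3 n7300 = n10583 := rfl
theorem F47177 : act 0 n10583 = n7301 := d2_1 D10583 (iv D7301) (iv F33263)
theorem F47178 : act 1 n10583 = n8047 := d10_1 D10583 (iv D8047) (iv F33264)
theorem F47180 : act 6 n10583 = n7329 := d26_2 (iv F33265) D10583 (iv D7329)
def n10584 : Q := act 5 n7300
theorem D10584 : act 5 n7300 = n10584 := rfl
theorem F47182 : act 0 n10584 = n7302 := d4_1 D10584 (iv D7302) (iv F33263)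
def n10585 : Q := act 2 n7301
theorem D10585 : act 2 n7301 = n10585 := rfl
theorem F47187 : act 1 n10585 = n10585 := d9_1 D10585 (iv D10585) F33268 F23530 (iv F33268)
theorem F47188 : act 4 n10585 = n10585 := d18_2 F33269 D10585 (iv D10585)
theorem F47189 : act 6 n10585 = n7331 := d20_2 (iv F33270) D10585 (iv D7331)
theorem F47190 : act 7 n10585 = n10585 := d21_2 F33271 D10585 (iv D10585)
def n10586 : Q := act 5 n7301
theorem D10586 : act 5 n7301 = n10586 := rfl
theorem F47192 : act 3 n10586 = n7302 := d25_1 D10586 (iv D7302) D7301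
def n10587 : Q := act 8 n7301
theorem D10587 : act 8 n7301 = n10587 := rfl
theorem F47197 : act 6 n10587 = n7333 := d40_1 D10587 (iv D7333) (iv F33270)
def n10588 : Q := act 6 n7302
theorem D10588 : act 6 n7302 = n10588 := rfl
theorem F47201 : act 5 n10588 = n7334 := d35_1 D10588 (iv D7334) (iv D5065) (iv F23526) D7302
def n10589 : Q := act 4 n7303
theorem D10589 : act 4 n7303 = n10589 := rfl
def n10590 : Q := act 6 n7303
theorem D10590 : act 6 n7303 = n10590 := rfl
theorem F47211 : act 5 n10590 = n7336 := d35_1 D10590 (iv D7336) (iv D5066) (iv F23532) D7303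
def n10591 : Q := act 8 n7303
theorem D10591 : act 8 n7303 = n10591 := rfl
theorem F47215 : act 5 n10591 = n7304 := d37_1 D10591 (iv D7304) D7303
def n10599 : Q := act 5 n7310
theorem D10599 : act 5 n7310 = n10599 := rfl
theorem F47256 : act 3 n10599 = n7313 := d25_1 D10599 (iv D7313) (iv F33316)
def n10606 : Q := act 4 n7314
theorem D10606 : act 4 n7314 = n10606 := rfl
theorem F47292 : act 1 n10606 = n7315 := d11_1 D10606 (iv D7315) D7314
def n10607 : Q := act 3 n7315
theorem D10607 : act 3 n7315 = n10607 := rfl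
theorem F47297 : act 2 n10607 = n7319 := d17_1 D10607 (iv D7319) F23588 (iv F23579) (iv F33341)
def n10608 : Q := act 5 n7315
theorem D10608 : act 5 n7315 = n10608 := rfl
theorem F47301 : act 2 n10608 = n7316 := d19_1 D10608 (iv D7316) (iv F33341)
def n10609 : Q := act 6 n7316
theorem D10609 : act 6 n7316 = n10609 := rfl
theorem F47306 : act 0 n10609 = n8083 := d5_1 D10609 (iv D8083) (iv F33345)
theorem F47307 : act 3 n10609 = n7321 := d26_1 D10609 (iv D7321) (iv F33346)
theorem F47308 : act 4 n10609 = n10609 := d31_1 D10609 (iv D10609) F33347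
theorem F47309 : act 8 n10609 = n10609 := d40_2 F33349 D10609 (iv D10609)
theorem F47310 : act 9 n10609 = n10609 := d41_2 F33350 D10609 (iv D10609)
def n10610 : Q := act 4 n7317
theorem D10610 : act 4 n7317 = n10610 := rfl
theorem F47313 : act 7 n10610 = n7356 := d32_2 (iv F33353) D10610 (iv D7356)
theorem F47314 : act 8 n10610 = n7322 := d33_2 (iv F33354) D10610 (iv D7322)
def n10612 : Q := act 5 n7318
theorem D10612 : act 5 n7318 = n10612 := rfl
theorem F47320 : act 4 n10612 = n7397 := d30_1 D10612 (iv D7397) (iv D5107) (iv F23583) D7318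
theorem F47321 : act 7 n10612 = n7358 := d36_2 (iv F33357) D10612 (iv D7358)
theorem F47322 : act 8 n10612 = n7324 := d37_2 (iv F33358) D10612 (iv D7324)
def n10613 : Q := act 5 n7319
theorem D10613 : act 5 n7319 = n10613 := rfl
theorem F47325 : act 3 n10613 = n7320 := d25_1 D10613 (iv D7320) D7319
def n10615 : Q := act 6 n7320
theorem D10615 : act 6 n7320 = n10615 := rfl
theorem F47332 : act 2 n10615 = n7321 := d20_1 D10615 (iv D7321) (iv F33364)
theorem F47333 : act 4 n10615 = n7400 := d31_1 D10615 (iv D7400) (iv F33365)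
theorem F47334 : act 8 n10615 = n7327 := d40_2 (iv F33367) D10615 (iv D7327)
def n10616 : Q := act 7 n7321
theorem D10616 : act 7 n7321 = n10616 := rfl
theorem F47336 : act 0 n10616 = n8090 := d6_1 D10616 (iv D8090) (iv F33369)
theorem F47337 : act 4 n10616 = n7401 := d32_1 D10616 (iv D7401) (iv F33370)
theorem F47338 : act 6 n10616 = n7362 := d39_1 D10616 (iv D7362) (iv D5084) (iv F23594) D7321
theorem F47339 : act 8 n10616 = n7328 := d42_2 (iv F33371) D10616 (iv D7328)
theorem F47340 : act 9 n10616 = n10616 := d43_2 F33372 D10616 (iv D10616)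
def n10617 : Q := act 3 n7322
theorem D10617 : act 3 n7322 = n10617 := rfl
theorem F47345 : act 9 n10617 = n7329 := d29_2 (iv F33376) D10617 (iv D7329)
def n10618 : Q := act 5 n7322
theorem D10618 : act 5 n7322 = n10618 := rfl
theorem F47346 : act 0 n10618 = n7324 := d4_1 D10618 (iv D7324) (iv F33373)
theorem F47350 : act 9 n10618 = n7330 := d38_2 (iv F33376) D10618 (iv D7330)
def n10619 : Q := act 2 n7323
theorem D10619 : act 2 n7323 = n10619 := rfl
theorem F47351 : act 1 n10619 = n10619 := d9_1 D10619 (iv D10619) F33377 F23606 (iv F33377)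
theorem F47352 : act 4 n10619 = n10619 := d18_2 F33378 D10619 (iv D10619)
theorem F47353 : act 7 n10619 = n7365 := d21_2 (iv F33379) D10619 (iv D7365)
theorem F47354 : act 9 n10619 = n7331 := d23_2 (iv F33380) D10619 (iv D7331)
def n10620 : Q := act 5 n7323
theorem D10620 : act 5 n7323 = n10620 := rfl
theorem F47355 : act 1 n10620 = n7325 := d12_1 D10620 (iv D7325) (iv F33377)
theorem F47356 : act 3 n10620 = n7324 := d25_1 D10620 (iv D7324) D7323
theorem F47357 : act 7 n10620 = n7366 := d36_2 (iv F33379) D10620 (iv D7366)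
theorem F47358 : act 9 n10620 = n7332 := d38_2 (iv F33380) D10620 (iv D7332)
def n10621 : Q := act 8 n7323
theorem D10621 : act 8 n7323 = n10621 := rfl
def n10622 : Q := act 6 n7324
theorem D10622 : act 6 n7324 = n10622 := rfl
theorem F47362 : act 1 n10622 = n7327 := d13_1 D10622 (iv D7327) (iv F33381)
theorem F47363 : act 4 n10622 = n7407 := d31_1 D10622 (iv D7407) (iv F33382)
theorem F47364 : act 9 n10622 = n7334 := d41_2 (iv F33384) D10622 (iv D7334)
def n10623 : Q := act 4 n7325
theorem D10623 : act 4 n7325 = n10623 := rfl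
theorem F47367 : act 3 n10623 = n7408 := d24_1 D10623 (iv D7408) F23852 (iv F23612) (iv F33387)
def n10625 : Q := act 8 n7325
theorem D10625 : act 8 n7325 = n10625 := rfl
theorem F47377 : act 5 n10625 = n7326 := d37_1 D10625 (iv D7326) D7325
def n10626 : Q := act 9 n7326
theorem D10626 : act 9 n7326 = n10626 := rfl
theorem F47383 : act 8 n10626 = n7338 := d44_1 D10626 (iv D7338) (iv D5067) (iv F23609) D7326
def n10627 : Q := act 7 n7327
theorem D10627 : act 7 n7327 = n10627 := rfl
theorem F47385 : act 2 n10627 = n7328 := d21_1 D10627 (iv D7328) (iv F33395)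
def n10628 : Q := act 2 n7329
theorem D10628 : act 2 n7329 = n10628 := rfl
theorem F47389 : act 0 n10628 = n7331 := d1_1 D10628 (iv D7331) (iv F33403)
theorem F47390 : act 4 n10628 = n10628 := d18_2 F33405 D10628 (iv D10628)
theorem F47391 : act 7 n10628 = n7374 := d21_2 (iv F33406) D10628 (iv D7374)
def n10629 : Q := act 5 n7329
theorem D10629 : act 5 n7329 = n10629 := rfl
theorem F47394 : act 3 n10629 = n7330 := d25_1 D10629 (iv D7330) D7329
theorem F47395 : act 7 n10629 = n7375 := d36_2 (iv F33406) D10629 (iv D7375)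
def n10630 : Q := act 8 n7329
theorem D10630 : act 8 n7329 = n10630 := rfl
theorem F47396 : act 0 n10630 = n7333 := d7_1 D10630 (iv D7333) (iv F33403)
theorem F47398 : act 3 n10630 = n10630 := d28_1 D10630 (iv D10630) (iv D7329) F23622 D7329
theorem F47399 : act 4 n10630 = n10630 := d33_1 D10630 (iv D10630) F33405
theorem F47400 : act 7 n10630 = n7376 := d42_1 D10630 (iv D7376) (iv F33406)
def n10631 : Q := act 6 n7330
theorem D10631 : act 6 n7330 = n10631 := rfl
theorem F47401 : act 0 n10631 = n7334 := d5_1 D10631 (iv D7334) (iv F33407)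
def n10632 : Q := act 5 n7331
theorem D10632 : act 5 n7331 = n10632 := rfl
theorem F47405 : act 1 n10632 = n10632 := d12_1 D10632 (iv D10632) F33412
theorem F47406 : act 2 n10632 = n7332 := d19_1 D10632 (iv D7332) D7331
theorem F47407 : act 7 n10632 = n7378 := d36_2 (iv F33414) D10632 (iv D7378)
def n10633 : Q := act 8 n7331
theorem D10633 : act 8 n7331 = n10633 := rfl
theorem F47408 : act 1 n10633 = n10633 := d15_1 D10633 (iv D10633) F33412
theorem F47409 : act 2 n10633 = n7333 := d22_1 D10633 (iv D7333) D7331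
theorem F47410 : act 4 n10633 = n10633 := d33_1 D10633 (iv D10633) F33413
theorem F47411 : act 7 n10633 = n7379 := d42_1 D10633 (iv D7379) (iv F33414)
def n10634 : Q := act 4 n7332
theorem D10634 : act 4 n7332 = n10634 := rfl
theorem F47413 : act 3 n10634 = n7419 := d24_1 D10634 (iv D7419) F23883 (iv F23627) (iv F33416)
theorem F47415 : act 7 n10634 = n7380 := d32_2 (iv F33417) D10634 (iv D7380)
def n10635 : Q := act 6 n7332
theorem D10635 : act 6 n7332 = n10635 := rfl
theorem F47417 : act 3 n10635 = n7334 := d26_1 D10635 (iv D7334) (iv F33416)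
def n10636 : Q := act 8 n7332
theorem D10636 : act 8 n7332 = n10636 := rfl
theorem F47420 : act 5 n10636 = n7333 := d37_1 D10636 (iv D7333) D7332
theorem F47421 : act 7 n10636 = n7382 := d42_1 D10636 (iv D7382) (iv F33417)
def n10637 : Q := act 9 n7333
theorem D10637 : act 9 n7333 = n10637 := rfl
def n10638 : Q := act 7 n7334
theorem D10638 : act 7 n7334 = n10638 := rfl
theorem F47427 : act 4 n10638 = n7423 := d32_1 D10638 (iv D7423) (iv F33423)
def n10639 : Q := act 6 n7335
theorem D10639 : act 6 n7335 = n10639 := rfl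
theorem F47432 : act 3 n10639 = n7424 := d26_1 D10639 (iv D7424) (iv F33427)
theorem F47433 : act 4 n10639 = n7336 := d31_1 D10639 (iv D7336) D7335
def n10640 : Q := act 8 n7335
theorem D10640 : act 8 n7335 = n10640 := rfl
theorem F47434 : act 0 n10640 = n8114 := d7_1 D10640 (iv D8114) (iv F33425)
theorem F47438 : act 7 n10640 = n7386 := d42_1 D10640 (iv D7386) (iv F33429)
def n10642 : Q := act 8 n7336
theorem D10642 : act 8 n7336 = n10642 := rfl
def n10662 : Q := act 3 n7352
theorem D10662 : act 3 n7352 = n10662 := rfl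
theorem F47542 : act 1 n10662 = n7353 := d10_1 D10662 (iv D7353) (iv F33510)
def n10663 : Q := act 5 n7352
theorem D10663 : act 5 n7352 = n10663 := rfl
def n10664 : Q := act 5 n7353
theorem D10664 : act 5 n7353 = n10664 := rfl
theorem F47550 : act 2 n10664 = n7359 := d19_1 D10664 (iv D7359) (iv F33515)
theorem F47551 : act 3 n10664 = n7354 := d25_1 D10664 (iv D7354) D7353
def n10666 : Q := act 6 n7354
theorem D10666 : act 6 n7354 = n10666 := rfl
theorem F47558 : act 2 n10666 = n7355 := d20_1 D10666 (iv D7355) (iv F33519)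
def n10667 : Q := act 7 n7355
theorem D10667 : act 7 n7355 = n10667 := rfl
theorem F47563 : act 0 n10667 = n8156 := d6_1 D10667 (iv D8156) (iv F33523)
theorem F47564 : act 3 n10667 = n7362 := d27_1 D10667 (iv D7362) (iv F33524)
theorem F47565 : act 4 n10667 = n10667 := d32_1 D10667 (iv D10667) F33525
theorem F47566 : act 5 n10667 = n10667 := d36_1 D10667 (iv D10667) F33526
theorem F47567 : act 8 n10667 = n10667 := d42_2 F33527 D10667 (iv D10667)
theorem F47568 : act 9 n10667 = n10667 := d43_2 F33528 D10667 (iv D10667)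
def n10668 : Q := act 3 n7356
theorem D10668 : act 3 n7356 = n10668 := rfl
def n10669 : Q := act 5 n7356
theorem D10669 : act 5 n7356 = n10669 := rfl
theorem F47575 : act 4 n10669 = n7437 := d30_1 D10669 (iv D7437) (iv D5134) (iv F23701) D7356
theorem F47576 : act 8 n10669 = n7364 := d37_2 (iv F33532) D10669 (iv D7364)
def n10670 : Q := act 2 n7357
theorem D10670 : act 2 n7357 = n10670 := rfl
def n10671 : Q := act 5 n7357
theorem D10671 : act 5 n7357 = n10671 := rfl
theorem F47581 : act 3 n10671 = n7358 := d25_1 D10671 (iv D7358) D7357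
def n10673 : Q := act 6 n7358
theorem D10673 : act 6 n7358 = n10673 := rfl
theorem F47589 : act 8 n10673 = n7368 := d40_2 (iv F33539) D10673 (iv D7368)
def n10674 : Q := act 4 n7359
theorem D10674 : act 4 n7359 = n10674 := rfl
theorem F47592 : act 3 n10674 = n7442 := d24_1 D10674 (iv D7442) F23956 (iv F23714) (iv F33542)
def n10678 : Q := act 7 n7361
theorem D10678 : act 7 n7361 = n10678 := rfl
theorem F47606 : act 2 n10678 = n7362 := d21_1 D10678 (iv D7362) (iv F33548)
theorem F47609 : act 8 n10678 = n7373 := d42_2 (iv F33551) D10678 (iv D7373)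
def n10679 : Q := act 2 n7363
theorem D10679 : act 2 n7363 = n10679 := rfl
theorem F47614 : act 9 n10679 = n7374 := d23_2 (iv F33562) D10679 (iv D7374)
def n10680 : Q := act 5 n7363
theorem D10680 : act 5 n7363 = n10680 := rfl
theorem F47617 : act 3 n10680 = n7364 := d25_1 D10680 (iv D7364) D7363
theorem F47618 : act 9 n10680 = n7375 := d38_2 (iv F33562) D10680 (iv D7375)
def n10681 : Q := act 8 n7363
theorem D10681 : act 8 n7363 = n10681 := rfl
def n10682 : Q := act 6 n7364
theorem D10682 : act 6 n7364 = n10682 := rfl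
theorem F47623 : act 0 n10682 = n7368 := d5_1 D10682 (iv D7368) (iv F33563)
theorem F47627 : act 9 n10682 = n7377 := d41_2 (iv F33566) D10682 (iv D7377)
def n10683 : Q := act 5 n7365
theorem D10683 : act 5 n7365 = n10683 := rfl
theorem F47628 : act 1 n10683 = n10683 := d12_1 D10683 (iv D10683) F33567
theorem F47629 : act 2 n10683 = n7366 := d19_1 D10683 (iv D7366) D7365
theorem F47630 : act 9 n10683 = n7378 := d38_2 (iv F33570) D10683 (iv D7378)
def n10684 : Q := act 8 n7365
theorem D10684 : act 8 n7365 = n10684 := rfl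
def n10685 : Q := act 4 n7366
theorem D10685 : act 4 n7366 = n10685 := rfl
theorem F47635 : act 1 n10685 = n7369 := d11_1 D10685 (iv D7369) (iv F33571)
theorem F47636 : act 3 n10685 = n7453 := d24_1 D10685 (iv D7453) F23985 (iv F23731) (iv F33572)
theorem F47637 : act 5 n10685 = n10685 := d30_2 D7366 D10685 (iv D10685) (iv D7366) F23727
theorem F47638 : act 9 n10685 = n7380 := d34_2 (iv F33573) D10685 (iv D7380)
def n10686 : Q := act 6 n7366
theorem D10686 : act 6 n7366 = n10686 := rfl
theorem F47639 : act 1 n10686 = n7370 := d13_1 D10686 (iv D7370) (iv F33571)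
theorem F47640 : act 3 n10686 = n7368 := d26_1 D10686 (iv D7368) (iv F33572)
theorem F47641 : act 5 n10686 = n10686 := d35_1 D10686 (iv D10686) (iv D7366) F23728 D7366
theorem F47642 : act 9 n10686 = n7381 := d41_2 (iv F33573) D10686 (iv D7381)
def n10687 : Q := act 8 n7366
theorem D10687 : act 8 n7366 = n10687 := rfl
theorem F47644 : act 5 n10687 = n7367 := d37_1 D10687 (iv D7367) D7366
def n10689 : Q := act 7 n7368
theorem D10689 : act 7 n7368 = n10689 := rfl
theorem F47649 : act 1 n10689 = n7373 := d14_1 D10689 (iv D7373) (iv F33577)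
theorem F47650 : act 4 n10689 = n7457 := d32_1 D10689 (iv D7457) (iv F33578)
theorem F47651 : act 5 n10689 = n10689 := d36_1 D10689 (iv D10689) F33579
theorem F47652 : act 9 n10689 = n7384 := d43_2 (iv F33580) D10689 (iv D7384)
def n10690 : Q := act 6 n7369
theorem D10690 : act 6 n7369 = n10690 := rfl
theorem F47655 : act 3 n10690 = n7458 := d26_1 D10690 (iv D7458) (iv F33583)
theorem F47656 : act 4 n10690 = n7370 := d31_1 D10690 (iv D7370) D7369
def n10691 : Q := act 8 n7369
theorem D10691 : act 8 n7369 = n10691 := rfl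
theorem F47660 : act 4 n10691 = n7371 := d33_1 D10691 (iv D7371) D7369
def n10692 : Q := act 7 n7370
theorem D10692 : act 7 n7370 = n10692 := rfl
theorem F47664 : act 3 n10692 = n7373 := d27_1 D10692 (iv D7373) (iv F33588)
def n10693 : Q := act 8 n7370
theorem D10693 : act 8 n7370 = n10693 := rfl
def n10694 : Q := act 9 n7371
theorem D10694 : act 9 n7371 = n10694 := rfl
theorem F47674 : act 8 n10694 = n7389 := d44_1 D10694 (iv D7389) (iv D5100) (iv F23736) D7371
def n10695 : Q := act 1 n7374
theorem D10695 : act 1 n7374 = n10695 := rfl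
def n10696 : Q := act 5 n7374
theorem D10696 : act 5 n7374 = n10696 := rfl
theorem F47679 : act 0 n10696 = n7378 := d4_1 D10696 (iv D7378) (iv F33604)
theorem F47680 : act 2 n10696 = n7375 := d19_1 D10696 (iv D7375) D7374
def n10697 : Q := act 8 n7374
theorem D10697 : act 8 n7374 = n10697 := rfl
theorem F47681 : act 0 n10697 = n7379 := d7_1 D10697 (iv D7379) (iv F33604)
def n10698 : Q := act 4 n7375
theorem D10698 : act 4 n7375 = n10698 := rfl
theorem F47685 : act 0 n10698 = n7380 := d3_1 D10698 (iv D7380) (iv F33607)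
theorem F47687 : act 3 n10698 = n7466 := d24_1 D10698 (iv D7466) F24019 (iv F23757) (iv F33609)
theorem F47688 : act 5 n10698 = n10698 := d30_2 D7375 D10698 (iv D10698) (iv D7375) F23753
def n10699 : Q := act 6 n7375
theorem D10699 : act 6 n7375 = n10699 := rfl
theorem F47691 : act 3 n10699 = n7377 := d26_1 D10699 (iv D7377) (iv F33609)
def n10700 : Q := act 8 n7375
theorem D10700 : act 8 n7375 = n10700 := rfl
theorem F47693 : act 0 n10700 = n7382 := d7_1 D10700 (iv D7382) (iv F33607)
theorem F47695 : act 3 n10700 = n10700 := d28_1 D10700 (iv D10700) F33609 F23758 (iv F33609)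
theorem F47696 : act 5 n10700 = n7376 := d37_1 D10700 (iv D7376) D7375
def n10701 : Q := act 9 n7376
theorem D10701 : act 9 n7376 = n10701 := rfl
def n10702 : Q := act 7 n7377
theorem D10702 : act 7 n7377 = n10702 := rfl
theorem F47702 : act 0 n10702 = n7384 := d6_1 D10702 (iv D7384) (iv F33615)
def n10703 : Q := act 4 n7378
theorem D10703 : act 4 n7378 = n10703 := rfl
theorem F47707 : act 1 n10703 = n10703 := d11_1 D10703 (iv D10703) F33620
theorem F47708 : act 2 n10703 = n7380 := d18_1 D10703 (iv D7380) (iv F33621)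
theorem F47709 : act 5 n10703 = n10703 := d30_2 D7378 D10703 (iv D10703) (iv D7378) F23760
def n10704 : Q := act 6 n7378
theorem D10704 : act 6 n7378 = n10704 := rfl
theorem F47710 : act 1 n10704 = n10704 := d13_1 D10704 (iv D10704) F33620
theorem F47711 : act 2 n10704 = n7381 := d20_1 D10704 (iv D7381) (iv F33621)
theorem F47712 : act 5 n10704 = n10704 := d35_1 D10704 (iv D10704) (iv D7378) F23761 D7378
def n10705 : Q := act 8 n7378
theorem D10705 : act 8 n7378 = n10705 := rfl
theorem F47713 : act 1 n10705 = n10705 := d15_1 D10705 (iv D10705) F33620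
theorem F47714 : act 2 n10705 = n7382 := d22_1 D10705 (iv D7382) (iv F33621)
theorem F47715 : act 5 n10705 = n7379 := d37_1 D10705 (iv D7379) D7378
def n10706 : Q := act 3 n7379
theorem D10706 : act 3 n7379 = n10706 := rfl
def n10707 : Q := act 9 n7379
theorem D10707 : act 9 n7379 = n10707 := rfl
def n10708 : Q := act 6 n7380
theorem D10708 : act 6 n7380 = n10708 := rfl
theorem F47724 : act 3 n10708 = n7476 := d26_1 D10708 (iv D7476) (iv F33627)
def n10709 : Q := act 8 n7380
theorem D10709 : act 8 n7380 = n10709 := rfl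
theorem F47727 : act 4 n10709 = n7382 := d33_1 D10709 (iv D7382) D7380
def n10710 : Q := act 7 n7381
theorem D10710 : act 7 n7381 = n10710 := rfl
theorem F47730 : act 3 n10710 = n7384 := d27_1 D10710 (iv D7384) (iv F33630)
def n10711 : Q := act 8 n7381
theorem D10711 : act 8 n7381 = n10711 := rfl
theorem F47735 : act 6 n10711 = n7382 := d40_1 D10711 (iv D7382) D7381
def n10712 : Q := act 9 n7382
theorem D10712 : act 9 n7382 = n10712 := rfl
theorem F47738 : act 5 n10712 = n7383 := d38_1 D10712 (iv D7383) (iv F33634)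
def n10716 : Q := act 3 n7386
theorem D10716 : act 3 n7386 = n10716 := rfl
theorem F47752 : act 0 n10716 = n8205 := d2_1 D10716 (iv D8205) (iv F33647)
theorem F47755 : act 8 n10716 = n7484 := d28_2 D7386 D10716 (iv D7484) (iv D5164) (iv F23774)
def n10720 : Q := act 4 n7390
theorem D10720 : act 4 n7390 = n10720 := rfl
theorem F47774 : act 7 n10720 = n7429 := d32_2 (iv F33668) D10720 (iv D7429)
def n10723 : Q := act 5 n7392
theorem D10723 : act 5 n7392 = n10723 := rfl
theorem F47789 : act 3 n10723 = n7393 := d25_1 D10723 (iv D7393) D7392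
theorem F47790 : act 7 n10723 = n7432 := d36_2 (iv F33681) D10723 (iv D7432)
def n10724 : Q := act 8 n7392
theorem D10724 : act 8 n7392 = n10724 := rfl
theorem F47795 : act 4 n10724 = n7399 := d33_1 D10724 (iv D7399) (iv F33679)
theorem F47797 : act 7 n10724 = n7433 := d42_1 D10724 (iv D7433) (iv F33681)
def n10727 : Q := act 3 n7395
theorem D10727 : act 3 n7395 = n10727 := rfl
theorem F47810 : act 0 n10727 = n7396 := d2_1 D10727 (iv D7396) (iv F33694)
theorem F47811 : act 1 n10727 = n8221 := d10_1 D10727 (iv D8221) (iv F33695)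
theorem F47813 : act 7 n10727 = n7436 := d27_2 (iv F33697) D10727 (iv D7436)
def n10728 : Q := act 5 n7395
theorem D10728 : act 5 n7395 = n10728 := rfl
theorem F47817 : act 7 n10728 = n7437 := d36_2 (iv F33697) D10728 (iv D7437)
theorem F47818 : act 8 n10728 = n7403 := d37_2 (iv F33698) D10728 (iv D7403)
def n10729 : Q := act 2 n7396
theorem D10729 : act 2 n7396 = n10729 := rfl
theorem F47822 : act 7 n10729 = n7438 := d21_2 (iv F33702) D10729 (iv D7438)
def n10730 : Q := act 5 n7396
theorem D10730 : act 5 n7396 = n10730 := rfl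
theorem F47825 : act 3 n10730 = n7397 := d25_1 D10730 (iv D7397) D7396
theorem F47826 : act 7 n10730 = n7439 := d36_2 (iv F33702) D10730 (iv D7439)
def n10731 : Q := act 8 n7396
theorem D10731 : act 8 n7396 = n10731 := rfl
theorem F47829 : act 3 n10731 = n7406 := d28_1 D10731 (iv D7406) (iv D5112) (iv F23820) D7396
theorem F47831 : act 7 n10731 = n7440 := d42_1 D10731 (iv D7440) (iv F33702)
def n10732 : Q := act 6 n7397
theorem D10732 : act 6 n7397 = n10732 := rfl
theorem F47834 : act 8 n10732 = n7407 := d40_2 (iv F33706) D10732 (iv D7407)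
def n10733 : Q := act 4 n7398
theorem D10733 : act 4 n7398 = n10733 := rfl
theorem F47838 : act 7 n10733 = n7442 := d32_2 (iv F33711) D10733 (iv D7442)
def n10734 : Q := act 6 n7398
theorem D10734 : act 6 n7398 = n10734 := rfl
theorem F47842 : act 3 n10734 = n7400 := d26_1 D10734 (iv D7400) (iv F33710)
def n10735 : Q := act 8 n7398
theorem D10735 : act 8 n7398 = n10735 := rfl
theorem F47847 : act 3 n10735 = n7410 := d28_1 D10735 (iv D7410) F23852 (iv F23830) (iv F33710)
theorem F47849 : act 7 n10735 = n7444 := d42_1 D10735 (iv D7444) (iv F33711)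
def n10736 : Q := act 9 n7399
theorem D10736 : act 9 n7399 = n10736 := rfl
theorem F47850 : act 0 n10736 = n8230 := d8_1 D10736 (iv D8230) (iv F33713)
theorem F47854 : act 7 n10736 = n7445 := d43_1 D10736 (iv D7445) (iv F33717)
def n10737 : Q := act 7 n7400
theorem D10737 : act 7 n7400 = n10737 := rfl
theorem F47857 : act 2 n10737 = n7401 := d21_1 D10737 (iv D7401) (iv F33719)
theorem F47859 : act 6 n10737 = n7446 := d39_1 D10737 (iv D7446) (iv D5139) (iv F23829) D7400
theorem F47860 : act 8 n10737 = n7412 := d42_2 (iv F33721) D10737 (iv D7412)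
def n10738 : Q := act 2 n7402
theorem D10738 : act 2 n7402 = n10738 := rfl
theorem F47862 : act 0 n10738 = n7404 := d1_1 D10738 (iv D7404) (iv F33729)
theorem F47865 : act 7 n10738 = n7447 := d21_2 (iv F33733) D10738 (iv D7447)
theorem F47866 : act 9 n10738 = n7413 := d23_2 (iv F33734) D10738 (iv D7413)
def n10739 : Q := act 5 n7402
theorem D10739 : act 5 n7402 = n10739 := rfl
theorem F47867 : act 0 n10739 = n7405 := d4_1 D10739 (iv D7405) (iv F33729)
theorem F47869 : act 3 n10739 = n7403 := d25_1 D10739 (iv D7403) D7402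
theorem F47870 : act 7 n10739 = n7448 := d36_2 (iv F33733) D10739 (iv D7448)
theorem F47871 : act 9 n10739 = n7414 := d38_2 (iv F33734) D10739 (iv D7414)
def n10740 : Q := act 8 n7402
theorem D10740 : act 8 n7402 = n10740 := rfl
theorem F47872 : act 0 n10740 = n7406 := d7_1 D10740 (iv D7406) (iv F33729)
theorem F47873 : act 1 n10740 = n8234 := d15_1 D10740 (iv D8234) (iv F33730)
theorem F47876 : act 7 n10740 = n7449 := d42_1 D10740 (iv D7449) (iv F33733)
def n10741 : Q := act 6 n7403
theorem D10741 : act 6 n7403 = n10741 := rfl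
theorem F47880 : act 9 n10741 = n7416 := d41_2 (iv F33738) D10741 (iv D7416)
def n10742 : Q := act 5 n7404
theorem D10742 : act 5 n7404 = n10742 := rfl
theorem F47881 : act 1 n10742 = n7579 := d12_1 D10742 (iv D7579) (iv F33739)
theorem F47882 : act 2 n10742 = n7405 := d19_1 D10742 (iv D7405) D7404
theorem F47883 : act 7 n10742 = n7451 := d36_2 (iv F33742) D10742 (iv D7451)
theorem F47884 : act 9 n10742 = n7417 := d38_2 (iv F33743) D10742 (iv D7417)
def n10743 : Q := act 8 n7404
theorem D10743 : act 8 n7404 = n10743 := rfl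
theorem F47885 : act 1 n10743 = n7580 := d15_1 D10743 (iv D7580) (iv F33739)
theorem F47886 : act 2 n10743 = n7406 := d22_1 D10743 (iv D7406) D7404
theorem F47889 : act 7 n10743 = n7452 := d42_1 D10743 (iv D7452) (iv F33742)
def n10744 : Q := act 4 n7405
theorem D10744 : act 4 n7405 = n10744 := rfl
theorem F47890 : act 1 n10744 = n7408 := d11_1 D10744 (iv D7408) (iv F33744)
theorem F47891 : act 5 n10744 = n10744 := d30_2 D7405 D10744 (iv D10744) (iv D7405) F23843
theorem F47892 : act 7 n10744 = n7453 := d32_2 (iv F33746) D10744 (iv D7453)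
theorem F47893 : act 9 n10744 = n7419 := d34_2 (iv F33747) D10744 (iv D7419)
def n10745 : Q := act 6 n7405
theorem D10745 : act 6 n7405 = n10745 := rfl
theorem F47894 : act 1 n10745 = n7409 := d13_1 D10745 (iv D7409) (iv F33744)
theorem F47895 : act 3 n10745 = n7407 := d26_1 D10745 (iv D7407) (iv F33745)
theorem F47896 : act 5 n10745 = n10745 := d35_1 D10745 (iv D10745) (iv D7405) F23844 D7405
theorem F47897 : act 9 n10745 = n7420 := d41_2 (iv F33747) D10745 (iv D7420)
def n10746 : Q := act 8 n7405
theorem D10746 : act 8 n7405 = n10746 := rfl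
def n10747 : Q := act 9 n7406
theorem D10747 : act 9 n7406 = n10747 := rfl
theorem F47904 : act 7 n10747 = n7456 := d43_1 D10747 (iv D7456) (iv F33751)
theorem F47905 : act 8 n10747 = n7422 := d44_1 D10747 (iv D7422) (iv D5122) (iv F23846) D7406
def n10748 : Q := act 7 n7407
theorem D10748 : act 7 n7407 = n10748 := rfl
theorem F47906 : act 1 n10748 = n7412 := d14_1 D10748 (iv D7412) (iv F33752)
theorem F47909 : act 9 n10748 = n7423 := d43_2 (iv F33754) D10748 (iv D7423)
def n10749 : Q := act 6 n7408
theorem D10749 : act 6 n7408 = n10749 := rfl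
theorem F47912 : act 4 n10749 = n7409 := d31_1 D10749 (iv D7409) D7408
theorem F47913 : act 9 n10749 = n7424 := d41_2 (iv F33759) D10749 (iv D7424)
def n10750 : Q := act 8 n7408
theorem D10750 : act 8 n7408 = n10750 := rfl
theorem F47915 : act 2 n10750 = n7587 := d22_1 D10750 (iv D7587) (iv F33756)
theorem F47916 : act 4 n10750 = n7410 := d33_1 D10750 (iv D7410) D7408
theorem F47918 : act 7 n10750 = n7459 := d42_1 D10750 (iv D7459) (iv F33758)
def n10751 : Q := act 7 n7409
theorem D10751 : act 7 n7409 = n10751 := rfl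
theorem F47920 : act 2 n10751 = n7588 := d21_1 D10751 (iv D7588) (iv F33761)
theorem F47921 : act 3 n10751 = n7412 := d27_1 D10751 (iv D7412) (iv F33762)
def n10752 : Q := act 8 n7409
theorem D10752 : act 8 n7409 = n10752 := rfl
theorem F47926 : act 2 n10752 = n7589 := d22_1 D10752 (iv D7589) (iv F33761)
def n10753 : Q := act 9 n7410
theorem D10753 : act 9 n7410 = n10753 := rfl
theorem F47929 : act 0 n10753 = n8247 := d8_1 D10753 (iv D8247) (iv F33765)
theorem F47930 : act 2 n10753 = n7590 := d23_1 D10753 (iv D7590) (iv F33766)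
def n10754 : Q := act 1 n7413
theorem D10754 : act 1 n7413 = n10754 := rfl
theorem F47934 : act 0 n10754 = n7591 := d0_1 D10754 (iv D7591) F24381 (iv F23878) (iv F33780)
theorem F47936 : act 4 n10754 = n10754 := d11_2 F33781 D10754 (iv D10754)
theorem F47937 : act 6 n10754 = n10754 := d13_2 F33782 D10754 (iv D10754)
theorem F47938 : act 7 n10754 = n7463 := d14_2 (iv F33783) D10754 (iv D7463)
def n10755 : Q := act 5 n7413
theorem D10755 : act 5 n7413 = n10755 := rfl
theorem F47939 : act 0 n10755 = n7417 := d4_1 D10755 (iv D7417) (iv F33780)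
theorem F47940 : act 2 n10755 = n7414 := d19_1 D10755 (iv D7414) D7413
theorem F47941 : act 7 n10755 = n7464 := d36_2 (iv F33783) D10755 (iv D7464)
def n10756 : Q := act 8 n7413
theorem D10756 : act 8 n7413 = n10756 := rfl
theorem F47942 : act 0 n10756 = n7418 := d7_1 D10756 (iv D7418) (iv F33780)
theorem F47943 : act 2 n10756 = n7415 := d22_1 D10756 (iv D7415) D7413
theorem F47944 : act 4 n10756 = n10756 := d33_1 D10756 (iv D10756) F33781
theorem F47945 : act 6 n10756 = n10756 := d40_1 D10756 (iv D10756) F33782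
theorem F47946 : act 7 n10756 = n7465 := d42_1 D10756 (iv D7465) (iv F33783)
def n10757 : Q := act 4 n7414
theorem D10757 : act 4 n7414 = n10757 := rfl
def n10758 : Q := act 6 n7414
theorem D10758 : act 6 n7414 = n10758 := rfl
theorem F47951 : act 0 n10758 = n7420 := d5_1 D10758 (iv D7420) (iv F33784)
theorem F47953 : act 3 n10758 = n7416 := d26_1 D10758 (iv D7416) (iv F33786)
def n10759 : Q := act 8 n7414
theorem D10759 : act 8 n7414 = n10759 := rfl
theorem F47955 : act 0 n10759 = n7421 := d7_1 D10759 (iv D7421) (iv F33784)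
theorem F47956 : act 1 n10759 = n8253 := d15_1 D10759 (iv D8253) (iv F33785)
theorem F47957 : act 3 n10759 = n10759 := d28_1 D10759 (iv D10759) F33786 F23877 (iv F33786)
theorem F47958 : act 5 n10759 = n7415 := d37_1 D10759 (iv D7415) D7414
theorem F47959 : act 7 n10759 = n7468 := d42_1 D10759 (iv D7468) (iv F33787)
def n10760 : Q := act 9 n7415
theorem D10760 : act 9 n7415 = n10760 := rfl
theorem F47960 : act 0 n10760 = n7422 := d8_1 D10760 (iv D7422) (iv F33788)
def n10761 : Q := act 7 n7416
theorem D10761 : act 7 n7416 = n10761 := rfl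
theorem F47966 : act 0 n10761 = n7423 := d6_1 D10761 (iv D7423) (iv F33794)
def n10762 : Q := act 4 n7417
theorem D10762 : act 4 n7417 = n10762 := rfl
theorem F47971 : act 1 n10762 = n7599 := d11_1 D10762 (iv D7599) (iv F33798)
theorem F47972 : act 2 n10762 = n7419 := d18_1 D10762 (iv D7419) (iv F33799)
theorem F47973 : act 5 n10762 = n10762 := d30_2 D7417 D10762 (iv D10762) (iv D7417) F23879
theorem F47974 : act 7 n10762 = n7471 := d32_2 (iv F33800) D10762 (iv D7471)
def n10763 : Q := act 6 n7417
theorem D10763 : act 6 n7417 = n10763 := rfl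
theorem F47975 : act 1 n10763 = n7600 := d13_1 D10763 (iv D7600) (iv F33798)
theorem F47976 : act 2 n10763 = n7420 := d20_1 D10763 (iv D7420) (iv F33799)
theorem F47977 : act 5 n10763 = n10763 := d35_1 D10763 (iv D10763) (iv D7417) F23880 D7417
def n10764 : Q := act 8 n7417
theorem D10764 : act 8 n7417 = n10764 := rfl
theorem F47978 : act 1 n10764 = n7601 := d15_1 D10764 (iv D7601) (iv F33798)
theorem F47979 : act 2 n10764 = n7421 := d22_1 D10764 (iv D7421) (iv F33799)
theorem F47980 : act 5 n10764 = n7418 := d37_1 D10764 (iv D7418) D7417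
theorem F47981 : act 7 n10764 = n7473 := d42_1 D10764 (iv D7473) (iv F33800)
def n10765 : Q := act 3 n7418
theorem D10765 : act 3 n7418 = n10765 := rfl
theorem F47982 : act 1 n10765 = n7602 := d10_1 D10765 (iv D7602) (iv F33801)
theorem F47983 : act 2 n10765 = n10765 := d17_1 D10765 (iv D10765) F33802 F23886 (iv F33802)
theorem F47984 : act 6 n10765 = n10765 := d26_2 F33804 D10765 (iv D10765)
theorem F47985 : act 7 n10765 = n7474 := d27_2 (iv F33805) D10765 (iv D7474)
def n10766 : Q := act 9 n7418
theorem D10766 : act 9 n7418 = n10766 := rfl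
theorem F47986 : act 1 n10766 = n7603 := d16_1 D10766 (iv D7603) (iv F33801)
theorem F47987 : act 2 n10766 = n7422 := d23_1 D10766 (iv D7422) (iv F33802)
theorem F47990 : act 7 n10766 = n7475 := d43_1 D10766 (iv D7475) (iv F33805)
def n10767 : Q := act 6 n7419
theorem D10767 : act 6 n7419 = n10767 := rfl
theorem F47991 : act 1 n10767 = n7424 := d13_1 D10767 (iv D7424) (iv F33806)
theorem F47992 : act 4 n10767 = n7420 := d31_1 D10767 (iv D7420) D7419
def n10768 : Q := act 8 n7419
theorem D10768 : act 8 n7419 = n10768 := rfl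
theorem F47993 : act 1 n10768 = n7425 := d15_1 D10768 (iv D7425) (iv F33806)
theorem F47996 : act 7 n10768 = n7477 := d42_1 D10768 (iv D7477) (iv F33808)
def n10769 : Q := act 7 n7420
theorem D10769 : act 7 n7420 = n10769 := rfl
def n10771 : Q := act 9 n7421
theorem D10771 : act 9 n7421 = n10771 := rfl
theorem F48005 : act 1 n10771 = n7428 := d16_1 D10771 (iv D7428) (iv F33812)
theorem F48006 : act 3 n10771 = n10771 := d29_1 D10771 (iv D10771) F33813
theorem F48007 : act 5 n10771 = n7422 := d38_1 D10771 (iv D7422) (iv F33814)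
theorem F48008 : act 7 n10771 = n7480 := d43_1 D10771 (iv D7480) (iv F33815)
def n10772 : Q := act 5 n7424
theorem D10772 : act 5 n7424 = n10772 := rfl
theorem F48010 : act 2 n10772 = n7609 := d19_1 D10772 (iv D7609) (iv F33826)
def n10773 : Q := act 7 n7424
theorem D10773 : act 7 n7424 = n10773 := rfl
def n10774 : Q := act 8 n7424
theorem D10774 : act 8 n7424 = n10774 := rfl
theorem F48018 : act 2 n10774 = n7611 := d22_1 D10774 (iv D7611) (iv F33826)
theorem F48019 : act 4 n10774 = n7427 := d33_1 D10774 (iv D7427) (iv F33827)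
theorem F48020 : act 6 n10774 = n7425 := d40_1 D10774 (iv D7425) D7424
def n10775 : Q := act 3 n7425
theorem D10775 : act 3 n7425 = n10775 := rfl
theorem F48024 : act 7 n10775 = n7484 := d27_2 (iv F33832) D10775 (iv D7484)
def n10776 : Q := act 9 n7425
theorem D10776 : act 9 n7425 = n10776 := rfl
theorem F48026 : act 2 n10776 = n7613 := d23_1 D10776 (iv D7613) (iv F33829)
def n10777 : Q := act 8 n7426
theorem D10777 : act 8 n7426 = n10777 := rfl
theorem F48031 : act 2 n10777 = n7614 := d22_1 D10777 (iv D7614) (iv F33834)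
def n10778 : Q := act 9 n7427
theorem D10778 : act 9 n7427 = n10778 := rfl
theorem F48037 : act 2 n10778 = n7615 := d23_1 D10778 (iv D7615) (iv F33839)
theorem F48040 : act 6 n10778 = n7428 := d41_1 D10778 (iv D7428) (iv F33842)
def n10779 : Q := act 3 n7429
theorem D10779 : act 3 n7429 = n10779 := rfl
theorem F48043 : act 4 n10779 = n7436 := d24_2 D7429 D10779 (iv D7436) (iv D5134) (iv F23919)
theorem F48044 : act 6 n10779 = n7488 := d26_2 (iv F33851) D10779 (iv D7488)
def n10781 : Q := act 2 n7430
theorem D10781 : act 2 n7430 = n10781 := rfl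
theorem F48053 : act 4 n10781 = n7438 := d18_2 (iv F33855) D10781 (iv D7438)
theorem F48054 : act 6 n10781 = n7490 := d20_2 (iv F33856) D10781 (iv D7490)
def n10787 : Q := act 8 n7432
theorem D10787 : act 8 n7432 = n10787 := rfl
theorem F48080 : act 5 n10787 = n7433 := d37_1 D10787 (iv D7433) D7432
def n10788 : Q := act 9 n7433
theorem D10788 : act 9 n7433 = n10788 := rfl
theorem F48085 : act 6 n10788 = n7497 := d41_1 D10788 (iv D7497) (iv F33870)
def n10790 : Q := act 2 n7436
theorem D10790 : act 2 n7436 = n10790 := rfl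
theorem F48092 : act 0 n10790 = n7438 := d1_1 D10790 (iv D7438) (iv F33882)
theorem F48093 : act 6 n10790 = n7499 := d20_2 (iv F33884) D10790 (iv D7499)
def n10791 : Q := act 5 n7436
theorem D10791 : act 5 n7436 = n10791 := rfl
theorem F48097 : act 3 n10791 = n7437 := d25_1 D10791 (iv D7437) D7436
def n10792 : Q := act 8 n7436
theorem D10792 : act 8 n7436 = n10792 := rfl
theorem F48101 : act 3 n10792 = n7449 := d28_1 D10792 (iv D7449) (iv D5141) (iv F23946) D7436
theorem F48102 : act 6 n10792 = n7501 := d40_1 D10792 (iv D7501) (iv F33884)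
def n10793 : Q := act 6 n7437
theorem D10793 : act 6 n7437 = n10793 := rfl
theorem F48105 : act 5 n10793 = n7502 := d35_1 D10793 (iv D7502) (iv D5176) (iv F23945) D7437
theorem F48106 : act 8 n10793 = n7450 := d40_2 (iv F33888) D10793 (iv D7450)
def n10794 : Q := act 5 n7438
theorem D10794 : act 5 n7438 = n10794 := rfl
theorem F48109 : act 2 n10794 = n7439 := d19_1 D10794 (iv D7439) D7438
def n10795 : Q := act 8 n7438
theorem D10795 : act 8 n7438 = n10795 := rfl
theorem F48113 : act 6 n10795 = n7504 := d40_1 D10795 (iv D7504) (iv F33891)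
def n10796 : Q := act 4 n7439
theorem D10796 : act 4 n7439 = n10796 := rfl
def n10797 : Q := act 6 n7439
theorem D10797 : act 6 n7439 = n10797 := rfl
theorem F48117 : act 3 n10797 = n7441 := d26_1 D10797 (iv D7441) (iv F33894)
theorem F48118 : act 5 n10797 = n7506 := d35_1 D10797 (iv D7506) (iv D5178) (iv F23949) D7439
def n10798 : Q := act 8 n7439
theorem D10798 : act 8 n7439 = n10798 := rfl
theorem F48121 : act 3 n10798 = n7455 := d28_1 D10798 (iv D7455) F23985 (iv F23952) (iv F33894)
def n10799 : Q := act 9 n7440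
theorem D10799 : act 9 n7440 = n10799 := rfl
theorem F48125 : act 6 n10799 = n7508 := d41_1 D10799 (iv D7508) (iv F33898)
def n10800 : Q := act 7 n7441
theorem D10800 : act 7 n7441 = n10800 := rfl
theorem F48128 : act 5 n10800 = n7509 := d36_1 D10800 (iv D7509) (iv F33900)
theorem F48129 : act 8 n10800 = n7457 := d42_2 (iv F33901) D10800 (iv D7457)
def n10801 : Q := act 6 n7442
theorem D10801 : act 6 n7442 = n10801 := rfl
theorem F48133 : act 4 n10801 = n7443 := d31_1 D10801 (iv D7443) D7442
def n10802 : Q := act 8 n7442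
theorem D10802 : act 8 n7442 = n10802 := rfl
def n10803 : Q := act 7 n7443
theorem D10803 : act 7 n7443 = n10803 := rfl
theorem F48140 : act 3 n10803 = n7446 := d27_1 D10803 (iv D7446) (iv F33908)
theorem F48141 : act 5 n10803 = n7512 := d36_1 D10803 (iv D7512) (iv F33909)
def n10804 : Q := act 8 n7443
theorem D10804 : act 8 n7443 = n10804 := rfl
theorem F48146 : act 5 n10804 = n7513 := d37_1 D10804 (iv D7513) (iv F33909)
theorem F48147 : act 6 n10804 = n7444 := d40_1 D10804 (iv D7444) D7443
def n10805 : Q := act 9 n7444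
theorem D10805 : act 9 n7444 = n10805 := rfl
def n10806 : Q := act 1 n7447
theorem D10806 : act 1 n7447 = n10806 := rfl
theorem F48153 : act 0 n10806 = n7616 := d0_1 D10806 (iv D7616) F24446 (iv F23980) (iv F33925)
theorem F48154 : act 2 n10806 = n8307 := d9_2 D7447 D10806 (iv D8307) (iv D5733) (iv F23973)
theorem F48156 : act 6 n10806 = n7515 := d13_2 (iv F33927) D10806 (iv D7515)
theorem F48157 : act 9 n10806 = n7463 := d16_2 (iv F33928) D10806 (iv D7463)
def n10807 : Q := act 5 n7447
theorem D10807 : act 5 n7447 = n10807 := rfl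
theorem F48158 : act 0 n10807 = n7451 := d4_1 D10807 (iv D7451) (iv F33925)
theorem F48159 : act 2 n10807 = n7448 := d19_1 D10807 (iv D7448) D7447
theorem F48160 : act 9 n10807 = n7464 := d38_2 (iv F33928) D10807 (iv D7464)
def n10808 : Q := act 8 n7447
theorem D10808 : act 8 n7447 = n10808 := rfl
theorem F48161 : act 0 n10808 = n7452 := d7_1 D10808 (iv D7452) (iv F33925)
theorem F48162 : act 2 n10808 = n7449 := d22_1 D10808 (iv D7449) D7447
theorem F48164 : act 6 n10808 = n7517 := d40_1 D10808 (iv D7517) (iv F33927)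
def n10810 : Q := act 6 n7448
theorem D10810 : act 6 n7448 = n10810 := rfl
theorem F48169 : act 0 n10810 = n7454 := d5_1 D10810 (iv D7454) (iv F33929)
theorem F48171 : act 3 n10810 = n7450 := d26_1 D10810 (iv D7450) (iv F33931)
theorem F48172 : act 5 n10810 = n7519 := d35_1 D10810 (iv D7519) (iv D5187) (iv F23975) D7448
theorem F48173 : act 9 n10810 = n7467 := d41_2 (iv F33932) D10810 (iv D7467)
def n10811 : Q := act 8 n7448
theorem D10811 : act 8 n7448 = n10811 := rfl
def n10812 : Q := act 9 n7449
theorem D10812 : act 9 n7449 = n10812 := rfl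
theorem F48180 : act 6 n10812 = n7521 := d41_1 D10812 (iv D7521) (iv F33936)
theorem F48181 : act 8 n10812 = n7469 := d44_1 D10812 (iv D7469) (iv D5154) (iv F23976) D7449
def n10813 : Q := act 7 n7450
theorem D10813 : act 7 n7450 = n10813 := rfl
theorem F48182 : act 0 n10813 = n7457 := d6_1 D10813 (iv D7457) (iv F33937)
theorem F48185 : act 9 n10813 = n7470 := d43_2 (iv F33940) D10813 (iv D7470)
def n10814 : Q := act 4 n7451
theorem D10814 : act 4 n7451 = n10814 := rfl
theorem F48186 : act 1 n10814 = n7624 := d11_1 D10814 (iv D7624) (iv F33941)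
theorem F48187 : act 2 n10814 = n7453 := d18_1 D10814 (iv D7453) (iv F33942)
theorem F48188 : act 5 n10814 = n10814 := d30_2 D7451 D10814 (iv D10814) (iv D7451) F23981
theorem F48189 : act 9 n10814 = n7471 := d34_2 (iv F33943) D10814 (iv D7471)
def n10815 : Q := act 6 n7451
theorem D10815 : act 6 n7451 = n10815 := rfl
theorem F48190 : act 1 n10815 = n7625 := d13_1 D10815 (iv D7625) (iv F33941)
theorem F48191 : act 2 n10815 = n7454 := d20_1 D10815 (iv D7454) (iv F33942)
theorem F48192 : act 5 n10815 = n7524 := d35_1 D10815 (iv D7524) (iv D5190) (iv F23982) D7451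
theorem F48193 : act 9 n10815 = n7472 := d41_2 (iv F33943) D10815 (iv D7472)
def n10816 : Q := act 8 n7451
theorem D10816 : act 8 n7451 = n10816 := rfl
theorem F48194 : act 1 n10816 = n7626 := d15_1 D10816 (iv D7626) (iv F33941)
def n10817 : Q := act 3 n7452
theorem D10817 : act 3 n7452 = n10817 := rfl
theorem F48198 : act 6 n10817 = n7526 := d26_2 (iv F33947) D10817 (iv D7526)
def n10818 : Q := act 9 n7452
theorem D10818 : act 9 n7452 = n10818 := rfl
theorem F48202 : act 6 n10818 = n7527 := d41_1 D10818 (iv D7527) (iv F33947)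
def n10819 : Q := act 6 n7453
theorem D10819 : act 6 n7453 = n10819 := rfl
theorem F48204 : act 1 n10819 = n7458 := d13_1 D10819 (iv D7458) (iv F33948)
theorem F48205 : act 4 n10819 = n7454 := d31_1 D10819 (iv D7454) D7453
theorem F48206 : act 9 n10819 = n7476 := d41_2 (iv F33950) D10819 (iv D7476)
def n10820 : Q := act 8 n7453
theorem D10820 : act 8 n7453 = n10820 := rfl
theorem F48207 : act 1 n10820 = n7459 := d15_1 D10820 (iv D7459) (iv F33948)
theorem F48208 : act 4 n10820 = n7455 := d33_1 D10820 (iv D7455) D7453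
def n10821 : Q := act 7 n7454
theorem D10821 : act 7 n7454 = n10821 := rfl
theorem F48210 : act 1 n10821 = n7460 := d14_1 D10821 (iv D7460) (iv F33951)
theorem F48211 : act 3 n10821 = n7457 := d27_1 D10821 (iv D7457) (iv F33952)
theorem F48212 : act 5 n10821 = n7530 := d36_1 D10821 (iv D7530) (iv F33953)
theorem F48213 : act 9 n10821 = n7478 := d43_2 (iv F33954) D10821 (iv D7478)
def n10822 : Q := act 8 n7454
theorem D10822 : act 8 n7454 = n10822 := rfl
def n10823 : Q := act 9 n7455
theorem D10823 : act 9 n7455 = n10823 := rfl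
def n10824 : Q := act 5 n7458
theorem D10824 : act 5 n7458 = n10824 := rfl
theorem F48221 : act 2 n10824 = n7634 := d19_1 D10824 (iv D7634) (iv F33965)
theorem F48222 : act 4 n10824 = n7533 := d30_1 D10824 (iv D7533) F24204 (iv F24000) (iv F33966)
theorem F48224 : act 9 n10824 = n7481 := d38_2 (iv F33967) D10824 (iv D7481)
def n10825 : Q := act 7 n7458
theorem D10825 : act 7 n7458 = n10825 := rfl
theorem F48227 : act 4 n10825 = n7460 := d32_1 D10825 (iv D7460) (iv F33966)
theorem F48228 : act 9 n10825 = n7482 := d43_2 (iv F33967) D10825 (iv D7482)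
def n10826 : Q := act 8 n7458
theorem D10826 : act 8 n7458 = n10826 := rfl
theorem F48230 : act 2 n10826 = n7636 := d22_1 D10826 (iv D7636) (iv F33965)
theorem F48232 : act 6 n10826 = n7459 := d40_1 D10826 (iv D7459) D7458
def n10827 : Q := act 3 n7459
theorem D10827 : act 3 n7459 = n10827 := rfl
def n10828 : Q := act 9 n7459
theorem D10828 : act 9 n7459 = n10828 := rfl
theorem F48236 : act 2 n10828 = n7638 := d23_1 D10828 (iv D7638) (iv F33969)
theorem F48239 : act 8 n10828 = n7485 := d44_1 D10828 (iv D7485) (iv D5164) (iv F23996) D7459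
def n10829 : Q := act 8 n7460
theorem D10829 : act 8 n7460 = n10829 := rfl
theorem F48241 : act 2 n10829 = n7639 := d22_1 D10829 (iv D7639) (iv F33973)
def n10830 : Q := act 9 n7461
theorem D10830 : act 9 n7461 = n10830 := rfl
theorem F48244 : act 0 n10830 = n8331 := d8_1 D10830 (iv D8331) (iv F33977)
theorem F48245 : act 2 n10830 = n7640 := d23_1 D10830 (iv D7640) (iv F33978)
theorem F48248 : act 8 n10830 = n7487 := d44_1 D10830 (iv D7487) (iv D5166) (iv F24001) D7461
def n10831 : Q := act 5 n7463
theorem D10831 : act 5 n7463 = n10831 := rfl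
theorem F48249 : act 0 n10831 = n7641 := d4_1 D10831 (iv D7641) (iv F33985)
theorem F48250 : act 1 n10831 = n7464 := d12_1 D10831 (iv D7464) D7463
def n10832 : Q := act 8 n7463
theorem D10832 : act 8 n7463 = n10832 := rfl
theorem F48252 : act 0 n10832 = n7642 := d7_1 D10832 (iv D7642) (iv F33985)
theorem F48253 : act 1 n10832 = n7465 := d15_1 D10832 (iv D7465) D7463
theorem F48256 : act 6 n10832 = n7541 := d40_1 D10832 (iv D7541) (iv F33988)
def n10833 : Q := act 4 n7464
theorem D10833 : act 4 n7464 = n10833 := rfl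
theorem F48257 : act 0 n10833 = n7471 := d3_1 D10833 (iv D7471) (iv F33989)
theorem F48258 : act 2 n10833 = n7466 := d18_1 D10833 (iv D7466) (iv F33990)
theorem F48259 : act 5 n10833 = n10833 := d30_2 D7464 D10833 (iv D10833) (iv D7464) F24015
def n10834 : Q := act 6 n7464
theorem D10834 : act 6 n7464 = n10834 := rfl
theorem F48260 : act 0 n10834 = n7472 := d5_1 D10834 (iv D7472) (iv F33989)
theorem F48261 : act 2 n10834 = n7467 := d20_1 D10834 (iv D7467) (iv F33990)
theorem F48262 : act 5 n10834 = n7543 := d35_1 D10834 (iv D7543) (iv D5203) (iv F24016) D7464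
def n10835 : Q := act 8 n7464
theorem D10835 : act 8 n7464 = n10835 := rfl
theorem F48263 : act 0 n10835 = n7473 := d7_1 D10835 (iv D7473) (iv F33989)
theorem F48264 : act 2 n10835 = n7468 := d22_1 D10835 (iv D7468) (iv F33990)
theorem F48265 : act 5 n10835 = n7465 := d37_1 D10835 (iv D7465) D7464
def n10836 : Q := act 3 n7465
theorem D10836 : act 3 n7465 = n10836 := rfl
theorem F48268 : act 6 n10836 = n7545 := d26_2 (iv F33994) D10836 (iv D7545)
def n10837 : Q := act 9 n7465
theorem D10837 : act 9 n7465 = n10837 := rfl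
def n10838 : Q := act 6 n7466
theorem D10838 : act 6 n7466 = n10838 := rfl
theorem F48275 : act 4 n10838 = n7467 := d31_1 D10838 (iv D7467) D7466
def n10839 : Q := act 8 n7466
theorem D10839 : act 8 n7466 = n10839 := rfl
theorem F48276 : act 0 n10839 = n7477 := d7_1 D10839 (iv D7477) (iv F33995)
theorem F48277 : act 1 n10839 = n8340 := d15_1 D10839 (iv D8340) (iv F33996)
theorem F48278 : act 4 n10839 = n7468 := d33_1 D10839 (iv D7468) D7466
theorem F48279 : act 5 n10839 = n10839 := d37_1 D10839 (iv D10839) F33997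
def n10840 : Q := act 7 n7467
theorem D10840 : act 7 n7467 = n10840 := rfl
theorem F48280 : act 0 n10840 = n7478 := d6_1 D10840 (iv D7478) (iv F33998)
theorem F48282 : act 3 n10840 = n7470 := d27_1 D10840 (iv D7470) (iv F34000)
def n10841 : Q := act 8 n7467
theorem D10841 : act 8 n7467 = n10841 := rfl
theorem F48284 : act 0 n10841 = n7479 := d7_1 D10841 (iv D7479) (iv F33998)
theorem F48285 : act 1 n10841 = n8342 := d15_1 D10841 (iv D8342) (iv F33999)
theorem F48286 : act 3 n10841 = n10841 := d28_1 D10841 (iv D10841) F34000 F24028 (iv F34000)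
theorem F48287 : act 5 n10841 = n7550 := d37_1 D10841 (iv D7550) (iv F34001)
theorem F48288 : act 6 n10841 = n7468 := d40_1 D10841 (iv D7468) D7467
def n10842 : Q := act 9 n7468
theorem D10842 : act 9 n7468 = n10842 := rfl
theorem F48289 : act 0 n10842 = n7480 := d8_1 D10842 (iv D7480) (iv F34002)
theorem F48290 : act 1 n10842 = n8343 := d16_1 D10842 (iv D8343) (iv F34003)
def n10843 : Q := act 3 n7471
theorem D10843 : act 3 n7471 = n10843 := rfl
theorem F48293 : act 1 n10843 = n7653 := d10_1 D10843 (iv D7653) (iv F34015)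
theorem F48294 : act 5 n10843 = n10843 := d25_2 F34017 D10843 (iv D10843)
def n10844 : Q := act 6 n7471
theorem D10844 : act 6 n7471 = n10844 := rfl
theorem F48295 : act 1 n10844 = n7654 := d13_1 D10844 (iv D7654) (iv F34015)
theorem F48296 : act 2 n10844 = n7476 := d20_1 D10844 (iv D7476) (iv F34016)
theorem F48297 : act 4 n10844 = n7472 := d31_1 D10844 (iv D7472) D7471
def n10845 : Q := act 8 n7471
theorem D10845 : act 8 n7471 = n10845 := rfl
theorem F48298 : act 1 n10845 = n7655 := d15_1 D10845 (iv D7655) (iv F34015)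
theorem F48299 : act 2 n10845 = n7477 := d22_1 D10845 (iv D7477) (iv F34016)
theorem F48300 : act 4 n10845 = n7473 := d33_1 D10845 (iv D7473) D7471
theorem F48301 : act 5 n10845 = n10845 := d37_1 D10845 (iv D10845) F34017
def n10846 : Q := act 7 n7472
theorem D10846 : act 7 n7472 = n10846 := rfl
theorem F48302 : act 1 n10846 = n7656 := d14_1 D10846 (iv D7656) (iv F34018)
theorem F48303 : act 2 n10846 = n7478 := d21_1 D10846 (iv D7478) (iv F34019)
theorem F48304 : act 5 n10846 = n7555 := d36_1 D10846 (iv D7555) (iv F34020)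
def n10847 : Q := act 8 n7472
theorem D10847 : act 8 n7472 = n10847 := rfl
theorem F48305 : act 1 n10847 = n7657 := d15_1 D10847 (iv D7657) (iv F34018)
theorem F48306 : act 2 n10847 = n7479 := d22_1 D10847 (iv D7479) (iv F34019)
theorem F48307 : act 5 n10847 = n7556 := d37_1 D10847 (iv D7556) (iv F34020)
theorem F48308 : act 6 n10847 = n7473 := d40_1 D10847 (iv D7473) D7472
def n10848 : Q := act 3 n7473
theorem D10848 : act 3 n7473 = n10848 := rfl
theorem F48309 : act 1 n10848 = n7658 := d10_1 D10848 (iv D7658) (iv F34021)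
theorem F48310 : act 2 n10848 = n10848 := d17_1 D10848 (iv D10848) F34022 F24041 (iv F34022)
theorem F48311 : act 5 n10848 = n7474 := d25_2 (iv F34023) D10848 (iv D7474)
def n10849 : Q := act 9 n7473
theorem D10849 : act 9 n7473 = n10849 := rfl
theorem F48313 : act 2 n10849 = n7480 := d23_1 D10849 (iv D7480) (iv F34022)
def n10850 : Q := act 4 n7474
theorem D10850 : act 4 n7474 = n10850 := rfl
theorem F48315 : act 1 n10850 = n7660 := d11_1 D10850 (iv D7660) (iv F34024)
theorem F48316 : act 2 n10850 = n10850 := d18_1 D10850 (iv D10850) F34025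
theorem F48317 : act 3 n10850 = n10850 := d24_1 D10850 (iv D10850) (iv D7474) F24033 D7474
theorem F48318 : act 6 n10850 = n7559 := d31_2 (iv F34026) D10850 (iv D7559)
def n10851 : Q := act 9 n7474
theorem D10851 : act 9 n7474 = n10851 := rfl
theorem F48319 : act 1 n10851 = n7661 := d16_1 D10851 (iv D7661) (iv F34024)
theorem F48322 : act 6 n10851 = n7560 := d41_1 D10851 (iv D7560) (iv F34026)
def n10852 : Q := act 5 n7476
theorem D10852 : act 5 n7476 = n10852 := rfl
theorem F48323 : act 1 n10852 = n7481 := d12_1 D10852 (iv D7481) (iv F34031)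
theorem F48324 : act 4 n10852 = n7561 := d30_1 D10852 (iv D7561) F24277 (iv F24039) (iv F34032)
def n10853 : Q := act 7 n7476
theorem D10853 : act 7 n7476 = n10853 := rfl
theorem F48326 : act 1 n10853 = n7482 := d14_1 D10853 (iv D7482) (iv F34031)
theorem F48327 : act 4 n10853 = n7478 := d32_1 D10853 (iv D7478) (iv F34032)
def n10854 : Q := act 8 n7476
theorem D10854 : act 8 n7476 = n10854 := rfl
theorem F48330 : act 6 n10854 = n7477 := d40_1 D10854 (iv D7477) D7476
def n10855 : Q := act 3 n7477
theorem D10855 : act 3 n7477 = n10855 := rfl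
def n10856 : Q := act 9 n7477
theorem D10856 : act 9 n7477 = n10856 := rfl
theorem F48334 : act 1 n10856 = n7485 := d16_1 D10856 (iv D7485) (iv F34033)
theorem F48335 : act 4 n10856 = n7480 := d34_1 D10856 (iv D7480) (iv F34034)
theorem F48336 : act 5 n10856 = n10856 := d38_1 D10856 (iv D10856) F34035
def n10857 : Q := act 8 n7478
theorem D10857 : act 8 n7478 = n10857 := rfl
theorem F48339 : act 5 n10857 = n7566 := d37_1 D10857 (iv D7566) (iv F34038)
def n10858 : Q := act 9 n7479
theorem D10858 : act 9 n7479 = n10858 := rfl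
theorem F48341 : act 1 n10858 = n7487 := d16_1 D10858 (iv D7487) (iv F34039)
theorem F48342 : act 3 n10858 = n10858 := d29_1 D10858 (iv D10858) F34040
theorem F48343 : act 5 n10858 = n7567 := d38_1 D10858 (iv D7567) (iv F34041)
theorem F48344 : act 6 n10858 = n7480 := d41_1 D10858 (iv D7480) (iv F34042)
def n10859 : Q := act 7 n7481
theorem D10859 : act 7 n7481 = n10859 := rfl
theorem F48348 : act 5 n10859 = n7482 := d36_1 D10859 (iv D7482) D7481
def n10860 : Q := act 8 n7481
theorem D10860 : act 8 n7481 = n10860 := rfl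
theorem F48350 : act 2 n10860 = n7670 := d22_1 D10860 (iv D7670) (iv F34047)
theorem F48351 : act 4 n10860 = n7569 := d33_1 D10860 (iv D7569) (iv F34048)
def n10861 : Q := act 8 n7482
theorem D10861 : act 8 n7482 = n10861 := rfl
theorem F48355 : act 2 n10861 = n7671 := d22_1 D10861 (iv D7671) (iv F34051)
theorem F48356 : act 4 n10861 = n7486 := d33_1 D10861 (iv D7486) (iv F34052)
def n10863 : Q := act 9 n7483
theorem D10863 : act 9 n7483 = n10863 := rfl
theorem F48363 : act 4 n10863 = n7487 := d34_1 D10863 (iv D7487) (iv F34055)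
theorem F48364 : act 6 n10863 = n7485 := d41_1 D10863 (iv D7485) (iv F34056)
def n10864 : Q := act 2 n7484
theorem D10864 : act 2 n7484 = n10864 := rfl
theorem F48366 : act 3 n10864 = n7674 := d17_2 D7484 D10864 (iv D7674) (iv D5291) (iv F24054)
def n10865 : Q := act 9 n7484
theorem D10865 : act 9 n7484 = n10865 := rfl
theorem F48370 : act 3 n10865 = n7485 := d29_1 D10865 (iv D7485) D7484
def n10866 : Q := act 9 n7486
theorem D10866 : act 9 n7486 = n10866 := rfl
theorem F48376 : act 5 n10866 = n7574 := d38_1 D10866 (iv D7574) (iv F34067)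
def n10867 : Q := act 2 n7488
theorem D10867 : act 2 n7488 = n10867 := rfl
theorem F48380 : act 4 n10867 = n7499 := d18_2 (iv F34076) D10867 (iv D7499)
def n10872 : Q := act 8 n7490
theorem D10872 : act 8 n7490 = n10872 := rfl
theorem F48406 : act 4 n10872 = n7504 := d33_1 D10872 (iv D7504) (iv F34088)
def n10879 : Q := act 8 n7494
theorem D10879 : act 8 n7494 = n10879 := rfl
theorem F48438 : act 4 n10879 = n7496 := d33_1 D10879 (iv D7496) D7494
theorem F48439 : act 5 n10879 = n7511 := d37_1 D10879 (iv D7511) (iv F34107)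
def n10882 : Q := act 9 n7496
theorem D10882 : act 9 n7496 = n10882 := rfl
theorem F48453 : act 5 n10882 = n7497 := d38_1 D10882 (iv D7497) (iv F34117)
def n10883 : Q := act 1 n7499
theorem D10883 : act 1 n7499 = n10883 := rfl
theorem F48457 : act 2 n10883 = n8395 := d9_2 D7499 D10883 (iv D8395) (iv D5792) (iv F24109)
def n10884 : Q := act 5 n7499
theorem D10884 : act 5 n7499 = n10884 := rfl
theorem F48461 : act 2 n10884 = n7500 := d19_1 D10884 (iv D7500) D7499
def n10885 : Q := act 8 n7499
theorem D10885 : act 8 n7499 = n10885 := rfl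
theorem F48464 : act 0 n10885 = n7504 := d7_1 D10885 (iv D7504) (iv F34131)
theorem F48465 : act 2 n10885 = n7501 := d22_1 D10885 (iv D7501) D7499
def n10886 : Q := act 4 n7500
theorem D10886 : act 4 n7500 = n10886 := rfl
theorem F48467 : act 0 n10886 = n7505 := d3_1 D10886 (iv D7505) (iv F34134)
def n10887 : Q := act 6 n7500
theorem D10887 : act 6 n7500 = n10887 := rfl
theorem F48474 : act 3 n10887 = n7502 := d26_1 D10887 (iv D7502) (iv F34136)
def n10888 : Q := act 8 n7500
theorem D10888 : act 8 n7500 = n10888 := rfl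
theorem F48479 : act 5 n10888 = n7501 := d37_1 D10888 (iv D7501) D7500
def n10889 : Q := act 9 n7501
theorem D10889 : act 9 n7501 = n10889 := rfl
def n10890 : Q := act 7 n7502
theorem D10890 : act 7 n7502 = n10890 := rfl
theorem F48490 : act 8 n10890 = n7522 := d42_2 (iv F34146) D10890 (iv D7522)
def n10891 : Q := act 4 n7503
theorem D10891 : act 4 n7503 = n10891 := rfl
theorem F48493 : act 2 n10891 = n7505 := d18_1 D10891 (iv D7505) (iv F34149)
def n10892 : Q := act 6 n7503
theorem D10892 : act 6 n7503 = n10892 := rfl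
def n10893 : Q := act 8 n7503
theorem D10893 : act 8 n7503 = n10893 := rfl
theorem F48500 : act 2 n10893 = n7507 := d22_1 D10893 (iv D7507) (iv F34149)
theorem F48501 : act 5 n10893 = n7504 := d37_1 D10893 (iv D7504) D7503
def n10894 : Q := act 3 n7504
theorem D10894 : act 3 n7504 = n10894 := rfl
def n10895 : Q := act 9 n7504
theorem D10895 : act 9 n7504 = n10895 := rfl
def n10896 : Q := act 6 n7505
theorem D10896 : act 6 n7505 = n10896 := rfl
theorem F48510 : act 1 n10896 = n7510 := d13_1 D10896 (iv D7510) (iv F34155)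
theorem F48512 : act 4 n10896 = n7506 := d31_1 D10896 (iv D7506) D7505
def n10897 : Q := act 8 n7505
theorem D10897 : act 8 n7505 = n10897 := rfl
theorem F48514 : act 1 n10897 = n7511 := d15_1 D10897 (iv D7511) (iv F34155)
theorem F48515 : act 4 n10897 = n7507 := d33_1 D10897 (iv D7507) D7505
def n10898 : Q := act 7 n7506
theorem D10898 : act 7 n7506 = n10898 := rfl
def n10899 : Q := act 8 n7506
theorem D10899 : act 8 n7506 = n10899 := rfl
theorem F48523 : act 6 n10899 = n7507 := d40_1 D10899 (iv D7507) D7506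
def n10900 : Q := act 9 n7507
theorem D10900 : act 9 n7507 = n10900 := rfl
theorem F48526 : act 5 n10900 = n7508 := d38_1 D10900 (iv D7508) (iv F34164)
def n10901 : Q := act 5 n7510
theorem D10901 : act 5 n7510 = n10901 := rfl
def n10902 : Q := act 7 n7510
theorem D10902 : act 7 n7510 = n10902 := rfl
theorem F48536 : act 4 n10902 = n7512 := d32_1 D10902 (iv D7512) (iv F34178)
def n10903 : Q := act 8 n7510
theorem D10903 : act 8 n7510 = n10903 := rfl
theorem F48541 : act 4 n10903 = n7513 := d33_1 D10903 (iv D7513) (iv F34178)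
theorem F48542 : act 6 n10903 = n7511 := d40_1 D10903 (iv D7511) D7510
def n10904 : Q := act 3 n7511
theorem D10904 : act 3 n7511 = n10904 := rfl
theorem F48543 : act 0 n10904 = n8416 := d2_1 D10904 (iv D8416) (iv F34180)
theorem F48544 : act 4 n10904 = n7536 := d24_2 (iv F34182) D10904 (iv D7536) F24208 (iv F24143)
def n10905 : Q := act 9 n7511
theorem D10905 : act 9 n7511 = n10905 := rfl
theorem F48549 : act 4 n10905 = n7514 := d34_1 D10905 (iv D7514) (iv F34182)
def n10906 : Q := act 8 n7512
theorem D10906 : act 8 n7512 = n10906 := rfl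
theorem F48554 : act 3 n10906 = n7538 := d28_1 D10906 (iv D7538) F24213 (iv F24155) (iv F34186)
def n10907 : Q := act 9 n7513
theorem D10907 : act 9 n7513 = n10907 := rfl
theorem F48557 : act 0 n10907 = n8419 := d8_1 D10907 (iv D8419) (iv F34189)
def n10908 : Q := act 5 n7515
theorem D10908 : act 5 n7515 = n10908 := rfl
theorem F48562 : act 0 n10908 = n7677 := d4_1 D10908 (iv D7677) (iv F34199)
theorem F48563 : act 1 n10908 = n7516 := d12_1 D10908 (iv D7516) D7515
theorem F48566 : act 9 n10908 = n7540 := d38_2 (iv F34203) D10908 (iv D7540)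
def n10909 : Q := act 8 n7515
theorem D10909 : act 8 n7515 = n10909 := rfl
theorem F48568 : act 1 n10909 = n7517 := d15_1 D10909 (iv D7517) D7515
def n10910 : Q := act 4 n7516
theorem D10910 : act 4 n7516 = n10910 := rfl
theorem F48572 : act 0 n10910 = n7523 := d3_1 D10910 (iv D7523) (iv F34204)
theorem F48573 : act 2 n10910 = n7518 := d18_1 D10910 (iv D7518) (iv F34205)
theorem F48576 : act 9 n10910 = n7542 := d34_2 (iv F34207) D10910 (iv D7542)
def n10911 : Q := act 6 n7516
theorem D10911 : act 6 n7516 = n10911 := rfl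
theorem F48577 : act 0 n10911 = n7524 := d5_1 D10911 (iv D7524) (iv F34204)
theorem F48578 : act 2 n10911 = n7519 := d20_1 D10911 (iv D7519) (iv F34205)
theorem F48579 : act 9 n10911 = n7543 := d41_2 (iv F34207) D10911 (iv D7543)
def n10912 : Q := act 8 n7516
theorem D10912 : act 8 n7516 = n10912 := rfl
theorem F48582 : act 5 n10912 = n7517 := d37_1 D10912 (iv D7517) D7516
def n10913 : Q := act 3 n7517
theorem D10913 : act 3 n7517 = n10913 := rfl
theorem F48584 : act 0 n10913 = n7526 := d2_1 D10913 (iv D7526) (iv F34208)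
def n10914 : Q := act 9 n7517
theorem D10914 : act 9 n7517 = n10914 := rfl
theorem F48590 : act 8 n10914 = n7546 := d44_1 D10914 (iv D7546) (iv D5204) (iv F24160) D7517
def n10915 : Q := act 6 n7518
theorem D10915 : act 6 n7518 = n10915 := rfl
theorem F48591 : act 0 n10915 = n7528 := d5_1 D10915 (iv D7528) (iv F34212)
theorem F48594 : act 4 n10915 = n7519 := d31_1 D10915 (iv D7519) D7518
theorem F48595 : act 9 n10915 = n7547 := d41_2 (iv F34217) D10915 (iv D7547)
def n10916 : Q := act 8 n7518
theorem D10916 : act 8 n7518 = n10916 := rfl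
theorem F48596 : act 0 n10916 = n7529 := d7_1 D10916 (iv D7529) (iv F34212)
theorem F48598 : act 4 n10916 = n7520 := d33_1 D10916 (iv D7520) D7518
def n10917 : Q := act 7 n7519
theorem D10917 : act 7 n7519 = n10917 := rfl
theorem F48601 : act 0 n10917 = n7530 := d6_1 D10917 (iv D7530) (iv F34218)
theorem F48603 : act 3 n10917 = n7522 := d27_1 D10917 (iv D7522) (iv F34220)
theorem F48605 : act 9 n10917 = n7549 := d43_2 (iv F34221) D10917 (iv D7549)
def n10918 : Q := act 8 n7519
theorem D10918 : act 8 n7519 = n10918 := rfl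
theorem F48606 : act 0 n10918 = n7531 := d7_1 D10918 (iv D7531) (iv F34218)
theorem F48607 : act 1 n10918 = n8430 := d15_1 D10918 (iv D8430) (iv F34219)
def n10919 : Q := act 9 n7520
theorem D10919 : act 9 n7520 = n10919 := rfl
theorem F48611 : act 5 n10919 = n7521 := d38_1 D10919 (iv D7521) (iv F34224)
theorem F48613 : act 8 n10919 = n7551 := d44_1 D10919 (iv D7551) (iv D5207) (iv F24165) D7520
def n10920 : Q := act 3 n7523
theorem D10920 : act 3 n7523 = n10920 := rfl
theorem F48614 : act 1 n10920 = n7689 := d10_1 D10920 (iv D7689) (iv F34236)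
theorem F48615 : act 2 n10920 = n10920 := d17_1 D10920 (iv D10920) F34237 F24183 (iv F34237)
theorem F48616 : act 5 n10920 = n10920 := d25_2 F34238 D10920 (iv D10920)
theorem F48617 : act 7 n10920 = n10920 := d27_2 F34239 D10920 (iv D10920)
theorem F48618 : act 9 n10920 = n7552 := d29_2 (iv F34240) D10920 (iv D7552)
def n10921 : Q := act 6 n7523
theorem D10921 : act 6 n7523 = n10921 := rfl
theorem F48619 : act 1 n10921 = n7690 := d13_1 D10921 (iv D7690) (iv F34236)
theorem F48620 : act 2 n10921 = n7528 := d20_1 D10921 (iv D7528) (iv F34237)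
theorem F48621 : act 4 n10921 = n7524 := d31_1 D10921 (iv D7524) D7523
theorem F48622 : act 9 n10921 = n7553 := d41_2 (iv F34240) D10921 (iv D7553)
def n10922 : Q := act 8 n7523
theorem D10922 : act 8 n7523 = n10922 := rfl
theorem F48623 : act 1 n10922 = n7691 := d15_1 D10922 (iv D7691) (iv F34236)
theorem F48624 : act 2 n10922 = n7529 := d22_1 D10922 (iv D7529) (iv F34237)
theorem F48625 : act 4 n10922 = n7525 := d33_1 D10922 (iv D7525) D7523
def n10923 : Q := act 7 n7524
theorem D10923 : act 7 n7524 = n10923 := rfl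
theorem F48628 : act 1 n10923 = n7692 := d14_1 D10923 (iv D7692) (iv F34241)
theorem F48629 : act 2 n10923 = n7530 := d21_1 D10923 (iv D7530) (iv F34242)
theorem F48630 : act 6 n10923 = n10923 := d39_1 D10923 (iv D10923) (iv D7524) F24176 D7524
theorem F48631 : act 9 n10923 = n7555 := d43_2 (iv F34243) D10923 (iv D7555)
def n10924 : Q := act 8 n7524
theorem D10924 : act 8 n7524 = n10924 := rfl
theorem F48632 : act 1 n10924 = n7693 := d15_1 D10924 (iv D7693) (iv F34241)
theorem F48634 : act 6 n10924 = n7525 := d40_1 D10924 (iv D7525) D7524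
def n10925 : Q := act 3 n7525
theorem D10925 : act 3 n7525 = n10925 := rfl
theorem F48636 : act 5 n10925 = n7526 := d25_2 (iv F34246) D10925 (iv D7526)
def n10926 : Q := act 9 n7525
theorem D10926 : act 9 n7525 = n10926 := rfl
theorem F48640 : act 5 n10926 = n7527 := d38_1 D10926 (iv D7527) (iv F34246)
def n10927 : Q := act 4 n7526
theorem D10927 : act 4 n7526 = n10927 := rfl
def n10928 : Q := act 9 n7526
theorem D10928 : act 9 n7526 = n10928 := rfl
def n10929 : Q := act 5 n7528
theorem D10929 : act 5 n7528 = n10929 := rfl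
theorem F48649 : act 1 n10929 = n7533 := d12_1 D10929 (iv D7533) (iv F34255)
theorem F48650 : act 3 n10929 = n10929 := d25_1 D10929 (iv D10929) F34256
theorem F48651 : act 6 n10929 = n10929 := d35_2 D7528 D10929 (iv D10929) (iv D7528) F24184
theorem F48652 : act 9 n10929 = n7561 := d38_2 (iv F34258) D10929 (iv D7561)
def n10930 : Q := act 7 n7528
theorem D10930 : act 7 n7528 = n10930 := rfl
theorem F48653 : act 1 n10930 = n7534 := d14_1 D10930 (iv D7534) (iv F34255)
theorem F48654 : act 3 n10930 = n10930 := d27_1 D10930 (iv D10930) F34256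
theorem F48655 : act 4 n10930 = n7530 := d32_1 D10930 (iv D7530) (iv F34257)
theorem F48656 : act 6 n10930 = n10930 := d39_1 D10930 (iv D10930) (iv D7528) F24185 D7528
theorem F48657 : act 9 n10930 = n7562 := d43_2 (iv F34258) D10930 (iv D7562)
def n10931 : Q := act 8 n7528
theorem D10931 : act 8 n7528 = n10931 := rfl
theorem F48659 : act 4 n10931 = n7531 := d33_1 D10931 (iv D7531) (iv F34257)
theorem F48660 : act 6 n10931 = n7529 := d40_1 D10931 (iv D7529) D7528
def n10932 : Q := act 3 n7529
theorem D10932 : act 3 n7529 = n10932 := rfl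
theorem F48661 : act 1 n10932 = n7536 := d10_1 D10932 (iv D7536) (iv F34259)
def n10933 : Q := act 9 n7529
theorem D10933 : act 9 n7529 = n10933 := rfl
theorem F48666 : act 4 n10933 = n7532 := d34_1 D10933 (iv D7532) (iv F34260)
theorem F48669 : act 8 n10933 = n7565 := d44_1 D10933 (iv D7565) (iv D5216) (iv F24186) D7529
def n10934 : Q := act 8 n7530
theorem D10934 : act 8 n7530 = n10934 := rfl
theorem F48672 : act 7 n10934 = n7531 := d42_1 D10934 (iv D7531) D7530
def n10935 : Q := act 9 n7531
theorem D10935 : act 9 n7531 = n10935 := rfl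
def n10936 : Q := act 7 n7533
theorem D10936 : act 7 n7533 = n10936 := rfl
theorem F48679 : act 5 n10936 = n7534 := d36_1 D10936 (iv D7534) D7533
theorem F48680 : act 9 n10936 = n7568 := d43_2 (iv F34277) D10936 (iv D7568)
def n10937 : Q := act 8 n7533
theorem D10937 : act 8 n7533 = n10937 := rfl
theorem F48682 : act 2 n10937 = n7706 := d22_1 D10937 (iv D7706) (iv F34274)
theorem F48683 : act 5 n10937 = n7535 := d37_1 D10937 (iv D7535) D7533
def n10938 : Q := act 8 n7534
theorem D10938 : act 8 n7534 = n10938 := rfl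
theorem F48687 : act 4 n10938 = n7538 := d33_1 D10938 (iv D7538) (iv F34281)
theorem F48689 : act 7 n10938 = n7535 := d42_1 D10938 (iv D7535) D7534
def n10939 : Q := act 3 n7535
theorem D10939 : act 3 n7535 = n10939 := rfl
theorem F48691 : act 6 n10939 = n7536 := d26_2 (iv F34287) D10939 (iv D7536)
def n10940 : Q := act 9 n7535
theorem D10940 : act 9 n7535 = n10940 := rfl
theorem F48694 : act 2 n10940 = n7709 := d23_1 D10940 (iv D7709) (iv F34285)
theorem F48695 : act 4 n10940 = n7539 := d34_1 D10940 (iv D7539) (iv F34286)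
theorem F48697 : act 8 n10940 = n7572 := d44_1 D10940 (iv D7572) (iv D5222) (iv F24205) D7535
def n10941 : Q := act 2 n7536
theorem D10941 : act 2 n7536 = n10941 := rfl
theorem F48699 : act 3 n10941 = n7710 := d17_2 D7536 D10941 (iv D7710) (iv D5316) (iv F24207)
theorem F48700 : act 5 n10941 = n10941 := d19_2 F34289 D10941 (iv D10941)
def n10942 : Q := act 9 n7536
theorem D10942 : act 9 n7536 = n10942 := rfl
theorem F48704 : act 3 n10942 = n7537 := d29_1 D10942 (iv D7537) D7536
def n10943 : Q := act 9 n7538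
theorem D10943 : act 9 n7538 = n10943 := rfl
theorem F48708 : act 2 n10943 = n7712 := d23_1 D10943 (iv D7712) (iv F34299)
theorem F48711 : act 8 n10943 = n7574 := d44_1 D10943 (iv D7574) (iv D5225) (iv F24215) D7538
def n10944 : Q := act 4 n7540
theorem D10944 : act 4 n7540 = n10944 := rfl
theorem F48712 : act 0 n10944 = n7713 := d3_1 D10944 (iv D7713) (iv F34306)
theorem F48713 : act 1 n10944 = n7542 := d11_1 D10944 (iv D7542) (iv F34307)
theorem F48715 : act 5 n10944 = n10944 := d30_2 D7540 D10944 (iv D10944) (iv D7540) F24226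
theorem F48716 : act 7 n10944 = n10944 := d32_2 F34309 D10944 (iv D10944)
def n10945 : Q := act 6 n7540
theorem D10945 : act 6 n7540 = n10945 := rfl
theorem F48717 : act 0 n10945 = n7714 := d5_1 D10945 (iv D7714) (iv F34306)
theorem F48718 : act 1 n10945 = n7543 := d13_1 D10945 (iv D7543) (iv F34307)
def n10946 : Q := act 8 n7540
theorem D10946 : act 8 n7540 = n10946 := rfl
theorem F48721 : act 1 n10946 = n7544 := d15_1 D10946 (iv D7544) (iv F34307)
theorem F48723 : act 5 n10946 = n7541 := d37_1 D10946 (iv D7541) D7540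
def n10947 : Q := act 3 n7541
theorem D10947 : act 3 n7541 = n10947 := rfl
def n10949 : Q := act 3 n7542
theorem D10949 : act 3 n7542 = n10949 := rfl
theorem F48733 : act 0 n10949 = n7552 := d2_1 D10949 (iv D7552) (iv F34315)
theorem F48734 : act 2 n10949 = n10949 := d17_1 D10949 (iv D10949) F34316 F24237 (iv F34316)
theorem F48735 : act 5 n10949 = n10949 := d25_2 F34317 D10949 (iv D10949)
theorem F48736 : act 7 n10949 = n10949 := d27_2 F34318 D10949 (iv D10949)
def n10950 : Q := act 6 n7542
theorem D10950 : act 6 n7542 = n10950 := rfl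
theorem F48737 : act 0 n10950 = n7553 := d5_1 D10950 (iv D7553) (iv F34315)
theorem F48738 : act 2 n10950 = n7547 := d20_1 D10950 (iv D7547) (iv F34316)
theorem F48739 : act 4 n10950 = n7543 := d31_1 D10950 (iv D7543) D7542
def n10951 : Q := act 8 n7542
theorem D10951 : act 8 n7542 = n10951 := rfl
theorem F48740 : act 0 n10951 = n7554 := d7_1 D10951 (iv D7554) (iv F34315)
theorem F48741 : act 2 n10951 = n7548 := d22_1 D10951 (iv D7548) (iv F34316)
theorem F48742 : act 4 n10951 = n7544 := d33_1 D10951 (iv D7544) D7542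
theorem F48743 : act 5 n10951 = n10951 := d37_1 D10951 (iv D10951) F34317
theorem F48744 : act 7 n10951 = n10951 := d42_1 D10951 (iv D10951) F34318
def n10952 : Q := act 7 n7543
theorem D10952 : act 7 n7543 = n10952 := rfl
theorem F48745 : act 0 n10952 = n7555 := d6_1 D10952 (iv D7555) (iv F34319)
theorem F48746 : act 2 n10952 = n7549 := d21_1 D10952 (iv D7549) (iv F34320)
theorem F48747 : act 6 n10952 = n10952 := d39_1 D10952 (iv D10952) (iv D7543) F24230 D7543
def n10953 : Q := act 8 n7543
theorem D10953 : act 8 n7543 = n10953 := rfl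
theorem F48748 : act 0 n10953 = n7556 := d7_1 D10953 (iv D7556) (iv F34319)
theorem F48749 : act 2 n10953 = n7550 := d22_1 D10953 (iv D7550) (iv F34320)
theorem F48750 : act 6 n10953 = n7544 := d40_1 D10953 (iv D7544) D7543
def n10954 : Q := act 3 n7544
theorem D10954 : act 3 n7544 = n10954 := rfl
theorem F48753 : act 5 n10954 = n7545 := d25_2 (iv F34323) D10954 (iv D7545)
def n10955 : Q := act 9 n7544
theorem D10955 : act 9 n7544 = n10955 := rfl
def n10956 : Q := act 4 n7545
theorem D10956 : act 4 n7545 = n10956 := rfl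
def n10957 : Q := act 9 n7545
theorem D10957 : act 9 n7545 = n10957 := rfl
theorem F48765 : act 3 n10957 = n7546 := d29_1 D10957 (iv D7546) D7545
def n10958 : Q := act 5 n7547
theorem D10958 : act 5 n7547 = n10958 := rfl
theorem F48767 : act 0 n10958 = n7561 := d4_1 D10958 (iv D7561) (iv F34332)
theorem F48768 : act 1 n10958 = n8470 := d12_1 D10958 (iv D8470) (iv F34333)
def n10959 : Q := act 7 n7547
theorem D10959 : act 7 n7547 = n10959 := rfl
theorem F48771 : act 0 n10959 = n7562 := d6_1 D10959 (iv D7562) (iv F34332)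
theorem F48774 : act 4 n10959 = n7549 := d32_1 D10959 (iv D7549) (iv F34335)
def n10960 : Q := act 8 n7547
theorem D10960 : act 8 n7547 = n10960 := rfl
theorem F48776 : act 0 n10960 = n7563 := d7_1 D10960 (iv D7563) (iv F34332)
theorem F48778 : act 4 n10960 = n7550 := d33_1 D10960 (iv D7550) (iv F34335)
theorem F48779 : act 6 n10960 = n7548 := d40_1 D10960 (iv D7548) D7547
def n10961 : Q := act 3 n7548
theorem D10961 : act 3 n7548 = n10961 := rfl
theorem F48780 : act 0 n10961 = n7564 := d2_1 D10961 (iv D7564) (iv F34336)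
theorem F48781 : act 1 n10961 = n8473 := d10_1 D10961 (iv D8473) (iv F34337)
theorem F48782 : act 4 n10961 = n10961 := d24_2 (iv F34338) D10961 (iv D10961) F34338 F24245
theorem F48783 : act 5 n10961 = n10961 := d25_2 F34339 D10961 (iv D10961)
theorem F48784 : act 7 n10961 = n10961 := d27_2 F34340 D10961 (iv D10961)
theorem F48785 : act 8 n10961 = n10961 := d28_2 D7548 D10961 (iv D10961) (iv D7548) F24237
def n10962 : Q := act 9 n7548
theorem D10962 : act 9 n7548 = n10962 := rfl
theorem F48786 : act 0 n10962 = n7565 := d8_1 D10962 (iv D7565) (iv F34336)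
def n10963 : Q := act 8 n7549
theorem D10963 : act 8 n7549 = n10963 := rfl
theorem F48791 : act 0 n10963 = n7566 := d7_1 D10963 (iv D7566) (iv F34341)
theorem F48793 : act 3 n10963 = n10963 := d28_1 D10963 (iv D10963) F34343 F24257 (iv F34343)
theorem F48794 : act 6 n10963 = n10963 := d40_1 D10963 (iv D10963) F34344
theorem F48795 : act 7 n10963 = n7550 := d42_1 D10963 (iv D7550) D7549
def n10964 : Q := act 9 n7550
theorem D10964 : act 9 n7550 = n10964 := rfl
theorem F48796 : act 0 n10964 = n7567 := d8_1 D10964 (iv D7567) (iv F34345)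
theorem F48797 : act 1 n10964 = n8476 := d16_1 D10964 (iv D8476) (iv F34346)
def n10965 : Q := act 6 n7552
theorem D10965 : act 6 n7552 = n10965 := rfl
theorem F48800 : act 1 n10965 = n7733 := d13_1 D10965 (iv D7733) (iv F34354)
theorem F48801 : act 2 n10965 = n10965 := d20_1 D10965 (iv D10965) F34355
theorem F48802 : act 3 n10965 = n7553 := d26_1 D10965 (iv D7553) D7552
def n10966 : Q := act 8 n7552
theorem D10966 : act 8 n7552 = n10966 := rfl
theorem F48803 : act 1 n10966 = n7734 := d15_1 D10966 (iv D7734) (iv F34354)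
theorem F48804 : act 2 n10966 = n10966 := d22_1 D10966 (iv D10966) F34355
theorem F48805 : act 5 n10966 = n10966 := d37_1 D10966 (iv D10966) F34356
theorem F48806 : act 7 n10966 = n10966 := d42_1 D10966 (iv D10966) F34357
def n10967 : Q := act 5 n7553
theorem D10967 : act 5 n7553 = n10967 := rfl
theorem F48807 : act 1 n10967 = n7735 := d12_1 D10967 (iv D7735) (iv F34358)
theorem F48808 : act 2 n10967 = n7561 := d19_1 D10967 (iv D7561) (iv F34359)
theorem F48809 : act 6 n10967 = n10967 := d35_2 D7553 D10967 (iv D10967) (iv D7553) F24260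
def n10968 : Q := act 7 n7553
theorem D10968 : act 7 n7553 = n10968 := rfl
theorem F48810 : act 1 n10968 = n7736 := d14_1 D10968 (iv D7736) (iv F34358)
theorem F48811 : act 2 n10968 = n7562 := d21_1 D10968 (iv D7562) (iv F34359)
theorem F48812 : act 4 n10968 = n7555 := d32_1 D10968 (iv D7555) (iv F34360)
theorem F48813 : act 6 n10968 = n10968 := d39_1 D10968 (iv D10968) (iv D7553) F24261 D7553
def n10969 : Q := act 8 n7553
theorem D10969 : act 8 n7553 = n10969 := rfl
theorem F48814 : act 1 n10969 = n7737 := d15_1 D10969 (iv D7737) (iv F34358)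
theorem F48815 : act 2 n10969 = n7563 := d22_1 D10969 (iv D7563) (iv F34359)
theorem F48816 : act 4 n10969 = n7556 := d33_1 D10969 (iv D7556) (iv F34360)
theorem F48817 : act 6 n10969 = n7554 := d40_1 D10969 (iv D7554) D7553
def n10970 : Q := act 3 n7554
theorem D10970 : act 3 n7554 = n10970 := rfl
theorem F48818 : act 1 n10970 = n7738 := d10_1 D10970 (iv D7738) (iv F34361)
theorem F48819 : act 5 n10970 = n10970 := d25_2 F34364 D10970 (iv D10970)
theorem F48820 : act 7 n10970 = n10970 := d27_2 F34365 D10970 (iv D10970)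
def n10971 : Q := act 9 n7554
theorem D10971 : act 9 n7554 = n10971 := rfl
theorem F48822 : act 2 n10971 = n7565 := d23_1 D10971 (iv D7565) (iv F34362)
theorem F48823 : act 4 n10971 = n7558 := d34_1 D10971 (iv D7558) (iv F34363)
def n10972 : Q := act 8 n7555
theorem D10972 : act 8 n7555 = n10972 := rfl
theorem F48826 : act 1 n10972 = n7740 := d15_1 D10972 (iv D7740) (iv F34366)
theorem F48827 : act 2 n10972 = n7566 := d22_1 D10972 (iv D7566) (iv F34367)
theorem F48828 : act 6 n10972 = n10972 := d40_1 D10972 (iv D10972) F34368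
theorem F48829 : act 7 n10972 = n7556 := d42_1 D10972 (iv D7556) D7555
def n10973 : Q := act 3 n7556
theorem D10973 : act 3 n7556 = n10973 := rfl
theorem F48830 : act 1 n10973 = n7741 := d10_1 D10973 (iv D7741) (iv F34369)
theorem F48831 : act 2 n10973 = n10973 := d17_1 D10973 (iv D10973) F34370 F24286 (iv F34370)
theorem F48832 : act 6 n10973 = n7557 := d26_2 (iv F34371) D10973 (iv D7557)
def n10974 : Q := act 9 n7556
theorem D10974 : act 9 n7556 = n10974 := rfl
theorem F48834 : act 2 n10974 = n7567 := d23_1 D10974 (iv D7567) (iv F34370)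
def n10975 : Q := act 4 n7557
theorem D10975 : act 4 n7557 = n10975 := rfl
theorem F48836 : act 1 n10975 = n7743 := d11_1 D10975 (iv D7743) (iv F34372)
theorem F48837 : act 2 n10975 = n10975 := d18_1 D10975 (iv D10975) F34373
theorem F48838 : act 7 n10975 = n10975 := d32_2 F34375 D10975 (iv D10975)
def n10976 : Q := act 9 n7557
theorem D10976 : act 9 n7557 = n10976 := rfl
theorem F48842 : act 5 n10976 = n7560 := d38_1 D10976 (iv D7560) (iv F34374)
def n10977 : Q := act 5 n7559
theorem D10977 : act 5 n7559 = n10977 := rfl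
theorem F48844 : act 1 n10977 = n7745 := d12_1 D10977 (iv D7745) (iv F34380)
theorem F48845 : act 2 n10977 = n10977 := d19_1 D10977 (iv D10977) F34381
theorem F48846 : act 3 n10977 = n10977 := d25_1 D10977 (iv D10977) F34382
theorem F48847 : act 7 n10977 = n10977 := d36_2 F34383 D10977 (iv D10977)
def n10978 : Q := act 9 n7559
theorem D10978 : act 9 n7559 = n10978 := rfl
theorem F48848 : act 1 n10978 = n7746 := d16_1 D10978 (iv D7746) (iv F34380)
theorem F48851 : act 4 n10978 = n7560 := d34_1 D10978 (iv D7560) D7559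
def n10979 : Q := act 8 n7560
theorem D10979 : act 8 n7560 = n10979 := rfl
def n10980 : Q := act 7 n7561
theorem D10980 : act 7 n7561 = n10980 := rfl
theorem F48858 : act 5 n10980 = n7562 := d36_1 D10980 (iv D7562) D7561
def n10981 : Q := act 8 n7561
theorem D10981 : act 8 n7561 = n10981 := rfl
theorem F48859 : act 1 n10981 = n7569 := d15_1 D10981 (iv D7569) (iv F34388)
theorem F48860 : act 5 n10981 = n7563 := d37_1 D10981 (iv D7563) D7561
def n10982 : Q := act 8 n7562
theorem D10982 : act 8 n7562 = n10982 := rfl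
theorem F48863 : act 4 n10982 = n7566 := d33_1 D10982 (iv D7566) (iv F34393)
theorem F48865 : act 7 n10982 = n7563 := d42_1 D10982 (iv D7563) D7562
def n10983 : Q := act 3 n7563
theorem D10983 : act 3 n7563 = n10983 := rfl
theorem F48868 : act 6 n10983 = n7564 := d26_2 (iv F34397) D10983 (iv D7564)
def n10984 : Q := act 9 n7563
theorem D10984 : act 9 n7563 = n10984 := rfl
theorem F48870 : act 1 n10984 = n7572 := d16_1 D10984 (iv D7572) (iv F34395)
theorem F48871 : act 4 n10984 = n7567 := d34_1 D10984 (iv D7567) (iv F34396)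
theorem F48872 : act 6 n10984 = n7565 := d41_1 D10984 (iv D7565) (iv F34397)
def n10985 : Q := act 2 n7564
theorem D10985 : act 2 n7564 = n10985 := rfl
theorem F48873 : act 1 n10985 = n10985 := d9_1 D10985 (iv D10985) F34398 F24306 (iv F34398)
theorem F48874 : act 4 n10985 = n10985 := d18_2 F34399 D10985 (iv D10985)
theorem F48875 : act 5 n10985 = n10985 := d19_2 F34400 D10985 (iv D10985)
theorem F48876 : act 7 n10985 = n10985 := d21_2 F34401 D10985 (iv D10985)
theorem F48877 : act 8 n10985 = n10985 := d22_2 F34402 D10985 (iv D10985)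
def n10986 : Q := act 9 n7564
theorem D10986 : act 9 n7564 = n10986 := rfl
theorem F48878 : act 1 n10986 = n7573 := d16_1 D10986 (iv D7573) (iv F34398)
theorem F48879 : act 3 n10986 = n7565 := d29_1 D10986 (iv D7565) D7564
theorem F48880 : act 4 n10986 = n10986 := d34_1 D10986 (iv D10986) F34399
theorem F48881 : act 5 n10986 = n10986 := d38_1 D10986 (iv D10986) F34400
theorem F48882 : act 7 n10986 = n10986 := d43_1 D10986 (iv D10986) F34401
def n10987 : Q := act 9 n7566
theorem D10987 : act 9 n7566 = n10987 := rfl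
theorem F48883 : act 1 n10987 = n7574 := d16_1 D10987 (iv D7574) (iv F34407)
theorem F48884 : act 3 n10987 = n10987 := d29_1 D10987 (iv D10987) F34408
theorem F48885 : act 6 n10987 = n10987 := d41_1 D10987 (iv D10987) F34409
theorem F48886 : act 7 n10987 = n7567 := d43_1 D10987 (iv D7567) (iv F34410)
def n10989 : Q := act 8 n7568
theorem D10989 : act 8 n7568 = n10989 := rfl
theorem F48894 : act 5 n10989 = n7570 := d37_1 D10989 (iv D7570) (iv F34417)
def n10990 : Q := act 3 n7569
theorem D10990 : act 3 n7569 = n10990 := rfl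
theorem F48898 : act 5 n10990 = n7571 := d25_2 (iv F34420) D10990 (iv D7571)
def n10991 : Q := act 9 n7569
theorem D10991 : act 9 n7569 = n10991 := rfl
theorem F48903 : act 5 n10991 = n7572 := d38_1 D10991 (iv D7572) (iv F34420)
def n10993 : Q := act 9 n7570
theorem D10993 : act 9 n7570 = n10993 := rfl
theorem F48913 : act 4 n10993 = n7574 := d34_1 D10993 (iv D7574) (iv F34424)
def n10994 : Q := act 9 n7571
theorem D10994 : act 9 n7571 = n10994 := rfl
theorem F48918 : act 3 n10994 = n7572 := d29_1 D10994 (iv D7572) D7571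
theorem F48920 : act 6 n10994 = n7573 := d41_1 D10994 (iv D7573) (iv F34430)
def n10995 : Q := act 8 n7573
theorem D10995 : act 8 n7573 = n10995 := rfl
def n10996 : Q := act 1 n7575
theorem D10996 : act 1 n7575 = n10996 := rfl
theorem F48927 : act 2 n10996 = n8508 := d9_2 D7575 D10996 (iv D8508) (iv D5868) (iv F24326)
theorem F48930 : act 7 n10996 = n7616 := d14_2 (iv F34450) D10996 (iv D7616)
theorem F48931 : act 9 n10996 = n7591 := d16_2 (iv F34451) D10996 (iv D7591)
def n10997 : Q := act 5 n7575
theorem D10997 : act 5 n7575 = n10997 := rfl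
theorem F48932 : act 0 n10997 = n7579 := d4_1 D10997 (iv D7579) (iv F34447)
theorem F48933 : act 2 n10997 = n7576 := d19_1 D10997 (iv D7576) D7575
theorem F48934 : act 7 n10997 = n7617 := d36_2 (iv F34450) D10997 (iv D7617)
theorem F48935 : act 9 n10997 = n7592 := d38_2 (iv F34451) D10997 (iv D7592)
def n10998 : Q := act 8 n7575
theorem D10998 : act 8 n7575 = n10998 := rfl
theorem F48936 : act 0 n10998 = n7580 := d7_1 D10998 (iv D7580) (iv F34447)
theorem F48940 : act 7 n10998 = n7618 := d42_1 D10998 (iv D7618) (iv F34450)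
def n10999 : Q := act 4 n7576
theorem D10999 : act 4 n7576 = n10999 := rfl
theorem F48941 : act 0 n10999 = n7581 := d3_1 D10999 (iv D7581) (iv F34452)
theorem F48942 : act 1 n10999 = n8511 := d11_1 D10999 (iv D8511) (iv F34453)
theorem F48943 : act 3 n10999 = n10999 := d24_1 D10999 (iv D10999) F34454 F24333 (iv F34454)
theorem F48944 : act 5 n10999 = n10999 := d30_2 D7576 D10999 (iv D10999) (iv D7576) F24327
theorem F48945 : act 7 n10999 = n7619 := d32_2 (iv F34455) D10999 (iv D7619)
theorem F48946 : act 9 n10999 = n7594 := d34_2 (iv F34456) D10999 (iv D7594)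
def n11000 : Q := act 6 n7576
theorem D11000 : act 6 n7576 = n11000 := rfl
theorem F48947 : act 0 n11000 = n7582 := d5_1 D11000 (iv D7582) (iv F34452)
theorem F48949 : act 3 n11000 = n7578 := d26_1 D11000 (iv D7578) (iv F34454)
theorem F48950 : act 5 n11000 = n11000 := d35_1 D11000 (iv D11000) (iv D7576) F24328 D7576
theorem F48951 : act 9 n11000 = n7595 := d41_2 (iv F34456) D11000 (iv D7595)
def n11001 : Q := act 8 n7576
theorem D11001 : act 8 n7576 = n11001 := rfl
theorem F48952 : act 0 n11001 = n7583 := d7_1 D11001 (iv D7583) (iv F34452)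
theorem F48953 : act 1 n11001 = n8513 := d15_1 D11001 (iv D8513) (iv F34453)
def n11002 : Q := act 9 n7577
theorem D11002 : act 9 n7577 = n11002 := rfl
theorem F48957 : act 0 n11002 = n7584 := d8_1 D11002 (iv D7584) (iv F34457)
theorem F48958 : act 1 n11002 = n8514 := d16_1 D11002 (iv D8514) (iv F34458)
theorem F48962 : act 7 n11002 = n7622 := d43_1 D11002 (iv D7622) (iv F34462)
def n11003 : Q := act 7 n7578
theorem D11003 : act 7 n7578 = n11003 := rfl
theorem F48964 : act 0 n11003 = n7585 := d6_1 D11003 (iv D7585) (iv F34463)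
theorem F48966 : act 4 n11003 = n11003 := d32_1 D11003 (iv D11003) F34465
theorem F48967 : act 5 n11003 = n11003 := d36_1 D11003 (iv D11003) F34466
theorem F48968 : act 6 n11003 = n7623 := d39_1 D11003 (iv D7623) (iv D5257) (iv F24334) D7578
theorem F48969 : act 8 n11003 = n11003 := d42_2 F34467 D11003 (iv D11003)
theorem F48970 : act 9 n11003 = n7598 := d43_2 (iv F34468) D11003 (iv D7598)
def n11004 : Q := act 4 n7579
theorem D11004 : act 4 n7579 = n11004 := rfl
theorem F48971 : act 2 n11004 = n7581 := d18_1 D11004 (iv D7581) (iv F34469)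
theorem F48972 : act 5 n11004 = n11004 := d30_2 D7579 D11004 (iv D11004) (iv D7579) F24337
theorem F48973 : act 7 n11004 = n7624 := d32_2 (iv F34470) D11004 (iv D7624)
theorem F48974 : act 9 n11004 = n7599 := d34_2 (iv F34471) D11004 (iv D7599)
def n11005 : Q := act 6 n7579
theorem D11005 : act 6 n7579 = n11005 := rfl
theorem F48975 : act 2 n11005 = n7582 := d20_1 D11005 (iv D7582) (iv F34469)
theorem F48976 : act 5 n11005 = n11005 := d35_1 D11005 (iv D11005) (iv D7579) F24338 D7579
theorem F48977 : act 9 n11005 = n7600 := d41_2 (iv F34471) D11005 (iv D7600)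
def n11006 : Q := act 8 n7579
theorem D11006 : act 8 n7579 = n11006 := rfl
theorem F48978 : act 2 n11006 = n7583 := d22_1 D11006 (iv D7583) (iv F34469)
theorem F48979 : act 5 n11006 = n7580 := d37_1 D11006 (iv D7580) D7579
theorem F48980 : act 7 n11006 = n7626 := d42_1 D11006 (iv D7626) (iv F34470)
def n11007 : Q := act 3 n7580
theorem D11007 : act 3 n7580 = n11007 := rfl
theorem F48983 : act 7 n11007 = n7627 := d27_2 (iv F34475) D11007 (iv D7627)
def n11008 : Q := act 9 n7580
theorem D11008 : act 9 n7580 = n11008 := rfl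
theorem F48987 : act 7 n11008 = n7628 := d43_1 D11008 (iv D7628) (iv F34475)
theorem F48988 : act 8 n11008 = n7603 := d44_1 D11008 (iv D7603) (iv D5243) (iv F24340) D7580
def n11009 : Q := act 6 n7581
theorem D11009 : act 6 n7581 = n11009 := rfl
theorem F48991 : act 4 n11009 = n7582 := d31_1 D11009 (iv D7582) D7581
theorem F48992 : act 9 n11009 = n7604 := d41_2 (iv F34480) D11009 (iv D7604)
def n11010 : Q := act 8 n7581
theorem D11010 : act 8 n7581 = n11010 := rfl
theorem F48993 : act 1 n11010 = n7587 := d15_1 D11010 (iv D7587) (iv F34476)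
theorem F48994 : act 4 n11010 = n7583 := d33_1 D11010 (iv D7583) D7581
theorem F48996 : act 7 n11010 = n7630 := d42_1 D11010 (iv D7630) (iv F34479)
def n11011 : Q := act 7 n7582
theorem D11011 : act 7 n7582 = n11011 := rfl
theorem F48997 : act 1 n11011 = n7588 := d14_1 D11011 (iv D7588) (iv F34481)
theorem F49000 : act 6 n11011 = n7631 := d39_1 D11011 (iv D7631) (iv D5261) (iv F24343) D7582
theorem F49001 : act 9 n11011 = n7606 := d43_2 (iv F34484) D11011 (iv D7606)
def n11012 : Q := act 8 n7582
theorem D11012 : act 8 n7582 = n11012 := rfl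
theorem F49002 : act 1 n11012 = n7589 := d15_1 D11012 (iv D7589) (iv F34481)
theorem F49005 : act 6 n11012 = n7583 := d40_1 D11012 (iv D7583) D7582
def n11013 : Q := act 9 n7583
theorem D11013 : act 9 n7583 = n11013 := rfl
theorem F49006 : act 1 n11013 = n7590 := d16_1 D11013 (iv D7590) (iv F34485)
theorem F49010 : act 8 n11013 = n7608 := d44_1 D11013 (iv D7608) (iv D5246) (iv F24344) D7583
def n11014 : Q := act 5 n7586
theorem D11014 : act 5 n7586 = n11014 := rfl
theorem F49015 : act 9 n11014 = n7609 := d38_2 (iv F34504) D11014 (iv D7609)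
def n11015 : Q := act 7 n7586
theorem D11015 : act 7 n7586 = n11015 := rfl
theorem F49018 : act 4 n11015 = n7588 := d32_1 D11015 (iv D7588) (iv F34503)
theorem F49020 : act 9 n11015 = n7610 := d43_2 (iv F34504) D11015 (iv D7610)
def n11016 : Q := act 8 n7586
theorem D11016 : act 8 n7586 = n11016 := rfl
theorem F49022 : act 4 n11016 = n7589 := d33_1 D11016 (iv D7589) (iv F34503)
def n11017 : Q := act 3 n7587
theorem D11017 : act 3 n7587 = n11017 := rfl
theorem F49027 : act 7 n11017 = n7637 := d27_2 (iv F34508) D11017 (iv D7637)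
def n11018 : Q := act 9 n7587
theorem D11018 : act 9 n7587 = n11018 := rfl
theorem F49030 : act 4 n11018 = n7590 := d34_1 D11018 (iv D7590) (iv F34506)
theorem F49033 : act 8 n11018 = n7613 := d44_1 D11018 (iv D7613) (iv D5250) (iv F24359) D7587
def n11019 : Q := act 8 n7588
theorem D11019 : act 8 n7588 = n11019 := rfl
theorem F49037 : act 6 n11019 = n7639 := d40_1 D11019 (iv D7639) (iv F34512)
theorem F49038 : act 7 n11019 = n7589 := d42_1 D11019 (iv D7589) D7588
def n11020 : Q := act 9 n7589
theorem D11020 : act 9 n7589 = n11020 := rfl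
theorem F49042 : act 6 n11020 = n7590 := d41_1 D11020 (iv D7590) (iv F34517)
theorem F49043 : act 8 n11020 = n7615 := d44_1 D11020 (iv D7615) (iv D5252) (iv F24363) D7589
def n11021 : Q := act 5 n7591
theorem D11021 : act 5 n7591 = n11021 := rfl
theorem F49044 : act 1 n11021 = n7592 := d12_1 D11021 (iv D7592) D7591
theorem F49046 : act 7 n11021 = n7641 := d36_2 (iv F34526) D11021 (iv D7641)
def n11022 : Q := act 8 n7591
theorem D11022 : act 8 n7591 = n11022 := rfl
theorem F49047 : act 1 n11022 = n7593 := d15_1 D11022 (iv D7593) D7591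
def n11023 : Q := act 4 n7592
theorem D11023 : act 4 n7592 = n11023 := rfl
theorem F49052 : act 0 n11023 = n7599 := d3_1 D11023 (iv D7599) (iv F34527)
theorem F49053 : act 2 n11023 = n7594 := d18_1 D11023 (iv D7594) (iv F34528)
theorem F49054 : act 5 n11023 = n11023 := d30_2 D7592 D11023 (iv D11023) (iv D7592) F24382
theorem F49055 : act 7 n11023 = n7643 := d32_2 (iv F34529) D11023 (iv D7643)
def n11024 : Q := act 6 n7592
theorem D11024 : act 6 n7592 = n11024 := rfl
theorem F49056 : act 0 n11024 = n7600 := d5_1 D11024 (iv D7600) (iv F34527)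
theorem F49057 : act 2 n11024 = n7595 := d20_1 D11024 (iv D7595) (iv F34528)
theorem F49058 : act 5 n11024 = n11024 := d35_1 D11024 (iv D11024) (iv D7592) F24383 D7592
def n11025 : Q := act 8 n7592
theorem D11025 : act 8 n7592 = n11025 := rfl
theorem F49059 : act 0 n11025 = n7601 := d7_1 D11025 (iv D7601) (iv F34527)
theorem F49060 : act 2 n11025 = n7596 := d22_1 D11025 (iv D7596) (iv F34528)
theorem F49062 : act 7 n11025 = n7645 := d42_1 D11025 (iv D7645) (iv F34529)
def n11026 : Q := act 3 n7593
theorem D11026 : act 3 n7593 = n11026 := rfl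
theorem F49064 : act 2 n11026 = n7813 := d17_1 D11026 (iv D7813) F25020 (iv F24391) (iv F34531)
def n11027 : Q := act 9 n7593
theorem D11027 : act 9 n7593 = n11027 := rfl
theorem F49067 : act 0 n11027 = n7603 := d8_1 D11027 (iv D7603) (iv F34530)
def n11028 : Q := act 6 n7594
theorem D11028 : act 6 n7594 = n11028 := rfl
theorem F49075 : act 4 n11028 = n7595 := d31_1 D11028 (iv D7595) D7594
def n11029 : Q := act 8 n7594
theorem D11029 : act 8 n7594 = n11029 := rfl
theorem F49076 : act 0 n11029 = n7605 := d7_1 D11029 (iv D7605) (iv F34535)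
theorem F49078 : act 4 n11029 = n7596 := d33_1 D11029 (iv D7596) D7594
theorem F49080 : act 7 n11029 = n7649 := d42_1 D11029 (iv D7649) (iv F34539)
def n11030 : Q := act 7 n7595
theorem D11030 : act 7 n7595 = n11030 := rfl
theorem F49083 : act 3 n11030 = n7598 := d27_1 D11030 (iv D7598) (iv F34542)
theorem F49085 : act 6 n11030 = n7650 := d39_1 D11030 (iv D7650) (iv D5274) (iv F24388) D7595
def n11031 : Q := act 8 n7595
theorem D11031 : act 8 n7595 = n11031 := rfl
theorem F49086 : act 0 n11031 = n7607 := d7_1 D11031 (iv D7607) (iv F34540)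
theorem F49088 : act 3 n11031 = n7818 := d28_1 D11031 (iv D7818) F25032 (iv F24399) (iv F34542)
def n11032 : Q := act 9 n7596
theorem D11032 : act 9 n7596 = n11032 := rfl
theorem F49091 : act 0 n11032 = n7608 := d8_1 D11032 (iv D7608) (iv F34544)
theorem F49093 : act 3 n11032 = n7819 := d29_1 D11032 (iv D7819) (iv F34546)
def n11033 : Q := act 3 n7599
theorem D11033 : act 3 n7599 = n11033 := rfl
theorem F49096 : act 2 n11033 = n11033 := d17_1 D11033 (iv D11033) F34561 F24407 (iv F34561)
theorem F49097 : act 5 n11033 = n11033 := d25_2 F34562 D11033 (iv D11033)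
theorem F49098 : act 7 n11033 = n7653 := d27_2 (iv F34563) D11033 (iv D7653)
def n11034 : Q := act 6 n7599
theorem D11034 : act 6 n7599 = n11034 := rfl
theorem F49099 : act 2 n11034 = n7604 := d20_1 D11034 (iv D7604) (iv F34561)
theorem F49100 : act 4 n11034 = n7600 := d31_1 D11034 (iv D7600) D7599
def n11035 : Q := act 8 n7599
theorem D11035 : act 8 n7599 = n11035 := rfl
theorem F49101 : act 2 n11035 = n7605 := d22_1 D11035 (iv D7605) (iv F34561)
theorem F49104 : act 7 n11035 = n7655 := d42_1 D11035 (iv D7655) (iv F34563)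
def n11036 : Q := act 7 n7600
theorem D11036 : act 7 n7600 = n11036 := rfl
theorem F49105 : act 2 n11036 = n7606 := d21_1 D11036 (iv D7606) (iv F34564)
theorem F49107 : act 6 n11036 = n7656 := d39_1 D11036 (iv D7656) (iv D5279) (iv F24401) D7600
def n11037 : Q := act 8 n7600
theorem D11037 : act 8 n7600 = n11037 := rfl
theorem F49108 : act 2 n11037 = n7607 := d22_1 D11037 (iv D7607) (iv F34564)
theorem F49110 : act 6 n11037 = n7601 := d40_1 D11037 (iv D7601) D7600
def n11038 : Q := act 3 n7601
theorem D11038 : act 3 n7601 = n11038 := rfl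
theorem F49111 : act 2 n11038 = n7825 := d17_1 D11038 (iv D7825) F25061 (iv F24414) (iv F34566)
theorem F49112 : act 5 n11038 = n7602 := d25_2 (iv F34567) D11038 (iv D7602)
theorem F49113 : act 7 n11038 = n7658 := d27_2 (iv F34568) D11038 (iv D7658)
def n11039 : Q := act 9 n7601
theorem D11039 : act 9 n7601 = n11039 := rfl
def n11040 : Q := act 4 n7602
theorem D11040 : act 4 n7602 = n11040 := rfl
theorem F49117 : act 2 n11040 = n7827 := d18_1 D11040 (iv D7827) (iv F34569)
theorem F49118 : act 3 n11040 = n11040 := d24_1 D11040 (iv D11040) (iv D7602) F24403 D7602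
theorem F49119 : act 6 n11040 = n11040 := d31_2 F34570 D11040 (iv D11040)
theorem F49120 : act 7 n11040 = n7660 := d32_2 (iv F34571) D11040 (iv D7660)
def n11041 : Q := act 9 n7602
theorem D11041 : act 9 n7602 = n11041 := rfl
theorem F49121 : act 2 n11041 = n7828 := d23_1 D11041 (iv D7828) (iv F34569)
theorem F49122 : act 3 n11041 = n7603 := d29_1 D11041 (iv D7603) D7602
theorem F49124 : act 7 n11041 = n7661 := d43_1 D11041 (iv D7661) (iv F34571)
def n11042 : Q := act 5 n7604
theorem D11042 : act 5 n7604 = n11042 := rfl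
theorem F49125 : act 1 n11042 = n7609 := d12_1 D11042 (iv D7609) (iv F34576)
def n11043 : Q := act 7 n7604
theorem D11043 : act 7 n7604 = n11043 := rfl
theorem F49131 : act 4 n11043 = n7606 := d32_1 D11043 (iv D7606) (iv F34578)
theorem F49132 : act 6 n11043 = n7663 := d39_1 D11043 (iv D7663) (iv D5283) (iv F24409) D7604
def n11044 : Q := act 8 n7604
theorem D11044 : act 8 n7604 = n11044 := rfl
theorem F49133 : act 1 n11044 = n7611 := d15_1 D11044 (iv D7611) (iv F34576)
theorem F49134 : act 4 n11044 = n7607 := d33_1 D11044 (iv D7607) (iv F34578)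
theorem F49135 : act 6 n11044 = n7605 := d40_1 D11044 (iv D7605) D7604
def n11045 : Q := act 3 n7605
theorem D11045 : act 3 n7605 = n11045 := rfl
theorem F49137 : act 4 n11045 = n7832 := d24_2 (iv F34580) D11045 (iv D7832) F25078 (iv F24414)
theorem F49139 : act 7 n11045 = n7665 := d27_2 (iv F34582) D11045 (iv D7665)
def n11046 : Q := act 9 n7605
theorem D11046 : act 9 n7605 = n11046 := rfl
def n11047 : Q := act 8 n7606
theorem D11047 : act 8 n7606 = n11047 := rfl
theorem F49146 : act 3 n11047 = n7834 := d28_1 D11047 (iv D7834) F25082 (iv F24426) (iv F34584)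
theorem F49148 : act 6 n11047 = n7667 := d40_1 D11047 (iv D7667) (iv F34586)
theorem F49149 : act 7 n11047 = n7607 := d42_1 D11047 (iv D7607) D7606
def n11048 : Q := act 9 n7607
theorem D11048 : act 9 n7607 = n11048 := rfl
def n11049 : Q := act 7 n7609
theorem D11049 : act 7 n7609 = n11049 := rfl
def n11050 : Q := act 8 n7609
theorem D11050 : act 8 n7609 = n11050 := rfl
theorem F49160 : act 5 n11050 = n7611 := d37_1 D11050 (iv D7611) D7609
def n11051 : Q := act 8 n7610
theorem D11051 : act 8 n7610 = n11051 := rfl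
theorem F49163 : act 4 n11051 = n7614 := d33_1 D11051 (iv D7614) (iv F34601)
theorem F49164 : act 6 n11051 = n7671 := d40_1 D11051 (iv D7671) (iv F34602)
theorem F49165 : act 7 n11051 = n7611 := d42_1 D11051 (iv D7611) D7610
def n11052 : Q := act 3 n7611
theorem D11052 : act 3 n7611 = n11052 := rfl
theorem F49167 : act 4 n11052 = n7839 := d24_2 (iv F34604) D11052 (iv D7839) F25107 (iv F24439)
theorem F49168 : act 6 n11052 = n7612 := d26_2 (iv F34605) D11052 (iv D7612)
def n11053 : Q := act 9 n7611
theorem D11053 : act 9 n7611 = n11053 := rfl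
def n11054 : Q := act 2 n7612
theorem D11054 : act 2 n7612 = n11054 := rfl
theorem F49174 : act 4 n11054 = n7841 := d18_2 (iv F34607) D11054 (iv D7841)
theorem F49176 : act 7 n11054 = n7674 := d21_2 (iv F34609) D11054 (iv D7674)
def n11055 : Q := act 9 n7612
theorem D11055 : act 9 n7612 = n11055 := rfl
theorem F49179 : act 3 n11055 = n7613 := d29_1 D11055 (iv D7613) D7612
theorem F49180 : act 4 n11055 = n7842 := d34_1 D11055 (iv D7842) (iv F34607)
theorem F49182 : act 7 n11055 = n7675 := d43_1 D11055 (iv D7675) (iv F34609)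
def n11056 : Q := act 9 n7614
theorem D11056 : act 9 n7614 = n11056 := rfl
theorem F49184 : act 3 n11056 = n7843 := d29_1 D11056 (iv D7843) (iv F34616)
def n11057 : Q := act 5 n7616
theorem D11057 : act 5 n7616 = n11057 := rfl
theorem F49188 : act 1 n11057 = n7617 := d12_1 D11057 (iv D7617) D7616
theorem F49189 : act 2 n11057 = n8569 := d19_1 D11057 (iv D8569) (iv F34624)
theorem F49190 : act 9 n11057 = n7641 := d38_2 (iv F34627) D11057 (iv D7641)
def n11058 : Q := act 8 n7616
theorem D11058 : act 8 n7616 = n11058 := rfl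
theorem F49191 : act 1 n11058 = n7618 := d15_1 D11058 (iv D7618) D7616
theorem F49192 : act 2 n11058 = n8570 := d22_1 D11058 (iv D8570) (iv F34624)
theorem F49194 : act 6 n11058 = n7678 := d40_1 D11058 (iv D7678) (iv F34626)
def n11059 : Q := act 4 n7617
theorem D11059 : act 4 n7617 = n11059 := rfl
theorem F49195 : act 0 n11059 = n7624 := d3_1 D11059 (iv D7624) (iv F34628)
theorem F49196 : act 2 n11059 = n7619 := d18_1 D11059 (iv D7619) (iv F34629)
theorem F49197 : act 5 n11059 = n11059 := d30_2 D7617 D11059 (iv D11059) (iv D7617) F24447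
theorem F49198 : act 9 n11059 = n7643 := d34_2 (iv F34630) D11059 (iv D7643)
def n11060 : Q := act 6 n7617
theorem D11060 : act 6 n7617 = n11060 := rfl
theorem F49199 : act 0 n11060 = n7625 := d5_1 D11060 (iv D7625) (iv F34628)
theorem F49200 : act 2 n11060 = n7620 := d20_1 D11060 (iv D7620) (iv F34629)
theorem F49201 : act 5 n11060 = n7680 := d35_1 D11060 (iv D7680) (iv D5296) (iv F24448) D7617
theorem F49202 : act 9 n11060 = n7644 := d41_2 (iv F34630) D11060 (iv D7644)
def n11061 : Q := act 8 n7617
theorem D11061 : act 8 n7617 = n11061 := rfl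
def n11062 : Q := act 3 n7618
theorem D11062 : act 3 n7618 = n11062 := rfl
theorem F49208 : act 6 n11062 = n7682 := d26_2 (iv F34634) D11062 (iv D7682)
def n11064 : Q := act 6 n7619
theorem D11064 : act 6 n7619 = n11064 := rfl
theorem F49214 : act 0 n11064 = n7629 := d5_1 D11064 (iv D7629) (iv F34635)
theorem F49215 : act 1 n11064 = n8576 := d13_1 D11064 (iv D8576) (iv F34636)
theorem F49216 : act 3 n11064 = n11064 := d26_1 D11064 (iv D11064) F34637
theorem F49217 : act 4 n11064 = n7620 := d31_1 D11064 (iv D7620) D7619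
theorem F49218 : act 9 n11064 = n7648 := d41_2 (iv F34639) D11064 (iv D7648)
def n11065 : Q := act 8 n7619
theorem D11065 : act 8 n7619 = n11065 := rfl
theorem F49220 : act 1 n11065 = n8577 := d15_1 D11065 (iv D8577) (iv F34636)
def n11066 : Q := act 7 n7620
theorem D11066 : act 7 n7620 = n11066 := rfl
theorem F49223 : act 0 n11066 = n7631 := d6_1 D11066 (iv D7631) (iv F34640)
theorem F49225 : act 3 n11066 = n7623 := d27_1 D11066 (iv D7623) (iv F34642)
theorem F49226 : act 5 n11066 = n7686 := d36_1 D11066 (iv D7686) (iv F34643)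
theorem F49227 : act 9 n11066 = n7650 := d43_2 (iv F34644) D11066 (iv D7650)
def n11069 : Q := act 3 n7624
theorem D11069 : act 3 n7624 = n11069 := rfl
theorem F49238 : act 2 n11069 = n11069 := d17_1 D11069 (iv D11069) F34661 F24471 (iv F34661)
theorem F49239 : act 5 n11069 = n11069 := d25_2 F34662 D11069 (iv D11069)
theorem F49240 : act 9 n11069 = n7653 := d29_2 (iv F34663) D11069 (iv D7653)
def n11070 : Q := act 6 n7624
theorem D11070 : act 6 n7624 = n11070 := rfl
theorem F49241 : act 2 n11070 = n7629 := d20_1 D11070 (iv D7629) (iv F34661)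
theorem F49242 : act 4 n11070 = n7625 := d31_1 D11070 (iv D7625) D7624
theorem F49243 : act 9 n11070 = n7654 := d41_2 (iv F34663) D11070 (iv D7654)
def n11071 : Q := act 8 n7624
theorem D11071 : act 8 n7624 = n11071 := rfl
theorem F49244 : act 2 n11071 = n7630 := d22_1 D11071 (iv D7630) (iv F34661)
theorem F49245 : act 4 n11071 = n7626 := d33_1 D11071 (iv D7626) D7624
theorem F49246 : act 5 n11071 = n11071 := d37_1 D11071 (iv D11071) F34662
def n11072 : Q := act 7 n7625
theorem D11072 : act 7 n7625 = n11072 := rfl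
theorem F49247 : act 2 n11072 = n7631 := d21_1 D11072 (iv D7631) (iv F34664)
theorem F49248 : act 5 n11072 = n7692 := d36_1 D11072 (iv D7692) (iv F34665)
theorem F49249 : act 9 n11072 = n7656 := d43_2 (iv F34666) D11072 (iv D7656)
def n11073 : Q := act 8 n7625
theorem D11073 : act 8 n7625 = n11073 := rfl
theorem F49250 : act 2 n11073 = n7632 := d22_1 D11073 (iv D7632) (iv F34664)
theorem F49251 : act 5 n11073 = n7693 := d37_1 D11073 (iv D7693) (iv F34665)
theorem F49252 : act 6 n11073 = n7626 := d40_1 D11073 (iv D7626) D7625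
def n11074 : Q := act 3 n7626
theorem D11074 : act 3 n7626 = n11074 := rfl
def n11075 : Q := act 9 n7626
theorem D11075 : act 9 n7626 = n11075 := rfl
theorem F49257 : act 8 n11075 = n7659 := d44_1 D11075 (iv D7659) (iv D5280) (iv F24466) D7626
def n11076 : Q := act 4 n7627
theorem D11076 : act 4 n7627 = n11076 := rfl
theorem F49260 : act 6 n11076 = n7696 := d31_2 (iv F34670) D11076 (iv D7696)
def n11077 : Q := act 9 n7627
theorem D11077 : act 9 n7627 = n11077 := rfl
theorem F49262 : act 3 n11077 = n7628 := d29_1 D11077 (iv D7628) D7627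
theorem F49263 : act 6 n11077 = n7697 := d41_1 D11077 (iv D7697) (iv F34670)
def n11078 : Q := act 5 n7629
theorem D11078 : act 5 n7629 = n11078 := rfl
theorem F49266 : act 4 n11078 = n7698 := d30_1 D11078 (iv D7698) F24649 (iv F24476) (iv F34677)
theorem F49268 : act 9 n11078 = n7662 := d38_2 (iv F34678) D11078 (iv D7662)
def n11079 : Q := act 7 n7629
theorem D11079 : act 7 n7629 = n11079 := rfl
theorem F49271 : act 4 n11079 = n7631 := d32_1 D11079 (iv D7631) (iv F34677)
theorem F49272 : act 9 n11079 = n7663 := d43_2 (iv F34678) D11079 (iv D7663)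
def n11080 : Q := act 8 n7629
theorem D11080 : act 8 n7629 = n11080 := rfl
theorem F49273 : act 1 n11080 = n7636 := d15_1 D11080 (iv D7636) (iv F34675)
theorem F49274 : act 4 n11080 = n7632 := d33_1 D11080 (iv D7632) (iv F34677)
theorem F49275 : act 6 n11080 = n7630 := d40_1 D11080 (iv D7630) D7629
def n11081 : Q := act 3 n7630
theorem D11081 : act 3 n7630 = n11081 := rfl
theorem F49276 : act 1 n11081 = n7637 := d10_1 D11081 (iv D7637) (iv F34679)
def n11082 : Q := act 9 n7630
theorem D11082 : act 9 n7630 = n11082 := rfl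
theorem F49280 : act 1 n11082 = n7638 := d16_1 D11082 (iv D7638) (iv F34679)
theorem F49283 : act 8 n11082 = n7666 := d44_1 D11082 (iv D7666) (iv D5284) (iv F24473) D7630
def n11083 : Q := act 8 n7631
theorem D11083 : act 8 n7631 = n11083 := rfl
theorem F49284 : act 1 n11083 = n7639 := d15_1 D11083 (iv D7639) (iv F34682)
theorem F49286 : act 5 n11083 = n7703 := d37_1 D11083 (iv D7703) (iv F34684)
theorem F49287 : act 7 n11083 = n7632 := d42_1 D11083 (iv D7632) D7631
def n11084 : Q := act 9 n7632
theorem D11084 : act 9 n7632 = n11084 := rfl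
theorem F49288 : act 1 n11084 = n7640 := d16_1 D11084 (iv D7640) (iv F34686)
theorem F49292 : act 8 n11084 = n7668 := d44_1 D11084 (iv D7668) (iv D5286) (iv F24477) D7632
def n11085 : Q := act 7 n7634
theorem D11085 : act 7 n7634 = n11085 := rfl
theorem F49296 : act 5 n11085 = n7635 := d36_1 D11085 (iv D7635) D7634
theorem F49297 : act 9 n11085 = n7669 := d43_2 (iv F34698) D11085 (iv D7669)
def n11086 : Q := act 8 n7634
theorem D11086 : act 8 n7634 = n11086 := rfl
theorem F49299 : act 4 n11086 = n7706 := d33_1 D11086 (iv D7706) (iv F34696)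
theorem F49300 : act 5 n11086 = n7636 := d37_1 D11086 (iv D7636) D7634
def n11087 : Q := act 8 n7635
theorem D11087 : act 8 n7635 = n11087 := rfl
theorem F49303 : act 4 n11087 = n7639 := d33_1 D11087 (iv D7639) (iv F34701)
def n11088 : Q := act 3 n7636
theorem D11088 : act 3 n7636 = n11088 := rfl
theorem F49307 : act 6 n11088 = n7637 := d26_2 (iv F34705) D11088 (iv D7637)
def n11089 : Q := act 9 n7636
theorem D11089 : act 9 n7636 = n11089 := rfl
theorem F49310 : act 4 n11089 = n7640 := d34_1 D11089 (iv D7640) (iv F34704)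
theorem F49311 : act 6 n11089 = n7638 := d41_1 D11089 (iv D7638) (iv F34705)
def n11090 : Q := act 2 n7637
theorem D11090 : act 2 n7637 = n11090 := rfl
def n11091 : Q := act 9 n7637
theorem D11091 : act 9 n7637 = n11091 := rfl
theorem F49318 : act 3 n11091 = n7638 := d29_1 D11091 (iv D7638) D7637
def n11092 : Q := act 9 n7639
theorem D11092 : act 9 n7639 = n11092 := rfl
theorem F49323 : act 5 n11092 = n7712 := d38_1 D11092 (iv D7712) (iv F34716)
theorem F49324 : act 7 n11092 = n7640 := d43_1 D11092 (iv D7640) (iv F34717)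
def n11093 : Q := act 4 n7641
theorem D11093 : act 4 n7641 = n11093 := rfl
theorem F49326 : act 1 n11093 = n7643 := d11_1 D11093 (iv D7643) (iv F34723)
theorem F49327 : act 2 n11093 = n8605 := d18_1 D11093 (iv D8605) (iv F34724)
def n11094 : Q := act 6 n7641
theorem D11094 : act 6 n7641 = n11094 := rfl
theorem F49329 : act 1 n11094 = n7644 := d13_1 D11094 (iv D7644) (iv F34723)
theorem F49331 : act 5 n11094 = n7714 := d35_1 D11094 (iv D7714) (iv D5320) (iv F24512) D7641
def n11095 : Q := act 8 n7641
theorem D11095 : act 8 n7641 = n11095 := rfl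
theorem F49332 : act 1 n11095 = n7645 := d15_1 D11095 (iv D7645) (iv F34723)
def n11098 : Q := act 3 n7643
theorem D11098 : act 3 n7643 = n11098 := rfl
theorem F49341 : act 0 n11098 = n7653 := d2_1 D11098 (iv D7653) (iv F34729)
theorem F49342 : act 2 n11098 = n11098 := d17_1 D11098 (iv D11098) F34730 F24521 (iv F34730)
theorem F49343 : act 5 n11098 = n11098 := d25_2 F34731 D11098 (iv D11098)
def n11099 : Q := act 6 n7643
theorem D11099 : act 6 n7643 = n11099 := rfl
theorem F49344 : act 0 n11099 = n7654 := d5_1 D11099 (iv D7654) (iv F34729)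
theorem F49345 : act 2 n11099 = n7648 := d20_1 D11099 (iv D7648) (iv F34730)
theorem F49346 : act 4 n11099 = n7644 := d31_1 D11099 (iv D7644) D7643
def n11100 : Q := act 8 n7643
theorem D11100 : act 8 n7643 = n11100 := rfl
theorem F49347 : act 0 n11100 = n7655 := d7_1 D11100 (iv D7655) (iv F34729)
theorem F49348 : act 2 n11100 = n7649 := d22_1 D11100 (iv D7649) (iv F34730)
theorem F49349 : act 4 n11100 = n7645 := d33_1 D11100 (iv D7645) D7643
def n11101 : Q := act 7 n7644
theorem D11101 : act 7 n7644 = n11101 := rfl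
theorem F49351 : act 0 n11101 = n7656 := d6_1 D11101 (iv D7656) (iv F34732)
theorem F49352 : act 2 n11101 = n7650 := d21_1 D11101 (iv D7650) (iv F34733)
theorem F49353 : act 5 n11101 = n7721 := d36_1 D11101 (iv D7721) (iv F34734)
def n11102 : Q := act 8 n7644
theorem D11102 : act 8 n7644 = n11102 := rfl
theorem F49354 : act 0 n11102 = n7657 := d7_1 D11102 (iv D7657) (iv F34732)
theorem F49355 : act 2 n11102 = n7651 := d22_1 D11102 (iv D7651) (iv F34733)
theorem F49356 : act 5 n11102 = n7722 := d37_1 D11102 (iv D7722) (iv F34734)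
theorem F49357 : act 6 n11102 = n7645 := d40_1 D11102 (iv D7645) D7644
def n11103 : Q := act 3 n7645
theorem D11103 : act 3 n7645 = n11103 := rfl
theorem F49359 : act 2 n11103 = n7854 := d17_1 D11103 (iv D7854) F25147 (iv F24529) (iv F34736)
def n11104 : Q := act 9 n7645
theorem D11104 : act 9 n7645 = n11104 := rfl
def n11105 : Q := act 4 n7646
theorem D11105 : act 4 n7646 = n11105 := rfl
def n11106 : Q := act 9 n7646
theorem D11106 : act 9 n7646 = n11106 := rfl
theorem F49368 : act 0 n11106 = n7661 := d8_1 D11106 (iv D7661) (iv F34738)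
theorem F49369 : act 2 n11106 = n7857 := d23_1 D11106 (iv D7857) (iv F34739)
def n11107 : Q := act 5 n7648
theorem D11107 : act 5 n7648 = n11107 := rfl
theorem F49375 : act 4 n11107 = n7727 := d30_1 D11107 (iv D7727) F24724 (iv F24526) (iv F34748)
def n11108 : Q := act 7 n7648
theorem D11108 : act 7 n7648 = n11108 := rfl
def n11109 : Q := act 8 n7648
theorem D11109 : act 8 n7648 = n11109 := rfl
theorem F49384 : act 6 n11109 = n7649 := d40_1 D11109 (iv D7649) D7648
def n11110 : Q := act 3 n7649
theorem D11110 : act 3 n7649 = n11110 := rfl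
theorem F49387 : act 4 n11110 = n7860 := d24_2 (iv F34751) D11110 (iv D7860) F25164 (iv F24529)
def n11111 : Q := act 9 n7649
theorem D11111 : act 9 n7649 = n11111 := rfl
def n11112 : Q := act 8 n7650
theorem D11112 : act 8 n7650 = n11112 := rfl
theorem F49395 : act 1 n11112 = n8624 := d15_1 D11112 (iv D8624) (iv F34754)
theorem F49396 : act 3 n11112 = n7862 := d28_1 D11112 (iv D7862) F25168 (iv F24540) (iv F34755)
theorem F49397 : act 5 n11112 = n7731 := d37_1 D11112 (iv D7731) (iv F34756)
def n11113 : Q := act 9 n7651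
theorem D11113 : act 9 n7651 = n11113 := rfl
theorem F49401 : act 3 n11113 = n7863 := d29_1 D11113 (iv D7863) (iv F34759)
def n11114 : Q := act 6 n7653
theorem D11114 : act 6 n7653 = n11114 := rfl
theorem F49404 : act 2 n11114 = n11114 := d20_1 D11114 (iv D11114) F34766
theorem F49405 : act 3 n11114 = n7654 := d26_1 D11114 (iv D7654) D7653
def n11115 : Q := act 8 n7653
theorem D11115 : act 8 n7653 = n11115 := rfl
theorem F49406 : act 2 n11115 = n11115 := d22_1 D11115 (iv D11115) F34766
theorem F49407 : act 5 n11115 = n11115 := d37_1 D11115 (iv D11115) F34767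
def n11116 : Q := act 5 n7654
theorem D11116 : act 5 n7654 = n11116 := rfl
theorem F49408 : act 2 n11116 = n7662 := d19_1 D11116 (iv D7662) (iv F34768)
theorem F49409 : act 4 n11116 = n7735 := d30_1 D11116 (iv D7735) F24748 (iv F24544) (iv F34769)
def n11117 : Q := act 7 n7654
theorem D11117 : act 7 n7654 = n11117 := rfl
theorem F49411 : act 2 n11117 = n7663 := d21_1 D11117 (iv D7663) (iv F34768)
theorem F49412 : act 4 n11117 = n7656 := d32_1 D11117 (iv D7656) (iv F34769)
def n11118 : Q := act 8 n7654
theorem D11118 : act 8 n7654 = n11118 := rfl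
theorem F49413 : act 2 n11118 = n7664 := d22_1 D11118 (iv D7664) (iv F34768)
theorem F49414 : act 4 n11118 = n7657 := d33_1 D11118 (iv D7657) (iv F34769)
theorem F49415 : act 6 n11118 = n7655 := d40_1 D11118 (iv D7655) D7654
def n11119 : Q := act 3 n7655
theorem D11119 : act 3 n7655 = n11119 := rfl
theorem F49416 : act 5 n11119 = n11119 := d25_2 F34772 D11119 (iv D11119)
def n11120 : Q := act 9 n7655
theorem D11120 : act 9 n7655 = n11120 := rfl
theorem F49417 : act 2 n11120 = n7666 := d23_1 D11120 (iv D7666) (iv F34770)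
def n11121 : Q := act 8 n7656
theorem D11121 : act 8 n7656 = n11121 := rfl
theorem F49420 : act 2 n11121 = n7667 := d22_1 D11121 (iv D7667) (iv F34773)
theorem F49421 : act 5 n11121 = n7740 := d37_1 D11121 (iv D7740) (iv F34774)
theorem F49422 : act 7 n11121 = n7657 := d42_1 D11121 (iv D7657) D7656
def n11122 : Q := act 3 n7657
theorem D11122 : act 3 n7657 = n11122 := rfl
theorem F49423 : act 2 n11122 = n7871 := d17_1 D11122 (iv D7871) F25197 (iv F24562) (iv F34775)
theorem F49424 : act 5 n11122 = n7741 := d25_2 (iv F34776) D11122 (iv D7741)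
theorem F49425 : act 6 n11122 = n7658 := d26_2 (iv F34777) D11122 (iv D7658)
def n11123 : Q := act 9 n7657
theorem D11123 : act 9 n7657 = n11123 := rfl
theorem F49427 : act 5 n11123 = n7742 := d38_1 D11123 (iv D7742) (iv F34776)
def n11124 : Q := act 4 n7658
theorem D11124 : act 4 n7658 = n11124 := rfl
theorem F49429 : act 2 n11124 = n7873 := d18_1 D11124 (iv D7873) (iv F34778)
def n11125 : Q := act 9 n7658
theorem D11125 : act 9 n7658 = n11125 := rfl
theorem F49430 : act 2 n11125 = n7874 := d23_1 D11125 (iv D7874) (iv F34778)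
theorem F49431 : act 3 n11125 = n7659 := d29_1 D11125 (iv D7659) D7658
def n11126 : Q := act 5 n7660
theorem D11126 : act 5 n7660 = n11126 := rfl
theorem F49433 : act 2 n11126 = n7875 := d19_1 D11126 (iv D7875) (iv F34782)
theorem F49434 : act 3 n11126 = n11126 := d25_1 D11126 (iv D11126) F34783
def n11127 : Q := act 9 n7660
theorem D11127 : act 9 n7660 = n11127 := rfl
theorem F49437 : act 4 n11127 = n7661 := d34_1 D11127 (iv D7661) D7660
theorem F49438 : act 6 n11127 = n7746 := d41_1 D11127 (iv D7746) (iv F34784)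
def n11128 : Q := act 8 n7661
theorem D11128 : act 8 n7661 = n11128 := rfl
def n11129 : Q := act 7 n7662
theorem D11129 : act 7 n7662 = n11129 := rfl
theorem F49443 : act 4 n11129 = n7748 := d32_1 D11129 (iv D7748) (iv F34790)
theorem F49444 : act 5 n11129 = n7663 := d36_1 D11129 (iv D7663) D7662
def n11130 : Q := act 8 n7662
theorem D11130 : act 8 n7662 = n11130 := rfl
theorem F49446 : act 4 n11130 = n7749 := d33_1 D11130 (iv D7749) (iv F34790)
theorem F49447 : act 5 n11130 = n7664 := d37_1 D11130 (iv D7664) D7662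
def n11131 : Q := act 8 n7663
theorem D11131 : act 8 n7663 = n11131 := rfl
theorem F49450 : act 4 n11131 = n7667 := d33_1 D11131 (iv D7667) (iv F34794)
def n11132 : Q := act 3 n7664
theorem D11132 : act 3 n7664 = n11132 := rfl
theorem F49454 : act 6 n11132 = n7665 := d26_2 (iv F34797) D11132 (iv D7665)
def n11133 : Q := act 9 n7664
theorem D11133 : act 9 n7664 = n11133 := rfl
theorem F49457 : act 4 n11133 = n7668 := d34_1 D11133 (iv D7668) (iv F34796)
def n11134 : Q := act 2 n7665
theorem D11134 : act 2 n7665 = n11134 := rfl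
theorem F49459 : act 4 n11134 = n7881 := d18_2 (iv F34799) D11134 (iv D7881)
def n11135 : Q := act 9 n7665
theorem D11135 : act 9 n7665 = n11135 := rfl
theorem F49463 : act 3 n11135 = n7666 := d29_1 D11135 (iv D7666) D7665
def n11136 : Q := act 9 n7667
theorem D11136 : act 9 n7667 = n11136 := rfl
theorem F49466 : act 1 n11136 = n7676 := d16_1 D11136 (iv D7676) (iv F34805)
theorem F49467 : act 3 n11136 = n7883 := d29_1 D11136 (iv D7883) (iv F34806)
theorem F49468 : act 5 n11136 = n7752 := d38_1 D11136 (iv D7752) (iv F34807)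
def n11138 : Q := act 8 n7669
theorem D11138 : act 8 n7669 = n11138 := rfl
theorem F49475 : act 4 n11138 = n7754 := d33_1 D11138 (iv D7754) (iv F34815)
theorem F49476 : act 5 n11138 = n7671 := d37_1 D11138 (iv D7671) (iv F34816)
def n11139 : Q := act 3 n7670
theorem D11139 : act 3 n7670 = n11139 := rfl
theorem F49478 : act 0 n11139 = n8651 := d2_1 D11139 (iv D8651) (iv F34817)
theorem F49480 : act 5 n11139 = n7672 := d25_2 (iv F34819) D11139 (iv D7672)
def n11140 : Q := act 9 n7670
theorem D11140 : act 9 n7670 = n11140 := rfl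
theorem F49484 : act 4 n11140 = n7755 := d34_1 D11140 (iv D7755) (iv F34818)
def n11141 : Q := act 3 n7671
theorem D11141 : act 3 n7671 = n11141 := rfl
def n11142 : Q := act 9 n7671
theorem D11142 : act 9 n7671 = n11142 := rfl
theorem F49492 : act 4 n11142 = n7676 := d34_1 D11142 (iv D7676) (iv F34822)
def n11143 : Q := act 2 n7672
theorem D11143 : act 2 n7672 = n11143 := rfl
theorem F49496 : act 6 n11143 = n7674 := d20_2 (iv F34826) D11143 (iv D7674)
def n11144 : Q := act 9 n7672
theorem D11144 : act 9 n7672 = n11144 := rfl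
theorem F49499 : act 3 n11144 = n7673 := d29_1 D11144 (iv D7673) D7672
theorem F49501 : act 6 n11144 = n7675 := d41_1 D11144 (iv D7675) (iv F34826)
def n11145 : Q := act 1 n7674
theorem D11145 : act 1 n7674 = n11145 := rfl
theorem F49502 : act 4 n11145 = n7888 := d11_2 (iv F34832) D11145 (iv D7888)
def n11146 : Q := act 9 n7674
theorem D11146 : act 9 n7674 = n11146 := rfl
theorem F49506 : act 2 n11146 = n7675 := d23_1 D11146 (iv D7675) D7674
theorem F49507 : act 4 n11146 = n7889 := d34_1 D11146 (iv D7889) (iv F34832)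
def n11147 : Q := act 8 n7675
theorem D11147 : act 8 n7675 = n11147 := rfl
theorem F49510 : act 4 n11147 = n7890 := d33_1 D11147 (iv D7890) (iv F34837)
def n11148 : Q := act 4 n7677
theorem D11148 : act 4 n7677 = n11148 := rfl
theorem F49513 : act 1 n11148 = n7679 := d11_1 D11148 (iv D7679) (iv F34843)
theorem F49517 : act 9 n11148 = n7713 := d34_2 (iv F34846) D11148 (iv D7713)
def n11149 : Q := act 6 n7677
theorem D11149 : act 6 n7677 = n11149 := rfl
theorem F49518 : act 1 n11149 = n7680 := d13_1 D11149 (iv D7680) (iv F34843)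
theorem F49520 : act 9 n11149 = n7714 := d41_2 (iv F34846) D11149 (iv D7714)
def n11150 : Q := act 8 n7677
theorem D11150 : act 8 n7677 = n11150 := rfl
theorem F49523 : act 5 n11150 = n7678 := d37_1 D11150 (iv D7678) D7677
def n11151 : Q := act 3 n7678
theorem D11151 : act 3 n7678 = n11151 := rfl
def n11153 : Q := act 3 n7679
theorem D11153 : act 3 n7679 = n11153 := rfl
theorem F49532 : act 0 n11153 = n7689 := d2_1 D11153 (iv D7689) (iv F34851)
theorem F49533 : act 2 n11153 = n7761 := d17_1 D11153 (iv D7761) F24825 (iv F24607) (iv F34852)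
theorem F49534 : act 5 n11153 = n11153 := d25_2 F34853 D11153 (iv D11153)
theorem F49535 : act 7 n11153 = n11153 := d27_2 F34854 D11153 (iv D11153)
theorem F49536 : act 9 n11153 = n7718 := d29_2 (iv F34855) D11153 (iv D7718)
def n11154 : Q := act 6 n7679
theorem D11154 : act 6 n7679 = n11154 := rfl
theorem F49537 : act 0 n11154 = n7690 := d5_1 D11154 (iv D7690) (iv F34851)
theorem F49538 : act 2 n11154 = n7684 := d20_1 D11154 (iv D7684) (iv F34852)
theorem F49539 : act 4 n11154 = n7680 := d31_1 D11154 (iv D7680) D7679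
theorem F49540 : act 9 n11154 = n7719 := d41_2 (iv F34855) D11154 (iv D7719)
def n11155 : Q := act 8 n7679
theorem D11155 : act 8 n7679 = n11155 := rfl
theorem F49541 : act 0 n11155 = n7691 := d7_1 D11155 (iv D7691) (iv F34851)
theorem F49543 : act 4 n11155 = n7681 := d33_1 D11155 (iv D7681) D7679
def n11156 : Q := act 7 n7680
theorem D11156 : act 7 n7680 = n11156 := rfl
theorem F49546 : act 0 n11156 = n7692 := d6_1 D11156 (iv D7692) (iv F34856)
theorem F49547 : act 2 n11156 = n7686 := d21_1 D11156 (iv D7686) (iv F34857)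
theorem F49548 : act 6 n11156 = n11156 := d39_1 D11156 (iv D11156) (iv D7680) F24599 D7680
theorem F49549 : act 9 n11156 = n7721 := d43_2 (iv F34858) D11156 (iv D7721)
def n11157 : Q := act 8 n7680
theorem D11157 : act 8 n7680 = n11157 := rfl
theorem F49550 : act 0 n11157 = n7693 := d7_1 D11157 (iv D7693) (iv F34856)
def n11158 : Q := act 3 n7681
theorem D11158 : act 3 n7681 = n11158 := rfl
theorem F49555 : act 5 n11158 = n7682 := d25_2 (iv F34861) D11158 (iv D7682)
def n11160 : Q := act 4 n7682
theorem D11160 : act 4 n7682 = n11160 := rfl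
def n11161 : Q := act 9 n7682
theorem D11161 : act 9 n7682 = n11161 := rfl
def n11162 : Q := act 5 n7684
theorem D11162 : act 5 n7684 = n11162 := rfl
theorem F49570 : act 0 n11162 = n7698 := d4_1 D11162 (iv D7698) (iv F34871)
theorem F49572 : act 3 n11162 = n7768 := d25_1 D11162 (iv D7768) (iv F34873)
theorem F49573 : act 6 n11162 = n11162 := d35_2 D7684 D11162 (iv D11162) (iv D7684) F24608
theorem F49574 : act 9 n11162 = n7727 := d38_2 (iv F34875) D11162 (iv D7727)
def n11163 : Q := act 7 n7684
theorem D11163 : act 7 n7684 = n11163 := rfl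
theorem F49575 : act 0 n11163 = n7699 := d6_1 D11163 (iv D7699) (iv F34871)
theorem F49577 : act 3 n11163 = n7769 := d27_1 D11163 (iv D7769) (iv F34873)
theorem F49578 : act 4 n11163 = n7686 := d32_1 D11163 (iv D7686) (iv F34874)
theorem F49579 : act 6 n11163 = n11163 := d39_1 D11163 (iv D11163) (iv D7684) F24609 D7684
theorem F49580 : act 9 n11163 = n7728 := d43_2 (iv F34875) D11163 (iv D7728)
def n11164 : Q := act 8 n7684
theorem D11164 : act 8 n7684 = n11164 := rfl
theorem F49583 : act 4 n11164 = n7687 := d33_1 D11164 (iv D7687) (iv F34874)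
theorem F49584 : act 6 n11164 = n7685 := d40_1 D11164 (iv D7685) D7684
def n11165 : Q := act 3 n7685
theorem D11165 : act 3 n7685 = n11165 := rfl
theorem F49585 : act 0 n11165 = n7701 := d2_1 D11165 (iv D7701) (iv F34876)
theorem F49590 : act 8 n11165 = n7771 := d28_2 D7685 D11165 (iv D7771) (iv D5359) (iv F24607)
def n11166 : Q := act 9 n7685
theorem D11166 : act 9 n7685 = n11166 := rfl
theorem F49593 : act 4 n11166 = n7688 := d34_1 D11166 (iv D7688) (iv F34878)
def n11167 : Q := act 8 n7686
theorem D11167 : act 8 n7686 = n11167 := rfl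
theorem F49597 : act 0 n11167 = n7703 := d7_1 D11167 (iv D7703) (iv F34881)
theorem F49598 : act 1 n11167 = n8679 := d15_1 D11167 (iv D8679) (iv F34882)
def n11168 : Q := act 9 n7687
theorem D11168 : act 9 n7687 = n11168 := rfl
theorem F49603 : act 1 n11168 = n8680 := d16_1 D11168 (iv D8680) (iv F34887)
def n11169 : Q := act 6 n7689
theorem D11169 : act 6 n7689 = n11169 := rfl
theorem F49607 : act 2 n11169 = n7773 := d20_1 D11169 (iv D7773) (iv F34896)
theorem F49608 : act 3 n11169 = n7690 := d26_1 D11169 (iv D7690) D7689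
theorem F49609 : act 9 n11169 = n7733 := d41_2 (iv F34899) D11169 (iv D7733)
def n11170 : Q := act 8 n7689
theorem D11170 : act 8 n7689 = n11170 := rfl
theorem F49610 : act 2 n11170 = n7774 := d22_1 D11170 (iv D7774) (iv F34896)
theorem F49611 : act 5 n11170 = n11170 := d37_1 D11170 (iv D11170) F34897
theorem F49612 : act 7 n11170 = n11170 := d42_1 D11170 (iv D11170) F34898
def n11171 : Q := act 5 n7690
theorem D11171 : act 5 n7690 = n11171 := rfl
theorem F49613 : act 2 n11171 = n7698 := d19_1 D11171 (iv D7698) (iv F34900)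
theorem F49614 : act 6 n11171 = n11171 := d35_2 D7690 D11171 (iv D11171) (iv D7690) F24633
theorem F49615 : act 9 n11171 = n7735 := d38_2 (iv F34902) D11171 (iv D7735)
def n11172 : Q := act 7 n7690
theorem D11172 : act 7 n7690 = n11172 := rfl
theorem F49616 : act 2 n11172 = n7699 := d21_1 D11172 (iv D7699) (iv F34900)
theorem F49617 : act 4 n11172 = n7692 := d32_1 D11172 (iv D7692) (iv F34901)
theorem F49618 : act 6 n11172 = n11172 := d39_1 D11172 (iv D11172) (iv D7690) F24634 D7690
theorem F49619 : act 9 n11172 = n7736 := d43_2 (iv F34902) D11172 (iv D7736)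
def n11173 : Q := act 8 n7690
theorem D11173 : act 8 n7690 = n11173 := rfl
theorem F49620 : act 2 n11173 = n7700 := d22_1 D11173 (iv D7700) (iv F34900)
theorem F49621 : act 4 n11173 = n7693 := d33_1 D11173 (iv D7693) (iv F34901)
theorem F49622 : act 6 n11173 = n7691 := d40_1 D11173 (iv D7691) D7690
def n11174 : Q := act 3 n7691
theorem D11174 : act 3 n7691 = n11174 := rfl
theorem F49623 : act 5 n11174 = n11174 := d25_2 F34905 D11174 (iv D11174)
theorem F49624 : act 7 n11174 = n11174 := d27_2 F34906 D11174 (iv D11174)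
def n11175 : Q := act 9 n7691
theorem D11175 : act 9 n7691 = n11175 := rfl
theorem F49626 : act 4 n11175 = n7695 := d34_1 D11175 (iv D7695) (iv F34904)
theorem F49629 : act 8 n11175 = n7739 := d44_1 D11175 (iv D7739) (iv D5334) (iv F24635) D7691
def n11176 : Q := act 8 n7692
theorem D11176 : act 8 n7692 = n11176 := rfl
theorem F49630 : act 2 n11176 = n7703 := d22_1 D11176 (iv D7703) (iv F34907)
theorem F49631 : act 6 n11176 = n11176 := d40_1 D11176 (iv D11176) F34908
theorem F49632 : act 7 n11176 = n7693 := d42_1 D11176 (iv D7693) D7692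
def n11177 : Q := act 3 n7693
theorem D11177 : act 3 n7693 = n11177 := rfl
theorem F49634 : act 6 n11177 = n7694 := d26_2 (iv F34911) D11177 (iv D7694)
def n11178 : Q := act 9 n7693
theorem D11178 : act 9 n7693 = n11178 := rfl
theorem F49637 : act 8 n11178 = n7742 := d44_1 D11178 (iv D7742) (iv D5336) (iv F24637) D7693
def n11179 : Q := act 4 n7694
theorem D11179 : act 4 n7694 = n11179 := rfl
def n11180 : Q := act 9 n7694
theorem D11180 : act 9 n7694 = n11180 := rfl
theorem F49641 : act 3 n11180 = n7695 := d29_1 D11180 (iv D7695) D7694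
theorem F49642 : act 5 n11180 = n7697 := d38_1 D11180 (iv D7697) (iv F34913)
def n11181 : Q := act 5 n7696
theorem D11181 : act 5 n7696 = n11181 := rfl
def n11182 : Q := act 9 n7696
theorem D11182 : act 9 n7696 = n11182 := rfl
theorem F49649 : act 4 n11182 = n7697 := d34_1 D11182 (iv D7697) D7696
def n11183 : Q := act 8 n7697
theorem D11183 : act 8 n7697 = n11183 := rfl
theorem F49652 : act 3 n11183 = n7747 := d28_1 D11183 (iv D7747) F24767 (iv F24646) (iv F34923)
def n11184 : Q := act 7 n7698
theorem D11184 : act 7 n7698 = n11184 := rfl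
theorem F49656 : act 5 n11184 = n7699 := d36_1 D11184 (iv D7699) D7698
theorem F49657 : act 9 n11184 = n7748 := d43_2 (iv F34928) D11184 (iv D7748)
def n11185 : Q := act 8 n7698
theorem D11185 : act 8 n7698 = n11185 := rfl
theorem F49658 : act 1 n11185 = n7706 := d15_1 D11185 (iv D7706) (iv F34925)
theorem F49659 : act 5 n11185 = n7700 := d37_1 D11185 (iv D7700) D7698
def n11186 : Q := act 8 n7699
theorem D11186 : act 8 n7699 = n11186 := rfl
theorem F49661 : act 1 n11186 = n7707 := d15_1 D11186 (iv D7707) (iv F34929)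
theorem F49662 : act 4 n11186 = n7703 := d33_1 D11186 (iv D7703) (iv F34931)
theorem F49664 : act 7 n11186 = n7700 := d42_1 D11186 (iv D7700) D7699
def n11187 : Q := act 3 n7700
theorem D11187 : act 3 n7700 = n11187 := rfl
theorem F49665 : act 1 n11187 = n7708 := d10_1 D11187 (iv D7708) (iv F34934)
theorem F49666 : act 4 n11187 = n11187 := d24_2 (iv F34935) D11187 (iv D11187) F34935 F24660
theorem F49667 : act 6 n11187 = n7701 := d26_2 (iv F34936) D11187 (iv D7701)
theorem F49668 : act 8 n11187 = n7786 := d28_2 D7700 D11187 (iv D7786) (iv D5371) (iv F24648)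
def n11188 : Q := act 9 n7700
theorem D11188 : act 9 n7700 = n11188 := rfl
theorem F49669 : act 1 n11188 = n7709 := d16_1 D11188 (iv D7709) (iv F34934)
theorem F49672 : act 8 n11188 = n7751 := d44_1 D11188 (iv D7751) (iv D5343) (iv F24650) D7700
def n11189 : Q := act 2 n7701
theorem D11189 : act 2 n7701 = n11189 := rfl
theorem F49673 : act 4 n11189 = n11189 := d18_2 F34938 D11189 (iv D11189)
theorem F49674 : act 5 n11189 = n11189 := d19_2 F34939 D11189 (iv D11189)
theorem F49675 : act 7 n11189 = n11189 := d21_2 F34940 D11189 (iv D11189)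
theorem F49676 : act 8 n11189 = n7787 := d22_2 (iv F34941) D11189 (iv D7787)
def n11190 : Q := act 9 n7701
theorem D11190 : act 9 n7701 = n11190 := rfl
theorem F49677 : act 1 n11190 = n7711 := d16_1 D11190 (iv D7711) (iv F34937)
theorem F49678 : act 3 n11190 = n7702 := d29_1 D11190 (iv D7702) D7701
def n11191 : Q := act 9 n7703
theorem D11191 : act 9 n7703 = n11191 := rfl
theorem F49683 : act 1 n11191 = n7712 := d16_1 D11191 (iv D7712) (iv F34947)
theorem F49687 : act 8 n11191 = n7752 := d44_1 D11191 (iv D7752) (iv D5345) (iv F24658) D7703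
def n11192 : Q := act 6 n7705
theorem D11192 : act 6 n7705 = n11192 := rfl
theorem F49689 : act 3 n11192 = n7788 := d26_1 D11192 (iv D7788) (iv F34956)
theorem F49692 : act 9 n11192 = n7753 := d41_2 (iv F34958) D11192 (iv D7753)
def n11193 : Q := act 8 n7705
theorem D11193 : act 8 n7705 = n11193 := rfl
theorem F49694 : act 5 n11193 = n7707 := d37_1 D11193 (iv D7707) (iv F34957)
def n11194 : Q := act 3 n7706
theorem D11194 : act 3 n7706 = n11194 := rfl
theorem F49697 : act 5 n11194 = n7708 := d25_2 (iv F34960) D11194 (iv D7708)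
theorem F49699 : act 8 n11194 = n7790 := d28_2 D7706 D11194 (iv D7790) (iv D5375) (iv F24668)
def n11195 : Q := act 9 n7706
theorem D11195 : act 9 n7706 = n11195 := rfl
theorem F49701 : act 5 n11195 = n7709 := d38_1 D11195 (iv D7709) (iv F34960)
theorem F49703 : act 8 n11195 = n7755 := d44_1 D11195 (iv D7755) (iv D5348) (iv F24670) D7706
def n11196 : Q := act 3 n7707
theorem D11196 : act 3 n7707 = n11196 := rfl
theorem F49707 : act 7 n11196 = n7708 := d27_2 (iv F34965) D11196 (iv D7708)
theorem F49708 : act 8 n11196 = n7791 := d28_2 D7707 D11196 (iv D7791) (iv D5376) (iv F24672)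
def n11197 : Q := act 9 n7707
theorem D11197 : act 9 n7707 = n11197 := rfl
theorem F49710 : act 4 n11197 = n7712 := d34_1 D11197 (iv D7712) (iv F34963)
theorem F49712 : act 7 n11197 = n7709 := d43_1 D11197 (iv D7709) (iv F34965)
def n11198 : Q := act 2 n7708
theorem D11198 : act 2 n7708 = n11198 := rfl
theorem F49716 : act 6 n11198 = n7710 := d20_2 (iv F34968) D11198 (iv D7710)
theorem F49717 : act 8 n11198 = n7792 := d22_2 (iv F34969) D11198 (iv D7792)
def n11199 : Q := act 9 n7708
theorem D11199 : act 9 n7708 = n11199 := rfl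
theorem F49719 : act 3 n11199 = n7709 := d29_1 D11199 (iv D7709) D7708
theorem F49721 : act 6 n11199 = n7711 := d41_1 D11199 (iv D7711) (iv F34968)
def n11200 : Q := act 1 n7710
theorem D11200 : act 1 n7710 = n11200 := rfl
theorem F49726 : act 8 n11200 = n7793 := d15_2 (iv F34978) D11200 (iv D7793)
def n11201 : Q := act 9 n7710
theorem D11201 : act 9 n7710 = n11201 := rfl
theorem F49728 : act 2 n11201 = n7711 := d23_1 D11201 (iv D7711) D7710
theorem F49732 : act 8 n11201 = n11201 := d44_1 D11201 (iv D11201) F34978 F24949 (iv F34978)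
def n11202 : Q := act 3 n7713
theorem D11202 : act 3 n7713 = n11202 := rfl
theorem F49733 : act 1 n11202 = n7718 := d10_1 D11202 (iv D7718) (iv F34990)
def n11203 : Q := act 6 n7713
theorem D11203 : act 6 n7713 = n11203 := rfl
theorem F49736 : act 1 n11203 = n7719 := d13_1 D11203 (iv D7719) (iv F34990)
theorem F49738 : act 4 n11203 = n7714 := d31_1 D11203 (iv D7714) D7713
def n11204 : Q := act 8 n7713
theorem D11204 : act 8 n7713 = n11204 := rfl
theorem F49741 : act 4 n11204 = n7715 := d33_1 D11204 (iv D7715) D7713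
def n11205 : Q := act 7 n7714
theorem D11205 : act 7 n7714 = n11205 := rfl
theorem F49744 : act 1 n11205 = n7721 := d14_1 D11205 (iv D7721) (iv F34994)
def n11206 : Q := act 8 n7714
theorem D11206 : act 8 n7714 = n11206 := rfl
def n11212 : Q := act 6 n7718
theorem D11212 : act 6 n7718 = n11212 := rfl
theorem F49766 : act 0 n11212 = n7733 := d5_1 D11212 (iv D7733) (iv F35006)
theorem F49767 : act 2 n11212 = n7797 := d20_1 D11212 (iv D7797) (iv F35007)
theorem F49768 : act 3 n11212 = n7719 := d26_1 D11212 (iv D7719) D7718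
def n11213 : Q := act 8 n7718
theorem D11213 : act 8 n7718 = n11213 := rfl
theorem F49769 : act 0 n11213 = n7734 := d7_1 D11213 (iv D7734) (iv F35006)
theorem F49770 : act 2 n11213 = n7798 := d22_1 D11213 (iv D7798) (iv F35007)
theorem F49771 : act 5 n11213 = n11213 := d37_1 D11213 (iv D11213) F35008
theorem F49772 : act 7 n11213 = n11213 := d42_1 D11213 (iv D11213) F35009
def n11214 : Q := act 5 n7719
theorem D11214 : act 5 n7719 = n11214 := rfl
theorem F49773 : act 0 n11214 = n7735 := d4_1 D11214 (iv D7735) (iv F35010)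
theorem F49774 : act 2 n11214 = n7727 := d19_1 D11214 (iv D7727) (iv F35011)
theorem F49775 : act 6 n11214 = n11214 := d35_2 D7719 D11214 (iv D11214) (iv D7719) F24706
def n11215 : Q := act 7 n7719
theorem D11215 : act 7 n7719 = n11215 := rfl
theorem F49776 : act 0 n11215 = n7736 := d6_1 D11215 (iv D7736) (iv F35010)
theorem F49777 : act 2 n11215 = n7728 := d21_1 D11215 (iv D7728) (iv F35011)
theorem F49778 : act 4 n11215 = n7721 := d32_1 D11215 (iv D7721) (iv F35012)
theorem F49779 : act 6 n11215 = n11215 := d39_1 D11215 (iv D11215) (iv D7719) F24707 D7719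
def n11216 : Q := act 8 n7719
theorem D11216 : act 8 n7719 = n11216 := rfl
theorem F49782 : act 4 n11216 = n7722 := d33_1 D11216 (iv D7722) (iv F35012)
def n11217 : Q := act 3 n7720
theorem D11217 : act 3 n7720 = n11217 := rfl
def n11219 : Q := act 8 n7721
theorem D11219 : act 8 n7721 = n11219 := rfl
theorem F49794 : act 2 n11219 = n7731 := d22_1 D11219 (iv D7731) (iv F35019)
def n11221 : Q := act 9 n7722
theorem D11221 : act 9 n7722 = n11221 := rfl
def n11222 : Q := act 4 n7723
theorem D11222 : act 4 n7723 = n11222 := rfl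
def n11223 : Q := act 9 n7723
theorem D11223 : act 9 n7723 = n11223 := rfl
theorem F49809 : act 5 n11223 = n7726 := d38_1 D11223 (iv D7726) (iv F35026)
def n11224 : Q := act 5 n7725
theorem D11224 : act 5 n7725 = n11224 := rfl
def n11225 : Q := act 9 n7725
theorem D11225 : act 9 n7725 = n11225 := rfl
theorem F49818 : act 4 n11225 = n7726 := d34_1 D11225 (iv D7726) D7725
def n11227 : Q := act 7 n7727
theorem D11227 : act 7 n7727 = n11227 := rfl
theorem F49825 : act 3 n11227 = n7801 := d27_1 D11227 (iv D7801) (iv F35042)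
def n11229 : Q := act 8 n7728
theorem D11229 : act 8 n7728 = n11229 := rfl
theorem F49835 : act 4 n11229 = n7731 := d33_1 D11229 (iv D7731) (iv F35047)
def n11230 : Q := act 9 n7729
theorem D11230 : act 9 n7729 = n11230 := rfl
def n11231 : Q := act 9 n7731
theorem D11231 : act 9 n7731 = n11231 := rfl
def n11232 : Q := act 5 n7733
theorem D11232 : act 5 n7733 = n11232 := rfl
theorem F49848 : act 2 n11232 = n7802 := d19_1 D11232 (iv D7802) (iv F35069)
theorem F49849 : act 3 n11232 = n7735 := d25_1 D11232 (iv D7735) (iv F35070)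
theorem F49850 : act 6 n11232 = n11232 := d35_2 D7733 D11232 (iv D11232) (iv D7733) F24745
def n11233 : Q := act 7 n7733
theorem D11233 : act 7 n7733 = n11233 := rfl
theorem F49851 : act 2 n11233 = n7803 := d21_1 D11233 (iv D7803) (iv F35069)
theorem F49852 : act 3 n11233 = n7736 := d27_1 D11233 (iv D7736) (iv F35070)
theorem F49853 : act 6 n11233 = n11233 := d39_1 D11233 (iv D11233) (iv D7733) F24746 D7733
def n11234 : Q := act 8 n7733
theorem D11234 : act 8 n7733 = n11234 := rfl
theorem F49854 : act 2 n11234 = n7804 := d22_1 D11234 (iv D7804) (iv F35069)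
theorem F49855 : act 6 n11234 = n7734 := d40_1 D11234 (iv D7734) D7733
def n11235 : Q := act 3 n7734
theorem D11235 : act 3 n7734 = n11235 := rfl
theorem F49856 : act 2 n11235 = n11235 := d17_1 D11235 (iv D11235) F35071 F24986 (iv F35071)
theorem F49857 : act 5 n11235 = n11235 := d25_2 F35072 D11235 (iv D11235)
theorem F49858 : act 7 n11235 = n11235 := d27_2 F35073 D11235 (iv D11235)
theorem F49859 : act 8 n11235 = n7738 := d28_2 D7734 D11235 (iv D7738) (iv D5334) D5332
def n11236 : Q := act 9 n7734
theorem D11236 : act 9 n7734 = n11236 := rfl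
theorem F49860 : act 2 n11236 = n7805 := d23_1 D11236 (iv D7805) (iv F35071)
theorem F49861 : act 5 n11236 = n11236 := d38_1 D11236 (iv D11236) F35072
theorem F49862 : act 7 n11236 = n11236 := d43_1 D11236 (iv D11236) F35073
def n11237 : Q := act 7 n7735
theorem D11237 : act 7 n7735 = n11237 := rfl
theorem F49864 : act 5 n11237 = n7736 := d36_1 D11237 (iv D7736) D7735
def n11238 : Q := act 8 n7735
theorem D11238 : act 8 n7735 = n11238 := rfl
theorem F49866 : act 5 n11238 = n7737 := d37_1 D11238 (iv D7737) D7735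
def n11239 : Q := act 8 n7736
theorem D11239 : act 8 n7736 = n11239 := rfl
theorem F49869 : act 4 n11239 = n7740 := d33_1 D11239 (iv D7740) (iv F35077)
theorem F49871 : act 7 n11239 = n7737 := d42_1 D11239 (iv D7737) D7736
def n11240 : Q := act 3 n7737
theorem D11240 : act 3 n7737 = n11240 := rfl
theorem F49872 : act 2 n11240 = n11240 := d17_1 D11240 (iv D11240) F35079 F24777 (iv F35079)
theorem F49873 : act 6 n11240 = n7738 := d26_2 (iv F35081) D11240 (iv D7738)
def n11241 : Q := act 9 n7737
theorem D11241 : act 9 n7737 = n11241 := rfl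
def n11242 : Q := act 4 n7738
theorem D11242 : act 4 n7738 = n11242 := rfl
theorem F49877 : act 2 n11242 = n11242 := d18_1 D11242 (iv D11242) F35082
theorem F49878 : act 3 n11242 = n7743 := d24_1 D11242 (iv D7743) (iv D5337) (iv F24750) D7738
theorem F49879 : act 7 n11242 = n11242 := d32_2 F35084 D11242 (iv D11242)
def n11243 : Q := act 9 n7738
theorem D11243 : act 9 n7738 = n11243 := rfl
theorem F49881 : act 3 n11243 = n7739 := d29_1 D11243 (iv D7739) D7738
def n11244 : Q := act 3 n7740
theorem D11244 : act 3 n7740 = n11244 := rfl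
theorem F49884 : act 2 n11244 = n7907 := d17_1 D11244 (iv D7907) F25317 (iv F24786) (iv F35089)
theorem F49885 : act 6 n11244 = n11244 := d26_2 F35090 D11244 (iv D11244)
theorem F49886 : act 7 n11244 = n7741 := d27_2 (iv F35091) D11244 (iv D7741)
def n11245 : Q := act 9 n7740
theorem D11245 : act 9 n7740 = n11245 := rfl
def n11246 : Q := act 4 n7741
theorem D11246 : act 4 n7741 = n11246 := rfl
theorem F49890 : act 2 n11246 = n7909 := d18_1 D11246 (iv D7909) (iv F35092)
theorem F49891 : act 6 n11246 = n7743 := d31_2 (iv F35093) D11246 (iv D7743)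
def n11247 : Q := act 9 n7741
theorem D11247 : act 9 n7741 = n11247 := rfl
theorem F49893 : act 3 n11247 = n7742 := d29_1 D11247 (iv D7742) D7741
def n11248 : Q := act 5 n7743
theorem D11248 : act 5 n7743 = n11248 := rfl
theorem F49895 : act 2 n11248 = n7911 := d19_1 D11248 (iv D7911) (iv F35096)
theorem F49896 : act 4 n11248 = n7745 := d30_1 D11248 (iv D7745) (iv D5339) (iv F24758) D7743
theorem F49897 : act 7 n11248 = n11248 := d36_2 F35097 D11248 (iv D11248)
def n11249 : Q := act 9 n7743
theorem D11249 : act 9 n7743 = n11249 := rfl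
theorem F49899 : act 4 n11249 = n7744 := d34_1 D11249 (iv D7744) D7743
def n11250 : Q := act 8 n7744
theorem D11250 : act 8 n7744 = n11250 := rfl
def n11251 : Q := act 6 n7745
theorem D11251 : act 6 n7745 = n11251 := rfl
theorem F49904 : act 2 n11251 = n7914 := d20_1 D11251 (iv D7914) (iv F35102)
theorem F49905 : act 3 n11251 = n11251 := d26_1 D11251 (iv D11251) F35103
def n11252 : Q := act 9 n7745
theorem D11252 : act 9 n7745 = n11252 := rfl
theorem F49908 : act 5 n11252 = n7746 := d38_1 D11252 (iv D7746) D7745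
def n11253 : Q := act 8 n7746
theorem D11253 : act 8 n7746 = n11253 := rfl
theorem F49910 : act 2 n11253 = n7916 := d22_1 D11253 (iv D7916) (iv F35105)
theorem F49911 : act 4 n11253 = n7747 := d33_1 D11253 (iv D7747) (iv F35107)
def n11255 : Q := act 8 n7748
theorem D11255 : act 8 n7748 = n11255 := rfl
def n11256 : Q := act 9 n7749
theorem D11256 : act 9 n7749 = n11256 := rfl
theorem F49923 : act 5 n11256 = n7751 := d38_1 D11256 (iv D7751) (iv F35116)
def n11257 : Q := act 9 n7750
theorem D11257 : act 9 n7750 = n11257 := rfl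
theorem F49927 : act 4 n11257 = n7752 := d34_1 D11257 (iv D7752) (iv F35120)
def n11258 : Q := act 8 n7753
theorem D11258 : act 8 n7753 = n11258 := rfl
def n11259 : Q := act 9 n7754
theorem D11259 : act 9 n7754 = n11259 := rfl
theorem F49937 : act 5 n11259 = n7756 := d38_1 D11259 (iv D7756) (iv F35137)
def n11260 : Q := act 3 n7757
theorem D11260 : act 3 n7757 = n11260 := rfl
theorem F49940 : act 1 n11260 = n7761 := d10_1 D11260 (iv D7761) (iv F35149)
theorem F49943 : act 9 n11260 = n7794 := d29_2 (iv F35153) D11260 (iv D7794)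
def n11261 : Q := act 6 n7757
theorem D11261 : act 6 n7757 = n11261 := rfl
theorem F49945 : act 1 n11261 = n7762 := d13_1 D11261 (iv D7762) (iv F35149)
theorem F49946 : act 2 n11261 = n8773 := d20_1 D11261 (iv D8773) (iv F35150)
theorem F49948 : act 9 n11261 = n7795 := d41_2 (iv F35153) D11261 (iv D7795)
def n11263 : Q := act 7 n7758
theorem D11263 : act 7 n7758 = n11263 := rfl
theorem F49957 : act 1 n11263 = n7764 := d14_1 D11263 (iv D7764) (iv F35155)
theorem F49958 : act 2 n11263 = n8775 := d21_1 D11263 (iv D8775) (iv F35156)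
theorem F49961 : act 9 n11263 = n7796 := d43_2 (iv F35158) D11263 (iv D7796)
def n11268 : Q := act 6 n7761
theorem D11268 : act 6 n7761 = n11268 := rfl
theorem F49985 : act 0 n11268 = n7773 := d5_1 D11268 (iv D7773) (iv F35170)
theorem F49986 : act 3 n11268 = n7762 := d26_1 D11268 (iv D7762) D7761
theorem F49987 : act 9 n11268 = n7797 := d41_2 (iv F35173) D11268 (iv D7797)
def n11269 : Q := act 8 n7761
theorem D11269 : act 8 n7761 = n11269 := rfl
theorem F49988 : act 0 n11269 = n7774 := d7_1 D11269 (iv D7774) (iv F35170)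
theorem F49989 : act 5 n11269 = n11269 := d37_1 D11269 (iv D11269) F35171
theorem F49990 : act 7 n11269 = n11269 := d42_1 D11269 (iv D11269) F35172
def n11270 : Q := act 5 n7762
theorem D11270 : act 5 n7762 = n11270 := rfl
theorem F49991 : act 0 n11270 = n7775 := d4_1 D11270 (iv D7775) (iv F35174)
theorem F49992 : act 2 n11270 = n7768 := d19_1 D11270 (iv D7768) (iv F35175)
theorem F49993 : act 4 n11270 = n11270 := d30_1 D11270 (iv D11270) F35176 F24831 (iv F35176)
theorem F49994 : act 6 n11270 = n11270 := d35_2 D7762 D11270 (iv D11270) (iv D7762) F24826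
theorem F49995 : act 9 n11270 = n7799 := d38_2 (iv F35177) D11270 (iv D7799)
def n11271 : Q := act 7 n7762
theorem D11271 : act 7 n7762 = n11271 := rfl
theorem F49996 : act 0 n11271 = n7776 := d6_1 D11271 (iv D7776) (iv F35174)
theorem F49997 : act 2 n11271 = n7769 := d21_1 D11271 (iv D7769) (iv F35175)
theorem F49998 : act 4 n11271 = n7764 := d32_1 D11271 (iv D7764) (iv F35176)
theorem F49999 : act 6 n11271 = n11271 := d39_1 D11271 (iv D11271) (iv D7762) F24827 D7762
theorem F50000 : act 9 n11271 = n7800 := d43_2 (iv F35177) D11271 (iv D7800)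
def n11272 : Q := act 8 n7762
theorem D11272 : act 8 n7762 = n11272 := rfl
theorem F50001 : act 0 n11272 = n7777 := d7_1 D11272 (iv D7777) (iv F35174)
theorem F50002 : act 2 n11272 = n7770 := d22_1 D11272 (iv D7770) (iv F35175)
def n11273 : Q := act 3 n7763
theorem D11273 : act 3 n7763 = n11273 := rfl
theorem F50006 : act 0 n11273 = n7778 := d2_1 D11273 (iv D7778) (iv F35178)
def n11274 : Q := act 8 n7764
theorem D11274 : act 8 n7764 = n11274 := rfl
theorem F50010 : act 0 n11274 = n7779 := d7_1 D11274 (iv D7779) (iv F35184)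
theorem F50011 : act 2 n11274 = n7772 := d22_1 D11274 (iv D7772) (iv F35185)
def n11278 : Q := act 7 n7768
theorem D11278 : act 7 n7768 = n11278 := rfl
theorem F50030 : act 0 n11278 = n7783 := d6_1 D11278 (iv D7783) (iv F35205)
theorem F50033 : act 5 n11278 = n7769 := d36_1 D11278 (iv D7769) D7768
theorem F50034 : act 9 n11278 = n7801 := d43_2 (iv F35209) D11278 (iv D7801)
def n11279 : Q := act 8 n7768
theorem D11279 : act 8 n7768 = n11279 := rfl
theorem F50035 : act 0 n11279 = n7784 := d7_1 D11279 (iv D7784) (iv F35205)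
theorem F50037 : act 4 n11279 = n11279 := d33_1 D11279 (iv D11279) F35207
theorem F50038 : act 5 n11279 = n7770 := d37_1 D11279 (iv D7770) D7768
theorem F50039 : act 6 n11279 = n11279 := d40_1 D11279 (iv D11279) F35208
theorem F50040 : act 9 n11279 = n11279 := d44_2 (iv F35209) D11279 (iv D11279) F35209 F24977
def n11280 : Q := act 8 n7769
theorem D11280 : act 8 n7769 = n11280 := rfl
theorem F50041 : act 0 n11280 = n7785 := d7_1 D11280 (iv D7785) (iv F35210)
theorem F50043 : act 4 n11280 = n7772 := d33_1 D11280 (iv D7772) (iv F35212)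
theorem F50044 : act 6 n11280 = n11280 := d40_1 D11280 (iv D11280) F35213
theorem F50045 : act 7 n11280 = n7770 := d42_1 D11280 (iv D7770) D7769
theorem F50046 : act 9 n11280 = n11280 := d44_2 (iv F35214) D11280 (iv D11280) F35214 F24982
def n11281 : Q := act 3 n7770
theorem D11281 : act 3 n7770 = n11281 := rfl
theorem F50047 : act 0 n11281 = n7786 := d2_1 D11281 (iv D7786) (iv F35215)
theorem F50049 : act 4 n11281 = n11281 := d24_2 (iv F35217) D11281 (iv D11281) F35217 F24861
theorem F50050 : act 6 n11281 = n7771 := d26_2 (iv F35218) D11281 (iv D7771)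
theorem F50051 : act 9 n11281 = n11281 := d29_2 F35219 D11281 (iv D11281)
def n11282 : Q := act 2 n7771
theorem D11282 : act 2 n7771 = n11282 := rfl
theorem F50052 : act 0 n11282 = n7787 := d1_1 D11282 (iv D7787) (iv F35220)
theorem F50053 : act 4 n11282 = n11282 := d18_2 F35222 D11282 (iv D11282)
theorem F50054 : act 5 n11282 = n11282 := d19_2 F35223 D11282 (iv D11282)
theorem F50055 : act 7 n11282 = n11282 := d21_2 F35224 D11282 (iv D11282)
theorem F50056 : act 9 n11282 = n11282 := d23_2 F35225 D11282 (iv D11282)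
def n11283 : Q := act 5 n7773
theorem D11283 : act 5 n7773 = n11283 := rfl
theorem F50057 : act 1 n11283 = n11283 := d12_1 D11283 (iv D11283) F35233
theorem F50058 : act 3 n11283 = n7775 := d25_1 D11283 (iv D7775) (iv F35234)
theorem F50059 : act 6 n11283 = n11283 := d35_2 D7773 D11283 (iv D11283) (iv D7773) F24866
theorem F50060 : act 9 n11283 = n7802 := d38_2 (iv F35235) D11283 (iv D7802)
def n11284 : Q := act 7 n7773
theorem D11284 : act 7 n7773 = n11284 := rfl
theorem F50061 : act 1 n11284 = n11284 := d14_1 D11284 (iv D11284) F35233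
theorem F50062 : act 3 n11284 = n7776 := d27_1 D11284 (iv D7776) (iv F35234)
theorem F50063 : act 6 n11284 = n11284 := d39_1 D11284 (iv D11284) (iv D7773) F24867 D7773
theorem F50064 : act 9 n11284 = n7803 := d43_2 (iv F35235) D11284 (iv D7803)
def n11285 : Q := act 8 n7773
theorem D11285 : act 8 n7773 = n11285 := rfl
theorem F50065 : act 1 n11285 = n11285 := d15_1 D11285 (iv D11285) F35233
theorem F50066 : act 6 n11285 = n7774 := d40_1 D11285 (iv D7774) D7773
def n11286 : Q := act 3 n7774
theorem D11286 : act 3 n7774 = n11286 := rfl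
theorem F50067 : act 1 n11286 = n11286 := d10_1 D11286 (iv D11286) F35236
theorem F50068 : act 5 n11286 = n11286 := d25_2 F35237 D11286 (iv D11286)
theorem F50069 : act 7 n11286 = n11286 := d27_2 F35238 D11286 (iv D11286)
theorem F50070 : act 8 n11286 = n7778 := d28_2 D7774 D11286 (iv D7778) (iv D5364) D5362
def n11287 : Q := act 9 n7774
theorem D11287 : act 9 n7774 = n11287 := rfl
theorem F50071 : act 1 n11287 = n11287 := d16_1 D11287 (iv D11287) F35236
theorem F50072 : act 5 n11287 = n11287 := d38_1 D11287 (iv D11287) F35237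
theorem F50073 : act 7 n11287 = n11287 := d43_1 D11287 (iv D11287) F35238
theorem F50074 : act 8 n11287 = n7805 := d44_1 D11287 (iv D7805) (iv D5387) (iv F24868) D7774
def n11288 : Q := act 7 n7775
theorem D11288 : act 7 n7775 = n11288 := rfl
theorem F50075 : act 1 n11288 = n11288 := d14_1 D11288 (iv D11288) F35239
theorem F50076 : act 2 n11288 = n7783 := d21_1 D11288 (iv D7783) (iv F35240)
theorem F50077 : act 4 n11288 = n11288 := d32_1 D11288 (iv D11288) F35241
theorem F50078 : act 5 n11288 = n7776 := d36_1 D11288 (iv D7776) D7775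
theorem F50079 : act 9 n11288 = n7806 := d43_2 (iv F35243) D11288 (iv D7806)
def n11289 : Q := act 8 n7775
theorem D11289 : act 8 n7775 = n11289 := rfl
theorem F50080 : act 1 n11289 = n11289 := d15_1 D11289 (iv D11289) F35239
theorem F50081 : act 2 n11289 = n7784 := d22_1 D11289 (iv D7784) (iv F35240)
theorem F50082 : act 4 n11289 = n11289 := d33_1 D11289 (iv D11289) F35241
theorem F50083 : act 5 n11289 = n7777 := d37_1 D11289 (iv D7777) D7775
theorem F50084 : act 6 n11289 = n11289 := d40_1 D11289 (iv D11289) F35242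
theorem F50085 : act 9 n11289 = n11289 := d44_2 (iv F35243) D11289 (iv D11289) F35243 F24993
def n11290 : Q := act 8 n7776
theorem D11290 : act 8 n7776 = n11290 := rfl
theorem F50086 : act 1 n11290 = n11290 := d15_1 D11290 (iv D11290) F35244
theorem F50087 : act 2 n11290 = n7785 := d22_1 D11290 (iv D7785) (iv F35245)
theorem F50088 : act 4 n11290 = n7779 := d33_1 D11290 (iv D7779) (iv F35246)
theorem F50089 : act 6 n11290 = n11290 := d40_1 D11290 (iv D11290) F35247
theorem F50090 : act 7 n11290 = n7777 := d42_1 D11290 (iv D7777) D7776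
theorem F50091 : act 9 n11290 = n11290 := d44_2 (iv F35248) D11290 (iv D11290) F35248 F24998
def n11291 : Q := act 3 n7777
theorem D11291 : act 3 n7777 = n11291 := rfl
theorem F50092 : act 1 n11291 = n11291 := d10_1 D11291 (iv D11291) F35249
theorem F50093 : act 6 n11291 = n7778 := d26_2 (iv F35252) D11291 (iv D7778)
theorem F50094 : act 9 n11291 = n11291 := d29_2 F35253 D11291 (iv D11291)
def n11292 : Q := act 2 n7778
theorem D11292 : act 2 n7778 = n11292 := rfl
theorem F50095 : act 3 n11292 = n7787 := d17_2 D7778 D11292 (iv D7787) (iv D5372) (iv F24874)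
theorem F50096 : act 5 n11292 = n11292 := d19_2 F35255 D11292 (iv D11292)
theorem F50097 : act 7 n11292 = n11292 := d21_2 F35256 D11292 (iv D11292)
theorem F50098 : act 9 n11292 = n11292 := d23_2 F35257 D11292 (iv D11292)
def n11293 : Q := act 4 n7778
theorem D11293 : act 4 n7778 = n11293 := rfl
def n11294 : Q := act 3 n7779
theorem D11294 : act 3 n7779 = n11294 := rfl
def n11299 : Q := act 8 n7783
theorem D11299 : act 8 n7783 = n11299 := rfl
theorem F50128 : act 1 n11299 = n7789 := d15_1 D11299 (iv D7789) (iv F35278)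
theorem F50130 : act 5 n11299 = n7785 := d37_1 D11299 (iv D7785) (iv F35280)
theorem F50131 : act 7 n11299 = n7784 := d42_1 D11299 (iv D7784) D7783
def n11300 : Q := act 3 n7784
theorem D11300 : act 3 n7784 = n11300 := rfl
theorem F50133 : act 1 n11300 = n7790 := d10_1 D11300 (iv D7790) (iv F35282)
theorem F50134 : act 5 n11300 = n7786 := d25_2 (iv F35284) D11300 (iv D7786)
def n11301 : Q := act 3 n7785
theorem D11301 : act 3 n7785 = n11301 := rfl
theorem F50137 : act 1 n11301 = n7791 := d10_1 D11301 (iv D7791) (iv F35287)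
theorem F50140 : act 7 n11301 = n7786 := d27_2 (iv F35290) D11301 (iv D7786)
def n11302 : Q := act 2 n7786
theorem D11302 : act 2 n7786 = n11302 := rfl
theorem F50142 : act 4 n11302 = n11302 := d18_2 F35293 D11302 (iv D11302)
theorem F50143 : act 6 n11302 = n7787 := d20_2 (iv F35294) D11302 (iv D7787)
theorem F50144 : act 9 n11302 = n11302 := d23_2 F35295 D11302 (iv D11302)
def n11303 : Q := act 1 n7787
theorem D11303 : act 1 n7787 = n11303 := rfl
theorem F50145 : act 2 n11303 = n7793 := d9_2 D7787 D11303 (iv D7793) (iv D5378) (iv F24912)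
theorem F50146 : act 4 n11303 = n11303 := d11_2 F35296 D11303 (iv D11303)
theorem F50147 : act 5 n11303 = n11303 := d12_2 F35297 D11303 (iv D11303)
theorem F50148 : act 7 n11303 = n11303 := d14_2 F35298 D11303 (iv D11303)
theorem F50149 : act 9 n11303 = n11303 := d16_2 F35299 D11303 (iv D11303)
def n11304 : Q := act 8 n7788
theorem D11304 : act 8 n7788 = n11304 := rfl
theorem F50154 : act 6 n11304 = n7789 := d40_1 D11304 (iv D7789) D7788
def n11305 : Q := act 3 n7789
theorem D11305 : act 3 n7789 = n11305 := rfl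
def n11306 : Q := act 2 n7790
theorem D11306 : act 2 n7790 = n11306 := rfl
theorem F50162 : act 3 n11306 = n11306 := d17_2 D7790 D11306 (iv D11306) (iv D7790) F24929
theorem F50163 : act 5 n11306 = n7792 := d19_2 (iv F35313) D11306 (iv D7792)
theorem F50164 : act 6 n11306 = n11306 := d20_2 F35314 D11306 (iv D11306)
theorem F50165 : act 9 n11306 = n11306 := d23_2 F35315 D11306 (iv D11306)
def n11308 : Q := act 2 n7791
theorem D11308 : act 2 n7791 = n11308 := rfl
theorem F50172 : act 3 n11308 = n11308 := d17_2 D7791 D11308 (iv D11308) (iv D7791) F24935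
theorem F50173 : act 4 n11308 = n11308 := d18_2 F35317 D11308 (iv D11308)
theorem F50174 : act 6 n11308 = n11308 := d20_2 F35318 D11308 (iv D11308)
theorem F50175 : act 7 n11308 = n7792 := d21_2 (iv F35319) D11308 (iv D7792)
theorem F50176 : act 9 n11308 = n11308 := d23_2 F35320 D11308 (iv D11308)
def n11309 : Q := act 1 n7792
theorem D11309 : act 1 n7792 = n11309 := rfl
theorem F50177 : act 3 n11309 = n11309 := d10_2 F35322 D11309 (iv D11309)
theorem F50178 : act 4 n11309 = n11309 := d11_2 F35323 D11309 (iv D11309)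
theorem F50179 : act 6 n11309 = n7793 := d13_2 (iv F35324) D11309 (iv D7793)
theorem F50180 : act 9 n11309 = n11309 := d16_2 F35325 D11309 (iv D11309)
def n11310 : Q := act 0 n7793
theorem D11310 : act 0 n7793 = n11310 := rfl
def n11311 : Q := act 2 n7794
theorem D11311 : act 2 n7794 = n11311 := rfl
theorem F50187 : act 0 n11311 = n11311 := d1_1 D11311 (iv D11311) F35331
theorem F50188 : act 3 n11311 = n8823 := d17_2 D7794 D11311 (iv D8823) (iv D6087) (iv F24952)
theorem F50189 : act 5 n11311 = n11311 := d19_2 F35333 D11311 (iv D11311)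
theorem F50190 : act 7 n11311 = n11311 := d21_2 F35334 D11311 (iv D11311)
def n11312 : Q := act 6 n7794
theorem D11312 : act 6 n7794 = n11312 := rfl
theorem F50191 : act 0 n11312 = n11312 := d5_1 D11312 (iv D11312) F35331
theorem F50192 : act 1 n11312 = n7797 := d13_1 D11312 (iv D7797) (iv F35332)
theorem F50193 : act 3 n11312 = n7795 := d26_1 D11312 (iv D7795) D7794
def n11313 : Q := act 8 n7794
theorem D11313 : act 8 n7794 = n11313 := rfl
theorem F50194 : act 0 n11313 = n11313 := d7_1 D11313 (iv D11313) F35331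
theorem F50195 : act 1 n11313 = n7798 := d15_1 D11313 (iv D7798) (iv F35332)
theorem F50196 : act 3 n11313 = n11313 := d28_1 D11313 (iv D11313) (iv D7794) F24955 D7794
theorem F50197 : act 5 n11313 = n11313 := d37_1 D11313 (iv D11313) F35333
theorem F50198 : act 7 n11313 = n11313 := d42_1 D11313 (iv D11313) F35334
def n11314 : Q := act 5 n7795
theorem D11314 : act 5 n7795 = n11314 := rfl
theorem F50199 : act 0 n11314 = n11314 := d4_1 D11314 (iv D11314) F35335
theorem F50200 : act 1 n11314 = n7799 := d12_1 D11314 (iv D7799) (iv F35336)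
theorem F50201 : act 2 n11314 = n8826 := d19_1 D11314 (iv D8826) (iv F35337)
theorem F50202 : act 4 n11314 = n11314 := d30_1 D11314 (iv D11314) F35338 F24959 (iv F35338)
theorem F50203 : act 6 n11314 = n11314 := d35_2 D7795 D11314 (iv D11314) (iv D7795) F24953
theorem F50204 : act 8 n11314 = n11314 := d37_2 F35339 D11314 (iv D11314)
def n11315 : Q := act 7 n7795
theorem D11315 : act 7 n7795 = n11315 := rfl
theorem F50205 : act 0 n11315 = n11315 := d6_1 D11315 (iv D11315) F35335
theorem F50206 : act 1 n11315 = n7800 := d14_1 D11315 (iv D7800) (iv F35336)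
theorem F50207 : act 2 n11315 = n8827 := d21_1 D11315 (iv D8827) (iv F35337)
theorem F50208 : act 4 n11315 = n7796 := d32_1 D11315 (iv D7796) (iv F35338)
theorem F50209 : act 6 n11315 = n11315 := d39_1 D11315 (iv D11315) (iv D7795) F24954 D7795
theorem F50210 : act 8 n11315 = n11315 := d42_2 F35339 D11315 (iv D11315)
def n11316 : Q := act 5 n7797
theorem D11316 : act 5 n7797 = n11316 := rfl
theorem F50211 : act 0 n11316 = n7802 := d4_1 D11316 (iv D7802) (iv F35346)
theorem F50212 : act 3 n11316 = n7799 := d25_1 D11316 (iv D7799) (iv F35347)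
theorem F50213 : act 6 n11316 = n11316 := d35_2 D7797 D11316 (iv D11316) (iv D7797) F24962
def n11317 : Q := act 7 n7797
theorem D11317 : act 7 n7797 = n11317 := rfl
theorem F50214 : act 0 n11317 = n7803 := d6_1 D11317 (iv D7803) (iv F35346)
theorem F50215 : act 3 n11317 = n7800 := d27_1 D11317 (iv D7800) (iv F35347)
theorem F50216 : act 6 n11317 = n11317 := d39_1 D11317 (iv D11317) (iv D7797) F24963 D7797
def n11318 : Q := act 8 n7797
theorem D11318 : act 8 n7797 = n11318 := rfl
theorem F50217 : act 0 n11318 = n7804 := d7_1 D11318 (iv D7804) (iv F35346)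
theorem F50218 : act 3 n11318 = n11318 := d28_1 D11318 (iv D11318) F35347 F24967 (iv F35347)
theorem F50219 : act 6 n11318 = n7798 := d40_1 D11318 (iv D7798) D7797
def n11319 : Q := act 9 n7798
theorem D11319 : act 9 n7798 = n11319 := rfl
theorem F50220 : act 0 n11319 = n7805 := d8_1 D11319 (iv D7805) (iv F35348)
theorem F50221 : act 3 n11319 = n11319 := d29_1 D11319 (iv D11319) F35349
theorem F50222 : act 5 n11319 = n11319 := d38_1 D11319 (iv D11319) F35350
theorem F50223 : act 7 n11319 = n11319 := d43_1 D11319 (iv D11319) F35351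
def n11320 : Q := act 7 n7799
theorem D11320 : act 7 n7799 = n11320 := rfl
theorem F50224 : act 0 n11320 = n7806 := d6_1 D11320 (iv D7806) (iv F35352)
theorem F50225 : act 2 n11320 = n7801 := d21_1 D11320 (iv D7801) (iv F35353)
theorem F50226 : act 4 n11320 = n11320 := d32_1 D11320 (iv D11320) F35354
theorem F50227 : act 5 n11320 = n7800 := d36_1 D11320 (iv D7800) D7799
theorem F50228 : act 8 n11320 = n11320 := d42_2 F35356 D11320 (iv D11320)
def n11321 : Q := act 6 n7801
theorem D11321 : act 6 n7801 = n11321 := rfl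
def n11322 : Q := act 4 n7802
theorem D11322 : act 4 n7802 = n11322 := rfl
theorem F50235 : act 1 n11322 = n11322 := d11_1 D11322 (iv D11322) F35367
theorem F50236 : act 3 n11322 = n11322 := d24_1 D11322 (iv D11322) F35368 F24991 (iv F35368)
theorem F50237 : act 6 n11322 = n11322 := d31_2 F35369 D11322 (iv D11322)
def n11323 : Q := act 7 n7802
theorem D11323 : act 7 n7802 = n11323 := rfl
theorem F50238 : act 1 n11323 = n11323 := d14_1 D11323 (iv D11323) F35367
theorem F50239 : act 3 n11323 = n7806 := d27_1 D11323 (iv D7806) (iv F35368)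
theorem F50240 : act 5 n11323 = n7803 := d36_1 D11323 (iv D7803) D7802
def n11324 : Q := act 8 n7802
theorem D11324 : act 8 n7802 = n11324 := rfl
theorem F50241 : act 1 n11324 = n11324 := d15_1 D11324 (iv D11324) F35367
theorem F50242 : act 3 n11324 = n11324 := d28_1 D11324 (iv D11324) F35368 F24993 (iv F35368)
theorem F50243 : act 5 n11324 = n7804 := d37_1 D11324 (iv D7804) D7802
theorem F50244 : act 6 n11324 = n11324 := d40_1 D11324 (iv D11324) F35369
def n11325 : Q := act 8 n7803
theorem D11325 : act 8 n7803 = n11325 := rfl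
theorem F50245 : act 1 n11325 = n11325 := d15_1 D11325 (iv D11325) F35370
theorem F50246 : act 3 n11325 = n11325 := d28_1 D11325 (iv D11325) F35371 F24998 (iv F35371)
theorem F50247 : act 6 n11325 = n11325 := d40_1 D11325 (iv D11325) F35372
theorem F50248 : act 7 n11325 = n7804 := d42_1 D11325 (iv D7804) D7803
def n11326 : Q := act 9 n7804
theorem D11326 : act 9 n7804 = n11326 := rfl
theorem F50249 : act 1 n11326 = n11326 := d16_1 D11326 (iv D11326) F35373
theorem F50250 : act 3 n11326 = n11326 := d29_1 D11326 (iv D11326) F35374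
theorem F50251 : act 6 n11326 = n7805 := d41_1 D11326 (iv D7805) (iv F35375)
def n11328 : Q := act 4 n7808
theorem D11328 : act 4 n7808 = n11328 := rfl
theorem F50259 : act 1 n11328 = n7810 := d11_1 D11328 (iv D7810) (iv F35391)
theorem F50261 : act 5 n11328 = n7917 := d30_2 D7808 D11328 (iv D7917) (iv D5471) (iv F25011)
theorem F50262 : act 7 n11328 = n7844 := d32_2 (iv F35393) D11328 (iv D7844)
def n11329 : Q := act 6 n7808
theorem D11329 : act 6 n7808 = n11329 := rfl
theorem F50265 : act 1 n11329 = n7811 := d13_1 D11329 (iv D7811) (iv F35391)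
def n11330 : Q := act 8 n7808
theorem D11330 : act 8 n7808 = n11330 := rfl
def n11333 : Q := act 3 n7810
theorem D11333 : act 3 n7810 = n11333 := rfl
theorem F50285 : act 0 n11333 = n7820 := d2_1 D11333 (iv D7820) (iv F35401)
theorem F50286 : act 2 n11333 = n11333 := d17_1 D11333 (iv D11333) F35402 F25026 (iv F35402)
theorem F50287 : act 5 n11333 = n7922 := d25_2 (iv F35403) D11333 (iv D7922)
theorem F50288 : act 7 n11333 = n7849 := d27_2 (iv F35404) D11333 (iv D7849)
theorem F50289 : act 9 n11333 = n11333 := d29_2 F35405 D11333 (iv D11333)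
def n11334 : Q := act 6 n7810
theorem D11334 : act 6 n7810 = n11334 := rfl
theorem F50290 : act 0 n11334 = n7821 := d5_1 D11334 (iv D7821) (iv F35401)
theorem F50291 : act 2 n11334 = n7815 := d20_1 D11334 (iv D7815) (iv F35402)
theorem F50292 : act 4 n11334 = n7811 := d31_1 D11334 (iv D7811) D7810
theorem F50293 : act 9 n11334 = n11334 := d41_2 F35405 D11334 (iv D11334)
def n11335 : Q := act 8 n7810
theorem D11335 : act 8 n7810 = n11335 := rfl
theorem F50295 : act 2 n11335 = n7816 := d22_1 D11335 (iv D7816) (iv F35402)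
theorem F50296 : act 4 n11335 = n7812 := d33_1 D11335 (iv D7812) D7810
theorem F50297 : act 5 n11335 = n7924 := d37_1 D11335 (iv D7924) (iv F35403)
theorem F50298 : act 7 n11335 = n7851 := d42_1 D11335 (iv D7851) (iv F35404)
def n11336 : Q := act 7 n7811
theorem D11336 : act 7 n7811 = n11336 := rfl
theorem F50299 : act 0 n11336 = n7823 := d6_1 D11336 (iv D7823) (iv F35406)
theorem F50300 : act 2 n11336 = n7817 := d21_1 D11336 (iv D7817) (iv F35407)
theorem F50301 : act 5 n11336 = n11336 := d36_1 D11336 (iv D11336) F35408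
theorem F50302 : act 6 n11336 = n7852 := d39_1 D11336 (iv D7852) (iv D5420) (iv F25017) D7811
theorem F50303 : act 9 n11336 = n11336 := d43_2 F35409 D11336 (iv D11336)
def n11337 : Q := act 8 n7811
theorem D11337 : act 8 n7811 = n11337 := rfl
theorem F50304 : act 0 n11337 = n7824 := d7_1 D11337 (iv D7824) (iv F35406)
theorem F50305 : act 2 n11337 = n7818 := d22_1 D11337 (iv D7818) (iv F35407)
def n11338 : Q := act 3 n7812
theorem D11338 : act 3 n7812 = n11338 := rfl
def n11339 : Q := act 9 n7812
theorem D11339 : act 9 n7812 = n11339 := rfl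
theorem F50312 : act 2 n11339 = n7819 := d23_1 D11339 (iv D7819) (iv F35411)
theorem F50314 : act 7 n11339 = n7855 := d43_1 D11339 (iv D7855) (iv F35413)
def n11341 : Q := act 9 n7813
theorem D11341 : act 9 n7813 = n11341 := rfl
def n11342 : Q := act 5 n7815
theorem D11342 : act 5 n7815 = n11342 := rfl
theorem F50325 : act 1 n11342 = n8854 := d12_1 D11342 (iv D8854) (iv F35424)
theorem F50328 : act 6 n11342 = n7930 := d35_2 D7815 D11342 (iv D7930) (iv D5478) (iv F25027)
def n11343 : Q := act 7 n7815
theorem D11343 : act 7 n7815 = n11343 := rfl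
theorem F50333 : act 4 n11343 = n7817 := d32_1 D11343 (iv D7817) (iv F35426)
theorem F50334 : act 6 n11343 = n7858 := d39_1 D11343 (iv D7858) (iv D5424) (iv F25028) D7815
def n11344 : Q := act 8 n7815
theorem D11344 : act 8 n7815 = n11344 := rfl
theorem F50338 : act 4 n11344 = n7818 := d33_1 D11344 (iv D7818) (iv F35426)
def n11345 : Q := act 3 n7816
theorem D11345 : act 3 n7816 = n11345 := rfl
theorem F50342 : act 5 n11345 = n7932 := d25_2 (iv F35431) D11345 (iv D7932)
theorem F50343 : act 7 n11345 = n7860 := d27_2 (iv F35432) D11345 (iv D7860)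
def n11346 : Q := act 9 n7816
theorem D11346 : act 9 n7816 = n11346 := rfl
theorem F50347 : act 4 n11346 = n7819 := d34_1 D11346 (iv D7819) (iv F35430)
theorem F50348 : act 5 n11346 = n7933 := d38_1 D11346 (iv D7933) (iv F35431)
def n11347 : Q := act 8 n7817
theorem D11347 : act 8 n7817 = n11347 := rfl
def n11348 : Q := act 9 n7818
theorem D11348 : act 9 n7818 = n11348 := rfl
def n11349 : Q := act 6 n7820
theorem D11349 : act 6 n7820 = n11349 := rfl
theorem F50361 : act 1 n11349 = n11349 := d13_1 D11349 (iv D11349) F35448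
theorem F50362 : act 2 n11349 = n11349 := d20_1 D11349 (iv D11349) F35449
theorem F50363 : act 3 n11349 = n7821 := d26_1 D11349 (iv D7821) D7820
theorem F50364 : act 9 n11349 = n11349 := d41_2 F35452 D11349 (iv D11349)
def n11350 : Q := act 8 n7820
theorem D11350 : act 8 n7820 = n11350 := rfl
theorem F50365 : act 1 n11350 = n11350 := d15_1 D11350 (iv D11350) F35448
theorem F50366 : act 2 n11350 = n11350 := d22_1 D11350 (iv D11350) F35449
theorem F50367 : act 5 n11350 = n7936 := d37_1 D11350 (iv D7936) (iv F35450)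
theorem F50368 : act 7 n11350 = n7865 := d42_1 D11350 (iv D7865) (iv F35451)
def n11351 : Q := act 5 n7821
theorem D11351 : act 5 n7821 = n11351 := rfl
theorem F50372 : act 6 n11351 = n7937 := d35_2 D7821 D11351 (iv D7937) (iv D5483) (iv F25053)
def n11352 : Q := act 7 n7821
theorem D11352 : act 7 n7821 = n11352 := rfl
theorem F50375 : act 2 n11352 = n7830 := d21_1 D11352 (iv D7830) (iv F35454)
theorem F50376 : act 4 n11352 = n7823 := d32_1 D11352 (iv D7823) (iv F35455)
theorem F50377 : act 6 n11352 = n7866 := d39_1 D11352 (iv D7866) (iv D5430) (iv F25054) D7821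
def n11353 : Q := act 8 n7821
theorem D11353 : act 8 n7821 = n11353 := rfl
theorem F50380 : act 2 n11353 = n7831 := d22_1 D11353 (iv D7831) (iv F35454)
theorem F50381 : act 4 n11353 = n7824 := d33_1 D11353 (iv D7824) (iv F35455)
theorem F50382 : act 6 n11353 = n7822 := d40_1 D11353 (iv D7822) D7821
def n11354 : Q := act 3 n7822
theorem D11354 : act 3 n7822 = n11354 := rfl
theorem F50383 : act 1 n11354 = n11354 := d10_1 D11354 (iv D11354) F35457
theorem F50384 : act 5 n11354 = n7939 := d25_2 (iv F35460) D11354 (iv D7939)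
theorem F50385 : act 7 n11354 = n7868 := d27_2 (iv F35461) D11354 (iv D7868)
def n11355 : Q := act 9 n7822
theorem D11355 : act 9 n7822 = n11355 := rfl
theorem F50388 : act 4 n11355 = n7826 := d34_1 D11355 (iv D7826) (iv F35459)
theorem F50389 : act 5 n11355 = n7940 := d38_1 D11355 (iv D7940) (iv F35460)
def n11356 : Q := act 8 n7823
theorem D11356 : act 8 n7823 = n11356 := rfl
theorem F50393 : act 2 n11356 = n7834 := d22_1 D11356 (iv D7834) (iv F35463)
theorem F50395 : act 6 n11356 = n7870 := d40_1 D11356 (iv D7870) (iv F35465)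
theorem F50396 : act 7 n11356 = n7824 := d42_1 D11356 (iv D7824) D7823
def n11357 : Q := act 3 n7824
theorem D11357 : act 3 n7824 = n11357 := rfl
theorem F50397 : act 1 n11357 = n11357 := d10_1 D11357 (iv D11357) F35467
theorem F50398 : act 5 n11357 = n11357 := d25_2 F35469 D11357 (iv D11357)
theorem F50399 : act 6 n11357 = n7825 := d26_2 (iv F35470) D11357 (iv D7825)
def n11358 : Q := act 9 n7824
theorem D11358 : act 9 n7824 = n11358 := rfl
def n11359 : Q := act 4 n7825
theorem D11359 : act 4 n7825 = n11359 := rfl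
theorem F50405 : act 1 n11359 = n11359 := d11_1 D11359 (iv D11359) F35471
theorem F50406 : act 7 n11359 = n7873 := d32_2 (iv F35473) D11359 (iv D7873)
def n11361 : Q := act 5 n7827
theorem D11361 : act 5 n7827 = n11361 := rfl
theorem F50411 : act 1 n11361 = n11361 := d12_1 D11361 (iv D11361) F35479
theorem F50412 : act 3 n11361 = n7945 := d25_1 D11361 (iv D7945) (iv F35480)
theorem F50413 : act 7 n11361 = n7875 := d36_2 (iv F35482) D11361 (iv D7875)
def n11365 : Q := act 8 n7829
theorem D11365 : act 8 n7829 = n11365 := rfl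
theorem F50431 : act 5 n11365 = n7831 := d37_1 D11365 (iv D7831) D7829
theorem F50432 : act 6 n11365 = n7948 := d40_1 D11365 (iv D7948) (iv F35490)
def n11366 : Q := act 8 n7830
theorem D11366 : act 8 n7830 = n11366 := rfl
theorem F50435 : act 6 n11366 = n7878 := d40_1 D11366 (iv D7878) (iv F35495)
theorem F50436 : act 7 n11366 = n7831 := d42_1 D11366 (iv D7831) D7830
def n11367 : Q := act 3 n7831
theorem D11367 : act 3 n7831 = n11367 := rfl
def n11368 : Q := act 9 n7831
theorem D11368 : act 9 n7831 = n11368 := rfl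
def n11369 : Q := act 2 n7832
theorem D11369 : act 2 n7832 = n11369 := rfl
theorem F50444 : act 5 n11369 = n7951 := d19_2 (iv F35501) D11369 (iv D7951)
theorem F50445 : act 7 n11369 = n7881 := d21_2 (iv F35502) D11369 (iv D7881)
def n11370 : Q := act 9 n7832
theorem D11370 : act 9 n7832 = n11370 := rfl
theorem F50449 : act 5 n11370 = n7952 := d38_1 D11370 (iv D7952) (iv F35501)
theorem F50450 : act 7 n11370 = n7882 := d43_1 D11370 (iv D7882) (iv F35502)
def n11373 : Q := act 3 n7837
theorem D11373 : act 3 n7837 = n11373 := rfl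
theorem F50463 : act 5 n11373 = n7839 := d25_2 (iv F35527) D11373 (iv D7839)
theorem F50464 : act 6 n11373 = n7953 := d26_2 (iv F35528) D11373 (iv D7953)
def n11375 : Q := act 3 n7838
theorem D11375 : act 3 n7838 = n11375 := rfl
theorem F50473 : act 6 n11375 = n7884 := d26_2 (iv F35532) D11375 (iv D7884)
theorem F50474 : act 7 n11375 = n7839 := d27_2 (iv F35533) D11375 (iv D7839)
def n11377 : Q := act 2 n7839
theorem D11377 : act 2 n7839 = n11377 := rfl
theorem F50484 : act 6 n11377 = n7841 := d20_2 (iv F35535) D11377 (iv D7841)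
def n11378 : Q := act 9 n7839
theorem D11378 : act 9 n7839 = n11378 := rfl
def n11379 : Q := act 1 n7841
theorem D11379 : act 1 n7841 = n11379 := rfl
theorem F50490 : act 5 n11379 = n7957 := d12_2 (iv F35544) D11379 (iv D7957)
def n11380 : Q := act 9 n7841
theorem D11380 : act 9 n7841 = n11380 := rfl
theorem F50496 : act 5 n11380 = n7958 := d38_1 D11380 (iv D7958) (iv F35544)
def n11381 : Q := act 8 n7842
theorem D11381 : act 8 n7842 = n11381 := rfl
theorem F50500 : act 5 n11381 = n7959 := d37_1 D11381 (iv D7959) (iv F35549)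
theorem F50501 : act 7 n11381 = n7890 := d42_1 D11381 (iv D7890) (iv F35550)
def n11383 : Q := act 6 n7844
theorem D11383 : act 6 n7844 = n11383 := rfl
theorem F50508 : act 1 n11383 = n7850 := d13_1 D11383 (iv D7850) (iv F35558)
theorem F50509 : act 2 n11383 = n8895 := d20_1 D11383 (iv D8895) (iv F35559)
def n11384 : Q := act 8 n7844
theorem D11384 : act 8 n7844 = n11384 := rfl
theorem F50514 : act 1 n11384 = n7851 := d15_1 D11384 (iv D7851) (iv F35558)
theorem F50515 : act 2 n11384 = n8896 := d22_1 D11384 (iv D8896) (iv F35559)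
def n11385 : Q := act 7 n7845
theorem D11385 : act 7 n7845 = n11385 := rfl
theorem F50519 : act 1 n11385 = n7852 := d14_1 D11385 (iv D7852) (iv F35563)
def n11386 : Q := act 8 n7845
theorem D11386 : act 8 n7845 = n11386 := rfl
theorem F50524 : act 1 n11386 = n7853 := d15_1 D11386 (iv D7853) (iv F35563)
def n11392 : Q := act 6 n7849
theorem D11392 : act 6 n7849 = n11392 := rfl
theorem F50547 : act 0 n11392 = n7864 := d5_1 D11392 (iv D7864) (iv F35580)
theorem F50548 : act 2 n11392 = n11392 := d20_1 D11392 (iv D11392) F35581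
theorem F50549 : act 3 n11392 = n7850 := d26_1 D11392 (iv D7850) D7849
theorem F50550 : act 5 n11392 = n11392 := d35_1 D11392 (iv D11392) F35582 F25516 (iv F35582)
theorem F50551 : act 9 n11392 = n11392 := d41_2 F35583 D11392 (iv D11392)
def n11393 : Q := act 8 n7849
theorem D11393 : act 8 n7849 = n11393 := rfl
theorem F50552 : act 0 n11393 = n7865 := d7_1 D11393 (iv D7865) (iv F35580)
theorem F50553 : act 2 n11393 = n11393 := d22_1 D11393 (iv D11393) F35581
theorem F50554 : act 5 n11393 = n7967 := d37_1 D11393 (iv D7967) (iv F35582)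
def n11394 : Q := act 7 n7850
theorem D11394 : act 7 n7850 = n11394 := rfl
theorem F50555 : act 0 n11394 = n7866 := d6_1 D11394 (iv D7866) (iv F35584)
theorem F50556 : act 2 n11394 = n7858 := d21_1 D11394 (iv D7858) (iv F35585)
theorem F50557 : act 4 n11394 = n7852 := d32_1 D11394 (iv D7852) (iv F35586)
theorem F50558 : act 5 n11394 = n11394 := d36_1 D11394 (iv D11394) F35587
theorem F50559 : act 9 n11394 = n11394 := d43_2 F35588 D11394 (iv D11394)
def n11395 : Q := act 8 n7850
theorem D11395 : act 8 n7850 = n11395 := rfl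
theorem F50560 : act 0 n11395 = n7867 := d7_1 D11395 (iv D7867) (iv F35584)
theorem F50564 : act 6 n11395 = n7851 := d40_1 D11395 (iv D7851) D7850
def n11396 : Q := act 3 n7851
theorem D11396 : act 3 n7851 = n11396 := rfl
theorem F50565 : act 0 n11396 = n7868 := d2_1 D11396 (iv D7868) (iv F35589)
theorem F50566 : act 5 n11396 = n7968 := d25_2 (iv F35592) D11396 (iv D7968)
def n11397 : Q := act 9 n7851
theorem D11397 : act 9 n7851 = n11397 := rfl
theorem F50567 : act 0 n11397 = n7869 := d8_1 D11397 (iv D7869) (iv F35589)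
theorem F50570 : act 5 n11397 = n7969 := d38_1 D11397 (iv D7969) (iv F35592)
def n11398 : Q := act 8 n7852
theorem D11398 : act 8 n7852 = n11398 := rfl
theorem F50572 : act 0 n11398 = n7870 := d7_1 D11398 (iv D7870) (iv F35593)
theorem F50573 : act 2 n11398 = n7862 := d22_1 D11398 (iv D7862) (iv F35594)
theorem F50574 : act 5 n11398 = n7898 := d37_1 D11398 (iv D7898) (iv F35595)
theorem F50575 : act 7 n11398 = n7853 := d42_1 D11398 (iv D7853) D7852
def n11399 : Q := act 3 n7853
theorem D11399 : act 3 n7853 = n11399 := rfl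
def n11400 : Q := act 9 n7853
theorem D11400 : act 9 n7853 = n11400 := rfl
theorem F50579 : act 0 n11400 = n7872 := d8_1 D11400 (iv D7872) (iv F35597)
theorem F50581 : act 5 n11400 = n7900 := d38_1 D11400 (iv D7900) (iv F35599)
theorem F50582 : act 6 n11400 = n7855 := d41_1 D11400 (iv D7855) (iv F35600)
def n11401 : Q := act 4 n7854
theorem D11401 : act 4 n7854 = n11401 := rfl
def n11405 : Q := act 8 n7857
theorem D11405 : act 8 n7857 = n11405 := rfl
def n11406 : Q := act 8 n7858
theorem D11406 : act 8 n7858 = n11406 := rfl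
theorem F50601 : act 7 n11406 = n7859 := d42_1 D11406 (iv D7859) D7858
def n11408 : Q := act 9 n7859
theorem D11408 : act 9 n7859 = n11408 := rfl
def n11409 : Q := act 2 n7860
theorem D11409 : act 2 n7860 = n11409 := rfl
theorem F50613 : act 0 n11409 = n7881 := d1_1 D11409 (iv D7881) (iv F35624)
theorem F50614 : act 5 n11409 = n7975 := d19_2 (iv F35626) D11409 (iv D7975)
def n11410 : Q := act 9 n7860
theorem D11410 : act 9 n7860 = n11410 := rfl
theorem F50619 : act 5 n11410 = n7976 := d38_1 D11410 (iv D7976) (iv F35626)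
def n11412 : Q := act 7 n7864
theorem D11412 : act 7 n7864 = n11412 := rfl
theorem F50625 : act 1 n11412 = n11412 := d14_1 D11412 (iv D11412) F35642
theorem F50626 : act 2 n11412 = n11412 := d21_1 D11412 (iv D11412) F35643
theorem F50627 : act 3 n11412 = n7866 := d27_1 D11412 (iv D7866) (iv F35644)
theorem F50628 : act 5 n11412 = n11412 := d36_1 D11412 (iv D11412) F35645
theorem F50629 : act 9 n11412 = n11412 := d43_2 F35646 D11412 (iv D11412)
def n11413 : Q := act 8 n7864
theorem D11413 : act 8 n7864 = n11413 := rfl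
theorem F50630 : act 1 n11413 = n11413 := d15_1 D11413 (iv D11413) F35642
theorem F50631 : act 2 n11413 = n11413 := d22_1 D11413 (iv D11413) F35643
theorem F50632 : act 5 n11413 = n11413 := d37_1 D11413 (iv D11413) F35645
theorem F50633 : act 6 n11413 = n7865 := d40_1 D11413 (iv D7865) D7864
def n11414 : Q := act 3 n7865
theorem D11414 : act 3 n7865 = n11414 := rfl
theorem F50634 : act 1 n11414 = n11414 := d10_1 D11414 (iv D11414) F35647
theorem F50635 : act 5 n11414 = n7977 := d25_2 (iv F35649) D11414 (iv D7977)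
theorem F50636 : act 8 n11414 = n7868 := d28_2 D7865 D11414 (iv D7868) (iv D5431) D5429
def n11415 : Q := act 9 n7865
theorem D11415 : act 9 n7865 = n11415 := rfl
theorem F50637 : act 1 n11415 = n11415 := d16_1 D11415 (iv D11415) F35647
theorem F50638 : act 2 n11415 = n11415 := d23_1 D11415 (iv D11415) F35648
theorem F50639 : act 5 n11415 = n7978 := d38_1 D11415 (iv D7978) (iv F35649)
theorem F50640 : act 8 n11415 = n11415 := d44_1 D11415 (iv D11415) (iv D7865) F25182 D7865
def n11416 : Q := act 8 n7866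
theorem D11416 : act 8 n7866 = n11416 := rfl
theorem F50642 : act 2 n11416 = n7878 := d22_1 D11416 (iv D7878) (iv F35651)
theorem F50643 : act 4 n11416 = n7870 := d33_1 D11416 (iv D7870) (iv F35652)
theorem F50645 : act 7 n11416 = n7867 := d42_1 D11416 (iv D7867) D7866
def n11417 : Q := act 3 n7867
theorem D11417 : act 3 n7867 = n11417 := rfl
theorem F50646 : act 1 n11417 = n11417 := d10_1 D11417 (iv D11417) F35655
theorem F50647 : act 5 n11417 = n11417 := d25_2 F35658 D11417 (iv D11417)
theorem F50648 : act 6 n11417 = n7868 := d26_2 (iv F35659) D11417 (iv D7868)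
def n11419 : Q := act 2 n7868
theorem D11419 : act 2 n7868 = n11419 := rfl
theorem F50655 : act 3 n11419 = n7881 := d17_2 D7868 D11419 (iv D7881) (iv D5440) (iv F25189)
theorem F50656 : act 5 n11419 = n7979 := d19_2 (iv F35661) D11419 (iv D7979)
def n11420 : Q := act 4 n7868
theorem D11420 : act 4 n7868 = n11420 := rfl
theorem F50657 : act 1 n11420 = n11420 := d11_1 D11420 (iv D11420) F35660
theorem F50658 : act 3 n11420 = n7873 := d24_1 D11420 (iv D7873) (iv D5434) (iv F25190) D7868
def n11421 : Q := act 9 n7868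
theorem D11421 : act 9 n7868 = n11421 := rfl
theorem F50660 : act 3 n11421 = n7869 := d29_1 D11421 (iv D7869) D7868
theorem F50661 : act 5 n11421 = n7981 := d38_1 D11421 (iv D7981) (iv F35661)
def n11422 : Q := act 3 n7870
theorem D11422 : act 3 n7870 = n11422 := rfl
theorem F50662 : act 1 n11422 = n11422 := d10_1 D11422 (iv D11422) F35667
theorem F50663 : act 5 n11422 = n7907 := d25_2 (iv F35669) D11422 (iv D7907)
theorem F50664 : act 7 n11422 = n7871 := d27_2 (iv F35670) D11422 (iv D7871)
def n11423 : Q := act 9 n7870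
theorem D11423 : act 9 n7870 = n11423 := rfl
theorem F50666 : act 2 n11423 = n7883 := d23_1 D11423 (iv D7883) (iv F35668)
def n11424 : Q := act 4 n7871
theorem D11424 : act 4 n7871 = n11424 := rfl
theorem F50670 : act 1 n11424 = n11424 := d11_1 D11424 (iv D11424) F35671
theorem F50671 : act 6 n11424 = n7873 := d31_2 (iv F35673) D11424 (iv D7873)
def n11426 : Q := act 5 n7873
theorem D11426 : act 5 n7873 = n11426 := rfl
theorem F50676 : act 1 n11426 = n11426 := d12_1 D11426 (iv D11426) F35679
theorem F50677 : act 4 n11426 = n7875 := d30_1 D11426 (iv D7875) (iv D5436) (iv F25201) D7873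
def n11429 : Q := act 6 n7875
theorem D11429 : act 6 n7875 = n11429 := rfl
theorem F50683 : act 1 n11429 = n11429 := d13_1 D11429 (iv D11429) F35683
theorem F50684 : act 3 n11429 = n7985 := d26_1 D11429 (iv D7985) (iv F35684)
theorem F50685 : act 5 n11429 = n7914 := d35_1 D11429 (iv D7914) (iv D5467) (iv F25208) D7875
def n11432 : Q := act 3 n7878
theorem D11432 : act 3 n7878 = n11432 := rfl
theorem F50692 : act 1 n11432 = n7884 := d10_1 D11432 (iv D7884) (iv F35692)
theorem F50694 : act 7 n11432 = n7879 := d27_2 (iv F35695) D11432 (iv D7879)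
def n11434 : Q := act 2 n7879
theorem D11434 : act 2 n7879 = n11434 := rfl
theorem F50702 : act 6 n11434 = n7881 := d20_2 (iv F35698) D11434 (iv D7881)
def n11436 : Q := act 1 n7881
theorem D11436 : act 1 n7881 = n11436 := rfl
theorem F50709 : act 5 n11436 = n7988 := d12_2 (iv F35705) D11436 (iv D7988)
def n11437 : Q := act 9 n7881
theorem D11437 : act 9 n7881 = n11437 := rfl
theorem F50711 : act 2 n11437 = n7882 := d23_1 D11437 (iv D7882) D7881
theorem F50712 : act 5 n11437 = n7989 := d38_1 D11437 (iv D7989) (iv F35705)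
def n11438 : Q := act 8 n7882
theorem D11438 : act 8 n7882 = n11438 := rfl
theorem F50713 : act 1 n11438 = n7890 := d15_1 D11438 (iv D7890) (iv F35707)
def n11439 : Q := act 2 n7884
theorem D11439 : act 2 n7884 = n11439 := rfl
def n11440 : Q := act 9 n7884
theorem D11440 : act 9 n7884 = n11440 := rfl
theorem F50723 : act 3 n11440 = n7885 := d29_1 D11440 (iv D7885) D7884
def n11443 : Q := act 8 n7887
theorem D11443 : act 8 n7887 = n11443 := rfl
theorem F50738 : act 6 n11443 = n7890 := d40_1 D11443 (iv D7890) (iv F35732)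
def n11444 : Q := act 0 n7888
theorem D11444 : act 0 n7888 = n11444 := rfl
theorem F50742 : act 5 n11444 = n7991 := d4_2 (iv F35734) D11444 (iv D7991)
def n11445 : Q := act 9 n7888
theorem D11445 : act 9 n7888 = n11445 := rfl
theorem F50746 : act 5 n11445 = n7992 := d38_1 D11445 (iv D7992) (iv F35734)
def n11458 : Q := act 3 n7898
theorem D11458 : act 3 n7898 = n11458 := rfl
theorem F50801 : act 7 n11458 = n7899 := d27_2 (iv F35781) D11458 (iv D7899)
def n11460 : Q := act 4 n7899
theorem D11460 : act 4 n7899 = n11460 := rfl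
def n11463 : Q := act 9 n7901
theorem D11463 : act 9 n7901 = n11463 := rfl
theorem F50820 : act 4 n11463 = n7902 := d34_1 D11463 (iv D7902) D7901
def n11464 : Q := act 8 n7902
theorem D11464 : act 8 n7902 = n11464 := rfl
def n11466 : Q := act 9 n7903
theorem D11466 : act 9 n7903 = n11466 := rfl
theorem F50828 : act 0 n11466 = n7915 := d8_1 D11466 (iv D7915) (iv F35796)
theorem F50829 : act 3 n11466 = n8000 := d29_1 D11466 (iv D8000) (iv F35797)
theorem F50830 : act 5 n11466 = n7904 := d38_1 D11466 (iv D7904) D7903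
def n11468 : Q := act 4 n7907
theorem D11468 : act 4 n7907 = n11468 := rfl
theorem F50835 : act 1 n11468 = n11468 := d11_1 D11468 (iv D11468) F35812
theorem F50836 : act 3 n11468 = n11468 := d24_1 D11468 (iv D11468) (iv D7907) F25318 D7907
theorem F50837 : act 6 n11468 = n11468 := d31_2 F35813 D11468 (iv D11468)
theorem F50838 : act 7 n11468 = n7909 := d32_2 (iv F35814) D11468 (iv D7909)
def n11470 : Q := act 5 n7909
theorem D11470 : act 5 n7909 = n11470 := rfl
theorem F50843 : act 1 n11470 = n11470 := d12_1 D11470 (iv D11470) F35821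
theorem F50844 : act 3 n11470 = n11470 := d25_1 D11470 (iv D11470) F35822
def n11473 : Q := act 6 n7911
theorem D11473 : act 6 n7911 = n11473 := rfl
theorem F50852 : act 1 n11473 = n11473 := d13_1 D11473 (iv D11473) F35827
theorem F50853 : act 3 n11473 = n11473 := d26_1 D11473 (iv D11473) F35828
theorem F50854 : act 4 n11473 = n7914 := d31_1 D11473 (iv D7914) (iv F35829)
def n11474 : Q := act 9 n7911
theorem D11474 : act 9 n7911 = n11474 := rfl
theorem F50857 : act 4 n11474 = n7915 := d34_1 D11474 (iv D7915) (iv F35829)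
def n11476 : Q := act 7 n7914
theorem D11476 : act 7 n7914 = n11476 := rfl
theorem F50863 : act 1 n11476 = n11476 := d14_1 D11476 (iv D11476) F35839
theorem F50864 : act 3 n11476 = n8002 := d27_1 D11476 (iv D8002) (iv F35840)
theorem F50865 : act 6 n11476 = n11476 := d39_1 D11476 (iv D11476) (iv D7914) F25337 D7914
def n11477 : Q := act 9 n7914
theorem D11477 : act 9 n7914 = n11477 := rfl
theorem F50867 : act 3 n11477 = n8003 := d29_1 D11477 (iv D8003) (iv F35840)
theorem F50868 : act 6 n11477 = n7915 := d41_1 D11477 (iv D7915) D7914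
def n11478 : Q := act 8 n7915
theorem D11478 : act 8 n7915 = n11478 := rfl
theorem F50870 : act 5 n11478 = n7916 := d37_1 D11478 (iv D7916) (iv F35843)
def n11479 : Q := act 3 n7916
theorem D11479 : act 3 n7916 = n11479 := rfl
def n11481 : Q := act 6 n7917
theorem D11481 : act 6 n7917 = n11481 := rfl
theorem F50882 : act 1 n11481 = n7923 := d13_1 D11481 (iv D7923) (iv F35849)
def n11482 : Q := act 8 n7917
theorem D11482 : act 8 n7917 = n11482 := rfl
def n11489 : Q := act 6 n7922
theorem D11489 : act 6 n7922 = n11489 := rfl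
theorem F50925 : act 0 n11489 = n7935 := d5_1 D11489 (iv D7935) (iv F35876)
theorem F50926 : act 2 n11489 = n11489 := d20_1 D11489 (iv D11489) F35877
theorem F50927 : act 3 n11489 = n7923 := d26_1 D11489 (iv D7923) D7922
theorem F50928 : act 4 n11489 = n11489 := d31_1 D11489 (iv D11489) F35878
theorem F50929 : act 7 n11489 = n11489 := d39_2 (iv F35879) D11489 (iv D11489) F35879 F25516
theorem F50930 : act 9 n11489 = n11489 := d41_2 F35880 D11489 (iv D11489)
def n11490 : Q := act 8 n7922
theorem D11490 : act 8 n7922 = n11490 := rfl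
theorem F50931 : act 0 n11490 = n7936 := d7_1 D11490 (iv D7936) (iv F35876)
theorem F50932 : act 2 n11490 = n11490 := d22_1 D11490 (iv D11490) F35877
theorem F50933 : act 4 n11490 = n11490 := d33_1 D11490 (iv D11490) F35878
theorem F50934 : act 7 n11490 = n7967 := d42_1 D11490 (iv D7967) (iv F35879)
def n11491 : Q := act 5 n7923
theorem D11491 : act 5 n7923 = n11491 := rfl
theorem F50935 : act 0 n11491 = n7937 := d4_1 D11491 (iv D7937) (iv F35881)
theorem F50936 : act 2 n11491 = n7930 := d19_1 D11491 (iv D7930) (iv F35882)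
theorem F50937 : act 4 n11491 = n11491 := d30_1 D11491 (iv D11491) F35883 F25368 (iv F35883)
theorem F50938 : act 7 n11491 = n11491 := d36_2 F35884 D11491 (iv D11491)
theorem F50939 : act 9 n11491 = n11491 := d38_2 F35885 D11491 (iv D11491)
def n11492 : Q := act 8 n7923
theorem D11492 : act 8 n7923 = n11492 := rfl
theorem F50943 : act 6 n11492 = n7924 := d40_1 D11492 (iv D7924) D7923
def n11493 : Q := act 3 n7924
theorem D11493 : act 3 n7924 = n11493 := rfl
theorem F50945 : act 0 n11493 = n7939 := d2_1 D11493 (iv D7939) (iv F35886)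
def n11494 : Q := act 9 n7924
theorem D11494 : act 9 n7924 = n11494 := rfl
def n11496 : Q := act 9 n7925
theorem D11496 : act 9 n7925 = n11496 := rfl
theorem F50961 : act 6 n11496 = n7927 := d41_1 D11496 (iv D7927) (iv F35893)
def n11502 : Q := act 8 n7930
theorem D11502 : act 8 n7930 = n11502 := rfl
theorem F50989 : act 1 n11502 = n9014 := d15_1 D11502 (iv D9014) (iv F35916)
theorem F50991 : act 5 n11502 = n7931 := d37_1 D11502 (iv D7931) D7930
def n11503 : Q := act 3 n7931
theorem D11503 : act 3 n7931 = n11503 := rfl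
theorem F50996 : act 6 n11503 = n7932 := d26_2 (iv F35924) D11503 (iv D7932)
def n11504 : Q := act 9 n7931
theorem D11504 : act 9 n7931 = n11504 := rfl
theorem F51002 : act 6 n11504 = n7933 := d41_1 D11504 (iv D7933) (iv F35924)
def n11505 : Q := act 2 n7932
theorem D11505 : act 2 n7932 = n11505 := rfl
theorem F51005 : act 0 n11505 = n7951 := d1_1 D11505 (iv D7951) (iv F35926)
def n11506 : Q := act 9 n7932
theorem D11506 : act 9 n7932 = n11506 := rfl
def n11507 : Q := act 5 n7935
theorem D11507 : act 5 n7935 = n11507 := rfl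
theorem F51014 : act 1 n11507 = n11507 := d12_1 D11507 (iv D11507) F35943
theorem F51015 : act 2 n11507 = n11507 := d19_1 D11507 (iv D11507) F35944
theorem F51016 : act 3 n11507 = n7937 := d25_1 D11507 (iv D7937) (iv F35945)
theorem F51017 : act 7 n11507 = n11507 := d36_2 F35947 D11507 (iv D11507)
theorem F51018 : act 9 n11507 = n11507 := d38_2 F35948 D11507 (iv D11507)
def n11508 : Q := act 8 n7935
theorem D11508 : act 8 n7935 = n11508 := rfl
theorem F51019 : act 1 n11508 = n11508 := d15_1 D11508 (iv D11508) F35943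
theorem F51020 : act 2 n11508 = n11508 := d22_1 D11508 (iv D11508) F35944
theorem F51021 : act 4 n11508 = n11508 := d33_1 D11508 (iv D11508) F35946
theorem F51022 : act 6 n11508 = n7936 := d40_1 D11508 (iv D7936) D7935
theorem F51023 : act 7 n11508 = n11508 := d42_1 D11508 (iv D11508) F35947
def n11509 : Q := act 3 n7936
theorem D11509 : act 3 n7936 = n11509 := rfl
theorem F51024 : act 1 n11509 = n11509 := d10_1 D11509 (iv D11509) F35949
theorem F51025 : act 7 n11509 = n7977 := d27_2 (iv F35952) D11509 (iv D7977)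
theorem F51026 : act 8 n11509 = n7939 := d28_2 D7936 D11509 (iv D7939) (iv D5484) D5482
def n11510 : Q := act 9 n7936
theorem D11510 : act 9 n7936 = n11510 := rfl
theorem F51027 : act 1 n11510 = n11510 := d16_1 D11510 (iv D11510) F35949
theorem F51028 : act 2 n11510 = n11510 := d23_1 D11510 (iv D11510) F35950
theorem F51029 : act 4 n11510 = n11510 := d34_1 D11510 (iv D11510) F35951
theorem F51030 : act 7 n11510 = n7978 := d43_1 D11510 (iv D7978) (iv F35952)
theorem F51031 : act 8 n11510 = n11510 := d44_1 D11510 (iv D11510) (iv D7936) F25411 D7936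
def n11511 : Q := act 8 n7937
theorem D11511 : act 8 n7937 = n11511 := rfl
theorem F51033 : act 2 n11511 = n7948 := d22_1 D11511 (iv D7948) (iv F35954)
theorem F51035 : act 5 n11511 = n7938 := d37_1 D11511 (iv D7938) D7937
def n11512 : Q := act 3 n7938
theorem D11512 : act 3 n7938 = n11512 := rfl
theorem F51037 : act 1 n11512 = n11512 := d10_1 D11512 (iv D11512) F35958
theorem F51038 : act 6 n11512 = n7939 := d26_2 (iv F35961) D11512 (iv D7939)
theorem F51039 : act 7 n11512 = n11512 := d27_2 F35962 D11512 (iv D11512)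
def n11513 : Q := act 9 n7938
theorem D11513 : act 9 n7938 = n11513 := rfl
theorem F51043 : act 6 n11513 = n7940 := d41_1 D11513 (iv D7940) (iv F35961)
def n11514 : Q := act 2 n7939
theorem D11514 : act 2 n7939 = n11514 := rfl
theorem F51046 : act 3 n11514 = n7951 := d17_2 D7939 D11514 (iv D7951) (iv D5492) (iv F25418)
theorem F51047 : act 7 n11514 = n7979 := d21_2 (iv F35964) D11514 (iv D7979)
def n11515 : Q := act 4 n7939
theorem D11515 : act 4 n7939 = n11515 := rfl
theorem F51048 : act 1 n11515 = n11515 := d11_1 D11515 (iv D11515) F35963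
theorem F51049 : act 3 n11515 = n7943 := d24_1 D11515 (iv D7943) (iv D5486) (iv F25419) D7939
theorem F51050 : act 7 n11515 = n7980 := d32_2 (iv F35964) D11515 (iv D7980)
def n11517 : Q := act 4 n7941
theorem D11517 : act 4 n7941 = n11517 := rfl
theorem F51054 : act 1 n11517 = n11517 := d11_1 D11517 (iv D11517) F35970
theorem F51055 : act 2 n11517 = n11517 := d18_1 D11517 (iv D11517) F35971
theorem F51056 : act 6 n11517 = n7943 := d31_2 (iv F35973) D11517 (iv D7943)
theorem F51057 : act 7 n11517 = n11517 := d32_2 F35974 D11517 (iv D11517)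
theorem F51058 : act 8 n11517 = n11517 := d33_2 F35975 D11517 (iv D11517)
def n11519 : Q := act 5 n7943
theorem D11519 : act 5 n7943 = n11519 := rfl
theorem F51065 : act 1 n11519 = n11519 := d12_1 D11519 (iv D11519) F35982
theorem F51066 : act 2 n11519 = n11519 := d19_1 D11519 (iv D11519) F35983
theorem F51067 : act 4 n11519 = n7945 := d30_1 D11519 (iv D7945) (iv D5488) (iv F25428) D7943
theorem F51068 : act 7 n11519 = n7982 := d36_2 (iv F35984) D11519 (iv D7982)
theorem F51069 : act 8 n11519 = n11519 := d37_2 F35985 D11519 (iv D11519)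
def n11522 : Q := act 6 n7945
theorem D11522 : act 6 n7945 = n11522 := rfl
theorem F51080 : act 1 n11522 = n11522 := d13_1 D11522 (iv D11522) F35991
theorem F51081 : act 2 n11522 = n11522 := d20_1 D11522 (iv D11522) F35992
theorem F51082 : act 5 n11522 = n11522 := d35_1 D11522 (iv D11522) (iv D7945) F25438 D7945
theorem F51083 : act 8 n11522 = n11522 := d40_2 F35994 D11522 (iv D11522)
def n11525 : Q := act 3 n7948
theorem D11525 : act 3 n7948 = n11525 := rfl
theorem F51094 : act 1 n11525 = n7953 := d10_1 D11525 (iv D7953) (iv F36006)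
theorem F51095 : act 5 n11525 = n7949 := d25_2 (iv F36008) D11525 (iv D7949)
def n11527 : Q := act 2 n7949
theorem D11527 : act 2 n7949 = n11527 := rfl
theorem F51104 : act 6 n11527 = n7951 := d20_2 (iv F36012) D11527 (iv D7951)
def n11528 : Q := act 9 n7949
theorem D11528 : act 9 n7949 = n11528 := rfl
theorem F51110 : act 6 n11528 = n7952 := d41_1 D11528 (iv D7952) (iv F36012)
def n11529 : Q := act 1 n7951
theorem D11529 : act 1 n7951 = n11529 := rfl
theorem F51114 : act 7 n11529 = n7988 := d14_2 (iv F36021) D11529 (iv D7988)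
def n11530 : Q := act 9 n7951
theorem D11530 : act 9 n7951 = n11530 := rfl
def n11531 : Q := act 8 n7952
theorem D11531 : act 8 n7952 = n11531 := rfl
theorem F51119 : act 1 n11531 = n7959 := d15_1 D11531 (iv D7959) (iv F36023)
def n11532 : Q := act 2 n7953
theorem D11532 : act 2 n7953 = n11532 := rfl
theorem F51126 : act 5 n11532 = n7955 := d19_2 (iv F36028) D11532 (iv D7955)
def n11533 : Q := act 4 n7953
theorem D11533 : act 4 n7953 = n11533 := rfl
theorem F51129 : act 0 n11533 = n9045 := d3_1 D11533 (iv D9045) (iv F36027)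
def n11534 : Q := act 9 n7953
theorem D11534 : act 9 n7953 = n11534 := rfl
theorem F51136 : act 5 n11534 = n7956 := d38_1 D11534 (iv D7956) (iv F36028)
def n11535 : Q := act 1 n7955
theorem D11535 : act 1 n7955 = n11535 := rfl
theorem F51140 : act 6 n11535 = n7957 := d13_2 (iv F36040) D11535 (iv D7957)
def n11536 : Q := act 9 n7955
theorem D11536 : act 9 n7955 = n11536 := rfl
theorem F51147 : act 6 n11536 = n7958 := d41_1 D11536 (iv D7958) (iv F36040)
def n11537 : Q := act 8 n7956
theorem D11537 : act 8 n7956 = n11537 := rfl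
theorem F51152 : act 6 n11537 = n7959 := d40_1 D11537 (iv D7959) (iv F36046)
def n11539 : Q := act 9 n7957
theorem D11539 : act 9 n7957 = n11539 := rfl
def n11540 : Q := act 8 n7958
theorem D11540 : act 8 n7958 = n11540 := rfl
def n11553 : Q := act 3 n7967
theorem D11553 : act 3 n7967 = n11553 := rfl
theorem F51225 : act 0 n11553 = n7977 := d2_1 D11553 (iv D7977) (iv F36096)
theorem F51227 : act 8 n11553 = n7968 := d28_2 D7967 D11553 (iv D7968) (iv D5505) D5504
def n11554 : Q := act 9 n7967
theorem D11554 : act 9 n7967 = n11554 := rfl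
theorem F51228 : act 0 n11554 = n7978 := d8_1 D11554 (iv D7978) (iv F36096)
theorem F51229 : act 2 n11554 = n11554 := d23_1 D11554 (iv D11554) F36097
theorem F51230 : act 4 n11554 = n11554 := d34_1 D11554 (iv D11554) F36098
theorem F51231 : act 6 n11554 = n11554 := d41_1 D11554 (iv D11554) F36099
theorem F51232 : act 8 n11554 = n11554 := d44_1 D11554 (iv D11554) (iv D7967) F25517 D7967
def n11555 : Q := act 2 n7968
theorem D11555 : act 2 n7968 = n11555 := rfl
theorem F51233 : act 0 n11555 = n7979 := d1_1 D11555 (iv D7979) (iv F36100)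
def n11557 : Q := act 9 n7968
theorem D11557 : act 9 n7968 = n11557 := rfl
def n11565 : Q := act 9 n7975
theorem D11565 : act 9 n7975 = n11565 := rfl
def n11567 : Q := act 2 n7977
theorem D11567 : act 2 n7977 = n11567 := rfl
theorem F51282 : act 3 n11567 = n11567 := d17_2 D7977 D11567 (iv D11567) (iv D7977) F25551
theorem F51283 : act 6 n11567 = n11567 := d20_2 F36138 D11567 (iv D11567)
theorem F51284 : act 8 n11567 = n7979 := d22_2 (iv F36139) D11567 (iv D7979)
def n11568 : Q := act 4 n7977
theorem D11568 : act 4 n7977 = n11568 := rfl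
theorem F51285 : act 1 n11568 = n11568 := d11_1 D11568 (iv D11568) F36137
theorem F51286 : act 3 n11568 = n11568 := d24_1 D11568 (iv D11568) (iv D7977) F25552 D7977
theorem F51287 : act 6 n11568 = n11568 := d31_2 F36138 D11568 (iv D11568)
theorem F51288 : act 8 n11568 = n7980 := d33_2 (iv F36139) D11568 (iv D7980)
def n11569 : Q := act 9 n7977
theorem D11569 : act 9 n7977 = n11569 := rfl
theorem F51289 : act 1 n11569 = n11569 := d16_1 D11569 (iv D11569) F36137
theorem F51290 : act 3 n11569 = n7978 := d29_1 D11569 (iv D7978) D7977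
theorem F51291 : act 6 n11569 = n11569 := d41_1 D11569 (iv D11569) F36138
def n11570 : Q := act 1 n7979
theorem D11570 : act 1 n7979 = n11570 := rfl
theorem F51293 : act 3 n11570 = n7988 := d10_2 (iv F36145) D11570 (iv D7988)
def n11571 : Q := act 4 n7979
theorem D11571 : act 4 n7979 = n11571 := rfl
theorem F51295 : act 2 n11571 = n7980 := d18_1 D11571 (iv D7980) D7979
def n11572 : Q := act 9 n7979
theorem D11572 : act 9 n7979 = n11572 := rfl
def n11573 : Q := act 5 n7980
theorem D11573 : act 5 n7980 = n11573 := rfl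
theorem F51301 : act 1 n11573 = n11573 := d12_1 D11573 (iv D11573) F36147
theorem F51302 : act 3 n11573 = n7982 := d25_1 D11573 (iv D7982) (iv F36148)
def n11574 : Q := act 9 n7980
theorem D11574 : act 9 n7980 = n11574 := rfl
theorem F51305 : act 4 n11574 = n7981 := d34_1 D11574 (iv D7981) D7980
def n11575 : Q := act 8 n7981
theorem D11575 : act 8 n7981 = n11575 := rfl
def n11576 : Q := act 6 n7982
theorem D11576 : act 6 n7982 = n11576 := rfl
theorem F51310 : act 1 n11576 = n11576 := d13_1 D11576 (iv D11576) F36153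
theorem F51311 : act 2 n11576 = n11576 := d20_1 D11576 (iv D11576) F36154
theorem F51312 : act 4 n11576 = n7985 := d31_1 D11576 (iv D7985) (iv F36155)
theorem F51313 : act 5 n11576 = n11576 := d35_1 D11576 (iv D11576) (iv D7982) F25563 D7982
theorem F51314 : act 8 n11576 = n11576 := d40_2 F36156 D11576 (iv D11576)
def n11579 : Q := act 7 n7985
theorem D11579 : act 7 n7985 = n11579 := rfl
theorem F51324 : act 1 n11579 = n11579 := d14_1 D11579 (iv D11579) F36167
theorem F51325 : act 2 n11579 = n11579 := d21_1 D11579 (iv D11579) F36168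
theorem F51326 : act 5 n11579 = n8002 := d36_1 D11579 (iv D8002) (iv F36169)
theorem F51327 : act 8 n11579 = n11579 := d42_2 F36170 D11579 (iv D11579)
def n11583 : Q := act 0 n7988
theorem D11583 : act 0 n7988 = n11583 := rfl
def n11584 : Q := act 9 n7988
theorem D11584 : act 9 n7988 = n11584 := rfl
def n11586 : Q := act 9 n7991
theorem D11586 : act 9 n7991 = n11586 := rfl
theorem F51352 : act 0 n11586 = n7992 := d8_1 D11586 (iv D7992) D7991
def n11587 : Q := act 8 n7992
theorem D11587 : act 8 n7992 = n11587 := rfl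
def n11588 : Q := act 3 n7993
theorem D11588 : act 3 n7993 = n11588 := rfl
def n11597 : Q := act 9 n7999
theorem D11597 : act 9 n7999 = n11597 := rfl
theorem F51409 : act 6 n11597 = n8000 := d41_1 D11597 (iv D8000) D7999
def n11598 : Q := act 8 n8000
theorem D11598 : act 8 n8000 = n11598 := rfl
def n11600 : Q := act 9 n8002
theorem D11600 : act 9 n8002 = n11600 := rfl
theorem F51424 : act 7 n11600 = n8003 := d43_1 D11600 (iv D8003) D8002
def n11601 : Q := act 8 n8003
theorem D11601 : act 8 n8003 = n11601 := rfl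
theorem F51428 : act 6 n11601 = n8004 := d40_1 D11601 (iv D8004) (iv F36253)
def n11602 : Q := act 3 n8004
theorem D11602 : act 3 n8004 = n11602 := rfl
def n11604 : Q := act 4 n8006
theorem D11604 : act 4 n8006 = n11604 := rfl
theorem F51438 : act 0 n11604 = n11604 := d3_1 D11604 (iv D11604) F36264
theorem F51439 : act 1 n11604 = n11604 := d11_1 D11604 (iv D11604) F36265
theorem F51440 : act 2 n11604 = n8009 := d18_1 D11604 (iv D8009) (iv F36266)
theorem F51441 : act 5 n11604 = n11604 := d30_2 D8006 D11604 (iv D11604) (iv D8006) F25650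
theorem F51442 : act 6 n11604 = n11604 := d31_2 F36268 D11604 (iv D11604)
theorem F51443 : act 7 n11604 = n11604 := d32_2 F36269 D11604 (iv D11604)
def n11605 : Q := act 8 n8006
theorem D11605 : act 8 n8006 = n11605 := rfl
theorem F51444 : act 0 n11605 = n11605 := d7_1 D11605 (iv D11605) F36264
theorem F51445 : act 1 n11605 = n11605 := d15_1 D11605 (iv D11605) F36265
theorem F51446 : act 2 n11605 = n8010 := d22_1 D11605 (iv D8010) (iv F36266)
theorem F51447 : act 5 n11605 = n8007 := d37_1 D11605 (iv D8007) D8006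
theorem F51448 : act 6 n11605 = n11605 := d40_1 D11605 (iv D11605) F36268
theorem F51449 : act 7 n11605 = n11605 := d42_1 D11605 (iv D11605) F36269
def n11606 : Q := act 9 n8006
theorem D11606 : act 9 n8006 = n11606 := rfl
theorem F51452 : act 2 n11606 = n8011 := d23_1 D11606 (iv D8011) (iv F36266)
theorem F51454 : act 5 n11606 = n8008 := d38_1 D11606 (iv D8008) D8006
def n11607 : Q := act 3 n8007
theorem D11607 : act 3 n8007 = n11607 := rfl
theorem F51457 : act 0 n11607 = n11607 := d2_1 D11607 (iv D11607) F36270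
theorem F51458 : act 1 n11607 = n11607 := d10_1 D11607 (iv D11607) F36271
theorem F51459 : act 2 n11607 = n11607 := d17_1 D11607 (iv D11607) F36272 F25660 (iv F36272)
theorem F51460 : act 6 n11607 = n8058 := d26_2 (iv F36274) D11607 (iv D8058)
theorem F51461 : act 7 n11607 = n11607 := d27_2 F36275 D11607 (iv D11607)
theorem F51462 : act 8 n11607 = n11607 := d28_2 D8007 D11607 (iv D11607) (iv D8007) F25649
def n11608 : Q := act 9 n8007
theorem D11608 : act 9 n8007 = n11608 := rfl
def n11609 : Q := act 8 n8008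
theorem D11609 : act 8 n8008 = n11609 := rfl
theorem F51471 : act 2 n11609 = n8013 := d22_1 D11609 (iv D8013) (iv F36278)
def n11610 : Q := act 8 n8009
theorem D11610 : act 8 n8009 = n11610 := rfl
theorem F51475 : act 0 n11610 = n11610 := d7_1 D11610 (iv D11610) F36283
theorem F51476 : act 1 n11610 = n8018 := d15_1 D11610 (iv D8018) (iv F36284)
theorem F51477 : act 4 n11610 = n8010 := d33_1 D11610 (iv D8010) D8009
theorem F51478 : act 5 n11610 = n11610 := d37_1 D11610 (iv D11610) F36286
theorem F51479 : act 6 n11610 = n11610 := d40_1 D11610 (iv D11610) F36287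
theorem F51480 : act 7 n11610 = n11610 := d42_1 D11610 (iv D11610) F36288
def n11611 : Q := act 9 n8009
theorem D11611 : act 9 n8009 = n11611 := rfl
theorem F51482 : act 1 n11611 = n8019 := d16_1 D11611 (iv D8019) (iv F36284)
theorem F51484 : act 4 n11611 = n8011 := d34_1 D11611 (iv D8011) D8009
def n11612 : Q := act 9 n8010
theorem D11612 : act 9 n8010 = n11612 := rfl
def n11613 : Q := act 8 n8011
theorem D11613 : act 8 n8011 = n11613 := rfl
def n11614 : Q := act 8 n8012
theorem D11614 : act 8 n8012 = n11614 := rfl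
theorem F51504 : act 9 n11614 = n8013 := d44_2 D8012 D11614 (iv D8013) (iv D5537) D5536
def n11615 : Q := act 3 n8013
theorem D11615 : act 3 n8013 = n11615 := rfl
theorem F51509 : act 8 n11615 = n8015 := d28_2 D8013 D11615 (iv D8015) (iv D5539) (iv F25666)
def n11616 : Q := act 3 n8014
theorem D11616 : act 3 n8014 = n11616 := rfl
theorem F51512 : act 5 n11616 = n8015 := d25_2 (iv F36316) D11616 (iv D8015)
def n11622 : Q := act 3 n8018
theorem D11622 : act 3 n8018 = n11622 := rfl
theorem F51546 : act 4 n11622 = n11622 := d24_2 (iv F36339) D11622 (iv D11622) F36339 F25697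
theorem F51547 : act 5 n11622 = n11622 := d25_2 F36340 D11622 (iv D11622)
theorem F51548 : act 6 n11622 = n11622 := d26_2 F36341 D11622 (iv D11622)
theorem F51549 : act 7 n11622 = n11622 := d27_2 F36342 D11622 (iv D11622)
theorem F51550 : act 8 n11622 = n11622 := d28_2 D8018 D11622 (iv D11622) (iv D8018) F25692
def n11623 : Q := act 9 n8018
theorem D11623 : act 9 n8018 = n11623 := rfl
def n11624 : Q := act 8 n8019
theorem D11624 : act 8 n8019 = n11624 := rfl
theorem F51557 : act 4 n11624 = n8021 := d33_1 D11624 (iv D8021) (iv F36345)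
def n11625 : Q := act 8 n8020
theorem D11625 : act 8 n8020 = n11625 := rfl
theorem F51565 : act 9 n11625 = n8021 := d44_2 D8020 D11625 (iv D8021) (iv D5543) D5542
def n11626 : Q := act 3 n8021
theorem D11626 : act 3 n8021 = n11626 := rfl
theorem F51569 : act 8 n11626 = n8024 := d28_2 D8021 D11626 (iv D8024) (iv D5546) (iv F25702)
def n11641 : Q := act 4 n8030
theorem D11641 : act 4 n8030 = n11641 := rfl
theorem F51632 : act 2 n11641 = n8031 := d18_1 D11641 (iv D8031) D8030
def n11642 : Q := act 5 n8031
theorem D11642 : act 5 n8031 = n11642 := rfl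
theorem F51637 : act 1 n11642 = n11642 := d12_1 D11642 (iv D11642) F36398
theorem F51638 : act 3 n11642 = n11642 := d25_1 D11642 (iv D11642) F36399
theorem F51639 : act 4 n11642 = n8034 := d30_1 D11642 (iv D8034) (iv D5552) (iv F25735) D8031
theorem F51640 : act 7 n11642 = n11642 := d36_2 F36401 D11642 (iv D11642)
theorem F51641 : act 8 n11642 = n11642 := d37_2 F36402 D11642 (iv D11642)
theorem F51642 : act 9 n11642 = n11642 := d38_2 F36403 D11642 (iv D11642)
def n11646 : Q := act 5 n8033
theorem D11646 : act 5 n8033 = n11646 := rfl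
theorem F51658 : act 2 n11646 = n8034 := d19_1 D11646 (iv D8034) (iv F36409)
def n11647 : Q := act 6 n8034
theorem D11647 : act 6 n8034 = n11647 := rfl
theorem F51662 : act 1 n11647 = n11647 := d13_1 D11647 (iv D11647) F36414
theorem F51663 : act 3 n11647 = n8039 := d26_1 D11647 (iv D8039) (iv F36415)
theorem F51664 : act 5 n11647 = n8083 := d35_1 D11647 (iv D8083) (iv D5584) (iv F25746) D8034
theorem F51665 : act 8 n11647 = n11647 := d40_2 F36417 D11647 (iv D11647)
theorem F51666 : act 9 n11647 = n11647 := d41_2 F36418 D11647 (iv D11647)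
def n11648 : Q := act 4 n8035
theorem D11648 : act 4 n8035 = n11648 := rfl
theorem F51667 : act 0 n11648 = n8036 := d3_1 D11648 (iv D8036) D8035
theorem F51669 : act 6 n11648 = n8084 := d31_2 (iv F36421) D11648 (iv D8084)
def n11650 : Q := act 5 n8036
theorem D11650 : act 5 n8036 = n11650 := rfl
theorem F51677 : act 1 n11650 = n8038 := d12_1 D11650 (iv D8038) (iv F36425)
theorem F51681 : act 8 n11650 = n8042 := d37_2 (iv F36429) D11650 (iv D8042)
def n11653 : Q := act 6 n8038
theorem D11653 : act 6 n8038 = n11653 := rfl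
theorem F51689 : act 2 n11653 = n8039 := d20_1 D11653 (iv D8039) (iv F36434)
theorem F51691 : act 5 n11653 = n8089 := d35_1 D11653 (iv D8089) (iv D5588) (iv F25757) D8038
theorem F51692 : act 8 n11653 = n8045 := d40_2 (iv F36437) D11653 (iv D8045)
def n11654 : Q := act 7 n8039
theorem D11654 : act 7 n8039 = n11654 := rfl
theorem F51698 : act 8 n11654 = n8046 := d42_2 (iv F36442) D11654 (iv D8046)
def n11657 : Q := act 2 n8041
theorem D11657 : act 2 n8041 = n11657 := rfl
theorem F51711 : act 3 n11657 = n11657 := d17_2 D8041 D11657 (iv D11657) (iv D8041) F25773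
theorem F51715 : act 9 n11657 = n8049 := d23_2 (iv F36453) D11657 (iv D8049)
def n11658 : Q := act 5 n8041
theorem D11658 : act 5 n8041 = n11658 := rfl
theorem F51716 : act 1 n11658 = n8043 := d12_1 D11658 (iv D8043) (iv F36449)
def n11666 : Q := act 2 n8047
theorem D11666 : act 2 n8047 = n11666 := rfl
theorem F51751 : act 0 n11666 = n8049 := d1_1 D11666 (iv D8049) (iv F36477)
theorem F51754 : act 6 n11666 = n8102 := d20_2 (iv F36479) D11666 (iv D8102)
def n11667 : Q := act 5 n8047
theorem D11667 : act 5 n8047 = n11667 := rfl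
def n11668 : Q := act 8 n8047
theorem D11668 : act 8 n8047 = n11668 := rfl
theorem F51762 : act 6 n11668 = n8104 := d40_1 D11668 (iv D8104) (iv F36479)
def n11670 : Q := act 5 n8049
theorem D11670 : act 5 n8049 = n11670 := rfl
def n11671 : Q := act 8 n8049
theorem D11671 : act 8 n8049 = n11671 := rfl
theorem F51773 : act 1 n11671 = n11671 := d15_1 D11671 (iv D11671) F36486
theorem F51774 : act 2 n11671 = n8051 := d22_1 D11671 (iv D8051) D8049
theorem F51775 : act 4 n11671 = n11671 := d33_1 D11671 (iv D11671) F36488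
theorem F51776 : act 6 n11671 = n8107 := d40_1 D11671 (iv D8107) (iv F36489)
def n11677 : Q := act 6 n8053
theorem D11677 : act 6 n8053 = n11677 := rfl
theorem F51802 : act 4 n11677 = n8054 := d31_1 D11677 (iv D8054) D8053
def n11678 : Q := act 8 n8053
theorem D11678 : act 8 n8053 = n11678 := rfl
theorem F51804 : act 4 n11678 = n8055 := d33_1 D11678 (iv D8055) D8053
def n11680 : Q := act 8 n8054
theorem D11680 : act 8 n8054 = n11680 := rfl
theorem F51813 : act 5 n11680 = n8116 := d37_1 D11680 (iv D8116) (iv F36510)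
theorem F51814 : act 6 n11680 = n8055 := d40_1 D11680 (iv D8055) D8054
def n11682 : Q := act 4 n8058
theorem D11682 : act 4 n8058 = n11682 := rfl
theorem F51819 : act 0 n11682 = n11682 := d3_1 D11682 (iv D11682) F36525
theorem F51820 : act 1 n11682 = n11682 := d11_1 D11682 (iv D11682) F36526
theorem F51821 : act 2 n11682 = n11682 := d18_1 D11682 (iv D11682) F36527
theorem F51822 : act 3 n11682 = n11682 := d24_1 D11682 (iv D11682) (iv D8058) F25826 D8058
theorem F51823 : act 7 n11682 = n8118 := d32_2 (iv F36529) D11682 (iv D8118)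
theorem F51824 : act 8 n11682 = n11682 := d33_2 F36530 D11682 (iv D11682)
def n11683 : Q := act 9 n8058
theorem D11683 : act 9 n8058 = n11683 := rfl
theorem F51828 : act 3 n11683 = n8059 := d29_1 D11683 (iv D8059) D8058
def n11684 : Q := act 8 n8059
theorem D11684 : act 8 n8059 = n11684 := rfl
theorem F51837 : act 9 n11684 = n8060 := d44_2 D8059 D11684 (iv D8060) (iv D5569) D5568
def n11691 : Q := act 5 n8064
theorem D11691 : act 5 n8064 = n11691 := rfl
theorem F51869 : act 3 n11691 = n8067 := d25_1 D11691 (iv D8067) (iv F36561)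
def n11717 : Q := act 5 n8081
theorem D11717 : act 5 n8081 = n11717 := rfl
theorem F51979 : act 2 n11717 = n8087 := d19_1 D11717 (iv D8087) (iv F36633)
theorem F51980 : act 3 n11717 = n8082 := d25_1 D11717 (iv D8082) D8081
def n11719 : Q := act 6 n8082
theorem D11719 : act 6 n8082 = n11719 := rfl
theorem F51986 : act 2 n11719 = n8083 := d20_1 D11719 (iv D8083) (iv F36636)
def n11720 : Q := act 7 n8083
theorem D11720 : act 7 n8083 = n11720 := rfl
theorem F51990 : act 1 n11720 = n11720 := d14_1 D11720 (iv D11720) F36641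
theorem F51991 : act 3 n11720 = n8090 := d27_1 D11720 (iv D8090) (iv F36642)
theorem F51992 : act 4 n11720 = n11720 := d32_1 D11720 (iv D11720) F36643
theorem F51993 : act 6 n11720 = n8156 := d39_1 D11720 (iv D8156) (iv D5633) (iv F25903) D8083
theorem F51994 : act 8 n11720 = n11720 := d42_2 F36644 D11720 (iv D11720)
theorem F51995 : act 9 n11720 = n11720 := d43_2 F36645 D11720 (iv D11720)
def n11722 : Q := act 5 n8084
theorem D11722 : act 5 n8084 = n11722 := rfl
theorem F52001 : act 4 n11722 = n8222 := d30_1 D11722 (iv D8222) (iv D5676) (iv F25907) D8084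
def n11726 : Q := act 6 n8086
theorem D11726 : act 6 n8086 = n11726 := rfl
theorem F52017 : act 4 n11726 = n8226 := d31_1 D11726 (iv D8226) (iv F36656)
theorem F52018 : act 8 n11726 = n8096 := d40_2 (iv F36658) D11726 (iv D8096)
def n11727 : Q := act 4 n8087
theorem D11727 : act 4 n8087 = n11727 := rfl
theorem F52020 : act 3 n11727 = n8227 := d24_1 D11727 (iv D8227) F26297 (iv F25919) (iv F36660)
def n11731 : Q := act 7 n8089
theorem D11731 : act 7 n8089 = n11731 := rfl
theorem F52031 : act 2 n11731 = n8090 := d21_1 D11731 (iv D8090) (iv F36665)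
theorem F52033 : act 6 n11731 = n8167 := d39_1 D11731 (iv D8167) (iv D5639) (iv F25920) D8089
theorem F52034 : act 8 n11731 = n8101 := d42_2 (iv F36667) D11731 (iv D8101)
def n11744 : Q := act 8 n8097
theorem D11744 : act 8 n8097 = n11744 := rfl
theorem F52086 : act 4 n11744 = n8099 := d33_1 D11744 (iv D8099) D8097
def n11748 : Q := act 1 n8102
theorem D11748 : act 1 n8102 = n11748 := rfl
theorem F52102 : act 7 n11748 = n8184 := d14_2 (iv F36721) D11748 (iv D8184)
def n11749 : Q := act 5 n8102
theorem D11749 : act 5 n8102 = n11749 := rfl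
theorem F52106 : act 7 n11749 = n8185 := d36_2 (iv F36721) D11749 (iv D8185)
def n11750 : Q := act 8 n8102
theorem D11750 : act 8 n8102 = n11750 := rfl
theorem F52110 : act 7 n11750 = n8186 := d42_1 D11750 (iv D8186) (iv F36721)
def n11751 : Q := act 4 n8103
theorem D11751 : act 4 n8103 = n11751 := rfl
theorem F52112 : act 3 n11751 = n8251 := d24_1 D11751 (iv D8251) F26367 (iv F25960) (iv F36723)
theorem F52114 : act 7 n11751 = n8187 := d32_2 (iv F36724) D11751 (iv D8187)
def n11752 : Q := act 6 n8103
theorem D11752 : act 6 n8103 = n11752 := rfl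
def n11753 : Q := act 8 n8103
theorem D11753 : act 8 n8103 = n11753 := rfl
theorem F52119 : act 5 n11753 = n8104 := d37_1 D11753 (iv D8104) D8103
theorem F52120 : act 7 n11753 = n8189 := d42_1 D11753 (iv D8189) (iv F36724)
def n11756 : Q := act 4 n8106
theorem D11756 : act 4 n8106 = n11756 := rfl
theorem F52131 : act 2 n11756 = n8108 := d18_1 D11756 (iv D8108) (iv F36734)
def n11758 : Q := act 8 n8106
theorem D11758 : act 8 n8106 = n11758 := rfl
theorem F52139 : act 5 n11758 = n8107 := d37_1 D11758 (iv D8107) D8106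
theorem F52140 : act 7 n11758 = n8194 := d42_1 D11758 (iv D8194) (iv F36736)
def n11759 : Q := act 3 n8107
theorem D11759 : act 3 n8107 = n11759 := rfl
theorem F52143 : act 7 n11759 = n8195 := d27_2 (iv F36740) D11759 (iv D8195)
def n11762 : Q := act 8 n8108
theorem D11762 : act 8 n8108 = n11762 := rfl
theorem F52153 : act 4 n11762 = n8110 := d33_1 D11762 (iv D8110) D8108
theorem F52155 : act 7 n11762 = n8198 := d42_1 D11762 (iv D8198) (iv F36744)
def n11765 : Q := act 9 n8110
theorem D11765 : act 9 n8110 = n11765 := rfl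
theorem F52164 : act 5 n11765 = n8111 := d38_1 D11765 (iv D8111) (iv F36749)
def n11766 : Q := act 5 n8113
theorem D11766 : act 5 n8113 = n11766 := rfl
theorem F52167 : act 3 n11766 = n8266 := d25_1 D11766 (iv D8266) (iv F36761)
def n11767 : Q := act 7 n8113
theorem D11767 : act 7 n8113 = n11767 := rfl
theorem F52170 : act 3 n11767 = n8267 := d27_1 D11767 (iv D8267) (iv F36761)
theorem F52172 : act 6 n11767 = n8203 := d39_1 D11767 (iv D8203) (iv D5663) (iv F25981) D8113
def n11768 : Q := act 8 n8113
theorem D11768 : act 8 n8113 = n11768 := rfl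
theorem F52174 : act 4 n11768 = n8116 := d33_1 D11768 (iv D8116) (iv F36762)
def n11769 : Q := act 3 n8114
theorem D11769 : act 3 n8114 = n11769 := rfl
theorem F52178 : act 7 n11769 = n8205 := d27_2 (iv F36766) D11769 (iv D8205)
theorem F52179 : act 8 n11769 = n8269 := d28_2 D8114 D11769 (iv D8269) (iv D5706) (iv F25979)
def n11770 : Q := act 9 n8114
theorem D11770 : act 9 n8114 = n11770 := rfl
theorem F52181 : act 4 n11770 = n8117 := d34_1 D11770 (iv D8117) (iv F36764)
def n11771 : Q := act 8 n8115
theorem D11771 : act 8 n8115 = n11771 := rfl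
theorem F52186 : act 6 n11771 = n8207 := d40_1 D11771 (iv D8207) (iv F36769)
theorem F52187 : act 7 n11771 = n8116 := d42_1 D11771 (iv D8116) D8115
def n11773 : Q := act 5 n8118
theorem D11773 : act 5 n8118 = n11773 := rfl
theorem F52191 : act 0 n11773 = n11773 := d4_1 D11773 (iv D11773) F36777
theorem F52192 : act 1 n11773 = n11773 := d12_1 D11773 (iv D11773) F36778
theorem F52193 : act 2 n11773 = n11773 := d19_1 D11773 (iv D11773) F36779
theorem F52194 : act 3 n11773 = n11773 := d25_1 D11773 (iv D11773) F36780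
theorem F52195 : act 4 n11773 = n11773 := d30_1 D11773 (iv D11773) (iv D8118) F25999 D8118
theorem F52196 : act 8 n11773 = n11773 := d37_2 F36782 D11773 (iv D11773)
def n11774 : Q := act 9 n8118
theorem D11774 : act 9 n8118 = n11774 := rfl
theorem F52201 : act 4 n11774 = n8119 := d34_1 D11774 (iv D8119) D8118
def n11828 : Q := act 4 n8153
theorem D11828 : act 4 n8153 = n11828 := rfl
theorem F52425 : act 2 n11828 = n8163 := d18_1 D11828 (iv D8163) (iv F36933)
def n11829 : Q := act 6 n8153
theorem D11829 : act 6 n8153 = n11829 := rfl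
theorem F52429 : act 3 n11829 = n8155 := d26_1 D11829 (iv D8155) (iv F36934)
def n11832 : Q := act 7 n8155
theorem D11832 : act 7 n8155 = n11832 := rfl
theorem F52439 : act 2 n11832 = n8156 := d21_1 D11832 (iv D8156) (iv F36939)
def n11843 : Q := act 7 n8162
theorem D11843 : act 7 n8162 = n11843 := rfl
theorem F52483 : act 8 n11843 = n8178 := d42_2 (iv F36971) D11843 (iv D8178)
def n11844 : Q := act 6 n8163
theorem D11844 : act 6 n8163 = n11844 := rfl
theorem F52485 : act 3 n11844 = n8302 := d26_1 D11844 (iv D8302) (iv F36973)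
def n11869 : Q := act 8 n8179
theorem D11869 : act 8 n8179 = n11869 := rfl
theorem F52577 : act 4 n11869 = n8182 := d33_1 D11869 (iv D8182) (iv F37033)
def n11870 : Q := act 3 n8180
theorem D11870 : act 3 n8180 = n11870 := rfl
theorem F52580 : act 8 n11870 = n8328 := d28_2 D8180 D11870 (iv D8328) (iv D5745) (iv F26167)
def n11874 : Q := act 5 n8184
theorem D11874 : act 5 n8184 = n11874 := rfl
theorem F52593 : act 1 n11874 = n8185 := d12_1 D11874 (iv D8185) D8184
def n11875 : Q := act 8 n8184
theorem D11875 : act 8 n8184 = n11875 := rfl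
def n11876 : Q := act 4 n8185
theorem D11876 : act 4 n8185 = n11876 := rfl
theorem F52600 : act 2 n11876 = n8187 := d18_1 D11876 (iv D8187) (iv F37053)
def n11878 : Q := act 8 n8185
theorem D11878 : act 8 n8185 = n11878 := rfl
theorem F52608 : act 5 n11878 = n8186 := d37_1 D11878 (iv D8186) D8185
def n11879 : Q := act 3 n8186
theorem D11879 : act 3 n8186 = n11879 := rfl
def n11881 : Q := act 6 n8187
theorem D11881 : act 6 n8187 = n11881 := rfl
theorem F52618 : act 3 n11881 = n8339 := d26_1 D11881 (iv D8339) (iv F37060)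
def n11882 : Q := act 8 n8187
theorem D11882 : act 8 n8187 = n11882 := rfl
def n11883 : Q := act 7 n8188
theorem D11883 : act 7 n8188 = n11883 := rfl
theorem F52624 : act 3 n11883 = n8191 := d27_1 D11883 (iv D8191) (iv F37063)
def n11884 : Q := act 8 n8188
theorem D11884 : act 8 n8188 = n11884 := rfl
theorem F52629 : act 6 n11884 = n8189 := d40_1 D11884 (iv D8189) D8188
def n11888 : Q := act 8 n8192
theorem D11888 : act 8 n8192 = n11888 := rfl
theorem F52641 : act 2 n11888 = n8198 := d22_1 D11888 (iv D8198) (iv F37078)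
theorem F52642 : act 4 n11888 = n8194 := d33_1 D11888 (iv D8194) D8192
def n11891 : Q := act 3 n8194
theorem D11891 : act 3 n8194 = n11891 := rfl
theorem F52654 : act 5 n11891 = n8195 := d25_2 (iv F37086) D11891 (iv D8195)
def n11892 : Q := act 9 n8194
theorem D11892 : act 9 n8194 = n11892 := rfl
theorem F52658 : act 5 n11892 = n8196 := d38_1 D11892 (iv D8196) (iv F37086)
def n11893 : Q := act 4 n8195
theorem D11893 : act 4 n8195 = n11893 := rfl
def n11894 : Q := act 9 n8195
theorem D11894 : act 9 n8195 = n11894 := rfl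
def n11895 : Q := act 5 n8197
theorem D11895 : act 5 n8197 = n11895 := rfl
theorem F52669 : act 3 n11895 = n8353 := d25_1 D11895 (iv D8353) (iv F37096)
def n11897 : Q := act 8 n8197
theorem D11897 : act 8 n8197 = n11897 := rfl
theorem F52677 : act 6 n11897 = n8198 := d40_1 D11897 (iv D8198) D8197
def n11898 : Q := act 3 n8198
theorem D11898 : act 3 n8198 = n11898 := rfl
theorem F52681 : act 8 n11898 = n8356 := d28_2 D8198 D11898 (iv D8356) (iv D5763) (iv F26207)
def n11899 : Q := act 9 n8198
theorem D11899 : act 9 n8198 = n11899 := rfl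
theorem F52683 : act 4 n11899 = n8201 := d34_1 D11899 (iv D8201) (iv F37099)
def n11902 : Q := act 7 n8202
theorem D11902 : act 7 n8202 = n11902 := rfl
theorem F52694 : act 3 n11902 = n8360 := d27_1 D11902 (iv D8360) (iv F37112)
theorem F52696 : act 5 n11902 = n8203 := d36_1 D11902 (iv D8203) D8202
def n11903 : Q := act 8 n8202
theorem D11903 : act 8 n8202 = n11903 := rfl
theorem F52699 : act 5 n11903 = n8204 := d37_1 D11903 (iv D8204) D8202
def n11904 : Q := act 8 n8203
theorem D11904 : act 8 n8203 = n11904 := rfl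
def n11905 : Q := act 3 n8204
theorem D11905 : act 3 n8204 = n11905 := rfl
theorem F52705 : act 6 n11905 = n8205 := d26_2 (iv F37120) D11905 (iv D8205)
theorem F52706 : act 8 n11905 = n8363 := d28_2 D8204 D11905 (iv D8363) (iv D5769) (iv F26225)
def n11907 : Q := act 2 n8205
theorem D11907 : act 2 n8205 = n11907 := rfl
theorem F52713 : act 8 n11907 = n8365 := d22_2 (iv F37123) D11907 (iv D8365)
def n11908 : Q := act 9 n8205
theorem D11908 : act 9 n8205 = n11908 := rfl
theorem F52714 : act 3 n11908 = n8206 := d29_1 D11908 (iv D8206) D8205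
def n11917 : Q := act 3 n8214
theorem D11917 : act 3 n8214 = n11917 := rfl
theorem F52761 : act 0 n11917 = n8215 := d2_1 D11917 (iv D8215) (iv F37165)
theorem F52764 : act 7 n11917 = n8280 := d27_2 (iv F37167) D11917 (iv D8280)
def n11919 : Q := act 2 n8215
theorem D11919 : act 2 n8215 = n11919 := rfl
theorem F52771 : act 4 n11919 = n8223 := d18_2 (iv F37171) D11919 (iv D8223)
theorem F52773 : act 7 n11919 = n8282 := d21_2 (iv F37173) D11919 (iv D8282)
def n11925 : Q := act 8 n8217
theorem D11925 : act 8 n8217 = n11925 := rfl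
theorem F52799 : act 7 n11925 = n8288 := d42_1 D11925 (iv D8288) (iv F37181)
def n11926 : Q := act 9 n8218
theorem D11926 : act 9 n8218 = n11926 := rfl
theorem F52802 : act 4 n11926 = n8230 := d34_1 D11926 (iv D8230) (iv F37185)
theorem F52804 : act 7 n11926 = n8289 := d43_1 D11926 (iv D8289) (iv F37187)
def n11928 : Q := act 2 n8221
theorem D11928 : act 2 n8221 = n11928 := rfl
theorem F52811 : act 0 n11928 = n8223 := d1_1 D11928 (iv D8223) (iv F37197)
theorem F52814 : act 7 n11928 = n8291 := d21_2 (iv F37199) D11928 (iv D8291)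
def n11929 : Q := act 5 n8221
theorem D11929 : act 5 n8221 = n11929 := rfl
theorem F52817 : act 3 n11929 = n8222 := d25_1 D11929 (iv D8222) D8221
def n11930 : Q := act 8 n8221
theorem D11930 : act 8 n8221 = n11930 := rfl
def n11932 : Q := act 5 n8223
theorem D11932 : act 5 n8223 = n11932 := rfl
theorem F52829 : act 1 n11932 = n11932 := d12_1 D11932 (iv D11932) F37206
theorem F52830 : act 2 n11932 = n8224 := d19_1 D11932 (iv D8224) D8223
theorem F52832 : act 7 n11932 = n8295 := d36_2 (iv F37209) D11932 (iv D8295)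
def n11933 : Q := act 8 n8223
theorem D11933 : act 8 n8223 = n11933 := rfl
theorem F52835 : act 2 n11933 = n8225 := d22_1 D11933 (iv D8225) D8223
theorem F52837 : act 7 n11933 = n8296 := d42_1 D11933 (iv D8296) (iv F37209)
def n11935 : Q := act 6 n8224
theorem D11935 : act 6 n8224 = n11935 := rfl
theorem F52842 : act 3 n11935 = n8226 := d26_1 D11935 (iv D8226) (iv F37212)
def n11936 : Q := act 8 n8224
theorem D11936 : act 8 n8224 = n11936 := rfl
theorem F52846 : act 3 n11936 = n8240 := d28_1 D11936 (iv D8240) F26330 (iv F26294) (iv F37212)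
def n11937 : Q := act 9 n8225
theorem D11937 : act 9 n8225 = n11937 := rfl
theorem F52849 : act 1 n11937 = n8230 := d16_1 D11937 (iv D8230) (iv F37215)
def n11938 : Q := act 7 n8226
theorem D11938 : act 7 n8226 = n11938 := rfl
theorem F52857 : act 6 n11938 = n8301 := d39_1 D11938 (iv D8301) (iv D5727) (iv F26293) D8226
theorem F52858 : act 8 n11938 = n8242 := d42_2 (iv F37222) D11938 (iv D8242)
def n11939 : Q := act 6 n8227
theorem D11939 : act 6 n8227 = n11939 := rfl
def n11940 : Q := act 8 n8227
theorem D11940 : act 8 n8227 = n11940 := rfl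
theorem F52865 : act 7 n11940 = n8303 := d42_1 D11940 (iv D8303) (iv F37225)
def n11941 : Q := act 7 n8228
theorem D11941 : act 7 n8228 = n11941 := rfl
theorem F52867 : act 3 n11941 = n8231 := d27_1 D11941 (iv D8231) (iv F37228)
theorem F52869 : act 6 n11941 = n8304 := d39_1 D11941 (iv D8304) (iv D5729) (iv F26298) D8228
def n11942 : Q := act 8 n8228
theorem D11942 : act 8 n8228 = n11942 := rfl
theorem F52872 : act 3 n11942 = n8246 := d28_1 D11942 (iv D8246) F26346 (iv F26306) (iv F37228)
theorem F52874 : act 6 n11942 = n8229 := d40_1 D11942 (iv D8229) D8228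
def n11943 : Q := act 9 n8229
theorem D11943 : act 9 n8229 = n11943 := rfl
theorem F52878 : act 7 n11943 = n8306 := d43_1 D11943 (iv D8306) (iv F37234)
def n11944 : Q := act 1 n8232
theorem D11944 : act 1 n8232 = n11944 := rfl
theorem F52884 : act 7 n11944 = n8307 := d14_2 (iv F37249) D11944 (iv D8307)
theorem F52885 : act 9 n11944 = n8248 := d16_2 (iv F37250) D11944 (iv D8248)
def n11946 : Q := act 8 n8232
theorem D11946 : act 8 n8232 = n11946 := rfl
theorem F52891 : act 0 n11946 = n8237 := d7_1 D11946 (iv D8237) (iv F37245)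
theorem F52892 : act 2 n11946 = n8234 := d22_1 D11946 (iv D8234) D8232
def n11949 : Q := act 8 n8233
theorem D11949 : act 8 n8233 = n11949 := rfl
def n11950 : Q := act 9 n8234
theorem D11950 : act 9 n8234 = n11950 := rfl
theorem F52907 : act 0 n11950 = n8241 := d8_1 D11950 (iv D8241) (iv F37255)
theorem F52910 : act 7 n11950 = n8313 := d43_1 D11950 (iv D8313) (iv F37258)
theorem F52911 : act 8 n11950 = n8254 := d44_1 D11950 (iv D8254) (iv D5696) (iv F26318) D8234
def n11953 : Q := act 6 n8236
theorem D11953 : act 6 n8236 = n11953 := rfl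
theorem F52922 : act 1 n11953 = n8517 := d13_1 D11953 (iv D8517) (iv F37263)
theorem F52923 : act 2 n11953 = n8239 := d20_1 D11953 (iv D8239) (iv F37264)
theorem F52926 : act 9 n11953 = n8257 := d41_2 (iv F37267) D11953 (iv D8257)
def n11954 : Q := act 8 n8236
theorem D11954 : act 8 n8236 = n11954 := rfl
theorem F52927 : act 1 n11954 = n8518 := d15_1 D11954 (iv D8518) (iv F37263)
theorem F52928 : act 2 n11954 = n8240 := d22_1 D11954 (iv D8240) (iv F37264)
def n11955 : Q := act 3 n8237
theorem D11955 : act 3 n8237 = n11955 := rfl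
theorem F52931 : act 1 n11955 = n8519 := d10_1 D11955 (iv D8519) (iv F37268)
theorem F52933 : act 7 n11955 = n8318 := d27_2 (iv F37272) D11955 (iv D8318)
def n11956 : Q := act 9 n8237
theorem D11956 : act 9 n8237 = n11956 := rfl
theorem F52936 : act 2 n11956 = n8241 := d23_1 D11956 (iv D8241) (iv F37269)
theorem F52940 : act 8 n11956 = n8260 := d44_1 D11956 (iv D8260) (iv D5699) (iv F26328) D8237
def n11958 : Q := act 8 n8238
theorem D11958 : act 8 n8238 = n11958 := rfl
theorem F52947 : act 7 n11958 = n8321 := d42_1 D11958 (iv D8321) (iv F37275)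
def n11959 : Q := act 7 n8239
theorem D11959 : act 7 n8239 = n11959 := rfl
theorem F52949 : act 3 n11959 = n8242 := d27_1 D11959 (iv D8242) (iv F37278)
def n11960 : Q := act 8 n8239
theorem D11960 : act 8 n8239 = n11960 := rfl
def n11961 : Q := act 9 n8240
theorem D11961 : act 9 n8240 = n11961 := rfl
theorem F52956 : act 1 n11961 = n8247 := d16_1 D11961 (iv D8247) (iv F37281)
theorem F52957 : act 5 n11961 = n8241 := d38_1 D11961 (iv D8241) (iv F37282)
theorem F52958 : act 7 n11961 = n8324 := d43_1 D11961 (iv D8324) (iv F37283)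
theorem F52959 : act 8 n11961 = n8265 := d44_1 D11961 (iv D8265) (iv D5702) (iv F26332) D8240
def n11964 : Q := act 8 n8243
theorem D11964 : act 8 n8243 = n11964 := rfl
theorem F52969 : act 4 n11964 = n8246 := d33_1 D11964 (iv D8246) (iv F37295)
def n11965 : Q := act 3 n8244
theorem D11965 : act 3 n8244 = n11965 := rfl
theorem F52972 : act 7 n11965 = n8328 := d27_2 (iv F37300) D11965 (iv D8328)
def n11966 : Q := act 9 n8244
theorem D11966 : act 9 n8244 = n11966 := rfl
theorem F52973 : act 2 n11966 = n8530 := d23_1 D11966 (iv D8530) (iv F37297)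
theorem F52976 : act 7 n11966 = n8329 := d43_1 D11966 (iv D8329) (iv F37300)
theorem F52977 : act 8 n11966 = n8270 := d44_1 D11966 (iv D8270) (iv D5706) (iv F26344) D8244
def n11967 : Q := act 8 n8245
theorem D11967 : act 8 n8245 = n11967 := rfl
theorem F52978 : act 2 n11967 = n8531 := d22_1 D11967 (iv D8531) (iv F37301)
def n11969 : Q := act 5 n8248
theorem D11969 : act 5 n8248 = n11969 := rfl
theorem F52986 : act 0 n11969 = n8533 := d4_1 D11969 (iv D8533) (iv F37313)
theorem F52987 : act 1 n11969 = n8249 := d12_1 D11969 (iv D8249) D8248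
def n11971 : Q := act 4 n8249
theorem D11971 : act 4 n8249 = n11971 := rfl
theorem F52996 : act 2 n11971 = n8251 := d18_1 D11971 (iv D8251) (iv F37319)
def n11972 : Q := act 6 n8249
theorem D11972 : act 6 n8249 = n11972 := rfl
def n11973 : Q := act 8 n8249
theorem D11973 : act 8 n8249 = n11973 := rfl
theorem F53004 : act 2 n11973 = n8253 := d22_1 D11973 (iv D8253) (iv F37319)
theorem F53005 : act 5 n11973 = n8250 := d37_1 D11973 (iv D8250) D8249
theorem F53006 : act 7 n11973 = n8336 := d42_1 D11973 (iv D8336) (iv F37321)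
def n11975 : Q := act 9 n8250
theorem D11975 : act 9 n8250 = n11975 := rfl
theorem F53013 : act 2 n11975 = n8254 := d23_1 D11975 (iv D8254) (iv F37323)
def n11976 : Q := act 6 n8251
theorem D11976 : act 6 n8251 = n11976 := rfl
theorem F53018 : act 4 n11976 = n8252 := d31_1 D11976 (iv D8252) D8251
def n11977 : Q := act 8 n8251
theorem D11977 : act 8 n8251 = n11977 := rfl
theorem F53020 : act 4 n11977 = n8253 := d33_1 D11977 (iv D8253) D8251
def n11978 : Q := act 7 n8252
theorem D11978 : act 7 n8252 = n11978 := rfl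
theorem F53026 : act 6 n11978 = n8341 := d39_1 D11978 (iv D8341) (iv D5753) (iv F26368) D8252
def n11979 : Q := act 8 n8252
theorem D11979 : act 8 n8252 = n11979 := rfl
def n11980 : Q := act 9 n8253
theorem D11980 : act 9 n8253 = n11980 := rfl
theorem F53034 : act 7 n11980 = n8343 := d43_1 D11980 (iv D8343) (iv F37336)
def n11983 : Q := act 8 n8256
theorem D11983 : act 8 n8256 = n11983 := rfl
theorem F53042 : act 1 n11983 = n8547 := d15_1 D11983 (iv D8547) (iv F37347)
theorem F53043 : act 2 n11983 = n8262 := d22_1 D11983 (iv D8262) (iv F37348)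
def n11986 : Q := act 3 n8258
theorem D11986 : act 3 n8258 = n11986 := rfl
theorem F53059 : act 7 n11986 = n8349 := d27_2 (iv F37358) D11986 (iv D8349)
def n11987 : Q := act 9 n8258
theorem D11987 : act 9 n8258 = n11987 := rfl
theorem F53062 : act 2 n11987 = n8265 := d23_1 D11987 (iv D8265) (iv F37356)
def n11989 : Q := act 9 n8259
theorem D11989 : act 9 n8259 = n11989 := rfl
theorem F53073 : act 3 n11989 = n8260 := d29_1 D11989 (iv D8260) D8259
theorem F53075 : act 7 n11989 = n8352 := d43_1 D11989 (iv D8352) (iv F37362)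
def n11993 : Q := act 3 n8262
theorem D11993 : act 3 n8262 = n11993 := rfl
def n11994 : Q := act 9 n8262
theorem D11994 : act 9 n8262 = n11994 := rfl
def n11998 : Q := act 8 n8266
theorem D11998 : act 8 n8266 = n11998 := rfl
theorem F53105 : act 2 n11998 = n8562 := d22_1 D11998 (iv D8562) (iv F37387)
def n11999 : Q := act 8 n8267
theorem D11999 : act 8 n8267 = n11999 := rfl
theorem F53109 : act 2 n11999 = n8563 := d22_1 D11999 (iv D8563) (iv F37390)
theorem F53110 : act 4 n11999 = n8271 := d33_1 D11999 (iv D8271) (iv F37391)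
def n12000 : Q := act 3 n8268
theorem D12000 : act 3 n8268 = n12000 := rfl
theorem F53114 : act 6 n12000 = n8269 := d26_2 (iv F37395) D12000 (iv D8269)
def n12001 : Q := act 9 n8268
theorem D12001 : act 9 n8268 = n12001 := rfl
theorem F53116 : act 4 n12001 = n8272 := d34_1 D12001 (iv D8272) (iv F37394)
theorem F53117 : act 6 n12001 = n8270 := d41_1 D12001 (iv D8270) (iv F37395)
def n12002 : Q := act 2 n8269
theorem D12002 : act 2 n8269 = n12002 := rfl
theorem F53118 : act 3 n12002 = n8566 := d17_2 D8269 D12002 (iv D8566) (iv D5905) (iv F26409)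
theorem F53121 : act 7 n12002 = n8365 := d21_2 (iv F37398) D12002 (iv D8365)
def n12003 : Q := act 9 n8269
theorem D12003 : act 9 n8269 = n12003 := rfl
theorem F53122 : act 3 n12003 = n8270 := d29_1 D12003 (iv D8270) D8269
def n12004 : Q := act 9 n8271
theorem D12004 : act 9 n8271 = n12004 := rfl
theorem F53126 : act 2 n12004 = n8568 := d23_1 D12004 (iv D8568) (iv F37403)
def n12016 : Q := act 2 n8280
theorem D12016 : act 2 n8280 = n12016 := rfl
theorem F53183 : act 4 n12016 = n8291 := d18_2 (iv F37447) D12016 (iv D8291)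
theorem F53184 : act 6 n12016 = n8379 := d20_2 (iv F37448) D12016 (iv D8379)
def n12021 : Q := act 8 n8282
theorem D12021 : act 8 n8282 = n12021 := rfl
theorem F53202 : act 4 n12021 = n8296 := d33_1 D12021 (iv D8296) (iv F37454)
def n12030 : Q := act 8 n8287
theorem D12030 : act 8 n8287 = n12030 := rfl
theorem F53235 : act 5 n12030 = n8393 := d37_1 D12030 (iv D8393) (iv F37473)
theorem F53236 : act 6 n12030 = n8288 := d40_1 D12030 (iv D8288) D8287
def n12031 : Q := act 9 n8288
theorem D12031 : act 9 n8288 = n12031 := rfl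
def n12032 : Q := act 1 n8291
theorem D12032 : act 1 n8291 = n12032 := rfl
theorem F53243 : act 6 n12032 = n8395 := d13_2 (iv F37489) D12032 (iv D8395)
def n12033 : Q := act 5 n8291
theorem D12033 : act 5 n8291 = n12033 := rfl
def n12034 : Q := act 8 n8291
theorem D12034 : act 8 n8291 = n12034 := rfl
theorem F53250 : act 2 n12034 = n8293 := d22_1 D12034 (iv D8293) D8291
def n12041 : Q := act 6 n8295
theorem D12041 : act 6 n8295 = n12041 := rfl
theorem F53274 : act 2 n12041 = n8298 := d20_1 D12041 (iv D8298) (iv F37503)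
theorem F53276 : act 5 n12041 = n8404 := d35_1 D12041 (iv D8404) (iv D5796) (iv F26486) D8295
def n12042 : Q := act 8 n8295
theorem D12042 : act 8 n8295 = n12042 := rfl
theorem F53279 : act 2 n12042 = n8299 := d22_1 D12042 (iv D8299) (iv F37503)
def n12043 : Q := act 3 n8296
theorem D12043 : act 3 n8296 = n12043 := rfl
theorem F53283 : act 6 n12043 = n8406 := d26_2 (iv F37508) D12043 (iv D8406)
def n12044 : Q := act 9 n8296
theorem D12044 : act 9 n8296 = n12044 := rfl
def n12045 : Q := act 6 n8297
theorem D12045 : act 6 n8297 = n12045 := rfl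
theorem F53290 : act 4 n12045 = n8298 := d31_1 D12045 (iv D8298) D8297
def n12047 : Q := act 7 n8298
theorem D12047 : act 7 n8298 = n12047 := rfl
theorem F53295 : act 3 n12047 = n8301 := d27_1 D12047 (iv D8301) (iv F37512)
theorem F53296 : act 5 n12047 = n8410 := d36_1 D12047 (iv D8410) (iv F37513)
def n12048 : Q := act 8 n8298
theorem D12048 : act 8 n8298 = n12048 := rfl
theorem F53299 : act 3 n12048 = n8323 := d28_1 D12048 (iv D8323) F26543 (iv F26497) (iv F37512)
theorem F53300 : act 5 n12048 = n8411 := d37_1 D12048 (iv D8411) (iv F37513)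
def n12050 : Q := act 5 n8302
theorem D12050 : act 5 n8302 = n12050 := rfl
theorem F53307 : act 4 n12050 = n8413 := d30_1 D12050 (iv D8413) F26785 (iv F26503) (iv F37528)
def n12051 : Q := act 7 n8302
theorem D12051 : act 7 n8302 = n12051 := rfl
def n12052 : Q := act 8 n8302
theorem D12052 : act 8 n8302 = n12052 := rfl
theorem F53314 : act 6 n12052 = n8303 := d40_1 D12052 (iv D8303) D8302
def n12054 : Q := act 9 n8303
theorem D12054 : act 9 n8303 = n12054 := rfl
def n12055 : Q := act 8 n8304
theorem D12055 : act 8 n8304 = n12055 := rfl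
theorem F53320 : act 3 n12055 = n8330 := d28_1 D12055 (iv D8330) F26563 (iv F26514) (iv F37533)
theorem F53322 : act 7 n12055 = n8305 := d42_1 D12055 (iv D8305) D8304
def n12056 : Q := act 9 n8305
theorem D12056 : act 9 n8305 = n12056 := rfl
theorem F53325 : act 5 n12056 = n8419 := d38_1 D12056 (iv D8419) (iv F37538)
theorem F53326 : act 6 n12056 = n8306 := d41_1 D12056 (iv D8306) (iv F37539)
def n12057 : Q := act 5 n8307
theorem D12057 : act 5 n8307 = n12057 := rfl
theorem F53331 : act 9 n12057 = n8332 := d38_2 (iv F37548) D12057 (iv D8332)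
def n12058 : Q := act 8 n8307
theorem D12058 : act 8 n8307 = n12058 := rfl
theorem F53333 : act 1 n12058 = n8309 := d15_1 D12058 (iv D8309) D8307
theorem F53335 : act 6 n12058 = n8421 := d40_1 D12058 (iv D8421) (iv F37547)
def n12061 : Q := act 8 n8308
theorem D12061 : act 8 n8308 = n12061 := rfl
theorem F53346 : act 2 n12061 = n8312 := d22_1 D12061 (iv D8312) (iv F37550)
def n12062 : Q := act 3 n8309
theorem D12062 : act 3 n8309 = n12062 := rfl
def n12063 : Q := act 9 n8309
theorem D12063 : act 9 n8309 = n12063 := rfl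
theorem F53352 : act 2 n12063 = n8313 := d23_1 D12063 (iv D8313) (iv F37554)
theorem F53354 : act 6 n12063 = n8426 := d41_1 D12063 (iv D8426) (iv F37556)
theorem F53355 : act 8 n12063 = n8338 := d44_1 D12063 (iv D8338) (iv D5751) (iv F26520) D8309
def n12067 : Q := act 8 n8311
theorem D12067 : act 8 n8311 = n12067 := rfl
theorem F53368 : act 6 n12067 = n8312 := d40_1 D12067 (iv D8312) D8311
def n12068 : Q := act 9 n8312
theorem D12068 : act 9 n8312 = n12068 := rfl
theorem F53371 : act 8 n12068 = n8343 := d44_1 D12068 (iv D8343) (iv D5754) (iv F26523) D8312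
def n12072 : Q := act 7 n8316
theorem D12072 : act 7 n8316 = n12072 := rfl
theorem F53384 : act 1 n12072 = n8584 := d14_1 D12072 (iv D8584) (iv F37578)
theorem F53385 : act 2 n12072 = n8322 := d21_1 D12072 (iv D8322) (iv F37579)
theorem F53388 : act 9 n12072 = n8347 := d43_2 (iv F37582) D12072 (iv D8347)
def n12073 : Q := act 8 n8316
theorem D12073 : act 8 n8316 = n12073 := rfl
theorem F53389 : act 1 n12073 = n8585 := d15_1 D12073 (iv D8585) (iv F37578)
theorem F53390 : act 2 n12073 = n8323 := d22_1 D12073 (iv D8323) (iv F37579)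
theorem F53392 : act 6 n12073 = n8317 := d40_1 D12073 (iv D8317) D8316
def n12074 : Q := act 3 n8317
theorem D12074 : act 3 n8317 = n12074 := rfl
theorem F53393 : act 1 n12074 = n8586 := d10_1 D12074 (iv D8586) (iv F37583)
def n12075 : Q := act 9 n8317
theorem D12075 : act 9 n8317 = n12075 := rfl
theorem F53397 : act 2 n12075 = n8324 := d23_1 D12075 (iv D8324) (iv F37584)
def n12077 : Q := act 9 n8318
theorem D12077 : act 9 n8318 = n12077 := rfl
theorem F53405 : act 3 n12077 = n8319 := d29_1 D12077 (iv D8319) D8318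
theorem F53406 : act 6 n12077 = n8440 := d41_1 D12077 (iv D8440) (iv F37587)
def n12080 : Q := act 8 n8320
theorem D12080 : act 8 n8320 = n12080 := rfl
theorem F53415 : act 4 n12080 = n8323 := d33_1 D12080 (iv D8323) (iv F37595)
theorem F53416 : act 6 n12080 = n8321 := d40_1 D12080 (iv D8321) D8320
def n12081 : Q := act 3 n8321
theorem D12081 : act 3 n8321 = n12081 := rfl
def n12082 : Q := act 9 n8321
theorem D12082 : act 9 n8321 = n12082 := rfl
theorem F53422 : act 8 n12082 = n8357 := d44_1 D12082 (iv D8357) (iv D5763) (iv F26541) D8321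
def n12083 : Q := act 8 n8322
theorem D12083 : act 8 n8322 = n12083 := rfl
def n12084 : Q := act 9 n8323
theorem D12084 : act 9 n8323 = n12084 := rfl
theorem F53426 : act 1 n12084 = n8331 := d16_1 D12084 (iv D8331) (iv F37604)
theorem F53427 : act 5 n12084 = n8447 := d38_1 D12084 (iv D8447) (iv F37605)
theorem F53428 : act 6 n12084 = n8324 := d41_1 D12084 (iv D8324) (iv F37606)
def n12086 : Q := act 8 n8325
theorem D12086 : act 8 n8325 = n12086 := rfl
theorem F53435 : act 4 n12086 = n8449 := d33_1 D12086 (iv D8449) (iv F37611)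
theorem F53436 : act 5 n12086 = n8327 := d37_1 D12086 (iv D8327) D8325
def n12087 : Q := act 8 n8326
theorem D12087 : act 8 n8326 = n12087 := rfl
theorem F53439 : act 4 n12087 = n8330 := d33_1 D12087 (iv D8330) (iv F37615)
def n12088 : Q := act 3 n8327
theorem D12088 : act 3 n8327 = n12088 := rfl
theorem F53441 : act 6 n12088 = n8328 := d26_2 (iv F37619) D12088 (iv D8328)
def n12089 : Q := act 9 n8327
theorem D12089 : act 9 n8327 = n12089 := rfl
theorem F53444 : act 6 n12089 = n8329 := d41_1 D12089 (iv D8329) (iv F37619)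
def n12091 : Q := act 9 n8328
theorem D12091 : act 9 n8328 = n12091 := rfl
theorem F53448 : act 3 n12091 = n8329 := d29_1 D12091 (iv D8329) D8328
def n12093 : Q := act 4 n8332
theorem D12093 : act 4 n8332 = n12093 := rfl
theorem F53454 : act 0 n12093 = n8605 := d3_1 D12093 (iv D8605) (iv F37632)
theorem F53455 : act 1 n12093 = n8334 := d11_1 D12093 (iv D8334) (iv F37633)
def n12094 : Q := act 6 n8332
theorem D12094 : act 6 n8332 = n12094 := rfl
theorem F53460 : act 5 n12094 = n8457 := d35_1 D12094 (iv D8457) (iv D5833) (iv F26575) D8332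
def n12095 : Q := act 8 n8332
theorem D12095 : act 8 n8332 = n12095 := rfl
def n12098 : Q := act 3 n8334
theorem D12098 : act 3 n8334 = n12098 := rfl
def n12099 : Q := act 6 n8334
theorem D12099 : act 6 n8334 = n12099 := rfl
theorem F53476 : act 2 n12099 = n8339 := d20_1 D12099 (iv D8339) (iv F37640)
theorem F53477 : act 4 n12099 = n8335 := d31_1 D12099 (iv D8335) D8334
def n12100 : Q := act 8 n8334
theorem D12100 : act 8 n8334 = n12100 := rfl
theorem F53479 : act 2 n12100 = n8340 := d22_1 D12100 (iv D8340) (iv F37640)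
theorem F53480 : act 4 n12100 = n8336 := d33_1 D12100 (iv D8336) D8334
def n12101 : Q := act 7 n8335
theorem D12101 : act 7 n8335 = n12101 := rfl
theorem F53485 : act 5 n12101 = n8464 := d36_1 D12101 (iv D8464) (iv F37645)
def n12102 : Q := act 8 n8335
theorem D12102 : act 8 n8335 = n12102 := rfl
theorem F53487 : act 2 n12102 = n8342 := d22_1 D12102 (iv D8342) (iv F37643)
theorem F53488 : act 5 n12102 = n8465 := d37_1 D12102 (iv D8465) (iv F37645)
theorem F53489 : act 6 n12102 = n8336 := d40_1 D12102 (iv D8336) D8335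
def n12103 : Q := act 3 n8336
theorem D12103 : act 3 n8336 = n12103 := rfl
def n12104 : Q := act 9 n8336
theorem D12104 : act 9 n8336 = n12104 := rfl
theorem F53495 : act 2 n12104 = n8343 := d23_1 D12104 (iv D8343) (iv F37647)
def n12107 : Q := act 5 n8339
theorem D12107 : act 5 n8339 = n12107 := rfl
theorem F53507 : act 4 n12107 = n8470 := d30_1 D12107 (iv D8470) F26930 (iv F26587) (iv F37658)
def n12108 : Q := act 7 n8339
theorem D12108 : act 7 n8339 = n12108 := rfl
theorem F53510 : act 4 n12108 = n8341 := d32_1 D12108 (iv D8341) (iv F37658)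
def n12109 : Q := act 8 n8339
theorem D12109 : act 8 n8339 = n12109 := rfl
theorem F53512 : act 4 n12109 = n8342 := d33_1 D12109 (iv D8342) (iv F37658)
def n12110 : Q := act 3 n8340
theorem D12110 : act 3 n8340 = n12110 := rfl
def n12112 : Q := act 8 n8341
theorem D12112 : act 8 n8341 = n12112 := rfl
theorem F53522 : act 5 n12112 = n8475 := d37_1 D12112 (iv D8475) (iv F37664)
def n12113 : Q := act 9 n8342
theorem D12113 : act 9 n8342 = n12113 := rfl
theorem F53526 : act 5 n12113 = n8476 := d38_1 D12113 (iv D8476) (iv F37667)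
theorem F53527 : act 6 n12113 = n8343 := d41_1 D12113 (iv D8343) (iv F37668)
def n12116 : Q := act 5 n8345
theorem D12116 : act 5 n8345 = n12116 := rfl
theorem F53534 : act 1 n12116 = n8628 := d12_1 D12116 (iv D8628) (iv F37675)
theorem F53535 : act 2 n12116 = n8353 := d19_1 D12116 (iv D8353) (iv F37676)
theorem F53536 : act 4 n12116 = n8479 := d30_1 D12116 (iv D8479) F26952 (iv F26605) (iv F37677)
def n12118 : Q := act 8 n8345
theorem D12118 : act 8 n8345 = n12118 := rfl
theorem F53541 : act 1 n12118 = n8630 := d15_1 D12118 (iv D8630) (iv F37675)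
theorem F53542 : act 2 n12118 = n8355 := d22_1 D12118 (iv D8355) (iv F37676)
theorem F53543 : act 4 n12118 = n8348 := d33_1 D12118 (iv D8348) (iv F37677)
theorem F53544 : act 6 n12118 = n8346 := d40_1 D12118 (iv D8346) D8345
def n12122 : Q := act 3 n8348
theorem D12122 : act 3 n8348 = n12122 := rfl
theorem F53557 : act 5 n12122 = n8485 := d25_2 (iv F37688) D12122 (iv D8485)
theorem F53558 : act 6 n12122 = n8349 := d26_2 (iv F37689) D12122 (iv D8349)
def n12123 : Q := act 9 n8348
theorem D12123 : act 9 n8348 = n12123 := rfl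
theorem F53561 : act 2 n12123 = n8359 := d23_1 D12123 (iv D8359) (iv F37687)
def n12125 : Q := act 9 n8349
theorem D12125 : act 9 n8349 = n12125 := rfl
theorem F53569 : act 3 n12125 = n8350 := d29_1 D12125 (iv D8350) D8349
def n12128 : Q := act 8 n8352
theorem D12128 : act 8 n8352 = n12128 := rfl
theorem F53582 : act 6 n12128 = n8491 := d40_1 D12128 (iv D8491) (iv F37705)
def n12130 : Q := act 8 n8353
theorem D12130 : act 8 n8353 = n12130 := rfl
theorem F53588 : act 4 n12130 = n8493 := d33_1 D12130 (iv D8493) (iv F37707)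
def n12132 : Q := act 3 n8355
theorem D12132 : act 3 n8355 = n12132 := rfl
def n12135 : Q := act 9 n8356
theorem D12135 : act 9 n8356 = n12135 := rfl
theorem F53603 : act 3 n12135 = n8357 := d29_1 D12135 (iv D8357) D8356
def n12138 : Q := act 8 n8360
theorem D12138 : act 8 n8360 = n12138 := rfl
theorem F53613 : act 2 n12138 = n8650 := d22_1 D12138 (iv D8650) (iv F37728)
def n12139 : Q := act 3 n8361
theorem D12139 : act 3 n8361 = n12139 := rfl
def n12140 : Q := act 9 n8361
theorem D12140 : act 9 n8361 = n12140 := rfl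
theorem F53619 : act 2 n12140 = n8652 := d23_1 D12140 (iv D8652) (iv F37731)
theorem F53620 : act 4 n12140 = n8503 := d34_1 D12140 (iv D8503) (iv F37732)
def n12141 : Q := act 3 n8362
theorem D12141 : act 3 n8362 = n12141 := rfl
def n12142 : Q := act 9 n8362
theorem D12142 : act 9 n8362 = n12142 := rfl
theorem F53626 : act 4 n12142 = n8367 := d34_1 D12142 (iv D8367) (iv F37736)
def n12145 : Q := act 1 n8365
theorem D12145 : act 1 n8365 = n12145 := rfl
theorem F53634 : act 3 n12145 = n8657 := d10_2 (iv F37743) D12145 (iv D8657)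
def n12146 : Q := act 9 n8365
theorem D12146 : act 9 n8365 = n12146 := rfl
theorem F53638 : act 3 n12146 = n8658 := d29_1 D12146 (iv D8658) (iv F37743)
def n12147 : Q := act 8 n8366
theorem D12147 : act 8 n8366 = n12147 := rfl
def n12166 : Q := act 8 n8379
theorem D12166 : act 8 n8379 = n12166 := rfl
def n12184 : Q := act 8 n8390
theorem D12184 : act 8 n8390 = n12184 := rfl
theorem F53805 : act 4 n12184 = n8393 := d33_1 D12184 (iv D8393) (iv F37858)
theorem F53806 : act 6 n12184 = n8391 := d40_1 D12184 (iv D8391) D8390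
def n12185 : Q := act 3 n8391
theorem D12185 : act 3 n8391 = n12185 := rfl
theorem F53808 : act 5 n12185 = n8416 := d25_2 (iv F37862) D12185 (iv D8416)
def n12186 : Q := act 9 n8391
theorem D12186 : act 9 n8391 = n12186 := rfl
theorem F53812 : act 4 n12186 = n8394 := d34_1 D12186 (iv D8394) (iv F37861)
def n12188 : Q := act 9 n8393
theorem D12188 : act 9 n8393 = n12188 := rfl
def n12190 : Q := act 8 n8395
theorem D12190 : act 8 n8395 = n12190 := rfl
theorem F53830 : act 1 n12190 = n8397 := d15_1 D12190 (iv D8397) D8395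
def n12194 : Q := act 3 n8397
theorem D12194 : act 3 n8397 = n12194 := rfl
theorem F53845 : act 2 n12194 = n8425 := d17_1 D12194 (iv D8425) F26813 (iv F26747) (iv F37886)
def n12197 : Q := act 8 n8398
theorem D12197 : act 8 n8398 = n12197 := rfl
theorem F53856 : act 0 n12197 = n8409 := d7_1 D12197 (iv D8409) (iv F37888)
theorem F53857 : act 4 n12197 = n8400 := d33_1 D12197 (iv D8400) D8398
def n12204 : Q := act 7 n8404
theorem D12204 : act 7 n8404 = n12204 := rfl
theorem F53885 : act 2 n12204 = n8410 := d21_1 D12204 (iv D8410) (iv F37914)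
def n12205 : Q := act 8 n8404
theorem D12205 : act 8 n8404 = n12205 := rfl
theorem F53890 : act 2 n12205 = n8411 := d22_1 D12205 (iv D8411) (iv F37914)
def n12206 : Q := act 3 n8405
theorem D12206 : act 3 n8405 = n12206 := rfl
theorem F53894 : act 5 n12206 = n8406 := d25_2 (iv F37919) D12206 (iv D8406)
def n12209 : Q := act 9 n8406
theorem D12209 : act 9 n8406 = n12209 := rfl
def n12210 : Q := act 5 n8408
theorem D12210 : act 5 n8408 = n12210 := rfl
def n12212 : Q := act 8 n8408
theorem D12212 : act 8 n8408 = n12212 := rfl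
theorem F53919 : act 4 n12212 = n8411 := d33_1 D12212 (iv D8411) (iv F37931)
theorem F53920 : act 6 n12212 = n8409 := d40_1 D12212 (iv D8409) D8408
def n12213 : Q := act 3 n8409
theorem D12213 : act 3 n8409 = n12213 := rfl
theorem F53921 : act 1 n12213 = n8416 := d10_1 D12213 (iv D8416) (iv F37933)
def n12215 : Q := act 8 n8410
theorem D12215 : act 8 n8410 = n12215 := rfl
theorem F53930 : act 3 n12215 = n8446 := d28_1 D12215 (iv D8446) F26866 (iv F26781) (iv F37937)
def n12216 : Q := act 9 n8411
theorem D12216 : act 9 n8411 = n12216 := rfl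
theorem F53933 : act 1 n12216 = n8419 := d16_1 D12216 (iv D8419) (iv F37940)
def n12218 : Q := act 8 n8413
theorem D12218 : act 8 n8413 = n12218 := rfl
theorem F53942 : act 5 n12218 = n8415 := d37_1 D12218 (iv D8415) D8413
def n12220 : Q := act 3 n8415
theorem D12220 : act 3 n8415 = n12220 := rfl
theorem F53948 : act 6 n12220 = n8416 := d26_2 (iv F37958) D12220 (iv D8416)
def n12221 : Q := act 9 n8415
theorem D12221 : act 9 n8415 = n12221 := rfl
theorem F53951 : act 4 n12221 = n8419 := d34_1 D12221 (iv D8419) (iv F37957)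
def n12222 : Q := act 2 n8416
theorem D12222 : act 2 n8416 = n12222 := rfl
theorem F53955 : act 4 n12222 = n8453 := d18_2 (iv F37959) D12222 (iv D8453)
def n12223 : Q := act 9 n8416
theorem D12223 : act 9 n8416 = n12223 := rfl
theorem F53959 : act 4 n12223 = n8454 := d34_1 D12223 (iv D8454) (iv F37959)
def n12225 : Q := act 4 n8420
theorem D12225 : act 4 n8420 = n12225 := rfl
theorem F53966 : act 0 n12225 = n8660 := d3_1 D12225 (iv D8660) (iv F37974)
theorem F53967 : act 1 n12225 = n8422 := d11_1 D12225 (iv D8422) (iv F37975)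
def n12226 : Q := act 6 n8420
theorem D12226 : act 6 n8420 = n12226 := rfl
theorem F53974 : act 9 n12226 = n8457 := d41_2 (iv F37978) D12226 (iv D8457)
def n12228 : Q := act 3 n8421
theorem D12228 : act 3 n8421 = n12228 := rfl
theorem F53980 : act 1 n12228 = n8425 := d10_1 D12228 (iv D8425) (iv F37980)
def n12232 : Q := act 8 n8422
theorem D12232 : act 8 n8422 = n12232 := rfl
theorem F53999 : act 2 n12232 = n8428 := d22_1 D12232 (iv D8428) (iv F37984)
theorem F54000 : act 4 n12232 = n8424 := d33_1 D12232 (iv D8424) D8422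
def n12234 : Q := act 8 n8423
theorem D12234 : act 8 n8423 = n12234 := rfl
theorem F54009 : act 2 n12234 = n8430 := d22_1 D12234 (iv D8430) (iv F37989)
def n12236 : Q := act 9 n8424
theorem D12236 : act 9 n8424 = n12236 := rfl
theorem F54017 : act 5 n12236 = n8426 := d38_1 D12236 (iv D8426) (iv F37994)
theorem F54019 : act 8 n12236 = n8467 := d44_1 D12236 (iv D8467) (iv D5837) (iv F26811) D8424
def n12241 : Q := act 8 n8427
theorem D12241 : act 8 n8427 = n12241 := rfl
theorem F54037 : act 4 n12241 = n8430 := d33_1 D12241 (iv D8430) (iv F38006)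
def n12242 : Q := act 3 n8428
theorem D12242 : act 3 n8428 = n12242 := rfl
theorem F54039 : act 0 n12242 = n8444 := d2_1 D12242 (iv D8444) (iv F38008)
def n12243 : Q := act 9 n8428
theorem D12243 : act 9 n8428 = n12243 := rfl
theorem F54044 : act 4 n12243 = n8431 := d34_1 D12243 (iv D8431) (iv F38009)
theorem F54047 : act 8 n12243 = n8474 := d44_1 D12243 (iv D8474) (iv D5841) (iv F26820) D8428
def n12245 : Q := act 9 n8430
theorem D12245 : act 9 n8430 = n12245 := rfl
theorem F54053 : act 8 n12245 = n8476 := d44_1 D12245 (iv D8476) (iv D5843) (iv F26823) D8430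
def n12249 : Q := act 7 n8433
theorem D12249 : act 7 n8433 = n12249 := rfl
theorem F54070 : act 4 n12249 = n8435 := d32_1 D12249 (iv D8435) (iv F38030)
theorem F54072 : act 9 n12249 = n8480 := d43_2 (iv F38031) D12249 (iv D8480)
def n12250 : Q := act 8 n8433
theorem D12250 : act 8 n8433 = n12250 := rfl
theorem F54073 : act 1 n12250 = n8685 := d15_1 D12250 (iv D8685) (iv F38028)
theorem F54074 : act 2 n12250 = n8443 := d22_1 D12250 (iv D8443) (iv F38029)
theorem F54075 : act 4 n12250 = n8436 := d33_1 D12250 (iv D8436) (iv F38030)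
def n12251 : Q := act 3 n8434
theorem D12251 : act 3 n8434 = n12251 := rfl
theorem F54077 : act 1 n12251 = n8686 := d10_1 D12251 (iv D8686) (iv F38032)
def n12252 : Q := act 9 n8434
theorem D12252 : act 9 n8434 = n12252 := rfl
theorem F54080 : act 1 n12252 = n8687 := d16_1 D12252 (iv D8687) (iv F38032)
theorem F54081 : act 2 n12252 = n8445 := d23_1 D12252 (iv D8445) (iv F38033)
theorem F54082 : act 4 n12252 = n8438 := d34_1 D12252 (iv D8438) (iv F38034)
def n12253 : Q := act 8 n8435
theorem D12253 : act 8 n8435 = n12253 := rfl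
theorem F54086 : act 1 n12253 = n8688 := d15_1 D12253 (iv D8688) (iv F38037)
theorem F54087 : act 2 n12253 = n8446 := d22_1 D12253 (iv D8446) (iv F38038)
def n12254 : Q := act 3 n8436
theorem D12254 : act 3 n8436 = n12254 := rfl
def n12255 : Q := act 9 n8436
theorem D12255 : act 9 n8436 = n12255 := rfl
theorem F54094 : act 2 n12255 = n8447 := d23_1 D12255 (iv D8447) (iv F38043)
def n12257 : Q := act 9 n8437
theorem D12257 : act 9 n8437 = n12257 := rfl
theorem F54101 : act 3 n12257 = n8438 := d29_1 D12257 (iv D8438) D8437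
theorem F54102 : act 5 n12257 = n8440 := d38_1 D12257 (iv D8440) (iv F38046)
def n12260 : Q := act 8 n8440
theorem D12260 : act 8 n8440 = n12260 := rfl
def n12263 : Q := act 8 n8442
theorem D12263 : act 8 n8442 = n12263 := rfl
theorem F54124 : act 4 n12263 = n8446 := d33_1 D12263 (iv D8446) (iv F38067)
def n12264 : Q := act 3 n8443
theorem D12264 : act 3 n8443 = n12264 := rfl
theorem F54128 : act 6 n12264 = n8444 := d26_2 (iv F38072) D12264 (iv D8444)
def n12265 : Q := act 9 n8443
theorem D12265 : act 9 n8443 = n12265 := rfl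
def n12266 : Q := act 2 n8444
theorem D12266 : act 2 n8444 = n12266 := rfl
def n12267 : Q := act 9 n8444
theorem D12267 : act 9 n8444 = n12267 := rfl
theorem F54137 : act 1 n12267 = n8454 := d16_1 D12267 (iv D8454) (iv F38073)
theorem F54138 : act 3 n12267 = n8445 := d29_1 D12267 (iv D8445) D8444
def n12270 : Q := act 8 n8448
theorem D12270 : act 8 n8448 = n12270 := rfl
theorem F54151 : act 5 n12270 = n8450 := d37_1 D12270 (iv D8450) (iv F38090)
def n12271 : Q := act 3 n8449
theorem D12271 : act 3 n8449 = n12271 := rfl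
theorem F54153 : act 5 n12271 = n8451 := d25_2 (iv F38093) D12271 (iv D8451)
def n12272 : Q := act 9 n8449
theorem D12272 : act 9 n8449 = n12272 := rfl
theorem F54156 : act 2 n12272 = n8707 := d23_1 D12272 (iv D8707) (iv F38092)
theorem F54159 : act 8 n12272 = n8503 := d44_1 D12272 (iv D8503) (iv D5862) (iv F26878) D8449
def n12275 : Q := act 2 n8451
theorem D12275 : act 2 n8451 = n12275 := rfl
theorem F54168 : act 3 n12275 = n8710 := d17_2 D8451 D12275 (iv D8710) (iv D6001) (iv F26884)
theorem F54169 : act 6 n12275 = n8453 := d20_2 (iv F38099) D12275 (iv D8453)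
def n12276 : Q := act 9 n8451
theorem D12276 : act 9 n8451 = n12276 := rfl
theorem F54172 : act 6 n12276 = n8454 := d41_1 D12276 (iv D8454) (iv F38099)
def n12277 : Q := act 1 n8453
theorem D12277 : act 1 n8453 = n12277 := rfl
theorem F54173 : act 3 n12277 = n8712 := d10_2 (iv F38105) D12277 (iv D8712)
def n12278 : Q := act 9 n8453
theorem D12278 : act 9 n8453 = n12278 := rfl
theorem F54178 : act 3 n12278 = n8713 := d29_1 D12278 (iv D8713) (iv F38105)
def n12279 : Q := act 8 n8454
theorem D12279 : act 8 n8454 = n12279 := rfl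
def n12284 : Q := act 8 n8457
theorem D12284 : act 8 n8457 = n12284 := rfl
def n12290 : Q := act 6 n8461
theorem D12290 : act 6 n8461 = n12290 := rfl
theorem F54229 : act 3 n12290 = n8462 := d26_1 D12290 (iv D8462) D8461
def n12291 : Q := act 8 n8461
theorem D12291 : act 8 n8461 = n12291 := rfl
def n12292 : Q := act 5 n8462
theorem D12292 : act 5 n8462 = n12292 := rfl
def n12294 : Q := act 8 n8462
theorem D12294 : act 8 n8462 = n12294 := rfl
theorem F54244 : act 2 n12294 = n8472 := d22_1 D12294 (iv D8472) (iv F38141)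
theorem F54245 : act 4 n12294 = n8465 := d33_1 D12294 (iv D8465) (iv F38142)
theorem F54246 : act 6 n12294 = n8463 := d40_1 D12294 (iv D8463) D8462
def n12295 : Q := act 3 n8463
theorem D12295 : act 3 n8463 = n12295 := rfl
def n12296 : Q := act 9 n8463
theorem D12296 : act 9 n8463 = n12296 := rfl
def n12297 : Q := act 8 n8464
theorem D12297 : act 8 n8464 = n12297 := rfl
theorem F54256 : act 2 n12297 = n8475 := d22_1 D12297 (iv D8475) (iv F38149)
def n12298 : Q := act 3 n8465
theorem D12298 : act 3 n8465 = n12298 := rfl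
def n12299 : Q := act 9 n8465
theorem D12299 : act 9 n8465 = n12299 := rfl
theorem F54264 : act 2 n12299 = n8476 := d23_1 D12299 (iv D8476) (iv F38153)
def n12305 : Q := act 7 n8470
theorem D12305 : act 7 n8470 = n12305 := rfl
theorem F54291 : act 5 n12305 = n8471 := d36_1 D12305 (iv D8471) D8470
def n12306 : Q := act 8 n8470
theorem D12306 : act 8 n8470 = n12306 := rfl
theorem F54293 : act 5 n12306 = n8472 := d37_1 D12306 (iv D8472) D8470
def n12307 : Q := act 8 n8471
theorem D12307 : act 8 n8471 = n12307 := rfl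
theorem F54296 : act 4 n12307 = n8475 := d33_1 D12307 (iv D8475) (iv F38178)
def n12308 : Q := act 3 n8472
theorem D12308 : act 3 n8472 = n12308 := rfl
theorem F54301 : act 6 n12308 = n8473 := d26_2 (iv F38182) D12308 (iv D8473)
def n12309 : Q := act 9 n8472
theorem D12309 : act 9 n8472 = n12309 := rfl
theorem F54304 : act 4 n12309 = n8476 := d34_1 D12309 (iv D8476) (iv F38181)
def n12310 : Q := act 2 n8473
theorem D12310 : act 2 n8473 = n12310 := rfl
def n12311 : Q := act 9 n8473
theorem D12311 : act 9 n8473 = n12311 := rfl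
theorem F54312 : act 3 n12311 = n8474 := d29_1 D12311 (iv D8474) D8473
def n12312 : Q := act 9 n8475
theorem D12312 : act 9 n8475 = n12312 := rfl
def n12313 : Q := act 5 n8477
theorem D12313 : act 5 n8477 = n12313 := rfl
theorem F54322 : act 3 n12313 = n8479 := d25_1 D12313 (iv D8479) (iv F38201)
def n12319 : Q := act 8 n8479
theorem D12319 : act 8 n8479 = n12319 := rfl
theorem F54347 : act 5 n12319 = n8481 := d37_1 D12319 (iv D8481) D8479
def n12320 : Q := act 8 n8480
theorem D12320 : act 8 n8480 = n12320 := rfl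
theorem F54351 : act 4 n12320 = n8484 := d33_1 D12320 (iv D8484) (iv F38213)
def n12321 : Q := act 3 n8481
theorem D12321 : act 3 n8481 = n12321 := rfl
def n12322 : Q := act 9 n8481
theorem D12322 : act 9 n8481 = n12322 := rfl
theorem F54357 : act 2 n12322 = n8496 := d23_1 D12322 (iv D8496) (iv F38216)
theorem F54358 : act 4 n12322 = n8486 := d34_1 D12322 (iv D8486) (iv F38217)
def n12323 : Q := act 2 n8482
theorem D12323 : act 2 n8482 = n12323 := rfl
theorem F54361 : act 3 n12323 = n8497 := d17_2 D8482 D12323 (iv D8497) (iv D5857) (iv F26954)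
def n12324 : Q := act 4 n8482
theorem D12324 : act 4 n8482 = n12324 := rfl
theorem F54365 : act 3 n12324 = n8487 := d24_1 D12324 (iv D8487) (iv D5850) (iv F26955) D8482
def n12326 : Q := act 3 n8484
theorem D12326 : act 3 n8484 = n12326 := rfl
def n12327 : Q := act 9 n8484
theorem D12327 : act 9 n8484 = n12327 := rfl
theorem F54377 : act 2 n12327 = n8499 := d23_1 D12327 (iv D8499) (iv F38228)
def n12328 : Q := act 4 n8485
theorem D12328 : act 4 n8485 = n12328 := rfl
def n12329 : Q := act 9 n8485
theorem D12329 : act 9 n8485 = n12329 := rfl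
theorem F54386 : act 3 n12329 = n8486 := d29_1 D12329 (iv D8486) D8485
def n12331 : Q := act 9 n8487
theorem D12331 : act 9 n8487 = n12331 := rfl
theorem F54395 : act 4 n12331 = n8488 := d34_1 D12331 (iv D8488) D8487
def n12332 : Q := act 8 n8488
theorem D12332 : act 8 n8488 = n12332 := rfl
theorem F54399 : act 5 n12332 = n8491 := d37_1 D12332 (iv D8491) (iv F38245)
def n12341 : Q := act 9 n8494
theorem D12341 : act 9 n8494 = n12341 := rfl
theorem F54436 : act 4 n12341 = n8499 := d34_1 D12341 (iv D8499) (iv F38268)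
def n12342 : Q := act 2 n8495
theorem D12342 : act 2 n8495 = n12342 := rfl
def n12343 : Q := act 9 n8495
theorem D12343 : act 9 n8495 = n12343 := rfl
theorem F54444 : act 3 n12343 = n8496 := d29_1 D12343 (iv D8496) D8495
def n12344 : Q := act 9 n8497
theorem D12344 : act 9 n8497 = n12344 := rfl
theorem F54448 : act 2 n12344 = n8498 := d23_1 D12344 (iv D8498) D8497
def n12350 : Q := act 9 n8502
theorem D12350 : act 9 n8502 = n12350 := rfl
theorem F54473 : act 3 n12350 = n8503 := d29_1 D12350 (iv D8503) D8502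
theorem F54474 : act 5 n12350 = n8506 := d38_1 D12350 (iv D8506) (iv F38300)
def n12352 : Q := act 8 n8506
theorem D12352 : act 8 n8506 = n12352 := rfl
def n12353 : Q := act 5 n8508
theorem D12353 : act 5 n8508 = n12353 := rfl
theorem F54487 : act 7 n12353 = n8569 := d36_2 (iv F38327) D12353 (iv D8569)
theorem F54488 : act 9 n12353 = n8533 := d38_2 (iv F38328) D12353 (iv D8533)
def n12354 : Q := act 8 n8508
theorem D12354 : act 8 n8508 = n12354 := rfl
theorem F54489 : act 1 n12354 = n8510 := d15_1 D12354 (iv D8510) D8508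
theorem F54492 : act 7 n12354 = n8570 := d42_1 D12354 (iv D8570) (iv F38327)
def n12356 : Q := act 6 n8509
theorem D12356 : act 6 n8509 = n12356 := rfl
theorem F54498 : act 0 n12356 = n8517 := d5_1 D12356 (iv D8517) (iv F38329)
theorem F54499 : act 2 n12356 = n8512 := d20_1 D12356 (iv D8512) (iv F38330)
theorem F54502 : act 9 n12356 = n8536 := d41_2 (iv F38333) D12356 (iv D8536)
def n12357 : Q := act 8 n8509
theorem D12357 : act 8 n8509 = n12357 := rfl
theorem F54503 : act 0 n12357 = n8518 := d7_1 D12357 (iv D8518) (iv F38329)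
theorem F54504 : act 2 n12357 = n8513 := d22_1 D12357 (iv D8513) (iv F38330)
theorem F54506 : act 7 n12357 = n8573 := d42_1 D12357 (iv D8573) (iv F38332)
def n12358 : Q := act 3 n8510
theorem D12358 : act 3 n8510 = n12358 := rfl
theorem F54507 : act 0 n12358 = n8519 := d2_1 D12358 (iv D8519) (iv F38334)
def n12359 : Q := act 9 n8510
theorem D12359 : act 9 n8510 = n12359 := rfl
theorem F54513 : act 2 n12359 = n8514 := d23_1 D12359 (iv D8514) (iv F38335)
theorem F54516 : act 7 n12359 = n8575 := d43_1 D12359 (iv D8575) (iv F38338)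
def n12360 : Q := act 6 n8511
theorem D12360 : act 6 n8511 = n12360 := rfl
theorem F54520 : act 4 n12360 = n8512 := d31_1 D12360 (iv D8512) D8511
def n12361 : Q := act 8 n8511
theorem D12361 : act 8 n8511 = n12361 := rfl
theorem F54525 : act 7 n12361 = n8577 := d42_1 D12361 (iv D8577) (iv F38342)
def n12362 : Q := act 7 n8512
theorem D12362 : act 7 n8512 = n12362 := rfl
theorem F54526 : act 0 n12362 = n8523 := d6_1 D12362 (iv D8523) (iv F38344)
theorem F54530 : act 9 n12362 = n8542 := d43_2 (iv F38347) D12362 (iv D8542)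
def n12363 : Q := act 8 n8512
theorem D12363 : act 8 n8512 = n12363 := rfl
theorem F54531 : act 0 n12363 = n8524 := d7_1 D12363 (iv D8524) (iv F38344)
def n12364 : Q := act 9 n8513
theorem D12364 : act 9 n8513 = n12364 := rfl
def n12367 : Q := act 8 n8516
theorem D12367 : act 8 n8516 = n12367 := rfl
theorem F54548 : act 2 n12367 = n8522 := d22_1 D12367 (iv D8522) (iv F38365)
def n12368 : Q := act 7 n8517
theorem D12368 : act 7 n8517 = n12368 := rfl
theorem F54556 : act 9 n12368 = n8548 := d43_2 (iv F38372) D12368 (iv D8548)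
def n12369 : Q := act 8 n8517
theorem D12369 : act 8 n8517 = n12369 := rfl
theorem F54557 : act 2 n12369 = n8524 := d22_1 D12369 (iv D8524) (iv F38369)
def n12370 : Q := act 3 n8518
theorem D12370 : act 3 n8518 = n12370 := rfl
theorem F54562 : act 7 n12370 = n8586 := d27_2 (iv F38375) D12370 (iv D8586)
def n12371 : Q := act 9 n8518
theorem D12371 : act 9 n8518 = n12371 := rfl
theorem F54564 : act 2 n12371 = n8525 := d23_1 D12371 (iv D8525) (iv F38373)
theorem F54567 : act 8 n12371 = n8551 := d44_1 D12371 (iv D8551) (iv D5894) (iv F27059) D8518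
def n12372 : Q := act 4 n8519
theorem D12372 : act 4 n8519 = n12372 := rfl
def n12373 : Q := act 9 n8519
theorem D12373 : act 9 n8519 = n12373 := rfl
theorem F54574 : act 3 n12373 = n8520 := d29_1 D12373 (iv D8520) D8519
theorem F54576 : act 7 n12373 = n8589 := d43_1 D12373 (iv D8589) (iv F38378)
def n12376 : Q := act 8 n8521
theorem D12376 : act 8 n8521 = n12376 := rfl
theorem F54588 : act 4 n12376 = n8524 := d33_1 D12376 (iv D8524) (iv F38387)
def n12377 : Q := act 3 n8522
theorem D12377 : act 3 n8522 = n12377 := rfl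
theorem F54591 : act 4 n12377 = n12377 := d24_2 (iv F38390) D12377 (iv D12377) F38390 F27074
theorem F54593 : act 7 n12377 = n8593 := d27_2 (iv F38392) D12377 (iv D8593)
def n12378 : Q := act 9 n8522
theorem D12378 : act 9 n8522 = n12378 := rfl
theorem F54599 : act 8 n12378 = n8558 := d44_1 D12378 (iv D8558) (iv D5898) (iv F27068) D8522
def n12379 : Q := act 8 n8523
theorem D12379 : act 8 n8523 = n12379 := rfl
theorem F54600 : act 1 n12379 = n8531 := d15_1 D12379 (iv D8531) (iv F38393)
theorem F54604 : act 7 n12379 = n8524 := d42_1 D12379 (iv D8524) D8523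
def n12380 : Q := act 9 n8524
theorem D12380 : act 9 n8524 = n12380 := rfl
def n12387 : Q := act 9 n8529
theorem D12387 : act 9 n8529 = n12387 := rfl
theorem F54630 : act 3 n12387 = n8530 := d29_1 D12387 (iv D8530) D8529
theorem F54633 : act 7 n12387 = n8603 := d43_1 D12387 (iv D8603) (iv F38419)
def n12389 : Q := act 4 n8533
theorem D12389 : act 4 n8533 = n12389 := rfl
def n12396 : Q := act 8 n8535
theorem D12396 : act 8 n8535 = n12396 := rfl
theorem F54664 : act 0 n12396 = n8547 := d7_1 D12396 (iv D8547) (iv F38440)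
theorem F54666 : act 4 n12396 = n8537 := d33_1 D12396 (iv D8537) D8535
def n12397 : Q := act 7 n8536
theorem D12397 : act 7 n8536 = n12397 := rfl
theorem F54670 : act 2 n12397 = n8542 := d21_1 D12397 (iv D8542) (iv F38445)
def n12398 : Q := act 8 n8536
theorem D12398 : act 8 n8536 = n12398 := rfl
theorem F54675 : act 2 n12398 = n8543 := d22_1 D12398 (iv D8543) (iv F38445)
def n12399 : Q := act 3 n8537
theorem D12399 : act 3 n8537 = n12399 := rfl
def n12400 : Q := act 9 n8537
theorem D12400 : act 9 n8537 = n12400 := rfl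
def n12403 : Q := act 5 n8540
theorem D12403 : act 5 n8540 = n12403 := rfl
theorem F54698 : act 0 n12403 = n8554 := d4_1 D12403 (iv D8554) (iv F38462)
def n12405 : Q := act 8 n8540
theorem D12405 : act 8 n8540 = n12405 := rfl
theorem F54706 : act 0 n12405 = n8556 := d7_1 D12405 (iv D8556) (iv F38462)
theorem F54707 : act 4 n12405 = n8543 := d33_1 D12405 (iv D8543) (iv F38464)
def n12406 : Q := act 3 n8541
theorem D12406 : act 3 n8541 = n12406 := rfl
theorem F54709 : act 0 n12406 = n8557 := d2_1 D12406 (iv D8557) (iv F38465)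
theorem F54710 : act 4 n12406 = n8857 := d24_2 (iv F38466) D12406 (iv D8857) F27981 (iv F27128)
theorem F54712 : act 7 n12406 = n8622 := d27_2 (iv F38468) D12406 (iv D8622)
def n12407 : Q := act 9 n8541
theorem D12407 : act 9 n8541 = n12407 := rfl
def n12408 : Q := act 8 n8542
theorem D12408 : act 8 n8542 = n12408 := rfl
theorem F54719 : act 3 n12408 = n8859 := d28_1 D12408 (iv D8859) F27985 (iv F27141) (iv F38470)
def n12417 : Q := act 8 n8548
theorem D12417 : act 8 n8548 = n12417 := rfl
theorem F54749 : act 2 n12417 = n8559 := d22_1 D12417 (iv D8559) (iv F38491)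
def n12421 : Q := act 9 n8550
theorem D12421 : act 9 n8550 = n12421 := rfl
theorem F54764 : act 3 n12421 = n8551 := d29_1 D12421 (iv D8551) D8550
def n12423 : Q := act 9 n8552
theorem D12423 : act 9 n8552 = n12423 := rfl
theorem F54771 : act 2 n12423 = n8874 := d23_1 D12423 (iv D8874) (iv F38505)
theorem F54773 : act 4 n12423 = n8553 := d34_1 D12423 (iv D8553) D8552
def n12424 : Q := act 8 n8553
theorem D12424 : act 8 n8553 = n12424 := rfl
theorem F54776 : act 2 n12424 = n8875 := d22_1 D12424 (iv D8875) (iv F38510)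
def n12426 : Q := act 8 n8554
theorem D12426 : act 8 n8554 = n12426 := rfl
theorem F54784 : act 1 n12426 = n8562 := d15_1 D12426 (iv D8562) (iv F38514)
theorem F54786 : act 5 n12426 = n8556 := d37_1 D12426 (iv D8556) D8554
def n12427 : Q := act 8 n8555
theorem D12427 : act 8 n8555 = n12427 := rfl
theorem F54788 : act 1 n12427 = n8563 := d15_1 D12427 (iv D8563) (iv F38518)
theorem F54789 : act 4 n12427 = n8559 := d33_1 D12427 (iv D8559) (iv F38520)
def n12428 : Q := act 3 n8556
theorem D12428 : act 3 n8556 = n12428 := rfl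
theorem F54792 : act 1 n12428 = n8564 := d10_1 D12428 (iv D8564) (iv F38522)
theorem F54793 : act 4 n12428 = n8879 := d24_2 (iv F38523) D12428 (iv D8879) F28050 (iv F27171)
def n12430 : Q := act 2 n8557
theorem D12430 : act 2 n8557 = n12430 := rfl
theorem F54799 : act 4 n12430 = n8881 := d18_2 (iv F38526) D12430 (iv D8881)
def n12431 : Q := act 9 n8557
theorem D12431 : act 9 n8557 = n12431 := rfl
theorem F54804 : act 3 n12431 = n8558 := d29_1 D12431 (iv D8558) D8557
theorem F54805 : act 4 n12431 = n8882 := d34_1 D12431 (iv D8882) (iv F38526)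
theorem F54807 : act 7 n12431 = n8647 := d43_1 D12431 (iv D8647) (iv F38528)
def n12435 : Q := act 3 n8562
theorem D12435 : act 3 n8562 = n12435 := rfl
theorem F54820 : act 5 n12435 = n8564 := d25_2 (iv F38547) D12435 (iv D8564)
def n12437 : Q := act 3 n8563
theorem D12437 : act 3 n8563 = n12437 := rfl
theorem F54827 : act 6 n12437 = n8653 := d26_2 (iv F38550) D12437 (iv D8653)
theorem F54828 : act 7 n12437 = n8564 := d27_2 (iv F38551) D12437 (iv D8564)
def n12438 : Q := act 9 n8563
theorem D12438 : act 9 n8563 = n12438 := rfl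
theorem F54830 : act 4 n12438 = n8568 := d34_1 D12438 (iv D8568) (iv F38549)
def n12439 : Q := act 2 n8564
theorem D12439 : act 2 n8564 = n12439 := rfl
theorem F54833 : act 4 n12439 = n8889 := d18_2 (iv F38552) D12439 (iv D8889)
theorem F54834 : act 6 n12439 = n8566 := d20_2 (iv F38553) D12439 (iv D8566)
def n12440 : Q := act 9 n8564
theorem D12440 : act 9 n8564 = n12440 := rfl
theorem F54836 : act 3 n12440 = n8565 := d29_1 D12440 (iv D8565) D8564
theorem F54837 : act 4 n12440 = n8890 := d34_1 D12440 (iv D8890) (iv F38552)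
def n12441 : Q := act 1 n8566
theorem D12441 : act 1 n8566 = n12441 := rfl
def n12442 : Q := act 9 n8566
theorem D12442 : act 9 n8566 = n12442 := rfl
theorem F54844 : act 4 n12442 = n8892 := d34_1 D12442 (iv D8892) (iv F38557)
theorem F54846 : act 7 n12442 = n8658 := d43_1 D12442 (iv D8658) (iv F38559)
def n12443 : Q := act 8 n8567
theorem D12443 : act 8 n8567 = n12443 := rfl
theorem F54847 : act 4 n12443 = n8893 := d33_1 D12443 (iv D8893) (iv F38562)
theorem F54849 : act 7 n12443 = n8659 := d42_1 D12443 (iv D8659) (iv F38564)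
def n12444 : Q := act 4 n8569
theorem D12444 : act 4 n8569 = n12444 := rfl
theorem F54853 : act 9 n12444 = n8605 := d34_2 (iv F38571) D12444 (iv D8605)
def n12445 : Q := act 6 n8569
theorem D12445 : act 6 n8569 = n12445 := rfl
theorem F54856 : act 5 n12445 = n8661 := d35_1 D12445 (iv D8661) (iv D5970) (iv F27202) D8569
theorem F54857 : act 9 n12445 = n8606 := d41_2 (iv F38571) D12445 (iv D8606)
def n12446 : Q := act 8 n8569
theorem D12446 : act 8 n8569 = n12446 := rfl
def n12447 : Q := act 3 n8570
theorem D12447 : act 3 n8570 = n12447 := rfl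
def n12452 : Q := act 7 n8572
theorem D12452 : act 7 n8572 = n12452 := rfl
theorem F54880 : act 0 n12452 = n8584 := d6_1 D12452 (iv D8584) (iv F38579)
theorem F54881 : act 2 n12452 = n8578 := d21_1 D12452 (iv D8578) (iv F38580)
theorem F54884 : act 9 n12452 = n8613 := d43_2 (iv F38583) D12452 (iv D8613)
def n12453 : Q := act 8 n8572
theorem D12453 : act 8 n8572 = n12453 := rfl
theorem F54887 : act 5 n12453 = n8669 := d37_1 D12453 (iv D8669) (iv F38582)
theorem F54888 : act 6 n12453 = n8573 := d40_1 D12453 (iv D8573) D8572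
def n12454 : Q := act 3 n8573
theorem D12454 : act 3 n8573 = n12454 := rfl
def n12455 : Q := act 9 n8573
theorem D12455 : act 9 n8573 = n12455 := rfl
theorem F54894 : act 2 n12455 = n8580 := d23_1 D12455 (iv D8580) (iv F38585)
def n12460 : Q := act 8 n8576
theorem D12460 : act 8 n8576 = n12460 := rfl
theorem F54917 : act 6 n12460 = n8577 := d40_1 D12460 (iv D8577) D8576
def n12461 : Q := act 3 n8577
theorem D12461 : act 3 n8577 = n12461 := rfl
def n12462 : Q := act 9 n8577
theorem D12462 : act 9 n8577 = n12462 := rfl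
theorem F54923 : act 4 n12462 = n8580 := d34_1 D12462 (iv D8580) (iv F38601)
def n12463 : Q := act 8 n8578
theorem D12463 : act 8 n8578 = n12463 := rfl
theorem F54926 : act 0 n12463 = n8595 := d7_1 D12463 (iv D8595) (iv F38603)
theorem F54928 : act 5 n12463 = n8679 := d37_1 D12463 (iv D8679) (iv F38605)
def n12472 : Q := act 8 n8584
theorem D12472 : act 8 n8584 = n12472 := rfl
theorem F54957 : act 2 n12472 = n8595 := d22_1 D12472 (iv D8595) (iv F38625)
def n12473 : Q := act 3 n8585
theorem D12473 : act 3 n8585 = n12473 := rfl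
theorem F54961 : act 5 n12473 = n8689 := d25_2 (iv F38630) D12473 (iv D8689)
theorem F54962 : act 6 n12473 = n8586 := d26_2 (iv F38631) D12473 (iv D8586)
def n12474 : Q := act 9 n8585
theorem D12474 : act 9 n8585 = n12474 := rfl
theorem F54964 : act 2 n12474 = n8596 := d23_1 D12474 (iv D8596) (iv F38629)
def n12475 : Q := act 4 n8586
theorem D12475 : act 4 n8586 = n12475 := rfl
def n12476 : Q := act 9 n8586
theorem D12476 : act 9 n8586 = n12476 := rfl
theorem F54971 : act 3 n12476 = n8587 := d29_1 D12476 (iv D8587) D8586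
def n12479 : Q := act 8 n8589
theorem D12479 : act 8 n8589 = n12479 := rfl
theorem F54982 : act 6 n12479 = n8695 := d40_1 D12479 (iv D8695) (iv F38644)
def n12481 : Q := act 8 n8590
theorem D12481 : act 8 n8590 = n12481 := rfl
theorem F54991 : act 5 n12481 = n8592 := d37_1 D12481 (iv D8592) D8590
def n12483 : Q := act 3 n8592
theorem D12483 : act 3 n8592 = n12483 := rfl
theorem F54998 : act 6 n12483 = n8593 := d26_2 (iv F38656) D12483 (iv D8593)
def n12484 : Q := act 9 n8592
theorem D12484 : act 9 n8592 = n12484 := rfl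
theorem F55002 : act 6 n12484 = n8594 := d41_1 D12484 (iv D8594) (iv F38656)
def n12486 : Q := act 9 n8593
theorem D12486 : act 9 n8593 = n12486 := rfl
theorem F55008 : act 3 n12486 = n8594 := d29_1 D12486 (iv D8594) D8593
def n12487 : Q := act 9 n8595
theorem D12487 : act 9 n8595 = n12487 := rfl
theorem F55013 : act 5 n12487 = n8703 := d38_1 D12487 (iv D8703) (iv F38667)
def n12490 : Q := act 3 n8598
theorem D12490 : act 3 n8598 = n12490 := rfl
theorem F55023 : act 5 n12490 = n8600 := d25_2 (iv F38679) D12490 (iv D8600)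
def n12491 : Q := act 9 n8598
theorem D12491 : act 9 n8598 = n12491 := rfl
theorem F55029 : act 8 n12491 = n8652 := d44_1 D12491 (iv D8652) (iv D5963) (iv F27272) D8598
def n12493 : Q := act 9 n8599
theorem D12493 : act 9 n8599 = n12493 := rfl
theorem F55033 : act 4 n12493 = n8604 := d34_1 D12493 (iv D8604) (iv F38681)
def n12495 : Q := act 9 n8600
theorem D12495 : act 9 n8600 = n12495 := rfl
theorem F55039 : act 3 n12495 = n8601 := d29_1 D12495 (iv D8601) D8600
theorem F55041 : act 6 n12495 = n8603 := d41_1 D12495 (iv D8603) (iv F38684)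
def n12498 : Q := act 8 n8603
theorem D12498 : act 8 n8603 = n12498 := rfl
def n12499 : Q := act 3 n8605
theorem D12499 : act 3 n8605 = n12499 := rfl
def n12500 : Q := act 6 n8605
theorem D12500 : act 6 n8605 = n12500 := rfl
theorem F55056 : act 4 n12500 = n8606 := d31_1 D12500 (iv D8606) D8605
def n12501 : Q := act 8 n8605
theorem D12501 : act 8 n8605 = n12501 := rfl
def n12502 : Q := act 7 n8606
theorem D12502 : act 7 n8606 = n12502 := rfl
theorem F55062 : act 5 n12502 = n8717 := d36_1 D12502 (iv D8717) (iv F38703)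
def n12503 : Q := act 8 n8606
theorem D12503 : act 8 n8606 = n12503 := rfl
def n12511 : Q := act 5 n8611
theorem D12511 : act 5 n8611 = n12511 := rfl
theorem F55089 : act 0 n12511 = n8628 := d4_1 D12511 (iv D8628) (iv F38716)
theorem F55091 : act 4 n12511 = n8726 := d30_1 D12511 (iv D8726) F27563 (iv F27302) (iv F38718)
def n12513 : Q := act 8 n8611
theorem D12513 : act 8 n8611 = n12513 := rfl
theorem F55096 : act 0 n12513 = n8630 := d7_1 D12513 (iv D8630) (iv F38716)
theorem F55099 : act 6 n12513 = n8612 := d40_1 D12513 (iv D8612) D8611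
def n12515 : Q := act 9 n8612
theorem D12515 : act 9 n8612 = n12515 := rfl
theorem F55103 : act 2 n12515 = n8623 := d23_1 D12515 (iv D8623) (iv F38720)
def n12516 : Q := act 8 n8613
theorem D12516 : act 8 n8613 = n12516 := rfl
theorem F55107 : act 2 n12516 = n8624 := d22_1 D12516 (iv D8624) (iv F38724)
def n12524 : Q := act 7 n8619
theorem D12524 : act 7 n8619 = n12524 := rfl
theorem F55139 : act 0 n12524 = n8641 := d6_1 D12524 (iv D8641) (iv F38747)
theorem F55141 : act 4 n12524 = n8739 := d32_1 D12524 (iv D8739) (iv F38749)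
def n12525 : Q := act 8 n8619
theorem D12525 : act 8 n8619 = n12525 := rfl
theorem F55143 : act 0 n12525 = n8642 := d7_1 D12525 (iv D8642) (iv F38747)
theorem F55145 : act 5 n12525 = n8621 := d37_1 D12525 (iv D8621) D8619
def n12527 : Q := act 3 n8621
theorem D12527 : act 3 n8621 = n12527 := rfl
theorem F55151 : act 4 n12527 = n8919 := d24_2 (iv F38755) D12527 (iv D8919) F28165 (iv F27324)
theorem F55152 : act 6 n12527 = n8622 := d26_2 (iv F38756) D12527 (iv D8622)
def n12528 : Q := act 9 n8621
theorem D12528 : act 9 n8621 = n12528 := rfl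
def n12530 : Q := act 9 n8622
theorem D12530 : act 9 n8622 = n12530 := rfl
theorem F55162 : act 3 n12530 = n8623 := d29_1 D12530 (iv D8623) D8622
def n12541 : Q := act 9 n8630
theorem D12541 : act 9 n8630 = n12541 := rfl
theorem F55196 : act 6 n12541 = n8632 := d41_1 D12541 (iv D8632) (iv F38785)
def n12557 : Q := act 3 n8642
theorem D12557 : act 3 n8642 = n12557 := rfl
theorem F55245 : act 5 n12557 = n8644 := d25_2 (iv F38821) D12557 (iv D8644)
def n12558 : Q := act 9 n8642
theorem D12558 : act 9 n8642 = n12558 := rfl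
def n12559 : Q := act 3 n8643
theorem D12559 : act 3 n8643 = n12559 := rfl
theorem F55252 : act 1 n12559 = n8653 := d10_1 D12559 (iv D8653) (iv F38823)
theorem F55253 : act 4 n12559 = n8944 := d24_2 (iv F38824) D12559 (iv D8944) F28239 (iv F27374)
def n12562 : Q := act 9 n8644
theorem D12562 : act 9 n8644 = n12562 := rfl
theorem F55263 : act 3 n12562 = n8645 := d29_1 D12562 (iv D8645) D8644
theorem F55265 : act 6 n12562 = n8647 := d41_1 D12562 (iv D8647) (iv F38828)
def n12563 : Q := act 1 n8646
theorem D12563 : act 1 n8646 = n12563 := rfl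
theorem F55266 : act 2 n12563 = n8657 := d9_2 D8646 D12563 (iv D8657) (iv D5967) (iv F27366)
def n12565 : Q := act 8 n8647
theorem D12565 : act 8 n8647 = n12565 := rfl
def n12567 : Q := act 3 n8650
theorem D12567 : act 3 n8650 = n12567 := rfl
theorem F55281 : act 5 n12567 = n8653 := d25_2 (iv F38848) D12567 (iv D8653)
def n12569 : Q := act 2 n8651
theorem D12569 : act 2 n8651 = n12569 := rfl
theorem F55288 : act 5 n12569 = n8655 := d19_2 (iv F38851) D12569 (iv D8655)
def n12570 : Q := act 9 n8651
theorem D12570 : act 9 n8651 = n12570 := rfl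
theorem F55291 : act 3 n12570 = n8652 := d29_1 D12570 (iv D8652) D8651
theorem F55293 : act 5 n12570 = n8656 := d38_1 D12570 (iv D8656) (iv F38851)
def n12571 : Q := act 2 n8653
theorem D12571 : act 2 n8653 = n12571 := rfl
theorem F55296 : act 7 n12571 = n8655 := d21_2 (iv F38858) D12571 (iv D8655)
def n12572 : Q := act 9 n8653
theorem D12572 : act 9 n8653 = n12572 := rfl
theorem F55298 : act 3 n12572 = n8654 := d29_1 D12572 (iv D8654) D8653
def n12574 : Q := act 9 n8655
theorem D12574 : act 9 n8655 = n12574 := rfl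
theorem F55306 : act 6 n12574 = n8658 := d41_1 D12574 (iv D8658) (iv F38863)
def n12575 : Q := act 8 n8656
theorem D12575 : act 8 n8656 = n12575 := rfl
theorem F55308 : act 6 n12575 = n8659 := d40_1 D12575 (iv D8659) (iv F38867)
def n12578 : Q := act 8 n8658
theorem D12578 : act 8 n8658 = n12578 := rfl
def n12579 : Q := act 3 n8660
theorem D12579 : act 3 n8660 = n12579 := rfl
theorem F55320 : act 1 n12579 = n8665 := d10_1 D12579 (iv D8665) (iv F38877)
theorem F55324 : act 9 n12579 = n8714 := d29_2 (iv F38880) D12579 (iv D8714)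
def n12580 : Q := act 6 n8660
theorem D12580 : act 6 n8660 = n12580 := rfl
theorem F55326 : act 4 n12580 = n8661 := d31_1 D12580 (iv D8661) D8660
theorem F55327 : act 9 n12580 = n8715 := d41_2 (iv F38880) D12580 (iv D8715)
def n12581 : Q := act 8 n8660
theorem D12581 : act 8 n8660 = n12581 := rfl
theorem F55329 : act 4 n12581 = n8662 := d33_1 D12581 (iv D8662) D8660
def n12583 : Q := act 8 n8661
theorem D12583 : act 8 n8661 = n12583 := rfl
def n12589 : Q := act 6 n8665
theorem D12589 : act 6 n8665 = n12589 := rfl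
theorem F55357 : act 2 n12589 = n8780 := d20_1 D12589 (iv D8780) (iv F38895)
theorem F55358 : act 3 n12589 = n8666 := d26_1 D12589 (iv D8666) D8665
theorem F55360 : act 9 n12589 = n8724 := d41_2 (iv F38899) D12589 (iv D8724)
def n12590 : Q := act 8 n8665
theorem D12590 : act 8 n8665 = n12590 := rfl
theorem F55362 : act 2 n12590 = n8781 := d22_1 D12590 (iv D8781) (iv F38895)
def n12592 : Q := act 7 n8666
theorem D12592 : act 7 n8666 = n12592 := rfl
theorem F55371 : act 2 n12592 = n8675 := d21_1 D12592 (iv D8675) (iv F38901)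
theorem F55372 : act 4 n12592 = n8668 := d32_1 D12592 (iv D8668) (iv F38902)
theorem F55374 : act 9 n12592 = n8727 := d43_2 (iv F38903) D12592 (iv D8727)
def n12593 : Q := act 8 n8666
theorem D12593 : act 8 n8666 = n12593 := rfl
theorem F55375 : act 0 n12593 = n8685 := d7_1 D12593 (iv D8685) (iv F38900)
theorem F55377 : act 4 n12593 = n8669 := d33_1 D12593 (iv D8669) (iv F38902)
def n12594 : Q := act 3 n8667
theorem D12594 : act 3 n8667 = n12594 := rfl
theorem F55379 : act 0 n12594 = n8686 := d2_1 D12594 (iv D8686) (iv F38904)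
def n12595 : Q := act 9 n8667
theorem D12595 : act 9 n8667 = n12595 := rfl
theorem F55382 : act 0 n12595 = n8687 := d8_1 D12595 (iv D8687) (iv F38904)
theorem F55384 : act 4 n12595 = n8671 := d34_1 D12595 (iv D8671) (iv F38906)
def n12596 : Q := act 8 n8668
theorem D12596 : act 8 n8668 = n12596 := rfl
theorem F55388 : act 0 n12596 = n8688 := d7_1 D12596 (iv D8688) (iv F38909)
theorem F55389 : act 2 n12596 = n8679 := d22_1 D12596 (iv D8679) (iv F38910)
def n12597 : Q := act 3 n8669
theorem D12597 : act 3 n8669 = n12597 := rfl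
def n12598 : Q := act 9 n8669
theorem D12598 : act 9 n8669 = n12598 := rfl
theorem F55397 : act 2 n12598 = n8680 := d23_1 D12598 (iv D8680) (iv F38915)
def n12607 : Q := act 3 n8676
theorem D12607 : act 3 n8676 = n12607 := rfl
theorem F55435 : act 0 n12607 = n8699 := d2_1 D12607 (iv D8699) (iv F38945)
theorem F55438 : act 8 n12607 = n8793 := d28_2 D8676 D12607 (iv D8793) (iv D6063) (iv F27433)
def n12608 : Q := act 9 n8676
theorem D12608 : act 9 n8676 = n12608 := rfl
theorem F55440 : act 4 n12608 = n8680 := d34_1 D12608 (iv D8680) (iv F38946)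
def n12609 : Q := act 2 n8677
theorem D12609 : act 2 n8677 = n12609 := rfl
theorem F55443 : act 0 n12609 = n8701 := d1_1 D12609 (iv D8701) (iv F38948)
theorem F55447 : act 8 n12609 = n8794 := d22_2 (iv F38952) D12609 (iv D8794)
def n12610 : Q := act 9 n8677
theorem D12610 : act 9 n8677 = n12610 := rfl
theorem F55448 : act 0 n12610 = n8702 := d8_1 D12610 (iv D8702) (iv F38948)
theorem F55449 : act 3 n12610 = n8678 := d29_1 D12610 (iv D8678) D8677
def n12611 : Q := act 9 n8679
theorem D12611 : act 9 n8679 = n12611 := rfl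
def n12613 : Q := act 7 n8681
theorem D12613 : act 7 n8681 = n12613 := rfl
theorem F55463 : act 2 n12613 = n8796 := d21_1 D12613 (iv D8796) (iv F38966)
theorem F55464 : act 3 n12613 = n8684 := d27_1 D12613 (iv D8684) (iv F38967)
def n12614 : Q := act 8 n8681
theorem D12614 : act 8 n8681 = n12614 := rfl
theorem F55468 : act 2 n12614 = n8797 := d22_1 D12614 (iv D8797) (iv F38966)
def n12615 : Q := act 3 n8682
theorem D12615 : act 3 n8682 = n12615 := rfl
theorem F55473 : act 8 n12615 = n8686 := d28_2 D8682 D12615 (iv D8686) (iv D5984) D5982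
def n12620 : Q := act 3 n8685
theorem D12620 : act 3 n8685 = n12620 := rfl
def n12621 : Q := act 9 n8685
theorem D12621 : act 9 n8685 = n12621 := rfl
theorem F55491 : act 4 n12621 = n8690 := d34_1 D12621 (iv D8690) (iv F38982)
def n12624 : Q := act 9 n8686
theorem D12624 : act 9 n8686 = n12624 := rfl
def n12626 : Q := act 9 n8688
theorem D12626 : act 9 n8688 = n12626 := rfl
theorem F55506 : act 2 n12626 = n8703 := d23_1 D12626 (iv D8703) (iv F38991)
def n12628 : Q := act 9 n8689
theorem D12628 : act 9 n8689 = n12628 := rfl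
theorem F55514 : act 3 n12628 = n8690 := d29_1 D12628 (iv D8690) D8689
def n12631 : Q := act 8 n8692
theorem D12631 : act 8 n8692 = n12631 := rfl
theorem F55525 : act 5 n12631 = n8695 := d37_1 D12631 (iv D8695) (iv F39005)
def n12637 : Q := act 3 n8697
theorem D12637 : act 3 n8697 = n12637 := rfl
theorem F55548 : act 5 n12637 = n8699 := d25_2 (iv F39024) D12637 (iv D8699)
theorem F55550 : act 8 n12637 = n8812 := d28_2 D8697 D12637 (iv D8812) (iv D6077) (iv F27486)
def n12639 : Q := act 3 n8698
theorem D12639 : act 3 n8698 = n12639 := rfl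
theorem F55558 : act 7 n12639 = n8699 := d27_2 (iv F39029) D12639 (iv D8699)
theorem F55559 : act 8 n12639 = n8813 := d28_2 D8698 D12639 (iv D8813) (iv D6078) (iv F27490)
def n12641 : Q := act 2 n8699
theorem D12641 : act 2 n8699 = n12641 := rfl
theorem F55567 : act 8 n12641 = n8814 := d22_2 (iv F39033) D12641 (iv D8814)
def n12642 : Q := act 9 n8699
theorem D12642 : act 9 n8699 = n12642 := rfl
theorem F55568 : act 1 n12642 = n8711 := d16_1 D12642 (iv D8711) (iv F39030)
theorem F55569 : act 3 n12642 = n8700 := d29_1 D12642 (iv D8700) D8699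
def n12643 : Q := act 1 n8701
theorem D12643 : act 1 n8701 = n12643 := rfl
theorem F55573 : act 2 n12643 = n8712 := d9_2 D8701 D12643 (iv D8712) (iv D6003) (iv F27497)
def n12644 : Q := act 9 n8701
theorem D12644 : act 9 n8701 = n12644 := rfl
def n12647 : Q := act 9 n8705
theorem D12647 : act 9 n8705 = n12647 := rfl
theorem F55589 : act 5 n12647 = n8709 := d38_1 D12647 (iv D8709) (iv F39057)
def n12648 : Q := act 2 n8706
theorem D12648 : act 2 n8706 = n12648 := rfl
theorem F55594 : act 8 n12648 = n8818 := d22_2 (iv F39061) D12648 (iv D8818)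
def n12649 : Q := act 4 n8706
theorem D12649 : act 4 n8706 = n12649 := rfl
def n12650 : Q := act 9 n8706
theorem D12650 : act 9 n8706 = n12650 := rfl
theorem F55598 : act 3 n12650 = n8707 := d29_1 D12650 (iv D8707) D8706
def n12651 : Q := act 2 n8708
theorem D12651 : act 2 n8708 = n12651 := rfl
theorem F55605 : act 8 n12651 = n8820 := d22_2 (iv F39068) D12651 (iv D8820)
def n12653 : Q := act 1 n8710
theorem D12653 : act 1 n8710 = n12653 := rfl
theorem F55613 : act 8 n12653 = n8821 := d15_2 (iv F39075) D12653 (iv D8821)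
def n12654 : Q := act 9 n8710
theorem D12654 : act 9 n8710 = n12654 := rfl
theorem F55614 : act 2 n12654 = n8711 := d23_1 D12654 (iv D8711) D8710
def n12656 : Q := act 9 n8712
theorem D12656 : act 9 n8712 = n12656 := rfl
def n12657 : Q := act 2 n8714
theorem D12657 : act 2 n8714 = n12657 := rfl
theorem F55627 : act 1 n12657 = n8823 := d9_1 D12657 (iv D8823) F27880 (iv F27557) (iv F39089)
def n12658 : Q := act 6 n8714
theorem D12658 : act 6 n8714 = n12658 := rfl
theorem F55632 : act 3 n12658 = n8715 := d26_1 D12658 (iv D8715) D8714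
def n12660 : Q := act 5 n8715
theorem D12660 : act 5 n8715 = n12660 := rfl
def n12662 : Q := act 8 n8715
theorem D12662 : act 8 n8715 = n12662 := rfl
def n12676 : Q := act 5 n8724
theorem D12676 : act 5 n8724 = n12676 := rfl
theorem F55691 : act 2 n12676 = n8828 := d19_1 D12676 (iv D8828) (iv F39122)
theorem F55692 : act 3 n12676 = n8726 := d25_1 D12676 (iv D8726) (iv F39123)
def n12736 : Q := act 2 n8772
theorem D12736 : act 2 n8772 = n12736 := rfl
theorem F55920 : act 0 n12736 = n12736 := d1_1 D12736 (iv D12736) F39302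
theorem F55921 : act 4 n12736 = n12736 := d18_2 F39304 D12736 (iv D12736)
theorem F55922 : act 5 n12736 = n12736 := d19_2 F39305 D12736 (iv D12736)
theorem F55923 : act 7 n12736 = n12736 := d21_2 F39306 D12736 (iv D12736)
theorem F55924 : act 9 n12736 = n8823 := d23_2 (iv F39307) D12736 (iv D8823)
def n12737 : Q := act 6 n8772
theorem D12737 : act 6 n8772 = n12737 := rfl
theorem F55925 : act 0 n12737 = n12737 := d5_1 D12737 (iv D12737) F39302
theorem F55926 : act 1 n12737 = n8780 := d13_1 D12737 (iv D8780) (iv F39303)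
theorem F55927 : act 3 n12737 = n8773 := d26_1 D12737 (iv D8773) D8772
theorem F55928 : act 4 n12737 = n12737 := d31_1 D12737 (iv D12737) F39304
theorem F55929 : act 9 n12737 = n8824 := d41_2 (iv F39307) D12737 (iv D8824)
def n12738 : Q := act 8 n8772
theorem D12738 : act 8 n8772 = n12738 := rfl
theorem F55931 : act 1 n12738 = n8781 := d15_1 D12738 (iv D8781) (iv F39303)
def n12739 : Q := act 5 n8773
theorem D12739 : act 5 n8773 = n12739 := rfl
theorem F55935 : act 0 n12739 = n12739 := d4_1 D12739 (iv D12739) F39308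
theorem F55936 : act 1 n12739 = n8782 := d12_1 D12739 (iv D8782) (iv F39309)
theorem F55937 : act 4 n12739 = n12739 := d30_1 D12739 (iv D12739) F39310 F27706 (iv F39310)
theorem F55938 : act 6 n12739 = n12739 := d35_2 D8773 D12739 (iv D12739) (iv D8773) F27700
theorem F55939 : act 9 n12739 = n8826 := d38_2 (iv F39311) D12739 (iv D8826)
def n12740 : Q := act 7 n8773
theorem D12740 : act 7 n8773 = n12740 := rfl
theorem F55940 : act 0 n12740 = n12740 := d6_1 D12740 (iv D12740) F39308
theorem F55941 : act 1 n12740 = n8783 := d14_1 D12740 (iv D8783) (iv F39309)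
theorem F55942 : act 4 n12740 = n8775 := d32_1 D12740 (iv D8775) (iv F39310)
theorem F55943 : act 6 n12740 = n12740 := d39_1 D12740 (iv D12740) (iv D8773) F27701 D8773
theorem F55944 : act 9 n12740 = n8827 := d43_2 (iv F39311) D12740 (iv D8827)
def n12741 : Q := act 8 n8773
theorem D12741 : act 8 n8773 = n12741 := rfl
theorem F55946 : act 1 n12741 = n8784 := d15_1 D12741 (iv D8784) (iv F39309)
theorem F55947 : act 4 n12741 = n8776 := d33_1 D12741 (iv D8776) (iv F39310)
def n12743 : Q := act 8 n8775
theorem D12743 : act 8 n8775 = n12743 := rfl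
theorem F55956 : act 1 n12743 = n8786 := d15_1 D12743 (iv D8786) (iv F39319)
def n12750 : Q := act 7 n8780
theorem D12750 : act 7 n8780 = n12750 := rfl
theorem F55996 : act 3 n12750 = n8783 := d27_1 D12750 (iv D8783) (iv F39349)
theorem F55999 : act 9 n12750 = n8829 := d43_2 (iv F39351) D12750 (iv D8829)
def n12751 : Q := act 8 n8780
theorem D12751 : act 8 n8780 = n12751 := rfl
def n12754 : Q := act 7 n8782
theorem D12754 : act 7 n8782 = n12754 := rfl
theorem F56015 : act 5 n12754 = n8783 := d36_1 D12754 (iv D8783) D8782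
def n12755 : Q := act 8 n8782
theorem D12755 : act 8 n8782 = n12755 := rfl
theorem F56017 : act 0 n12755 = n8801 := d7_1 D12755 (iv D8801) (iv F39356)
theorem F56020 : act 5 n12755 = n8784 := d37_1 D12755 (iv D8784) D8782
def n12756 : Q := act 8 n8783
theorem D12756 : act 8 n8783 = n12756 := rfl
theorem F56023 : act 0 n12756 = n8802 := d7_1 D12756 (iv D8802) (iv F39361)
theorem F56025 : act 4 n12756 = n8786 := d33_1 D12756 (iv D8786) (iv F39363)
theorem F56027 : act 7 n12756 = n8784 := d42_1 D12756 (iv D8784) D8783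
def n12757 : Q := act 3 n8784
theorem D12757 : act 3 n8784 = n12757 := rfl
def n12758 : Q := act 2 n8785
theorem D12758 : act 2 n8785 = n12758 := rfl
theorem F56033 : act 3 n12758 = n8794 := d17_2 D8785 D12758 (iv D8794) (iv D6064) (iv F27729)
def n12760 : Q := act 3 n8786
theorem D12760 : act 3 n8786 = n12760 := rfl
theorem F56041 : act 0 n12760 = n8806 := d2_1 D12760 (iv D8806) (iv F39375)
def n12768 : Q := act 2 n8793
theorem D12768 : act 2 n8793 = n12768 := rfl
def n12781 : Q := act 3 n8801
theorem D12781 : act 3 n8801 = n12781 := rfl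
def n12782 : Q := act 3 n8802
theorem D12782 : act 3 n8802 = n12782 := rfl
def n12783 : Q := act 2 n8803
theorem D12783 : act 2 n8803 = n12783 := rfl
theorem F56147 : act 3 n12783 = n8814 := d17_2 D8803 D12783 (iv D8814) (iv D6079) (iv F27800)
def n12784 : Q := act 4 n8803
theorem D12784 : act 4 n8803 = n12784 := rfl
theorem F56151 : act 3 n12784 = n8807 := d24_1 D12784 (iv D8807) (iv D6073) (iv F27801) D8803
def n12788 : Q := act 4 n8806
theorem D12788 : act 4 n8806 = n12788 := rfl
def n12794 : Q := act 2 n8812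
theorem D12794 : act 2 n8812 = n12794 := rfl
def n12796 : Q := act 2 n8813
theorem D12796 : act 2 n8813 = n12796 := rfl
def n12806 : Q := act 6 n8823
theorem D12806 : act 6 n8823 = n12806 := rfl
theorem F56251 : act 0 n12806 = n12806 := d5_1 D12806 (iv D12806) F39552
theorem F56252 : act 2 n12806 = n8824 := d20_1 D12806 (iv D8824) D8823
theorem F56253 : act 4 n12806 = n12806 := d31_1 D12806 (iv D12806) F39553
def n12807 : Q := act 8 n8823
theorem D12807 : act 8 n8823 = n12807 := rfl
def n12808 : Q := act 5 n8824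
theorem D12808 : act 5 n8824 = n12808 := rfl
theorem F56260 : act 1 n12808 = n8828 := d12_1 D12808 (iv D8828) (iv F39557)
def n12809 : Q := act 7 n8824
theorem D12809 : act 7 n8824 = n12809 := rfl
theorem F56265 : act 3 n12809 = n8827 := d27_1 D12809 (iv D8827) (iv F39558)
def n12810 : Q := act 8 n8824
theorem D12810 : act 8 n8824 = n12810 := rfl
def n12812 : Q := act 7 n8826
theorem D12812 : act 7 n8826 = n12812 := rfl
theorem F56280 : act 1 n12812 = n8832 := d14_1 D12812 (iv D8832) (iv F39567)
theorem F56282 : act 5 n12812 = n8827 := d36_1 D12812 (iv D8827) D8826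
def n12826 : Q := act 6 n8840
theorem D12826 : act 6 n8840 = n12826 := rfl
theorem F56343 : act 4 n12826 = n8841 := d31_1 D12826 (iv D8841) D8840
def n12827 : Q := act 8 n8840
theorem D12827 : act 8 n8840 = n12827 := rfl
theorem F56347 : act 4 n12827 = n8842 := d33_1 D12827 (iv D8842) D8840
theorem F56348 : act 5 n12827 = n8994 := d37_1 D12827 (iv D8994) (iv F39630)
theorem F56349 : act 7 n12827 = n8896 := d42_1 D12827 (iv D8896) (iv F39631)
def n12829 : Q := act 8 n8841
theorem D12829 : act 8 n8841 = n12829 := rfl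
def n12831 : Q := act 9 n8842
theorem D12831 : act 9 n8842 = n12831 := rfl
def n12837 : Q := act 5 n8846
theorem D12837 : act 5 n8846 = n12837 := rfl
theorem F56398 : act 6 n12837 = n9003 := d35_2 D8846 D12837 (iv D9003) (iv D6216) (iv F27954)
def n12840 : Q := act 3 n8847
theorem D12840 : act 3 n8847 = n12840 := rfl
theorem F56410 : act 5 n12840 = n9005 := d25_2 (iv F39666) D12840 (iv D9005)
def n12842 : Q := act 8 n8848
theorem D12842 : act 8 n8848 = n12842 := rfl
theorem F56419 : act 2 n12842 = n8859 := d22_1 D12842 (iv D8859) (iv F39669)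
def n12843 : Q := act 3 n8849
theorem D12843 : act 3 n8849 = n12843 := rfl
def n12851 : Q := act 8 n8854
theorem D12851 : act 8 n8854 = n12851 := rfl
theorem F56461 : act 5 n12851 = n8856 := d37_1 D12851 (iv D8856) D8854
theorem F56462 : act 6 n12851 = n9014 := d40_1 D12851 (iv D9014) (iv F39699)
def n12853 : Q := act 3 n8856
theorem D12853 : act 3 n8856 = n12853 := rfl
def n12855 : Q := act 2 n8857
theorem D12855 : act 2 n8857 = n12855 := rfl
def n12856 : Q := act 9 n8857
theorem D12856 : act 9 n8857 = n12856 := rfl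
theorem F56480 : act 5 n12856 = n9018 := d38_1 D12856 (iv D9018) (iv F39710)
def n12864 : Q := act 8 n8863
theorem D12864 : act 8 n8863 = n12864 := rfl
theorem F56521 : act 5 n12864 = n8865 := d37_1 D12864 (iv D8865) D8863
theorem F56522 : act 6 n12864 = n9023 := d40_1 D12864 (iv D9023) (iv F39739)
def n12866 : Q := act 3 n8865
theorem D12866 : act 3 n8865 = n12866 := rfl
def n12868 : Q := act 2 n8866
theorem D12868 : act 2 n8866 = n12868 := rfl
theorem F56535 : act 3 n12868 = n8881 := d17_2 D8866 D12868 (iv D8881) (iv D6125) (iv F28007)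
def n12880 : Q := act 8 n8874
theorem D12880 : act 8 n8874 = n12880 := rfl
def n12882 : Q := act 3 n8877
theorem D12882 : act 3 n8877 = n12882 := rfl
theorem F56594 : act 5 n12882 = n8879 := d25_2 (iv F39802) D12882 (iv D8879)
theorem F56595 : act 6 n12882 = n9037 := d26_2 (iv F39803) D12882 (iv D9037)
def n12884 : Q := act 3 n8878
theorem D12884 : act 3 n8878 = n12884 := rfl
theorem F56604 : act 7 n12884 = n8879 := d27_2 (iv F39807) D12884 (iv D8879)
def n12887 : Q := act 9 n8879
theorem D12887 : act 9 n8879 = n12887 := rfl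
def n12890 : Q := act 8 n8882
theorem D12890 : act 8 n8882 = n12890 := rfl
theorem F56625 : act 5 n12890 = n9043 := d37_1 D12890 (iv D9043) (iv F39820)
def n12893 : Q := act 2 n8885
theorem D12893 : act 2 n8885 = n12893 := rfl
theorem F56639 : act 5 n12893 = n8889 := d19_2 (iv F39832) D12893 (iv D8889)
theorem F56640 : act 6 n12893 = n9044 := d20_2 (iv F39833) D12893 (iv D9044)
def n12894 : Q := act 4 n8885
theorem D12894 : act 4 n8885 = n12894 := rfl
theorem F56643 : act 6 n12894 = n9045 := d31_2 (iv F39833) D12894 (iv D9045)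
def n12895 : Q := act 9 n8885
theorem D12895 : act 9 n8885 = n12895 := rfl
theorem F56646 : act 5 n12895 = n8890 := d38_1 D12895 (iv D8890) (iv F39832)
theorem F56647 : act 6 n12895 = n9046 := d41_1 D12895 (iv D9046) (iv F39833)
def n12897 : Q := act 9 n8887
theorem D12897 : act 9 n8887 = n12897 := rfl
theorem F56653 : act 6 n12897 = n8952 := d41_1 D12897 (iv D8952) (iv F39840)
theorem F56654 : act 7 n12897 = n8890 := d43_1 D12897 (iv D8890) (iv F39841)
def n12899 : Q := act 9 n8889
theorem D12899 : act 9 n8889 = n12899 := rfl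
def n12900 : Q := act 8 n8890
theorem D12900 : act 8 n8890 = n12900 := rfl
def n12903 : Q := act 8 n8892
theorem D12903 : act 8 n8892 = n12903 := rfl
theorem F56673 : act 5 n12903 = n9052 := d37_1 D12903 (iv D9052) (iv F39859)
def n12908 : Q := act 8 n8895
theorem D12908 : act 8 n8895 = n12908 := rfl
theorem F56700 : act 6 n12908 = n8896 := d40_1 D12908 (iv D8896) D8895
def n12910 : Q := act 9 n8896
theorem D12910 : act 9 n8896 = n12910 := rfl
def n12928 : Q := act 9 n8907
theorem D12928 : act 9 n8907 = n12928 := rfl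
theorem F56785 : act 6 n12928 = n8909 := d41_1 D12928 (iv D8909) (iv F39927)
def n12932 : Q := act 3 n8910
theorem D12932 : act 3 n8910 = n12932 := rfl
def n12956 : Q := act 9 n8928
theorem D12956 : act 9 n8928 = n12956 := rfl
theorem F56885 : act 2 n12956 = n8945 := d23_1 D12956 (iv D8945) (iv F40007)
theorem F56886 : act 4 n12956 = n8935 := d34_1 D12956 (iv D8935) (iv F40008)
def n12979 : Q := act 9 n8944
theorem D12979 : act 9 n8944 = n12979 := rfl
theorem F56963 : act 3 n12979 = n8945 := d29_1 D12979 (iv D8945) D8944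
def n12988 : Q := act 8 n8952
theorem D12988 : act 8 n8952 = n12988 := rfl
def n13041 : Q := act 5 n8993
theorem D13041 : act 5 n8993 = n13041 := rfl
def n13042 : Q := act 8 n8993
theorem D13042 : act 8 n8993 = n13042 := rfl
theorem F57230 : act 6 n13042 = n8994 := d40_1 D13042 (iv D8994) D8993
def n13063 : Q := act 4 n9005
theorem D13063 : act 4 n9005 = n13063 := rfl
theorem F57328 : act 3 n13063 = n9009 := d24_1 D13063 (iv D9009) (iv D6219) (iv F28433) D9005
def n13065 : Q := act 4 n9007
theorem D13065 : act 4 n9007 = n13065 := rfl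
theorem F57335 : act 6 n13065 = n9009 := d31_2 (iv F40331) D13065 (iv D9009)
theorem F57337 : act 8 n13065 = n9143 := d33_2 (iv F40333) D13065 (iv D9143)
def n13073 : Q := act 3 n9014
theorem D13073 : act 3 n9014 = n13073 := rfl
theorem F57373 : act 0 n13073 = n9037 := d2_1 D13073 (iv D9037) (iv F40364)
theorem F57374 : act 5 n13073 = n9015 := d25_2 (iv F40366) D13073 (iv D9015)
def n13076 : Q := act 9 n9015
theorem D13076 : act 9 n9015 = n13076 := rfl
theorem F57390 : act 6 n13076 = n9018 := d41_1 D13076 (iv D9018) (iv F40370)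
def n13079 : Q := act 8 n9018
theorem D13079 : act 8 n9018 = n13079 := rfl
def n13080 : Q := act 4 n9019
theorem D13080 : act 4 n9019 = n13080 := rfl
theorem F57407 : act 5 n13080 = n9158 := d30_2 D9019 D13080 (iv D9158) (iv D6326) (iv F28486)
def n13081 : Q := act 8 n9019
theorem D13081 : act 8 n9019 = n13081 := rfl
def n13087 : Q := act 3 n9023
theorem D13087 : act 3 n9023 = n13087 := rfl
def n13109 : Q := act 4 n9037
theorem D13109 : act 4 n9037 = n13109 := rfl
theorem F57526 : act 1 n13109 = n9045 := d11_1 D13109 (iv D9045) (iv F40466)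
def n13110 : Q := act 9 n9037
theorem D13110 : act 9 n9037 = n13110 := rfl
theorem F57533 : act 5 n13110 = n9040 := d38_1 D13110 (iv D9040) (iv F40467)
def n13113 : Q := act 8 n9040
theorem D13113 : act 8 n9040 = n13113 := rfl
theorem F57547 : act 6 n13113 = n9043 := d40_1 D13113 (iv D9043) (iv F40482)
def n13118 : Q := act 4 n9044
theorem D13118 : act 4 n9044 = n13118 := rfl
theorem F57566 : act 2 n13118 = n9045 := d18_1 D13118 (iv D9045) D9044
def n13119 : Q := act 9 n9044
theorem D13119 : act 9 n9044 = n13119 := rfl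
theorem F57572 : act 5 n13119 = n9048 := d38_1 D13119 (iv D9048) (iv F40497)
def n13120 : Q := act 9 n9045
theorem D13120 : act 9 n9045 = n13120 := rfl
theorem F57575 : act 4 n13120 = n9046 := d34_1 D13120 (iv D9046) D9045
def n13121 : Q := act 8 n9046
theorem D13121 : act 8 n9046 = n13121 := rfl
theorem F57579 : act 5 n13121 = n9049 := d37_1 D13121 (iv D9049) (iv F40505)
def n13124 : Q := act 8 n9048
theorem D13124 : act 8 n9048 = n13124 := rfl
theorem F57594 : act 6 n13124 = n9052 := d40_1 D13124 (iv D9052) (iv F40515)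
def n13250 : Q := act 2 n9138
theorem D13250 : act 2 n9138 = n13250 := rfl
theorem F58144 : act 3 n13250 = n9153 := d17_2 D9138 D13250 (iv D9153) (iv D6322) (iv F28855)
def n13251 : Q := act 4 n9138
theorem D13251 : act 4 n9138 = n13251 := rfl
theorem F58148 : act 3 n13251 = n9143 := d24_1 D13251 (iv D9143) (iv D6314) (iv F28856) D9138
def n13269 : Q := act 2 n9151
theorem D13269 : act 2 n9151 = n13269 := rfl
theorem F58226 : act 5 n13269 = n9153 := d19_2 (iv F40968) D13269 (iv D9153)
def n13270 : Q := act 4 n9151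
theorem D13270 : act 4 n9151 = n13270 := rfl
theorem F58230 : act 0 n13270 = n9187 := d3_1 D13270 (iv D9187) (iv F40966)
theorem F58231 : act 1 n13270 = n13270 := d11_1 D13270 (iv D13270) F40967
theorem F58232 : act 3 n13270 = n13270 := d24_1 D13270 (iv D13270) (iv D9151) F28904 D9151
def n13271 : Q := act 9 n9151
theorem D13271 : act 9 n9151 = n13271 := rfl
theorem F58237 : act 0 n13271 = n9188 := d8_1 D13271 (iv D9188) (iv F40966)
theorem F58238 : act 1 n13271 = n13271 := d16_1 D13271 (iv D13271) F40967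
theorem F58239 : act 3 n13271 = n9152 := d29_1 D13271 (iv D9152) D9151
theorem F58240 : act 5 n13271 = n9154 := d38_1 D13271 (iv D9154) (iv F40968)
def n13274 : Q := act 8 n9154
theorem D13274 : act 8 n9154 = n13274 := rfl
theorem F58253 : act 0 n13274 = n9191 := d7_1 D13274 (iv D9191) (iv F40984)
def n13278 : Q := act 8 n9158
theorem D13278 : act 8 n9158 = n13278 := rfl
def n13293 : Q := act 1 n9167
theorem D13293 : act 1 n9167 = n13293 := rfl
theorem F58343 : act 3 n13293 = n9189 := d10_2 (iv F41049) D13293 (iv D9189)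
def n13294 : Q := act 4 n9167
theorem D13294 : act 4 n9167 = n13294 := rfl
theorem F58346 : act 2 n13294 = n9168 := d18_1 D13294 (iv D9168) D9167
def n13300 : Q := act 4 n9170
theorem D13300 : act 4 n9170 = n13300 := rfl
theorem F58370 : act 1 n13300 = n9171 := d11_1 D13300 (iv D9171) D9170
def n13321 : Q := act 9 n9186
theorem D13321 : act 9 n9186 = n13321 := rfl
theorem F58460 : act 2 n13321 = n9188 := d23_1 D13321 (iv D9188) D9186
def n13322 : Q := act 9 n9187
theorem D13322 : act 9 n9187 = n13322 := rfl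
theorem F58464 : act 1 n13322 = n9198 := d16_1 D13322 (iv D9198) (iv F41133)
theorem F58465 : act 3 n13322 = n13322 := d29_1 D13322 (iv D13322) F41134
theorem F58466 : act 4 n13322 = n9188 := d34_1 D13322 (iv D9188) D9187
theorem F58467 : act 5 n13322 = n13322 := d38_1 D13322 (iv D13322) F41135
def n13323 : Q := act 8 n9188
theorem D13323 : act 8 n9188 = n13323 := rfl
theorem F58470 : act 1 n13323 = n9199 := d15_1 D13323 (iv D9199) (iv F41139)
theorem F58471 : act 3 n13323 = n13323 := d28_1 D13323 (iv D13323) F41140 F29022 (iv F41140)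
theorem F58472 : act 5 n13323 = n9191 := d37_1 D13323 (iv D9191) (iv F41141)
def n13326 : Q := act 8 n9190
theorem D13326 : act 8 n9190 = n13326 := rfl
theorem F58486 : act 2 n13326 = n9191 := d22_1 D13326 (iv D9191) (iv F41149)
def n13331 : Q := act 4 n9195
theorem D13331 : act 4 n9195 = n13331 := rfl
theorem F58512 : act 1 n13331 = n9196 := d11_1 D13331 (iv D9196) D9195
def n13332 : Q := act 9 n9195
theorem D13332 : act 9 n9195 = n13332 := rfl
theorem F58517 : act 1 n13332 = n9197 := d16_1 D13332 (iv D9197) D9195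
def n13333 : Q := act 3 n9196
theorem D13333 : act 3 n9196 = n13333 := rfl
theorem F58522 : act 0 n13333 = n13333 := d2_1 D13333 (iv D13333) F41179
theorem F58523 : act 2 n13333 = n13333 := d17_1 D13333 (iv D13333) F41180 F29054 (iv F41180)
theorem F58524 : act 4 n13333 = n13333 := d24_2 D9196 D13333 (iv D13333) (iv D9196) F29048
theorem F58525 : act 5 n13333 = n13333 := d25_2 F41181 D13333 (iv D13333)
theorem F58526 : act 6 n13333 = n13333 := d26_2 F41182 D13333 (iv D13333)
theorem F58527 : act 7 n13333 = n13333 := d27_2 F41183 D13333 (iv D13333)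
def n13334 : Q := act 9 n9196
theorem D13334 : act 9 n9196 = n13334 := rfl
theorem F58528 : act 0 n13334 = n13334 := d8_1 D13334 (iv D13334) F41179
theorem F58529 : act 2 n13334 = n9198 := d23_1 D13334 (iv D9198) (iv F41180)
theorem F58530 : act 4 n13334 = n9197 := d34_1 D13334 (iv D9197) D9196
theorem F58531 : act 5 n13334 = n13334 := d38_1 D13334 (iv D13334) F41181
def n13335 : Q := act 8 n9197
theorem D13335 : act 8 n9197 = n13335 := rfl
theorem F58534 : act 0 n13335 = n13335 := d7_1 D13335 (iv D13335) F41185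
theorem F58535 : act 2 n13335 = n9199 := d22_1 D13335 (iv D9199) (iv F41186)
theorem F58536 : act 5 n13335 = n9202 := d37_1 D13335 (iv D9202) (iv F41188)
def n13338 : Q := act 8 n9201
theorem D13338 : act 8 n9201 = n13338 := rfl
theorem F58552 : act 1 n13338 = n9202 := d15_1 D13338 (iv D9202) (iv F41209)
def n13339 : Q := act 3 n9202
theorem D13339 : act 3 n9202 = n13339 := rfl
theorem F58557 : act 0 n13339 = n13339 := d2_1 D13339 (iv D13339) F41214
theorem F58558 : act 2 n13339 = n13339 := d17_1 D13339 (iv D13339) F41215 F29076 (iv F41215)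
theorem F58561 : act 8 n13339 = n13339 := d28_2 D9202 D13339 (iv D13339) (iv D9202) F29071
def n13463 : Q := act 2 n9292
theorem D13463 : act 2 n9292 = n13463 := rfl
theorem F59101 : act 0 n13463 = n13463 := d1_1 D13463 (iv D13463) F41615
theorem F59102 : act 3 n13463 = n13463 := d17_2 D9292 D13463 (iv D13463) (iv D9292) F29380
theorem F59103 : act 5 n13463 = n9293 := d19_2 (iv F41617) D13463 (iv D9293)
theorem F59104 : act 6 n13463 = n13463 := d20_2 F41618 D13463 (iv D13463)
theorem F59105 : act 7 n13463 = n13463 := d21_2 F41619 D13463 (iv D13463)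
theorem F59106 : act 8 n13463 = n13463 := d22_2 F41620 D13463 (iv D13463)
theorem F59107 : act 9 n13463 = n13463 := d23_2 F41621 D13463 (iv D13463)
def n13464 : Q := act 4 n9292
theorem D13464 : act 4 n9292 = n13464 := rfl
theorem F59108 : act 0 n13464 = n13464 := d3_1 D13464 (iv D13464) F41615
theorem F59109 : act 1 n13464 = n13464 := d11_1 D13464 (iv D13464) F41616
theorem F59110 : act 3 n13464 = n13464 := d24_1 D13464 (iv D13464) (iv D9292) F29381 D9292
theorem F59111 : act 6 n13464 = n13464 := d31_2 F41618 D13464 (iv D13464)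
theorem F59112 : act 7 n13464 = n13464 := d32_2 F41619 D13464 (iv D13464)
theorem F59113 : act 8 n13464 = n13464 := d33_2 F41620 D13464 (iv D13464)
theorem F59114 : act 9 n13464 = n13464 := d34_2 F41621 D13464 (iv D13464)
def n13465 : Q := act 1 n9293
theorem D13465 : act 1 n9293 = n13465 := rfl
theorem F59115 : act 2 n13465 = n13465 := d9_2 D9293 D13465 (iv D13465) (iv D9293) F29387
theorem F59116 : act 3 n13465 = n13465 := d10_2 F41623 D13465 (iv D13465)
theorem F59117 : act 6 n13465 = n9295 := d13_2 (iv F41624) D13465 (iv D9295)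
theorem F59118 : act 7 n13465 = n13465 := d14_2 F41625 D13465 (iv D13465)
theorem F59119 : act 8 n13465 = n13465 := d15_2 F41626 D13465 (iv D13465)
theorem F59120 : act 9 n13465 = n13465 := d16_2 F41627 D13465 (iv D13465)
def n13466 : Q := act 4 n9293
theorem D13466 : act 4 n9293 = n13466 := rfl
theorem F59121 : act 0 n13466 = n13466 := d3_1 D13466 (iv D13466) F41622
theorem F59122 : act 2 n13466 = n9294 := d18_1 D13466 (iv D9294) D9293
theorem F59123 : act 6 n13466 = n9296 := d31_2 (iv F41624) D13466 (iv D9296)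
theorem F59124 : act 7 n13466 = n13466 := d32_2 F41625 D13466 (iv D13466)
theorem F59125 : act 8 n13466 = n13466 := d33_2 F41626 D13466 (iv D13466)
theorem F59126 : act 9 n13466 = n13466 := d34_2 F41627 D13466 (iv D13466)
def n13467 : Q := act 5 n9294
theorem D13467 : act 5 n9294 = n13467 := rfl
theorem F59127 : act 0 n13467 = n13467 := d4_1 D13467 (iv D13467) F41628
theorem F59128 : act 1 n13467 = n13467 := d12_1 D13467 (iv D13467) F41629
theorem F59129 : act 3 n13467 = n9305 := d25_1 D13467 (iv D9305) (iv F41630)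
theorem F59130 : act 7 n13467 = n13467 := d36_2 F41632 D13467 (iv D13467)
theorem F59131 : act 8 n13467 = n13467 := d37_2 F41633 D13467 (iv D13467)
theorem F59132 : act 9 n13467 = n13467 := d38_2 F41634 D13467 (iv D13467)
def n13468 : Q := act 0 n9295
theorem D13468 : act 0 n9295 = n13468 := rfl
theorem F59133 : act 1 n13468 = n13468 := d0_2 D9295 D13468 (iv D13468) (iv D9295) F29392
theorem F59134 : act 2 n13468 = n13468 := d1_2 F41635 D13468 (iv D13468)
theorem F59135 : act 3 n13468 = n13468 := d2_2 F41636 D13468 (iv D13468)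
theorem F59136 : act 5 n13468 = n13468 := d4_2 F41637 D13468 (iv D13468)
theorem F59137 : act 7 n13468 = n9298 := d6_2 (iv F41638) D13468 (iv D9298)
theorem F59138 : act 8 n13468 = n13468 := d7_2 F41639 D13468 (iv D13468)
theorem F59139 : act 9 n13468 = n13468 := d8_2 F41640 D13468 (iv D13468)
def n13469 : Q := act 4 n9295
theorem D13469 : act 4 n9295 = n13469 := rfl
theorem F59140 : act 1 n13469 = n9296 := d11_1 D13469 (iv D9296) D9295
theorem F59141 : act 2 n13469 = n13469 := d18_1 D13469 (iv D13469) F41635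
theorem F59142 : act 7 n13469 = n9299 := d32_2 (iv F41638) D13469 (iv D9299)
theorem F59143 : act 8 n13469 = n13469 := d33_2 F41639 D13469 (iv D13469)
theorem F59144 : act 9 n13469 = n13469 := d34_2 F41640 D13469 (iv D13469)
def n13470 : Q := act 3 n9296
theorem D13470 : act 3 n9296 = n13470 := rfl
theorem F59145 : act 0 n13470 = n13470 := d2_1 D13470 (iv D13470) F41641
theorem F59146 : act 2 n13470 = n9308 := d17_1 D13470 (iv D9308) F29441 (iv F29400) (iv F41642)
theorem F59147 : act 4 n13470 = n13470 := d24_2 D9296 D13470 (iv D13470) (iv D9296) F29393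
theorem F59148 : act 7 n13470 = n9300 := d27_2 (iv F41643) D13470 (iv D9300)
theorem F59149 : act 9 n13470 = n13470 := d29_2 F41645 D13470 (iv D13470)
def n13471 : Q := act 5 n9296
theorem D13471 : act 5 n9296 = n13471 := rfl
theorem F59150 : act 0 n13471 = n13471 := d4_1 D13471 (iv D13471) F41641
theorem F59151 : act 2 n13471 = n9297 := d19_1 D13471 (iv D9297) (iv F41642)
theorem F59152 : act 4 n13471 = n13471 := d30_1 D13471 (iv D13471) (iv D9296) F29394 D9296
theorem F59153 : act 7 n13471 = n9301 := d36_2 (iv F41643) D13471 (iv D9301)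
theorem F59154 : act 8 n13471 = n13471 := d37_2 F41644 D13471 (iv D13471)
theorem F59155 : act 9 n13471 = n13471 := d38_2 F41645 D13471 (iv D13471)
def n13472 : Q := act 6 n9297
theorem D13472 : act 6 n9297 = n13472 := rfl
theorem F59156 : act 0 n13472 = n13472 := d5_1 D13472 (iv D13472) F41646
theorem F59157 : act 1 n13472 = n13472 := d13_1 D13472 (iv D13472) F41647
theorem F59158 : act 3 n13472 = n9310 := d26_1 D13472 (iv D9310) (iv F41648)
theorem F59159 : act 4 n13472 = n13472 := d31_1 D13472 (iv D13472) F41649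
theorem F59160 : act 8 n13472 = n13472 := d40_2 F41651 D13472 (iv D13472)
theorem F59161 : act 9 n13472 = n13472 := d41_2 F41652 D13472 (iv D13472)
def n13473 : Q := act 4 n9298
theorem D13473 : act 4 n9298 = n13473 := rfl
theorem F59162 : act 0 n13473 = n9299 := d3_1 D13473 (iv D9299) D9298
def n13474 : Q := act 3 n9299
theorem D13474 : act 3 n9299 = n13474 := rfl
theorem F59168 : act 1 n13474 = n9300 := d10_1 D13474 (iv D9300) (iv F41660)
def n13475 : Q := act 5 n9299
theorem D13475 : act 5 n9299 = n13475 := rfl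
theorem F59172 : act 1 n13475 = n9301 := d12_1 D13475 (iv D9301) (iv F41660)
theorem F59173 : act 2 n13475 = n13475 := d19_1 D13475 (iv D13475) F41661
theorem F59174 : act 4 n13475 = n13475 := d30_1 D13475 (iv D13475) (iv D9299) F29406 D9299
theorem F59175 : act 8 n13475 = n13475 := d37_2 F41663 D13475 (iv D13475)
theorem F59176 : act 9 n13475 = n13475 := d38_2 F41664 D13475 (iv D13475)
def n13476 : Q := act 5 n9300
theorem D13476 : act 5 n9300 = n13476 := rfl
theorem F59177 : act 0 n13476 = n13476 := d4_1 D13476 (iv D13476) F41665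
theorem F59178 : act 2 n13476 = n9314 := d19_1 D13476 (iv D9314) (iv F41666)
theorem F59179 : act 3 n13476 = n9301 := d25_1 D13476 (iv D9301) D9300
theorem F59180 : act 9 n13476 = n13476 := d38_2 F41669 D13476 (iv D13476)
def n13477 : Q := act 8 n9300
theorem D13477 : act 8 n9300 = n13477 := rfl
theorem F59182 : act 2 n13477 = n9315 := d22_1 D13477 (iv D9315) (iv F41666)
def n13478 : Q := act 6 n9301
theorem D13478 : act 6 n9301 = n13478 := rfl
theorem F59186 : act 0 n13478 = n13478 := d5_1 D13478 (iv D13478) F41670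
theorem F59187 : act 2 n13478 = n9302 := d20_1 D13478 (iv D9302) (iv F41671)
theorem F59188 : act 4 n13478 = n13478 := d31_1 D13478 (iv D13478) F41672
theorem F59189 : act 5 n13478 = n13478 := d35_1 D13478 (iv D13478) (iv D9301) F29412 D9301
theorem F59190 : act 8 n13478 = n13478 := d40_2 F41673 D13478 (iv D13478)
theorem F59191 : act 9 n13478 = n13478 := d41_2 F41674 D13478 (iv D13478)
def n13479 : Q := act 7 n9302
theorem D13479 : act 7 n9302 = n13479 := rfl
theorem F59192 : act 0 n13479 = n13479 := d6_1 D13479 (iv D13479) F41675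
theorem F59193 : act 1 n13479 = n13479 := d14_1 D13479 (iv D13479) F41676
theorem F59194 : act 3 n13479 = n9317 := d27_1 D13479 (iv D9317) (iv F41677)
theorem F59195 : act 4 n13479 = n13479 := d32_1 D13479 (iv D13479) F41678
theorem F59196 : act 5 n13479 = n13479 := d36_1 D13479 (iv D13479) F41679
theorem F59197 : act 8 n13479 = n13479 := d42_2 F41680 D13479 (iv D13479)
theorem F59198 : act 9 n13479 = n13479 := d43_2 F41681 D13479 (iv D13479)
def n13480 : Q := act 0 n9303
theorem D13480 : act 0 n9303 = n13480 := rfl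
theorem F59199 : act 1 n13480 = n13480 := d0_2 D9303 D13480 (iv D13480) (iv D9303) F29421
theorem F59200 : act 2 n13480 = n13480 := d1_2 F41682 D13480 (iv D13480)
theorem F59201 : act 3 n13480 = n13480 := d2_2 F41683 D13480 (iv D13480)
theorem F59202 : act 5 n13480 = n13480 := d4_2 F41684 D13480 (iv D13480)
theorem F59203 : act 6 n13480 = n9306 := d5_2 (iv F41685) D13480 (iv D9306)
theorem F59204 : act 7 n13480 = n13480 := d6_2 F41686 D13480 (iv D13480)
theorem F59205 : act 8 n13480 = n9355 := d7_2 (iv F41687) D13480 (iv D9355)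
theorem F59206 : act 9 n13480 = n13480 := d8_2 F41688 D13480 (iv D13480)
def n13481 : Q := act 4 n9303
theorem D13481 : act 4 n9303 = n13481 := rfl
theorem F59207 : act 1 n13481 = n9304 := d11_1 D13481 (iv D9304) D9303
theorem F59208 : act 2 n13481 = n13481 := d18_1 D13481 (iv D13481) F41682
theorem F59209 : act 6 n13481 = n9307 := d31_2 (iv F41685) D13481 (iv D9307)
theorem F59210 : act 7 n13481 = n13481 := d32_2 F41686 D13481 (iv D13481)
theorem F59211 : act 8 n13481 = n9356 := d33_2 (iv F41687) D13481 (iv D9356)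
theorem F59212 : act 9 n13481 = n13481 := d34_2 F41688 D13481 (iv D13481)
def n13482 : Q := act 3 n9304
theorem D13482 : act 3 n9304 = n13482 := rfl
theorem F59213 : act 0 n13482 = n13482 := d2_1 D13482 (iv D13482) F41689
theorem F59214 : act 4 n13482 = n13482 := d24_2 D9304 D13482 (iv D13482) (iv D9304) F29422
theorem F59215 : act 6 n13482 = n9308 := d26_2 (iv F41691) D13482 (iv D9308)
theorem F59216 : act 7 n13482 = n13482 := d27_2 F41692 D13482 (iv D13482)
theorem F59217 : act 9 n13482 = n13482 := d29_2 F41694 D13482 (iv D13482)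
def n13483 : Q := act 5 n9304
theorem D13483 : act 5 n9304 = n13483 := rfl
theorem F59218 : act 0 n13483 = n13483 := d4_1 D13483 (iv D13483) F41689
theorem F59219 : act 2 n13483 = n9305 := d19_1 D13483 (iv D9305) (iv F41690)
theorem F59220 : act 4 n13483 = n13483 := d30_1 D13483 (iv D13483) (iv D9304) F29423 D9304
theorem F59221 : act 7 n13483 = n13483 := d36_2 F41692 D13483 (iv D13483)
theorem F59222 : act 8 n13483 = n9358 := d37_2 (iv F41693) D13483 (iv D9358)
theorem F59223 : act 9 n13483 = n13483 := d38_2 F41694 D13483 (iv D13483)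
def n13484 : Q := act 6 n9305
theorem D13484 : act 6 n9305 = n13484 := rfl
theorem F59224 : act 0 n13484 = n13484 := d5_1 D13484 (iv D13484) F41695
theorem F59225 : act 1 n13484 = n13484 := d13_1 D13484 (iv D13484) F41696
theorem F59226 : act 4 n13484 = n13484 := d31_1 D13484 (iv D13484) F41697
theorem F59227 : act 5 n13484 = n9310 := d35_1 D13484 (iv D9310) (iv D6434) (iv F29430) D9305
theorem F59228 : act 8 n13484 = n9359 := d40_2 (iv F41699) D13484 (iv D9359)
theorem F59229 : act 9 n13484 = n13484 := d41_2 F41700 D13484 (iv D13484)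
def n13485 : Q := act 4 n9306
theorem D13485 : act 4 n9306 = n13485 := rfl
theorem F59230 : act 0 n13485 = n9307 := d3_1 D13485 (iv D9307) D9306
theorem F59231 : act 1 n13485 = n13485 := d11_1 D13485 (iv D13485) F41701
theorem F59232 : act 2 n13485 = n13485 := d18_1 D13485 (iv D13485) F41702
theorem F59233 : act 7 n13485 = n9311 := d32_2 (iv F41705) D13485 (iv D9311)
theorem F59234 : act 8 n13485 = n9365 := d33_2 (iv F41706) D13485 (iv D9365)
theorem F59235 : act 9 n13485 = n13485 := d34_2 F41707 D13485 (iv D13485)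
def n13486 : Q := act 3 n9307
theorem D13486 : act 3 n9307 = n13486 := rfl
theorem F59236 : act 1 n13486 = n9308 := d10_1 D13486 (iv D9308) (iv F41708)
theorem F59237 : act 4 n13486 = n13486 := d24_2 D9307 D13486 (iv D13486) (iv D9307) F29435
theorem F59238 : act 7 n13486 = n9312 := d27_2 (iv F41710) D13486 (iv D9312)
theorem F59239 : act 9 n13486 = n13486 := d29_2 F41712 D13486 (iv D13486)
def n13487 : Q := act 5 n9307
theorem D13487 : act 5 n9307 = n13487 := rfl
theorem F59240 : act 1 n13487 = n9309 := d12_1 D13487 (iv D9309) (iv F41708)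
theorem F59241 : act 2 n13487 = n13487 := d19_1 D13487 (iv D13487) F41709
theorem F59242 : act 4 n13487 = n9320 := d30_1 D13487 (iv D9320) (iv D6441) (iv F29436) D9307
theorem F59243 : act 7 n13487 = n9313 := d36_2 (iv F41710) D13487 (iv D9313)
theorem F59244 : act 8 n13487 = n9367 := d37_2 (iv F41711) D13487 (iv D9367)
theorem F59245 : act 9 n13487 = n13487 := d38_2 F41712 D13487 (iv D13487)
def n13488 : Q := act 5 n9308
theorem D13488 : act 5 n9308 = n13488 := rfl
theorem F59246 : act 0 n13488 = n13488 := d4_1 D13488 (iv D13488) F41713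
theorem F59247 : act 3 n13488 = n9309 := d25_1 D13488 (iv D9309) D9308
theorem F59248 : act 7 n13488 = n9314 := d36_2 (iv F41715) D13488 (iv D9314)
theorem F59249 : act 9 n13488 = n13488 := d38_2 F41716 D13488 (iv D13488)
def n13489 : Q := act 8 n9308
theorem D13489 : act 8 n9308 = n13489 := rfl
theorem F59250 : act 0 n13489 = n13489 := d7_1 D13489 (iv D13489) F41713
theorem F59251 : act 3 n13489 = n9369 := d28_1 D13489 (iv D9369) (iv D6473) (iv F29443) D9308
theorem F59252 : act 4 n13489 = n13489 := d33_1 D13489 (iv D13489) F41714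
theorem F59253 : act 7 n13489 = n9315 := d42_1 D13489 (iv D9315) (iv F41715)
def n13490 : Q := act 6 n9309
theorem D13490 : act 6 n9309 = n13490 := rfl
theorem F59254 : act 0 n13490 = n13490 := d5_1 D13490 (iv D13490) F41717
theorem F59255 : act 2 n13490 = n9310 := d20_1 D13490 (iv D9310) (iv F41718)
theorem F59256 : act 4 n13490 = n9323 := d31_1 D13490 (iv D9323) (iv F41719)
theorem F59257 : act 8 n13490 = n9370 := d40_2 (iv F41721) D13490 (iv D9370)
theorem F59258 : act 9 n13490 = n13490 := d41_2 F41722 D13490 (iv D13490)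
def n13491 : Q := act 7 n9310
theorem D13491 : act 7 n9310 = n13491 := rfl
theorem F59259 : act 0 n13491 = n13491 := d6_1 D13491 (iv D13491) F41723
theorem F59260 : act 1 n13491 = n13491 := d14_1 D13491 (iv D13491) F41724
theorem F59261 : act 4 n13491 = n9324 := d32_1 D13491 (iv D9324) (iv F41725)
theorem F59262 : act 6 n13491 = n9317 := d39_1 D13491 (iv D9317) (iv D6439) (iv F29448) D9310
theorem F59263 : act 8 n13491 = n9371 := d42_2 (iv F41726) D13491 (iv D9371)
theorem F59264 : act 9 n13491 = n13491 := d43_2 F41727 D13491 (iv D13491)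
def n13492 : Q := act 3 n9311
theorem D13492 : act 3 n9311 = n13492 := rfl
def n13493 : Q := act 5 n9311
theorem D13493 : act 5 n9311 = n13493 := rfl
theorem F59270 : act 0 n13493 = n9313 := d4_1 D13493 (iv D9313) (iv F41728)
theorem F59271 : act 1 n13493 = n13493 := d12_1 D13493 (iv D13493) F41729
theorem F59272 : act 2 n13493 = n13493 := d19_1 D13493 (iv D13493) F41730
theorem F59273 : act 4 n13493 = n9326 := d30_1 D13493 (iv D9326) (iv D6445) (iv F29454) D9311
theorem F59274 : act 8 n13493 = n9380 := d37_2 (iv F41732) D13493 (iv D9380)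
theorem F59275 : act 9 n13493 = n13493 := d38_2 F41733 D13493 (iv D13493)
def n13494 : Q := act 2 n9312
theorem D13494 : act 2 n9312 = n13494 := rfl
def n13495 : Q := act 5 n9312
theorem D13495 : act 5 n9312 = n13495 := rfl
theorem F59280 : act 1 n13495 = n9314 := d12_1 D13495 (iv D9314) (iv F41734)
theorem F59281 : act 3 n13495 = n9313 := d25_1 D13495 (iv D9313) D9312
theorem F59282 : act 9 n13495 = n13495 := d38_2 F41737 D13495 (iv D13495)
def n13496 : Q := act 8 n9312
theorem D13496 : act 8 n9312 = n13496 := rfl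
theorem F59284 : act 3 n13496 = n9383 := d28_1 D13496 (iv D9383) (iv D6482) (iv F29461) D9312
def n13497 : Q := act 6 n9313
theorem D13497 : act 6 n9313 = n13497 := rfl
theorem F59287 : act 1 n13497 = n9316 := d13_1 D13497 (iv D9316) (iv F41738)
theorem F59288 : act 2 n13497 = n13497 := d20_1 D13497 (iv D13497) F41739
theorem F59289 : act 4 n13497 = n9330 := d31_1 D13497 (iv D9330) (iv F41740)
theorem F59290 : act 5 n13497 = n13497 := d35_1 D13497 (iv D13497) (iv D9313) F29460 D9313
theorem F59291 : act 8 n13497 = n9384 := d40_2 (iv F41741) D13497 (iv D9384)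
theorem F59292 : act 9 n13497 = n13497 := d41_2 F41742 D13497 (iv D13497)
def n13498 : Q := act 4 n9314
theorem D13498 : act 4 n9314 = n13498 := rfl
theorem F59293 : act 0 n13498 = n13498 := d3_1 D13498 (iv D13498) F41743
theorem F59294 : act 3 n13498 = n9331 := d24_1 D13498 (iv D9331) F29524 (iv F29469) (iv F41744)
theorem F59295 : act 5 n13498 = n13498 := d30_2 D9314 D13498 (iv D13498) (iv D9314) F29464
theorem F59296 : act 9 n13498 = n13498 := d34_2 F41745 D13498 (iv D13498)
def n13499 : Q := act 6 n9314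
theorem D13499 : act 6 n9314 = n13499 := rfl
theorem F59297 : act 0 n13499 = n13499 := d5_1 D13499 (iv D13499) F41743
theorem F59298 : act 3 n13499 = n9316 := d26_1 D13499 (iv D9316) (iv F41744)
theorem F59299 : act 5 n13499 = n13499 := d35_1 D13499 (iv D13499) (iv D9314) F29465 D9314
theorem F59300 : act 9 n13499 = n13499 := d41_2 F41745 D13499 (iv D13499)
def n13500 : Q := act 8 n9314
theorem D13500 : act 8 n9314 = n13500 := rfl
theorem F59301 : act 0 n13500 = n13500 := d7_1 D13500 (iv D13500) F41743
theorem F59302 : act 3 n13500 = n9387 := d28_1 D13500 (iv D9387) F29706 (iv F29470) (iv F41744)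
theorem F59303 : act 5 n13500 = n9315 := d37_1 D13500 (iv D9315) D9314
def n13501 : Q := act 9 n9315
theorem D13501 : act 9 n9315 = n13501 := rfl
def n13502 : Q := act 7 n9316
theorem D13502 : act 7 n9316 = n13502 := rfl
theorem F59309 : act 0 n13502 = n13502 := d6_1 D13502 (iv D13502) F41750
theorem F59310 : act 2 n13502 = n9317 := d21_1 D13502 (iv D9317) (iv F41751)
theorem F59311 : act 4 n13502 = n9335 := d32_1 D13502 (iv D9335) (iv F41752)
theorem F59312 : act 5 n13502 = n13502 := d36_1 D13502 (iv D13502) F41753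
theorem F59313 : act 8 n13502 = n9389 := d42_2 (iv F41754) D13502 (iv D9389)
theorem F59314 : act 9 n13502 = n13502 := d43_2 F41755 D13502 (iv D13502)
def n13503 : Q := act 3 n9318
theorem D13503 : act 3 n9318 = n13503 := rfl
theorem F59315 : act 0 n13503 = n9319 := d2_1 D13503 (iv D9319) (iv F41762)
theorem F59316 : act 1 n13503 = n13503 := d10_1 D13503 (iv D13503) F41763
theorem F59317 : act 4 n13503 = n13503 := d24_2 D9318 D13503 (iv D13503) (iv D9318) F29480
theorem F59318 : act 6 n13503 = n13503 := d26_2 F41765 D13503 (iv D13503)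
theorem F59319 : act 7 n13503 = n9325 := d27_2 (iv F41766) D13503 (iv D9325)
theorem F59320 : act 9 n13503 = n13503 := d29_2 F41768 D13503 (iv D13503)
def n13504 : Q := act 5 n9318
theorem D13504 : act 5 n9318 = n13504 := rfl
theorem F59321 : act 0 n13504 = n9320 := d4_1 D13504 (iv D9320) (iv F41762)
theorem F59322 : act 1 n13504 = n13504 := d12_1 D13504 (iv D13504) F41763
theorem F59323 : act 2 n13504 = n13504 := d19_1 D13504 (iv D13504) F41764
theorem F59324 : act 7 n13504 = n9326 := d36_2 (iv F41766) D13504 (iv D9326)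
theorem F59325 : act 8 n13504 = n9398 := d37_2 (iv F41767) D13504 (iv D9398)
theorem F59326 : act 9 n13504 = n13504 := d38_2 F41768 D13504 (iv D13504)
def n13505 : Q := act 2 n9319
theorem D13505 : act 2 n9319 = n13505 := rfl
theorem F59327 : act 1 n13505 = n13505 := d9_1 D13505 (iv D13505) F41769 F29492 (iv F41769)
theorem F59328 : act 3 n13505 = n13505 := d17_2 D9319 D13505 (iv D13505) (iv D9319) F29486
theorem F59329 : act 4 n13505 = n13505 := d18_2 F41770 D13505 (iv D13505)
theorem F59330 : act 6 n13505 = n13505 := d20_2 F41771 D13505 (iv D13505)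
theorem F59331 : act 7 n13505 = n9327 := d21_2 (iv F41772) D13505 (iv D9327)
theorem F59332 : act 9 n13505 = n13505 := d23_2 F41773 D13505 (iv D13505)
def n13506 : Q := act 5 n9319
theorem D13506 : act 5 n9319 = n13506 := rfl
theorem F59333 : act 1 n13506 = n9321 := d12_1 D13506 (iv D9321) (iv F41769)
theorem F59334 : act 3 n13506 = n9320 := d25_1 D13506 (iv D9320) D9319
theorem F59335 : act 7 n13506 = n9328 := d36_2 (iv F41772) D13506 (iv D9328)
theorem F59336 : act 9 n13506 = n13506 := d38_2 F41773 D13506 (iv D13506)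
def n13507 : Q := act 8 n9319
theorem D13507 : act 8 n9319 = n13507 := rfl
theorem F59337 : act 1 n13507 = n9322 := d15_1 D13507 (iv D9322) (iv F41769)
theorem F59338 : act 3 n13507 = n9401 := d28_1 D13507 (iv D9401) (iv D6494) (iv F29489) D9319
theorem F59339 : act 4 n13507 = n13507 := d33_1 D13507 (iv D13507) F41770
theorem F59340 : act 6 n13507 = n13507 := d40_1 D13507 (iv D13507) F41771
theorem F59341 : act 7 n13507 = n9329 := d42_1 D13507 (iv D9329) (iv F41772)
def n13508 : Q := act 6 n9320
theorem D13508 : act 6 n9320 = n13508 := rfl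
theorem F59342 : act 1 n13508 = n9323 := d13_1 D13508 (iv D9323) (iv F41774)
theorem F59343 : act 2 n13508 = n13508 := d20_1 D13508 (iv D13508) F41775
theorem F59344 : act 5 n13508 = n13508 := d35_1 D13508 (iv D13508) (iv D9320) F29487 D9320
theorem F59345 : act 8 n13508 = n9402 := d40_2 (iv F41777) D13508 (iv D9402)
theorem F59346 : act 9 n13508 = n13508 := d41_2 F41778 D13508 (iv D13508)
def n13509 : Q := act 4 n9321
theorem D13509 : act 4 n9321 = n13509 := rfl
theorem F59347 : act 0 n13509 = n13509 := d3_1 D13509 (iv D13509) F41779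
theorem F59348 : act 2 n13509 = n13509 := d18_1 D13509 (iv D13509) F41780
theorem F59349 : act 5 n13509 = n13509 := d30_2 D9321 D13509 (iv D13509) (iv D9321) F29493
theorem F59350 : act 7 n13509 = n9331 := d32_2 (iv F41782) D13509 (iv D9331)
theorem F59351 : act 9 n13509 = n13509 := d34_2 F41783 D13509 (iv D13509)
def n13510 : Q := act 6 n9321
theorem D13510 : act 6 n9321 = n13510 := rfl
theorem F59352 : act 0 n13510 = n13510 := d5_1 D13510 (iv D13510) F41779
theorem F59353 : act 2 n13510 = n13510 := d20_1 D13510 (iv D13510) F41780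
theorem F59354 : act 3 n13510 = n9323 := d26_1 D13510 (iv D9323) (iv F41781)
theorem F59355 : act 5 n13510 = n13510 := d35_1 D13510 (iv D13510) (iv D9321) F29494 D9321
theorem F59356 : act 9 n13510 = n13510 := d41_2 F41783 D13510 (iv D13510)
def n13511 : Q := act 8 n9321
theorem D13511 : act 8 n9321 = n13511 := rfl
theorem F59357 : act 0 n13511 = n13511 := d7_1 D13511 (iv D13511) F41779
theorem F59358 : act 2 n13511 = n13511 := d22_1 D13511 (iv D13511) F41780
theorem F59359 : act 3 n13511 = n9405 := d28_1 D13511 (iv D9405) F29764 (iv F29500) (iv F41781)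
theorem F59360 : act 5 n13511 = n9322 := d37_1 D13511 (iv D9322) D9321
theorem F59361 : act 7 n13511 = n9333 := d42_1 D13511 (iv D9333) (iv F41782)
def n13512 : Q := act 9 n9322
theorem D13512 : act 9 n9322 = n13512 := rfl
theorem F59362 : act 0 n13512 = n13512 := d8_1 D13512 (iv D13512) F41784
theorem F59363 : act 2 n13512 = n13512 := d23_1 D13512 (iv D13512) F41785
theorem F59364 : act 3 n13512 = n9406 := d29_1 D13512 (iv D9406) (iv F41786)
theorem F59365 : act 4 n13512 = n13512 := d34_1 D13512 (iv D13512) F41787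
theorem F59366 : act 6 n13512 = n13512 := d41_1 D13512 (iv D13512) F41788
theorem F59367 : act 7 n13512 = n9334 := d43_1 D13512 (iv D9334) (iv F41789)
theorem F59368 : act 8 n13512 = n13512 := d44_1 D13512 (iv D13512) (iv D9322) F29496 D9322
def n13513 : Q := act 7 n9323
theorem D13513 : act 7 n9323 = n13513 := rfl
theorem F59369 : act 0 n13513 = n13513 := d6_1 D13513 (iv D13513) F41790
theorem F59370 : act 2 n13513 = n9324 := d21_1 D13513 (iv D9324) (iv F41791)
theorem F59371 : act 5 n13513 = n13513 := d36_1 D13513 (iv D13513) F41792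
theorem F59372 : act 6 n13513 = n9335 := d39_1 D13513 (iv D9335) (iv D6450) (iv F29499) D9323
theorem F59373 : act 8 n13513 = n9407 := d42_2 (iv F41793) D13513 (iv D9407)
theorem F59374 : act 9 n13513 = n13513 := d43_2 F41794 D13513 (iv D13513)
def n13514 : Q := act 2 n9325
theorem D13514 : act 2 n9325 = n13514 := rfl
theorem F59375 : act 0 n13514 = n9327 := d1_1 D13514 (iv D9327) (iv F41802)
theorem F59376 : act 3 n13514 = n13514 := d17_2 D9325 D13514 (iv D13514) (iv D9325) F29510
theorem F59377 : act 4 n13514 = n13514 := d18_2 F41804 D13514 (iv D13514)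
theorem F59378 : act 6 n13514 = n9336 := d20_2 (iv F41805) D13514 (iv D9336)
theorem F59379 : act 9 n13514 = n13514 := d23_2 F41806 D13514 (iv D13514)
def n13515 : Q := act 5 n9325
theorem D13515 : act 5 n9325 = n13515 := rfl
theorem F59380 : act 0 n13515 = n9328 := d4_1 D13515 (iv D9328) (iv F41802)
theorem F59381 : act 1 n13515 = n13515 := d12_1 D13515 (iv D13515) F41803
theorem F59382 : act 3 n13515 = n9326 := d25_1 D13515 (iv D9326) D9325
theorem F59383 : act 9 n13515 = n13515 := d38_2 F41806 D13515 (iv D13515)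
def n13516 : Q := act 8 n9325
theorem D13516 : act 8 n9325 = n13516 := rfl
theorem F59384 : act 0 n13516 = n9329 := d7_1 D13516 (iv D9329) (iv F41802)
theorem F59385 : act 1 n13516 = n13516 := d15_1 D13516 (iv D13516) F41803
theorem F59386 : act 3 n13516 = n9421 := d28_1 D13516 (iv D9421) (iv D6507) (iv F29512) D9325
theorem F59387 : act 4 n13516 = n13516 := d33_1 D13516 (iv D13516) F41804
theorem F59388 : act 6 n13516 = n9338 := d40_1 D13516 (iv D9338) (iv F41805)
def n13517 : Q := act 6 n9326
theorem D13517 : act 6 n9326 = n13517 := rfl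
theorem F59389 : act 0 n13517 = n9330 := d5_1 D13517 (iv D9330) (iv F41807)
theorem F59390 : act 1 n13517 = n13517 := d13_1 D13517 (iv D13517) F41808
theorem F59391 : act 2 n13517 = n13517 := d20_1 D13517 (iv D13517) F41809
theorem F59392 : act 5 n13517 = n9339 := d35_1 D13517 (iv D9339) (iv D6453) (iv F29511) D9326
theorem F59393 : act 8 n13517 = n9422 := d40_2 (iv F41810) D13517 (iv D9422)
theorem F59394 : act 9 n13517 = n13517 := d41_2 F41811 D13517 (iv D13517)
def n13518 : Q := act 5 n9327
theorem D13518 : act 5 n9327 = n13518 := rfl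
theorem F59395 : act 1 n13518 = n13518 := d12_1 D13518 (iv D13518) F41812
theorem F59396 : act 2 n13518 = n9328 := d19_1 D13518 (iv D9328) D9327
theorem F59397 : act 3 n13518 = n13518 := d25_1 D13518 (iv D13518) F41813
theorem F59398 : act 9 n13518 = n13518 := d38_2 F41816 D13518 (iv D13518)
def n13519 : Q := act 8 n9327
theorem D13519 : act 8 n9327 = n13519 := rfl
theorem F59399 : act 1 n13519 = n13519 := d15_1 D13519 (iv D13519) F41812
theorem F59400 : act 2 n13519 = n9329 := d22_1 D13519 (iv D9329) D9327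
theorem F59401 : act 4 n13519 = n13519 := d33_1 D13519 (iv D13519) F41814
theorem F59402 : act 6 n13519 = n9341 := d40_1 D13519 (iv D9341) (iv F41815)
def n13520 : Q := act 4 n9328
theorem D13520 : act 4 n9328 = n13520 := rfl
theorem F59403 : act 1 n13520 = n9331 := d11_1 D13520 (iv D9331) (iv F41817)
theorem F59404 : act 5 n13520 = n13520 := d30_2 D9328 D13520 (iv D13520) (iv D9328) F29515
theorem F59405 : act 9 n13520 = n13520 := d34_2 F41819 D13520 (iv D13520)
def n13521 : Q := act 6 n9328
theorem D13521 : act 6 n9328 = n13521 := rfl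
theorem F59406 : act 1 n13521 = n9332 := d13_1 D13521 (iv D9332) (iv F41817)
theorem F59407 : act 3 n13521 = n9330 := d26_1 D13521 (iv D9330) (iv F41818)
theorem F59408 : act 5 n13521 = n9343 := d35_1 D13521 (iv D9343) (iv D6455) (iv F29516) D9328
theorem F59409 : act 9 n13521 = n13521 := d41_2 F41819 D13521 (iv D13521)
def n13522 : Q := act 8 n9328
theorem D13522 : act 8 n9328 = n13522 := rfl
theorem F59410 : act 1 n13522 = n9333 := d15_1 D13522 (iv D9333) (iv F41817)
theorem F59411 : act 3 n13522 = n9427 := d28_1 D13522 (iv D9427) F29825 (iv F29520) (iv F41818)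
theorem F59412 : act 5 n13522 = n9329 := d37_1 D13522 (iv D9329) D9328
def n13523 : Q := act 9 n9329
theorem D13523 : act 9 n9329 = n13523 := rfl
theorem F59413 : act 1 n13523 = n9334 := d16_1 D13523 (iv D9334) (iv F41820)
theorem F59414 : act 3 n13523 = n9428 := d29_1 D13523 (iv D9428) (iv F41821)
theorem F59415 : act 4 n13523 = n13523 := d34_1 D13523 (iv D13523) F41822
theorem F59416 : act 6 n13523 = n9345 := d41_1 D13523 (iv D9345) (iv F41823)
theorem F59417 : act 8 n13523 = n13523 := d44_1 D13523 (iv D13523) (iv D9329) F29517 D9329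
def n13524 : Q := act 7 n9330
theorem D13524 : act 7 n9330 = n13524 := rfl
theorem F59418 : act 1 n13524 = n9335 := d14_1 D13524 (iv D9335) (iv F41824)
theorem F59419 : act 2 n13524 = n13524 := d21_1 D13524 (iv D13524) F41825
theorem F59420 : act 5 n13524 = n9346 := d36_1 D13524 (iv D9346) (iv F41826)
theorem F59421 : act 8 n13524 = n9429 := d42_2 (iv F41827) D13524 (iv D9429)
theorem F59422 : act 9 n13524 = n13524 := d43_2 F41828 D13524 (iv D13524)
def n13525 : Q := act 6 n9331
theorem D13525 : act 6 n9331 = n13525 := rfl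
theorem F59423 : act 0 n13525 = n13525 := d5_1 D13525 (iv D13525) F41829
theorem F59424 : act 2 n13525 = n13525 := d20_1 D13525 (iv D13525) F41830
theorem F59425 : act 4 n13525 = n9332 := d31_1 D13525 (iv D9332) D9331
theorem F59426 : act 9 n13525 = n13525 := d41_2 F41832 D13525 (iv D13525)
def n13526 : Q := act 8 n9331
theorem D13526 : act 8 n9331 = n13526 := rfl
theorem F59427 : act 0 n13526 = n13526 := d7_1 D13526 (iv D13526) F41829
theorem F59428 : act 2 n13526 = n13526 := d22_1 D13526 (iv D13526) F41830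
theorem F59429 : act 4 n13526 = n9333 := d33_1 D13526 (iv D9333) D9331
theorem F59430 : act 5 n13526 = n13526 := d37_1 D13526 (iv D13526) F41831
def n13527 : Q := act 7 n9332
theorem D13527 : act 7 n9332 = n13527 := rfl
theorem F59431 : act 0 n13527 = n13527 := d6_1 D13527 (iv D13527) F41833
theorem F59432 : act 2 n13527 = n13527 := d21_1 D13527 (iv D13527) F41834
theorem F59433 : act 3 n13527 = n9335 := d27_1 D13527 (iv D9335) (iv F41835)
theorem F59434 : act 5 n13527 = n9349 := d36_1 D13527 (iv D9349) (iv F41836)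
theorem F59435 : act 9 n13527 = n13527 := d43_2 F41837 D13527 (iv D13527)
def n13528 : Q := act 8 n9332
theorem D13528 : act 8 n9332 = n13528 := rfl
theorem F59436 : act 0 n13528 = n13528 := d7_1 D13528 (iv D13528) F41833
theorem F59437 : act 2 n13528 = n13528 := d22_1 D13528 (iv D13528) F41834
theorem F59438 : act 3 n13528 = n9433 := d28_1 D13528 (iv D9433) F29837 (iv F29534) (iv F41835)
theorem F59439 : act 5 n13528 = n9350 := d37_1 D13528 (iv D9350) (iv F41836)
theorem F59440 : act 6 n13528 = n9333 := d40_1 D13528 (iv D9333) D9332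
def n13529 : Q := act 9 n9333
theorem D13529 : act 9 n9333 = n13529 := rfl
theorem F59441 : act 0 n13529 = n13529 := d8_1 D13529 (iv D13529) F41838
theorem F59442 : act 2 n13529 = n13529 := d23_1 D13529 (iv D13529) F41839
theorem F59443 : act 3 n13529 = n9434 := d29_1 D13529 (iv D9434) (iv F41840)
theorem F59444 : act 5 n13529 = n9334 := d38_1 D13529 (iv D9334) (iv F41841)
theorem F59445 : act 8 n13529 = n13529 := d44_1 D13529 (iv D13529) (iv D9333) F29525 D9333
def n13530 : Q := act 1 n9336
theorem D13530 : act 1 n9336 = n13530 := rfl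
theorem F59446 : act 0 n13530 = n13530 := d0_1 D13530 (iv D13530) F41853 F29554 (iv F41853)
theorem F59447 : act 2 n13530 = n13530 := d9_2 D9336 D13530 (iv D13530) (iv D9336) F29543
theorem F59448 : act 3 n13530 = n13530 := d10_2 F41854 D13530 (iv D13530)
theorem F59449 : act 4 n13530 = n13530 := d11_2 F41855 D13530 (iv D13530)
theorem F59450 : act 7 n13530 = n13530 := d14_2 F41856 D13530 (iv D13530)
theorem F59451 : act 9 n13530 = n13530 := d16_2 F41857 D13530 (iv D13530)
def n13531 : Q := act 5 n9336
theorem D13531 : act 5 n9336 = n13531 := rfl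
theorem F59452 : act 0 n13531 = n9340 := d4_1 D13531 (iv D9340) (iv F41853)
theorem F59453 : act 2 n13531 = n9337 := d19_1 D13531 (iv D9337) D9336
theorem F59454 : act 3 n13531 = n13531 := d25_1 D13531 (iv D13531) F41854
theorem F59455 : act 7 n13531 = n13531 := d36_2 F41856 D13531 (iv D13531)
theorem F59456 : act 9 n13531 = n13531 := d38_2 F41857 D13531 (iv D13531)
def n13532 : Q := act 8 n9336
theorem D13532 : act 8 n9336 = n13532 := rfl
theorem F59457 : act 0 n13532 = n9341 := d7_1 D13532 (iv D9341) (iv F41853)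
theorem F59458 : act 2 n13532 = n9338 := d22_1 D13532 (iv D9338) D9336
theorem F59459 : act 4 n13532 = n13532 := d33_1 D13532 (iv D13532) F41855
theorem F59460 : act 7 n13532 = n13532 := d42_1 D13532 (iv D13532) F41856
def n13533 : Q := act 4 n9337
theorem D13533 : act 4 n9337 = n13533 := rfl
theorem F59461 : act 0 n13533 = n9342 := d3_1 D13533 (iv D9342) (iv F41858)
theorem F59462 : act 1 n13533 = n13533 := d11_1 D13533 (iv D13533) F41859
theorem F59463 : act 3 n13533 = n13533 := d24_1 D13533 (iv D13533) F41860 F29550 (iv F41860)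
theorem F59464 : act 5 n13533 = n13533 := d30_2 D9337 D13533 (iv D13533) (iv D9337) F29544
theorem F59465 : act 7 n13533 = n13533 := d32_2 F41861 D13533 (iv D13533)
theorem F59466 : act 9 n13533 = n13533 := d34_2 F41862 D13533 (iv D13533)
def n13534 : Q := act 6 n9337
theorem D13534 : act 6 n9337 = n13534 := rfl
theorem F59467 : act 0 n13534 = n9343 := d5_1 D13534 (iv D9343) (iv F41858)
theorem F59468 : act 1 n13534 = n13534 := d13_1 D13534 (iv D13534) F41859
theorem F59469 : act 3 n13534 = n9339 := d26_1 D13534 (iv D9339) (iv F41860)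
theorem F59470 : act 9 n13534 = n13534 := d41_2 F41862 D13534 (iv D13534)
def n13535 : Q := act 8 n9337
theorem D13535 : act 8 n9337 = n13535 := rfl
theorem F59471 : act 0 n13535 = n9344 := d7_1 D13535 (iv D9344) (iv F41858)
theorem F59472 : act 1 n13535 = n13535 := d15_1 D13535 (iv D13535) F41859
theorem F59473 : act 3 n13535 = n9456 := d28_1 D13535 (iv D9456) F29912 (iv F29552) (iv F41860)
theorem F59474 : act 5 n13535 = n9338 := d37_1 D13535 (iv D9338) D9337
theorem F59475 : act 7 n13535 = n13535 := d42_1 D13535 (iv D13535) F41861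
def n13536 : Q := act 9 n9338
theorem D13536 : act 9 n9338 = n13536 := rfl
theorem F59476 : act 0 n13536 = n9345 := d8_1 D13536 (iv D9345) (iv F41863)
theorem F59477 : act 1 n13536 = n13536 := d16_1 D13536 (iv D13536) F41864
theorem F59478 : act 3 n13536 = n9457 := d29_1 D13536 (iv D9457) (iv F41865)
theorem F59479 : act 4 n13536 = n13536 := d34_1 D13536 (iv D13536) F41866
theorem F59480 : act 7 n13536 = n13536 := d43_1 D13536 (iv D13536) F41867
theorem F59481 : act 8 n13536 = n13536 := d44_1 D13536 (iv D13536) (iv D9338) F29546 D9338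
def n13537 : Q := act 7 n9339
theorem D13537 : act 7 n9339 = n13537 := rfl
theorem F59482 : act 0 n13537 = n9346 := d6_1 D13537 (iv D9346) (iv F41868)
theorem F59483 : act 1 n13537 = n13537 := d14_1 D13537 (iv D13537) F41869
theorem F59484 : act 2 n13537 = n13537 := d21_1 D13537 (iv D13537) F41870
theorem F59485 : act 4 n13537 = n13537 := d32_1 D13537 (iv D13537) F41871
theorem F59486 : act 6 n13537 = n13537 := d39_1 D13537 (iv D13537) (iv D9339) F29551 D9339
theorem F59487 : act 8 n13537 = n9458 := d42_2 (iv F41872) D13537 (iv D9458)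
theorem F59488 : act 9 n13537 = n13537 := d43_2 F41873 D13537 (iv D13537)
def n13538 : Q := act 4 n9340
theorem D13538 : act 4 n9340 = n13538 := rfl
theorem F59489 : act 1 n13538 = n13538 := d11_1 D13538 (iv D13538) F41874
theorem F59490 : act 2 n13538 = n9342 := d18_1 D13538 (iv D9342) (iv F41875)
theorem F59491 : act 5 n13538 = n13538 := d30_2 D9340 D13538 (iv D13538) (iv D9340) F29556
theorem F59492 : act 7 n13538 = n13538 := d32_2 F41877 D13538 (iv D13538)
theorem F59493 : act 9 n13538 = n13538 := d34_2 F41878 D13538 (iv D13538)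
def n13539 : Q := act 6 n9340
theorem D13539 : act 6 n9340 = n13539 := rfl
theorem F59494 : act 1 n13539 = n13539 := d13_1 D13539 (iv D13539) F41874
theorem F59495 : act 2 n13539 = n9343 := d20_1 D13539 (iv D9343) (iv F41875)
theorem F59496 : act 3 n13539 = n13539 := d26_1 D13539 (iv D13539) F41876
theorem F59497 : act 9 n13539 = n13539 := d41_2 F41878 D13539 (iv D13539)
def n13540 : Q := act 8 n9340
theorem D13540 : act 8 n9340 = n13540 := rfl
theorem F59498 : act 1 n13540 = n13540 := d15_1 D13540 (iv D13540) F41874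
theorem F59499 : act 2 n13540 = n9344 := d22_1 D13540 (iv D9344) (iv F41875)
theorem F59500 : act 5 n13540 = n9341 := d37_1 D13540 (iv D9341) D9340
theorem F59501 : act 7 n13540 = n13540 := d42_1 D13540 (iv D13540) F41877
def n13541 : Q := act 3 n9341
theorem D13541 : act 3 n9341 = n13541 := rfl
theorem F59502 : act 1 n13541 = n13541 := d10_1 D13541 (iv D13541) F41879
theorem F59503 : act 2 n13541 = n9462 := d17_1 D13541 (iv D9462) F29927 (iv F29564) (iv F41880)
theorem F59504 : act 7 n13541 = n13541 := d27_2 F41882 D13541 (iv D13541)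
theorem F59505 : act 8 n13541 = n13541 := d28_2 D9341 D13541 (iv D13541) (iv D9341) F29555
def n13542 : Q := act 9 n9341
theorem D13542 : act 9 n9341 = n13542 := rfl
theorem F59506 : act 1 n13542 = n13542 := d16_1 D13542 (iv D13542) F41879
theorem F59507 : act 2 n13542 = n9345 := d23_1 D13542 (iv D9345) (iv F41880)
theorem F59508 : act 4 n13542 = n13542 := d34_1 D13542 (iv D13542) F41881
theorem F59509 : act 7 n13542 = n13542 := d43_1 D13542 (iv D13542) F41882
theorem F59510 : act 8 n13542 = n13542 := d44_1 D13542 (iv D13542) (iv D9341) F29558 D9341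
def n13543 : Q := act 6 n9342
theorem D13543 : act 6 n9342 = n13543 := rfl
theorem F59511 : act 1 n13543 = n9347 := d13_1 D13543 (iv D9347) (iv F41883)
theorem F59512 : act 3 n13543 = n13543 := d26_1 D13543 (iv D13543) F41884
theorem F59513 : act 4 n13543 = n9343 := d31_1 D13543 (iv D9343) D9342
theorem F59514 : act 9 n13543 = n13543 := d41_2 F41887 D13543 (iv D13543)
def n13544 : Q := act 8 n9342
theorem D13544 : act 8 n9342 = n13544 := rfl
theorem F59515 : act 1 n13544 = n9348 := d15_1 D13544 (iv D9348) (iv F41883)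
theorem F59516 : act 4 n13544 = n9344 := d33_1 D13544 (iv D9344) D9342
theorem F59517 : act 5 n13544 = n13544 := d37_1 D13544 (iv D13544) F41885
theorem F59518 : act 7 n13544 = n13544 := d42_1 D13544 (iv D13544) F41886
def n13545 : Q := act 7 n9343
theorem D13545 : act 7 n9343 = n13545 := rfl
theorem F59519 : act 1 n13545 = n9349 := d14_1 D13545 (iv D9349) (iv F41888)
theorem F59520 : act 3 n13545 = n9346 := d27_1 D13545 (iv D9346) (iv F41889)
theorem F59521 : act 6 n13545 = n13545 := d39_1 D13545 (iv D13545) (iv D9343) F29561 D9343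
theorem F59522 : act 9 n13545 = n13545 := d43_2 F41890 D13545 (iv D13545)
def n13546 : Q := act 8 n9343
theorem D13546 : act 8 n9343 = n13546 := rfl
theorem F59523 : act 1 n13546 = n9350 := d15_1 D13546 (iv D9350) (iv F41888)
theorem F59524 : act 3 n13546 = n9467 := d28_1 D13546 (iv D9467) F29935 (iv F29570) (iv F41889)
theorem F59525 : act 6 n13546 = n9344 := d40_1 D13546 (iv D9344) D9343
def n13547 : Q := act 9 n9344
theorem D13547 : act 9 n9344 = n13547 := rfl
theorem F59526 : act 1 n13547 = n9351 := d16_1 D13547 (iv D9351) (iv F41891)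
theorem F59527 : act 3 n13547 = n9468 := d29_1 D13547 (iv D9468) (iv F41892)
theorem F59528 : act 5 n13547 = n9345 := d38_1 D13547 (iv D9345) (iv F41893)
theorem F59529 : act 7 n13547 = n13547 := d43_1 D13547 (iv D13547) F41894
theorem F59530 : act 8 n13547 = n13547 := d44_1 D13547 (iv D13547) (iv D9344) F29562 D9344
def n13548 : Q := act 5 n9347
theorem D13548 : act 5 n9347 = n13548 := rfl
theorem F59531 : act 0 n13548 = n13548 := d4_1 D13548 (iv D13548) F41906
theorem F59532 : act 2 n13548 = n13548 := d19_1 D13548 (iv D13548) F41907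
theorem F59533 : act 3 n13548 = n13548 := d25_1 D13548 (iv D13548) F41908
theorem F59534 : act 6 n13548 = n13548 := d35_2 D9347 D13548 (iv D13548) (iv D9347) F29575
theorem F59535 : act 9 n13548 = n13548 := d38_2 F41910 D13548 (iv D13548)
def n13549 : Q := act 7 n9347
theorem D13549 : act 7 n9347 = n13549 := rfl
theorem F59536 : act 0 n13549 = n13549 := d6_1 D13549 (iv D13549) F41906
theorem F59537 : act 2 n13549 = n13549 := d21_1 D13549 (iv D13549) F41907
theorem F59538 : act 3 n13549 = n13549 := d27_1 D13549 (iv D13549) F41908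
theorem F59539 : act 4 n13549 = n9349 := d32_1 D13549 (iv D9349) (iv F41909)
theorem F59540 : act 6 n13549 = n13549 := d39_1 D13549 (iv D13549) (iv D9347) F29576 D9347
theorem F59541 : act 9 n13549 = n13549 := d43_2 F41910 D13549 (iv D13549)
def n13550 : Q := act 8 n9347
theorem D13550 : act 8 n9347 = n13550 := rfl
theorem F59542 : act 0 n13550 = n13550 := d7_1 D13550 (iv D13550) F41906
theorem F59543 : act 2 n13550 = n13550 := d22_1 D13550 (iv D13550) F41907
theorem F59544 : act 4 n13550 = n9350 := d33_1 D13550 (iv D9350) (iv F41909)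
theorem F59545 : act 6 n13550 = n9348 := d40_1 D13550 (iv D9348) D9347
def n13551 : Q := act 3 n9348
theorem D13551 : act 3 n9348 = n13551 := rfl
theorem F59546 : act 0 n13551 = n13551 := d2_1 D13551 (iv D13551) F41911
theorem F59547 : act 4 n13551 = n9472 := d24_2 (iv F41913) D13551 (iv D9472) F29952 (iv F29584)
theorem F59548 : act 5 n13551 = n13551 := d25_2 F41914 D13551 (iv D13551)
theorem F59549 : act 7 n13551 = n13551 := d27_2 F41915 D13551 (iv D13551)
theorem F59550 : act 8 n13551 = n13551 := d28_2 D9348 D13551 (iv D13551) (iv D9348) F29574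
def n13552 : Q := act 9 n9348
theorem D13552 : act 9 n9348 = n13552 := rfl
theorem F59551 : act 0 n13552 = n13552 := d8_1 D13552 (iv D13552) F41911
theorem F59552 : act 2 n13552 = n13552 := d23_1 D13552 (iv D13552) F41912
theorem F59553 : act 4 n13552 = n9351 := d34_1 D13552 (iv D9351) (iv F41913)
theorem F59554 : act 5 n13552 = n13552 := d38_1 D13552 (iv D13552) F41914
theorem F59555 : act 7 n13552 = n13552 := d43_1 D13552 (iv D13552) F41915
theorem F59556 : act 8 n13552 = n13552 := d44_1 D13552 (iv D13552) (iv D9348) F29577 D9348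
def n13553 : Q := act 8 n9349
theorem D13553 : act 8 n9349 = n13553 := rfl
theorem F59557 : act 0 n13553 = n13553 := d7_1 D13553 (iv D13553) F41916
theorem F59558 : act 2 n13553 = n13553 := d22_1 D13553 (iv D13553) F41917
theorem F59559 : act 3 n13553 = n9474 := d28_1 D13553 (iv D9474) F29957 (iv F29597) (iv F41918)
theorem F59560 : act 6 n13553 = n13553 := d40_1 D13553 (iv D13553) F41919
theorem F59561 : act 7 n13553 = n9350 := d42_1 D13553 (iv D9350) D9349
def n13554 : Q := act 9 n9350
theorem D13554 : act 9 n9350 = n13554 := rfl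
theorem F59562 : act 0 n13554 = n13554 := d8_1 D13554 (iv D13554) F41921
theorem F59563 : act 2 n13554 = n13554 := d23_1 D13554 (iv D13554) F41922
theorem F59564 : act 3 n13554 = n9475 := d29_1 D13554 (iv D9475) (iv F41923)
theorem F59565 : act 6 n13554 = n9351 := d41_1 D13554 (iv D9351) (iv F41924)
theorem F59566 : act 8 n13554 = n13554 := d44_1 D13554 (iv D13554) (iv D9350) F29581 D9350
def n13555 : Q := act 0 n9352
theorem D13555 : act 0 n9352 = n13555 := rfl
theorem F59569 : act 3 n13555 = n9774 := d2_2 (iv F41932) D13555 (iv D9774)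
theorem F59571 : act 6 n13555 = n9360 := d5_2 (iv F41934) D13555 (iv D9360)
theorem F59574 : act 9 n13555 = n9355 := d8_2 (iv F41937) D13555 (iv D9355)
def n13556 : Q := act 4 n9352
theorem D13556 : act 4 n9352 = n13556 := rfl
theorem F59575 : act 1 n13556 = n9353 := d11_1 D13556 (iv D9353) D9352
theorem F59576 : act 2 n13556 = n13556 := d18_1 D13556 (iv D13556) F41931
theorem F59577 : act 6 n13556 = n9361 := d31_2 (iv F41934) D13556 (iv D9361)
theorem F59578 : act 7 n13556 = n13556 := d32_2 F41935 D13556 (iv D13556)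
theorem F59579 : act 8 n13556 = n13556 := d33_2 F41936 D13556 (iv D13556)
theorem F59580 : act 9 n13556 = n9356 := d34_2 (iv F41937) D13556 (iv D9356)
def n13557 : Q := act 3 n9353
theorem D13557 : act 3 n9353 = n13557 := rfl
theorem F59581 : act 0 n13557 = n13557 := d2_1 D13557 (iv D13557) F41938
theorem F59582 : act 2 n13557 = n13557 := d17_1 D13557 (iv D13557) F41939 F29608 (iv F41939)
theorem F59583 : act 4 n13557 = n9776 := d24_2 D9353 D13557 (iv D9776) (iv D6746) (iv F29600)
theorem F59584 : act 6 n13557 = n9362 := d26_2 (iv F41940) D13557 (iv D9362)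
theorem F59585 : act 7 n13557 = n13557 := d27_2 F41941 D13557 (iv D13557)
theorem F59586 : act 9 n13557 = n9357 := d29_2 (iv F41943) D13557 (iv D9357)
def n13558 : Q := act 5 n9353
theorem D13558 : act 5 n9353 = n13558 := rfl
theorem F59587 : act 0 n13558 = n13558 := d4_1 D13558 (iv D13558) F41938
theorem F59588 : act 2 n13558 = n9354 := d19_1 D13558 (iv D9354) (iv F41939)
theorem F59589 : act 4 n13558 = n13558 := d30_1 D13558 (iv D13558) (iv D9353) F29601 D9353
theorem F59590 : act 7 n13558 = n13558 := d36_2 F41941 D13558 (iv D13558)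
theorem F59591 : act 8 n13558 = n13558 := d37_2 F41942 D13558 (iv D13558)
theorem F59592 : act 9 n13558 = n9358 := d38_2 (iv F41943) D13558 (iv D9358)
def n13559 : Q := act 6 n9354
theorem D13559 : act 6 n9354 = n13559 := rfl
theorem F59593 : act 0 n13559 = n13559 := d5_1 D13559 (iv D13559) F41944
theorem F59594 : act 1 n13559 = n13559 := d13_1 D13559 (iv D13559) F41945
theorem F59595 : act 3 n13559 = n13559 := d26_1 D13559 (iv D13559) F41946
theorem F59596 : act 4 n13559 = n13559 := d31_1 D13559 (iv D13559) F41947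
theorem F59597 : act 5 n13559 = n9364 := d35_1 D13559 (iv D9364) (iv D6470) (iv F29609) D9354
theorem F59598 : act 8 n13559 = n13559 := d40_2 F41949 D13559 (iv D13559)
theorem F59599 : act 9 n13559 = n9359 := d41_2 (iv F41950) D13559 (iv D9359)
def n13560 : Q := act 4 n9355
theorem D13560 : act 4 n9355 = n13560 := rfl
theorem F59600 : act 0 n13560 = n9356 := d3_1 D13560 (iv D9356) D9355
theorem F59601 : act 1 n13560 = n13560 := d11_1 D13560 (iv D13560) F41951
theorem F59602 : act 2 n13560 = n13560 := d18_1 D13560 (iv D13560) F41952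
theorem F59603 : act 6 n13560 = n9365 := d31_2 (iv F41955) D13560 (iv D9365)
theorem F59604 : act 7 n13560 = n13560 := d32_2 F41956 D13560 (iv D13560)
def n13561 : Q := act 3 n9356
theorem D13561 : act 3 n9356 = n13561 := rfl
theorem F59605 : act 1 n13561 = n9357 := d10_1 D13561 (iv D9357) (iv F41957)
theorem F59606 : act 4 n13561 = n9780 := d24_2 D9356 D13561 (iv D9780) (iv D6749) (iv F29614)
theorem F59607 : act 6 n13561 = n9366 := d26_2 (iv F41959) D13561 (iv D9366)
theorem F59608 : act 7 n13561 = n13561 := d27_2 F41960 D13561 (iv D13561)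
def n13562 : Q := act 5 n9356
theorem D13562 : act 5 n9356 = n13562 := rfl
theorem F59609 : act 1 n13562 = n9358 := d12_1 D13562 (iv D9358) (iv F41957)
theorem F59610 : act 2 n13562 = n13562 := d19_1 D13562 (iv D13562) F41958
theorem F59611 : act 4 n13562 = n13562 := d30_1 D13562 (iv D13562) (iv D9356) F29615 D9356
theorem F59612 : act 7 n13562 = n13562 := d36_2 F41960 D13562 (iv D13562)
def n13563 : Q := act 5 n9357
theorem D13563 : act 5 n9357 = n13563 := rfl
theorem F59613 : act 0 n13563 = n13563 := d4_1 D13563 (iv D13563) F41961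
theorem F59614 : act 2 n13563 = n13563 := d19_1 D13563 (iv D13563) F41962
theorem F59615 : act 3 n13563 = n9358 := d25_1 D13563 (iv D9358) D9357
theorem F59616 : act 7 n13563 = n13563 := d36_2 F41965 D13563 (iv D13563)
def n13564 : Q := act 8 n9357
theorem D13564 : act 8 n9357 = n13564 := rfl
theorem F59617 : act 0 n13564 = n13564 := d7_1 D13564 (iv D13564) F41961
theorem F59618 : act 2 n13564 = n13564 := d22_1 D13564 (iv D13564) F41962
theorem F59619 : act 4 n13564 = n9783 := d33_1 D13564 (iv D9783) (iv F41963)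
theorem F59620 : act 6 n13564 = n9369 := d40_1 D13564 (iv D9369) (iv F41964)
theorem F59621 : act 7 n13564 = n13564 := d42_1 D13564 (iv D13564) F41965
def n13565 : Q := act 6 n9358
theorem D13565 : act 6 n9358 = n13565 := rfl
theorem F59622 : act 0 n13565 = n13565 := d5_1 D13565 (iv D13565) F41966
theorem F59623 : act 2 n13565 = n9359 := d20_1 D13565 (iv D9359) (iv F41967)
theorem F59624 : act 4 n13565 = n13565 := d31_1 D13565 (iv D13565) F41968
theorem F59625 : act 5 n13565 = n9370 := d35_1 D13565 (iv D9370) (iv D6474) (iv F29620) D9358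
def n13566 : Q := act 7 n9359
theorem D13566 : act 7 n9359 = n13566 := rfl
theorem F59626 : act 0 n13566 = n13566 := d6_1 D13566 (iv D13566) F41970
theorem F59627 : act 1 n13566 = n13566 := d14_1 D13566 (iv D13566) F41971
theorem F59628 : act 3 n13566 = n13566 := d27_1 D13566 (iv D13566) F41972
theorem F59629 : act 4 n13566 = n13566 := d32_1 D13566 (iv D13566) F41973
theorem F59630 : act 5 n13566 = n9371 := d36_1 D13566 (iv D9371) (iv F41974)
theorem F59631 : act 6 n13566 = n13566 := d39_1 D13566 (iv D13566) (iv D9359) F29626 D9359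
def n13567 : Q := act 4 n9360
theorem D13567 : act 4 n9360 = n13567 := rfl
theorem F59632 : act 0 n13567 = n9361 := d3_1 D13567 (iv D9361) D9360
theorem F59637 : act 9 n13567 = n9365 := d34_2 (iv F41981) D13567 (iv D9365)
def n13568 : Q := act 3 n9361
theorem D13568 : act 3 n9361 = n13568 := rfl
theorem F59638 : act 1 n13568 = n9362 := d10_1 D13568 (iv D9362) (iv F41982)
theorem F59639 : act 4 n13568 = n9795 := d24_2 D9361 D13568 (iv D9795) (iv D6759) (iv F29628)
theorem F59640 : act 7 n13568 = n9373 := d27_2 (iv F41984) D13568 (iv D9373)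
theorem F59641 : act 9 n13568 = n9366 := d29_2 (iv F41986) D13568 (iv D9366)
def n13569 : Q := act 5 n9361
theorem D13569 : act 5 n9361 = n13569 := rfl
theorem F59642 : act 1 n13569 = n9363 := d12_1 D13569 (iv D9363) (iv F41982)
theorem F59643 : act 2 n13569 = n13569 := d19_1 D13569 (iv D13569) F41983
theorem F59644 : act 4 n13569 = n9392 := d30_1 D13569 (iv D9392) (iv D6489) (iv F29629) D9361
theorem F59645 : act 7 n13569 = n9374 := d36_2 (iv F41984) D13569 (iv D9374)
theorem F59646 : act 8 n13569 = n13569 := d37_2 F41985 D13569 (iv D13569)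
theorem F59647 : act 9 n13569 = n9367 := d38_2 (iv F41986) D13569 (iv D9367)
def n13570 : Q := act 5 n9362
theorem D13570 : act 5 n9362 = n13570 := rfl
theorem F59648 : act 0 n13570 = n13570 := d4_1 D13570 (iv D13570) F41987
theorem F59649 : act 2 n13570 = n13570 := d19_1 D13570 (iv D13570) F41988
theorem F59650 : act 3 n13570 = n9363 := d25_1 D13570 (iv D9363) D9362
theorem F59651 : act 7 n13570 = n9375 := d36_2 (iv F41990) D13570 (iv D9375)
theorem F59652 : act 9 n13570 = n9368 := d38_2 (iv F41991) D13570 (iv D9368)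
def n13571 : Q := act 8 n9362
theorem D13571 : act 8 n9362 = n13571 := rfl
theorem F59653 : act 0 n13571 = n13571 := d7_1 D13571 (iv D13571) F41987
theorem F59654 : act 2 n13571 = n13571 := d22_1 D13571 (iv D13571) F41988
theorem F59655 : act 3 n13571 = n13571 := d28_1 D13571 (iv D13571) (iv D9362) F29636 D9362
theorem F59656 : act 4 n13571 = n9798 := d33_1 D13571 (iv D9798) (iv F41989)
theorem F59657 : act 7 n13571 = n9376 := d42_1 D13571 (iv D9376) (iv F41990)
def n13572 : Q := act 6 n9363
theorem D13572 : act 6 n9363 = n13572 := rfl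
theorem F59658 : act 0 n13572 = n13572 := d5_1 D13572 (iv D13572) F41992
theorem F59659 : act 2 n13572 = n9364 := d20_1 D13572 (iv D9364) (iv F41993)
theorem F59660 : act 4 n13572 = n9395 := d31_1 D13572 (iv D9395) (iv F41994)
theorem F59661 : act 8 n13572 = n13572 := d40_2 F41996 D13572 (iv D13572)
theorem F59662 : act 9 n13572 = n9370 := d41_2 (iv F41997) D13572 (iv D9370)
def n13573 : Q := act 7 n9364
theorem D13573 : act 7 n9364 = n13573 := rfl
theorem F59663 : act 0 n13573 = n13573 := d6_1 D13573 (iv D13573) F41998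
theorem F59664 : act 1 n13573 = n13573 := d14_1 D13573 (iv D13573) F41999
theorem F59665 : act 3 n13573 = n13573 := d27_1 D13573 (iv D13573) F42000
theorem F59666 : act 4 n13573 = n9396 := d32_1 D13573 (iv D9396) (iv F42001)
theorem F59667 : act 6 n13573 = n9378 := d39_1 D13573 (iv D9378) (iv D6480) (iv F29642) D9364
theorem F59668 : act 8 n13573 = n13573 := d42_2 F42002 D13573 (iv D13573)
theorem F59669 : act 9 n13573 = n9371 := d43_2 (iv F42003) D13573 (iv D9371)
def n13574 : Q := act 3 n9365
theorem D13574 : act 3 n9365 = n13574 := rfl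
theorem F59670 : act 0 n13574 = n9366 := d2_1 D13574 (iv D9366) (iv F42004)
theorem F59671 : act 1 n13574 = n13574 := d10_1 D13574 (iv D13574) F42005
theorem F59672 : act 4 n13574 = n9801 := d24_2 D9365 D13574 (iv D9801) (iv D6763) (iv F29647)
theorem F59673 : act 7 n13574 = n9379 := d27_2 (iv F42007) D13574 (iv D9379)
def n13575 : Q := act 5 n9365
theorem D13575 : act 5 n9365 = n13575 := rfl
theorem F59674 : act 0 n13575 = n9367 := d4_1 D13575 (iv D9367) (iv F42004)
theorem F59675 : act 1 n13575 = n13575 := d12_1 D13575 (iv D13575) F42005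
theorem F59676 : act 2 n13575 = n13575 := d19_1 D13575 (iv D13575) F42006
theorem F59677 : act 4 n13575 = n9398 := d30_1 D13575 (iv D9398) (iv D6493) (iv F29648) D9365
theorem F59678 : act 7 n13575 = n9380 := d36_2 (iv F42007) D13575 (iv D9380)
def n13576 : Q := act 2 n9366
theorem D13576 : act 2 n9366 = n13576 := rfl
theorem F59679 : act 1 n13576 = n13576 := d9_1 D13576 (iv D13576) F42008 F29654 (iv F42008)
theorem F59680 : act 3 n13576 = n13576 := d17_2 D9366 D13576 (iv D13576) (iv D9366) F29651
theorem F59681 : act 4 n13576 = n9803 := d18_2 (iv F42009) D13576 (iv D9803)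
theorem F59682 : act 7 n13576 = n9381 := d21_2 (iv F42010) D13576 (iv D9381)
def n13577 : Q := act 5 n9366
theorem D13577 : act 5 n9366 = n13577 := rfl
theorem F59683 : act 1 n13577 = n9368 := d12_1 D13577 (iv D9368) (iv F42008)
theorem F59684 : act 3 n13577 = n9367 := d25_1 D13577 (iv D9367) D9366
theorem F59685 : act 7 n13577 = n9382 := d36_2 (iv F42010) D13577 (iv D9382)
def n13578 : Q := act 8 n9366
theorem D13578 : act 8 n9366 = n13578 := rfl
theorem F59686 : act 1 n13578 = n9369 := d15_1 D13578 (iv D9369) (iv F42008)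
theorem F59687 : act 4 n13578 = n9805 := d33_1 D13578 (iv D9805) (iv F42009)
theorem F59688 : act 7 n13578 = n9383 := d42_1 D13578 (iv D9383) (iv F42010)
def n13579 : Q := act 6 n9367
theorem D13579 : act 6 n9367 = n13579 := rfl
theorem F59689 : act 1 n13579 = n9370 := d13_1 D13579 (iv D9370) (iv F42011)
theorem F59690 : act 2 n13579 = n13579 := d20_1 D13579 (iv D13579) F42012
theorem F59691 : act 4 n13579 = n9402 := d31_1 D13579 (iv D9402) (iv F42013)
def n13580 : Q := act 4 n9368
theorem D13580 : act 4 n9368 = n13580 := rfl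
theorem F59692 : act 0 n13580 = n13580 := d3_1 D13580 (iv D13580) F42015
theorem F59693 : act 2 n13580 = n13580 := d18_1 D13580 (iv D13580) F42016
theorem F59694 : act 3 n13580 = n9403 := d24_1 D13580 (iv D9403) F29764 (iv F29659) (iv F42017)
theorem F59695 : act 5 n13580 = n9807 := d30_2 D9368 D13580 (iv D9807) (iv D6766) (iv F29655)
theorem F59696 : act 7 n13580 = n9385 := d32_2 (iv F42018) D13580 (iv D9385)
def n13581 : Q := act 6 n9368
theorem D13581 : act 6 n9368 = n13581 := rfl
theorem F59697 : act 0 n13581 = n13581 := d5_1 D13581 (iv D13581) F42015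
theorem F59698 : act 2 n13581 = n13581 := d20_1 D13581 (iv D13581) F42016
theorem F59699 : act 3 n13581 = n9370 := d26_1 D13581 (iv D9370) (iv F42017)
def n13582 : Q := act 8 n9368
theorem D13582 : act 8 n9368 = n13582 := rfl
theorem F59700 : act 0 n13582 = n13582 := d7_1 D13582 (iv D13582) F42015
theorem F59701 : act 2 n13582 = n13582 := d22_1 D13582 (iv D13582) F42016
theorem F59702 : act 5 n13582 = n9369 := d37_1 D13582 (iv D9369) D9368
theorem F59703 : act 7 n13582 = n9387 := d42_1 D13582 (iv D9387) (iv F42018)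
def n13583 : Q := act 9 n9369
theorem D13583 : act 9 n9369 = n13583 := rfl
theorem F59704 : act 0 n13583 = n13583 := d8_1 D13583 (iv D13583) F42019
theorem F59705 : act 2 n13583 = n13583 := d23_1 D13583 (iv D13583) F42020
theorem F59706 : act 4 n13583 = n9810 := d34_1 D13583 (iv D9810) (iv F42021)
theorem F59707 : act 7 n13583 = n9388 := d43_1 D13583 (iv D9388) (iv F42022)
def n13584 : Q := act 7 n9370
theorem D13584 : act 7 n9370 = n13584 := rfl
theorem F59708 : act 0 n13584 = n13584 := d6_1 D13584 (iv D13584) F42023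
theorem F59709 : act 2 n13584 = n9371 := d21_1 D13584 (iv D9371) (iv F42024)
theorem F59710 : act 4 n13584 = n9407 := d32_1 D13584 (iv D9407) (iv F42025)
theorem F59711 : act 6 n13584 = n9389 := d39_1 D13584 (iv D9389) (iv D6486) (iv F29660) D9370
def n13585 : Q := act 3 n9372
theorem D13585 : act 3 n9372 = n13585 := rfl
theorem F59712 : act 0 n13585 = n9373 := d2_1 D13585 (iv D9373) (iv F42031)
theorem F59714 : act 4 n13585 = n9824 := d24_2 D9372 D13585 (iv D9824) (iv D6778) (iv F29667)
theorem F59716 : act 9 n13585 = n9379 := d29_2 (iv F42036) D13585 (iv D9379)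
def n13586 : Q := act 5 n9372
theorem D13586 : act 5 n9372 = n13586 := rfl
theorem F59717 : act 0 n13586 = n9374 := d4_1 D13586 (iv D9374) (iv F42031)
theorem F59720 : act 4 n13586 = n9409 := d30_1 D13586 (iv D9409) (iv D6500) (iv F29668) D9372
theorem F59722 : act 9 n13586 = n9380 := d38_2 (iv F42036) D13586 (iv D9380)
def n13587 : Q := act 2 n9373
theorem D13587 : act 2 n9373 = n13587 := rfl
theorem F59723 : act 1 n13587 = n13587 := d9_1 D13587 (iv D13587) F42037 F29678 (iv F42037)
theorem F59724 : act 3 n13587 = n13587 := d17_2 D9373 D13587 (iv D13587) (iv D9373) F29673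
theorem F59725 : act 4 n13587 = n9826 := d18_2 (iv F42038) D13587 (iv D9826)
theorem F59726 : act 6 n13587 = n13587 := d20_2 F42039 D13587 (iv D13587)
theorem F59727 : act 9 n13587 = n9381 := d23_2 (iv F42040) D13587 (iv D9381)
def n13588 : Q := act 5 n9373
theorem D13588 : act 5 n9373 = n13588 := rfl
theorem F59728 : act 1 n13588 = n9375 := d12_1 D13588 (iv D9375) (iv F42037)
theorem F59729 : act 3 n13588 = n9374 := d25_1 D13588 (iv D9374) D9373
theorem F59730 : act 9 n13588 = n9382 := d38_2 (iv F42040) D13588 (iv D9382)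
def n13589 : Q := act 8 n9373
theorem D13589 : act 8 n9373 = n13589 := rfl
theorem F59731 : act 1 n13589 = n9376 := d15_1 D13589 (iv D9376) (iv F42037)
theorem F59732 : act 3 n13589 = n13589 := d28_1 D13589 (iv D13589) (iv D9373) F29675 D9373
theorem F59733 : act 4 n13589 = n9828 := d33_1 D13589 (iv D9828) (iv F42038)
theorem F59734 : act 6 n13589 = n13589 := d40_1 D13589 (iv D13589) F42039
def n13590 : Q := act 6 n9374
theorem D13590 : act 6 n9374 = n13590 := rfl
theorem F59735 : act 1 n13590 = n9377 := d13_1 D13590 (iv D9377) (iv F42041)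
theorem F59736 : act 2 n13590 = n13590 := d20_1 D13590 (iv D13590) F42042
theorem F59737 : act 4 n13590 = n9413 := d31_1 D13590 (iv D9413) (iv F42043)
theorem F59738 : act 5 n13590 = n13590 := d35_1 D13590 (iv D13590) (iv D9374) F29674 D9374
theorem F59739 : act 8 n13590 = n13590 := d40_2 F42044 D13590 (iv D13590)
theorem F59740 : act 9 n13590 = n9384 := d41_2 (iv F42045) D13590 (iv D9384)
def n13591 : Q := act 4 n9375
theorem D13591 : act 4 n9375 = n13591 := rfl
theorem F59741 : act 0 n13591 = n13591 := d3_1 D13591 (iv D13591) F42046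
theorem F59742 : act 2 n13591 = n13591 := d18_1 D13591 (iv D13591) F42047
theorem F59743 : act 3 n13591 = n9414 := d24_1 D13591 (iv D9414) F29795 (iv F29684) (iv F42048)
theorem F59744 : act 5 n13591 = n9830 := d30_2 D9375 D13591 (iv D9830) (iv D6781) (iv F29679)
theorem F59745 : act 9 n13591 = n9385 := d34_2 (iv F42049) D13591 (iv D9385)
def n13592 : Q := act 6 n9375
theorem D13592 : act 6 n9375 = n13592 := rfl
theorem F59746 : act 0 n13592 = n13592 := d5_1 D13592 (iv D13592) F42046
theorem F59747 : act 2 n13592 = n13592 := d20_1 D13592 (iv D13592) F42047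
theorem F59748 : act 3 n13592 = n9377 := d26_1 D13592 (iv D9377) (iv F42048)
theorem F59749 : act 5 n13592 = n13592 := d35_1 D13592 (iv D13592) (iv D9375) F29680 D9375
theorem F59750 : act 9 n13592 = n9386 := d41_2 (iv F42049) D13592 (iv D9386)
def n13593 : Q := act 8 n9375
theorem D13593 : act 8 n9375 = n13593 := rfl
theorem F59751 : act 0 n13593 = n13593 := d7_1 D13593 (iv D13593) F42046
theorem F59752 : act 2 n13593 = n13593 := d22_1 D13593 (iv D13593) F42047
theorem F59753 : act 3 n13593 = n13593 := d28_1 D13593 (iv D13593) F42048 F29685 (iv F42048)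
theorem F59754 : act 5 n13593 = n9376 := d37_1 D13593 (iv D9376) D9375
def n13594 : Q := act 9 n9376
theorem D13594 : act 9 n9376 = n13594 := rfl
theorem F59755 : act 0 n13594 = n13594 := d8_1 D13594 (iv D13594) F42050
theorem F59756 : act 2 n13594 = n13594 := d23_1 D13594 (iv D13594) F42051
theorem F59757 : act 3 n13594 = n13594 := d29_1 D13594 (iv D13594) F42052
theorem F59758 : act 4 n13594 = n9833 := d34_1 D13594 (iv D9833) (iv F42053)
theorem F59759 : act 6 n13594 = n13594 := d41_1 D13594 (iv D13594) F42054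
theorem F59760 : act 8 n13594 = n9388 := d44_1 D13594 (iv D9388) (iv D6485) (iv F29681) D9376
def n13595 : Q := act 7 n9377
theorem D13595 : act 7 n9377 = n13595 := rfl
theorem F59761 : act 0 n13595 = n13595 := d6_1 D13595 (iv D13595) F42055
theorem F59762 : act 2 n13595 = n9378 := d21_1 D13595 (iv D9378) (iv F42056)
theorem F59763 : act 4 n13595 = n9418 := d32_1 D13595 (iv D9418) (iv F42057)
theorem F59764 : act 5 n13595 = n13595 := d36_1 D13595 (iv D13595) F42058
theorem F59765 : act 8 n13595 = n13595 := d42_2 F42059 D13595 (iv D13595)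
theorem F59766 : act 9 n13595 = n9389 := d43_2 (iv F42060) D13595 (iv D9389)
def n13596 : Q := act 2 n9379
theorem D13596 : act 2 n9379 = n13596 := rfl
theorem F59767 : act 0 n13596 = n9381 := d1_1 D13596 (iv D9381) (iv F42068)
theorem F59769 : act 4 n13596 = n9835 := d18_2 (iv F42070) D13596 (iv D9835)
def n13597 : Q := act 5 n9379
theorem D13597 : act 5 n9379 = n13597 := rfl
theorem F59771 : act 0 n13597 = n9382 := d4_1 D13597 (iv D9382) (iv F42068)
theorem F59772 : act 1 n13597 = n13597 := d12_1 D13597 (iv D13597) F42069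
theorem F59773 : act 3 n13597 = n9380 := d25_1 D13597 (iv D9380) D9379
def n13598 : Q := act 8 n9379
theorem D13598 : act 8 n9379 = n13598 := rfl
theorem F59776 : act 4 n13598 = n9837 := d33_1 D13598 (iv D9837) (iv F42070)
def n13599 : Q := act 6 n9380
theorem D13599 : act 6 n9380 = n13599 := rfl
theorem F59778 : act 0 n13599 = n9384 := d5_1 D13599 (iv D9384) (iv F42072)
theorem F59779 : act 1 n13599 = n13599 := d13_1 D13599 (iv D13599) F42073
theorem F59780 : act 2 n13599 = n13599 := d20_1 D13599 (iv D13599) F42074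
theorem F59781 : act 4 n13599 = n9422 := d31_1 D13599 (iv D9422) (iv F42075)
theorem F59782 : act 5 n13599 = n13599 := d35_1 D13599 (iv D13599) (iv D9380) F29697 D9380
def n13600 : Q := act 5 n9381
theorem D13600 : act 5 n9381 = n13600 := rfl
theorem F59783 : act 1 n13600 = n13600 := d12_1 D13600 (iv D13600) F42076
theorem F59784 : act 2 n13600 = n9382 := d19_1 D13600 (iv D9382) D9381
theorem F59785 : act 3 n13600 = n13600 := d25_1 D13600 (iv D13600) F42077
def n13602 : Q := act 4 n9382
theorem D13602 : act 4 n9382 = n13602 := rfl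
theorem F59790 : act 1 n13602 = n9385 := d11_1 D13602 (iv D9385) (iv F42080)
theorem F59791 : act 3 n13602 = n9425 := d24_1 D13602 (iv D9425) F29825 (iv F29703) (iv F42081)
theorem F59792 : act 5 n13602 = n9841 := d30_2 D9382 D13602 (iv D9841) (iv D6788) (iv F29699)
def n13603 : Q := act 6 n9382
theorem D13603 : act 6 n9382 = n13603 := rfl
theorem F59793 : act 1 n13603 = n9386 := d13_1 D13603 (iv D9386) (iv F42080)
theorem F59794 : act 3 n13603 = n9384 := d26_1 D13603 (iv D9384) (iv F42081)
theorem F59795 : act 5 n13603 = n13603 := d35_1 D13603 (iv D13603) (iv D9382) F29700 D9382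
def n13604 : Q := act 8 n9382
theorem D13604 : act 8 n9382 = n13604 := rfl
theorem F59796 : act 1 n13604 = n9387 := d15_1 D13604 (iv D9387) (iv F42080)
theorem F59797 : act 5 n13604 = n9383 := d37_1 D13604 (iv D9383) D9382
def n13605 : Q := act 9 n9383
theorem D13605 : act 9 n9383 = n13605 := rfl
theorem F59799 : act 4 n13605 = n9844 := d34_1 D13605 (iv D9844) (iv F42083)
def n13606 : Q := act 7 n9384
theorem D13606 : act 7 n9384 = n13606 := rfl
theorem F59801 : act 1 n13606 = n9389 := d14_1 D13606 (iv D9389) (iv F42085)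
theorem F59802 : act 2 n13606 = n13606 := d21_1 D13606 (iv D13606) F42086
theorem F59803 : act 4 n13606 = n9429 := d32_1 D13606 (iv D9429) (iv F42087)
theorem F59804 : act 5 n13606 = n13606 := d36_1 D13606 (iv D13606) F42088
def n13607 : Q := act 6 n9385
theorem D13607 : act 6 n9385 = n13607 := rfl
theorem F59805 : act 0 n13607 = n13607 := d5_1 D13607 (iv D13607) F42089
theorem F59806 : act 2 n13607 = n13607 := d20_1 D13607 (iv D13607) F42090
theorem F59807 : act 3 n13607 = n9430 := d26_1 D13607 (iv D9430) (iv F42091)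
theorem F59808 : act 4 n13607 = n9386 := d31_1 D13607 (iv D9386) D9385
def n13608 : Q := act 8 n9385
theorem D13608 : act 8 n9385 = n13608 := rfl
theorem F59809 : act 0 n13608 = n13608 := d7_1 D13608 (iv D13608) F42089
theorem F59810 : act 2 n13608 = n13608 := d22_1 D13608 (iv D13608) F42090
theorem F59811 : act 4 n13608 = n9387 := d33_1 D13608 (iv D9387) D9385
theorem F59812 : act 5 n13608 = n9847 := d37_1 D13608 (iv D9847) (iv F42092)
def n13609 : Q := act 7 n9386
theorem D13609 : act 7 n9386 = n13609 := rfl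
theorem F59813 : act 0 n13609 = n13609 := d6_1 D13609 (iv D13609) F42093
theorem F59814 : act 2 n13609 = n13609 := d21_1 D13609 (iv D13609) F42094
theorem F59815 : act 3 n13609 = n9389 := d27_1 D13609 (iv D9389) (iv F42095)
theorem F59816 : act 5 n13609 = n13609 := d36_1 D13609 (iv D13609) F42096
def n13610 : Q := act 8 n9386
theorem D13610 : act 8 n9386 = n13610 := rfl
theorem F59817 : act 0 n13610 = n13610 := d7_1 D13610 (iv D13610) F42093
theorem F59818 : act 2 n13610 = n13610 := d22_1 D13610 (iv D13610) F42094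
theorem F59819 : act 5 n13610 = n13610 := d37_1 D13610 (iv D13610) F42096
theorem F59820 : act 6 n13610 = n9387 := d40_1 D13610 (iv D9387) D9386
def n13611 : Q := act 9 n9387
theorem D13611 : act 9 n9387 = n13611 := rfl
theorem F59821 : act 0 n13611 = n13611 := d8_1 D13611 (iv D13611) F42097
theorem F59822 : act 2 n13611 = n13611 := d23_1 D13611 (iv D13611) F42098
theorem F59823 : act 5 n13611 = n9388 := d38_1 D13611 (iv D9388) (iv F42099)
def n13612 : Q := act 3 n9390
theorem D13612 : act 3 n9390 = n13612 := rfl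
theorem F59824 : act 0 n13612 = n9391 := d2_1 D13612 (iv D9391) (iv F42108)
theorem F59826 : act 4 n13612 = n9858 := d24_2 D9390 D13612 (iv D9858) (iv D6801) (iv F29722)
theorem F59828 : act 7 n13612 = n9408 := d27_2 (iv F42112) D13612 (iv D9408)
theorem F59829 : act 9 n13612 = n9397 := d29_2 (iv F42114) D13612 (iv D9397)
def n13613 : Q := act 5 n9390
theorem D13613 : act 5 n9390 = n13613 := rfl
theorem F59830 : act 0 n13613 = n9392 := d4_1 D13613 (iv D9392) (iv F42108)
theorem F59835 : act 9 n13613 = n9398 := d38_2 (iv F42114) D13613 (iv D9398)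
def n13614 : Q := act 2 n9391
theorem D13614 : act 2 n9391 = n13614 := rfl
theorem F59836 : act 1 n13614 = n9485 := d9_1 D13614 (iv D9485) F30005 (iv F29734) (iv F42115)
theorem F59837 : act 3 n13614 = n13614 := d17_2 D9391 D13614 (iv D13614) (iv D9391) F29728
theorem F59838 : act 4 n13614 = n9860 := d18_2 (iv F42116) D13614 (iv D9860)
theorem F59839 : act 6 n13614 = n13614 := d20_2 F42117 D13614 (iv D13614)
theorem F59840 : act 7 n13614 = n9410 := d21_2 (iv F42118) D13614 (iv D9410)
theorem F59841 : act 9 n13614 = n9399 := d23_2 (iv F42119) D13614 (iv D9399)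
def n13615 : Q := act 5 n9391
theorem D13615 : act 5 n9391 = n13615 := rfl
theorem F59842 : act 1 n13615 = n9393 := d12_1 D13615 (iv D9393) (iv F42115)
theorem F59843 : act 3 n13615 = n9392 := d25_1 D13615 (iv D9392) D9391
theorem F59844 : act 7 n13615 = n9411 := d36_2 (iv F42118) D13615 (iv D9411)
theorem F59845 : act 9 n13615 = n9400 := d38_2 (iv F42119) D13615 (iv D9400)
def n13616 : Q := act 8 n9391
theorem D13616 : act 8 n9391 = n13616 := rfl
theorem F59846 : act 1 n13616 = n9394 := d15_1 D13616 (iv D9394) (iv F42115)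
theorem F59847 : act 3 n13616 = n13616 := d28_1 D13616 (iv D13616) (iv D9391) F29731 D9391
theorem F59848 : act 4 n13616 = n9862 := d33_1 D13616 (iv D9862) (iv F42116)
theorem F59849 : act 6 n13616 = n13616 := d40_1 D13616 (iv D13616) F42117
theorem F59850 : act 7 n13616 = n9412 := d42_1 D13616 (iv D9412) (iv F42118)
def n13617 : Q := act 6 n9392
theorem D13617 : act 6 n9392 = n13617 := rfl
theorem F59851 : act 1 n13617 = n9395 := d13_1 D13617 (iv D9395) (iv F42120)
theorem F59852 : act 2 n13617 = n13617 := d20_1 D13617 (iv D13617) F42121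
theorem F59853 : act 5 n13617 = n13617 := d35_1 D13617 (iv D13617) (iv D9392) F29729 D9392
theorem F59854 : act 8 n13617 = n13617 := d40_2 F42123 D13617 (iv D13617)
theorem F59855 : act 9 n13617 = n9402 := d41_2 (iv F42124) D13617 (iv D9402)
def n13618 : Q := act 4 n9393
theorem D13618 : act 4 n9393 = n13618 := rfl
theorem F59856 : act 0 n13618 = n13618 := d3_1 D13618 (iv D13618) F42125
theorem F59857 : act 2 n13618 = n9489 := d18_1 D13618 (iv D9489) (iv F42126)
theorem F59858 : act 5 n13618 = n9864 := d30_2 D9393 D13618 (iv D9864) (iv D6804) (iv F29735)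
theorem F59859 : act 7 n13618 = n9414 := d32_2 (iv F42128) D13618 (iv D9414)
theorem F59860 : act 9 n13618 = n9403 := d34_2 (iv F42129) D13618 (iv D9403)
def n13619 : Q := act 6 n9393
theorem D13619 : act 6 n9393 = n13619 := rfl
theorem F59861 : act 0 n13619 = n13619 := d5_1 D13619 (iv D13619) F42125
theorem F59862 : act 2 n13619 = n9490 := d20_1 D13619 (iv D9490) (iv F42126)
theorem F59863 : act 3 n13619 = n9395 := d26_1 D13619 (iv D9395) (iv F42127)
theorem F59864 : act 5 n13619 = n13619 := d35_1 D13619 (iv D13619) (iv D9393) F29736 D9393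
theorem F59865 : act 9 n13619 = n9404 := d41_2 (iv F42129) D13619 (iv D9404)
def n13620 : Q := act 8 n9393
theorem D13620 : act 8 n9393 = n13620 := rfl
theorem F59866 : act 0 n13620 = n13620 := d7_1 D13620 (iv D13620) F42125
theorem F59867 : act 2 n13620 = n9491 := d22_1 D13620 (iv D9491) (iv F42126)
theorem F59868 : act 3 n13620 = n13620 := d28_1 D13620 (iv D13620) F42127 F29742 (iv F42127)
theorem F59869 : act 5 n13620 = n9394 := d37_1 D13620 (iv D9394) D9393
theorem F59870 : act 7 n13620 = n9416 := d42_1 D13620 (iv D9416) (iv F42128)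
def n13621 : Q := act 9 n9394
theorem D13621 : act 9 n9394 = n13621 := rfl
theorem F59871 : act 0 n13621 = n13621 := d8_1 D13621 (iv D13621) F42130
theorem F59872 : act 2 n13621 = n9492 := d23_1 D13621 (iv D9492) (iv F42131)
theorem F59873 : act 3 n13621 = n13621 := d29_1 D13621 (iv D13621) F42132
theorem F59874 : act 4 n13621 = n9867 := d34_1 D13621 (iv D9867) (iv F42133)
theorem F59875 : act 6 n13621 = n13621 := d41_1 D13621 (iv D13621) F42134
theorem F59876 : act 7 n13621 = n9417 := d43_1 D13621 (iv D9417) (iv F42135)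
theorem F59877 : act 8 n13621 = n9406 := d44_1 D13621 (iv D9406) (iv D6497) (iv F29738) D9394
def n13622 : Q := act 7 n9395
theorem D13622 : act 7 n9395 = n13622 := rfl
theorem F59878 : act 0 n13622 = n13622 := d6_1 D13622 (iv D13622) F42136
theorem F59879 : act 2 n13622 = n9396 := d21_1 D13622 (iv D9396) (iv F42137)
theorem F59880 : act 5 n13622 = n13622 := d36_1 D13622 (iv D13622) F42138
theorem F59881 : act 6 n13622 = n9418 := d39_1 D13622 (iv D9418) (iv D6505) (iv F29741) D9395
theorem F59882 : act 8 n13622 = n13622 := d42_2 F42139 D13622 (iv D13622)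
theorem F59883 : act 9 n13622 = n9407 := d43_2 (iv F42140) D13622 (iv D9407)
def n13623 : Q := act 2 n9397
theorem D13623 : act 2 n9397 = n13623 := rfl
theorem F59884 : act 0 n13623 = n9399 := d1_1 D13623 (iv D9399) (iv F42148)
theorem F59885 : act 3 n13623 = n13623 := d17_2 D9397 D13623 (iv D13623) (iv D9397) F29752
theorem F59886 : act 4 n13623 = n9869 := d18_2 (iv F42150) D13623 (iv D9869)
theorem F59887 : act 6 n13623 = n13623 := d20_2 F42151 D13623 (iv D13623)
theorem F59888 : act 7 n13623 = n9419 := d21_2 (iv F42152) D13623 (iv D9419)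
def n13624 : Q := act 5 n9397
theorem D13624 : act 5 n9397 = n13624 := rfl
theorem F59889 : act 0 n13624 = n9400 := d4_1 D13624 (iv D9400) (iv F42148)
theorem F59890 : act 1 n13624 = n13624 := d12_1 D13624 (iv D13624) F42149
theorem F59891 : act 3 n13624 = n9398 := d25_1 D13624 (iv D9398) D9397
theorem F59892 : act 7 n13624 = n9420 := d36_2 (iv F42152) D13624 (iv D9420)
def n13625 : Q := act 8 n9397
theorem D13625 : act 8 n9397 = n13625 := rfl
theorem F59893 : act 0 n13625 = n9401 := d7_1 D13625 (iv D9401) (iv F42148)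
theorem F59894 : act 1 n13625 = n13625 := d15_1 D13625 (iv D13625) F42149
theorem F59895 : act 4 n13625 = n9871 := d33_1 D13625 (iv D9871) (iv F42150)
theorem F59896 : act 6 n13625 = n13625 := d40_1 D13625 (iv D13625) F42151
theorem F59897 : act 7 n13625 = n9421 := d42_1 D13625 (iv D9421) (iv F42152)
def n13626 : Q := act 6 n9398
theorem D13626 : act 6 n9398 = n13626 := rfl
theorem F59898 : act 0 n13626 = n9402 := d5_1 D13626 (iv D9402) (iv F42153)
theorem F59899 : act 1 n13626 = n13626 := d13_1 D13626 (iv D13626) F42154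
theorem F59900 : act 2 n13626 = n13626 := d20_1 D13626 (iv D13626) F42155
theorem F59901 : act 5 n13626 = n13626 := d35_1 D13626 (iv D13626) (iv D9398) F29753 D9398
def n13627 : Q := act 5 n9399
theorem D13627 : act 5 n9399 = n13627 := rfl
theorem F59902 : act 1 n13627 = n9498 := d12_1 D13627 (iv D9498) (iv F42157)
theorem F59903 : act 2 n13627 = n9400 := d19_1 D13627 (iv D9400) D9399
theorem F59904 : act 3 n13627 = n13627 := d25_1 D13627 (iv D13627) F42158
theorem F59905 : act 7 n13627 = n9423 := d36_2 (iv F42161) D13627 (iv D9423)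
def n13628 : Q := act 8 n9399
theorem D13628 : act 8 n9399 = n13628 := rfl
theorem F59906 : act 1 n13628 = n9499 := d15_1 D13628 (iv D9499) (iv F42157)
theorem F59907 : act 2 n13628 = n9401 := d22_1 D13628 (iv D9401) D9399
theorem F59908 : act 4 n13628 = n9874 := d33_1 D13628 (iv D9874) (iv F42159)
theorem F59909 : act 6 n13628 = n13628 := d40_1 D13628 (iv D13628) F42160
theorem F59910 : act 7 n13628 = n9424 := d42_1 D13628 (iv D9424) (iv F42161)
def n13629 : Q := act 4 n9400
theorem D13629 : act 4 n9400 = n13629 := rfl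
theorem F59911 : act 1 n13629 = n9403 := d11_1 D13629 (iv D9403) (iv F42162)
theorem F59912 : act 5 n13629 = n9875 := d30_2 D9400 D13629 (iv D9875) (iv D6811) (iv F29756)
theorem F59913 : act 7 n13629 = n9425 := d32_2 (iv F42164) D13629 (iv D9425)
def n13630 : Q := act 6 n9400
theorem D13630 : act 6 n9400 = n13630 := rfl
theorem F59914 : act 1 n13630 = n9404 := d13_1 D13630 (iv D9404) (iv F42162)
theorem F59915 : act 3 n13630 = n9402 := d26_1 D13630 (iv D9402) (iv F42163)
theorem F59916 : act 5 n13630 = n13630 := d35_1 D13630 (iv D13630) (iv D9400) F29757 D9400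
def n13631 : Q := act 8 n9400
theorem D13631 : act 8 n9400 = n13631 := rfl
theorem F59917 : act 1 n13631 = n9405 := d15_1 D13631 (iv D9405) (iv F42162)
theorem F59918 : act 5 n13631 = n9401 := d37_1 D13631 (iv D9401) D9400
theorem F59919 : act 7 n13631 = n9427 := d42_1 D13631 (iv D9427) (iv F42164)
def n13632 : Q := act 9 n9401
theorem D13632 : act 9 n9401 = n13632 := rfl
theorem F59920 : act 1 n13632 = n9406 := d16_1 D13632 (iv D9406) (iv F42165)
theorem F59921 : act 4 n13632 = n9878 := d34_1 D13632 (iv D9878) (iv F42166)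
theorem F59922 : act 6 n13632 = n13632 := d41_1 D13632 (iv D13632) F42167
theorem F59923 : act 7 n13632 = n9428 := d43_1 D13632 (iv D9428) (iv F42168)
def n13633 : Q := act 7 n9402
theorem D13633 : act 7 n9402 = n13633 := rfl
theorem F59924 : act 1 n13633 = n9407 := d14_1 D13633 (iv D9407) (iv F42169)
theorem F59925 : act 2 n13633 = n13633 := d21_1 D13633 (iv D13633) F42170
theorem F59926 : act 5 n13633 = n13633 := d36_1 D13633 (iv D13633) F42171
theorem F59927 : act 6 n13633 = n9429 := d39_1 D13633 (iv D9429) (iv D6512) (iv F29761) D9402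
def n13634 : Q := act 6 n9403
theorem D13634 : act 6 n9403 = n13634 := rfl
theorem F59928 : act 0 n13634 = n13634 := d5_1 D13634 (iv D13634) F42172
theorem F59929 : act 2 n13634 = n9505 := d20_1 D13634 (iv D9505) (iv F42173)
theorem F59930 : act 4 n13634 = n9404 := d31_1 D13634 (iv D9404) D9403
def n13635 : Q := act 8 n9403
theorem D13635 : act 8 n9403 = n13635 := rfl
theorem F59931 : act 0 n13635 = n13635 := d7_1 D13635 (iv D13635) F42172
theorem F59932 : act 2 n13635 = n9506 := d22_1 D13635 (iv D9506) (iv F42173)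
theorem F59933 : act 4 n13635 = n9405 := d33_1 D13635 (iv D9405) D9403
theorem F59934 : act 5 n13635 = n9881 := d37_1 D13635 (iv D9881) (iv F42174)
theorem F59935 : act 7 n13635 = n9431 := d42_1 D13635 (iv D9431) (iv F42175)
def n13636 : Q := act 7 n9404
theorem D13636 : act 7 n9404 = n13636 := rfl
theorem F59936 : act 0 n13636 = n13636 := d6_1 D13636 (iv D13636) F42176
theorem F59937 : act 2 n13636 = n9507 := d21_1 D13636 (iv D9507) (iv F42177)
theorem F59938 : act 3 n13636 = n9407 := d27_1 D13636 (iv D9407) (iv F42178)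
theorem F59939 : act 5 n13636 = n13636 := d36_1 D13636 (iv D13636) F42179
theorem F59940 : act 6 n13636 = n9432 := d39_1 D13636 (iv D9432) (iv D6514) (iv F29765) D9404
def n13637 : Q := act 8 n9404
theorem D13637 : act 8 n9404 = n13637 := rfl
theorem F59941 : act 0 n13637 = n13637 := d7_1 D13637 (iv D13637) F42176
theorem F59942 : act 2 n13637 = n9508 := d22_1 D13637 (iv D9508) (iv F42177)
theorem F59943 : act 5 n13637 = n13637 := d37_1 D13637 (iv D13637) F42179
theorem F59944 : act 6 n13637 = n9405 := d40_1 D13637 (iv D9405) D9404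
def n13638 : Q := act 9 n9405
theorem D13638 : act 9 n9405 = n13638 := rfl
theorem F59945 : act 0 n13638 = n13638 := d8_1 D13638 (iv D13638) F42180
theorem F59946 : act 2 n13638 = n9509 := d23_1 D13638 (iv D9509) (iv F42181)
theorem F59947 : act 5 n13638 = n9406 := d38_1 D13638 (iv D9406) (iv F42182)
theorem F59948 : act 7 n13638 = n9434 := d43_1 D13638 (iv D9434) (iv F42183)
def n13639 : Q := act 2 n9408
theorem D13639 : act 2 n9408 = n13639 := rfl
theorem F59949 : act 0 n13639 = n9410 := d1_1 D13639 (iv D9410) (iv F42193)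
theorem F59951 : act 4 n13639 = n9896 := d18_2 (iv F42195) D13639 (iv D9896)
theorem F59953 : act 9 n13639 = n9419 := d23_2 (iv F42197) D13639 (iv D9419)
def n13640 : Q := act 5 n9408
theorem D13640 : act 5 n9408 = n13640 := rfl
theorem F59954 : act 0 n13640 = n9411 := d4_1 D13640 (iv D9411) (iv F42193)
theorem F59957 : act 9 n13640 = n9420 := d38_2 (iv F42197) D13640 (iv D9420)
def n13641 : Q := act 8 n9408
theorem D13641 : act 8 n9408 = n13641 := rfl
theorem F59958 : act 0 n13641 = n9412 := d7_1 D13641 (iv D9412) (iv F42193)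
theorem F59961 : act 4 n13641 = n9898 := d33_1 D13641 (iv D9898) (iv F42195)
def n13642 : Q := act 6 n9409
theorem D13642 : act 6 n9409 = n13642 := rfl
theorem F59963 : act 0 n13642 = n9413 := d5_1 D13642 (iv D9413) (iv F42198)
theorem F59968 : act 9 n13642 = n9422 := d41_2 (iv F42202) D13642 (iv D9422)
def n13643 : Q := act 5 n9410
theorem D13643 : act 5 n9410 = n13643 := rfl
theorem F59969 : act 1 n13643 = n9525 := d12_1 D13643 (iv D9525) (iv F42203)
theorem F59970 : act 2 n13643 = n9411 := d19_1 D13643 (iv D9411) D9410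
theorem F59971 : act 3 n13643 = n13643 := d25_1 D13643 (iv D13643) F42204
theorem F59972 : act 9 n13643 = n9423 := d38_2 (iv F42207) D13643 (iv D9423)
def n13644 : Q := act 8 n9410
theorem D13644 : act 8 n9410 = n13644 := rfl
theorem F59973 : act 1 n13644 = n9526 := d15_1 D13644 (iv D9526) (iv F42203)
theorem F59974 : act 2 n13644 = n9412 := d22_1 D13644 (iv D9412) D9410
theorem F59975 : act 4 n13644 = n9901 := d33_1 D13644 (iv D9901) (iv F42205)
theorem F59976 : act 6 n13644 = n9440 := d40_1 D13644 (iv D9440) (iv F42206)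
def n13645 : Q := act 4 n9411
theorem D13645 : act 4 n9411 = n13645 := rfl
theorem F59977 : act 1 n13645 = n9414 := d11_1 D13645 (iv D9414) (iv F42208)
theorem F59978 : act 5 n13645 = n9902 := d30_2 D9411 D13645 (iv D9902) (iv D6829) (iv F29786)
theorem F59979 : act 9 n13645 = n9425 := d34_2 (iv F42210) D13645 (iv D9425)
def n13646 : Q := act 6 n9411
theorem D13646 : act 6 n9411 = n13646 := rfl
theorem F59980 : act 1 n13646 = n9415 := d13_1 D13646 (iv D9415) (iv F42208)
theorem F59981 : act 3 n13646 = n9413 := d26_1 D13646 (iv D9413) (iv F42209)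
theorem F59982 : act 5 n13646 = n9442 := d35_1 D13646 (iv D9442) (iv D6521) (iv F29787) D9411
theorem F59983 : act 9 n13646 = n9426 := d41_2 (iv F42210) D13646 (iv D9426)
def n13647 : Q := act 8 n9411
theorem D13647 : act 8 n9411 = n13647 := rfl
theorem F59984 : act 1 n13647 = n9416 := d15_1 D13647 (iv D9416) (iv F42208)
theorem F59985 : act 3 n13647 = n13647 := d28_1 D13647 (iv D13647) F42209 F29791 (iv F42209)
theorem F59986 : act 5 n13647 = n9412 := d37_1 D13647 (iv D9412) D9411
def n13648 : Q := act 9 n9412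
theorem D13648 : act 9 n9412 = n13648 := rfl
theorem F59987 : act 1 n13648 = n9417 := d16_1 D13648 (iv D9417) (iv F42211)
theorem F59988 : act 3 n13648 = n13648 := d29_1 D13648 (iv D13648) F42212
theorem F59989 : act 4 n13648 = n9905 := d34_1 D13648 (iv D9905) (iv F42213)
theorem F59990 : act 6 n13648 = n9444 := d41_1 D13648 (iv D9444) (iv F42214)
theorem F59991 : act 8 n13648 = n9428 := d44_1 D13648 (iv D9428) (iv D6511) (iv F29788) D9412
def n13649 : Q := act 7 n9413
theorem D13649 : act 7 n9413 = n13649 := rfl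
theorem F59992 : act 1 n13649 = n9418 := d14_1 D13649 (iv D9418) (iv F42215)
theorem F59993 : act 2 n13649 = n13649 := d21_1 D13649 (iv D13649) F42216
theorem F59994 : act 5 n13649 = n9445 := d36_1 D13649 (iv D9445) (iv F42217)
theorem F59995 : act 8 n13649 = n13649 := d42_2 F42218 D13649 (iv D13649)
theorem F59996 : act 9 n13649 = n9429 := d43_2 (iv F42219) D13649 (iv D9429)
def n13650 : Q := act 6 n9414
theorem D13650 : act 6 n9414 = n13650 := rfl
theorem F59997 : act 0 n13650 = n13650 := d5_1 D13650 (iv D13650) F42220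
theorem F59998 : act 2 n13650 = n9532 := d20_1 D13650 (iv D9532) (iv F42221)
theorem F59999 : act 4 n13650 = n9415 := d31_1 D13650 (iv D9415) D9414
theorem F60000 : act 9 n13650 = n9430 := d41_2 (iv F42223) D13650 (iv D9430)
def n13651 : Q := act 8 n9414
theorem D13651 : act 8 n9414 = n13651 := rfl
theorem F60001 : act 0 n13651 = n13651 := d7_1 D13651 (iv D13651) F42220
theorem F60002 : act 2 n13651 = n9533 := d22_1 D13651 (iv D9533) (iv F42221)
theorem F60003 : act 4 n13651 = n9416 := d33_1 D13651 (iv D9416) D9414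
theorem F60004 : act 5 n13651 = n9908 := d37_1 D13651 (iv D9908) (iv F42222)
def n13652 : Q := act 7 n9415
theorem D13652 : act 7 n9415 = n13652 := rfl
theorem F60005 : act 0 n13652 = n13652 := d6_1 D13652 (iv D13652) F42224
theorem F60006 : act 2 n13652 = n9534 := d21_1 D13652 (iv D9534) (iv F42225)
theorem F60007 : act 3 n13652 = n9418 := d27_1 D13652 (iv D9418) (iv F42226)
theorem F60008 : act 5 n13652 = n9448 := d36_1 D13652 (iv D9448) (iv F42227)
theorem F60009 : act 9 n13652 = n9432 := d43_2 (iv F42228) D13652 (iv D9432)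
def n13653 : Q := act 8 n9415
theorem D13653 : act 8 n9415 = n13653 := rfl
theorem F60010 : act 0 n13653 = n13653 := d7_1 D13653 (iv D13653) F42224
theorem F60011 : act 2 n13653 = n9535 := d22_1 D13653 (iv D9535) (iv F42225)
theorem F60012 : act 3 n13653 = n13653 := d28_1 D13653 (iv D13653) F42226 F29805 (iv F42226)
theorem F60013 : act 5 n13653 = n9449 := d37_1 D13653 (iv D9449) (iv F42227)
theorem F60014 : act 6 n13653 = n9416 := d40_1 D13653 (iv D9416) D9415
def n13654 : Q := act 9 n9416
theorem D13654 : act 9 n9416 = n13654 := rfl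
theorem F60015 : act 0 n13654 = n13654 := d8_1 D13654 (iv D13654) F42229
theorem F60016 : act 2 n13654 = n9536 := d23_1 D13654 (iv D9536) (iv F42230)
theorem F60017 : act 3 n13654 = n13654 := d29_1 D13654 (iv D13654) F42231
theorem F60018 : act 5 n13654 = n9417 := d38_1 D13654 (iv D9417) (iv F42232)
theorem F60019 : act 8 n13654 = n9434 := d44_1 D13654 (iv D9434) (iv D6515) (iv F29796) D9416
def n13655 : Q := act 1 n9419
theorem D13655 : act 1 n9419 = n13655 := rfl
theorem F60020 : act 0 n13655 = n9537 := d0_1 D13655 (iv D9537) F30165 (iv F29820) (iv F42244)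
theorem F60021 : act 2 n13655 = n13655 := d9_2 D9419 D13655 (iv D13655) (iv D9419) F29814
theorem F60022 : act 3 n13655 = n13655 := d10_2 F42245 D13655 (iv D13655)
theorem F60023 : act 4 n13655 = n9912 := d11_2 (iv F42246) D13655 (iv D9912)
theorem F60024 : act 6 n13655 = n9451 := d13_2 (iv F42247) D13655 (iv D9451)
def n13656 : Q := act 5 n9419
theorem D13656 : act 5 n9419 = n13656 := rfl
theorem F60025 : act 0 n13656 = n9423 := d4_1 D13656 (iv D9423) (iv F42244)
theorem F60026 : act 2 n13656 = n9420 := d19_1 D13656 (iv D9420) D9419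
theorem F60027 : act 3 n13656 = n13656 := d25_1 D13656 (iv D13656) F42245
def n13657 : Q := act 8 n9419
theorem D13657 : act 8 n9419 = n13657 := rfl
theorem F60028 : act 0 n13657 = n9424 := d7_1 D13657 (iv D9424) (iv F42244)
theorem F60029 : act 2 n13657 = n9421 := d22_1 D13657 (iv D9421) D9419
theorem F60030 : act 4 n13657 = n9914 := d33_1 D13657 (iv D9914) (iv F42246)
theorem F60031 : act 6 n13657 = n9453 := d40_1 D13657 (iv D9453) (iv F42247)
def n13658 : Q := act 4 n9420
theorem D13658 : act 4 n9420 = n13658 := rfl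
theorem F60032 : act 0 n13658 = n9425 := d3_1 D13658 (iv D9425) (iv F42248)
theorem F60033 : act 1 n13658 = n13658 := d11_1 D13658 (iv D13658) F42249
theorem F60034 : act 5 n13658 = n9915 := d30_2 D9420 D13658 (iv D9915) (iv D6838) (iv F29815)
def n13659 : Q := act 6 n9420
theorem D13659 : act 6 n9420 = n13659 := rfl
theorem F60035 : act 0 n13659 = n9426 := d5_1 D13659 (iv D9426) (iv F42248)
theorem F60036 : act 1 n13659 = n13659 := d13_1 D13659 (iv D13659) F42249
theorem F60037 : act 3 n13659 = n9422 := d26_1 D13659 (iv D9422) (iv F42250)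
theorem F60038 : act 5 n13659 = n9455 := d35_1 D13659 (iv D9455) (iv D6530) (iv F29816) D9420
def n13660 : Q := act 8 n9420
theorem D13660 : act 8 n9420 = n13660 := rfl
theorem F60039 : act 0 n13660 = n9427 := d7_1 D13660 (iv D9427) (iv F42248)
theorem F60040 : act 1 n13660 = n13660 := d15_1 D13660 (iv D13660) F42249
theorem F60041 : act 5 n13660 = n9421 := d37_1 D13660 (iv D9421) D9420
def n13661 : Q := act 9 n9421
theorem D13661 : act 9 n9421 = n13661 := rfl
theorem F60042 : act 0 n13661 = n9428 := d8_1 D13661 (iv D9428) (iv F42251)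
theorem F60043 : act 1 n13661 = n13661 := d16_1 D13661 (iv D13661) F42252
theorem F60044 : act 4 n13661 = n9918 := d34_1 D13661 (iv D9918) (iv F42253)
theorem F60045 : act 6 n13661 = n9457 := d41_1 D13661 (iv D9457) (iv F42254)
def n13662 : Q := act 7 n9422
theorem D13662 : act 7 n9422 = n13662 := rfl
theorem F60046 : act 0 n13662 = n9429 := d6_1 D13662 (iv D9429) (iv F42255)
theorem F60047 : act 1 n13662 = n13662 := d14_1 D13662 (iv D13662) F42256
theorem F60048 : act 2 n13662 = n13662 := d21_1 D13662 (iv D13662) F42257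
theorem F60049 : act 5 n13662 = n9458 := d36_1 D13662 (iv D9458) (iv F42258)
def n13663 : Q := act 4 n9423
theorem D13663 : act 4 n9423 = n13663 := rfl
theorem F60050 : act 1 n13663 = n9545 := d11_1 D13663 (iv D9545) (iv F42259)
theorem F60051 : act 2 n13663 = n9425 := d18_1 D13663 (iv D9425) (iv F42260)
theorem F60052 : act 5 n13663 = n9920 := d30_2 D9423 D13663 (iv D9920) (iv D6841) (iv F29822)
def n13664 : Q := act 6 n9423
theorem D13664 : act 6 n9423 = n13664 := rfl
theorem F60053 : act 1 n13664 = n9546 := d13_1 D13664 (iv D9546) (iv F42259)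
theorem F60054 : act 2 n13664 = n9426 := d20_1 D13664 (iv D9426) (iv F42260)
theorem F60055 : act 3 n13664 = n13664 := d26_1 D13664 (iv D13664) F42261
theorem F60056 : act 5 n13664 = n9460 := d35_1 D13664 (iv D9460) (iv D6533) (iv F29823) D9423
def n13665 : Q := act 8 n9423
theorem D13665 : act 8 n9423 = n13665 := rfl
theorem F60057 : act 1 n13665 = n9547 := d15_1 D13665 (iv D9547) (iv F42259)
theorem F60058 : act 2 n13665 = n9427 := d22_1 D13665 (iv D9427) (iv F42260)
theorem F60059 : act 5 n13665 = n9424 := d37_1 D13665 (iv D9424) D9423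
def n13666 : Q := act 3 n9424
theorem D13666 : act 3 n9424 = n13666 := rfl
theorem F60060 : act 1 n13666 = n9548 := d10_1 D13666 (iv D9548) (iv F42262)
theorem F60061 : act 6 n13666 = n9462 := d26_2 (iv F42265) D13666 (iv D9462)
theorem F60062 : act 8 n13666 = n13666 := d28_2 D9424 D13666 (iv D13666) (iv D9424) F29821
def n13667 : Q := act 9 n9424
theorem D13667 : act 9 n9424 = n13667 := rfl
theorem F60063 : act 1 n13667 = n9549 := d16_1 D13667 (iv D9549) (iv F42262)
theorem F60064 : act 2 n13667 = n9428 := d23_1 D13667 (iv D9428) (iv F42263)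
theorem F60065 : act 4 n13667 = n9924 := d34_1 D13667 (iv D9924) (iv F42264)
theorem F60066 : act 6 n13667 = n9463 := d41_1 D13667 (iv D9463) (iv F42265)
def n13668 : Q := act 6 n9425
theorem D13668 : act 6 n9425 = n13668 := rfl
theorem F60067 : act 1 n13668 = n9430 := d13_1 D13668 (iv D9430) (iv F42266)
theorem F60068 : act 4 n13668 = n9426 := d31_1 D13668 (iv D9426) D9425
def n13669 : Q := act 8 n9425
theorem D13669 : act 8 n9425 = n13669 := rfl
theorem F60069 : act 1 n13669 = n9431 := d15_1 D13669 (iv D9431) (iv F42266)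
theorem F60070 : act 4 n13669 = n9427 := d33_1 D13669 (iv D9427) D9425
theorem F60071 : act 5 n13669 = n9926 := d37_1 D13669 (iv D9926) (iv F42267)
def n13670 : Q := act 7 n9426
theorem D13670 : act 7 n9426 = n13670 := rfl
theorem F60072 : act 1 n13670 = n9432 := d14_1 D13670 (iv D9432) (iv F42268)
theorem F60073 : act 3 n13670 = n9429 := d27_1 D13670 (iv D9429) (iv F42269)
theorem F60074 : act 5 n13670 = n9466 := d36_1 D13670 (iv D9466) (iv F42270)
def n13671 : Q := act 8 n9426
theorem D13671 : act 8 n9426 = n13671 := rfl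
theorem F60075 : act 1 n13671 = n9433 := d15_1 D13671 (iv D9433) (iv F42268)
theorem F60076 : act 5 n13671 = n9467 := d37_1 D13671 (iv D9467) (iv F42270)
theorem F60077 : act 6 n13671 = n9427 := d40_1 D13671 (iv D9427) D9426
def n13672 : Q := act 9 n9427
theorem D13672 : act 9 n9427 = n13672 := rfl
theorem F60078 : act 1 n13672 = n9434 := d16_1 D13672 (iv D9434) (iv F42271)
theorem F60079 : act 5 n13672 = n9428 := d38_1 D13672 (iv D9428) (iv F42272)
def n13673 : Q := act 5 n9430
theorem D13673 : act 5 n9430 = n13673 := rfl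
theorem F60080 : act 0 n13673 = n13673 := d4_1 D13673 (iv D13673) F42279
theorem F60081 : act 2 n13673 = n9555 := d19_1 D13673 (iv D9555) (iv F42280)
theorem F60082 : act 4 n13673 = n9469 := d30_1 D13673 (iv D9469) F29949 (iv F29838) (iv F42281)
theorem F60083 : act 6 n13673 = n9930 := d35_2 D9430 D13673 (iv D9930) (iv D6848) (iv F29834)
def n13674 : Q := act 7 n9430
theorem D13674 : act 7 n9430 = n13674 := rfl
theorem F60084 : act 0 n13674 = n13674 := d6_1 D13674 (iv D13674) F42279
theorem F60085 : act 2 n13674 = n9556 := d21_1 D13674 (iv D9556) (iv F42280)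
theorem F60086 : act 4 n13674 = n9432 := d32_1 D13674 (iv D9432) (iv F42281)
def n13675 : Q := act 8 n9430
theorem D13675 : act 8 n9430 = n13675 := rfl
theorem F60087 : act 0 n13675 = n13675 := d7_1 D13675 (iv D13675) F42279
theorem F60088 : act 2 n13675 = n9557 := d22_1 D13675 (iv D9557) (iv F42280)
theorem F60089 : act 4 n13675 = n9433 := d33_1 D13675 (iv D9433) (iv F42281)
theorem F60090 : act 6 n13675 = n9431 := d40_1 D13675 (iv D9431) D9430
def n13676 : Q := act 3 n9431
theorem D13676 : act 3 n9431 = n13676 := rfl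
theorem F60091 : act 0 n13676 = n13676 := d2_1 D13676 (iv D13676) F42282
theorem F60092 : act 5 n13676 = n9933 := d25_2 (iv F42285) D13676 (iv D9933)
def n13677 : Q := act 9 n9431
theorem D13677 : act 9 n9431 = n13677 := rfl
theorem F60093 : act 0 n13677 = n13677 := d8_1 D13677 (iv D13677) F42282
theorem F60094 : act 2 n13677 = n9559 := d23_1 D13677 (iv D9559) (iv F42283)
theorem F60095 : act 4 n13677 = n9434 := d34_1 D13677 (iv D9434) (iv F42284)
theorem F60096 : act 5 n13677 = n9934 := d38_1 D13677 (iv D9934) (iv F42285)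
def n13678 : Q := act 8 n9432
theorem D13678 : act 8 n9432 = n13678 := rfl
theorem F60097 : act 0 n13678 = n13678 := d7_1 D13678 (iv D13678) F42286
theorem F60098 : act 2 n13678 = n9560 := d22_1 D13678 (iv D9560) (iv F42287)
theorem F60099 : act 5 n13678 = n9474 := d37_1 D13678 (iv D9474) (iv F42289)
theorem F60100 : act 7 n13678 = n9433 := d42_1 D13678 (iv D9433) D9432
def n13679 : Q := act 9 n9433
theorem D13679 : act 9 n9433 = n13679 := rfl
theorem F60101 : act 0 n13679 = n13679 := d8_1 D13679 (iv D13679) F42290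
theorem F60102 : act 2 n13679 = n9561 := d23_1 D13679 (iv D9561) (iv F42291)
theorem F60103 : act 5 n13679 = n9475 := d38_1 D13679 (iv D9475) (iv F42292)
theorem F60104 : act 6 n13679 = n9434 := d41_1 D13679 (iv D9434) (iv F42293)
def n13680 : Q := act 1 n9435
theorem D13680 : act 1 n9435 = n13680 := rfl
theorem F60105 : act 0 n13680 = n9578 := d0_1 D13680 (iv D9578) F30279 (iv F29861) (iv F42297)
theorem F60108 : act 4 n13680 = n9953 := d11_2 (iv F42299) D13680 (iv D9953)
theorem F60110 : act 9 n13680 = n9451 := d16_2 (iv F42301) D13680 (iv D9451)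
def n13681 : Q := act 5 n9435
theorem D13681 : act 5 n9435 = n13681 := rfl
theorem F60111 : act 0 n13681 = n9439 := d4_1 D13681 (iv D9439) (iv F42297)
theorem F60115 : act 9 n13681 = n9452 := d38_2 (iv F42301) D13681 (iv D9452)
def n13682 : Q := act 8 n9435
theorem D13682 : act 8 n9435 = n13682 := rfl
theorem F60116 : act 0 n13682 = n9440 := d7_1 D13682 (iv D9440) (iv F42297)
theorem F60118 : act 4 n13682 = n9955 := d33_1 D13682 (iv D9955) (iv F42299)
def n13683 : Q := act 4 n9436
theorem D13683 : act 4 n9436 = n13683 := rfl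
theorem F60120 : act 0 n13683 = n9441 := d3_1 D13683 (iv D9441) (iv F42302)
theorem F60123 : act 5 n13683 = n9956 := d30_2 D9436 D13683 (iv D9956) (iv D6865) (iv F29851)
theorem F60125 : act 9 n13683 = n9454 := d34_2 (iv F42306) D13683 (iv D9454)
def n13684 : Q := act 6 n9436
theorem D13684 : act 6 n9436 = n13684 := rfl
theorem F60126 : act 0 n13684 = n9442 := d5_1 D13684 (iv D9442) (iv F42302)
theorem F60129 : act 9 n13684 = n9455 := d41_2 (iv F42306) D13684 (iv D9455)
def n13685 : Q := act 8 n9436
theorem D13685 : act 8 n9436 = n13685 := rfl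
theorem F60130 : act 0 n13685 = n9443 := d7_1 D13685 (iv D9443) (iv F42302)
theorem F60133 : act 5 n13685 = n9437 := d37_1 D13685 (iv D9437) D9436
def n13686 : Q := act 9 n9437
theorem D13686 : act 9 n9437 = n13686 := rfl
theorem F60135 : act 0 n13686 = n9444 := d8_1 D13686 (iv D9444) (iv F42307)
theorem F60140 : act 8 n13686 = n9457 := d44_1 D13686 (iv D9457) (iv D6531) (iv F29853) D9437
def n13687 : Q := act 7 n9438
theorem D13687 : act 7 n9438 = n13687 := rfl
theorem F60141 : act 0 n13687 = n9445 := d6_1 D13687 (iv D9445) (iv F42312)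
theorem F60147 : act 9 n13687 = n9458 := d43_2 (iv F42317) D13687 (iv D9458)
def n13688 : Q := act 4 n9439
theorem D13688 : act 4 n9439 = n13688 := rfl
theorem F60148 : act 1 n13688 = n9586 := d11_1 D13688 (iv D9586) (iv F42318)
theorem F60149 : act 2 n13688 = n9441 := d18_1 D13688 (iv D9441) (iv F42319)
theorem F60150 : act 5 n13688 = n9961 := d30_2 D9439 D13688 (iv D9961) (iv D6868) (iv F29863)
theorem F60151 : act 7 n13688 = n13688 := d32_2 F42321 D13688 (iv D13688)
theorem F60152 : act 9 n13688 = n9459 := d34_2 (iv F42322) D13688 (iv D9459)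
def n13689 : Q := act 6 n9439
theorem D13689 : act 6 n9439 = n13689 := rfl
theorem F60153 : act 1 n13689 = n9587 := d13_1 D13689 (iv D9587) (iv F42318)
theorem F60154 : act 2 n13689 = n9442 := d20_1 D13689 (iv D9442) (iv F42319)
theorem F60155 : act 3 n13689 = n13689 := d26_1 D13689 (iv D13689) F42320
theorem F60156 : act 9 n13689 = n9460 := d41_2 (iv F42322) D13689 (iv D9460)
def n13690 : Q := act 8 n9439
theorem D13690 : act 8 n9439 = n13690 := rfl
theorem F60157 : act 1 n13690 = n9588 := d15_1 D13690 (iv D9588) (iv F42318)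
theorem F60158 : act 2 n13690 = n9443 := d22_1 D13690 (iv D9443) (iv F42319)
theorem F60159 : act 5 n13690 = n9440 := d37_1 D13690 (iv D9440) D9439
theorem F60160 : act 7 n13690 = n13690 := d42_1 D13690 (iv D13690) F42321
def n13691 : Q := act 3 n9440
theorem D13691 : act 3 n9440 = n13691 := rfl
theorem F60161 : act 1 n13691 = n9589 := d10_1 D13691 (iv D9589) (iv F42323)
theorem F60162 : act 2 n13691 = n13691 := d17_1 D13691 (iv D13691) F42324 F29871 (iv F42324)
theorem F60163 : act 7 n13691 = n13691 := d27_2 F42326 D13691 (iv D13691)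
theorem F60164 : act 8 n13691 = n13691 := d28_2 D9440 D13691 (iv D13691) (iv D9440) F29862
def n13692 : Q := act 9 n9440
theorem D13692 : act 9 n9440 = n13692 := rfl
theorem F60165 : act 1 n13692 = n9590 := d16_1 D13692 (iv D9590) (iv F42323)
theorem F60166 : act 2 n13692 = n9444 := d23_1 D13692 (iv D9444) (iv F42324)
theorem F60167 : act 4 n13692 = n9965 := d34_1 D13692 (iv D9965) (iv F42325)
theorem F60168 : act 7 n13692 = n13692 := d43_1 D13692 (iv D13692) F42326
theorem F60169 : act 8 n13692 = n9463 := d44_1 D13692 (iv D9463) (iv D6534) (iv F29865) D9440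
def n13693 : Q := act 6 n9441
theorem D13693 : act 6 n9441 = n13693 := rfl
theorem F60170 : act 1 n13693 = n9446 := d13_1 D13693 (iv D9446) (iv F42327)
theorem F60171 : act 3 n13693 = n13693 := d26_1 D13693 (iv D13693) F42328
theorem F60172 : act 4 n13693 = n9442 := d31_1 D13693 (iv D9442) D9441
theorem F60173 : act 9 n13693 = n9464 := d41_2 (iv F42331) D13693 (iv D9464)
def n13694 : Q := act 8 n9441
theorem D13694 : act 8 n9441 = n13694 := rfl
theorem F60174 : act 1 n13694 = n9447 := d15_1 D13694 (iv D9447) (iv F42327)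
theorem F60175 : act 4 n13694 = n9443 := d33_1 D13694 (iv D9443) D9441
theorem F60176 : act 5 n13694 = n9967 := d37_1 D13694 (iv D9967) (iv F42329)
theorem F60177 : act 7 n13694 = n13694 := d42_1 D13694 (iv D13694) F42330
def n13695 : Q := act 7 n9442
theorem D13695 : act 7 n9442 = n13695 := rfl
theorem F60178 : act 1 n13695 = n9448 := d14_1 D13695 (iv D9448) (iv F42332)
theorem F60179 : act 3 n13695 = n9445 := d27_1 D13695 (iv D9445) (iv F42333)
theorem F60180 : act 6 n13695 = n13695 := d39_1 D13695 (iv D13695) (iv D9442) F29868 D9442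
theorem F60181 : act 9 n13695 = n9466 := d43_2 (iv F42334) D13695 (iv D9466)
def n13696 : Q := act 8 n9442
theorem D13696 : act 8 n9442 = n13696 := rfl
theorem F60182 : act 1 n13696 = n9449 := d15_1 D13696 (iv D9449) (iv F42332)
theorem F60183 : act 3 n13696 = n13696 := d28_1 D13696 (iv D13696) F42333 F29877 (iv F42333)
theorem F60184 : act 6 n13696 = n9443 := d40_1 D13696 (iv D9443) D9442
def n13697 : Q := act 9 n9443
theorem D13697 : act 9 n9443 = n13697 := rfl
theorem F60185 : act 1 n13697 = n9450 := d16_1 D13697 (iv D9450) (iv F42335)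
theorem F60186 : act 3 n13697 = n13697 := d29_1 D13697 (iv D13697) F42336
theorem F60187 : act 5 n13697 = n9444 := d38_1 D13697 (iv D9444) (iv F42337)
theorem F60188 : act 7 n13697 = n13697 := d43_1 D13697 (iv D13697) F42338
theorem F60189 : act 8 n13697 = n9468 := d44_1 D13697 (iv D9468) (iv D6537) (iv F29869) D9443
def n13698 : Q := act 5 n9446
theorem D13698 : act 5 n9446 = n13698 := rfl
theorem F60190 : act 0 n13698 = n13698 := d4_1 D13698 (iv D13698) F42350
theorem F60191 : act 2 n13698 = n9596 := d19_1 D13698 (iv D9596) (iv F42351)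
theorem F60192 : act 3 n13698 = n13698 := d25_1 D13698 (iv D13698) F42352
theorem F60193 : act 6 n13698 = n9971 := d35_2 D9446 D13698 (iv D9971) (iv D6875) (iv F29882)
theorem F60194 : act 9 n13698 = n9469 := d38_2 (iv F42354) D13698 (iv D9469)
def n13699 : Q := act 7 n9446
theorem D13699 : act 7 n9446 = n13699 := rfl
theorem F60195 : act 0 n13699 = n13699 := d6_1 D13699 (iv D13699) F42350
theorem F60196 : act 2 n13699 = n9597 := d21_1 D13699 (iv D9597) (iv F42351)
theorem F60197 : act 3 n13699 = n13699 := d27_1 D13699 (iv D13699) F42352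
theorem F60198 : act 4 n13699 = n9448 := d32_1 D13699 (iv D9448) (iv F42353)
theorem F60199 : act 6 n13699 = n13699 := d39_1 D13699 (iv D13699) (iv D9446) F29883 D9446
theorem F60200 : act 9 n13699 = n9470 := d43_2 (iv F42354) D13699 (iv D9470)
def n13700 : Q := act 8 n9446
theorem D13700 : act 8 n9446 = n13700 := rfl
theorem F60201 : act 0 n13700 = n13700 := d7_1 D13700 (iv D13700) F42350
theorem F60202 : act 2 n13700 = n9598 := d22_1 D13700 (iv D9598) (iv F42351)
theorem F60203 : act 4 n13700 = n9449 := d33_1 D13700 (iv D9449) (iv F42353)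
theorem F60204 : act 6 n13700 = n9447 := d40_1 D13700 (iv D9447) D9446
def n13701 : Q := act 3 n9447
theorem D13701 : act 3 n9447 = n13701 := rfl
theorem F60205 : act 0 n13701 = n13701 := d2_1 D13701 (iv D13701) F42355
theorem F60206 : act 4 n13701 = n13701 := d24_2 (iv F42357) D13701 (iv D13701) F42357 F29891
theorem F60207 : act 5 n13701 = n9974 := d25_2 (iv F42358) D13701 (iv D9974)
theorem F60208 : act 7 n13701 = n13701 := d27_2 F42359 D13701 (iv D13701)
theorem F60209 : act 8 n13701 = n13701 := d28_2 D9447 D13701 (iv D13701) (iv D9447) F29881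
def n13702 : Q := act 9 n9447
theorem D13702 : act 9 n9447 = n13702 := rfl
theorem F60210 : act 0 n13702 = n13702 := d8_1 D13702 (iv D13702) F42355
theorem F60211 : act 2 n13702 = n9600 := d23_1 D13702 (iv D9600) (iv F42356)
theorem F60212 : act 4 n13702 = n9450 := d34_1 D13702 (iv D9450) (iv F42357)
theorem F60213 : act 5 n13702 = n9975 := d38_1 D13702 (iv D9975) (iv F42358)
theorem F60214 : act 7 n13702 = n13702 := d43_1 D13702 (iv D13702) F42359
theorem F60215 : act 8 n13702 = n9473 := d44_1 D13702 (iv D9473) (iv D6541) (iv F29884) D9447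
def n13703 : Q := act 8 n9448
theorem D13703 : act 8 n9448 = n13703 := rfl
theorem F60216 : act 0 n13703 = n13703 := d7_1 D13703 (iv D13703) F42360
theorem F60217 : act 2 n13703 = n9601 := d22_1 D13703 (iv D9601) (iv F42361)
theorem F60218 : act 3 n13703 = n13703 := d28_1 D13703 (iv D13703) F42362 F29904 (iv F42362)
theorem F60219 : act 6 n13703 = n13703 := d40_1 D13703 (iv D13703) F42363
theorem F60220 : act 7 n13703 = n9449 := d42_1 D13703 (iv D9449) D9448
def n13704 : Q := act 9 n9449
theorem D13704 : act 9 n9449 = n13704 := rfl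
theorem F60221 : act 0 n13704 = n13704 := d8_1 D13704 (iv D13704) F42365
theorem F60222 : act 2 n13704 = n9602 := d23_1 D13704 (iv D9602) (iv F42366)
theorem F60223 : act 3 n13704 = n13704 := d29_1 D13704 (iv D13704) F42367
theorem F60224 : act 6 n13704 = n9450 := d41_1 D13704 (iv D9450) (iv F42368)
theorem F60225 : act 8 n13704 = n9475 := d44_1 D13704 (iv D9475) (iv D6543) (iv F29888) D9449
def n13705 : Q := act 5 n9451
theorem D13705 : act 5 n9451 = n13705 := rfl
theorem F60226 : act 0 n13705 = n9603 := d4_1 D13705 (iv D9603) (iv F42375)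
theorem F60227 : act 1 n13705 = n9452 := d12_1 D13705 (iv D9452) D9451
theorem F60228 : act 2 n13705 = n13705 := d19_1 D13705 (iv D13705) F42376
theorem F60229 : act 3 n13705 = n13705 := d25_1 D13705 (iv D13705) F42377
theorem F60230 : act 7 n13705 = n13705 := d36_2 F42379 D13705 (iv D13705)
def n13706 : Q := act 8 n9451
theorem D13706 : act 8 n9451 = n13706 := rfl
theorem F60231 : act 0 n13706 = n9604 := d7_1 D13706 (iv D9604) (iv F42375)
theorem F60232 : act 1 n13706 = n9453 := d15_1 D13706 (iv D9453) D9451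
theorem F60233 : act 2 n13706 = n13706 := d22_1 D13706 (iv D13706) F42376
theorem F60234 : act 4 n13706 = n9979 := d33_1 D13706 (iv D9979) (iv F42378)
theorem F60235 : act 7 n13706 = n13706 := d42_1 D13706 (iv D13706) F42379
def n13707 : Q := act 4 n9452
theorem D13707 : act 4 n9452 = n13707 := rfl
theorem F60236 : act 0 n13707 = n9459 := d3_1 D13707 (iv D9459) (iv F42380)
theorem F60237 : act 2 n13707 = n9454 := d18_1 D13707 (iv D9454) (iv F42381)
theorem F60238 : act 5 n13707 = n9980 := d30_2 D9452 D13707 (iv D9980) (iv D6881) (iv F29908)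
theorem F60239 : act 7 n13707 = n13707 := d32_2 F42383 D13707 (iv D13707)
def n13708 : Q := act 6 n9452
theorem D13708 : act 6 n9452 = n13708 := rfl
theorem F60240 : act 0 n13708 = n9460 := d5_1 D13708 (iv D9460) (iv F42380)
theorem F60241 : act 2 n13708 = n9455 := d20_1 D13708 (iv D9455) (iv F42381)
theorem F60242 : act 3 n13708 = n13708 := d26_1 D13708 (iv D13708) F42382
def n13709 : Q := act 8 n9452
theorem D13709 : act 8 n9452 = n13709 := rfl
theorem F60243 : act 0 n13709 = n9461 := d7_1 D13709 (iv D9461) (iv F42380)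
theorem F60244 : act 2 n13709 = n9456 := d22_1 D13709 (iv D9456) (iv F42381)
theorem F60245 : act 5 n13709 = n9453 := d37_1 D13709 (iv D9453) D9452
theorem F60246 : act 7 n13709 = n13709 := d42_1 D13709 (iv D13709) F42383
def n13710 : Q := act 3 n9453
theorem D13710 : act 3 n9453 = n13710 := rfl
theorem F60247 : act 0 n13710 = n9462 := d2_1 D13710 (iv D9462) (iv F42384)
theorem F60248 : act 7 n13710 = n13710 := d27_2 F42387 D13710 (iv D13710)
theorem F60249 : act 8 n13710 = n13710 := d28_2 D9453 D13710 (iv D13710) (iv D9453) F29907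
def n13711 : Q := act 9 n9453
theorem D13711 : act 9 n9453 = n13711 := rfl
theorem F60250 : act 0 n13711 = n9463 := d8_1 D13711 (iv D9463) (iv F42384)
theorem F60251 : act 2 n13711 = n9457 := d23_1 D13711 (iv D9457) (iv F42385)
theorem F60252 : act 4 n13711 = n9984 := d34_1 D13711 (iv D9984) (iv F42386)
theorem F60253 : act 7 n13711 = n13711 := d43_1 D13711 (iv D13711) F42387
def n13712 : Q := act 6 n9454
theorem D13712 : act 6 n9454 = n13712 := rfl
theorem F60254 : act 0 n13712 = n9464 := d5_1 D13712 (iv D9464) (iv F42388)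
theorem F60255 : act 1 n13712 = n13712 := d13_1 D13712 (iv D13712) F42389
theorem F60256 : act 3 n13712 = n13712 := d26_1 D13712 (iv D13712) F42390
theorem F60257 : act 4 n13712 = n9455 := d31_1 D13712 (iv D9455) D9454
def n13713 : Q := act 8 n9454
theorem D13713 : act 8 n9454 = n13713 := rfl
theorem F60258 : act 0 n13713 = n9465 := d7_1 D13713 (iv D9465) (iv F42388)
theorem F60259 : act 1 n13713 = n13713 := d15_1 D13713 (iv D13713) F42389
theorem F60260 : act 4 n13713 = n9456 := d33_1 D13713 (iv D9456) D9454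
theorem F60261 : act 5 n13713 = n9986 := d37_1 D13713 (iv D9986) (iv F42391)
theorem F60262 : act 7 n13713 = n13713 := d42_1 D13713 (iv D13713) F42392
def n13714 : Q := act 7 n9455
theorem D13714 : act 7 n9455 = n13714 := rfl
theorem F60263 : act 0 n13714 = n9466 := d6_1 D13714 (iv D9466) (iv F42393)
theorem F60264 : act 1 n13714 = n13714 := d14_1 D13714 (iv D13714) F42394
theorem F60265 : act 3 n13714 = n9458 := d27_1 D13714 (iv D9458) (iv F42395)
theorem F60266 : act 6 n13714 = n13714 := d39_1 D13714 (iv D13714) (iv D9455) F29913 D9455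
def n13715 : Q := act 8 n9455
theorem D13715 : act 8 n9455 = n13715 := rfl
theorem F60267 : act 0 n13715 = n9467 := d7_1 D13715 (iv D9467) (iv F42393)
theorem F60268 : act 1 n13715 = n13715 := d15_1 D13715 (iv D13715) F42394
theorem F60269 : act 6 n13715 = n9456 := d40_1 D13715 (iv D9456) D9455
def n13716 : Q := act 9 n9456
theorem D13716 : act 9 n9456 = n13716 := rfl
theorem F60270 : act 0 n13716 = n9468 := d8_1 D13716 (iv D9468) (iv F42396)
theorem F60271 : act 1 n13716 = n13716 := d16_1 D13716 (iv D13716) F42397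
theorem F60272 : act 5 n13716 = n9457 := d38_1 D13716 (iv D9457) (iv F42398)
theorem F60273 : act 7 n13716 = n13716 := d43_1 D13716 (iv D13716) F42399
def n13717 : Q := act 3 n9459
theorem D13717 : act 3 n9459 = n13717 := rfl
theorem F60274 : act 1 n13717 = n9615 := d10_1 D13717 (iv D9615) (iv F42409)
theorem F60275 : act 2 n13717 = n13717 := d17_1 D13717 (iv D13717) F42410 F29931 (iv F42410)
theorem F60276 : act 4 n13717 = n13717 := d24_2 D9459 D13717 (iv D13717) (iv D9459) F29924
theorem F60277 : act 5 n13717 = n9990 := d25_2 (iv F42411) D13717 (iv D9990)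
theorem F60278 : act 7 n13717 = n13717 := d27_2 F42412 D13717 (iv D13717)
def n13718 : Q := act 6 n9459
theorem D13718 : act 6 n9459 = n13718 := rfl
theorem F60279 : act 1 n13718 = n9616 := d13_1 D13718 (iv D9616) (iv F42409)
theorem F60280 : act 2 n13718 = n9464 := d20_1 D13718 (iv D9464) (iv F42410)
theorem F60281 : act 4 n13718 = n9460 := d31_1 D13718 (iv D9460) D9459
def n13719 : Q := act 8 n9459
theorem D13719 : act 8 n9459 = n13719 := rfl
theorem F60282 : act 1 n13719 = n9617 := d15_1 D13719 (iv D9617) (iv F42409)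
theorem F60283 : act 2 n13719 = n9465 := d22_1 D13719 (iv D9465) (iv F42410)
theorem F60284 : act 4 n13719 = n9461 := d33_1 D13719 (iv D9461) D9459
theorem F60285 : act 5 n13719 = n9992 := d37_1 D13719 (iv D9992) (iv F42411)
theorem F60286 : act 7 n13719 = n13719 := d42_1 D13719 (iv D13719) F42412
def n13720 : Q := act 7 n9460
theorem D13720 : act 7 n9460 = n13720 := rfl
theorem F60287 : act 1 n13720 = n9618 := d14_1 D13720 (iv D9618) (iv F42413)
theorem F60288 : act 2 n13720 = n9466 := d21_1 D13720 (iv D9466) (iv F42414)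
theorem F60289 : act 3 n13720 = n13720 := d27_1 D13720 (iv D13720) F42415
theorem F60290 : act 6 n13720 = n13720 := d39_1 D13720 (iv D13720) (iv D9460) F29925 D9460
def n13721 : Q := act 8 n9460
theorem D13721 : act 8 n9460 = n13721 := rfl
theorem F60291 : act 1 n13721 = n9619 := d15_1 D13721 (iv D9619) (iv F42413)
theorem F60292 : act 2 n13721 = n9467 := d22_1 D13721 (iv D9467) (iv F42414)
theorem F60293 : act 6 n13721 = n9461 := d40_1 D13721 (iv D9461) D9460
def n13722 : Q := act 3 n9461
theorem D13722 : act 3 n9461 = n13722 := rfl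
theorem F60294 : act 1 n13722 = n9620 := d10_1 D13722 (iv D9620) (iv F42416)
theorem F60295 : act 5 n13722 = n9462 := d25_2 (iv F42418) D13722 (iv D9462)
theorem F60296 : act 7 n13722 = n13722 := d27_2 F42419 D13722 (iv D13722)
theorem F60297 : act 8 n13722 = n13722 := d28_2 D9461 D13722 (iv D13722) (iv D9461) F29924
def n13723 : Q := act 9 n9461
theorem D13723 : act 9 n9461 = n13723 := rfl
theorem F60298 : act 1 n13723 = n9621 := d16_1 D13723 (iv D9621) (iv F42416)
theorem F60299 : act 2 n13723 = n9468 := d23_1 D13723 (iv D9468) (iv F42417)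
theorem F60300 : act 5 n13723 = n9463 := d38_1 D13723 (iv D9463) (iv F42418)
theorem F60301 : act 7 n13723 = n13723 := d43_1 D13723 (iv D13723) F42419
def n13724 : Q := act 4 n9462
theorem D13724 : act 4 n9462 = n13724 := rfl
theorem F60302 : act 1 n13724 = n9622 := d11_1 D13724 (iv D9622) (iv F42420)
theorem F60303 : act 3 n13724 = n9997 := d24_1 D13724 (iv D9997) (iv D6891) (iv F29928) D9462
theorem F60304 : act 7 n13724 = n13724 := d32_2 F42421 D13724 (iv D13724)
theorem F60305 : act 8 n13724 = n13724 := d33_2 F42422 D13724 (iv D13724)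
def n13725 : Q := act 9 n9462
theorem D13725 : act 9 n9462 = n13725 := rfl
theorem F60306 : act 1 n13725 = n9623 := d16_1 D13725 (iv D9623) (iv F42420)
theorem F60307 : act 3 n13725 = n9463 := d29_1 D13725 (iv D9463) D9462
theorem F60308 : act 7 n13725 = n13725 := d43_1 D13725 (iv D13725) F42421
def n13726 : Q := act 5 n9464
theorem D13726 : act 5 n9464 = n13726 := rfl
theorem F60309 : act 1 n13726 = n9469 := d12_1 D13726 (iv D9469) (iv F42427)
theorem F60310 : act 3 n13726 = n13726 := d25_1 D13726 (iv D13726) F42428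
theorem F60311 : act 6 n13726 = n9999 := d35_2 D9464 D13726 (iv D9999) (iv D6893) (iv F29932)
def n13727 : Q := act 7 n9464
theorem D13727 : act 7 n9464 = n13727 := rfl
theorem F60312 : act 1 n13727 = n9470 := d14_1 D13727 (iv D9470) (iv F42427)
theorem F60313 : act 3 n13727 = n13727 := d27_1 D13727 (iv D13727) F42428
theorem F60314 : act 4 n13727 = n9466 := d32_1 D13727 (iv D9466) (iv F42429)
theorem F60315 : act 6 n13727 = n13727 := d39_1 D13727 (iv D13727) (iv D9464) F29933 D9464
def n13728 : Q := act 8 n9464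
theorem D13728 : act 8 n9464 = n13728 := rfl
theorem F60316 : act 1 n13728 = n9471 := d15_1 D13728 (iv D9471) (iv F42427)
theorem F60317 : act 4 n13728 = n9467 := d33_1 D13728 (iv D9467) (iv F42429)
theorem F60318 : act 6 n13728 = n9465 := d40_1 D13728 (iv D9465) D9464
def n13729 : Q := act 3 n9465
theorem D13729 : act 3 n9465 = n13729 := rfl
theorem F60319 : act 1 n13729 = n9472 := d10_1 D13729 (iv D9472) (iv F42430)
theorem F60320 : act 5 n13729 = n10002 := d25_2 (iv F42432) D13729 (iv D10002)
theorem F60321 : act 7 n13729 = n13729 := d27_2 F42433 D13729 (iv D13729)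
theorem F60322 : act 8 n13729 = n13729 := d28_2 D9465 D13729 (iv D13729) (iv D9465) F29931
def n13730 : Q := act 9 n9465
theorem D13730 : act 9 n9465 = n13730 := rfl
theorem F60323 : act 1 n13730 = n9473 := d16_1 D13730 (iv D9473) (iv F42430)
theorem F60324 : act 4 n13730 = n9468 := d34_1 D13730 (iv D9468) (iv F42431)
theorem F60325 : act 5 n13730 = n10003 := d38_1 D13730 (iv D10003) (iv F42432)
theorem F60326 : act 7 n13730 = n13730 := d43_1 D13730 (iv D13730) F42433
def n13731 : Q := act 8 n9466
theorem D13731 : act 8 n9466 = n13731 := rfl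
theorem F60327 : act 1 n13731 = n9474 := d15_1 D13731 (iv D9474) (iv F42434)
theorem F60328 : act 6 n13731 = n13731 := d40_1 D13731 (iv D13731) F42436
theorem F60329 : act 7 n13731 = n9467 := d42_1 D13731 (iv D9467) D9466
def n13732 : Q := act 9 n9467
theorem D13732 : act 9 n9467 = n13732 := rfl
theorem F60330 : act 1 n13732 = n9475 := d16_1 D13732 (iv D9475) (iv F42437)
theorem F60331 : act 6 n13732 = n9468 := d41_1 D13732 (iv D9468) (iv F42438)
def n13733 : Q := act 7 n9469
theorem D13733 : act 7 n9469 = n13733 := rfl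
theorem F60332 : act 0 n13733 = n13733 := d6_1 D13733 (iv D13733) F42442
theorem F60333 : act 2 n13733 = n9631 := d21_1 D13733 (iv D9631) (iv F42443)
theorem F60334 : act 3 n13733 = n13733 := d27_1 D13733 (iv D13733) F42444
theorem F60335 : act 5 n13733 = n9470 := d36_1 D13733 (iv D9470) D9469
def n13734 : Q := act 8 n9469
theorem D13734 : act 8 n9469 = n13734 := rfl
theorem F60336 : act 0 n13734 = n13734 := d7_1 D13734 (iv D13734) F42442
theorem F60337 : act 2 n13734 = n9632 := d22_1 D13734 (iv D9632) (iv F42443)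
theorem F60338 : act 5 n13734 = n9471 := d37_1 D13734 (iv D9471) D9469
theorem F60339 : act 6 n13734 = n10007 := d40_1 D13734 (iv D10007) (iv F42445)
def n13735 : Q := act 8 n9470
theorem D13735 : act 8 n9470 = n13735 := rfl
theorem F60340 : act 0 n13735 = n13735 := d7_1 D13735 (iv D13735) F42446
theorem F60341 : act 2 n13735 = n9633 := d22_1 D13735 (iv D9633) (iv F42447)
theorem F60342 : act 4 n13735 = n9474 := d33_1 D13735 (iv D9474) (iv F42449)
theorem F60343 : act 6 n13735 = n13735 := d40_1 D13735 (iv D13735) F42450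
theorem F60344 : act 7 n13735 = n9471 := d42_1 D13735 (iv D9471) D9470
def n13736 : Q := act 3 n9471
theorem D13736 : act 3 n9471 = n13736 := rfl
theorem F60345 : act 0 n13736 = n13736 := d2_1 D13736 (iv D13736) F42451
theorem F60346 : act 6 n13736 = n9472 := d26_2 (iv F42454) D13736 (iv D9472)
theorem F60347 : act 8 n13736 = n13736 := d28_2 D9471 D13736 (iv D13736) (iv D9471) F29948
def n13737 : Q := act 9 n9471
theorem D13737 : act 9 n9471 = n13737 := rfl
theorem F60348 : act 0 n13737 = n13737 := d8_1 D13737 (iv D13737) F42451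
theorem F60349 : act 2 n13737 = n9635 := d23_1 D13737 (iv D9635) (iv F42452)
theorem F60350 : act 4 n13737 = n9475 := d34_1 D13737 (iv D9475) (iv F42453)
theorem F60351 : act 6 n13737 = n9473 := d41_1 D13737 (iv D9473) (iv F42454)
def n13738 : Q := act 2 n9472
theorem D13738 : act 2 n9472 = n13738 := rfl
theorem F60352 : act 0 n13738 = n13738 := d1_1 D13738 (iv D13738) F42455
theorem F60353 : act 3 n13738 = n9636 := d17_2 D9472 D13738 (iv D9636) (iv D6650) (iv F29951)
theorem F60354 : act 5 n13738 = n10011 := d19_2 (iv F42456) D13738 (iv D10011)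
theorem F60355 : act 7 n13738 = n13738 := d21_2 F42457 D13738 (iv D13738)
theorem F60356 : act 8 n13738 = n13738 := d22_2 F42458 D13738 (iv D13738)
def n13739 : Q := act 9 n9472
theorem D13739 : act 9 n9472 = n13739 := rfl
theorem F60357 : act 0 n13739 = n13739 := d8_1 D13739 (iv D13739) F42455
theorem F60358 : act 3 n13739 = n9473 := d29_1 D13739 (iv D9473) D9472
theorem F60359 : act 5 n13739 = n10012 := d38_1 D13739 (iv D10012) (iv F42456)
theorem F60360 : act 7 n13739 = n13739 := d43_1 D13739 (iv D13739) F42457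
def n13740 : Q := act 9 n9474
theorem D13740 : act 9 n9474 = n13740 := rfl
theorem F60361 : act 0 n13740 = n13740 := d8_1 D13740 (iv D13740) F42464
theorem F60362 : act 2 n13740 = n9638 := d23_1 D13740 (iv D9638) (iv F42465)
theorem F60363 : act 6 n13740 = n13740 := d41_1 D13740 (iv D13740) F42466
theorem F60364 : act 7 n13740 = n9475 := d43_1 D13740 (iv D9475) (iv F42467)
def n13741 : Q := act 3 n9476
theorem D13741 : act 3 n9476 = n13741 := rfl
theorem F60365 : act 0 n13741 = n9477 := d2_1 D13741 (iv D9477) (iv F42471)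
theorem F60366 : act 1 n13741 = n13741 := d10_1 D13741 (iv D13741) F42472
theorem F60367 : act 4 n13741 = n13741 := d24_2 D9476 D13741 (iv D13741) (iv D9476) F29968
theorem F60368 : act 6 n13741 = n13741 := d26_2 F42474 D13741 (iv D13741)
theorem F60369 : act 7 n13741 = n9510 := d27_2 (iv F42475) D13741 (iv D9510)
theorem F60370 : act 9 n13741 = n13741 := d29_2 F42477 D13741 (iv D13741)
def n13742 : Q := act 5 n9476
theorem D13742 : act 5 n9476 = n13742 := rfl
theorem F60371 : act 0 n13742 = n9478 := d4_1 D13742 (iv D9478) (iv F42471)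
theorem F60372 : act 1 n13742 = n13742 := d12_1 D13742 (iv D13742) F42472
theorem F60373 : act 2 n13742 = n13742 := d19_1 D13742 (iv D13742) F42473
theorem F60374 : act 4 n13742 = n13742 := d30_1 D13742 (iv D13742) (iv D9476) F29969 D9476
theorem F60375 : act 7 n13742 = n9511 := d36_2 (iv F42475) D13742 (iv D9511)
theorem F60376 : act 8 n13742 = n9484 := d37_2 (iv F42476) D13742 (iv D9484)
theorem F60377 : act 9 n13742 = n13742 := d38_2 F42477 D13742 (iv D13742)
def n13743 : Q := act 2 n9477
theorem D13743 : act 2 n9477 = n13743 := rfl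
theorem F60378 : act 1 n13743 = n13743 := d9_1 D13743 (iv D13743) F42478 F29981 (iv F42478)
theorem F60379 : act 3 n13743 = n13743 := d17_2 D9477 D13743 (iv D13743) (iv D9477) F29975
theorem F60380 : act 4 n13743 = n13743 := d18_2 F42479 D13743 (iv D13743)
theorem F60381 : act 6 n13743 = n13743 := d20_2 F42480 D13743 (iv D13743)
theorem F60382 : act 7 n13743 = n9512 := d21_2 (iv F42481) D13743 (iv D9512)
theorem F60383 : act 9 n13743 = n13743 := d23_2 F42482 D13743 (iv D13743)
def n13744 : Q := act 5 n9477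
theorem D13744 : act 5 n9477 = n13744 := rfl
theorem F60384 : act 1 n13744 = n9479 := d12_1 D13744 (iv D9479) (iv F42478)
theorem F60385 : act 3 n13744 = n9478 := d25_1 D13744 (iv D9478) D9477
theorem F60386 : act 7 n13744 = n9513 := d36_2 (iv F42481) D13744 (iv D9513)
theorem F60387 : act 9 n13744 = n13744 := d38_2 F42482 D13744 (iv D13744)
def n13745 : Q := act 8 n9477
theorem D13745 : act 8 n9477 = n13745 := rfl
theorem F60388 : act 1 n13745 = n9480 := d15_1 D13745 (iv D9480) (iv F42478)
theorem F60389 : act 3 n13745 = n9487 := d28_1 D13745 (iv D9487) (iv D6551) (iv F29978) D9477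
theorem F60390 : act 4 n13745 = n13745 := d33_1 D13745 (iv D13745) F42479
theorem F60391 : act 6 n13745 = n13745 := d40_1 D13745 (iv D13745) F42480
theorem F60392 : act 7 n13745 = n9514 := d42_1 D13745 (iv D9514) (iv F42481)
def n13746 : Q := act 6 n9478
theorem D13746 : act 6 n9478 = n13746 := rfl
theorem F60393 : act 1 n13746 = n9481 := d13_1 D13746 (iv D9481) (iv F42483)
theorem F60394 : act 2 n13746 = n13746 := d20_1 D13746 (iv D13746) F42484
theorem F60395 : act 4 n13746 = n13746 := d31_1 D13746 (iv D13746) F42485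
theorem F60396 : act 5 n13746 = n13746 := d35_1 D13746 (iv D13746) (iv D9478) F29976 D9478
theorem F60397 : act 8 n13746 = n9488 := d40_2 (iv F42487) D13746 (iv D9488)
theorem F60398 : act 9 n13746 = n13746 := d41_2 F42488 D13746 (iv D13746)
def n13747 : Q := act 4 n9479
theorem D13747 : act 4 n9479 = n13747 := rfl
theorem F60399 : act 0 n13747 = n13747 := d3_1 D13747 (iv D13747) F42489
theorem F60400 : act 2 n13747 = n13747 := d18_1 D13747 (iv D13747) F42490
theorem F60401 : act 3 n13747 = n13747 := d24_1 D13747 (iv D13747) F42491 F29988 (iv F42491)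
theorem F60402 : act 5 n13747 = n13747 := d30_2 D9479 D13747 (iv D13747) (iv D9479) F29982
theorem F60403 : act 7 n13747 = n9516 := d32_2 (iv F42492) D13747 (iv D9516)
theorem F60404 : act 9 n13747 = n13747 := d34_2 F42493 D13747 (iv D13747)
def n13748 : Q := act 6 n9479
theorem D13748 : act 6 n9479 = n13748 := rfl
theorem F60405 : act 0 n13748 = n13748 := d5_1 D13748 (iv D13748) F42489
theorem F60406 : act 2 n13748 = n13748 := d20_1 D13748 (iv D13748) F42490
theorem F60407 : act 3 n13748 = n9481 := d26_1 D13748 (iv D9481) (iv F42491)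
theorem F60408 : act 5 n13748 = n13748 := d35_1 D13748 (iv D13748) (iv D9479) F29983 D9479
theorem F60409 : act 9 n13748 = n13748 := d41_2 F42493 D13748 (iv D13748)
def n13749 : Q := act 8 n9479
theorem D13749 : act 8 n9479 = n13749 := rfl
theorem F60410 : act 0 n13749 = n13749 := d7_1 D13749 (iv D13749) F42489
theorem F60411 : act 2 n13749 = n13749 := d22_1 D13749 (iv D13749) F42490
theorem F60412 : act 3 n13749 = n9491 := d28_1 D13749 (iv D9491) F30016 (iv F29990) (iv F42491)
theorem F60413 : act 5 n13749 = n9480 := d37_1 D13749 (iv D9480) D9479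
theorem F60414 : act 7 n13749 = n9518 := d42_1 D13749 (iv D9518) (iv F42492)
def n13750 : Q := act 9 n9480
theorem D13750 : act 9 n9480 = n13750 := rfl
theorem F60415 : act 0 n13750 = n13750 := d8_1 D13750 (iv D13750) F42494
theorem F60416 : act 2 n13750 = n13750 := d23_1 D13750 (iv D13750) F42495
theorem F60417 : act 3 n13750 = n9492 := d29_1 D13750 (iv D9492) (iv F42496)
theorem F60418 : act 4 n13750 = n13750 := d34_1 D13750 (iv D13750) F42497
theorem F60419 : act 6 n13750 = n13750 := d41_1 D13750 (iv D13750) F42498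
theorem F60420 : act 7 n13750 = n9519 := d43_1 D13750 (iv D9519) (iv F42499)
theorem F60421 : act 8 n13750 = n13750 := d44_1 D13750 (iv D13750) (iv D9480) F29985 D9480
def n13751 : Q := act 7 n9481
theorem D13751 : act 7 n9481 = n13751 := rfl
theorem F60422 : act 0 n13751 = n13751 := d6_1 D13751 (iv D13751) F42500
theorem F60423 : act 2 n13751 = n9482 := d21_1 D13751 (iv D9482) (iv F42501)
theorem F60424 : act 4 n13751 = n13751 := d32_1 D13751 (iv D13751) F42502
theorem F60425 : act 5 n13751 = n13751 := d36_1 D13751 (iv D13751) F42503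
theorem F60426 : act 6 n13751 = n9520 := d39_1 D13751 (iv D9520) (iv D6573) (iv F29989) D9481
theorem F60427 : act 8 n13751 = n9493 := d42_2 (iv F42504) D13751 (iv D9493)
theorem F60428 : act 9 n13751 = n13751 := d43_2 F42505 D13751 (iv D13751)
def n13752 : Q := act 2 n9483
theorem D13752 : act 2 n9483 = n13752 := rfl
theorem F60429 : act 0 n13752 = n9485 := d1_1 D13752 (iv D9485) (iv F42514)
theorem F60430 : act 3 n13752 = n13752 := d17_2 D9483 D13752 (iv D13752) (iv D9483) F30001
theorem F60431 : act 4 n13752 = n10014 := d18_2 (iv F42516) D13752 (iv D10014)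
theorem F60432 : act 6 n13752 = n13752 := d20_2 F42517 D13752 (iv D13752)
theorem F60433 : act 7 n13752 = n9521 := d21_2 (iv F42518) D13752 (iv D9521)
theorem F60434 : act 9 n13752 = n9494 := d23_2 (iv F42519) D13752 (iv D9494)
def n13753 : Q := act 5 n9483
theorem D13753 : act 5 n9483 = n13753 := rfl
theorem F60435 : act 0 n13753 = n9486 := d4_1 D13753 (iv D9486) (iv F42514)
theorem F60436 : act 1 n13753 = n13753 := d12_1 D13753 (iv D13753) F42515
theorem F60437 : act 3 n13753 = n9484 := d25_1 D13753 (iv D9484) D9483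
theorem F60438 : act 7 n13753 = n9522 := d36_2 (iv F42518) D13753 (iv D9522)
theorem F60439 : act 9 n13753 = n9495 := d38_2 (iv F42519) D13753 (iv D9495)
def n13754 : Q := act 8 n9483
theorem D13754 : act 8 n9483 = n13754 := rfl
theorem F60440 : act 0 n13754 = n9487 := d7_1 D13754 (iv D9487) (iv F42514)
theorem F60441 : act 1 n13754 = n13754 := d15_1 D13754 (iv D13754) F42515
theorem F60442 : act 4 n13754 = n10016 := d33_1 D13754 (iv D10016) (iv F42516)
theorem F60443 : act 6 n13754 = n13754 := d40_1 D13754 (iv D13754) F42517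
theorem F60444 : act 7 n13754 = n9523 := d42_1 D13754 (iv D9523) (iv F42518)
def n13755 : Q := act 6 n9484
theorem D13755 : act 6 n9484 = n13755 := rfl
theorem F60445 : act 0 n13755 = n9488 := d5_1 D13755 (iv D9488) (iv F42520)
theorem F60446 : act 1 n13755 = n13755 := d13_1 D13755 (iv D13755) F42521
theorem F60447 : act 2 n13755 = n13755 := d20_1 D13755 (iv D13755) F42522
theorem F60448 : act 4 n13755 = n13755 := d31_1 D13755 (iv D13755) F42523
theorem F60449 : act 5 n13755 = n13755 := d35_1 D13755 (iv D13755) (iv D9484) F30002 D9484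
theorem F60450 : act 9 n13755 = n9497 := d41_2 (iv F42525) D13755 (iv D9497)
def n13756 : Q := act 5 n9485
theorem D13756 : act 5 n9485 = n13756 := rfl
theorem F60451 : act 2 n13756 = n9486 := d19_1 D13756 (iv D9486) D9485
theorem F60452 : act 3 n13756 = n13756 := d25_1 D13756 (iv D13756) F42526
theorem F60453 : act 7 n13756 = n9525 := d36_2 (iv F42529) D13756 (iv D9525)
theorem F60454 : act 9 n13756 = n9498 := d38_2 (iv F42530) D13756 (iv D9498)
def n13757 : Q := act 8 n9485
theorem D13757 : act 8 n9485 = n13757 := rfl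
theorem F60455 : act 2 n13757 = n9487 := d22_1 D13757 (iv D9487) D9485
theorem F60456 : act 4 n13757 = n10019 := d33_1 D13757 (iv D10019) (iv F42527)
theorem F60457 : act 6 n13757 = n13757 := d40_1 D13757 (iv D13757) F42528
theorem F60458 : act 7 n13757 = n9526 := d42_1 D13757 (iv D9526) (iv F42529)
def n13758 : Q := act 4 n9486
theorem D13758 : act 4 n9486 = n13758 := rfl
theorem F60459 : act 1 n13758 = n9489 := d11_1 D13758 (iv D9489) (iv F42531)
theorem F60460 : act 3 n13758 = n13758 := d24_1 D13758 (iv D13758) F42532 F30012 (iv F42532)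
theorem F60461 : act 5 n13758 = n10020 := d30_2 D9486 D13758 (iv D10020) (iv D6908) (iv F30006)
theorem F60462 : act 7 n13758 = n9527 := d32_2 (iv F42533) D13758 (iv D9527)
theorem F60463 : act 9 n13758 = n9500 := d34_2 (iv F42534) D13758 (iv D9500)
def n13759 : Q := act 6 n9486
theorem D13759 : act 6 n9486 = n13759 := rfl
theorem F60464 : act 1 n13759 = n9490 := d13_1 D13759 (iv D9490) (iv F42531)
theorem F60465 : act 3 n13759 = n9488 := d26_1 D13759 (iv D9488) (iv F42532)
theorem F60466 : act 5 n13759 = n13759 := d35_1 D13759 (iv D13759) (iv D9486) F30007 D9486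
theorem F60467 : act 9 n13759 = n9501 := d41_2 (iv F42534) D13759 (iv D9501)
def n13760 : Q := act 8 n9486
theorem D13760 : act 8 n9486 = n13760 := rfl
theorem F60468 : act 1 n13760 = n9491 := d15_1 D13760 (iv D9491) (iv F42531)
theorem F60469 : act 5 n13760 = n9487 := d37_1 D13760 (iv D9487) D9486
theorem F60470 : act 7 n13760 = n9529 := d42_1 D13760 (iv D9529) (iv F42533)
def n13761 : Q := act 9 n9487
theorem D13761 : act 9 n9487 = n13761 := rfl
theorem F60471 : act 1 n13761 = n9492 := d16_1 D13761 (iv D9492) (iv F42535)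
theorem F60472 : act 4 n13761 = n10023 := d34_1 D13761 (iv D10023) (iv F42536)
theorem F60473 : act 6 n13761 = n13761 := d41_1 D13761 (iv D13761) F42537
theorem F60474 : act 7 n13761 = n9530 := d43_1 D13761 (iv D9530) (iv F42538)
theorem F60475 : act 8 n13761 = n9503 := d44_1 D13761 (iv D9503) (iv D6561) (iv F30009) D9487
def n13762 : Q := act 7 n9488
theorem D13762 : act 7 n9488 = n13762 := rfl
theorem F60476 : act 1 n13762 = n9493 := d14_1 D13762 (iv D9493) (iv F42539)
theorem F60477 : act 2 n13762 = n13762 := d21_1 D13762 (iv D13762) F42540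
theorem F60478 : act 4 n13762 = n13762 := d32_1 D13762 (iv D13762) F42541
theorem F60479 : act 5 n13762 = n13762 := d36_1 D13762 (iv D13762) F42542
theorem F60480 : act 6 n13762 = n9531 := d39_1 D13762 (iv D9531) (iv D6580) (iv F30013) D9488
theorem F60481 : act 9 n13762 = n9504 := d43_2 (iv F42543) D13762 (iv D9504)
def n13763 : Q := act 6 n9489
theorem D13763 : act 6 n9489 = n13763 := rfl
theorem F60482 : act 0 n13763 = n13763 := d5_1 D13763 (iv D13763) F42544
theorem F60483 : act 3 n13763 = n13763 := d26_1 D13763 (iv D13763) F42545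
theorem F60484 : act 4 n13763 = n9490 := d31_1 D13763 (iv D9490) D9489
theorem F60485 : act 9 n13763 = n9505 := d41_2 (iv F42548) D13763 (iv D9505)
def n13764 : Q := act 8 n9489
theorem D13764 : act 8 n9489 = n13764 := rfl
theorem F60486 : act 0 n13764 = n13764 := d7_1 D13764 (iv D13764) F42544
theorem F60487 : act 4 n13764 = n9491 := d33_1 D13764 (iv D9491) D9489
theorem F60488 : act 5 n13764 = n10026 := d37_1 D13764 (iv D10026) (iv F42546)
theorem F60489 : act 7 n13764 = n9533 := d42_1 D13764 (iv D9533) (iv F42547)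
def n13765 : Q := act 7 n9490
theorem D13765 : act 7 n9490 = n13765 := rfl
theorem F60490 : act 0 n13765 = n13765 := d6_1 D13765 (iv D13765) F42549
theorem F60491 : act 3 n13765 = n9493 := d27_1 D13765 (iv D9493) (iv F42550)
theorem F60492 : act 5 n13765 = n13765 := d36_1 D13765 (iv D13765) F42551
theorem F60493 : act 6 n13765 = n9534 := d39_1 D13765 (iv D9534) (iv D6582) (iv F30017) D9490
theorem F60494 : act 9 n13765 = n9507 := d43_2 (iv F42552) D13765 (iv D9507)
def n13766 : Q := act 8 n9490
theorem D13766 : act 8 n9490 = n13766 := rfl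
theorem F60495 : act 0 n13766 = n13766 := d7_1 D13766 (iv D13766) F42549
theorem F60496 : act 5 n13766 = n13766 := d37_1 D13766 (iv D13766) F42551
theorem F60497 : act 6 n13766 = n9491 := d40_1 D13766 (iv D9491) D9490
def n13767 : Q := act 9 n9491
theorem D13767 : act 9 n9491 = n13767 := rfl
theorem F60498 : act 0 n13767 = n13767 := d8_1 D13767 (iv D13767) F42553
theorem F60499 : act 5 n13767 = n9492 := d38_1 D13767 (iv D9492) (iv F42554)
theorem F60500 : act 7 n13767 = n9536 := d43_1 D13767 (iv D9536) (iv F42555)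
theorem F60501 : act 8 n13767 = n9509 := d44_1 D13767 (iv D9509) (iv D6565) (iv F30018) D9491
def n13768 : Q := act 1 n9494
theorem D13768 : act 1 n9494 = n13768 := rfl
theorem F60502 : act 2 n13768 = n13768 := d9_2 D9494 D13768 (iv D13768) (iv D9494) F30035
theorem F60503 : act 3 n13768 = n13768 := d10_2 F42568 D13768 (iv D13768)
theorem F60504 : act 4 n13768 = n10030 := d11_2 (iv F42569) D13768 (iv D10030)
theorem F60505 : act 6 n13768 = n13768 := d13_2 F42570 D13768 (iv D13768)
theorem F60506 : act 7 n13768 = n9537 := d14_2 (iv F42571) D13768 (iv D9537)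
def n13769 : Q := act 5 n9494
theorem D13769 : act 5 n9494 = n13769 := rfl
theorem F60507 : act 0 n13769 = n9498 := d4_1 D13769 (iv D9498) (iv F42567)
theorem F60508 : act 2 n13769 = n9495 := d19_1 D13769 (iv D9495) D9494
theorem F60509 : act 3 n13769 = n13769 := d25_1 D13769 (iv D13769) F42568
theorem F60510 : act 7 n13769 = n9538 := d36_2 (iv F42571) D13769 (iv D9538)
def n13770 : Q := act 8 n9494
theorem D13770 : act 8 n9494 = n13770 := rfl
theorem F60511 : act 0 n13770 = n9499 := d7_1 D13770 (iv D9499) (iv F42567)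
theorem F60512 : act 2 n13770 = n9496 := d22_1 D13770 (iv D9496) D9494
theorem F60513 : act 4 n13770 = n10032 := d33_1 D13770 (iv D10032) (iv F42569)
theorem F60514 : act 6 n13770 = n13770 := d40_1 D13770 (iv D13770) F42570
theorem F60515 : act 7 n13770 = n9539 := d42_1 D13770 (iv D9539) (iv F42571)
def n13771 : Q := act 4 n9495
theorem D13771 : act 4 n9495 = n13771 := rfl
theorem F60516 : act 0 n13771 = n9500 := d3_1 D13771 (iv D9500) (iv F42572)
theorem F60517 : act 1 n13771 = n13771 := d11_1 D13771 (iv D13771) F42573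
theorem F60518 : act 3 n13771 = n13771 := d24_1 D13771 (iv D13771) F42574 F30042 (iv F42574)
theorem F60519 : act 5 n13771 = n10033 := d30_2 D9495 D13771 (iv D10033) (iv D6917) (iv F30036)
theorem F60520 : act 7 n13771 = n9540 := d32_2 (iv F42575) D13771 (iv D9540)
def n13772 : Q := act 6 n9495
theorem D13772 : act 6 n9495 = n13772 := rfl
theorem F60521 : act 0 n13772 = n9501 := d5_1 D13772 (iv D9501) (iv F42572)
theorem F60522 : act 1 n13772 = n13772 := d13_1 D13772 (iv D13772) F42573
theorem F60523 : act 3 n13772 = n9497 := d26_1 D13772 (iv D9497) (iv F42574)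
theorem F60524 : act 5 n13772 = n13772 := d35_1 D13772 (iv D13772) (iv D9495) F30037 D9495
def n13773 : Q := act 8 n9495
theorem D13773 : act 8 n9495 = n13773 := rfl
theorem F60525 : act 0 n13773 = n9502 := d7_1 D13773 (iv D9502) (iv F42572)
theorem F60526 : act 1 n13773 = n13773 := d15_1 D13773 (iv D13773) F42573
theorem F60527 : act 3 n13773 = n13773 := d28_1 D13773 (iv D13773) F42574 F30044 (iv F42574)
theorem F60528 : act 5 n13773 = n9496 := d37_1 D13773 (iv D9496) D9495
theorem F60529 : act 7 n13773 = n9542 := d42_1 D13773 (iv D9542) (iv F42575)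
def n13774 : Q := act 9 n9496
theorem D13774 : act 9 n9496 = n13774 := rfl
theorem F60530 : act 0 n13774 = n9503 := d8_1 D13774 (iv D9503) (iv F42576)
theorem F60531 : act 1 n13774 = n13774 := d16_1 D13774 (iv D13774) F42577
theorem F60532 : act 3 n13774 = n13774 := d29_1 D13774 (iv D13774) F42578
theorem F60533 : act 4 n13774 = n10036 := d34_1 D13774 (iv D10036) (iv F42579)
theorem F60534 : act 6 n13774 = n13774 := d41_1 D13774 (iv D13774) F42580
theorem F60535 : act 7 n13774 = n9543 := d43_1 D13774 (iv D9543) (iv F42581)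
def n13775 : Q := act 7 n9497
theorem D13775 : act 7 n9497 = n13775 := rfl
theorem F60536 : act 0 n13775 = n9504 := d6_1 D13775 (iv D9504) (iv F42582)
theorem F60537 : act 1 n13775 = n13775 := d14_1 D13775 (iv D13775) F42583
theorem F60538 : act 2 n13775 = n13775 := d21_1 D13775 (iv D13775) F42584
theorem F60539 : act 4 n13775 = n13775 := d32_1 D13775 (iv D13775) F42585
theorem F60540 : act 5 n13775 = n13775 := d36_1 D13775 (iv D13775) F42586
theorem F60541 : act 6 n13775 = n9544 := d39_1 D13775 (iv D9544) (iv D6589) (iv F30043) D9497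
theorem F60542 : act 8 n13775 = n13775 := d42_2 F42587 D13775 (iv D13775)
def n13776 : Q := act 4 n9498
theorem D13776 : act 4 n9498 = n13776 := rfl
theorem F60543 : act 2 n13776 = n9500 := d18_1 D13776 (iv D9500) (iv F42588)
theorem F60544 : act 5 n13776 = n10038 := d30_2 D9498 D13776 (iv D10038) (iv D6920) (iv F30046)
theorem F60545 : act 7 n13776 = n9545 := d32_2 (iv F42590) D13776 (iv D9545)
def n13777 : Q := act 6 n9498
theorem D13777 : act 6 n9498 = n13777 := rfl
theorem F60546 : act 2 n13777 = n9501 := d20_1 D13777 (iv D9501) (iv F42588)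
theorem F60547 : act 3 n13777 = n13777 := d26_1 D13777 (iv D13777) F42589
theorem F60548 : act 5 n13777 = n13777 := d35_1 D13777 (iv D13777) (iv D9498) F30047 D9498
def n13778 : Q := act 8 n9498
theorem D13778 : act 8 n9498 = n13778 := rfl
theorem F60549 : act 2 n13778 = n9502 := d22_1 D13778 (iv D9502) (iv F42588)
theorem F60550 : act 5 n13778 = n9499 := d37_1 D13778 (iv D9499) D9498
theorem F60551 : act 7 n13778 = n9547 := d42_1 D13778 (iv D9547) (iv F42590)
def n13779 : Q := act 3 n9499
theorem D13779 : act 3 n9499 = n13779 := rfl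
theorem F60552 : act 2 n13779 = n13779 := d17_1 D13779 (iv D13779) F42591 F30053 (iv F42591)
theorem F60553 : act 6 n13779 = n13779 := d26_2 F42593 D13779 (iv D13779)
theorem F60554 : act 7 n13779 = n9548 := d27_2 (iv F42594) D13779 (iv D9548)
theorem F60555 : act 8 n13779 = n13779 := d28_2 D9499 D13779 (iv D13779) (iv D9499) F30045
def n13780 : Q := act 9 n9499
theorem D13780 : act 9 n9499 = n13780 := rfl
theorem F60556 : act 2 n13780 = n9503 := d23_1 D13780 (iv D9503) (iv F42591)
theorem F60557 : act 4 n13780 = n10042 := d34_1 D13780 (iv D10042) (iv F42592)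
theorem F60558 : act 6 n13780 = n13780 := d41_1 D13780 (iv D13780) F42593
theorem F60559 : act 7 n13780 = n9549 := d43_1 D13780 (iv D9549) (iv F42594)
def n13781 : Q := act 6 n9500
theorem D13781 : act 6 n9500 = n13781 := rfl
theorem F60560 : act 1 n13781 = n9505 := d13_1 D13781 (iv D9505) (iv F42595)
theorem F60561 : act 3 n13781 = n13781 := d26_1 D13781 (iv D13781) F42596
theorem F60562 : act 4 n13781 = n9501 := d31_1 D13781 (iv D9501) D9500
def n13782 : Q := act 8 n9500
theorem D13782 : act 8 n9500 = n13782 := rfl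
theorem F60563 : act 1 n13782 = n9506 := d15_1 D13782 (iv D9506) (iv F42595)
theorem F60564 : act 4 n13782 = n9502 := d33_1 D13782 (iv D9502) D9500
theorem F60565 : act 5 n13782 = n10044 := d37_1 D13782 (iv D10044) (iv F42597)
theorem F60566 : act 7 n13782 = n9551 := d42_1 D13782 (iv D9551) (iv F42598)
def n13783 : Q := act 7 n9501
theorem D13783 : act 7 n9501 = n13783 := rfl
theorem F60567 : act 1 n13783 = n9507 := d14_1 D13783 (iv D9507) (iv F42599)
theorem F60568 : act 3 n13783 = n9504 := d27_1 D13783 (iv D9504) (iv F42600)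
theorem F60569 : act 5 n13783 = n13783 := d36_1 D13783 (iv D13783) F42601
theorem F60570 : act 6 n13783 = n9552 := d39_1 D13783 (iv D9552) (iv D6593) (iv F30051) D9501
def n13784 : Q := act 8 n9501
theorem D13784 : act 8 n9501 = n13784 := rfl
theorem F60571 : act 1 n13784 = n9508 := d15_1 D13784 (iv D9508) (iv F42599)
theorem F60572 : act 3 n13784 = n13784 := d28_1 D13784 (iv D13784) F42600 F30061 (iv F42600)
theorem F60573 : act 5 n13784 = n13784 := d37_1 D13784 (iv D13784) F42601
theorem F60574 : act 6 n13784 = n9502 := d40_1 D13784 (iv D9502) D9501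
def n13785 : Q := act 9 n9502
theorem D13785 : act 9 n9502 = n13785 := rfl
theorem F60575 : act 1 n13785 = n9509 := d16_1 D13785 (iv D9509) (iv F42602)
theorem F60576 : act 3 n13785 = n13785 := d29_1 D13785 (iv D13785) F42603
theorem F60577 : act 5 n13785 = n9503 := d38_1 D13785 (iv D9503) (iv F42604)
theorem F60578 : act 7 n13785 = n9554 := d43_1 D13785 (iv D9554) (iv F42605)
def n13786 : Q := act 5 n9505
theorem D13786 : act 5 n9505 = n13786 := rfl
theorem F60579 : act 0 n13786 = n13786 := d4_1 D13786 (iv D13786) F42617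
theorem F60580 : act 3 n13786 = n13786 := d25_1 D13786 (iv D13786) F42618
theorem F60581 : act 4 n13786 = n13786 := d30_1 D13786 (iv D13786) F42619 F30068 (iv F42619)
theorem F60582 : act 6 n13786 = n10048 := d35_2 D9505 D13786 (iv D10048) (iv D6927) (iv F30064)
def n13787 : Q := act 7 n9505
theorem D13787 : act 7 n9505 = n13787 := rfl
theorem F60583 : act 0 n13787 = n13787 := d6_1 D13787 (iv D13787) F42617
theorem F60584 : act 3 n13787 = n13787 := d27_1 D13787 (iv D13787) F42618
theorem F60585 : act 4 n13787 = n9507 := d32_1 D13787 (iv D9507) (iv F42619)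
theorem F60586 : act 6 n13787 = n9556 := d39_1 D13787 (iv D9556) (iv D6597) (iv F30065) D9505
def n13788 : Q := act 8 n9505
theorem D13788 : act 8 n9505 = n13788 := rfl
theorem F60587 : act 0 n13788 = n13788 := d7_1 D13788 (iv D13788) F42617
theorem F60588 : act 4 n13788 = n9508 := d33_1 D13788 (iv D9508) (iv F42619)
theorem F60589 : act 6 n13788 = n9506 := d40_1 D13788 (iv D9506) D9505
def n13789 : Q := act 3 n9506
theorem D13789 : act 3 n9506 = n13789 := rfl
theorem F60590 : act 0 n13789 = n13789 := d2_1 D13789 (iv D13789) F42620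
theorem F60591 : act 4 n13789 = n13789 := d24_2 (iv F42621) D13789 (iv D13789) F42621 F30070
theorem F60592 : act 5 n13789 = n10051 := d25_2 (iv F42622) D13789 (iv D10051)
theorem F60593 : act 7 n13789 = n9558 := d27_2 (iv F42623) D13789 (iv D9558)
theorem F60594 : act 8 n13789 = n13789 := d28_2 D9506 D13789 (iv D13789) (iv D9506) F30063
def n13790 : Q := act 9 n9506
theorem D13790 : act 9 n9506 = n13790 := rfl
theorem F60595 : act 0 n13790 = n13790 := d8_1 D13790 (iv D13790) F42620
theorem F60596 : act 4 n13790 = n9509 := d34_1 D13790 (iv D9509) (iv F42621)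
theorem F60597 : act 5 n13790 = n10052 := d38_1 D13790 (iv D10052) (iv F42622)
theorem F60598 : act 7 n13790 = n9559 := d43_1 D13790 (iv D9559) (iv F42623)
def n13791 : Q := act 8 n9507
theorem D13791 : act 8 n9507 = n13791 := rfl
theorem F60599 : act 0 n13791 = n13791 := d7_1 D13791 (iv D13791) F42624
theorem F60600 : act 3 n13791 = n13791 := d28_1 D13791 (iv D13791) F42625 F30083 (iv F42625)
theorem F60601 : act 5 n13791 = n13791 := d37_1 D13791 (iv D13791) F42626
theorem F60602 : act 6 n13791 = n9560 := d40_1 D13791 (iv D9560) (iv F42627)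
theorem F60603 : act 7 n13791 = n9508 := d42_1 D13791 (iv D9508) D9507
def n13792 : Q := act 9 n9508
theorem D13792 : act 9 n9508 = n13792 := rfl
theorem F60604 : act 0 n13792 = n13792 := d8_1 D13792 (iv D13792) F42628
theorem F60605 : act 3 n13792 = n13792 := d29_1 D13792 (iv D13792) F42629
theorem F60606 : act 5 n13792 = n13792 := d38_1 D13792 (iv D13792) F42630
theorem F60607 : act 6 n13792 = n9509 := d41_1 D13792 (iv D9509) (iv F42631)
def n13793 : Q := act 2 n9510
theorem D13793 : act 2 n9510 = n13793 := rfl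
theorem F60608 : act 0 n13793 = n9512 := d1_1 D13793 (iv D9512) (iv F42636)
theorem F60609 : act 3 n13793 = n13793 := d17_2 D9510 D13793 (iv D13793) (iv D9510) F30086
theorem F60610 : act 4 n13793 = n13793 := d18_2 F42638 D13793 (iv D13793)
theorem F60611 : act 6 n13793 = n9562 := d20_2 (iv F42639) D13793 (iv D9562)
theorem F60612 : act 9 n13793 = n13793 := d23_2 F42640 D13793 (iv D13793)
def n13794 : Q := act 5 n9510
theorem D13794 : act 5 n9510 = n13794 := rfl
theorem F60613 : act 0 n13794 = n9513 := d4_1 D13794 (iv D9513) (iv F42636)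
theorem F60614 : act 1 n13794 = n13794 := d12_1 D13794 (iv D13794) F42637
theorem F60615 : act 3 n13794 = n9511 := d25_1 D13794 (iv D9511) D9510
theorem F60616 : act 9 n13794 = n13794 := d38_2 F42640 D13794 (iv D13794)
def n13795 : Q := act 8 n9510
theorem D13795 : act 8 n9510 = n13795 := rfl
theorem F60617 : act 0 n13795 = n9514 := d7_1 D13795 (iv D9514) (iv F42636)
theorem F60618 : act 1 n13795 = n13795 := d15_1 D13795 (iv D13795) F42637
theorem F60619 : act 3 n13795 = n9523 := d28_1 D13795 (iv D9523) (iv D6575) (iv F30088) D9510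
theorem F60620 : act 4 n13795 = n13795 := d33_1 D13795 (iv D13795) F42638
theorem F60621 : act 6 n13795 = n9564 := d40_1 D13795 (iv D9564) (iv F42639)
def n13796 : Q := act 6 n9511
theorem D13796 : act 6 n9511 = n13796 := rfl
theorem F60622 : act 0 n13796 = n9515 := d5_1 D13796 (iv D9515) (iv F42641)
theorem F60623 : act 1 n13796 = n13796 := d13_1 D13796 (iv D13796) F42642
theorem F60624 : act 2 n13796 = n13796 := d20_1 D13796 (iv D13796) F42643
theorem F60625 : act 4 n13796 = n13796 := d31_1 D13796 (iv D13796) F42644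
theorem F60626 : act 5 n13796 = n9565 := d35_1 D13796 (iv D9565) (iv D6603) (iv F30087) D9511
theorem F60627 : act 8 n13796 = n9524 := d40_2 (iv F42645) D13796 (iv D9524)
theorem F60628 : act 9 n13796 = n13796 := d41_2 F42646 D13796 (iv D13796)
def n13797 : Q := act 5 n9512
theorem D13797 : act 5 n9512 = n13797 := rfl
theorem F60629 : act 1 n13797 = n13797 := d12_1 D13797 (iv D13797) F42647
theorem F60630 : act 2 n13797 = n9513 := d19_1 D13797 (iv D9513) D9512
theorem F60631 : act 3 n13797 = n13797 := d25_1 D13797 (iv D13797) F42648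
theorem F60632 : act 9 n13797 = n13797 := d38_2 F42651 D13797 (iv D13797)
def n13798 : Q := act 8 n9512
theorem D13798 : act 8 n9512 = n13798 := rfl
theorem F60633 : act 1 n13798 = n13798 := d15_1 D13798 (iv D13798) F42647
theorem F60634 : act 2 n13798 = n9514 := d22_1 D13798 (iv D9514) D9512
theorem F60635 : act 4 n13798 = n13798 := d33_1 D13798 (iv D13798) F42649
theorem F60636 : act 6 n13798 = n9567 := d40_1 D13798 (iv D9567) (iv F42650)
def n13799 : Q := act 4 n9513
theorem D13799 : act 4 n9513 = n13799 := rfl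
theorem F60637 : act 1 n13799 = n9516 := d11_1 D13799 (iv D9516) (iv F42652)
theorem F60638 : act 3 n13799 = n13799 := d24_1 D13799 (iv D13799) F42653 F30096 (iv F42653)
theorem F60639 : act 5 n13799 = n13799 := d30_2 D9513 D13799 (iv D13799) (iv D9513) F30091
theorem F60640 : act 9 n13799 = n13799 := d34_2 F42654 D13799 (iv D13799)
def n13800 : Q := act 6 n9513
theorem D13800 : act 6 n9513 = n13800 := rfl
theorem F60641 : act 1 n13800 = n9517 := d13_1 D13800 (iv D9517) (iv F42652)
theorem F60642 : act 3 n13800 = n9515 := d26_1 D13800 (iv D9515) (iv F42653)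
theorem F60643 : act 5 n13800 = n9569 := d35_1 D13800 (iv D9569) (iv D6605) (iv F30092) D9513
theorem F60644 : act 9 n13800 = n13800 := d41_2 F42654 D13800 (iv D13800)
def n13801 : Q := act 8 n9513
theorem D13801 : act 8 n9513 = n13801 := rfl
theorem F60645 : act 1 n13801 = n9518 := d15_1 D13801 (iv D9518) (iv F42652)
theorem F60646 : act 3 n13801 = n9529 := d28_1 D13801 (iv D9529) F30136 (iv F30097) (iv F42653)
theorem F60647 : act 5 n13801 = n9514 := d37_1 D13801 (iv D9514) D9513
def n13802 : Q := act 9 n9514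
theorem D13802 : act 9 n9514 = n13802 := rfl
theorem F60648 : act 1 n13802 = n9519 := d16_1 D13802 (iv D9519) (iv F42655)
theorem F60649 : act 3 n13802 = n9530 := d29_1 D13802 (iv D9530) (iv F42656)
theorem F60650 : act 4 n13802 = n13802 := d34_1 D13802 (iv D13802) F42657
theorem F60651 : act 6 n13802 = n9571 := d41_1 D13802 (iv D9571) (iv F42658)
theorem F60652 : act 8 n13802 = n13802 := d44_1 D13802 (iv D13802) (iv D9514) F30093 D9514
def n13803 : Q := act 7 n9515
theorem D13803 : act 7 n9515 = n13803 := rfl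
theorem F60653 : act 1 n13803 = n9520 := d14_1 D13803 (iv D9520) (iv F42659)
theorem F60654 : act 2 n13803 = n13803 := d21_1 D13803 (iv D13803) F42660
theorem F60655 : act 4 n13803 = n13803 := d32_1 D13803 (iv D13803) F42661
theorem F60656 : act 5 n13803 = n9572 := d36_1 D13803 (iv D9572) (iv F42662)
theorem F60657 : act 8 n13803 = n9531 := d42_2 (iv F42663) D13803 (iv D9531)
theorem F60658 : act 9 n13803 = n13803 := d43_2 F42664 D13803 (iv D13803)
def n13804 : Q := act 6 n9516
theorem D13804 : act 6 n9516 = n13804 := rfl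
theorem F60659 : act 0 n13804 = n13804 := d5_1 D13804 (iv D13804) F42665
theorem F60660 : act 2 n13804 = n13804 := d20_1 D13804 (iv D13804) F42666
theorem F60661 : act 3 n13804 = n13804 := d26_1 D13804 (iv D13804) F42667
theorem F60662 : act 4 n13804 = n9517 := d31_1 D13804 (iv D9517) D9516
theorem F60663 : act 9 n13804 = n13804 := d41_2 F42669 D13804 (iv D13804)
def n13805 : Q := act 8 n9516
theorem D13805 : act 8 n9516 = n13805 := rfl
theorem F60664 : act 0 n13805 = n13805 := d7_1 D13805 (iv D13805) F42665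
theorem F60665 : act 2 n13805 = n13805 := d22_1 D13805 (iv D13805) F42666
theorem F60666 : act 4 n13805 = n9518 := d33_1 D13805 (iv D9518) D9516
theorem F60667 : act 5 n13805 = n13805 := d37_1 D13805 (iv D13805) F42668
def n13806 : Q := act 7 n9517
theorem D13806 : act 7 n9517 = n13806 := rfl
theorem F60668 : act 0 n13806 = n13806 := d6_1 D13806 (iv D13806) F42670
theorem F60669 : act 2 n13806 = n13806 := d21_1 D13806 (iv D13806) F42671
theorem F60670 : act 3 n13806 = n9520 := d27_1 D13806 (iv D9520) (iv F42672)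
theorem F60671 : act 5 n13806 = n9575 := d36_1 D13806 (iv D9575) (iv F42673)
theorem F60672 : act 9 n13806 = n13806 := d43_2 F42674 D13806 (iv D13806)
def n13807 : Q := act 8 n9517
theorem D13807 : act 8 n9517 = n13807 := rfl
theorem F60673 : act 0 n13807 = n13807 := d7_1 D13807 (iv D13807) F42670
theorem F60674 : act 2 n13807 = n13807 := d22_1 D13807 (iv D13807) F42671
theorem F60675 : act 3 n13807 = n9535 := d28_1 D13807 (iv D9535) F30151 (iv F30112) (iv F42672)
theorem F60676 : act 5 n13807 = n9576 := d37_1 D13807 (iv D9576) (iv F42673)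
theorem F60677 : act 6 n13807 = n9518 := d40_1 D13807 (iv D9518) D9517
def n13808 : Q := act 9 n9518
theorem D13808 : act 9 n9518 = n13808 := rfl
theorem F60678 : act 0 n13808 = n13808 := d8_1 D13808 (iv D13808) F42675
theorem F60679 : act 2 n13808 = n13808 := d23_1 D13808 (iv D13808) F42676
theorem F60680 : act 3 n13808 = n9536 := d29_1 D13808 (iv D9536) (iv F42677)
theorem F60681 : act 5 n13808 = n9519 := d38_1 D13808 (iv D9519) (iv F42678)
theorem F60682 : act 8 n13808 = n13808 := d44_1 D13808 (iv D13808) (iv D9518) F30102 D9518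
def n13809 : Q := act 1 n9521
theorem D13809 : act 1 n9521 = n13809 := rfl
theorem F60683 : act 2 n13809 = n13809 := d9_2 D9521 D13809 (iv D13809) (iv D9521) F30122
theorem F60684 : act 3 n13809 = n13809 := d10_2 F42692 D13809 (iv D13809)
theorem F60685 : act 4 n13809 = n10055 := d11_2 (iv F42693) D13809 (iv D10055)
theorem F60686 : act 6 n13809 = n9578 := d13_2 (iv F42694) D13809 (iv D9578)
theorem F60687 : act 9 n13809 = n9537 := d16_2 (iv F42695) D13809 (iv D9537)
def n13810 : Q := act 5 n9521
theorem D13810 : act 5 n9521 = n13810 := rfl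
theorem F60688 : act 0 n13810 = n9525 := d4_1 D13810 (iv D9525) (iv F42691)
theorem F60689 : act 2 n13810 = n9522 := d19_1 D13810 (iv D9522) D9521
theorem F60690 : act 3 n13810 = n13810 := d25_1 D13810 (iv D13810) F42692
theorem F60691 : act 9 n13810 = n9538 := d38_2 (iv F42695) D13810 (iv D9538)
def n13811 : Q := act 8 n9521
theorem D13811 : act 8 n9521 = n13811 := rfl
theorem F60692 : act 0 n13811 = n9526 := d7_1 D13811 (iv D9526) (iv F42691)
theorem F60693 : act 2 n13811 = n9523 := d22_1 D13811 (iv D9523) D9521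
theorem F60694 : act 4 n13811 = n10057 := d33_1 D13811 (iv D10057) (iv F42693)
theorem F60695 : act 6 n13811 = n9580 := d40_1 D13811 (iv D9580) (iv F42694)
def n13812 : Q := act 4 n9522
theorem D13812 : act 4 n9522 = n13812 := rfl
theorem F60696 : act 0 n13812 = n9527 := d3_1 D13812 (iv D9527) (iv F42696)
theorem F60697 : act 1 n13812 = n13812 := d11_1 D13812 (iv D13812) F42697
theorem F60698 : act 3 n13812 = n13812 := d24_1 D13812 (iv D13812) F42698 F30129 (iv F42698)
theorem F60699 : act 5 n13812 = n10058 := d30_2 D9522 D13812 (iv D10058) (iv D6933) (iv F30123)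
theorem F60700 : act 9 n13812 = n9540 := d34_2 (iv F42699) D13812 (iv D9540)
def n13813 : Q := act 6 n9522
theorem D13813 : act 6 n9522 = n13813 := rfl
theorem F60701 : act 0 n13813 = n9528 := d5_1 D13813 (iv D9528) (iv F42696)
theorem F60702 : act 1 n13813 = n13813 := d13_1 D13813 (iv D13813) F42697
theorem F60703 : act 3 n13813 = n9524 := d26_1 D13813 (iv D9524) (iv F42698)
theorem F60704 : act 5 n13813 = n9582 := d35_1 D13813 (iv D9582) (iv D6614) (iv F30124) D9522
theorem F60705 : act 9 n13813 = n9541 := d41_2 (iv F42699) D13813 (iv D9541)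
def n13814 : Q := act 8 n9522
theorem D13814 : act 8 n9522 = n13814 := rfl
theorem F60706 : act 0 n13814 = n9529 := d7_1 D13814 (iv D9529) (iv F42696)
theorem F60707 : act 1 n13814 = n13814 := d15_1 D13814 (iv D13814) F42697
theorem F60708 : act 5 n13814 = n9523 := d37_1 D13814 (iv D9523) D9522
def n13815 : Q := act 9 n9523
theorem D13815 : act 9 n9523 = n13815 := rfl
theorem F60709 : act 0 n13815 = n9530 := d8_1 D13815 (iv D9530) (iv F42700)
theorem F60710 : act 1 n13815 = n13815 := d16_1 D13815 (iv D13815) F42701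
theorem F60711 : act 4 n13815 = n10061 := d34_1 D13815 (iv D10061) (iv F42702)
theorem F60712 : act 6 n13815 = n9584 := d41_1 D13815 (iv D9584) (iv F42703)
theorem F60713 : act 8 n13815 = n9543 := d44_1 D13815 (iv D9543) (iv D6588) (iv F30125) D9523
def n13816 : Q := act 7 n9524
theorem D13816 : act 7 n9524 = n13816 := rfl
theorem F60714 : act 0 n13816 = n9531 := d6_1 D13816 (iv D9531) (iv F42704)
theorem F60715 : act 1 n13816 = n13816 := d14_1 D13816 (iv D13816) F42705
theorem F60716 : act 2 n13816 = n13816 := d21_1 D13816 (iv D13816) F42706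
theorem F60717 : act 4 n13816 = n13816 := d32_1 D13816 (iv D13816) F42707
theorem F60718 : act 5 n13816 = n9585 := d36_1 D13816 (iv D9585) (iv F42708)
theorem F60719 : act 9 n13816 = n9544 := d43_2 (iv F42709) D13816 (iv D9544)
def n13817 : Q := act 4 n9525
theorem D13817 : act 4 n9525 = n13817 := rfl
theorem F60720 : act 2 n13817 = n9527 := d18_1 D13817 (iv D9527) (iv F42710)
theorem F60721 : act 5 n13817 = n10063 := d30_2 D9525 D13817 (iv D10063) (iv D6936) (iv F30132)
theorem F60722 : act 9 n13817 = n9545 := d34_2 (iv F42712) D13817 (iv D9545)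
def n13818 : Q := act 6 n9525
theorem D13818 : act 6 n9525 = n13818 := rfl
theorem F60723 : act 2 n13818 = n9528 := d20_1 D13818 (iv D9528) (iv F42710)
theorem F60724 : act 3 n13818 = n13818 := d26_1 D13818 (iv D13818) F42711
theorem F60725 : act 5 n13818 = n9587 := d35_1 D13818 (iv D9587) (iv D6617) (iv F30133) D9525
theorem F60726 : act 9 n13818 = n9546 := d41_2 (iv F42712) D13818 (iv D9546)
def n13819 : Q := act 8 n9525
theorem D13819 : act 8 n9525 = n13819 := rfl
theorem F60727 : act 2 n13819 = n9529 := d22_1 D13819 (iv D9529) (iv F42710)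
theorem F60728 : act 5 n13819 = n9526 := d37_1 D13819 (iv D9526) D9525
def n13820 : Q := act 3 n9526
theorem D13820 : act 3 n9526 = n13820 := rfl
theorem F60729 : act 6 n13820 = n9589 := d26_2 (iv F42715) D13820 (iv D9589)
theorem F60730 : act 8 n13820 = n13820 := d28_2 D9526 D13820 (iv D13820) (iv D9526) F30131
def n13821 : Q := act 9 n9526
theorem D13821 : act 9 n9526 = n13821 := rfl
theorem F60731 : act 2 n13821 = n9530 := d23_1 D13821 (iv D9530) (iv F42713)
theorem F60732 : act 4 n13821 = n10067 := d34_1 D13821 (iv D10067) (iv F42714)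
theorem F60733 : act 6 n13821 = n9590 := d41_1 D13821 (iv D9590) (iv F42715)
theorem F60734 : act 8 n13821 = n9549 := d44_1 D13821 (iv D9549) (iv D6591) (iv F30134) D9526
def n13822 : Q := act 6 n9527
theorem D13822 : act 6 n9527 = n13822 := rfl
theorem F60735 : act 1 n13822 = n9532 := d13_1 D13822 (iv D9532) (iv F42716)
theorem F60736 : act 3 n13822 = n13822 := d26_1 D13822 (iv D13822) F42717
theorem F60737 : act 4 n13822 = n9528 := d31_1 D13822 (iv D9528) D9527
theorem F60738 : act 9 n13822 = n9550 := d41_2 (iv F42719) D13822 (iv D9550)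
def n13823 : Q := act 8 n9527
theorem D13823 : act 8 n9527 = n13823 := rfl
theorem F60739 : act 1 n13823 = n9533 := d15_1 D13823 (iv D9533) (iv F42716)
theorem F60740 : act 4 n13823 = n9529 := d33_1 D13823 (iv D9529) D9527
theorem F60741 : act 5 n13823 = n10069 := d37_1 D13823 (iv D10069) (iv F42718)
def n13824 : Q := act 7 n9528
theorem D13824 : act 7 n9528 = n13824 := rfl
theorem F60742 : act 1 n13824 = n9534 := d14_1 D13824 (iv D9534) (iv F42720)
theorem F60743 : act 3 n13824 = n9531 := d27_1 D13824 (iv D9531) (iv F42721)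
theorem F60744 : act 5 n13824 = n9593 := d36_1 D13824 (iv D9593) (iv F42722)
theorem F60745 : act 9 n13824 = n9552 := d43_2 (iv F42723) D13824 (iv D9552)
def n13825 : Q := act 8 n9528
theorem D13825 : act 8 n9528 = n13825 := rfl
theorem F60746 : act 1 n13825 = n9535 := d15_1 D13825 (iv D9535) (iv F42720)
theorem F60747 : act 5 n13825 = n9594 := d37_1 D13825 (iv D9594) (iv F42722)
theorem F60748 : act 6 n13825 = n9529 := d40_1 D13825 (iv D9529) D9528
def n13826 : Q := act 9 n9529
theorem D13826 : act 9 n9529 = n13826 := rfl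
theorem F60749 : act 1 n13826 = n9536 := d16_1 D13826 (iv D9536) (iv F42724)
theorem F60750 : act 5 n13826 = n9530 := d38_1 D13826 (iv D9530) (iv F42725)
theorem F60751 : act 8 n13826 = n9554 := d44_1 D13826 (iv D9554) (iv D6594) (iv F30137) D9529
def n13827 : Q := act 5 n9532
theorem D13827 : act 5 n9532 = n13827 := rfl
theorem F60752 : act 0 n13827 = n13827 := d4_1 D13827 (iv D13827) F42735
theorem F60753 : act 3 n13827 = n13827 := d25_1 D13827 (iv D13827) F42736
theorem F60754 : act 4 n13827 = n9596 := d30_1 D13827 (iv D9596) F30327 (iv F30152) (iv F42737)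
theorem F60755 : act 6 n13827 = n10073 := d35_2 D9532 D13827 (iv D10073) (iv D6943) (iv F30148)
theorem F60756 : act 9 n13827 = n9555 := d38_2 (iv F42738) D13827 (iv D9555)
def n13828 : Q := act 7 n9532
theorem D13828 : act 7 n9532 = n13828 := rfl
theorem F60757 : act 0 n13828 = n13828 := d6_1 D13828 (iv D13828) F42735
theorem F60758 : act 3 n13828 = n13828 := d27_1 D13828 (iv D13828) F42736
theorem F60759 : act 4 n13828 = n9534 := d32_1 D13828 (iv D9534) (iv F42737)
theorem F60760 : act 9 n13828 = n9556 := d43_2 (iv F42738) D13828 (iv D9556)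
def n13829 : Q := act 8 n9532
theorem D13829 : act 8 n9532 = n13829 := rfl
theorem F60761 : act 0 n13829 = n13829 := d7_1 D13829 (iv D13829) F42735
theorem F60762 : act 4 n13829 = n9535 := d33_1 D13829 (iv D9535) (iv F42737)
theorem F60763 : act 6 n13829 = n9533 := d40_1 D13829 (iv D9533) D9532
def n13830 : Q := act 3 n9533
theorem D13830 : act 3 n9533 = n13830 := rfl
theorem F60764 : act 0 n13830 = n13830 := d2_1 D13830 (iv D13830) F42739
theorem F60765 : act 5 n13830 = n10076 := d25_2 (iv F42741) D13830 (iv D10076)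
theorem F60766 : act 8 n13830 = n13830 := d28_2 D9533 D13830 (iv D13830) (iv D9533) F30147
def n13831 : Q := act 9 n9533
theorem D13831 : act 9 n9533 = n13831 := rfl
theorem F60767 : act 0 n13831 = n13831 := d8_1 D13831 (iv D13831) F42739
theorem F60768 : act 4 n13831 = n9536 := d34_1 D13831 (iv D9536) (iv F42740)
theorem F60769 : act 5 n13831 = n10077 := d38_1 D13831 (iv D10077) (iv F42741)
theorem F60770 : act 8 n13831 = n9559 := d44_1 D13831 (iv D9559) (iv D6598) (iv F30149) D9533
def n13832 : Q := act 8 n9534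
theorem D13832 : act 8 n9534 = n13832 := rfl
theorem F60771 : act 0 n13832 = n13832 := d7_1 D13832 (iv D13832) F42742
theorem F60772 : act 5 n13832 = n9601 := d37_1 D13832 (iv D9601) (iv F42744)
theorem F60773 : act 7 n13832 = n9535 := d42_1 D13832 (iv D9535) D9534
def n13833 : Q := act 9 n9535
theorem D13833 : act 9 n9535 = n13833 := rfl
theorem F60774 : act 0 n13833 = n13833 := d8_1 D13833 (iv D13833) F42746
theorem F60775 : act 5 n13833 = n9602 := d38_1 D13833 (iv D9602) (iv F42747)
theorem F60776 : act 6 n13833 = n9536 := d41_1 D13833 (iv D9536) (iv F42748)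
theorem F60777 : act 8 n13833 = n9561 := d44_1 D13833 (iv D9561) (iv D6600) (iv F30153) D9535
def n13834 : Q := act 5 n9537
theorem D13834 : act 5 n9537 = n13834 := rfl
theorem F60778 : act 1 n13834 = n9538 := d12_1 D13834 (iv D9538) D9537
theorem F60779 : act 2 n13834 = n13834 := d19_1 D13834 (iv D13834) F42752
theorem F60780 : act 3 n13834 = n13834 := d25_1 D13834 (iv D13834) F42753
def n13835 : Q := act 8 n9537
theorem D13835 : act 8 n9537 = n13835 := rfl
theorem F60781 : act 1 n13835 = n9539 := d15_1 D13835 (iv D9539) D9537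
theorem F60782 : act 2 n13835 = n13835 := d22_1 D13835 (iv D13835) F42752
theorem F60784 : act 6 n13835 = n9604 := d40_1 D13835 (iv D9604) (iv F42755)
def n13836 : Q := act 4 n9538
theorem D13836 : act 4 n9538 = n13836 := rfl
theorem F60785 : act 0 n13836 = n9545 := d3_1 D13836 (iv D9545) (iv F42756)
theorem F60786 : act 2 n13836 = n9540 := d18_1 D13836 (iv D9540) (iv F42757)
theorem F60787 : act 5 n13836 = n10082 := d30_2 D9538 D13836 (iv D10082) (iv D6949) (iv F30167)
def n13837 : Q := act 6 n9538
theorem D13837 : act 6 n9538 = n13837 := rfl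
theorem F60788 : act 0 n13837 = n9546 := d5_1 D13837 (iv D9546) (iv F42756)
theorem F60789 : act 2 n13837 = n9541 := d20_1 D13837 (iv D9541) (iv F42757)
theorem F60790 : act 3 n13837 = n13837 := d26_1 D13837 (iv D13837) F42758
theorem F60791 : act 5 n13837 = n9606 := d35_1 D13837 (iv D9606) (iv D6630) (iv F30168) D9538
def n13838 : Q := act 8 n9538
theorem D13838 : act 8 n9538 = n13838 := rfl
theorem F60792 : act 0 n13838 = n9547 := d7_1 D13838 (iv D9547) (iv F42756)
theorem F60793 : act 2 n13838 = n9542 := d22_1 D13838 (iv D9542) (iv F42757)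
theorem F60794 : act 5 n13838 = n9539 := d37_1 D13838 (iv D9539) D9538
def n13839 : Q := act 3 n9539
theorem D13839 : act 3 n9539 = n13839 := rfl
theorem F60795 : act 0 n13839 = n9548 := d2_1 D13839 (iv D9548) (iv F42759)
theorem F60796 : act 2 n13839 = n13839 := d17_1 D13839 (iv D13839) F42760 F30174 (iv F42760)
theorem F60797 : act 6 n13839 = n9608 := d26_2 (iv F42762) D13839 (iv D9608)
theorem F60798 : act 8 n13839 = n13839 := d28_2 D9539 D13839 (iv D13839) (iv D9539) F30166
def n13840 : Q := act 9 n9539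
theorem D13840 : act 9 n9539 = n13840 := rfl
theorem F60799 : act 0 n13840 = n9549 := d8_1 D13840 (iv D9549) (iv F42759)
theorem F60800 : act 2 n13840 = n9543 := d23_1 D13840 (iv D9543) (iv F42760)
theorem F60801 : act 4 n13840 = n10086 := d34_1 D13840 (iv D10086) (iv F42761)
theorem F60802 : act 6 n13840 = n9609 := d41_1 D13840 (iv D9609) (iv F42762)
def n13841 : Q := act 6 n9540
theorem D13841 : act 6 n9540 = n13841 := rfl
theorem F60803 : act 0 n13841 = n9550 := d5_1 D13841 (iv D9550) (iv F42763)
theorem F60804 : act 1 n13841 = n13841 := d13_1 D13841 (iv D13841) F42764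
theorem F60805 : act 3 n13841 = n13841 := d26_1 D13841 (iv D13841) F42765
theorem F60806 : act 4 n13841 = n9541 := d31_1 D13841 (iv D9541) D9540
def n13842 : Q := act 8 n9540
theorem D13842 : act 8 n9540 = n13842 := rfl
theorem F60807 : act 0 n13842 = n9551 := d7_1 D13842 (iv D9551) (iv F42763)
theorem F60808 : act 1 n13842 = n13842 := d15_1 D13842 (iv D13842) F42764
theorem F60809 : act 4 n13842 = n9542 := d33_1 D13842 (iv D9542) D9540
theorem F60810 : act 5 n13842 = n10088 := d37_1 D13842 (iv D10088) (iv F42766)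
def n13843 : Q := act 7 n9541
theorem D13843 : act 7 n9541 = n13843 := rfl
theorem F60811 : act 0 n13843 = n9552 := d6_1 D13843 (iv D9552) (iv F42767)
theorem F60812 : act 1 n13843 = n13843 := d14_1 D13843 (iv D13843) F42768
theorem F60813 : act 3 n13843 = n9544 := d27_1 D13843 (iv D9544) (iv F42769)
theorem F60814 : act 5 n13843 = n9612 := d36_1 D13843 (iv D9612) (iv F42770)
def n13844 : Q := act 8 n9541
theorem D13844 : act 8 n9541 = n13844 := rfl
theorem F60815 : act 0 n13844 = n9553 := d7_1 D13844 (iv D9553) (iv F42767)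
theorem F60816 : act 1 n13844 = n13844 := d15_1 D13844 (iv D13844) F42768
theorem F60817 : act 3 n13844 = n13844 := d28_1 D13844 (iv D13844) F42769 F30182 (iv F42769)
theorem F60818 : act 5 n13844 = n9613 := d37_1 D13844 (iv D9613) (iv F42770)
theorem F60819 : act 6 n13844 = n9542 := d40_1 D13844 (iv D9542) D9541
def n13845 : Q := act 9 n9542
theorem D13845 : act 9 n9542 = n13845 := rfl
theorem F60820 : act 0 n13845 = n9554 := d8_1 D13845 (iv D9554) (iv F42771)
theorem F60821 : act 1 n13845 = n13845 := d16_1 D13845 (iv D13845) F42772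
theorem F60822 : act 3 n13845 = n13845 := d29_1 D13845 (iv D13845) F42773
theorem F60823 : act 5 n13845 = n9543 := d38_1 D13845 (iv D9543) (iv F42774)
def n13846 : Q := act 3 n9545
theorem D13846 : act 3 n9545 = n13846 := rfl
theorem F60824 : act 2 n13846 = n13846 := d17_1 D13846 (iv D13846) F42786 F30189 (iv F42786)
theorem F60825 : act 4 n13846 = n13846 := d24_2 D9545 D13846 (iv D13846) (iv D9545) F30184
theorem F60826 : act 5 n13846 = n10092 := d25_2 (iv F42787) D13846 (iv D10092)
def n13847 : Q := act 6 n9545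
theorem D13847 : act 6 n9545 = n13847 := rfl
theorem F60827 : act 2 n13847 = n9550 := d20_1 D13847 (iv D9550) (iv F42786)
theorem F60828 : act 4 n13847 = n9546 := d31_1 D13847 (iv D9546) D9545
def n13848 : Q := act 8 n9545
theorem D13848 : act 8 n9545 = n13848 := rfl
theorem F60829 : act 2 n13848 = n9551 := d22_1 D13848 (iv D9551) (iv F42786)
theorem F60830 : act 4 n13848 = n9547 := d33_1 D13848 (iv D9547) D9545
theorem F60831 : act 5 n13848 = n10094 := d37_1 D13848 (iv D10094) (iv F42787)
def n13849 : Q := act 7 n9546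
theorem D13849 : act 7 n9546 = n13849 := rfl
theorem F60832 : act 2 n13849 = n9552 := d21_1 D13849 (iv D9552) (iv F42788)
theorem F60833 : act 3 n13849 = n13849 := d27_1 D13849 (iv D13849) F42789
theorem F60834 : act 5 n13849 = n9618 := d36_1 D13849 (iv D9618) (iv F42790)
def n13850 : Q := act 8 n9546
theorem D13850 : act 8 n9546 = n13850 := rfl
theorem F60835 : act 2 n13850 = n9553 := d22_1 D13850 (iv D9553) (iv F42788)
theorem F60836 : act 5 n13850 = n9619 := d37_1 D13850 (iv D9619) (iv F42790)
theorem F60837 : act 6 n13850 = n9547 := d40_1 D13850 (iv D9547) D9546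
def n13851 : Q := act 3 n9547
theorem D13851 : act 3 n9547 = n13851 := rfl
theorem F60838 : act 2 n13851 = n13851 := d17_1 D13851 (iv D13851) F42791 F30195 (iv F42791)
theorem F60839 : act 5 n13851 = n9548 := d25_2 (iv F42792) D13851 (iv D9548)
theorem F60840 : act 8 n13851 = n13851 := d28_2 D9547 D13851 (iv D13851) (iv D9547) F30184
def n13852 : Q := act 9 n9547
theorem D13852 : act 9 n9547 = n13852 := rfl
theorem F60841 : act 2 n13852 = n9554 := d23_1 D13852 (iv D9554) (iv F42791)
theorem F60842 : act 5 n13852 = n9549 := d38_1 D13852 (iv D9549) (iv F42792)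
def n13853 : Q := act 4 n9548
theorem D13853 : act 4 n9548 = n13853 := rfl
theorem F60843 : act 2 n13853 = n13853 := d18_1 D13853 (iv D13853) F42793
theorem F60844 : act 3 n13853 = n10099 := d24_1 D13853 (iv D10099) (iv D6959) (iv F30186) D9548
theorem F60845 : act 6 n13853 = n9622 := d31_2 (iv F42794) D13853 (iv D9622)
theorem F60846 : act 8 n13853 = n13853 := d33_2 F42795 D13853 (iv D13853)
def n13854 : Q := act 9 n9548
theorem D13854 : act 9 n9548 = n13854 := rfl
theorem F60847 : act 2 n13854 = n13854 := d23_1 D13854 (iv D13854) F42793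
theorem F60848 : act 3 n13854 = n9549 := d29_1 D13854 (iv D9549) D9548
theorem F60849 : act 6 n13854 = n9623 := d41_1 D13854 (iv D9623) (iv F42794)
def n13855 : Q := act 5 n9550
theorem D13855 : act 5 n9550 = n13855 := rfl
theorem F60850 : act 1 n13855 = n9555 := d12_1 D13855 (iv D9555) (iv F42799)
theorem F60851 : act 3 n13855 = n13855 := d25_1 D13855 (iv D13855) F42800
theorem F60852 : act 4 n13855 = n9624 := d30_1 D13855 (iv D9624) F30395 (iv F30193) (iv F42801)
theorem F60853 : act 6 n13855 = n10101 := d35_2 D9550 D13855 (iv D10101) (iv D6961) (iv F30190)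
def n13856 : Q := act 7 n9550
theorem D13856 : act 7 n9550 = n13856 := rfl
theorem F60854 : act 1 n13856 = n9556 := d14_1 D13856 (iv D9556) (iv F42799)
theorem F60855 : act 3 n13856 = n13856 := d27_1 D13856 (iv D13856) F42800
theorem F60856 : act 4 n13856 = n9552 := d32_1 D13856 (iv D9552) (iv F42801)
def n13857 : Q := act 8 n9550
theorem D13857 : act 8 n9550 = n13857 := rfl
theorem F60857 : act 1 n13857 = n9557 := d15_1 D13857 (iv D9557) (iv F42799)
theorem F60858 : act 4 n13857 = n9553 := d33_1 D13857 (iv D9553) (iv F42801)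
theorem F60859 : act 6 n13857 = n9551 := d40_1 D13857 (iv D9551) D9550
def n13858 : Q := act 3 n9551
theorem D13858 : act 3 n9551 = n13858 := rfl
theorem F60860 : act 1 n13858 = n9558 := d10_1 D13858 (iv D9558) (iv F42802)
theorem F60861 : act 4 n13858 = n13858 := d24_2 (iv F42803) D13858 (iv D13858) F42803 F30195
theorem F60862 : act 5 n13858 = n10104 := d25_2 (iv F42804) D13858 (iv D10104)
theorem F60863 : act 8 n13858 = n13858 := d28_2 D9551 D13858 (iv D13858) (iv D9551) F30189
def n13859 : Q := act 9 n9551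
theorem D13859 : act 9 n9551 = n13859 := rfl
theorem F60864 : act 1 n13859 = n9559 := d16_1 D13859 (iv D9559) (iv F42802)
theorem F60865 : act 4 n13859 = n9554 := d34_1 D13859 (iv D9554) (iv F42803)
theorem F60866 : act 5 n13859 = n10105 := d38_1 D13859 (iv D10105) (iv F42804)
def n13860 : Q := act 8 n9552
theorem D13860 : act 8 n9552 = n13860 := rfl
theorem F60867 : act 1 n13860 = n9560 := d15_1 D13860 (iv D9560) (iv F42805)
theorem F60868 : act 3 n13860 = n13860 := d28_1 D13860 (iv D13860) F42806 F30205 (iv F42806)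
theorem F60869 : act 5 n13860 = n9629 := d37_1 D13860 (iv D9629) (iv F42807)
theorem F60870 : act 7 n13860 = n9553 := d42_1 D13860 (iv D9553) D9552
def n13861 : Q := act 9 n9553
theorem D13861 : act 9 n9553 = n13861 := rfl
theorem F60871 : act 1 n13861 = n9561 := d16_1 D13861 (iv D9561) (iv F42808)
theorem F60872 : act 3 n13861 = n13861 := d29_1 D13861 (iv D13861) F42809
theorem F60873 : act 5 n13861 = n9630 := d38_1 D13861 (iv D9630) (iv F42810)
theorem F60874 : act 6 n13861 = n9554 := d41_1 D13861 (iv D9554) (iv F42811)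
def n13862 : Q := act 7 n9555
theorem D13862 : act 7 n9555 = n13862 := rfl
theorem F60875 : act 0 n13862 = n13862 := d6_1 D13862 (iv D13862) F42815
theorem F60876 : act 3 n13862 = n13862 := d27_1 D13862 (iv D13862) F42816
theorem F60877 : act 4 n13862 = n9631 := d32_1 D13862 (iv D9631) (iv F42817)
theorem F60878 : act 5 n13862 = n9556 := d36_1 D13862 (iv D9556) D9555
def n13863 : Q := act 8 n9555
theorem D13863 : act 8 n9555 = n13863 := rfl
theorem F60879 : act 0 n13863 = n13863 := d7_1 D13863 (iv D13863) F42815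
theorem F60880 : act 4 n13863 = n9632 := d33_1 D13863 (iv D9632) (iv F42817)
theorem F60881 : act 5 n13863 = n9557 := d37_1 D13863 (iv D9557) D9555
theorem F60882 : act 6 n13863 = n10109 := d40_1 D13863 (iv D10109) (iv F42818)
def n13864 : Q := act 8 n9556
theorem D13864 : act 8 n9556 = n13864 := rfl
theorem F60883 : act 0 n13864 = n13864 := d7_1 D13864 (iv D13864) F42819
theorem F60884 : act 4 n13864 = n9560 := d33_1 D13864 (iv D9560) (iv F42821)
theorem F60885 : act 7 n13864 = n9557 := d42_1 D13864 (iv D9557) D9556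
def n13865 : Q := act 3 n9557
theorem D13865 : act 3 n9557 = n13865 := rfl
theorem F60886 : act 0 n13865 = n13865 := d2_1 D13865 (iv D13865) F42822
theorem F60887 : act 4 n13865 = n13865 := d24_2 (iv F42823) D13865 (iv D13865) F42823 F30216
theorem F60888 : act 6 n13865 = n9558 := d26_2 (iv F42824) D13865 (iv D9558)
theorem F60889 : act 8 n13865 = n13865 := d28_2 D9557 D13865 (iv D13865) (iv D9557) F30207
def n13866 : Q := act 9 n9557
theorem D13866 : act 9 n9557 = n13866 := rfl
theorem F60890 : act 0 n13866 = n13866 := d8_1 D13866 (iv D13866) F42822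
theorem F60891 : act 4 n13866 = n9561 := d34_1 D13866 (iv D9561) (iv F42823)
theorem F60892 : act 6 n13866 = n9559 := d41_1 D13866 (iv D9559) (iv F42824)
def n13867 : Q := act 2 n9558
theorem D13867 : act 2 n9558 = n13867 := rfl
theorem F60893 : act 0 n13867 = n13867 := d1_1 D13867 (iv D13867) F42825
theorem F60894 : act 4 n13867 = n13867 := d18_2 F42826 D13867 (iv D13867)
theorem F60895 : act 5 n13867 = n10113 := d19_2 (iv F42827) D13867 (iv D10113)
theorem F60896 : act 8 n13867 = n13867 := d22_2 F42828 D13867 (iv D13867)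
def n13868 : Q := act 9 n9558
theorem D13868 : act 9 n9558 = n13868 := rfl
theorem F60897 : act 0 n13868 = n13868 := d8_1 D13868 (iv D13868) F42825
theorem F60898 : act 3 n13868 = n9559 := d29_1 D13868 (iv D9559) D9558
theorem F60899 : act 4 n13868 = n13868 := d34_1 D13868 (iv D13868) F42826
theorem F60900 : act 5 n13868 = n10114 := d38_1 D13868 (iv D10114) (iv F42827)
def n13869 : Q := act 9 n9560
theorem D13869 : act 9 n9560 = n13869 := rfl
theorem F60901 : act 0 n13869 = n13869 := d8_1 D13869 (iv D13869) F42832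
theorem F60902 : act 3 n13869 = n13869 := d29_1 D13869 (iv D13869) F42833
theorem F60903 : act 5 n13869 = n9638 := d38_1 D13869 (iv D9638) (iv F42834)
theorem F60904 : act 7 n13869 = n9561 := d43_1 D13869 (iv D9561) (iv F42835)
def n13870 : Q := act 1 n9562
theorem D13870 : act 1 n9562 = n13870 := rfl
theorem F60905 : act 0 n13870 = n13870 := d0_1 D13870 (iv D13870) F42840 F30234 (iv F42840)
theorem F60906 : act 2 n13870 = n13870 := d9_2 D9562 D13870 (iv D13870) (iv D9562) F30223
theorem F60907 : act 3 n13870 = n13870 := d10_2 F42841 D13870 (iv D13870)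
theorem F60908 : act 4 n13870 = n13870 := d11_2 F42842 D13870 (iv D13870)
theorem F60909 : act 7 n13870 = n13870 := d14_2 F42843 D13870 (iv D13870)
theorem F60910 : act 9 n13870 = n13870 := d16_2 F42844 D13870 (iv D13870)
def n13871 : Q := act 5 n9562
theorem D13871 : act 5 n9562 = n13871 := rfl
theorem F60911 : act 0 n13871 = n9566 := d4_1 D13871 (iv D9566) (iv F42840)
theorem F60912 : act 2 n13871 = n9563 := d19_1 D13871 (iv D9563) D9562
theorem F60913 : act 3 n13871 = n13871 := d25_1 D13871 (iv D13871) F42841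
theorem F60914 : act 7 n13871 = n13871 := d36_2 F42843 D13871 (iv D13871)
theorem F60915 : act 9 n13871 = n13871 := d38_2 F42844 D13871 (iv D13871)
def n13872 : Q := act 8 n9562
theorem D13872 : act 8 n9562 = n13872 := rfl
theorem F60916 : act 0 n13872 = n9567 := d7_1 D13872 (iv D9567) (iv F42840)
theorem F60917 : act 2 n13872 = n9564 := d22_1 D13872 (iv D9564) D9562
theorem F60918 : act 4 n13872 = n13872 := d33_1 D13872 (iv D13872) F42842
theorem F60919 : act 7 n13872 = n13872 := d42_1 D13872 (iv D13872) F42843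
def n13873 : Q := act 4 n9563
theorem D13873 : act 4 n9563 = n13873 := rfl
theorem F60922 : act 3 n13873 = n9658 := d24_1 D13873 (iv D9658) F30508 (iv F30230) (iv F42847)
def n13874 : Q := act 6 n9563
theorem D13874 : act 6 n9563 = n13874 := rfl
theorem F60926 : act 0 n13874 = n9569 := d5_1 D13874 (iv D9569) (iv F42845)
theorem F60927 : act 1 n13874 = n13874 := d13_1 D13874 (iv D13874) F42846
theorem F60928 : act 3 n13874 = n9565 := d26_1 D13874 (iv D9565) (iv F42847)
theorem F60929 : act 9 n13874 = n13874 := d41_2 F42849 D13874 (iv D13874)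
def n13875 : Q := act 8 n9563
theorem D13875 : act 8 n9563 = n13875 := rfl
theorem F60930 : act 0 n13875 = n9570 := d7_1 D13875 (iv D9570) (iv F42845)
theorem F60931 : act 1 n13875 = n13875 := d15_1 D13875 (iv D13875) F42846
theorem F60932 : act 3 n13875 = n9583 := d28_1 D13875 (iv D9583) F30286 (iv F30232) (iv F42847)
theorem F60933 : act 5 n13875 = n9564 := d37_1 D13875 (iv D9564) D9563
theorem F60934 : act 7 n13875 = n13875 := d42_1 D13875 (iv D13875) F42848
def n13876 : Q := act 9 n9564
theorem D13876 : act 9 n9564 = n13876 := rfl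
theorem F60935 : act 0 n13876 = n9571 := d8_1 D13876 (iv D9571) (iv F42850)
theorem F60936 : act 1 n13876 = n13876 := d16_1 D13876 (iv D13876) F42851
theorem F60937 : act 3 n13876 = n9584 := d29_1 D13876 (iv D9584) (iv F42852)
theorem F60938 : act 4 n13876 = n13876 := d34_1 D13876 (iv D13876) F42853
theorem F60939 : act 7 n13876 = n13876 := d43_1 D13876 (iv D13876) F42854
theorem F60940 : act 8 n13876 = n13876 := d44_1 D13876 (iv D13876) (iv D9564) F30226 D9564
def n13877 : Q := act 7 n9565
theorem D13877 : act 7 n9565 = n13877 := rfl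
theorem F60941 : act 0 n13877 = n9572 := d6_1 D13877 (iv D9572) (iv F42855)
theorem F60942 : act 1 n13877 = n13877 := d14_1 D13877 (iv D13877) F42856
theorem F60943 : act 2 n13877 = n13877 := d21_1 D13877 (iv D13877) F42857
theorem F60944 : act 4 n13877 = n9662 := d32_1 D13877 (iv D9662) (iv F42858)
theorem F60945 : act 6 n13877 = n13877 := d39_1 D13877 (iv D13877) (iv D9565) F30231 D9565
theorem F60946 : act 8 n13877 = n9585 := d42_2 (iv F42859) D13877 (iv D9585)
theorem F60947 : act 9 n13877 = n13877 := d43_2 F42860 D13877 (iv D13877)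
def n13878 : Q := act 4 n9566
theorem D13878 : act 4 n9566 = n13878 := rfl
theorem F60948 : act 1 n13878 = n13878 := d11_1 D13878 (iv D13878) F42861
theorem F60949 : act 2 n13878 = n9568 := d18_1 D13878 (iv D9568) (iv F42862)
theorem F60950 : act 5 n13878 = n13878 := d30_2 D9566 D13878 (iv D13878) (iv D9566) F30236
theorem F60951 : act 7 n13878 = n13878 := d32_2 F42864 D13878 (iv D13878)
theorem F60952 : act 9 n13878 = n13878 := d34_2 F42865 D13878 (iv D13878)
def n13879 : Q := act 6 n9566
theorem D13879 : act 6 n9566 = n13879 := rfl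
theorem F60953 : act 1 n13879 = n13879 := d13_1 D13879 (iv D13879) F42861
theorem F60954 : act 2 n13879 = n9569 := d20_1 D13879 (iv D9569) (iv F42862)
theorem F60955 : act 3 n13879 = n13879 := d26_1 D13879 (iv D13879) F42863
theorem F60956 : act 9 n13879 = n13879 := d41_2 F42865 D13879 (iv D13879)
def n13880 : Q := act 8 n9566
theorem D13880 : act 8 n9566 = n13880 := rfl
theorem F60957 : act 1 n13880 = n13880 := d15_1 D13880 (iv D13880) F42861
theorem F60958 : act 2 n13880 = n9570 := d22_1 D13880 (iv D9570) (iv F42862)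
theorem F60959 : act 5 n13880 = n9567 := d37_1 D13880 (iv D9567) D9566
theorem F60960 : act 7 n13880 = n13880 := d42_1 D13880 (iv D13880) F42864
def n13881 : Q := act 3 n9567
theorem D13881 : act 3 n9567 = n13881 := rfl
theorem F60961 : act 1 n13881 = n13881 := d10_1 D13881 (iv D13881) F42866
theorem F60962 : act 2 n13881 = n9589 := d17_1 D13881 (iv D9589) F30302 (iv F30244) (iv F42867)
theorem F60963 : act 7 n13881 = n13881 := d27_2 F42869 D13881 (iv D13881)
theorem F60964 : act 8 n13881 = n13881 := d28_2 D9567 D13881 (iv D13881) (iv D9567) F30235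
def n13882 : Q := act 9 n9567
theorem D13882 : act 9 n9567 = n13882 := rfl
theorem F60965 : act 1 n13882 = n13882 := d16_1 D13882 (iv D13882) F42866
theorem F60966 : act 2 n13882 = n9571 := d23_1 D13882 (iv D9571) (iv F42867)
theorem F60967 : act 4 n13882 = n13882 := d34_1 D13882 (iv D13882) F42868
theorem F60968 : act 7 n13882 = n13882 := d43_1 D13882 (iv D13882) F42869
theorem F60969 : act 8 n13882 = n13882 := d44_1 D13882 (iv D13882) (iv D9567) F30238 D9567
def n13883 : Q := act 6 n9568
theorem D13883 : act 6 n9568 = n13883 := rfl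
theorem F60970 : act 1 n13883 = n9573 := d13_1 D13883 (iv D9573) (iv F42870)
theorem F60971 : act 3 n13883 = n9668 := d26_1 D13883 (iv D9668) (iv F42871)
theorem F60972 : act 4 n13883 = n9569 := d31_1 D13883 (iv D9569) D9568
theorem F60973 : act 9 n13883 = n13883 := d41_2 F42874 D13883 (iv D13883)
def n13884 : Q := act 8 n9568
theorem D13884 : act 8 n9568 = n13884 := rfl
theorem F60974 : act 1 n13884 = n9574 := d15_1 D13884 (iv D9574) (iv F42870)
theorem F60975 : act 4 n13884 = n9570 := d33_1 D13884 (iv D9570) D9568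
theorem F60976 : act 5 n13884 = n13884 := d37_1 D13884 (iv D13884) F42872
theorem F60977 : act 7 n13884 = n13884 := d42_1 D13884 (iv D13884) F42873
def n13885 : Q := act 7 n9569
theorem D13885 : act 7 n9569 = n13885 := rfl
theorem F60978 : act 1 n13885 = n9575 := d14_1 D13885 (iv D9575) (iv F42875)
theorem F60979 : act 3 n13885 = n9572 := d27_1 D13885 (iv D9572) (iv F42876)
theorem F60980 : act 6 n13885 = n13885 := d39_1 D13885 (iv D13885) (iv D9569) F30241 D9569
theorem F60981 : act 9 n13885 = n13885 := d43_2 F42877 D13885 (iv D13885)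
def n13886 : Q := act 8 n9569
theorem D13886 : act 8 n9569 = n13886 := rfl
theorem F60982 : act 1 n13886 = n9576 := d15_1 D13886 (iv D9576) (iv F42875)
theorem F60983 : act 3 n13886 = n9594 := d28_1 D13886 (iv D9594) F30311 (iv F30250) (iv F42876)
theorem F60984 : act 6 n13886 = n9570 := d40_1 D13886 (iv D9570) D9569
def n13887 : Q := act 9 n9570
theorem D13887 : act 9 n9570 = n13887 := rfl
theorem F60985 : act 1 n13887 = n9577 := d16_1 D13887 (iv D9577) (iv F42878)
theorem F60986 : act 3 n13887 = n9595 := d29_1 D13887 (iv D9595) (iv F42879)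
theorem F60987 : act 5 n13887 = n9571 := d38_1 D13887 (iv D9571) (iv F42880)
theorem F60988 : act 7 n13887 = n13887 := d43_1 D13887 (iv D13887) F42881
theorem F60989 : act 8 n13887 = n13887 := d44_1 D13887 (iv D13887) (iv D9570) F30242 D9570
def n13888 : Q := act 5 n9573
theorem D13888 : act 5 n9573 = n13888 := rfl
theorem F60990 : act 0 n13888 = n13888 := d4_1 D13888 (iv D13888) F42893
theorem F60991 : act 2 n13888 = n13888 := d19_1 D13888 (iv D13888) F42894
theorem F60992 : act 3 n13888 = n9673 := d25_1 D13888 (iv D9673) (iv F42895)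
theorem F60993 : act 6 n13888 = n13888 := d35_2 D9573 D13888 (iv D13888) (iv D9573) F30255
theorem F60994 : act 9 n13888 = n13888 := d38_2 F42897 D13888 (iv D13888)
def n13889 : Q := act 7 n9573
theorem D13889 : act 7 n9573 = n13889 := rfl
theorem F60995 : act 0 n13889 = n13889 := d6_1 D13889 (iv D13889) F42893
theorem F60996 : act 2 n13889 = n13889 := d21_1 D13889 (iv D13889) F42894
theorem F60997 : act 3 n13889 = n9674 := d27_1 D13889 (iv D9674) (iv F42895)
theorem F60998 : act 4 n13889 = n9575 := d32_1 D13889 (iv D9575) (iv F42896)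
theorem F60999 : act 6 n13889 = n13889 := d39_1 D13889 (iv D13889) (iv D9573) F30256 D9573
theorem F61000 : act 9 n13889 = n13889 := d43_2 F42897 D13889 (iv D13889)
def n13890 : Q := act 8 n9573
theorem D13890 : act 8 n9573 = n13890 := rfl
theorem F61001 : act 0 n13890 = n13890 := d7_1 D13890 (iv D13890) F42893
theorem F61002 : act 2 n13890 = n13890 := d22_1 D13890 (iv D13890) F42894
theorem F61003 : act 4 n13890 = n9576 := d33_1 D13890 (iv D9576) (iv F42896)
theorem F61004 : act 6 n13890 = n9574 := d40_1 D13890 (iv D9574) D9573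
def n13891 : Q := act 3 n9574
theorem D13891 : act 3 n9574 = n13891 := rfl
theorem F61005 : act 0 n13891 = n13891 := d2_1 D13891 (iv D13891) F42898
theorem F61006 : act 4 n13891 = n9599 := d24_2 (iv F42900) D13891 (iv D9599) F30330 (iv F30264)
theorem F61007 : act 5 n13891 = n13891 := d25_2 F42901 D13891 (iv D13891)
theorem F61008 : act 7 n13891 = n13891 := d27_2 F42902 D13891 (iv D13891)
theorem F61009 : act 8 n13891 = n9676 := d28_2 D9574 D13891 (iv D9676) (iv D6677) (iv F30254)
def n13892 : Q := act 9 n9574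
theorem D13892 : act 9 n9574 = n13892 := rfl
theorem F61010 : act 0 n13892 = n13892 := d8_1 D13892 (iv D13892) F42898
theorem F61011 : act 2 n13892 = n13892 := d23_1 D13892 (iv D13892) F42899
theorem F61012 : act 4 n13892 = n9577 := d34_1 D13892 (iv D9577) (iv F42900)
theorem F61013 : act 5 n13892 = n13892 := d38_1 D13892 (iv D13892) F42901
theorem F61014 : act 7 n13892 = n13892 := d43_1 D13892 (iv D13892) F42902
theorem F61015 : act 8 n13892 = n13892 := d44_1 D13892 (iv D13892) (iv D9574) F30257 D9574
def n13893 : Q := act 8 n9575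
theorem D13893 : act 8 n9575 = n13893 := rfl
theorem F61016 : act 0 n13893 = n13893 := d7_1 D13893 (iv D13893) F42903
theorem F61017 : act 2 n13893 = n13893 := d22_1 D13893 (iv D13893) F42904
theorem F61018 : act 3 n13893 = n9601 := d28_1 D13893 (iv D9601) F30334 (iv F30277) (iv F42905)
theorem F61019 : act 6 n13893 = n13893 := d40_1 D13893 (iv D13893) F42906
theorem F61020 : act 7 n13893 = n9576 := d42_1 D13893 (iv D9576) D9575
def n13894 : Q := act 9 n9576
theorem D13894 : act 9 n9576 = n13894 := rfl
theorem F61021 : act 0 n13894 = n13894 := d8_1 D13894 (iv D13894) F42908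
theorem F61022 : act 2 n13894 = n13894 := d23_1 D13894 (iv D13894) F42909
theorem F61023 : act 3 n13894 = n9602 := d29_1 D13894 (iv D9602) (iv F42910)
theorem F61024 : act 6 n13894 = n9577 := d41_1 D13894 (iv D9577) (iv F42911)
theorem F61025 : act 8 n13894 = n13894 := d44_1 D13894 (iv D13894) (iv D9576) F30261 D9576
def n13895 : Q := act 5 n9578
theorem D13895 : act 5 n9578 = n13895 := rfl
theorem F61026 : act 1 n13895 = n9579 := d12_1 D13895 (iv D9579) D9578
theorem F61027 : act 2 n13895 = n13895 := d19_1 D13895 (iv D13895) F42918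
theorem F61028 : act 3 n13895 = n13895 := d25_1 D13895 (iv D13895) F42919
theorem F61029 : act 7 n13895 = n13895 := d36_2 F42921 D13895 (iv D13895)
theorem F61030 : act 9 n13895 = n9603 := d38_2 (iv F42922) D13895 (iv D9603)
def n13896 : Q := act 8 n9578
theorem D13896 : act 8 n9578 = n13896 := rfl
theorem F61031 : act 1 n13896 = n9580 := d15_1 D13896 (iv D9580) D9578
theorem F61032 : act 2 n13896 = n13896 := d22_1 D13896 (iv D13896) F42918
theorem F61033 : act 4 n13896 = n10117 := d33_1 D13896 (iv D10117) (iv F42920)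
theorem F61034 : act 7 n13896 = n13896 := d42_1 D13896 (iv D13896) F42921
def n13897 : Q := act 4 n9579
theorem D13897 : act 4 n9579 = n13897 := rfl
theorem F61035 : act 0 n13897 = n9586 := d3_1 D13897 (iv D9586) (iv F42923)
theorem F61036 : act 2 n13897 = n9581 := d18_1 D13897 (iv D9581) (iv F42924)
theorem F61037 : act 5 n13897 = n10118 := d30_2 D9579 D13897 (iv D10118) (iv D6974) (iv F30281)
theorem F61038 : act 7 n13897 = n13897 := d32_2 F42926 D13897 (iv D13897)
theorem F61039 : act 9 n13897 = n9605 := d34_2 (iv F42927) D13897 (iv D9605)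
def n13898 : Q := act 6 n9579
theorem D13898 : act 6 n9579 = n13898 := rfl
theorem F61040 : act 0 n13898 = n9587 := d5_1 D13898 (iv D9587) (iv F42923)
theorem F61041 : act 2 n13898 = n9582 := d20_1 D13898 (iv D9582) (iv F42924)
theorem F61042 : act 3 n13898 = n13898 := d26_1 D13898 (iv D13898) F42925
theorem F61043 : act 9 n13898 = n9606 := d41_2 (iv F42927) D13898 (iv D9606)
def n13899 : Q := act 8 n9579
theorem D13899 : act 8 n9579 = n13899 := rfl
theorem F61044 : act 0 n13899 = n9588 := d7_1 D13899 (iv D9588) (iv F42923)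
theorem F61045 : act 2 n13899 = n9583 := d22_1 D13899 (iv D9583) (iv F42924)
theorem F61046 : act 5 n13899 = n9580 := d37_1 D13899 (iv D9580) D9579
theorem F61047 : act 7 n13899 = n13899 := d42_1 D13899 (iv D13899) F42926
def n13900 : Q := act 3 n9580
theorem D13900 : act 3 n9580 = n13900 := rfl
theorem F61048 : act 0 n13900 = n9589 := d2_1 D13900 (iv D9589) (iv F42928)
theorem F61049 : act 7 n13900 = n13900 := d27_2 F42931 D13900 (iv D13900)
theorem F61050 : act 8 n13900 = n13900 := d28_2 D9580 D13900 (iv D13900) (iv D9580) F30280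
def n13901 : Q := act 9 n9580
theorem D13901 : act 9 n9580 = n13901 := rfl
theorem F61051 : act 0 n13901 = n9590 := d8_1 D13901 (iv D9590) (iv F42928)
theorem F61052 : act 2 n13901 = n9584 := d23_1 D13901 (iv D9584) (iv F42929)
theorem F61053 : act 4 n13901 = n10122 := d34_1 D13901 (iv D10122) (iv F42930)
theorem F61054 : act 7 n13901 = n13901 := d43_1 D13901 (iv D13901) F42931
theorem F61055 : act 8 n13901 = n9609 := d44_1 D13901 (iv D9609) (iv D6631) (iv F30283) D9580
def n13902 : Q := act 6 n9581
theorem D13902 : act 6 n9581 = n13902 := rfl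
theorem F61056 : act 0 n13902 = n9591 := d5_1 D13902 (iv D9591) (iv F42932)
theorem F61057 : act 1 n13902 = n13902 := d13_1 D13902 (iv D13902) F42933
theorem F61058 : act 3 n13902 = n9687 := d26_1 D13902 (iv D9687) (iv F42934)
theorem F61059 : act 4 n13902 = n9582 := d31_1 D13902 (iv D9582) D9581
theorem F61060 : act 9 n13902 = n9610 := d41_2 (iv F42937) D13902 (iv D9610)
def n13903 : Q := act 8 n9581
theorem D13903 : act 8 n9581 = n13903 := rfl
theorem F61061 : act 0 n13903 = n9592 := d7_1 D13903 (iv D9592) (iv F42932)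
theorem F61062 : act 1 n13903 = n13903 := d15_1 D13903 (iv D13903) F42933
theorem F61063 : act 4 n13903 = n9583 := d33_1 D13903 (iv D9583) D9581
theorem F61064 : act 5 n13903 = n10124 := d37_1 D13903 (iv D10124) (iv F42935)
theorem F61065 : act 7 n13903 = n13903 := d42_1 D13903 (iv D13903) F42936
def n13904 : Q := act 7 n9582
theorem D13904 : act 7 n9582 = n13904 := rfl
theorem F61066 : act 0 n13904 = n9593 := d6_1 D13904 (iv D9593) (iv F42938)
theorem F61067 : act 1 n13904 = n13904 := d14_1 D13904 (iv D13904) F42939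
theorem F61068 : act 3 n13904 = n9585 := d27_1 D13904 (iv D9585) (iv F42940)
theorem F61069 : act 6 n13904 = n13904 := d39_1 D13904 (iv D13904) (iv D9582) F30287 D9582
theorem F61070 : act 9 n13904 = n9612 := d43_2 (iv F42941) D13904 (iv D9612)
def n13905 : Q := act 8 n9582
theorem D13905 : act 8 n9582 = n13905 := rfl
theorem F61071 : act 0 n13905 = n9594 := d7_1 D13905 (iv D9594) (iv F42938)
theorem F61072 : act 1 n13905 = n13905 := d15_1 D13905 (iv D13905) F42939
theorem F61073 : act 6 n13905 = n9583 := d40_1 D13905 (iv D9583) D9582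
def n13906 : Q := act 9 n9583
theorem D13906 : act 9 n9583 = n13906 := rfl
theorem F61074 : act 0 n13906 = n9595 := d8_1 D13906 (iv D9595) (iv F42942)
theorem F61075 : act 1 n13906 = n13906 := d16_1 D13906 (iv D13906) F42943
theorem F61076 : act 5 n13906 = n9584 := d38_1 D13906 (iv D9584) (iv F42944)
theorem F61077 : act 7 n13906 = n13906 := d43_1 D13906 (iv D13906) F42945
theorem F61078 : act 8 n13906 = n9614 := d44_1 D13906 (iv D9614) (iv D6634) (iv F30288) D9583
def n13907 : Q := act 3 n9586
theorem D13907 : act 3 n9586 = n13907 := rfl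
theorem F61079 : act 2 n13907 = n9692 := d17_1 D13907 (iv D9692) F30620 (iv F30306) (iv F42957)
theorem F61080 : act 4 n13907 = n13907 := d24_2 D9586 D13907 (iv D13907) (iv D9586) F30299
theorem F61081 : act 5 n13907 = n10128 := d25_2 (iv F42958) D13907 (iv D10128)
theorem F61082 : act 7 n13907 = n13907 := d27_2 F42959 D13907 (iv D13907)
theorem F61083 : act 9 n13907 = n9615 := d29_2 (iv F42960) D13907 (iv D9615)
def n13908 : Q := act 6 n9586
theorem D13908 : act 6 n9586 = n13908 := rfl
theorem F61084 : act 2 n13908 = n9591 := d20_1 D13908 (iv D9591) (iv F42957)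
theorem F61085 : act 4 n13908 = n9587 := d31_1 D13908 (iv D9587) D9586
theorem F61086 : act 9 n13908 = n9616 := d41_2 (iv F42960) D13908 (iv D9616)
def n13909 : Q := act 8 n9586
theorem D13909 : act 8 n9586 = n13909 := rfl
theorem F61087 : act 2 n13909 = n9592 := d22_1 D13909 (iv D9592) (iv F42957)
theorem F61088 : act 4 n13909 = n9588 := d33_1 D13909 (iv D9588) D9586
theorem F61089 : act 5 n13909 = n10130 := d37_1 D13909 (iv D10130) (iv F42958)
theorem F61090 : act 7 n13909 = n13909 := d42_1 D13909 (iv D13909) F42959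
def n13910 : Q := act 7 n9587
theorem D13910 : act 7 n9587 = n13910 := rfl
theorem F61091 : act 2 n13910 = n9593 := d21_1 D13910 (iv D9593) (iv F42961)
theorem F61092 : act 3 n13910 = n13910 := d27_1 D13910 (iv D13910) F42962
theorem F61093 : act 6 n13910 = n13910 := d39_1 D13910 (iv D13910) (iv D9587) F30300 D9587
theorem F61094 : act 9 n13910 = n9618 := d43_2 (iv F42963) D13910 (iv D9618)
def n13911 : Q := act 8 n9587
theorem D13911 : act 8 n9587 = n13911 := rfl
theorem F61095 : act 2 n13911 = n9594 := d22_1 D13911 (iv D9594) (iv F42961)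
theorem F61096 : act 6 n13911 = n9588 := d40_1 D13911 (iv D9588) D9587
def n13912 : Q := act 3 n9588
theorem D13912 : act 3 n9588 = n13912 := rfl
theorem F61097 : act 5 n13912 = n9589 := d25_2 (iv F42965) D13912 (iv D9589)
theorem F61098 : act 7 n13912 = n13912 := d27_2 F42966 D13912 (iv D13912)
theorem F61099 : act 8 n13912 = n13912 := d28_2 D9588 D13912 (iv D13912) (iv D9588) F30299
def n13913 : Q := act 9 n9588
theorem D13913 : act 9 n9588 = n13913 := rfl
theorem F61100 : act 2 n13913 = n9595 := d23_1 D13913 (iv D9595) (iv F42964)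
theorem F61101 : act 5 n13913 = n9590 := d38_1 D13913 (iv D9590) (iv F42965)
theorem F61102 : act 7 n13913 = n13913 := d43_1 D13913 (iv D13913) F42966
theorem F61103 : act 8 n13913 = n9621 := d44_1 D13913 (iv D9621) (iv D6639) (iv F30301) D9588
def n13914 : Q := act 4 n9589
theorem D13914 : act 4 n9589 = n13914 := rfl
theorem F61104 : act 3 n13914 = n10135 := d24_1 D13914 (iv D10135) (iv D6984) (iv F30303) D9589
theorem F61105 : act 7 n13914 = n13914 := d32_2 F42967 D13914 (iv D13914)
theorem F61106 : act 8 n13914 = n13914 := d33_2 F42968 D13914 (iv D13914)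
def n13915 : Q := act 9 n9589
theorem D13915 : act 9 n9589 = n13915 := rfl
theorem F61107 : act 3 n13915 = n9590 := d29_1 D13915 (iv D9590) D9589
theorem F61108 : act 7 n13915 = n13915 := d43_1 D13915 (iv D13915) F42967
def n13916 : Q := act 5 n9591
theorem D13916 : act 5 n9591 = n13916 := rfl
theorem F61109 : act 1 n13916 = n9596 := d12_1 D13916 (iv D9596) (iv F42973)
theorem F61110 : act 3 n13916 = n9701 := d25_1 D13916 (iv D9701) (iv F42974)
theorem F61111 : act 6 n13916 = n10137 := d35_2 D9591 D13916 (iv D10137) (iv D6986) (iv F30307)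
theorem F61112 : act 9 n13916 = n9624 := d38_2 (iv F42976) D13916 (iv D9624)
def n13917 : Q := act 7 n9591
theorem D13917 : act 7 n9591 = n13917 := rfl
theorem F61113 : act 1 n13917 = n9597 := d14_1 D13917 (iv D9597) (iv F42973)
theorem F61114 : act 3 n13917 = n9702 := d27_1 D13917 (iv D9702) (iv F42974)
theorem F61115 : act 4 n13917 = n9593 := d32_1 D13917 (iv D9593) (iv F42975)
theorem F61116 : act 6 n13917 = n13917 := d39_1 D13917 (iv D13917) (iv D9591) F30308 D9591
theorem F61117 : act 9 n13917 = n9625 := d43_2 (iv F42976) D13917 (iv D9625)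
def n13918 : Q := act 8 n9591
theorem D13918 : act 8 n9591 = n13918 := rfl
theorem F61118 : act 1 n13918 = n9598 := d15_1 D13918 (iv D9598) (iv F42973)
theorem F61119 : act 4 n13918 = n9594 := d33_1 D13918 (iv D9594) (iv F42975)
theorem F61120 : act 6 n13918 = n9592 := d40_1 D13918 (iv D9592) D9591
def n13919 : Q := act 3 n9592
theorem D13919 : act 3 n9592 = n13919 := rfl
theorem F61121 : act 1 n13919 = n9599 := d10_1 D13919 (iv D9599) (iv F42977)
theorem F61122 : act 5 n13919 = n10140 := d25_2 (iv F42979) D13919 (iv D10140)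
theorem F61123 : act 7 n13919 = n13919 := d27_2 F42980 D13919 (iv D13919)
theorem F61124 : act 8 n13919 = n9704 := d28_2 D9592 D13919 (iv D9704) (iv D6695) (iv F30306)
def n13920 : Q := act 9 n9592
theorem D13920 : act 9 n9592 = n13920 := rfl
theorem F61125 : act 1 n13920 = n9600 := d16_1 D13920 (iv D9600) (iv F42977)
theorem F61126 : act 4 n13920 = n9595 := d34_1 D13920 (iv D9595) (iv F42978)
theorem F61127 : act 5 n13920 = n10141 := d38_1 D13920 (iv D10141) (iv F42979)
theorem F61128 : act 7 n13920 = n13920 := d43_1 D13920 (iv D13920) F42980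
theorem F61129 : act 8 n13920 = n9628 := d44_1 D13920 (iv D9628) (iv D6643) (iv F30309) D9592
def n13921 : Q := act 8 n9593
theorem D13921 : act 8 n9593 = n13921 := rfl
theorem F61130 : act 1 n13921 = n9601 := d15_1 D13921 (iv D9601) (iv F42981)
theorem F61131 : act 6 n13921 = n13921 := d40_1 D13921 (iv D13921) F42983
theorem F61132 : act 7 n13921 = n9594 := d42_1 D13921 (iv D9594) D9593
def n13922 : Q := act 9 n9594
theorem D13922 : act 9 n9594 = n13922 := rfl
theorem F61133 : act 1 n13922 = n9602 := d16_1 D13922 (iv D9602) (iv F42985)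
theorem F61134 : act 6 n13922 = n9595 := d41_1 D13922 (iv D9595) (iv F42986)
theorem F61135 : act 8 n13922 = n9630 := d44_1 D13922 (iv D9630) (iv D6645) (iv F30312) D9594
def n13923 : Q := act 7 n9596
theorem D13923 : act 7 n9596 = n13923 := rfl
theorem F61136 : act 0 n13923 = n13923 := d6_1 D13923 (iv D13923) F42991
theorem F61137 : act 3 n13923 = n9708 := d27_1 D13923 (iv D9708) (iv F42992)
theorem F61138 : act 5 n13923 = n9597 := d36_1 D13923 (iv D9597) D9596
theorem F61139 : act 9 n13923 = n9631 := d43_2 (iv F42994) D13923 (iv D9631)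
def n13924 : Q := act 8 n9596
theorem D13924 : act 8 n9596 = n13924 := rfl
theorem F61140 : act 0 n13924 = n13924 := d7_1 D13924 (iv D13924) F42991
theorem F61141 : act 5 n13924 = n9598 := d37_1 D13924 (iv D9598) D9596
theorem F61142 : act 6 n13924 = n10145 := d40_1 D13924 (iv D10145) (iv F42993)
def n13925 : Q := act 8 n9597
theorem D13925 : act 8 n9597 = n13925 := rfl
theorem F61143 : act 0 n13925 = n13925 := d7_1 D13925 (iv D13925) F42995
theorem F61144 : act 4 n13925 = n9601 := d33_1 D13925 (iv D9601) (iv F42997)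
theorem F61145 : act 6 n13925 = n13925 := d40_1 D13925 (iv D13925) F42998
theorem F61146 : act 7 n13925 = n9598 := d42_1 D13925 (iv D9598) D9597
def n13926 : Q := act 3 n9598
theorem D13926 : act 3 n9598 = n13926 := rfl
theorem F61147 : act 0 n13926 = n13926 := d2_1 D13926 (iv D13926) F43000
theorem F61148 : act 6 n13926 = n9599 := d26_2 (iv F43002) D13926 (iv D9599)
theorem F61149 : act 8 n13926 = n9711 := d28_2 D9598 D13926 (iv D9711) (iv D6701) (iv F30326)
def n13927 : Q := act 9 n9598
theorem D13927 : act 9 n9598 = n13927 := rfl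
theorem F61150 : act 0 n13927 = n13927 := d8_1 D13927 (iv D13927) F43000
theorem F61151 : act 4 n13927 = n9602 := d34_1 D13927 (iv D9602) (iv F43001)
theorem F61152 : act 6 n13927 = n9600 := d41_1 D13927 (iv D9600) (iv F43002)
theorem F61153 : act 8 n13927 = n9635 := d44_1 D13927 (iv D9635) (iv D6649) (iv F30328) D9598
def n13928 : Q := act 2 n9599
theorem D13928 : act 2 n9599 = n13928 := rfl
theorem F61154 : act 0 n13928 = n13928 := d1_1 D13928 (iv D13928) F43003
theorem F61155 : act 5 n13928 = n10149 := d19_2 (iv F43004) D13928 (iv D10149)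
theorem F61156 : act 7 n13928 = n13928 := d21_2 F43005 D13928 (iv D13928)
theorem F61157 : act 8 n13928 = n9713 := d22_2 (iv F43006) D13928 (iv D9713)
def n13929 : Q := act 9 n9599
theorem D13929 : act 9 n9599 = n13929 := rfl
theorem F61158 : act 0 n13929 = n13929 := d8_1 D13929 (iv D13929) F43003
theorem F61159 : act 3 n13929 = n9600 := d29_1 D13929 (iv D9600) D9599
theorem F61160 : act 5 n13929 = n10150 := d38_1 D13929 (iv D10150) (iv F43004)
theorem F61161 : act 7 n13929 = n13929 := d43_1 D13929 (iv D13929) F43005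
def n13930 : Q := act 9 n9601
theorem D13930 : act 9 n9601 = n13930 := rfl
theorem F61162 : act 0 n13930 = n13930 := d8_1 D13930 (iv D13930) F43012
theorem F61163 : act 6 n13930 = n13930 := d41_1 D13930 (iv D13930) F43013
theorem F61164 : act 7 n13930 = n9602 := d43_1 D13930 (iv D9602) (iv F43014)
theorem F61165 : act 8 n13930 = n9638 := d44_1 D13930 (iv D9638) (iv D6652) (iv F30336) D9601
def n13931 : Q := act 4 n9603
theorem D13931 : act 4 n9603 = n13931 := rfl
theorem F61166 : act 1 n13931 = n9605 := d11_1 D13931 (iv D9605) (iv F43018)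
theorem F61167 : act 2 n13931 = n13931 := d18_1 D13931 (iv D13931) F43019
theorem F61168 : act 5 n13931 = n10152 := d30_2 D9603 D13931 (iv D10152) (iv D6998) (iv F30345)
theorem F61169 : act 7 n13931 = n13931 := d32_2 F43021 D13931 (iv D13931)
def n13932 : Q := act 6 n9603
theorem D13932 : act 6 n9603 = n13932 := rfl
theorem F61170 : act 1 n13932 = n9606 := d13_1 D13932 (iv D9606) (iv F43018)
theorem F61171 : act 2 n13932 = n13932 := d20_1 D13932 (iv D13932) F43019
theorem F61172 : act 3 n13932 = n13932 := d26_1 D13932 (iv D13932) F43020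
def n13933 : Q := act 8 n9603
theorem D13933 : act 8 n9603 = n13933 := rfl
theorem F61173 : act 1 n13933 = n9607 := d15_1 D13933 (iv D9607) (iv F43018)
theorem F61174 : act 2 n13933 = n13933 := d22_1 D13933 (iv D13933) F43019
theorem F61175 : act 5 n13933 = n9604 := d37_1 D13933 (iv D9604) D9603
theorem F61176 : act 7 n13933 = n13933 := d42_1 D13933 (iv D13933) F43021
def n13934 : Q := act 3 n9604
theorem D13934 : act 3 n9604 = n13934 := rfl
def n13935 : Q := act 9 n9604
theorem D13935 : act 9 n9604 = n13935 := rfl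
theorem F61180 : act 1 n13935 = n9609 := d16_1 D13935 (iv D9609) (iv F43022)
theorem F61181 : act 2 n13935 = n13935 := d23_1 D13935 (iv D13935) F43023
theorem F61183 : act 7 n13935 = n13935 := d43_1 D13935 (iv D13935) F43025
def n13936 : Q := act 3 n9605
theorem D13936 : act 3 n9605 = n13936 := rfl
theorem F61184 : act 0 n13936 = n9615 := d2_1 D13936 (iv D9615) (iv F43026)
theorem F61185 : act 2 n13936 = n9721 := d17_1 D13936 (iv D9721) F30707 (iv F30357) (iv F43027)
theorem F61186 : act 4 n13936 = n13936 := d24_2 D9605 D13936 (iv D13936) (iv D9605) F30349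
theorem F61187 : act 5 n13936 = n10157 := d25_2 (iv F43028) D13936 (iv D10157)
theorem F61188 : act 7 n13936 = n13936 := d27_2 F43029 D13936 (iv D13936)
def n13937 : Q := act 6 n9605
theorem D13937 : act 6 n9605 = n13937 := rfl
theorem F61189 : act 0 n13937 = n9616 := d5_1 D13937 (iv D9616) (iv F43026)
theorem F61190 : act 2 n13937 = n9610 := d20_1 D13937 (iv D9610) (iv F43027)
theorem F61191 : act 4 n13937 = n9606 := d31_1 D13937 (iv D9606) D9605
def n13938 : Q := act 8 n9605
theorem D13938 : act 8 n9605 = n13938 := rfl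
theorem F61192 : act 0 n13938 = n9617 := d7_1 D13938 (iv D9617) (iv F43026)
theorem F61193 : act 2 n13938 = n9611 := d22_1 D13938 (iv D9611) (iv F43027)
theorem F61194 : act 4 n13938 = n9607 := d33_1 D13938 (iv D9607) D9605
theorem F61195 : act 5 n13938 = n10159 := d37_1 D13938 (iv D10159) (iv F43028)
theorem F61196 : act 7 n13938 = n13938 := d42_1 D13938 (iv D13938) F43029
def n13939 : Q := act 7 n9606
theorem D13939 : act 7 n9606 = n13939 := rfl
theorem F61197 : act 0 n13939 = n9618 := d6_1 D13939 (iv D9618) (iv F43030)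
theorem F61198 : act 2 n13939 = n9612 := d21_1 D13939 (iv D9612) (iv F43031)
theorem F61199 : act 3 n13939 = n13939 := d27_1 D13939 (iv D13939) F43032
theorem F61200 : act 6 n13939 = n13939 := d39_1 D13939 (iv D13939) (iv D9606) F30350 D9606
def n13940 : Q := act 8 n9606
theorem D13940 : act 8 n9606 = n13940 := rfl
theorem F61201 : act 0 n13940 = n9619 := d7_1 D13940 (iv D9619) (iv F43030)
theorem F61202 : act 2 n13940 = n9613 := d22_1 D13940 (iv D9613) (iv F43031)
theorem F61203 : act 6 n13940 = n9607 := d40_1 D13940 (iv D9607) D9606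
def n13941 : Q := act 3 n9607
theorem D13941 : act 3 n9607 = n13941 := rfl
theorem F61204 : act 0 n13941 = n9620 := d2_1 D13941 (iv D9620) (iv F43033)
theorem F61205 : act 2 n13941 = n13941 := d17_1 D13941 (iv D13941) F43034 F30365 (iv F43034)
theorem F61206 : act 5 n13941 = n9608 := d25_2 (iv F43035) D13941 (iv D9608)
theorem F61207 : act 7 n13941 = n13941 := d27_2 F43036 D13941 (iv D13941)
theorem F61208 : act 8 n13941 = n13941 := d28_2 D9607 D13941 (iv D13941) (iv D9607) F30349
def n13942 : Q := act 9 n9607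
theorem D13942 : act 9 n9607 = n13942 := rfl
theorem F61209 : act 0 n13942 = n9621 := d8_1 D13942 (iv D9621) (iv F43033)
theorem F61210 : act 2 n13942 = n9614 := d23_1 D13942 (iv D9614) (iv F43034)
theorem F61211 : act 5 n13942 = n9609 := d38_1 D13942 (iv D9609) (iv F43035)
theorem F61212 : act 7 n13942 = n13942 := d43_1 D13942 (iv D13942) F43036
def n13943 : Q := act 4 n9608
theorem D13943 : act 4 n9608 = n13943 := rfl
theorem F61213 : act 0 n13943 = n9622 := d3_1 D13943 (iv D9622) (iv F43037)
theorem F61215 : act 3 n13943 = n10164 := d24_1 D13943 (iv D10164) (iv D7003) (iv F30353) D9608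
def n13944 : Q := act 9 n9608
theorem D13944 : act 9 n9608 = n13944 := rfl
theorem F61218 : act 0 n13944 = n9623 := d8_1 D13944 (iv D9623) (iv F43037)
theorem F61219 : act 2 n13944 = n13944 := d23_1 D13944 (iv D13944) F43038
theorem F61220 : act 3 n13944 = n9609 := d29_1 D13944 (iv D9609) D9608
theorem F61221 : act 7 n13944 = n13944 := d43_1 D13944 (iv D13944) F43039
def n13945 : Q := act 5 n9610
theorem D13945 : act 5 n9610 = n13945 := rfl
theorem F61222 : act 0 n13945 = n9624 := d4_1 D13945 (iv D9624) (iv F43045)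
theorem F61223 : act 1 n13945 = n13945 := d12_1 D13945 (iv D13945) F43046
theorem F61224 : act 3 n13945 = n9729 := d25_1 D13945 (iv D9729) (iv F43047)
theorem F61225 : act 6 n13945 = n10166 := d35_2 D9610 D13945 (iv D10166) (iv D7005) (iv F30358)
def n13946 : Q := act 7 n9610
theorem D13946 : act 7 n9610 = n13946 := rfl
theorem F61226 : act 0 n13946 = n9625 := d6_1 D13946 (iv D9625) (iv F43045)
theorem F61227 : act 1 n13946 = n13946 := d14_1 D13946 (iv D13946) F43046
theorem F61228 : act 3 n13946 = n9730 := d27_1 D13946 (iv D9730) (iv F43047)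
theorem F61229 : act 4 n13946 = n9612 := d32_1 D13946 (iv D9612) (iv F43048)
theorem F61230 : act 6 n13946 = n13946 := d39_1 D13946 (iv D13946) (iv D9610) F30359 D9610
def n13947 : Q := act 8 n9610
theorem D13947 : act 8 n9610 = n13947 := rfl
theorem F61231 : act 0 n13947 = n9626 := d7_1 D13947 (iv D9626) (iv F43045)
theorem F61232 : act 1 n13947 = n13947 := d15_1 D13947 (iv D13947) F43046
theorem F61233 : act 4 n13947 = n9613 := d33_1 D13947 (iv D9613) (iv F43048)
theorem F61234 : act 6 n13947 = n9611 := d40_1 D13947 (iv D9611) D9610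
def n13948 : Q := act 3 n9611
theorem D13948 : act 3 n9611 = n13948 := rfl
theorem F61235 : act 0 n13948 = n9627 := d2_1 D13948 (iv D9627) (iv F43049)
theorem F61236 : act 1 n13948 = n13948 := d10_1 D13948 (iv D13948) F43050
theorem F61237 : act 4 n13948 = n13948 := d24_2 (iv F43051) D13948 (iv D13948) F43051 F30365
theorem F61238 : act 5 n13948 = n10169 := d25_2 (iv F43052) D13948 (iv D10169)
theorem F61239 : act 7 n13948 = n13948 := d27_2 F43053 D13948 (iv D13948)
theorem F61240 : act 8 n13948 = n9732 := d28_2 D9611 D13948 (iv D9732) (iv D6714) (iv F30357)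
def n13949 : Q := act 9 n9611
theorem D13949 : act 9 n9611 = n13949 := rfl
theorem F61241 : act 0 n13949 = n9628 := d8_1 D13949 (iv D9628) (iv F43049)
theorem F61242 : act 1 n13949 = n13949 := d16_1 D13949 (iv D13949) F43050
theorem F61243 : act 4 n13949 = n9614 := d34_1 D13949 (iv D9614) (iv F43051)
theorem F61244 : act 5 n13949 = n10170 := d38_1 D13949 (iv D10170) (iv F43052)
theorem F61245 : act 7 n13949 = n13949 := d43_1 D13949 (iv D13949) F43053
def n13950 : Q := act 8 n9612
theorem D13950 : act 8 n9612 = n13950 := rfl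
theorem F61246 : act 0 n13950 = n9629 := d7_1 D13950 (iv D9629) (iv F43054)
theorem F61247 : act 1 n13950 = n13950 := d15_1 D13950 (iv D13950) F43055
theorem F61248 : act 3 n13950 = n13950 := d28_1 D13950 (iv D13950) F43056 F30378 (iv F43056)
theorem F61249 : act 6 n13950 = n13950 := d40_1 D13950 (iv D13950) F43057
theorem F61250 : act 7 n13950 = n9613 := d42_1 D13950 (iv D9613) D9612
def n13951 : Q := act 9 n9613
theorem D13951 : act 9 n9613 = n13951 := rfl
theorem F61251 : act 0 n13951 = n9630 := d8_1 D13951 (iv D9630) (iv F43058)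
theorem F61252 : act 1 n13951 = n13951 := d16_1 D13951 (iv D13951) F43059
theorem F61253 : act 3 n13951 = n13951 := d29_1 D13951 (iv D13951) F43060
theorem F61254 : act 6 n13951 = n9614 := d41_1 D13951 (iv D9614) (iv F43061)
def n13952 : Q := act 6 n9615
theorem D13952 : act 6 n9615 = n13952 := rfl
theorem F61255 : act 2 n13952 = n9736 := d20_1 D13952 (iv D9736) (iv F43067)
theorem F61256 : act 3 n13952 = n9616 := d26_1 D13952 (iv D9616) D9615
theorem F61257 : act 4 n13952 = n13952 := d31_1 D13952 (iv D13952) F43068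
def n13953 : Q := act 8 n9615
theorem D13953 : act 8 n9615 = n13953 := rfl
theorem F61258 : act 2 n13953 = n9737 := d22_1 D13953 (iv D9737) (iv F43067)
theorem F61259 : act 4 n13953 = n13953 := d33_1 D13953 (iv D13953) F43068
theorem F61260 : act 5 n13953 = n10174 := d37_1 D13953 (iv D10174) (iv F43069)
theorem F61261 : act 7 n13953 = n13953 := d42_1 D13953 (iv D13953) F43070
def n13954 : Q := act 5 n9616
theorem D13954 : act 5 n9616 = n13954 := rfl
theorem F61262 : act 2 n13954 = n9624 := d19_1 D13954 (iv D9624) (iv F43071)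
theorem F61263 : act 6 n13954 = n10175 := d35_2 D9616 D13954 (iv D10175) (iv D7011) (iv F30380)
def n13955 : Q := act 7 n9616
theorem D13955 : act 7 n9616 = n13955 := rfl
theorem F61264 : act 2 n13955 = n9625 := d21_1 D13955 (iv D9625) (iv F43071)
theorem F61265 : act 4 n13955 = n9618 := d32_1 D13955 (iv D9618) (iv F43072)
theorem F61266 : act 6 n13955 = n13955 := d39_1 D13955 (iv D13955) (iv D9616) F30381 D9616
def n13956 : Q := act 8 n9616
theorem D13956 : act 8 n9616 = n13956 := rfl
theorem F61267 : act 2 n13956 = n9626 := d22_1 D13956 (iv D9626) (iv F43071)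
theorem F61268 : act 4 n13956 = n9619 := d33_1 D13956 (iv D9619) (iv F43072)
theorem F61269 : act 6 n13956 = n9617 := d40_1 D13956 (iv D9617) D9616
def n13957 : Q := act 3 n9617
theorem D13957 : act 3 n9617 = n13957 := rfl
theorem F61270 : act 5 n13957 = n10178 := d25_2 (iv F43075) D13957 (iv D10178)
theorem F61271 : act 7 n13957 = n13957 := d27_2 F43076 D13957 (iv D13957)
def n13958 : Q := act 9 n9617
theorem D13958 : act 9 n9617 = n13958 := rfl
theorem F61272 : act 2 n13958 = n9628 := d23_1 D13958 (iv D9628) (iv F43073)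
theorem F61273 : act 4 n13958 = n9621 := d34_1 D13958 (iv D9621) (iv F43074)
theorem F61274 : act 5 n13958 = n10179 := d38_1 D13958 (iv D10179) (iv F43075)
theorem F61275 : act 7 n13958 = n13958 := d43_1 D13958 (iv D13958) F43076
def n13959 : Q := act 8 n9618
theorem D13959 : act 8 n9618 = n13959 := rfl
theorem F61276 : act 2 n13959 = n9629 := d22_1 D13959 (iv D9629) (iv F43077)
theorem F61277 : act 6 n13959 = n13959 := d40_1 D13959 (iv D13959) F43079
theorem F61278 : act 7 n13959 = n9619 := d42_1 D13959 (iv D9619) D9618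
def n13960 : Q := act 3 n9619
theorem D13960 : act 3 n9619 = n13960 := rfl
theorem F61279 : act 2 n13960 = n13960 := d17_1 D13960 (iv D13960) F43080 F30404 (iv F43080)
theorem F61280 : act 6 n13960 = n9620 := d26_2 (iv F43081) D13960 (iv D9620)
theorem F61281 : act 8 n13960 = n13960 := d28_2 D9619 D13960 (iv D13960) (iv D9619) F30383
def n13961 : Q := act 9 n9619
theorem D13961 : act 9 n9619 = n13961 := rfl
theorem F61282 : act 2 n13961 = n9630 := d23_1 D13961 (iv D9630) (iv F43080)
theorem F61283 : act 6 n13961 = n9621 := d41_1 D13961 (iv D9621) (iv F43081)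
def n13962 : Q := act 4 n9620
theorem D13962 : act 4 n9620 = n13962 := rfl
theorem F61284 : act 2 n13962 = n13962 := d18_1 D13962 (iv D13962) F43082
theorem F61285 : act 7 n13962 = n13962 := d32_2 F43084 D13962 (iv D13962)
theorem F61286 : act 8 n13962 = n13962 := d33_2 F43085 D13962 (iv D13962)
def n13963 : Q := act 9 n9620
theorem D13963 : act 9 n9620 = n13963 := rfl
theorem F61287 : act 2 n13963 = n13963 := d23_1 D13963 (iv D13963) F43082
theorem F61288 : act 3 n13963 = n9621 := d29_1 D13963 (iv D9621) D9620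
theorem F61289 : act 5 n13963 = n9623 := d38_1 D13963 (iv D9623) (iv F43083)
theorem F61290 : act 7 n13963 = n13963 := d43_1 D13963 (iv D13963) F43084
def n13964 : Q := act 5 n9622
theorem D13964 : act 5 n9622 = n13964 := rfl
theorem F61291 : act 2 n13964 = n13964 := d19_1 D13964 (iv D13964) F43089
theorem F61292 : act 3 n13964 = n10185 := d25_1 D13964 (iv D10185) (iv F43090)
theorem F61293 : act 7 n13964 = n13964 := d36_2 F43091 D13964 (iv D13964)
theorem F61294 : act 8 n13964 = n13964 := d37_2 F43092 D13964 (iv D13964)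
def n13965 : Q := act 9 n9622
theorem D13965 : act 9 n9622 = n13965 := rfl
theorem F61295 : act 2 n13965 = n13965 := d23_1 D13965 (iv D13965) F43089
theorem F61296 : act 3 n13965 = n10186 := d29_1 D13965 (iv D10186) (iv F43090)
theorem F61297 : act 4 n13965 = n9623 := d34_1 D13965 (iv D9623) D9622
theorem F61298 : act 7 n13965 = n13965 := d43_1 D13965 (iv D13965) F43091
def n13966 : Q := act 8 n9623
theorem D13966 : act 8 n9623 = n13966 := rfl
theorem F61299 : act 2 n13966 = n13966 := d22_1 D13966 (iv D13966) F43093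
theorem F61300 : act 7 n13966 = n13966 := d42_1 D13966 (iv D13966) F43095
theorem F61301 : act 9 n13966 = n13966 := d44_2 D9623 D13966 (iv D13966) (iv D9623) F30389
def n13967 : Q := act 7 n9624
theorem D13967 : act 7 n9624 = n13967 := rfl
theorem F61302 : act 1 n13967 = n9631 := d14_1 D13967 (iv D9631) (iv F43096)
theorem F61303 : act 3 n13967 = n9749 := d27_1 D13967 (iv D9749) (iv F43097)
theorem F61304 : act 5 n13967 = n9625 := d36_1 D13967 (iv D9625) D9624
def n13968 : Q := act 8 n9624
theorem D13968 : act 8 n9624 = n13968 := rfl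
theorem F61305 : act 1 n13968 = n9632 := d15_1 D13968 (iv D9632) (iv F43096)
theorem F61306 : act 5 n13968 = n9626 := d37_1 D13968 (iv D9626) D9624
theorem F61307 : act 6 n13968 = n10189 := d40_1 D13968 (iv D10189) (iv F43098)
def n13969 : Q := act 8 n9625
theorem D13969 : act 8 n9625 = n13969 := rfl
theorem F61308 : act 1 n13969 = n9633 := d15_1 D13969 (iv D9633) (iv F43099)
theorem F61309 : act 4 n13969 = n9629 := d33_1 D13969 (iv D9629) (iv F43101)
theorem F61310 : act 6 n13969 = n13969 := d40_1 D13969 (iv D13969) F43102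
theorem F61311 : act 7 n13969 = n9626 := d42_1 D13969 (iv D9626) D9625
def n13970 : Q := act 3 n9626
theorem D13970 : act 3 n9626 = n13970 := rfl
theorem F61312 : act 1 n13970 = n9634 := d10_1 D13970 (iv D9634) (iv F43103)
theorem F61313 : act 4 n13970 = n13970 := d24_2 (iv F43104) D13970 (iv D13970) F43104 F30404
theorem F61314 : act 6 n13970 = n9627 := d26_2 (iv F43105) D13970 (iv D9627)
theorem F61315 : act 8 n13970 = n9752 := d28_2 D9626 D13970 (iv D9752) (iv D6728) (iv F30394)
def n13971 : Q := act 9 n9626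
theorem D13971 : act 9 n9626 = n13971 := rfl
theorem F61316 : act 1 n13971 = n9635 := d16_1 D13971 (iv D9635) (iv F43103)
theorem F61317 : act 4 n13971 = n9630 := d34_1 D13971 (iv D9630) (iv F43104)
theorem F61318 : act 6 n13971 = n9628 := d41_1 D13971 (iv D9628) (iv F43105)
def n13972 : Q := act 2 n9627
theorem D13972 : act 2 n9627 = n13972 := rfl
theorem F61319 : act 4 n13972 = n13972 := d18_2 F43107 D13972 (iv D13972)
theorem F61320 : act 5 n13972 = n10193 := d19_2 (iv F43108) D13972 (iv D10193)
theorem F61321 : act 7 n13972 = n13972 := d21_2 F43109 D13972 (iv D13972)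
theorem F61322 : act 8 n13972 = n9754 := d22_2 (iv F43110) D13972 (iv D9754)
def n13973 : Q := act 9 n9627
theorem D13973 : act 9 n9627 = n13973 := rfl
theorem F61323 : act 1 n13973 = n9637 := d16_1 D13973 (iv D9637) (iv F43106)
theorem F61324 : act 3 n13973 = n9628 := d29_1 D13973 (iv D9628) D9627
theorem F61325 : act 4 n13973 = n13973 := d34_1 D13973 (iv D13973) F43107
theorem F61326 : act 5 n13973 = n10194 := d38_1 D13973 (iv D10194) (iv F43108)
theorem F61327 : act 7 n13973 = n13973 := d43_1 D13973 (iv D13973) F43109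
def n13974 : Q := act 9 n9629
theorem D13974 : act 9 n9629 = n13974 := rfl
theorem F61328 : act 1 n13974 = n9638 := d16_1 D13974 (iv D9638) (iv F43115)
theorem F61329 : act 3 n13974 = n13974 := d29_1 D13974 (iv D13974) F43116
theorem F61330 : act 6 n13974 = n13974 := d41_1 D13974 (iv D13974) F43117
theorem F61331 : act 7 n13974 = n9630 := d43_1 D13974 (iv D9630) (iv F43118)
def n13975 : Q := act 6 n9631
theorem D13975 : act 6 n9631 = n13975 := rfl
theorem F61332 : act 0 n13975 = n13975 := d5_1 D13975 (iv D13975) F43122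
theorem F61333 : act 3 n13975 = n9757 := d26_1 D13975 (iv D9757) (iv F43123)
theorem F61334 : act 5 n13975 = n13975 := d35_1 D13975 (iv D13975) F43124 F30416 (iv F43124)
theorem F61335 : act 7 n13975 = n10196 := d39_2 D9631 D13975 (iv D10196) (iv D7026) (iv F30412)
def n13976 : Q := act 8 n9631
theorem D13976 : act 8 n9631 = n13976 := rfl
theorem F61336 : act 0 n13976 = n13976 := d7_1 D13976 (iv D13976) F43122
theorem F61337 : act 5 n13976 = n9633 := d37_1 D13976 (iv D9633) (iv F43124)
theorem F61338 : act 7 n13976 = n9632 := d42_1 D13976 (iv D9632) D9631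
def n13977 : Q := act 3 n9632
theorem D13977 : act 3 n9632 = n13977 := rfl
theorem F61339 : act 0 n13977 = n13977 := d2_1 D13977 (iv D13977) F43125
theorem F61340 : act 5 n13977 = n9634 := d25_2 (iv F43126) D13977 (iv D9634)
theorem F61341 : act 6 n13977 = n10198 := d26_2 (iv F43127) D13977 (iv D10198)
theorem F61342 : act 8 n13977 = n9759 := d28_2 D9632 D13977 (iv D9759) (iv D6734) (iv F30411)
def n13978 : Q := act 9 n9632
theorem D13978 : act 9 n9632 = n13978 := rfl
theorem F61343 : act 0 n13978 = n13978 := d8_1 D13978 (iv D13978) F43125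
theorem F61344 : act 5 n13978 = n9635 := d38_1 D13978 (iv D9635) (iv F43126)
theorem F61345 : act 6 n13978 = n10199 := d41_1 D13978 (iv D10199) (iv F43127)
def n13979 : Q := act 3 n9633
theorem D13979 : act 3 n9633 = n13979 := rfl
theorem F61346 : act 0 n13979 = n13979 := d2_1 D13979 (iv D13979) F43128
theorem F61347 : act 4 n13979 = n13979 := d24_2 (iv F43129) D13979 (iv D13979) F43129 F30430
theorem F61348 : act 6 n13979 = n13979 := d26_2 F43130 D13979 (iv D13979)
theorem F61349 : act 7 n13979 = n9634 := d27_2 (iv F43131) D13979 (iv D9634)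
theorem F61350 : act 8 n13979 = n9761 := d28_2 D9633 D13979 (iv D9761) (iv D6735) (iv F30414)
def n13980 : Q := act 9 n9633
theorem D13980 : act 9 n9633 = n13980 := rfl
theorem F61351 : act 0 n13980 = n13980 := d8_1 D13980 (iv D13980) F43128
theorem F61352 : act 4 n13980 = n9638 := d34_1 D13980 (iv D9638) (iv F43129)
theorem F61353 : act 6 n13980 = n13980 := d41_1 D13980 (iv D13980) F43130
theorem F61354 : act 7 n13980 = n9635 := d43_1 D13980 (iv D9635) (iv F43131)
def n13981 : Q := act 2 n9634
theorem D13981 : act 2 n9634 = n13981 := rfl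
theorem F61355 : act 0 n13981 = n13981 := d1_1 D13981 (iv D13981) F43132
theorem F61356 : act 4 n13981 = n13981 := d18_2 F43133 D13981 (iv D13981)
theorem F61357 : act 6 n13981 = n9636 := d20_2 (iv F43134) D13981 (iv D9636)
theorem F61358 : act 8 n13981 = n9763 := d22_2 (iv F43135) D13981 (iv D9763)
def n13982 : Q := act 9 n9634
theorem D13982 : act 9 n9634 = n13982 := rfl
theorem F61359 : act 0 n13982 = n13982 := d8_1 D13982 (iv D13982) F43132
theorem F61360 : act 3 n13982 = n9635 := d29_1 D13982 (iv D9635) D9634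
theorem F61361 : act 4 n13982 = n13982 := d34_1 D13982 (iv D13982) F43133
theorem F61362 : act 6 n13982 = n9637 := d41_1 D13982 (iv D9637) (iv F43134)
def n13983 : Q := act 1 n9636
theorem D13983 : act 1 n9636 = n13983 := rfl
theorem F61363 : act 4 n13983 = n13983 := d11_2 F43140 D13983 (iv D13983)
theorem F61364 : act 5 n13983 = n10204 := d12_2 (iv F43141) D13983 (iv D10204)
theorem F61365 : act 7 n13983 = n13983 := d14_2 F43142 D13983 (iv D13983)
theorem F61366 : act 8 n13983 = n9765 := d15_2 (iv F43143) D13983 (iv D9765)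
def n13984 : Q := act 9 n9636
theorem D13984 : act 9 n9636 = n13984 := rfl
theorem F61367 : act 0 n13984 = n13984 := d8_1 D13984 (iv D13984) F43139
theorem F61368 : act 2 n13984 = n9637 := d23_1 D13984 (iv D9637) D9636
theorem F61369 : act 4 n13984 = n13984 := d34_1 D13984 (iv D13984) F43140
theorem F61370 : act 5 n13984 = n10205 := d38_1 D13984 (iv D10205) (iv F43141)
theorem F61371 : act 7 n13984 = n13984 := d43_1 D13984 (iv D13984) F43142
def n13985 : Q := act 8 n9637
theorem D13985 : act 8 n9637 = n13985 := rfl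
theorem F61372 : act 0 n13985 = n13985 := d7_1 D13985 (iv D13985) F43144
theorem F61373 : act 4 n13985 = n13985 := d33_1 D13985 (iv D13985) F43146
theorem F61374 : act 5 n13985 = n10206 := d37_1 D13985 (iv D10206) (iv F43147)
theorem F61375 : act 7 n13985 = n13985 := d42_1 D13985 (iv D13985) F43148
theorem F61376 : act 9 n13985 = n9767 := d44_2 D9637 D13985 (iv D9767) (iv D6739) (iv F30424)
def n13986 : Q := act 1 n9639
theorem D13986 : act 1 n9639 = n13986 := rfl
theorem F61377 : act 0 n13986 = n9655 := d0_1 D13986 (iv D9655) F30500 (iv F30449) (iv F43153)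
theorem F61381 : act 6 n13986 = n13986 := d13_2 F43156 D13986 (iv D13986)
def n13987 : Q := act 5 n9639
theorem D13987 : act 5 n9639 = n13987 := rfl
theorem F61385 : act 2 n13987 = n9640 := d19_1 D13987 (iv D9640) D9639
def n13988 : Q := act 8 n9639
theorem D13988 : act 8 n9639 = n13988 := rfl
theorem F61390 : act 2 n13988 = n9641 := d22_1 D13988 (iv D9641) D9639
def n13989 : Q := act 4 n9640
theorem D13989 : act 4 n9640 = n13989 := rfl
def n13994 : Q := act 4 n9643
theorem D13994 : act 4 n9643 = n13994 := rfl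
theorem F61426 : act 2 n13994 = n9645 := d18_1 D13994 (iv D9645) (iv F43178)
def n13995 : Q := act 6 n9643
theorem D13995 : act 6 n9643 = n13995 := rfl
theorem F61431 : act 2 n13995 = n9646 := d20_1 D13995 (iv D9646) (iv F43178)
theorem F61433 : act 5 n13995 = n13995 := d35_1 D13995 (iv D13995) (iv D9643) F30452 D9643
def n13996 : Q := act 8 n9643
theorem D13996 : act 8 n9643 = n13996 := rfl
theorem F61436 : act 2 n13996 = n9647 := d22_1 D13996 (iv D9647) (iv F43178)
def n13997 : Q := act 3 n9644
theorem D13997 : act 3 n9644 = n13997 := rfl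
theorem F61441 : act 6 n13997 = n13997 := d26_2 F43185 D13997 (iv D13997)
def n13999 : Q := act 6 n9645
theorem D13999 : act 6 n9645 = n13999 := rfl
theorem F61450 : act 1 n13999 = n9650 := d13_1 D13999 (iv D9650) (iv F43187)
theorem F61452 : act 4 n13999 = n9646 := d31_1 D13999 (iv D9646) D9645
def n14000 : Q := act 8 n9645
theorem D14000 : act 8 n9645 = n14000 := rfl
theorem F61454 : act 1 n14000 = n9651 := d15_1 D14000 (iv D9651) (iv F43187)
def n14001 : Q := act 7 n9646
theorem D14001 : act 7 n9646 = n14001 := rfl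
theorem F61459 : act 3 n14001 = n9649 := d27_1 D14001 (iv D9649) (iv F43193)
def n14002 : Q := act 8 n9646
theorem D14002 : act 8 n9646 = n14002 := rfl
def n14004 : Q := act 5 n9650
theorem D14004 : act 5 n9650 = n14004 := rfl
theorem F61472 : act 0 n14004 = n14004 := d4_1 D14004 (iv D14004) F43213
theorem F61473 : act 2 n14004 = n9673 := d19_1 D14004 (iv D9673) (iv F43214)
theorem F61474 : act 3 n14004 = n14004 := d25_1 D14004 (iv D14004) F43215
theorem F61475 : act 4 n14004 = n14004 := d30_1 D14004 (iv D14004) F43216 F30479 (iv F43216)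
theorem F61476 : act 6 n14004 = n14004 := d35_2 D9650 D14004 (iv D14004) (iv D9650) F30473
theorem F61477 : act 9 n14004 = n14004 := d38_2 F43217 D14004 (iv D14004)
def n14005 : Q := act 7 n9650
theorem D14005 : act 7 n9650 = n14005 := rfl
theorem F61478 : act 0 n14005 = n14005 := d6_1 D14005 (iv D14005) F43213
theorem F61479 : act 2 n14005 = n9674 := d21_1 D14005 (iv D9674) (iv F43214)
theorem F61480 : act 3 n14005 = n14005 := d27_1 D14005 (iv D14005) F43215
theorem F61481 : act 4 n14005 = n9652 := d32_1 D14005 (iv D9652) (iv F43216)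
theorem F61482 : act 6 n14005 = n14005 := d39_1 D14005 (iv D14005) (iv D9650) F30474 D9650
theorem F61483 : act 9 n14005 = n14005 := d43_2 F43217 D14005 (iv D14005)
def n14006 : Q := act 8 n9650
theorem D14006 : act 8 n9650 = n14006 := rfl
theorem F61487 : act 6 n14006 = n9651 := d40_1 D14006 (iv D9651) D9650
def n14007 : Q := act 3 n9651
theorem D14007 : act 3 n9651 = n14007 := rfl
def n14011 : Q := act 5 n9655
theorem D14011 : act 5 n9655 = n14011 := rfl
theorem F61511 : act 1 n14011 = n9656 := d12_1 D14011 (iv D9656) D9655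
def n14013 : Q := act 4 n9656
theorem D14013 : act 4 n9656 = n14013 := rfl
theorem F61521 : act 0 n14013 = n9663 := d3_1 D14013 (iv D9663) (iv F43246)
theorem F61522 : act 2 n14013 = n9658 := d18_1 D14013 (iv D9658) (iv F43247)
def n14014 : Q := act 6 n9656
theorem D14014 : act 6 n9656 = n14014 := rfl
theorem F61526 : act 0 n14014 = n9664 := d5_1 D14014 (iv D9664) (iv F43246)
theorem F61527 : act 2 n14014 = n9659 := d20_1 D14014 (iv D9659) (iv F43247)
theorem F61529 : act 5 n14014 = n14014 := d35_1 D14014 (iv D14014) (iv D9656) F30503 D9656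
def n14015 : Q := act 8 n9656
theorem D14015 : act 8 n9656 = n14015 := rfl
theorem F61531 : act 0 n14015 = n9665 := d7_1 D14015 (iv D9665) (iv F43246)
theorem F61532 : act 2 n14015 = n9660 := d22_1 D14015 (iv D9660) (iv F43247)
def n14018 : Q := act 6 n9658
theorem D14018 : act 6 n9658 = n14018 := rfl
theorem F61546 : act 0 n14018 = n9668 := d5_1 D14018 (iv D9668) (iv F43256)
theorem F61548 : act 4 n14018 = n9659 := d31_1 D14018 (iv D9659) D9658
def n14019 : Q := act 8 n9658
theorem D14019 : act 8 n9658 = n14019 := rfl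
theorem F61552 : act 4 n14019 = n9660 := d33_1 D14019 (iv D9660) D9658
def n14020 : Q := act 7 n9659
theorem D14020 : act 7 n9659 = n14020 := rfl
theorem F61557 : act 3 n14020 = n9662 := d27_1 D14020 (iv D9662) (iv F43263)
def n14021 : Q := act 8 n9659
theorem D14021 : act 8 n9659 = n14021 := rfl
theorem F61563 : act 3 n14021 = n9690 := d28_1 D14021 (iv D9690) F30600 (iv F30521) (iv F43263)
def n14023 : Q := act 3 n9663
theorem D14023 : act 3 n9663 = n14023 := rfl
def n14024 : Q := act 6 n9663
theorem D14024 : act 6 n9663 = n14024 := rfl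
theorem F61576 : act 2 n14024 = n9668 := d20_1 D14024 (iv D9668) (iv F43285)
def n14025 : Q := act 8 n9663
theorem D14025 : act 8 n9663 = n14025 := rfl
theorem F61579 : act 2 n14025 = n9669 := d22_1 D14025 (iv D9669) (iv F43285)
def n14026 : Q := act 7 n9664
theorem D14026 : act 7 n9664 = n14026 := rfl
theorem F61583 : act 2 n14026 = n9670 := d21_1 D14026 (iv D9670) (iv F43289)
def n14027 : Q := act 8 n9664
theorem D14027 : act 8 n9664 = n14027 := rfl
theorem F61588 : act 2 n14027 = n9671 := d22_1 D14027 (iv D9671) (iv F43289)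
theorem F61589 : act 5 n14027 = n14027 := d37_1 D14027 (iv D14027) F43291
theorem F61590 : act 6 n14027 = n9665 := d40_1 D14027 (iv D9665) D9664
def n14028 : Q := act 3 n9665
theorem D14028 : act 3 n9665 = n14028 := rfl
theorem F61591 : act 2 n14028 = n9697 := d17_1 D14028 (iv D9697) F30630 (iv F30540) (iv F43293)
def n14032 : Q := act 5 n9668
theorem D14032 : act 5 n9668 = n14032 := rfl
theorem F61608 : act 1 n14032 = n9673 := d12_1 D14032 (iv D9673) (iv F43305)
theorem F61609 : act 4 n14032 = n14032 := d30_1 D14032 (iv D14032) F43306 F30537 (iv F43306)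
theorem F61610 : act 6 n14032 = n14032 := d35_2 D9668 D14032 (iv D14032) (iv D9668) F30532
theorem F61611 : act 9 n14032 = n14032 := d38_2 F43307 D14032 (iv D14032)
def n14033 : Q := act 7 n9668
theorem D14033 : act 7 n9668 = n14033 := rfl
theorem F61612 : act 1 n14033 = n9674 := d14_1 D14033 (iv D9674) (iv F43305)
theorem F61613 : act 4 n14033 = n9670 := d32_1 D14033 (iv D9670) (iv F43306)
theorem F61614 : act 6 n14033 = n14033 := d39_1 D14033 (iv D14033) (iv D9668) F30533 D9668
theorem F61615 : act 9 n14033 = n14033 := d43_2 F43307 D14033 (iv D14033)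
def n14034 : Q := act 8 n9668
theorem D14034 : act 8 n9668 = n14034 := rfl
theorem F61616 : act 1 n14034 = n9675 := d15_1 D14034 (iv D9675) (iv F43305)
theorem F61618 : act 6 n14034 = n9669 := d40_1 D14034 (iv D9669) D9668
def n14035 : Q := act 3 n9669
theorem D14035 : act 3 n9669 = n14035 := rfl
theorem F61619 : act 1 n14035 = n9676 := d10_1 D14035 (iv D9676) (iv F43308)
theorem F61620 : act 4 n14035 = n9704 := d24_2 (iv F43309) D14035 (iv D9704) F30647 (iv F30540)
def n14036 : Q := act 9 n9669
theorem D14036 : act 9 n9669 = n14036 := rfl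
theorem F61623 : act 1 n14036 = n9677 := d16_1 D14036 (iv D9677) (iv F43308)
theorem F61624 : act 4 n14036 = n9672 := d34_1 D14036 (iv D9672) (iv F43309)
def n14037 : Q := act 8 n9670
theorem D14037 : act 8 n9670 = n14037 := rfl
theorem F61628 : act 1 n14037 = n9678 := d15_1 D14037 (iv D9678) (iv F43312)
theorem F61629 : act 3 n14037 = n9706 := d28_1 D14037 (iv D9706) F30651 (iv F30553) (iv F43313)
def n14039 : Q := act 7 n9673
theorem D14039 : act 7 n9673 = n14039 := rfl
theorem F61638 : act 0 n14039 = n14039 := d6_1 D14039 (iv D14039) F43326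
theorem F61639 : act 4 n14039 = n14039 := d32_1 D14039 (iv D14039) F43327
theorem F61640 : act 5 n14039 = n9674 := d36_1 D14039 (iv D9674) D9673
theorem F61641 : act 9 n14039 = n14039 := d43_2 F43329 D14039 (iv D14039)
def n14040 : Q := act 8 n9673
theorem D14040 : act 8 n9673 = n14040 := rfl
theorem F61642 : act 0 n14040 = n14040 := d7_1 D14040 (iv D14040) F43326
theorem F61643 : act 4 n14040 = n14040 := d33_1 D14040 (iv D14040) F43327
theorem F61644 : act 5 n14040 = n9675 := d37_1 D14040 (iv D9675) D9673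
theorem F61645 : act 6 n14040 = n14040 := d40_1 D14040 (iv D14040) F43328
def n14041 : Q := act 8 n9674
theorem D14041 : act 8 n9674 = n14041 := rfl
theorem F61646 : act 0 n14041 = n14041 := d7_1 D14041 (iv D14041) F43330
theorem F61647 : act 4 n14041 = n9678 := d33_1 D14041 (iv D9678) (iv F43331)
theorem F61648 : act 6 n14041 = n14041 := d40_1 D14041 (iv D14041) F43332
theorem F61649 : act 7 n14041 = n9675 := d42_1 D14041 (iv D9675) D9674
def n14042 : Q := act 3 n9675
theorem D14042 : act 3 n9675 = n14042 := rfl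
theorem F61650 : act 0 n14042 = n14042 := d2_1 D14042 (iv D14042) F43334
theorem F61651 : act 4 n14042 = n9711 := d24_2 (iv F43335) D14042 (iv D9711) F30674 (iv F30568)
theorem F61652 : act 6 n14042 = n9676 := d26_2 (iv F43336) D14042 (iv D9676)
def n14043 : Q := act 9 n9675
theorem D14043 : act 9 n9675 = n14043 := rfl
def n14044 : Q := act 2 n9676
theorem D14044 : act 2 n9676 = n14044 := rfl
theorem F61657 : act 0 n14044 = n14044 := d1_1 D14044 (iv D14044) F43337
theorem F61658 : act 4 n14044 = n9713 := d18_2 (iv F43338) D14044 (iv D9713)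
theorem F61659 : act 5 n14044 = n14044 := d19_2 F43339 D14044 (iv D14044)
theorem F61660 : act 7 n14044 = n14044 := d21_2 F43340 D14044 (iv D14044)
def n14045 : Q := act 9 n9676
theorem D14045 : act 9 n9676 = n14045 := rfl
theorem F61662 : act 3 n14045 = n9677 := d29_1 D14045 (iv D9677) D9676
def n14046 : Q := act 9 n9678
theorem D14046 : act 9 n9678 = n14046 := rfl
theorem F61670 : act 7 n14046 = n9679 := d43_1 D14046 (iv D9679) (iv F43350)
def n14047 : Q := act 4 n9680
theorem D14047 : act 4 n9680 = n14047 := rfl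
theorem F61675 : act 5 n14047 = n10207 := d30_2 D9680 D14047 (iv D10207) (iv D7034) (iv F30579)
def n14049 : Q := act 8 n9680
theorem D14049 : act 8 n9680 = n14049 := rfl
theorem F61685 : act 1 n14049 = n9684 := d15_1 D14049 (iv D9684) (iv F43357)
theorem F61687 : act 5 n14049 = n9681 := d37_1 D14049 (iv D9681) D9680
def n14050 : Q := act 3 n9681
theorem D14050 : act 3 n9681 = n14050 := rfl
def n14052 : Q := act 3 n9682
theorem D14052 : act 3 n9682 = n14052 := rfl
theorem F61701 : act 0 n14052 = n9692 := d2_1 D14052 (iv D9692) (iv F43368)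
theorem F61703 : act 5 n14052 = n10212 := d25_2 (iv F43370) D14052 (iv D10212)
theorem F61705 : act 9 n14052 = n9721 := d29_2 (iv F43372) D14052 (iv D9721)
def n14053 : Q := act 6 n9682
theorem D14053 : act 6 n9682 = n14053 := rfl
theorem F61707 : act 2 n14053 = n9687 := d20_1 D14053 (iv D9687) (iv F43369)
theorem F61708 : act 4 n14053 = n9683 := d31_1 D14053 (iv D9683) D9682
theorem F61709 : act 9 n14053 = n9722 := d41_2 (iv F43372) D14053 (iv D9722)
def n14054 : Q := act 8 n9682
theorem D14054 : act 8 n9682 = n14054 := rfl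
theorem F61711 : act 2 n14054 = n9688 := d22_1 D14054 (iv D9688) (iv F43369)
theorem F61712 : act 4 n14054 = n9684 := d33_1 D14054 (iv D9684) D9682
theorem F61713 : act 5 n14054 = n10214 := d37_1 D14054 (iv D10214) (iv F43370)
def n14055 : Q := act 7 n9683
theorem D14055 : act 7 n9683 = n14055 := rfl
theorem F61715 : act 0 n14055 = n9695 := d6_1 D14055 (iv D9695) (iv F43373)
theorem F61720 : act 9 n14055 = n9724 := d43_2 (iv F43377) D14055 (iv D9724)
def n14056 : Q := act 8 n9683
theorem D14056 : act 8 n9683 = n14056 := rfl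
theorem F61722 : act 2 n14056 = n9690 := d22_1 D14056 (iv D9690) (iv F43374)
theorem F61724 : act 6 n14056 = n9684 := d40_1 D14056 (iv D9684) D9683
def n14057 : Q := act 3 n9684
theorem D14057 : act 3 n9684 = n14057 := rfl
theorem F61726 : act 5 n14057 = n9685 := d25_2 (iv F43380) D14057 (iv D9685)
def n14058 : Q := act 9 n9684
theorem D14058 : act 9 n9684 = n14058 := rfl
theorem F61730 : act 2 n14058 = n9691 := d23_1 D14058 (iv D9691) (iv F43379)
theorem F61733 : act 8 n14058 = n9727 := d44_1 D14058 (iv D9727) (iv D6710) (iv F30587) D9684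
def n14059 : Q := act 4 n9685
theorem D14059 : act 4 n9685 = n14059 := rfl
theorem F61735 : act 3 n14059 = n10219 := d24_1 D14059 (iv D10219) (iv D7039) (iv F30590) D9685
def n14060 : Q := act 9 n9685
theorem D14060 : act 9 n9685 = n14060 := rfl
theorem F61740 : act 3 n14060 = n9686 := d29_1 D14060 (iv D9686) D9685
def n14061 : Q := act 5 n9687
theorem D14061 : act 5 n9687 = n14061 := rfl
theorem F61743 : act 0 n14061 = n9701 := d4_1 D14061 (iv D9701) (iv F43392)
theorem F61744 : act 1 n14061 = n14061 := d12_1 D14061 (iv D14061) F43393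
theorem F61745 : act 4 n14061 = n14061 := d30_1 D14061 (iv D14061) F43394 F30601 (iv F43394)
theorem F61746 : act 6 n14061 = n10221 := d35_2 D9687 D14061 (iv D10221) (iv D7041) (iv F30595)
theorem F61747 : act 9 n14061 = n9729 := d38_2 (iv F43395) D14061 (iv D9729)
def n14062 : Q := act 7 n9687
theorem D14062 : act 7 n9687 = n14062 := rfl
theorem F61748 : act 0 n14062 = n9702 := d6_1 D14062 (iv D9702) (iv F43392)
theorem F61749 : act 1 n14062 = n14062 := d14_1 D14062 (iv D14062) F43393
theorem F61750 : act 4 n14062 = n9689 := d32_1 D14062 (iv D9689) (iv F43394)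
theorem F61751 : act 6 n14062 = n14062 := d39_1 D14062 (iv D14062) (iv D9687) F30596 D9687
theorem F61752 : act 9 n14062 = n9730 := d43_2 (iv F43395) D14062 (iv D9730)
def n14063 : Q := act 8 n9687
theorem D14063 : act 8 n9687 = n14063 := rfl
theorem F61755 : act 4 n14063 = n9690 := d33_1 D14063 (iv D9690) (iv F43394)
def n14064 : Q := act 3 n9688
theorem D14064 : act 3 n9688 = n14064 := rfl
def n14066 : Q := act 8 n9689
theorem D14066 : act 8 n9689 = n14066 := rfl
def n14067 : Q := act 9 n9690
theorem D14067 : act 9 n9690 = n14067 := rfl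
theorem F61776 : act 8 n14067 = n9735 := d44_1 D14067 (iv D9735) (iv D6716) (iv F30602) D9690
def n14068 : Q := act 6 n9692
theorem D14068 : act 6 n9692 = n14068 := rfl
theorem F61777 : act 1 n14068 = n14068 := d13_1 D14068 (iv D14068) F43416
theorem F61778 : act 3 n14068 = n9693 := d26_1 D14068 (iv D9693) D9692
theorem F61779 : act 4 n14068 = n14068 := d31_1 D14068 (iv D14068) F43417
theorem F61780 : act 9 n14068 = n9736 := d41_2 (iv F43420) D14068 (iv D9736)
def n14069 : Q := act 8 n9692
theorem D14069 : act 8 n9692 = n14069 := rfl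
theorem F61781 : act 1 n14069 = n14069 := d15_1 D14069 (iv D14069) F43416
theorem F61782 : act 4 n14069 = n14069 := d33_1 D14069 (iv D14069) F43417
theorem F61783 : act 5 n14069 = n10229 := d37_1 D14069 (iv D10229) (iv F43418)
theorem F61784 : act 7 n14069 = n14069 := d42_1 D14069 (iv D14069) F43419
def n14070 : Q := act 5 n9693
theorem D14070 : act 5 n9693 = n14070 := rfl
theorem F61785 : act 1 n14070 = n14070 := d12_1 D14070 (iv D14070) F43421
theorem F61786 : act 2 n14070 = n9701 := d19_1 D14070 (iv D9701) (iv F43422)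
theorem F61787 : act 4 n14070 = n14070 := d30_1 D14070 (iv D14070) F43423 F30627 (iv F43423)
theorem F61788 : act 6 n14070 = n10230 := d35_2 D9693 D14070 (iv D10230) (iv D7047) (iv F30621)
theorem F61789 : act 9 n14070 = n9738 := d38_2 (iv F43424) D14070 (iv D9738)
def n14071 : Q := act 7 n9693
theorem D14071 : act 7 n9693 = n14071 := rfl
theorem F61790 : act 1 n14071 = n14071 := d14_1 D14071 (iv D14071) F43421
theorem F61791 : act 2 n14071 = n9702 := d21_1 D14071 (iv D9702) (iv F43422)
theorem F61792 : act 4 n14071 = n9695 := d32_1 D14071 (iv D9695) (iv F43423)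
theorem F61793 : act 6 n14071 = n14071 := d39_1 D14071 (iv D14071) (iv D9693) F30622 D9693
theorem F61794 : act 9 n14071 = n9739 := d43_2 (iv F43424) D14071 (iv D9739)
def n14072 : Q := act 8 n9693
theorem D14072 : act 8 n9693 = n14072 := rfl
theorem F61796 : act 2 n14072 = n9703 := d22_1 D14072 (iv D9703) (iv F43422)
theorem F61798 : act 6 n14072 = n9694 := d40_1 D14072 (iv D9694) D9693
def n14073 : Q := act 3 n9694
theorem D14073 : act 3 n9694 = n14073 := rfl
theorem F61800 : act 5 n14073 = n10233 := d25_2 (iv F43428) D14073 (iv D10233)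
def n14074 : Q := act 9 n9694
theorem D14074 : act 9 n9694 = n14074 := rfl
theorem F61803 : act 2 n14074 = n9705 := d23_1 D14074 (iv D9705) (iv F43426)
theorem F61804 : act 4 n14074 = n9698 := d34_1 D14074 (iv D9698) (iv F43427)
theorem F61807 : act 8 n14074 = n9742 := d44_1 D14074 (iv D9742) (iv D6720) (iv F30623) D9694
def n14075 : Q := act 8 n9695
theorem D14075 : act 8 n9695 = n14075 := rfl
theorem F61809 : act 2 n14075 = n9706 := d22_1 D14075 (iv D9706) (iv F43431)
theorem F61812 : act 7 n14075 = n9696 := d42_1 D14075 (iv D9696) D9695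
def n14076 : Q := act 3 n9696
theorem D14076 : act 3 n9696 = n14076 := rfl
theorem F61815 : act 6 n14076 = n9697 := d26_2 (iv F43439) D14076 (iv D9697)
def n14077 : Q := act 9 n9696
theorem D14077 : act 9 n9696 = n14077 := rfl
theorem F61821 : act 8 n14077 = n9745 := d44_1 D14077 (iv D9745) (iv D6722) (iv F30628) D9696
def n14078 : Q := act 4 n9697
theorem D14078 : act 4 n9697 = n14078 := rfl
def n14079 : Q := act 9 n9697
theorem D14079 : act 9 n9697 = n14079 := rfl
theorem F61826 : act 3 n14079 = n9698 := d29_1 D14079 (iv D9698) D9697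
def n14080 : Q := act 5 n9699
theorem D14080 : act 5 n9699 = n14080 := rfl
theorem F61830 : act 3 n14080 = n10240 := d25_1 D14080 (iv D10240) (iv F43450)
def n14083 : Q := act 7 n9701
theorem D14083 : act 7 n9701 = n14083 := rfl
theorem F61843 : act 1 n14083 = n9708 := d14_1 D14083 (iv D9708) (iv F43458)
theorem F61844 : act 4 n14083 = n14083 := d32_1 D14083 (iv D14083) F43459
theorem F61845 : act 5 n14083 = n9702 := d36_1 D14083 (iv D9702) D9701
theorem F61846 : act 9 n14083 = n9749 := d43_2 (iv F43461) D14083 (iv D9749)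
def n14084 : Q := act 8 n9701
theorem D14084 : act 8 n9701 = n14084 := rfl
theorem F61847 : act 1 n14084 = n9709 := d15_1 D14084 (iv D9709) (iv F43458)
theorem F61848 : act 4 n14084 = n14084 := d33_1 D14084 (iv D14084) F43459
theorem F61849 : act 5 n14084 = n9703 := d37_1 D14084 (iv D9703) D9701
theorem F61850 : act 6 n14084 = n10243 := d40_1 D14084 (iv D10243) (iv F43460)
def n14085 : Q := act 8 n9702
theorem D14085 : act 8 n9702 = n14085 := rfl
theorem F61851 : act 1 n14085 = n9710 := d15_1 D14085 (iv D9710) (iv F43462)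
theorem F61852 : act 4 n14085 = n9706 := d33_1 D14085 (iv D9706) (iv F43463)
theorem F61853 : act 6 n14085 = n14085 := d40_1 D14085 (iv D14085) F43464
theorem F61854 : act 7 n14085 = n9703 := d42_1 D14085 (iv D9703) D9702
def n14086 : Q := act 3 n9703
theorem D14086 : act 3 n9703 = n14086 := rfl
theorem F61855 : act 1 n14086 = n9711 := d10_1 D14086 (iv D9711) (iv F43466)
theorem F61856 : act 6 n14086 = n9704 := d26_2 (iv F43468) D14086 (iv D9704)
def n14087 : Q := act 9 n9703
theorem D14087 : act 9 n9703 = n14087 := rfl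
theorem F61857 : act 1 n14087 = n9712 := d16_1 D14087 (iv D9712) (iv F43466)
theorem F61860 : act 8 n14087 = n9753 := d44_1 D14087 (iv D9753) (iv D6728) (iv F30645) D9703
def n14088 : Q := act 2 n9704
theorem D14088 : act 2 n9704 = n14088 := rfl
theorem F61861 : act 5 n14088 = n10247 := d19_2 (iv F43470) D14088 (iv D10247)
theorem F61862 : act 7 n14088 = n14088 := d21_2 F43471 D14088 (iv D14088)
def n14089 : Q := act 9 n9704
theorem D14089 : act 9 n9704 = n14089 := rfl
theorem F61863 : act 1 n14089 = n9714 := d16_1 D14089 (iv D9714) (iv F43469)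
theorem F61864 : act 3 n14089 = n9705 := d29_1 D14089 (iv D9705) D9704
def n14090 : Q := act 9 n9706
theorem D14090 : act 9 n9706 = n14090 := rfl
theorem F61867 : act 1 n14090 = n9715 := d16_1 D14090 (iv D9715) (iv F43477)
theorem F61870 : act 7 n14090 = n9707 := d43_1 D14090 (iv D9707) (iv F43480)
theorem F61871 : act 8 n14090 = n9756 := d44_1 D14090 (iv D9756) (iv D6731) (iv F30654) D9706
def n14091 : Q := act 6 n9708
theorem D14091 : act 6 n9708 = n14091 := rfl
theorem F61872 : act 0 n14091 = n14091 := d5_1 D14091 (iv D14091) F43485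
theorem F61873 : act 2 n14091 = n14091 := d20_1 D14091 (iv D14091) F43486
theorem F61874 : act 4 n14091 = n14091 := d31_1 D14091 (iv D14091) F43487
theorem F61875 : act 5 n14091 = n14091 := d35_1 D14091 (iv D14091) F43488 F30670 (iv F43488)
theorem F61876 : act 7 n14091 = n10250 := d39_2 D9708 D14091 (iv D10250) (iv D7062) (iv F30665)
theorem F61877 : act 9 n14091 = n9757 := d41_2 (iv F43489) D14091 (iv D9757)
def n14092 : Q := act 8 n9708
theorem D14092 : act 8 n9708 = n14092 := rfl
theorem F61878 : act 0 n14092 = n14092 := d7_1 D14092 (iv D14092) F43485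
theorem F61879 : act 2 n14092 = n14092 := d22_1 D14092 (iv D14092) F43486
theorem F61880 : act 4 n14092 = n14092 := d33_1 D14092 (iv D14092) F43487
theorem F61881 : act 5 n14092 = n9710 := d37_1 D14092 (iv D9710) (iv F43488)
theorem F61882 : act 7 n14092 = n9709 := d42_1 D14092 (iv D9709) D9708
def n14093 : Q := act 3 n9709
theorem D14093 : act 3 n9709 = n14093 := rfl
theorem F61883 : act 0 n14093 = n14093 := d2_1 D14093 (iv D14093) F43490
theorem F61884 : act 5 n14093 = n9711 := d25_2 (iv F43493) D14093 (iv D9711)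
theorem F61885 : act 6 n14093 = n10252 := d26_2 (iv F43494) D14093 (iv D10252)
def n14094 : Q := act 9 n9709
theorem D14094 : act 9 n9709 = n14094 := rfl
theorem F61886 : act 0 n14094 = n14094 := d8_1 D14094 (iv D14094) F43490
theorem F61887 : act 2 n14094 = n14094 := d23_1 D14094 (iv D14094) F43491
theorem F61888 : act 4 n14094 = n14094 := d34_1 D14094 (iv D14094) F43492
theorem F61889 : act 5 n14094 = n9712 := d38_1 D14094 (iv D9712) (iv F43493)
theorem F61890 : act 6 n14094 = n10253 := d41_1 D14094 (iv D10253) (iv F43494)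
theorem F61891 : act 8 n14094 = n9760 := d44_1 D14094 (iv D9760) (iv D6734) (iv F30666) D9709
def n14095 : Q := act 3 n9710
theorem D14095 : act 3 n9710 = n14095 := rfl
theorem F61892 : act 0 n14095 = n14095 := d2_1 D14095 (iv D14095) F43495
theorem F61893 : act 6 n14095 = n14095 := d26_2 F43498 D14095 (iv D14095)
theorem F61894 : act 7 n14095 = n9711 := d27_2 (iv F43499) D14095 (iv D9711)
def n14096 : Q := act 9 n9710
theorem D14096 : act 9 n9710 = n14096 := rfl
theorem F61895 : act 0 n14096 = n14096 := d8_1 D14096 (iv D14096) F43495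
theorem F61896 : act 2 n14096 = n14096 := d23_1 D14096 (iv D14096) F43496
theorem F61897 : act 4 n14096 = n9715 := d34_1 D14096 (iv D9715) (iv F43497)
theorem F61898 : act 6 n14096 = n14096 := d41_1 D14096 (iv D14096) F43498
theorem F61899 : act 7 n14096 = n9712 := d43_1 D14096 (iv D9712) (iv F43499)
theorem F61900 : act 8 n14096 = n9762 := d44_1 D14096 (iv D9762) (iv D6735) (iv F30671) D9710
def n14097 : Q := act 2 n9711
theorem D14097 : act 2 n9711 = n14097 := rfl
theorem F61901 : act 0 n14097 = n14097 := d1_1 D14097 (iv D14097) F43500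
theorem F61902 : act 3 n14097 = n14097 := d17_2 D9711 D14097 (iv D14097) (iv D9711) F30673
theorem F61903 : act 6 n14097 = n9713 := d20_2 (iv F43501) D14097 (iv D9713)
def n14098 : Q := act 9 n9711
theorem D14098 : act 9 n9711 = n14098 := rfl
theorem F61904 : act 0 n14098 = n14098 := d8_1 D14098 (iv D14098) F43500
theorem F61905 : act 3 n14098 = n9712 := d29_1 D14098 (iv D9712) D9711
theorem F61906 : act 6 n14098 = n9714 := d41_1 D14098 (iv D9714) (iv F43501)
def n14099 : Q := act 1 n9713
theorem D14099 : act 1 n9713 = n14099 := rfl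
theorem F61907 : act 3 n14099 = n14099 := d10_2 F43508 D14099 (iv D14099)
theorem F61908 : act 5 n14099 = n10258 := d12_2 (iv F43509) D14099 (iv D10258)
theorem F61909 : act 7 n14099 = n14099 := d14_2 F43510 D14099 (iv D14099)
def n14100 : Q := act 9 n9713
theorem D14100 : act 9 n9713 = n14100 := rfl
theorem F61910 : act 0 n14100 = n14100 := d8_1 D14100 (iv D14100) F43507
theorem F61911 : act 2 n14100 = n9714 := d23_1 D14100 (iv D9714) D9713
theorem F61912 : act 3 n14100 = n14100 := d29_1 D14100 (iv D14100) F43508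
theorem F61913 : act 5 n14100 = n10259 := d38_1 D14100 (iv D10259) (iv F43509)
theorem F61914 : act 7 n14100 = n14100 := d43_1 D14100 (iv D14100) F43510
def n14101 : Q := act 8 n9714
theorem D14101 : act 8 n9714 = n14101 := rfl
theorem F61915 : act 0 n14101 = n14101 := d7_1 D14101 (iv D14101) F43511
theorem F61916 : act 3 n14101 = n9767 := d28_1 D14101 (iv D9767) F30841 (iv F30684) (iv F43512)
theorem F61917 : act 5 n14101 = n10260 := d37_1 D14101 (iv D10260) (iv F43513)
theorem F61918 : act 7 n14101 = n14101 := d42_1 D14101 (iv D14101) F43514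
def n14111 : Q := act 6 n9721
theorem D14111 : act 6 n9721 = n14111 := rfl
theorem F61968 : act 0 n14111 = n9736 := d5_1 D14111 (iv D9736) (iv F43548)
theorem F61969 : act 3 n14111 = n9722 := d26_1 D14111 (iv D9722) D9721
theorem F61970 : act 4 n14111 = n14111 := d31_1 D14111 (iv D14111) F43549
def n14112 : Q := act 8 n9721
theorem D14112 : act 8 n9721 = n14112 := rfl
theorem F61971 : act 0 n14112 = n9737 := d7_1 D14112 (iv D9737) (iv F43548)
theorem F61972 : act 4 n14112 = n14112 := d33_1 D14112 (iv D14112) F43549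
theorem F61973 : act 5 n14112 = n10268 := d37_1 D14112 (iv D10268) (iv F43550)
theorem F61974 : act 7 n14112 = n14112 := d42_1 D14112 (iv D14112) F43551
def n14113 : Q := act 5 n9722
theorem D14113 : act 5 n9722 = n14113 := rfl
theorem F61975 : act 0 n14113 = n9738 := d4_1 D14113 (iv D9738) (iv F43552)
theorem F61976 : act 2 n14113 = n9729 := d19_1 D14113 (iv D9729) (iv F43553)
theorem F61977 : act 4 n14113 = n14113 := d30_1 D14113 (iv D14113) F43554 F30713 (iv F43554)
theorem F61978 : act 6 n14113 = n10269 := d35_2 D9722 D14113 (iv D10269) (iv D7075) (iv F30708)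
def n14114 : Q := act 7 n9722
theorem D14114 : act 7 n9722 = n14114 := rfl
theorem F61979 : act 0 n14114 = n9739 := d6_1 D14114 (iv D9739) (iv F43552)
theorem F61980 : act 2 n14114 = n9730 := d21_1 D14114 (iv D9730) (iv F43553)
theorem F61981 : act 4 n14114 = n9724 := d32_1 D14114 (iv D9724) (iv F43554)
theorem F61982 : act 6 n14114 = n14114 := d39_1 D14114 (iv D14114) (iv D9722) F30709 D9722
def n14115 : Q := act 8 n9722
theorem D14115 : act 8 n9722 = n14115 := rfl
def n14116 : Q := act 3 n9723
theorem D14116 : act 3 n9723 = n14116 := rfl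
def n14117 : Q := act 9 n9723
theorem D14117 : act 9 n9723 = n14117 := rfl
def n14118 : Q := act 8 n9724
theorem D14118 : act 8 n9724 = n14118 := rfl
theorem F61995 : act 0 n14118 = n9743 := d7_1 D14118 (iv D9743) (iv F43560)
theorem F61996 : act 2 n14118 = n9734 := d22_1 D14118 (iv D9734) (iv F43561)
def n14120 : Q := act 9 n9725
theorem D14120 : act 9 n9725 = n14120 := rfl
def n14124 : Q := act 7 n9729
theorem D14124 : act 7 n9729 = n14124 := rfl
theorem F62025 : act 0 n14124 = n9749 := d6_1 D14124 (iv D9749) (iv F43584)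
theorem F62026 : act 1 n14124 = n14124 := d14_1 D14124 (iv D14124) F43585
theorem F62027 : act 4 n14124 = n14124 := d32_1 D14124 (iv D14124) F43586
theorem F62028 : act 5 n14124 = n9730 := d36_1 D14124 (iv D9730) D9729
def n14125 : Q := act 8 n9729
theorem D14125 : act 8 n9729 = n14125 := rfl
theorem F62029 : act 0 n14125 = n9750 := d7_1 D14125 (iv D9750) (iv F43584)
theorem F62030 : act 1 n14125 = n14125 := d15_1 D14125 (iv D14125) F43585
theorem F62031 : act 4 n14125 = n14125 := d33_1 D14125 (iv D14125) F43586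
theorem F62032 : act 5 n14125 = n9731 := d37_1 D14125 (iv D9731) D9729
theorem F62033 : act 6 n14125 = n10277 := d40_1 D14125 (iv D10277) (iv F43587)
def n14126 : Q := act 8 n9730
theorem D14126 : act 8 n9730 = n14126 := rfl
theorem F62034 : act 0 n14126 = n9751 := d7_1 D14126 (iv D9751) (iv F43588)
theorem F62035 : act 1 n14126 = n14126 := d15_1 D14126 (iv D14126) F43589
theorem F62036 : act 4 n14126 = n9734 := d33_1 D14126 (iv D9734) (iv F43590)
theorem F62037 : act 6 n14126 = n14126 := d40_1 D14126 (iv D14126) F43591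
theorem F62038 : act 7 n14126 = n9731 := d42_1 D14126 (iv D9731) D9730
def n14127 : Q := act 3 n9731
theorem D14127 : act 3 n9731 = n14127 := rfl
theorem F62039 : act 0 n14127 = n9752 := d2_1 D14127 (iv D9752) (iv F43592)
theorem F62040 : act 1 n14127 = n14127 := d10_1 D14127 (iv D14127) F43593
theorem F62041 : act 4 n14127 = n14127 := d24_2 (iv F43594) D14127 (iv D14127) F43594 F30744
theorem F62042 : act 6 n14127 = n9732 := d26_2 (iv F43595) D14127 (iv D9732)
def n14129 : Q := act 2 n9732
theorem D14129 : act 2 n9732 = n14129 := rfl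
theorem F62047 : act 0 n14129 = n9754 := d1_1 D14129 (iv D9754) (iv F43596)
theorem F62048 : act 4 n14129 = n14129 := d18_2 F43598 D14129 (iv D14129)
theorem F62049 : act 5 n14129 = n10281 := d19_2 (iv F43599) D14129 (iv D10281)
theorem F62050 : act 7 n14129 = n14129 := d21_2 F43600 D14129 (iv D14129)
def n14131 : Q := act 9 n9734
theorem D14131 : act 9 n9734 = n14131 := rfl
def n14132 : Q := act 5 n9736
theorem D14132 : act 5 n9736 = n14132 := rfl
theorem F62063 : act 1 n14132 = n14132 := d12_1 D14132 (iv D14132) F43617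
theorem F62064 : act 3 n14132 = n9738 := d25_1 D14132 (iv D9738) (iv F43618)
theorem F62065 : act 6 n14132 = n10284 := d35_2 D9736 D14132 (iv D10284) (iv D7087) (iv F30754)
def n14133 : Q := act 7 n9736
theorem D14133 : act 7 n9736 = n14133 := rfl
theorem F62066 : act 1 n14133 = n14133 := d14_1 D14133 (iv D14133) F43617
theorem F62067 : act 3 n14133 = n9739 := d27_1 D14133 (iv D9739) (iv F43618)
theorem F62068 : act 4 n14133 = n14133 := d32_1 D14133 (iv D14133) F43619
theorem F62069 : act 6 n14133 = n14133 := d39_1 D14133 (iv D14133) (iv D9736) F30755 D9736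
def n14134 : Q := act 8 n9736
theorem D14134 : act 8 n9736 = n14134 := rfl
theorem F62070 : act 1 n14134 = n14134 := d15_1 D14134 (iv D14134) F43617
theorem F62071 : act 4 n14134 = n14134 := d33_1 D14134 (iv D14134) F43619
theorem F62072 : act 6 n14134 = n9737 := d40_1 D14134 (iv D9737) D9736
def n14135 : Q := act 3 n9737
theorem D14135 : act 3 n9737 = n14135 := rfl
theorem F62073 : act 1 n14135 = n14135 := d10_1 D14135 (iv D14135) F43620
theorem F62074 : act 5 n14135 = n10287 := d25_2 (iv F43622) D14135 (iv D10287)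
theorem F62075 : act 7 n14135 = n14135 := d27_2 F43623 D14135 (iv D14135)
theorem F62076 : act 8 n14135 = n9741 := d28_2 D9737 D14135 (iv D9741) (iv D6720) D6718
def n14136 : Q := act 9 n9737
theorem D14136 : act 9 n9737 = n14136 := rfl
theorem F62077 : act 1 n14136 = n14136 := d16_1 D14136 (iv D14136) F43620
theorem F62078 : act 4 n14136 = n14136 := d34_1 D14136 (iv D14136) F43621
theorem F62079 : act 5 n14136 = n10288 := d38_1 D14136 (iv D10288) (iv F43622)
theorem F62080 : act 7 n14136 = n14136 := d43_1 D14136 (iv D14136) F43623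
def n14137 : Q := act 7 n9738
theorem D14137 : act 7 n9738 = n14137 := rfl
theorem F62081 : act 1 n14137 = n14137 := d14_1 D14137 (iv D14137) F43624
theorem F62082 : act 2 n14137 = n9749 := d21_1 D14137 (iv D9749) (iv F43625)
theorem F62083 : act 4 n14137 = n14137 := d32_1 D14137 (iv D14137) F43626
theorem F62084 : act 5 n14137 = n9739 := d36_1 D14137 (iv D9739) D9738
def n14138 : Q := act 8 n9738
theorem D14138 : act 8 n9738 = n14138 := rfl
theorem F62085 : act 1 n14138 = n14138 := d15_1 D14138 (iv D14138) F43624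
theorem F62086 : act 2 n14138 = n9750 := d22_1 D14138 (iv D9750) (iv F43625)
theorem F62087 : act 4 n14138 = n14138 := d33_1 D14138 (iv D14138) F43626
theorem F62088 : act 5 n14138 = n9740 := d37_1 D14138 (iv D9740) D9738
theorem F62089 : act 6 n14138 = n10290 := d40_1 D14138 (iv D10290) (iv F43627)
def n14139 : Q := act 8 n9739
theorem D14139 : act 8 n9739 = n14139 := rfl
theorem F62090 : act 1 n14139 = n14139 := d15_1 D14139 (iv D14139) F43628
theorem F62091 : act 2 n14139 = n9751 := d22_1 D14139 (iv D9751) (iv F43629)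
theorem F62092 : act 4 n14139 = n9743 := d33_1 D14139 (iv D9743) (iv F43630)
theorem F62093 : act 6 n14139 = n14139 := d40_1 D14139 (iv D14139) F43631
theorem F62094 : act 7 n14139 = n9740 := d42_1 D14139 (iv D9740) D9739
def n14140 : Q := act 3 n9740
theorem D14140 : act 3 n9740 = n14140 := rfl
theorem F62095 : act 1 n14140 = n14140 := d10_1 D14140 (iv D14140) F43632
theorem F62096 : act 6 n14140 = n9741 := d26_2 (iv F43635) D14140 (iv D9741)
def n14141 : Q := act 9 n9740
theorem D14141 : act 9 n9740 = n14141 := rfl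
def n14142 : Q := act 2 n9741
theorem D14142 : act 2 n9741 = n14142 := rfl
theorem F62101 : act 3 n14142 = n9754 := d17_2 D9741 D14142 (iv D9754) (iv D6729) (iv F30760)
theorem F62102 : act 5 n14142 = n10294 := d19_2 (iv F43637) D14142 (iv D10294)
theorem F62103 : act 7 n14142 = n14142 := d21_2 F43638 D14142 (iv D14142)
def n14143 : Q := act 4 n9741
theorem D14143 : act 4 n9741 = n14143 := rfl
def n14144 : Q := act 9 n9741
theorem D14144 : act 9 n9741 = n14144 := rfl
theorem F62109 : act 3 n14144 = n9742 := d29_1 D14144 (iv D9742) D9741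
def n14145 : Q := act 3 n9743
theorem D14145 : act 3 n9743 = n14145 := rfl
def n14146 : Q := act 9 n9743
theorem D14146 : act 9 n9743 = n14146 := rfl
def n14148 : Q := act 9 n9744
theorem D14148 : act 9 n9744 = n14148 := rfl
theorem F62129 : act 3 n14148 = n9745 := d29_1 D14148 (iv D9745) D9744
def n14150 : Q := act 8 n9747
theorem D14150 : act 8 n9747 = n14150 := rfl
theorem F62139 : act 5 n14150 = n9748 := d37_1 D14150 (iv D9748) (iv F43666)
def n14151 : Q := act 6 n9749
theorem D14151 : act 6 n9749 = n14151 := rfl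
theorem F62142 : act 1 n14151 = n9757 := d13_1 D14151 (iv D9757) (iv F43674)
theorem F62143 : act 4 n14151 = n14151 := d31_1 D14151 (iv D14151) F43675
theorem F62144 : act 5 n14151 = n14151 := d35_1 D14151 (iv D14151) F43676 F30793 (iv F43676)
theorem F62145 : act 7 n14151 = n10297 := d39_2 D9749 D14151 (iv D10297) (iv D7096) (iv F30790)
def n14152 : Q := act 8 n9749
theorem D14152 : act 8 n9749 = n14152 := rfl
theorem F62146 : act 1 n14152 = n9758 := d15_1 D14152 (iv D9758) (iv F43674)
theorem F62147 : act 4 n14152 = n14152 := d33_1 D14152 (iv D14152) F43675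
theorem F62148 : act 5 n14152 = n9751 := d37_1 D14152 (iv D9751) (iv F43676)
theorem F62149 : act 7 n14152 = n9750 := d42_1 D14152 (iv D9750) D9749
def n14153 : Q := act 3 n9750
theorem D14153 : act 3 n9750 = n14153 := rfl
theorem F62150 : act 1 n14153 = n9759 := d10_1 D14153 (iv D9759) (iv F43677)
theorem F62151 : act 5 n14153 = n9752 := d25_2 (iv F43679) D14153 (iv D9752)
theorem F62152 : act 6 n14153 = n10299 := d26_2 (iv F43680) D14153 (iv D10299)
def n14154 : Q := act 9 n9750
theorem D14154 : act 9 n9750 = n14154 := rfl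
theorem F62153 : act 1 n14154 = n9760 := d16_1 D14154 (iv D9760) (iv F43677)
theorem F62154 : act 4 n14154 = n14154 := d34_1 D14154 (iv D14154) F43678
theorem F62155 : act 5 n14154 = n9753 := d38_1 D14154 (iv D9753) (iv F43679)
theorem F62156 : act 6 n14154 = n10300 := d41_1 D14154 (iv D10300) (iv F43680)
def n14155 : Q := act 3 n9751
theorem D14155 : act 3 n9751 = n14155 := rfl
theorem F62157 : act 1 n14155 = n9761 := d10_1 D14155 (iv D9761) (iv F43681)
theorem F62158 : act 4 n14155 = n14155 := d24_2 (iv F43682) D14155 (iv D14155) F43682 F30806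
theorem F62159 : act 6 n14155 = n14155 := d26_2 F43683 D14155 (iv D14155)
theorem F62160 : act 7 n14155 = n9752 := d27_2 (iv F43684) D14155 (iv D9752)
def n14156 : Q := act 9 n9751
theorem D14156 : act 9 n9751 = n14156 := rfl
theorem F62161 : act 1 n14156 = n9762 := d16_1 D14156 (iv D9762) (iv F43681)
theorem F62162 : act 4 n14156 = n9756 := d34_1 D14156 (iv D9756) (iv F43682)
theorem F62163 : act 6 n14156 = n14156 := d41_1 D14156 (iv D14156) F43683
theorem F62164 : act 7 n14156 = n9753 := d43_1 D14156 (iv D9753) (iv F43684)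
def n14157 : Q := act 2 n9752
theorem D14157 : act 2 n9752 = n14157 := rfl
theorem F62165 : act 4 n14157 = n14157 := d18_2 F43686 D14157 (iv D14157)
theorem F62166 : act 6 n14157 = n9754 := d20_2 (iv F43687) D14157 (iv D9754)
def n14158 : Q := act 9 n9752
theorem D14158 : act 9 n9752 = n14158 := rfl
theorem F62167 : act 1 n14158 = n9764 := d16_1 D14158 (iv D9764) (iv F43685)
theorem F62168 : act 3 n14158 = n9753 := d29_1 D14158 (iv D9753) D9752
theorem F62169 : act 4 n14158 = n14158 := d34_1 D14158 (iv D14158) F43686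
theorem F62170 : act 6 n14158 = n9755 := d41_1 D14158 (iv D9755) (iv F43687)
def n14159 : Q := act 1 n9754
theorem D14159 : act 1 n9754 = n14159 := rfl
theorem F62171 : act 2 n14159 = n9765 := d9_2 D9754 D14159 (iv D9765) (iv D6738) (iv F30797)
theorem F62172 : act 4 n14159 = n14159 := d11_2 F43691 D14159 (iv D14159)
theorem F62173 : act 5 n14159 = n10305 := d12_2 (iv F43692) D14159 (iv D10305)
theorem F62174 : act 7 n14159 = n14159 := d14_2 F43693 D14159 (iv D14159)
def n14160 : Q := act 9 n9754
theorem D14160 : act 9 n9754 = n14160 := rfl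
theorem F62175 : act 2 n14160 = n9755 := d23_1 D14160 (iv D9755) D9754
theorem F62176 : act 4 n14160 = n14160 := d34_1 D14160 (iv D14160) F43691
theorem F62177 : act 5 n14160 = n10306 := d38_1 D14160 (iv D10306) (iv F43692)
theorem F62178 : act 7 n14160 = n14160 := d43_1 D14160 (iv D14160) F43693
def n14161 : Q := act 8 n9755
theorem D14161 : act 8 n9755 = n14161 := rfl
theorem F62179 : act 1 n14161 = n9767 := d15_1 D14161 (iv D9767) (iv F43694)
theorem F62180 : act 4 n14161 = n14161 := d33_1 D14161 (iv D14161) F43696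
theorem F62181 : act 5 n14161 = n10307 := d37_1 D14161 (iv D10307) (iv F43697)
theorem F62182 : act 7 n14161 = n14161 := d42_1 D14161 (iv D14161) F43698
def n14162 : Q := act 8 n9757
theorem D14162 : act 8 n9757 = n14162 := rfl
theorem F62183 : act 0 n14162 = n14162 := d7_1 D14162 (iv D14162) F43704
theorem F62184 : act 2 n14162 = n14162 := d22_1 D14162 (iv D14162) F43705
theorem F62185 : act 4 n14162 = n14162 := d33_1 D14162 (iv D14162) F43706
theorem F62186 : act 5 n14162 = n14162 := d37_1 D14162 (iv D14162) F43707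
theorem F62187 : act 6 n14162 = n9758 := d40_1 D14162 (iv D9758) D9757
theorem F62188 : act 7 n14162 = n10308 := d42_1 D14162 (iv D10308) (iv F43708)
def n14163 : Q := act 3 n9758
theorem D14163 : act 3 n9758 = n14163 := rfl
theorem F62189 : act 0 n14163 = n14163 := d2_1 D14163 (iv D14163) F43709
theorem F62190 : act 5 n14163 = n9761 := d25_2 (iv F43712) D14163 (iv D9761)
theorem F62191 : act 7 n14163 = n9759 := d27_2 (iv F43713) D14163 (iv D9759)
def n14164 : Q := act 9 n9758
theorem D14164 : act 9 n9758 = n14164 := rfl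
theorem F62192 : act 0 n14164 = n14164 := d8_1 D14164 (iv D14164) F43709
theorem F62193 : act 2 n14164 = n14164 := d23_1 D14164 (iv D14164) F43710
theorem F62194 : act 4 n14164 = n14164 := d34_1 D14164 (iv D14164) F43711
theorem F62195 : act 5 n14164 = n9762 := d38_1 D14164 (iv D9762) (iv F43712)
theorem F62196 : act 7 n14164 = n9760 := d43_1 D14164 (iv D9760) (iv F43713)
def n14165 : Q := act 2 n9759
theorem D14165 : act 2 n9759 = n14165 := rfl
theorem F62197 : act 0 n14165 = n14165 := d1_1 D14165 (iv D14165) F43714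
theorem F62198 : act 3 n14165 = n14165 := d17_2 D9759 D14165 (iv D14165) (iv D9759) F30819
theorem F62199 : act 5 n14165 = n9763 := d19_2 (iv F43715) D14165 (iv D9763)
theorem F62200 : act 6 n14165 = n10311 := d20_2 (iv F43716) D14165 (iv D10311)
def n14166 : Q := act 4 n9759
theorem D14166 : act 4 n9759 = n14166 := rfl
theorem F62201 : act 0 n14166 = n14166 := d3_1 D14166 (iv D14166) F43714
theorem F62202 : act 3 n14166 = n14166 := d24_1 D14166 (iv D14166) (iv D9759) F30820 D9759
theorem F62203 : act 5 n14166 = n14166 := d30_2 (iv F43715) D14166 (iv D14166) F43715 F30829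
theorem F62204 : act 6 n14166 = n10312 := d31_2 (iv F43716) D14166 (iv D10312)
def n14167 : Q := act 9 n9759
theorem D14167 : act 9 n9759 = n14167 := rfl
theorem F62205 : act 0 n14167 = n14167 := d8_1 D14167 (iv D14167) F43714
theorem F62206 : act 3 n14167 = n9760 := d29_1 D14167 (iv D9760) D9759
theorem F62207 : act 5 n14167 = n9764 := d38_1 D14167 (iv D9764) (iv F43715)
theorem F62208 : act 6 n14167 = n10313 := d41_1 D14167 (iv D10313) (iv F43716)
def n14168 : Q := act 2 n9761
theorem D14168 : act 2 n9761 = n14168 := rfl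
theorem F62209 : act 0 n14168 = n14168 := d1_1 D14168 (iv D14168) F43722
theorem F62210 : act 3 n14168 = n14168 := d17_2 D9761 D14168 (iv D14168) (iv D9761) F30824
theorem F62211 : act 4 n14168 = n14168 := d18_2 F43723 D14168 (iv D14168)
theorem F62212 : act 6 n14168 = n14168 := d20_2 F43724 D14168 (iv D14168)
theorem F62213 : act 7 n14168 = n9763 := d21_2 (iv F43725) D14168 (iv D9763)
def n14169 : Q := act 9 n9761
theorem D14169 : act 9 n9761 = n14169 := rfl
theorem F62214 : act 0 n14169 = n14169 := d8_1 D14169 (iv D14169) F43722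
theorem F62215 : act 3 n14169 = n9762 := d29_1 D14169 (iv D9762) D9761
theorem F62216 : act 4 n14169 = n14169 := d34_1 D14169 (iv D14169) F43723
theorem F62217 : act 6 n14169 = n14169 := d41_1 D14169 (iv D14169) F43724
theorem F62218 : act 7 n14169 = n9764 := d43_1 D14169 (iv D9764) (iv F43725)
def n14170 : Q := act 1 n9763
theorem D14170 : act 1 n9763 = n14170 := rfl
theorem F62219 : act 3 n14170 = n14170 := d10_2 F43732 D14170 (iv D14170)
theorem F62220 : act 4 n14170 = n14170 := d11_2 F43733 D14170 (iv D14170)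
theorem F62221 : act 6 n14170 = n9765 := d13_2 (iv F43734) D14170 (iv D9765)
def n14171 : Q := act 9 n9763
theorem D14171 : act 9 n9763 = n14171 := rfl
theorem F62222 : act 0 n14171 = n14171 := d8_1 D14171 (iv D14171) F43731
theorem F62223 : act 2 n14171 = n9764 := d23_1 D14171 (iv D9764) D9763
theorem F62224 : act 3 n14171 = n14171 := d29_1 D14171 (iv D14171) F43732
theorem F62225 : act 4 n14171 = n14171 := d34_1 D14171 (iv D14171) F43733
theorem F62226 : act 6 n14171 = n9766 := d41_1 D14171 (iv D9766) (iv F43734)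
def n14172 : Q := act 8 n9764
theorem D14172 : act 8 n9764 = n14172 := rfl
theorem F62227 : act 0 n14172 = n14172 := d7_1 D14172 (iv D14172) F43735
theorem F62228 : act 4 n14172 = n14172 := d33_1 D14172 (iv D14172) F43737
theorem F62229 : act 6 n14172 = n9767 := d40_1 D14172 (iv D9767) (iv F43738)
def n14173 : Q := act 0 n9765
theorem D14173 : act 0 n9765 = n14173 := rfl
theorem F62230 : act 1 n14173 = n14173 := d0_2 D9765 D14173 (iv D14173) (iv D9765) F30835
theorem F62231 : act 3 n14173 = n14173 := d2_2 F43739 D14173 (iv D14173)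
theorem F62232 : act 4 n14173 = n14173 := d3_2 F43740 D14173 (iv D14173)
theorem F62233 : act 5 n14173 = n10319 := d4_2 (iv F43741) D14173 (iv D10319)
theorem F62234 : act 7 n14173 = n14173 := d6_2 F43742 D14173 (iv D14173)
def n14174 : Q := act 9 n9765
theorem D14174 : act 9 n9765 = n14174 := rfl
theorem F62235 : act 1 n14174 = n9766 := d16_1 D14174 (iv D9766) D9765
theorem F62236 : act 3 n14174 = n14174 := d29_1 D14174 (iv D14174) F43739
theorem F62237 : act 4 n14174 = n14174 := d34_1 D14174 (iv D14174) F43740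
theorem F62238 : act 5 n14174 = n10320 := d38_1 D14174 (iv D10320) (iv F43741)
theorem F62239 : act 7 n14174 = n14174 := d43_1 D14174 (iv D14174) F43742
def n14175 : Q := act 8 n9766
theorem D14175 : act 8 n9766 = n14175 := rfl
theorem F62240 : act 0 n14175 = n14175 := d7_1 D14175 (iv D14175) F43743
theorem F62241 : act 2 n14175 = n9767 := d22_1 D14175 (iv D9767) (iv F43744)
theorem F62242 : act 4 n14175 = n14175 := d33_1 D14175 (iv D14175) F43746
theorem F62243 : act 5 n14175 = n10321 := d37_1 D14175 (iv D10321) (iv F43747)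
theorem F62244 : act 7 n14175 = n14175 := d42_1 D14175 (iv D14175) F43748
def n14176 : Q := act 2 n9768
theorem D14176 : act 2 n9768 = n14176 := rfl
theorem F62247 : act 5 n14176 = n9769 := d19_2 (iv F43755) D14176 (iv D9769)
def n14177 : Q := act 4 n9768
theorem D14177 : act 4 n9768 = n14177 := rfl
theorem F62253 : act 1 n14177 = n10567 := d11_1 D14177 (iv D10567) (iv F43754)
def n14178 : Q := act 1 n9769
theorem D14178 : act 1 n9769 = n14178 := rfl
theorem F62261 : act 6 n14178 = n9786 := d13_2 (iv F43762) D14178 (iv D9786)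
def n14179 : Q := act 4 n9769
theorem D14179 : act 4 n9769 = n14179 := rfl
theorem F62267 : act 6 n14179 = n9787 := d31_2 (iv F43762) D14179 (iv D9787)
def n14180 : Q := act 5 n9770
theorem D14180 : act 5 n9770 = n14180 := rfl
theorem F62272 : act 1 n14180 = n10570 := d12_1 D14180 (iv D10570) (iv F43767)
theorem F62273 : act 3 n14180 = n9773 := d25_1 D14180 (iv D9773) (iv F43768)
def n14181 : Q := act 0 n9771
theorem D14181 : act 0 n9771 = n14181 := rfl
theorem F62281 : act 6 n14181 = n9789 := d5_2 (iv F43776) D14181 (iv D9789)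
theorem F62283 : act 8 n14181 = n9774 := d7_2 (iv F43778) D14181 (iv D9774)
def n14182 : Q := act 4 n9771
theorem D14182 : act 4 n9771 = n14182 := rfl
theorem F62285 : act 1 n14182 = n9772 := d11_1 D14182 (iv D9772) D9771
theorem F62287 : act 6 n14182 = n9790 := d31_2 (iv F43776) D14182 (iv D9790)
theorem F62289 : act 8 n14182 = n9775 := d33_2 (iv F43778) D14182 (iv D9775)
def n14183 : Q := act 3 n9772
theorem D14183 : act 3 n9772 = n14183 := rfl
theorem F62293 : act 6 n14183 = n9791 := d26_2 (iv F43782) D14183 (iv D9791)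
def n14184 : Q := act 5 n9772
theorem D14184 : act 5 n9772 = n14184 := rfl
theorem F62297 : act 2 n14184 = n9773 := d19_1 D14184 (iv D9773) (iv F43781)
theorem F62300 : act 8 n14184 = n9777 := d37_2 (iv F43784) D14184 (iv D9777)
def n14185 : Q := act 6 n9773
theorem D14185 : act 6 n9773 = n14185 := rfl
theorem F62305 : act 5 n14185 = n9793 := d35_1 D14185 (iv D9793) (iv D6757) (iv F30874) D9773
theorem F62306 : act 8 n14185 = n9778 := d40_2 (iv F43790) D14185 (iv D9778)
def n14186 : Q := act 4 n9774
theorem D14186 : act 4 n9774 = n14186 := rfl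
theorem F62308 : act 0 n14186 = n9775 := d3_1 D14186 (iv D9775) D9774
theorem F62311 : act 6 n14186 = n9794 := d31_2 (iv F43795) D14186 (iv D9794)
theorem F62313 : act 9 n14186 = n9779 := d34_2 (iv F43797) D14186 (iv D9779)
def n14187 : Q := act 3 n9775
theorem D14187 : act 3 n9775 = n14187 := rfl
theorem F62314 : act 1 n14187 = n9776 := d10_1 D14187 (iv D9776) (iv F43798)
theorem F62315 : act 6 n14187 = n9795 := d26_2 (iv F43800) D14187 (iv D9795)
theorem F62316 : act 7 n14187 = n14187 := d27_2 F43801 D14187 (iv D14187)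
theorem F62317 : act 9 n14187 = n9780 := d29_2 (iv F43802) D14187 (iv D9780)
def n14188 : Q := act 5 n9775
theorem D14188 : act 5 n9775 = n14188 := rfl
theorem F62318 : act 1 n14188 = n9777 := d12_1 D14188 (iv D9777) (iv F43798)
theorem F62319 : act 2 n14188 = n10578 := d19_1 D14188 (iv D10578) (iv F43799)
theorem F62320 : act 4 n14188 = n14188 := d30_1 D14188 (iv D14188) (iv D9775) F30879 D9775
theorem F62321 : act 7 n14188 = n14188 := d36_2 F43801 D14188 (iv D14188)
theorem F62322 : act 9 n14188 = n9781 := d38_2 (iv F43802) D14188 (iv D9781)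
def n14189 : Q := act 5 n9776
theorem D14189 : act 5 n9776 = n14189 := rfl
theorem F62325 : act 3 n14189 = n9777 := d25_1 D14189 (iv D9777) D9776
theorem F62327 : act 9 n14189 = n9782 := d38_2 (iv F43807) D14189 (iv D9782)
def n14190 : Q := act 8 n9776
theorem D14190 : act 8 n9776 = n14190 := rfl
theorem F62330 : act 6 n14190 = n9798 := d40_1 D14190 (iv D9798) (iv F43805)
def n14191 : Q := act 6 n9777
theorem D14191 : act 6 n9777 = n14191 := rfl
theorem F62335 : act 5 n14191 = n9799 := d35_1 D14191 (iv D9799) (iv D6761) (iv F30885) D9777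
theorem F62336 : act 9 n14191 = n9784 := d41_2 (iv F43812) D14191 (iv D9784)
def n14192 : Q := act 7 n9778
theorem D14192 : act 7 n9778 = n14192 := rfl
def n14193 : Q := act 3 n9779
theorem D14193 : act 3 n9779 = n14193 := rfl
theorem F62344 : act 0 n14193 = n9780 := d2_1 D14193 (iv D9780) (iv F43819)
theorem F62345 : act 1 n14193 = n14193 := d10_1 D14193 (iv D14193) F43820
theorem F62346 : act 6 n14193 = n9801 := d26_2 (iv F43822) D14193 (iv D9801)
theorem F62347 : act 7 n14193 = n14193 := d27_2 F43823 D14193 (iv D14193)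
def n14194 : Q := act 5 n9779
theorem D14194 : act 5 n9779 = n14194 := rfl
theorem F62348 : act 0 n14194 = n9781 := d4_1 D14194 (iv D9781) (iv F43819)
theorem F62349 : act 1 n14194 = n14194 := d12_1 D14194 (iv D14194) F43820
theorem F62351 : act 4 n14194 = n14194 := d30_1 D14194 (iv D14194) (iv D9779) F30896 D9779
theorem F62352 : act 7 n14194 = n14194 := d36_2 F43823 D14194 (iv D14194)
theorem F62353 : act 8 n14194 = n14194 := d37_2 F43824 D14194 (iv D14194)
def n14195 : Q := act 2 n9780
theorem D14195 : act 2 n9780 = n14195 := rfl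
theorem F62354 : act 1 n14195 = n14195 := d9_1 D14195 (iv D14195) F43825 F30906 (iv F43825)
theorem F62355 : act 3 n14195 = n10585 := d17_2 D9780 D14195 (iv D10585) (iv D7301) (iv F30901)
theorem F62356 : act 6 n14195 = n9803 := d20_2 (iv F43826) D14195 (iv D9803)
theorem F62357 : act 7 n14195 = n14195 := d21_2 F43827 D14195 (iv D14195)
def n14196 : Q := act 5 n9780
theorem D14196 : act 5 n9780 = n14196 := rfl
theorem F62358 : act 1 n14196 = n9782 := d12_1 D14196 (iv D9782) (iv F43825)
theorem F62359 : act 3 n14196 = n9781 := d25_1 D14196 (iv D9781) D9780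
theorem F62360 : act 7 n14196 = n14196 := d36_2 F43827 D14196 (iv D14196)
def n14197 : Q := act 8 n9780
theorem D14197 : act 8 n9780 = n14197 := rfl
theorem F62361 : act 1 n14197 = n9783 := d15_1 D14197 (iv D9783) (iv F43825)
theorem F62362 : act 3 n14197 = n14197 := d28_1 D14197 (iv D14197) (iv D9780) F30904 D9780
theorem F62363 : act 6 n14197 = n9805 := d40_1 D14197 (iv D9805) (iv F43826)
theorem F62364 : act 7 n14197 = n14197 := d42_1 D14197 (iv D14197) F43827
def n14198 : Q := act 6 n9781
theorem D14198 : act 6 n9781 = n14198 := rfl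
theorem F62365 : act 1 n14198 = n9784 := d13_1 D14198 (iv D9784) (iv F43828)
theorem F62368 : act 5 n14198 = n9806 := d35_1 D14198 (iv D9806) (iv D6765) (iv F30902) D9781
def n14199 : Q := act 4 n9782
theorem D14199 : act 4 n9782 = n14199 := rfl
theorem F62370 : act 0 n14199 = n14199 := d3_1 D14199 (iv D14199) F43833
theorem F62371 : act 2 n14199 = n14199 := d18_1 D14199 (iv D14199) F43834
theorem F62372 : act 3 n14199 = n14199 := d24_1 D14199 (iv D14199) F43835 F30911 (iv F43835)
theorem F62373 : act 7 n14199 = n14199 := d32_2 F43836 D14199 (iv D14199)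
def n14200 : Q := act 6 n9782
theorem D14200 : act 6 n9782 = n14200 := rfl
theorem F62376 : act 3 n14200 = n9784 := d26_1 D14200 (iv D9784) (iv F43835)
theorem F62377 : act 5 n14200 = n9808 := d35_1 D14200 (iv D9808) (iv D6766) (iv F30907) D9782
def n14201 : Q := act 8 n9782
theorem D14201 : act 8 n9782 = n14201 := rfl
theorem F62378 : act 0 n14201 = n14201 := d7_1 D14201 (iv D14201) F43833
theorem F62379 : act 2 n14201 = n14201 := d22_1 D14201 (iv D14201) F43834
theorem F62380 : act 3 n14201 = n14201 := d28_1 D14201 (iv D14201) F43835 F30913 (iv F43835)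
theorem F62381 : act 5 n14201 = n9783 := d37_1 D14201 (iv D9783) D9782
theorem F62382 : act 7 n14201 = n14201 := d42_1 D14201 (iv D14201) F43836
def n14202 : Q := act 9 n9783
theorem D14202 : act 9 n9783 = n14202 := rfl
theorem F62386 : act 6 n14202 = n9810 := d41_1 D14202 (iv D9810) (iv F43840)
def n14203 : Q := act 7 n9784
theorem D14203 : act 7 n9784 = n14203 := rfl
theorem F62391 : act 5 n14203 = n9811 := d36_1 D14203 (iv D9811) (iv F43845)
def n14205 : Q := act 4 n9786
theorem D14205 : act 4 n9786 = n14205 := rfl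
theorem F62401 : act 1 n14205 = n9787 := d11_1 D14205 (iv D9787) D9786
theorem F62402 : act 2 n14205 = n10606 := d18_1 D14205 (iv D10606) (iv F43854)
def n14206 : Q := act 3 n9787
theorem D14206 : act 3 n9787 = n14206 := rfl
theorem F62407 : act 2 n14206 = n9791 := d17_1 D14206 (iv D9791) F30939 (iv F30928) (iv F43861)
theorem F62409 : act 7 n14206 = n9814 := d27_2 (iv F43862) D14206 (iv D9814)
def n14207 : Q := act 5 n9787
theorem D14207 : act 5 n9787 = n14207 := rfl
theorem F62412 : act 2 n14207 = n9788 := d19_1 D14207 (iv D9788) (iv F43861)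
theorem F62414 : act 7 n14207 = n9815 := d36_2 (iv F43862) D14207 (iv D9815)
def n14208 : Q := act 6 n9788
theorem D14208 : act 6 n9788 = n14208 := rfl
theorem F62419 : act 3 n14208 = n9793 := d26_1 D14208 (iv D9793) (iv F43867)
def n14209 : Q := act 4 n9789
theorem D14209 : act 4 n9789 = n14209 := rfl
theorem F62426 : act 7 n14209 = n9817 := d32_2 (iv F43876) D14209 (iv D9817)
theorem F62427 : act 8 n14209 = n9794 := d33_2 (iv F43877) D14209 (iv D9794)
def n14210 : Q := act 3 n9790
theorem D14210 : act 3 n9790 = n14210 := rfl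
theorem F62429 : act 1 n14210 = n9791 := d10_1 D14210 (iv D9791) (iv F43879)
theorem F62431 : act 7 n14210 = n9818 := d27_2 (iv F43881) D14210 (iv D9818)
def n14211 : Q := act 5 n9790
theorem D14211 : act 5 n9790 = n14211 := rfl
theorem F62433 : act 1 n14211 = n9792 := d12_1 D14211 (iv D9792) (iv F43879)
theorem F62435 : act 4 n14211 = n9853 := d30_1 D14211 (iv D9853) (iv D6797) (iv F30934) D9790
theorem F62436 : act 7 n14211 = n9819 := d36_2 (iv F43881) D14211 (iv D9819)
theorem F62437 : act 8 n14211 = n9796 := d37_2 (iv F43882) D14211 (iv D9796)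
def n14212 : Q := act 5 n9791
theorem D14212 : act 5 n9791 = n14212 := rfl
theorem F62440 : act 3 n14212 = n9792 := d25_1 D14212 (iv D9792) D9791
theorem F62441 : act 7 n14212 = n9820 := d36_2 (iv F43886) D14212 (iv D9820)
def n14213 : Q := act 8 n9791
theorem D14213 : act 8 n9791 = n14213 := rfl
theorem F62444 : act 3 n14213 = n9798 := d28_1 D14213 (iv D9798) (iv D6760) (iv F30941) D9791
theorem F62446 : act 7 n14213 = n9821 := d42_1 D14213 (iv D9821) (iv F43886)
def n14214 : Q := act 6 n9792
theorem D14214 : act 6 n9792 = n14214 := rfl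
theorem F62449 : act 4 n14214 = n9856 := d31_1 D14214 (iv D9856) (iv F43890)
theorem F62450 : act 8 n14214 = n9799 := d40_2 (iv F43892) D14214 (iv D9799)
def n14215 : Q := act 7 n9793
theorem D14215 : act 7 n9793 = n14215 := rfl
theorem F62454 : act 4 n14215 = n9857 := d32_1 D14215 (iv D9857) (iv F43896)
theorem F62455 : act 6 n14215 = n9823 := d39_1 D14215 (iv D9823) (iv D6777) (iv F30946) D9793
theorem F62456 : act 8 n14215 = n9800 := d42_2 (iv F43897) D14215 (iv D9800)
def n14216 : Q := act 3 n9794
theorem D14216 : act 3 n9794 = n14216 := rfl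
theorem F62458 : act 0 n14216 = n9795 := d2_1 D14216 (iv D9795) (iv F43899)
theorem F62460 : act 7 n14216 = n9824 := d27_2 (iv F43902) D14216 (iv D9824)
theorem F62461 : act 9 n14216 = n9801 := d29_2 (iv F43903) D14216 (iv D9801)
def n14217 : Q := act 5 n9794
theorem D14217 : act 5 n9794 = n14217 := rfl
theorem F62462 : act 0 n14217 = n9796 := d4_1 D14217 (iv D9796) (iv F43899)
theorem F62467 : act 9 n14217 = n9802 := d38_2 (iv F43903) D14217 (iv D9802)
def n14218 : Q := act 2 n9795
theorem D14218 : act 2 n9795 = n14218 := rfl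
theorem F62468 : act 1 n14218 = n14218 := d9_1 D14218 (iv D14218) F43904 F30959 (iv F43904)
theorem F62469 : act 3 n14218 = n10619 := d17_2 D9795 D14218 (iv D10619) (iv D7323) (iv F30955)
theorem F62470 : act 7 n14218 = n9826 := d21_2 (iv F43905) D14218 (iv D9826)
theorem F62471 : act 9 n14218 = n9803 := d23_2 (iv F43906) D14218 (iv D9803)
def n14219 : Q := act 5 n9795
theorem D14219 : act 5 n9795 = n14219 := rfl
theorem F62472 : act 1 n14219 = n9797 := d12_1 D14219 (iv D9797) (iv F43904)
theorem F62473 : act 3 n14219 = n9796 := d25_1 D14219 (iv D9796) D9795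
theorem F62474 : act 7 n14219 = n9827 := d36_2 (iv F43905) D14219 (iv D9827)
theorem F62475 : act 9 n14219 = n9804 := d38_2 (iv F43906) D14219 (iv D9804)
def n14220 : Q := act 8 n9795
theorem D14220 : act 8 n9795 = n14220 := rfl
theorem F62476 : act 1 n14220 = n9798 := d15_1 D14220 (iv D9798) (iv F43904)
theorem F62477 : act 7 n14220 = n9828 := d42_1 D14220 (iv D9828) (iv F43905)
def n14221 : Q := act 6 n9796
theorem D14221 : act 6 n9796 = n14221 := rfl
theorem F62478 : act 1 n14221 = n9799 := d13_1 D14221 (iv D9799) (iv F43907)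
theorem F62479 : act 2 n14221 = n10622 := d20_1 D14221 (iv D10622) (iv F43908)
theorem F62480 : act 4 n14221 = n9863 := d31_1 D14221 (iv D9863) (iv F43909)
theorem F62481 : act 9 n14221 = n9806 := d41_2 (iv F43911) D14221 (iv D9806)
def n14222 : Q := act 4 n9797
theorem D14222 : act 4 n9797 = n14222 := rfl
theorem F62482 : act 0 n14222 = n14222 := d3_1 D14222 (iv D14222) F43912
theorem F62483 : act 2 n14222 = n14222 := d18_1 D14222 (iv D14222) F43913
theorem F62484 : act 3 n14222 = n9864 := d24_1 D14222 (iv D9864) F31163 (iv F30964) (iv F43914)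
theorem F62485 : act 7 n14222 = n9830 := d32_2 (iv F43915) D14222 (iv D9830)
theorem F62486 : act 9 n14222 = n9807 := d34_2 (iv F43916) D14222 (iv D9807)
def n14223 : Q := act 6 n9797
theorem D14223 : act 6 n9797 = n14223 := rfl
theorem F62489 : act 3 n14223 = n9799 := d26_1 D14223 (iv D9799) (iv F43914)
theorem F62490 : act 9 n14223 = n9808 := d41_2 (iv F43916) D14223 (iv D9808)
def n14224 : Q := act 8 n9797
theorem D14224 : act 8 n9797 = n14224 := rfl
theorem F62494 : act 7 n14224 = n9832 := d42_1 D14224 (iv D9832) (iv F43915)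
def n14225 : Q := act 9 n9798
theorem D14225 : act 9 n9798 = n14225 := rfl
theorem F62495 : act 0 n14225 = n14225 := d8_1 D14225 (iv D14225) F43917
theorem F62496 : act 2 n14225 = n14225 := d23_1 D14225 (iv D14225) F43918
theorem F62497 : act 7 n14225 = n9833 := d43_1 D14225 (iv D9833) (iv F43919)
theorem F62498 : act 8 n14225 = n9810 := d44_1 D14225 (iv D9810) (iv D6767) (iv F30961) D9798
def n14226 : Q := act 7 n9799
theorem D14226 : act 7 n9799 = n14226 := rfl
theorem F62501 : act 4 n14226 = n9868 := d32_1 D14226 (iv D9868) (iv F43922)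
theorem F62502 : act 6 n14226 = n9834 := d39_1 D14226 (iv D9834) (iv D6783) (iv F30965) D9799
theorem F62503 : act 9 n14226 = n9811 := d43_2 (iv F43923) D14226 (iv D9811)
def n14227 : Q := act 2 n9801
theorem D14227 : act 2 n9801 = n14227 := rfl
theorem F62504 : act 0 n14227 = n9803 := d1_1 D14227 (iv D9803) (iv F43930)
theorem F62505 : act 3 n14227 = n10628 := d17_2 D9801 D14227 (iv D10628) (iv D7329) (iv F30974)
def n14228 : Q := act 5 n9801
theorem D14228 : act 5 n9801 = n14228 := rfl
theorem F62507 : act 0 n14228 = n9804 := d4_1 D14228 (iv D9804) (iv F43930)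
theorem F62508 : act 1 n14228 = n14228 := d12_1 D14228 (iv D14228) F43931
theorem F62509 : act 3 n14228 = n9802 := d25_1 D14228 (iv D9802) D9801
theorem F62510 : act 7 n14228 = n9836 := d36_2 (iv F43932) D14228 (iv D9836)
def n14229 : Q := act 8 n9801
theorem D14229 : act 8 n9801 = n14229 := rfl
theorem F62511 : act 0 n14229 = n9805 := d7_1 D14229 (iv D9805) (iv F43930)
def n14230 : Q := act 6 n9802
theorem D14230 : act 6 n9802 = n14230 := rfl
theorem F62515 : act 0 n14230 = n9806 := d5_1 D14230 (iv D9806) (iv F43933)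
theorem F62516 : act 1 n14230 = n14230 := d13_1 D14230 (iv D14230) F43934
theorem F62518 : act 4 n14230 = n9872 := d31_1 D14230 (iv D9872) (iv F43936)
theorem F62519 : act 8 n14230 = n14230 := d40_2 F43938 D14230 (iv D14230)
def n14231 : Q := act 5 n9803
theorem D14231 : act 5 n9803 = n14231 := rfl
theorem F62520 : act 1 n14231 = n14231 := d12_1 D14231 (iv D14231) F43939
theorem F62521 : act 2 n14231 = n9804 := d19_1 D14231 (iv D9804) D9803
theorem F62522 : act 3 n14231 = n10632 := d25_1 D14231 (iv D10632) (iv F43940)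

end Cfsg.Agent.Helper17.Fi23TC
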