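import Cfsg.Agent.Helper17.Fi23TC.Facts4

set_option autoImplicit false
set_option linter.all false

noncomputable section

namespace Cfsg.Agent.Helper17.Fi23TC

theorem F62523 : act 7 n14231 = n9839 := d36_2 (iv F43941) D14231 (iv D9839)
def n14232 : Q := act 8 n9803
theorem D14232 : act 8 n9803 = n14232 := rfl
theorem F62525 : act 2 n14232 = n9805 := d22_1 D14232 (iv D9805) D9803
def n14233 : Q := act 4 n9804
theorem D14233 : act 4 n9804 = n14233 := rfl
theorem F62527 : act 1 n14233 = n9807 := d11_1 D14233 (iv D9807) (iv F43942)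
theorem F62528 : act 3 n14233 = n9875 := d24_1 D14233 (iv D9875) F31194 (iv F30981) (iv F43943)
theorem F62529 : act 7 n14233 = n9841 := d32_2 (iv F43944) D14233 (iv D9841)
def n14234 : Q := act 6 n9804
theorem D14234 : act 6 n9804 = n14234 := rfl
theorem F62530 : act 1 n14234 = n9808 := d13_1 D14234 (iv D9808) (iv F43942)
theorem F62531 : act 3 n14234 = n9806 := d26_1 D14234 (iv D9806) (iv F43943)
def n14235 : Q := act 8 n9804
theorem D14235 : act 8 n9804 = n14235 := rfl
theorem F62532 : act 1 n14235 = n9809 := d15_1 D14235 (iv D9809) (iv F43942)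
theorem F62533 : act 3 n14235 = n14235 := d28_1 D14235 (iv D14235) F43943 F30983 (iv F43943)
theorem F62534 : act 5 n14235 = n9805 := d37_1 D14235 (iv D9805) D9804
theorem F62535 : act 7 n14235 = n9843 := d42_1 D14235 (iv D9843) (iv F43944)
def n14236 : Q := act 9 n9805
theorem D14236 : act 9 n9805 = n14236 := rfl
theorem F62536 : act 1 n14236 = n9810 := d16_1 D14236 (iv D9810) (iv F43945)
theorem F62537 : act 3 n14236 = n14236 := d29_1 D14236 (iv D14236) F43946
theorem F62538 : act 7 n14236 = n9844 := d43_1 D14236 (iv D9844) (iv F43947)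
def n14237 : Q := act 7 n9806
theorem D14237 : act 7 n9806 = n14237 := rfl
theorem F62539 : act 1 n14237 = n9811 := d14_1 D14237 (iv D9811) (iv F43948)
theorem F62541 : act 4 n14237 = n9879 := d32_1 D14237 (iv D9879) (iv F43950)
theorem F62542 : act 6 n14237 = n9845 := d39_1 D14237 (iv D9845) (iv D6790) (iv F30982) D9806
def n14238 : Q := act 6 n9807
theorem D14238 : act 6 n9807 = n14238 := rfl
theorem F62544 : act 0 n14238 = n14238 := d5_1 D14238 (iv D14238) F43952
theorem F62545 : act 2 n14238 = n14238 := d20_1 D14238 (iv D14238) F43953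
theorem F62546 : act 3 n14238 = n9880 := d26_1 D14238 (iv D9880) (iv F43954)
theorem F62547 : act 4 n14238 = n9808 := d31_1 D14238 (iv D9808) D9807
def n14239 : Q := act 8 n9807
theorem D14239 : act 8 n9807 = n14239 := rfl
theorem F62548 : act 0 n14239 = n14239 := d7_1 D14239 (iv D14239) F43952
theorem F62549 : act 2 n14239 = n14239 := d22_1 D14239 (iv D14239) F43953
theorem F62550 : act 4 n14239 = n9809 := d33_1 D14239 (iv D9809) D9807
theorem F62551 : act 7 n14239 = n9847 := d42_1 D14239 (iv D9847) (iv F43955)
def n14240 : Q := act 7 n9808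
theorem D14240 : act 7 n9808 = n14240 := rfl
theorem F62554 : act 3 n14240 = n9811 := d27_1 D14240 (iv D9811) (iv F43958)
theorem F62555 : act 6 n14240 = n9848 := d39_1 D14240 (iv D9848) (iv D6792) (iv F30987) D9808
def n14241 : Q := act 8 n9808
theorem D14241 : act 8 n9808 = n14241 := rfl
theorem F62556 : act 0 n14241 = n14241 := d7_1 D14241 (iv D14241) F43956
theorem F62557 : act 2 n14241 = n14241 := d22_1 D14241 (iv D14241) F43957
theorem F62558 : act 3 n14241 = n14241 := d28_1 D14241 (iv D14241) F43958 F30995 (iv F43958)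
theorem F62559 : act 6 n14241 = n9809 := d40_1 D14241 (iv D9809) D9808
def n14242 : Q := act 9 n9809
theorem D14242 : act 9 n9809 = n14242 := rfl
theorem F62560 : act 0 n14242 = n14242 := d8_1 D14242 (iv D14242) F43959
theorem F62561 : act 2 n14242 = n14242 := d23_1 D14242 (iv D14242) F43960
theorem F62562 : act 3 n14242 = n14242 := d29_1 D14242 (iv D14242) F43961
theorem F62563 : act 5 n14242 = n9810 := d38_1 D14242 (iv D9810) (iv F43962)
theorem F62564 : act 7 n14242 = n9850 := d43_1 D14242 (iv D9850) (iv F43963)
def n14244 : Q := act 3 n9813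
theorem D14244 : act 3 n9813 = n14244 := rfl
theorem F62571 : act 1 n14244 = n9814 := d10_1 D14244 (iv D9814) (iv F43980)
def n14245 : Q := act 5 n9813
theorem D14245 : act 5 n9813 = n14245 := rfl
theorem F62575 : act 1 n14245 = n9815 := d12_1 D14245 (iv D9815) (iv F43980)
theorem F62576 : act 2 n14245 = n10663 := d19_1 D14245 (iv D10663) (iv F43981)
def n14246 : Q := act 5 n9814
theorem D14246 : act 5 n9814 = n14246 := rfl
theorem F62581 : act 2 n14246 = n9820 := d19_1 D14246 (iv D9820) (iv F43986)
theorem F62582 : act 3 n14246 = n9815 := d25_1 D14246 (iv D9815) D9814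
def n14247 : Q := act 8 n9814
theorem D14247 : act 8 n9814 = n14247 := rfl
theorem F62585 : act 2 n14247 = n9821 := d22_1 D14247 (iv D9821) (iv F43986)
def n14248 : Q := act 6 n9815
theorem D14248 : act 6 n9815 = n14248 := rfl
theorem F62590 : act 2 n14248 = n9816 := d20_1 D14248 (iv D9816) (iv F43991)
def n14249 : Q := act 7 n9816
theorem D14249 : act 7 n9816 = n14249 := rfl
theorem F62597 : act 3 n14249 = n9823 := d27_1 D14249 (iv D9823) (iv F43997)
def n14251 : Q := act 5 n9817
theorem D14251 : act 5 n9817 = n14251 := rfl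
theorem F62611 : act 8 n14251 = n9825 := d37_2 (iv F44006) D14251 (iv D9825)
def n14253 : Q := act 5 n9818
theorem D14253 : act 5 n9818 = n14253 := rfl
theorem F62617 : act 1 n14253 = n9820 := d12_1 D14253 (iv D9820) (iv F44008)
theorem F62618 : act 3 n14253 = n9819 := d25_1 D14253 (iv D9819) D9818
def n14254 : Q := act 8 n9818
theorem D14254 : act 8 n9818 = n14254 := rfl
theorem F62620 : act 1 n14254 = n9821 := d15_1 D14254 (iv D9821) (iv F44008)
theorem F62621 : act 3 n14254 = n9828 := d28_1 D14254 (iv D9828) (iv D6779) (iv F31029) D9818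
def n14255 : Q := act 6 n9819
theorem D14255 : act 6 n9819 = n14255 := rfl
theorem F62624 : act 1 n14255 = n9822 := d13_1 D14255 (iv D9822) (iv F44012)
theorem F62628 : act 8 n14255 = n9829 := d40_2 (iv F44015) D14255 (iv D9829)
def n14256 : Q := act 4 n9820
theorem D14256 : act 4 n9820 = n14256 := rfl
theorem F62631 : act 3 n14256 = n9891 := d24_1 D14256 (iv D9891) F31242 (iv F31037) (iv F44018)
def n14257 : Q := act 6 n9820
theorem D14257 : act 6 n9820 = n14257 := rfl
theorem F62635 : act 3 n14257 = n9822 := d26_1 D14257 (iv D9822) (iv F44018)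
def n14258 : Q := act 8 n9820
theorem D14258 : act 8 n9820 = n14258 := rfl
theorem F62639 : act 3 n14258 = n9832 := d28_1 D14258 (iv D9832) F31060 (iv F31038) (iv F44018)
def n14259 : Q := act 9 n9821
theorem D14259 : act 9 n9821 = n14259 := rfl
theorem F62641 : act 0 n14259 = n14259 := d8_1 D14259 (iv D14259) F44020
theorem F62642 : act 3 n14259 = n9833 := d29_1 D14259 (iv D9833) (iv F44021)
theorem F62643 : act 4 n14259 = n14259 := d34_1 D14259 (iv D14259) F44022
theorem F62644 : act 6 n14259 = n14259 := d41_1 D14259 (iv D14259) F44023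
theorem F62645 : act 8 n14259 = n14259 := d44_1 D14259 (iv D14259) (iv D9821) F31034 D9821
def n14260 : Q := act 7 n9822
theorem D14260 : act 7 n9822 = n14260 := rfl
theorem F62648 : act 4 n14260 = n9895 := d32_1 D14260 (iv D9895) (iv F44026)
theorem F62650 : act 8 n14260 = n9834 := d42_2 (iv F44028) D14260 (iv D9834)
def n14261 : Q := act 2 n9824
theorem D14261 : act 2 n9824 = n14261 := rfl
theorem F62652 : act 0 n14261 = n9826 := d1_1 D14261 (iv D9826) (iv F44036)
theorem F62655 : act 9 n14261 = n9835 := d23_2 (iv F44039) D14261 (iv D9835)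
def n14262 : Q := act 5 n9824
theorem D14262 : act 5 n9824 = n14262 := rfl
theorem F62656 : act 0 n14262 = n9827 := d4_1 D14262 (iv D9827) (iv F44036)
theorem F62658 : act 3 n14262 = n9825 := d25_1 D14262 (iv D9825) D9824
theorem F62659 : act 9 n14262 = n9836 := d38_2 (iv F44039) D14262 (iv D9836)
def n14263 : Q := act 8 n9824
theorem D14263 : act 8 n9824 = n14263 := rfl
theorem F62660 : act 0 n14263 = n9828 := d7_1 D14263 (iv D9828) (iv F44036)
def n14264 : Q := act 6 n9825
theorem D14264 : act 6 n9825 = n14264 := rfl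
theorem F62663 : act 0 n14264 = n9829 := d5_1 D14264 (iv D9829) (iv F44040)
theorem F62668 : act 9 n14264 = n9838 := d41_2 (iv F44044) D14264 (iv D9838)
def n14265 : Q := act 5 n9826
theorem D14265 : act 5 n9826 = n14265 := rfl
theorem F62669 : act 1 n14265 = n14265 := d12_1 D14265 (iv D14265) F44045
theorem F62670 : act 2 n14265 = n9827 := d19_1 D14265 (iv D9827) D9826
theorem F62671 : act 3 n14265 = n10683 := d25_1 D14265 (iv D10683) (iv F44046)
theorem F62672 : act 9 n14265 = n9839 := d38_2 (iv F44048) D14265 (iv D9839)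
def n14266 : Q := act 8 n9826
theorem D14266 : act 8 n9826 = n14266 := rfl
theorem F62673 : act 1 n14266 = n14266 := d15_1 D14266 (iv D14266) F44045
theorem F62674 : act 2 n14266 = n9828 := d22_1 D14266 (iv D9828) D9826
theorem F62675 : act 6 n14266 = n14266 := d40_1 D14266 (iv D14266) F44047
def n14267 : Q := act 4 n9827
theorem D14267 : act 4 n9827 = n14267 := rfl
theorem F62676 : act 1 n14267 = n9830 := d11_1 D14267 (iv D9830) (iv F44049)
theorem F62677 : act 3 n14267 = n9902 := d24_1 D14267 (iv D9902) F31273 (iv F31056) (iv F44050)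
theorem F62678 : act 9 n14267 = n9841 := d34_2 (iv F44051) D14267 (iv D9841)
def n14268 : Q := act 6 n9827
theorem D14268 : act 6 n9827 = n14268 := rfl
theorem F62679 : act 1 n14268 = n9831 := d13_1 D14268 (iv D9831) (iv F44049)
theorem F62680 : act 3 n14268 = n9829 := d26_1 D14268 (iv D9829) (iv F44050)
theorem F62681 : act 5 n14268 = n14268 := d35_1 D14268 (iv D14268) (iv D9827) F31052 D9827
theorem F62682 : act 9 n14268 = n9842 := d41_2 (iv F44051) D14268 (iv D9842)
def n14269 : Q := act 8 n9827
theorem D14269 : act 8 n9827 = n14269 := rfl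
theorem F62683 : act 1 n14269 = n9832 := d15_1 D14269 (iv D9832) (iv F44049)
theorem F62684 : act 5 n14269 = n9828 := d37_1 D14269 (iv D9828) D9827
def n14270 : Q := act 9 n9828
theorem D14270 : act 9 n9828 = n14270 := rfl
theorem F62685 : act 1 n14270 = n9833 := d16_1 D14270 (iv D9833) (iv F44052)
theorem F62686 : act 6 n14270 = n14270 := d41_1 D14270 (iv D14270) F44053
theorem F62687 : act 8 n14270 = n9844 := d44_1 D14270 (iv D9844) (iv D6789) (iv F31053) D9828
def n14271 : Q := act 7 n9829
theorem D14271 : act 7 n9829 = n14271 := rfl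
theorem F62688 : act 1 n14271 = n9834 := d14_1 D14271 (iv D9834) (iv F44054)
theorem F62689 : act 2 n14271 = n10689 := d21_1 D14271 (iv D10689) (iv F44055)
theorem F62690 : act 4 n14271 = n9906 := d32_1 D14271 (iv D9906) (iv F44056)
theorem F62691 : act 5 n14271 = n14271 := d36_1 D14271 (iv D14271) F44057
theorem F62692 : act 9 n14271 = n9845 := d43_2 (iv F44058) D14271 (iv D9845)
def n14272 : Q := act 6 n9830
theorem D14272 : act 6 n9830 = n14272 := rfl
theorem F62693 : act 0 n14272 = n14272 := d5_1 D14272 (iv D14272) F44059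
theorem F62694 : act 2 n14272 = n14272 := d20_1 D14272 (iv D14272) F44060
theorem F62695 : act 3 n14272 = n9907 := d26_1 D14272 (iv D9907) (iv F44061)
theorem F62696 : act 4 n14272 = n9831 := d31_1 D14272 (iv D9831) D9830
theorem F62697 : act 9 n14272 = n9846 := d41_2 (iv F44062) D14272 (iv D9846)
def n14273 : Q := act 8 n9830
theorem D14273 : act 8 n9830 = n14273 := rfl
theorem F62698 : act 0 n14273 = n14273 := d7_1 D14273 (iv D14273) F44059
theorem F62699 : act 2 n14273 = n14273 := d22_1 D14273 (iv D14273) F44060
theorem F62700 : act 4 n14273 = n9832 := d33_1 D14273 (iv D9832) D9830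
def n14274 : Q := act 7 n9831
theorem D14274 : act 7 n9831 = n14274 := rfl
theorem F62703 : act 3 n14274 = n9834 := d27_1 D14274 (iv D9834) (iv F44065)
theorem F62705 : act 9 n14274 = n9848 := d43_2 (iv F44067) D14274 (iv D9848)
def n14275 : Q := act 8 n9831
theorem D14275 : act 8 n9831 = n14275 := rfl
def n14276 : Q := act 9 n9832
theorem D14276 : act 9 n9832 = n14276 := rfl
theorem F62710 : act 0 n14276 = n14276 := d8_1 D14276 (iv D14276) F44068
theorem F62711 : act 2 n14276 = n14276 := d23_1 D14276 (iv D14276) F44069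
theorem F62712 : act 5 n14276 = n9833 := d38_1 D14276 (iv D9833) (iv F44070)
theorem F62713 : act 8 n14276 = n9850 := d44_1 D14276 (iv D9850) (iv D6793) (iv F31061) D9832
def n14277 : Q := act 1 n9835
theorem D14277 : act 1 n9835 = n14277 := rfl
theorem F62716 : act 3 n14277 = n10695 := d10_2 (iv F44081) D14277 (iv D10695)
def n14278 : Q := act 5 n9835
theorem D14278 : act 5 n9835 = n14278 := rfl
theorem F62718 : act 0 n14278 = n9839 := d4_1 D14278 (iv D9839) (iv F44080)
theorem F62719 : act 2 n14278 = n9836 := d19_1 D14278 (iv D9836) D9835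
theorem F62720 : act 3 n14278 = n10696 := d25_1 D14278 (iv D10696) (iv F44081)
def n14280 : Q := act 4 n9836
theorem D14280 : act 4 n9836 = n14280 := rfl
theorem F62724 : act 0 n14280 = n9841 := d3_1 D14280 (iv D9841) (iv F44083)
theorem F62725 : act 1 n14280 = n14280 := d11_1 D14280 (iv D14280) F44084
theorem F62726 : act 3 n14280 = n9915 := d24_1 D14280 (iv D9915) F31305 (iv F31082) (iv F44085)
def n14281 : Q := act 6 n9836
theorem D14281 : act 6 n9836 = n14281 := rfl
theorem F62727 : act 0 n14281 = n9842 := d5_1 D14281 (iv D9842) (iv F44083)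
theorem F62728 : act 1 n14281 = n14281 := d13_1 D14281 (iv D14281) F44084
theorem F62729 : act 3 n14281 = n9838 := d26_1 D14281 (iv D9838) (iv F44085)
theorem F62730 : act 5 n14281 = n14281 := d35_1 D14281 (iv D14281) (iv D9836) F31078 D9836
def n14282 : Q := act 8 n9836
theorem D14282 : act 8 n9836 = n14282 := rfl
theorem F62731 : act 0 n14282 = n9843 := d7_1 D14282 (iv D9843) (iv F44083)
def n14283 : Q := act 9 n9837
theorem D14283 : act 9 n9837 = n14283 := rfl
theorem F62735 : act 0 n14283 = n9844 := d8_1 D14283 (iv D9844) (iv F44086)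
def n14284 : Q := act 7 n9838
theorem D14284 : act 7 n9838 = n14284 := rfl
theorem F62739 : act 0 n14284 = n9845 := d6_1 D14284 (iv D9845) (iv F44090)
theorem F62740 : act 1 n14284 = n14284 := d14_1 D14284 (iv D14284) F44091
theorem F62742 : act 4 n14284 = n9919 := d32_1 D14284 (iv D9919) (iv F44093)
theorem F62743 : act 5 n14284 = n14284 := d36_1 D14284 (iv D14284) F44094
theorem F62744 : act 8 n14284 = n14284 := d42_2 F44095 D14284 (iv D14284)
def n14285 : Q := act 4 n9839
theorem D14285 : act 4 n9839 = n14285 := rfl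
theorem F62745 : act 1 n14285 = n14285 := d11_1 D14285 (iv D14285) F44096
theorem F62746 : act 2 n14285 = n9841 := d18_1 D14285 (iv D9841) (iv F44097)
def n14286 : Q := act 6 n9839
theorem D14286 : act 6 n9839 = n14286 := rfl
theorem F62747 : act 1 n14286 = n14286 := d13_1 D14286 (iv D14286) F44096
theorem F62748 : act 2 n14286 = n9842 := d20_1 D14286 (iv D9842) (iv F44097)
theorem F62749 : act 3 n14286 = n10704 := d26_1 D14286 (iv D10704) (iv F44098)
theorem F62750 : act 5 n14286 = n14286 := d35_1 D14286 (iv D14286) (iv D9839) F31086 D9839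
def n14287 : Q := act 8 n9839
theorem D14287 : act 8 n9839 = n14287 := rfl
theorem F62752 : act 2 n14287 = n9843 := d22_1 D14287 (iv D9843) (iv F44097)
def n14288 : Q := act 3 n9840
theorem D14288 : act 3 n9840 = n14288 := rfl
theorem F62757 : act 8 n14288 = n10706 := d28_2 D9840 D14288 (iv D10706) (iv D7379) (iv F31085)
def n14290 : Q := act 6 n9841
theorem D14290 : act 6 n9841 = n14290 := rfl
theorem F62761 : act 1 n14290 = n9846 := d13_1 D14290 (iv D9846) (iv F44102)
theorem F62762 : act 3 n14290 = n9925 := d26_1 D14290 (iv D9925) (iv F44103)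
theorem F62763 : act 4 n14290 = n9842 := d31_1 D14290 (iv D9842) D9841
def n14291 : Q := act 8 n9841
theorem D14291 : act 8 n9841 = n14291 := rfl
theorem F62764 : act 1 n14291 = n9847 := d15_1 D14291 (iv D9847) (iv F44102)
theorem F62765 : act 4 n14291 = n9843 := d33_1 D14291 (iv D9843) D9841
def n14292 : Q := act 7 n9842
theorem D14292 : act 7 n9842 = n14292 := rfl
theorem F62766 : act 1 n14292 = n9848 := d14_1 D14292 (iv D9848) (iv F44104)
theorem F62767 : act 3 n14292 = n9845 := d27_1 D14292 (iv D9845) (iv F44105)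
theorem F62768 : act 5 n14292 = n14292 := d36_1 D14292 (iv D14292) F44106
def n14293 : Q := act 8 n9842
theorem D14293 : act 8 n9842 = n14293 := rfl
theorem F62769 : act 1 n14293 = n9849 := d15_1 D14293 (iv D9849) (iv F44104)
theorem F62770 : act 3 n14293 = n14293 := d28_1 D14293 (iv D14293) F44105 F31096 (iv F44105)
theorem F62771 : act 5 n14293 = n14293 := d37_1 D14293 (iv D14293) F44106
theorem F62772 : act 6 n14293 = n9843 := d40_1 D14293 (iv D9843) D9842
def n14294 : Q := act 9 n9843
theorem D14294 : act 9 n9843 = n14294 := rfl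
theorem F62773 : act 1 n14294 = n9850 := d16_1 D14294 (iv D9850) (iv F44107)
theorem F62774 : act 3 n14294 = n14294 := d29_1 D14294 (iv D14294) F44108
theorem F62775 : act 5 n14294 = n9844 := d38_1 D14294 (iv D9844) (iv F44109)
def n14295 : Q := act 5 n9846
theorem D14295 : act 5 n9846 = n14295 := rfl
theorem F62776 : act 0 n14295 = n14295 := d4_1 D14295 (iv D14295) F44118
theorem F62777 : act 2 n14295 = n14295 := d19_1 D14295 (iv D14295) F44119
theorem F62778 : act 3 n14295 = n9930 := d25_1 D14295 (iv D9930) (iv F44120)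
theorem F62779 : act 4 n14295 = n14295 := d30_1 D14295 (iv D14295) F44121 F31103 (iv F44121)
def n14296 : Q := act 7 n9846
theorem D14296 : act 7 n9846 = n14296 := rfl
theorem F62780 : act 0 n14296 = n14296 := d6_1 D14296 (iv D14296) F44118
theorem F62781 : act 2 n14296 = n14296 := d21_1 D14296 (iv D14296) F44119
theorem F62782 : act 3 n14296 = n9931 := d27_1 D14296 (iv D9931) (iv F44120)
theorem F62783 : act 4 n14296 = n9848 := d32_1 D14296 (iv D9848) (iv F44121)
def n14297 : Q := act 8 n9846
theorem D14297 : act 8 n9846 = n14297 := rfl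
theorem F62784 : act 0 n14297 = n14297 := d7_1 D14297 (iv D14297) F44118
theorem F62785 : act 2 n14297 = n14297 := d22_1 D14297 (iv D14297) F44119
theorem F62786 : act 4 n14297 = n9849 := d33_1 D14297 (iv D9849) (iv F44121)
theorem F62787 : act 6 n14297 = n9847 := d40_1 D14297 (iv D9847) D9846
def n14298 : Q := act 3 n9847
theorem D14298 : act 3 n9847 = n14298 := rfl
theorem F62788 : act 0 n14298 = n14298 := d2_1 D14298 (iv D14298) F44122
theorem F62789 : act 4 n14298 = n14298 := d24_2 (iv F44124) D14298 (iv D14298) F44124 F31106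
theorem F62790 : act 8 n14298 = n9933 := d28_2 D9847 D14298 (iv D9933) (iv D6849) (iv F31099)
def n14299 : Q := act 9 n9847
theorem D14299 : act 9 n9847 = n14299 := rfl
theorem F62791 : act 0 n14299 = n14299 := d8_1 D14299 (iv D14299) F44122
theorem F62792 : act 2 n14299 = n14299 := d23_1 D14299 (iv D14299) F44123
theorem F62793 : act 4 n14299 = n9850 := d34_1 D14299 (iv D9850) (iv F44124)
def n14300 : Q := act 8 n9848
theorem D14300 : act 8 n9848 = n14300 := rfl
theorem F62794 : act 0 n14300 = n14300 := d7_1 D14300 (iv D14300) F44125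
theorem F62795 : act 2 n14300 = n14300 := d22_1 D14300 (iv D14300) F44126
theorem F62796 : act 3 n14300 = n14300 := d28_1 D14300 (iv D14300) F44127 F31116 (iv F44127)
theorem F62797 : act 5 n14300 = n14300 := d37_1 D14300 (iv D14300) F44128
theorem F62798 : act 7 n14300 = n9849 := d42_1 D14300 (iv D9849) D9848
def n14301 : Q := act 9 n9849
theorem D14301 : act 9 n9849 = n14301 := rfl
theorem F62799 : act 0 n14301 = n14301 := d8_1 D14301 (iv D14301) F44129
theorem F62800 : act 2 n14301 = n14301 := d23_1 D14301 (iv D14301) F44130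
theorem F62801 : act 3 n14301 = n14301 := d29_1 D14301 (iv D14301) F44131
theorem F62802 : act 5 n14301 = n14301 := d38_1 D14301 (iv D14301) F44132
theorem F62803 : act 6 n14301 = n9850 := d41_1 D14301 (iv D9850) (iv F44133)
def n14303 : Q := act 5 n9851
theorem D14303 : act 5 n9851 = n14303 := rfl
theorem F62813 : act 7 n14303 = n9886 := d36_2 (iv F44142) D14303 (iv D9886)
theorem F62814 : act 8 n14303 = n9859 := d37_2 (iv F44143) D14303 (iv D9859)
def n14305 : Q := act 5 n9852
theorem D14305 : act 5 n9852 = n14305 := rfl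
theorem F62822 : act 1 n14305 = n9854 := d12_1 D14305 (iv D9854) (iv F44145)
theorem F62823 : act 3 n14305 = n9853 := d25_1 D14305 (iv D9853) D9852
def n14306 : Q := act 8 n9852
theorem D14306 : act 8 n9852 = n14306 := rfl
theorem F62826 : act 1 n14306 = n9855 := d15_1 D14306 (iv D9855) (iv F44145)
theorem F62827 : act 3 n14306 = n9862 := d28_1 D14306 (iv D9862) (iv D6802) (iv F31128) D9852
def n14307 : Q := act 6 n9853
theorem D14307 : act 6 n9853 = n14307 := rfl
theorem F62831 : act 1 n14307 = n9856 := d13_1 D14307 (iv D9856) (iv F44150)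
theorem F62834 : act 8 n14307 = n9863 := d40_2 (iv F44153) D14307 (iv D9863)
def n14308 : Q := act 4 n9854
theorem D14308 : act 4 n9854 = n14308 := rfl
theorem F62839 : act 7 n14308 = n9891 := d32_2 (iv F44158) D14308 (iv D9891)
def n14309 : Q := act 6 n9854
theorem D14309 : act 6 n9854 = n14309 := rfl
def n14310 : Q := act 8 n9854
theorem D14310 : act 8 n9854 = n14310 := rfl
theorem F62846 : act 0 n14310 = n14310 := d7_1 D14310 (iv D14310) F44155
theorem F62847 : act 2 n14310 = n14310 := d22_1 D14310 (iv D14310) F44156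
theorem F62848 : act 3 n14310 = n9866 := d28_1 D14310 (iv D9866) F31163 (iv F31139) (iv F44157)
theorem F62849 : act 5 n14310 = n9855 := d37_1 D14310 (iv D9855) D9854
theorem F62850 : act 7 n14310 = n9893 := d42_1 D14310 (iv D9893) (iv F44158)
def n14311 : Q := act 9 n9855
theorem D14311 : act 9 n9855 = n14311 := rfl
theorem F62851 : act 0 n14311 = n14311 := d8_1 D14311 (iv D14311) F44160
theorem F62852 : act 2 n14311 = n14311 := d23_1 D14311 (iv D14311) F44161
theorem F62853 : act 3 n14311 = n9867 := d29_1 D14311 (iv D9867) (iv F44162)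
theorem F62854 : act 4 n14311 = n14311 := d34_1 D14311 (iv D14311) F44163
theorem F62855 : act 6 n14311 = n14311 := d41_1 D14311 (iv D14311) F44164
theorem F62856 : act 7 n14311 = n9894 := d43_1 D14311 (iv D9894) (iv F44165)
theorem F62857 : act 8 n14311 = n14311 := d44_1 D14311 (iv D14311) (iv D9855) F31135 D9855
def n14312 : Q := act 7 n9856
theorem D14312 : act 7 n9856 = n14312 := rfl
theorem F62861 : act 6 n14312 = n9895 := d39_1 D14312 (iv D9895) (iv D6824) (iv F31138) D9856
theorem F62862 : act 8 n14312 = n9868 := d42_2 (iv F44169) D14312 (iv D9868)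
def n14313 : Q := act 2 n9858
theorem D14313 : act 2 n9858 = n14313 := rfl
theorem F62864 : act 0 n14313 = n9860 := d1_1 D14313 (iv D9860) (iv F44178)
theorem F62865 : act 3 n14313 = n10738 := d17_2 D9858 D14313 (iv D10738) (iv D7402) (iv F31149)
theorem F62867 : act 7 n14313 = n9896 := d21_2 (iv F44181) D14313 (iv D9896)
theorem F62868 : act 9 n14313 = n9869 := d23_2 (iv F44182) D14313 (iv D9869)
def n14314 : Q := act 5 n9858
theorem D14314 : act 5 n9858 = n14314 := rfl
theorem F62869 : act 0 n14314 = n9861 := d4_1 D14314 (iv D9861) (iv F44178)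
theorem F62871 : act 3 n14314 = n9859 := d25_1 D14314 (iv D9859) D9858
theorem F62872 : act 7 n14314 = n9897 := d36_2 (iv F44181) D14314 (iv D9897)
theorem F62873 : act 9 n14314 = n9870 := d38_2 (iv F44182) D14314 (iv D9870)
def n14315 : Q := act 8 n9858
theorem D14315 : act 8 n9858 = n14315 := rfl
theorem F62874 : act 0 n14315 = n9862 := d7_1 D14315 (iv D9862) (iv F44178)
def n14316 : Q := act 6 n9859
theorem D14316 : act 6 n9859 = n14316 := rfl
theorem F62878 : act 0 n14316 = n9863 := d5_1 D14316 (iv D9863) (iv F44183)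
theorem F62882 : act 9 n14316 = n9872 := d41_2 (iv F44187) D14316 (iv D9872)
def n14317 : Q := act 5 n9860
theorem D14317 : act 5 n9860 = n14317 := rfl
theorem F62883 : act 1 n14317 = n10018 := d12_1 D14317 (iv D10018) (iv F44188)
theorem F62884 : act 2 n14317 = n9861 := d19_1 D14317 (iv D9861) D9860
theorem F62885 : act 3 n14317 = n10742 := d25_1 D14317 (iv D10742) (iv F44189)
theorem F62886 : act 7 n14317 = n9900 := d36_2 (iv F44191) D14317 (iv D9900)
theorem F62887 : act 9 n14317 = n9873 := d38_2 (iv F44192) D14317 (iv D9873)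
def n14318 : Q := act 8 n9860
theorem D14318 : act 8 n9860 = n14318 := rfl
theorem F62888 : act 1 n14318 = n10019 := d15_1 D14318 (iv D10019) (iv F44188)
theorem F62889 : act 2 n14318 = n9862 := d22_1 D14318 (iv D9862) D9860
theorem F62890 : act 6 n14318 = n14318 := d40_1 D14318 (iv D14318) F44190
theorem F62891 : act 7 n14318 = n9901 := d42_1 D14318 (iv D9901) (iv F44191)
def n14319 : Q := act 4 n9861
theorem D14319 : act 4 n9861 = n14319 := rfl
theorem F62892 : act 1 n14319 = n9864 := d11_1 D14319 (iv D9864) (iv F44193)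
theorem F62893 : act 7 n14319 = n9902 := d32_2 (iv F44195) D14319 (iv D9902)
theorem F62894 : act 9 n14319 = n9875 := d34_2 (iv F44196) D14319 (iv D9875)
def n14320 : Q := act 6 n9861
theorem D14320 : act 6 n9861 = n14320 := rfl
theorem F62895 : act 1 n14320 = n9865 := d13_1 D14320 (iv D9865) (iv F44193)
theorem F62896 : act 3 n14320 = n9863 := d26_1 D14320 (iv D9863) (iv F44194)
theorem F62897 : act 5 n14320 = n14320 := d35_1 D14320 (iv D14320) (iv D9861) F31154 D9861
theorem F62898 : act 9 n14320 = n9876 := d41_2 (iv F44196) D14320 (iv D9876)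
def n14321 : Q := act 8 n9861
theorem D14321 : act 8 n9861 = n14321 := rfl
theorem F62899 : act 1 n14321 = n9866 := d15_1 D14321 (iv D9866) (iv F44193)
theorem F62900 : act 5 n14321 = n9862 := d37_1 D14321 (iv D9862) D9861
theorem F62901 : act 7 n14321 = n9904 := d42_1 D14321 (iv D9904) (iv F44195)
def n14322 : Q := act 9 n9862
theorem D14322 : act 9 n9862 = n14322 := rfl
theorem F62902 : act 1 n14322 = n9867 := d16_1 D14322 (iv D9867) (iv F44197)
theorem F62903 : act 6 n14322 = n14322 := d41_1 D14322 (iv D14322) F44198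
theorem F62904 : act 7 n14322 = n9905 := d43_1 D14322 (iv D9905) (iv F44199)
theorem F62905 : act 8 n14322 = n9878 := d44_1 D14322 (iv D9878) (iv D6812) (iv F31156) D9862
def n14323 : Q := act 7 n9863
theorem D14323 : act 7 n9863 = n14323 := rfl
theorem F62906 : act 1 n14323 = n9868 := d14_1 D14323 (iv D9868) (iv F44200)
theorem F62908 : act 5 n14323 = n14323 := d36_1 D14323 (iv D14323) F44202
theorem F62909 : act 6 n14323 = n9906 := d39_1 D14323 (iv D9906) (iv D6831) (iv F31159) D9863
theorem F62910 : act 9 n14323 = n9879 := d43_2 (iv F44203) D14323 (iv D9879)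
def n14324 : Q := act 6 n9864
theorem D14324 : act 6 n9864 = n14324 := rfl
theorem F62911 : act 0 n14324 = n14324 := d5_1 D14324 (iv D14324) F44204
theorem F62912 : act 2 n14324 = n10025 := d20_1 D14324 (iv D10025) (iv F44205)
theorem F62913 : act 4 n14324 = n9865 := d31_1 D14324 (iv D9865) D9864
theorem F62914 : act 9 n14324 = n9880 := d41_2 (iv F44207) D14324 (iv D9880)
def n14325 : Q := act 8 n9864
theorem D14325 : act 8 n9864 = n14325 := rfl
theorem F62915 : act 0 n14325 = n14325 := d7_1 D14325 (iv D14325) F44204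
theorem F62916 : act 2 n14325 = n10026 := d22_1 D14325 (iv D10026) (iv F44205)
theorem F62917 : act 4 n14325 = n9866 := d33_1 D14325 (iv D9866) D9864
theorem F62918 : act 7 n14325 = n9908 := d42_1 D14325 (iv D9908) (iv F44206)
def n14326 : Q := act 7 n9865
theorem D14326 : act 7 n9865 = n14326 := rfl
theorem F62919 : act 0 n14326 = n14326 := d6_1 D14326 (iv D14326) F44208
theorem F62920 : act 2 n14326 = n10027 := d21_1 D14326 (iv D10027) (iv F44209)
theorem F62921 : act 3 n14326 = n9868 := d27_1 D14326 (iv D9868) (iv F44210)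
theorem F62922 : act 5 n14326 = n14326 := d36_1 D14326 (iv D14326) F44211
theorem F62923 : act 6 n14326 = n9909 := d39_1 D14326 (iv D9909) (iv D6833) (iv F31164) D9865
theorem F62924 : act 9 n14326 = n9882 := d43_2 (iv F44212) D14326 (iv D9882)
def n14327 : Q := act 8 n9865
theorem D14327 : act 8 n9865 = n14327 := rfl
theorem F62925 : act 0 n14327 = n14327 := d7_1 D14327 (iv D14327) F44208
theorem F62926 : act 2 n14327 = n10028 := d22_1 D14327 (iv D10028) (iv F44209)
theorem F62927 : act 5 n14327 = n14327 := d37_1 D14327 (iv D14327) F44211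
theorem F62928 : act 6 n14327 = n9866 := d40_1 D14327 (iv D9866) D9865
def n14328 : Q := act 9 n9866
theorem D14328 : act 9 n9866 = n14328 := rfl
theorem F62929 : act 0 n14328 = n14328 := d8_1 D14328 (iv D14328) F44213
theorem F62930 : act 2 n14328 = n10029 := d23_1 D14328 (iv D10029) (iv F44214)
theorem F62931 : act 5 n14328 = n9867 := d38_1 D14328 (iv D9867) (iv F44215)
theorem F62932 : act 7 n14328 = n9911 := d43_1 D14328 (iv D9911) (iv F44216)
theorem F62933 : act 8 n14328 = n9884 := d44_1 D14328 (iv D9884) (iv D6816) (iv F31165) D9866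
def n14329 : Q := act 1 n9869
theorem D14329 : act 1 n9869 = n14329 := rfl
theorem F62934 : act 0 n14329 = n10030 := d0_1 D14329 (iv D10030) F31625 (iv F31189) (iv F44227)
theorem F62935 : act 2 n14329 = n14329 := d9_2 D9869 D14329 (iv D14329) (iv D9869) F31181
theorem F62936 : act 3 n14329 = n10754 := d10_2 (iv F44228) D14329 (iv D10754)
theorem F62937 : act 6 n14329 = n14329 := d13_2 F44229 D14329 (iv D14329)
theorem F62938 : act 7 n14329 = n9912 := d14_2 (iv F44230) D14329 (iv D9912)
def n14330 : Q := act 5 n9869
theorem D14330 : act 5 n9869 = n14330 := rfl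
theorem F62939 : act 0 n14330 = n9873 := d4_1 D14330 (iv D9873) (iv F44227)
theorem F62940 : act 2 n14330 = n9870 := d19_1 D14330 (iv D9870) D9869
theorem F62941 : act 3 n14330 = n10755 := d25_1 D14330 (iv D10755) (iv F44228)
theorem F62942 : act 7 n14330 = n9913 := d36_2 (iv F44230) D14330 (iv D9913)
def n14331 : Q := act 8 n9869
theorem D14331 : act 8 n9869 = n14331 := rfl
theorem F62943 : act 0 n14331 = n9874 := d7_1 D14331 (iv D9874) (iv F44227)
theorem F62944 : act 2 n14331 = n9871 := d22_1 D14331 (iv D9871) D9869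
theorem F62945 : act 6 n14331 = n14331 := d40_1 D14331 (iv D14331) F44229
theorem F62946 : act 7 n14331 = n9914 := d42_1 D14331 (iv D9914) (iv F44230)
def n14332 : Q := act 4 n9870
theorem D14332 : act 4 n9870 = n14332 := rfl
theorem F62947 : act 0 n14332 = n9875 := d3_1 D14332 (iv D9875) (iv F44231)
theorem F62948 : act 1 n14332 = n14332 := d11_1 D14332 (iv D14332) F44232
theorem F62949 : act 7 n14332 = n9915 := d32_2 (iv F44234) D14332 (iv D9915)
def n14333 : Q := act 6 n9870
theorem D14333 : act 6 n9870 = n14333 := rfl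
theorem F62950 : act 0 n14333 = n9876 := d5_1 D14333 (iv D9876) (iv F44231)
theorem F62951 : act 1 n14333 = n14333 := d13_1 D14333 (iv D14333) F44232
theorem F62952 : act 3 n14333 = n9872 := d26_1 D14333 (iv D9872) (iv F44233)
theorem F62953 : act 5 n14333 = n14333 := d35_1 D14333 (iv D14333) (iv D9870) F31182 D9870
def n14334 : Q := act 8 n9870
theorem D14334 : act 8 n9870 = n14334 := rfl
theorem F62954 : act 0 n14334 = n9877 := d7_1 D14334 (iv D9877) (iv F44231)
theorem F62955 : act 1 n14334 = n14334 := d15_1 D14334 (iv D14334) F44232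
theorem F62956 : act 3 n14334 = n14334 := d28_1 D14334 (iv D14334) F44233 F31188 (iv F44233)
theorem F62957 : act 5 n14334 = n9871 := d37_1 D14334 (iv D9871) D9870
theorem F62958 : act 7 n14334 = n9917 := d42_1 D14334 (iv D9917) (iv F44234)
def n14335 : Q := act 9 n9871
theorem D14335 : act 9 n9871 = n14335 := rfl
theorem F62959 : act 0 n14335 = n9878 := d8_1 D14335 (iv D9878) (iv F44235)
theorem F62960 : act 1 n14335 = n14335 := d16_1 D14335 (iv D14335) F44236
theorem F62961 : act 3 n14335 = n14335 := d29_1 D14335 (iv D14335) F44237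
theorem F62962 : act 6 n14335 = n14335 := d41_1 D14335 (iv D14335) F44238
theorem F62963 : act 7 n14335 = n9918 := d43_1 D14335 (iv D9918) (iv F44239)
def n14336 : Q := act 7 n9872
theorem D14336 : act 7 n9872 = n14336 := rfl
theorem F62964 : act 0 n14336 = n9879 := d6_1 D14336 (iv D9879) (iv F44240)
theorem F62965 : act 1 n14336 = n14336 := d14_1 D14336 (iv D14336) F44241
theorem F62967 : act 5 n14336 = n14336 := d36_1 D14336 (iv D14336) F44243
theorem F62968 : act 6 n14336 = n9919 := d39_1 D14336 (iv D9919) (iv D6840) (iv F31187) D9872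
theorem F62969 : act 8 n14336 = n14336 := d42_2 F44244 D14336 (iv D14336)
def n14337 : Q := act 4 n9873
theorem D14337 : act 4 n9873 = n14337 := rfl
theorem F62970 : act 1 n14337 = n10038 := d11_1 D14337 (iv D10038) (iv F44245)
theorem F62971 : act 2 n14337 = n9875 := d18_1 D14337 (iv D9875) (iv F44246)
theorem F62972 : act 7 n14337 = n9920 := d32_2 (iv F44248) D14337 (iv D9920)
def n14338 : Q := act 6 n9873
theorem D14338 : act 6 n9873 = n14338 := rfl
theorem F62973 : act 1 n14338 = n10039 := d13_1 D14338 (iv D10039) (iv F44245)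
theorem F62974 : act 2 n14338 = n9876 := d20_1 D14338 (iv D9876) (iv F44246)
theorem F62975 : act 3 n14338 = n10763 := d26_1 D14338 (iv D10763) (iv F44247)
theorem F62976 : act 5 n14338 = n14338 := d35_1 D14338 (iv D14338) (iv D9873) F31191 D9873
def n14339 : Q := act 8 n9873
theorem D14339 : act 8 n9873 = n14339 := rfl
theorem F62977 : act 1 n14339 = n10040 := d15_1 D14339 (iv D10040) (iv F44245)
theorem F62978 : act 2 n14339 = n9877 := d22_1 D14339 (iv D9877) (iv F44246)
theorem F62979 : act 5 n14339 = n9874 := d37_1 D14339 (iv D9874) D9873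
theorem F62980 : act 7 n14339 = n9922 := d42_1 D14339 (iv D9922) (iv F44248)
def n14340 : Q := act 3 n9874
theorem D14340 : act 3 n9874 = n14340 := rfl
theorem F62981 : act 1 n14340 = n10041 := d10_1 D14340 (iv D10041) (iv F44249)
theorem F62982 : act 2 n14340 = n14340 := d17_1 D14340 (iv D14340) F44250 F31197 (iv F44250)
theorem F62983 : act 6 n14340 = n14340 := d26_2 F44251 D14340 (iv D14340)
theorem F62984 : act 7 n14340 = n9923 := d27_2 (iv F44252) D14340 (iv D9923)
theorem F62985 : act 8 n14340 = n10765 := d28_2 D9874 D14340 (iv D10765) (iv D7418) (iv F31190)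
def n14341 : Q := act 9 n9874
theorem D14341 : act 9 n9874 = n14341 := rfl
theorem F62986 : act 1 n14341 = n10042 := d16_1 D14341 (iv D10042) (iv F44249)
theorem F62987 : act 2 n14341 = n9878 := d23_1 D14341 (iv D9878) (iv F44250)
theorem F62988 : act 6 n14341 = n14341 := d41_1 D14341 (iv D14341) F44251
theorem F62989 : act 7 n14341 = n9924 := d43_1 D14341 (iv D9924) (iv F44252)
def n14342 : Q := act 6 n9875
theorem D14342 : act 6 n9875 = n14342 := rfl
theorem F62990 : act 1 n14342 = n9880 := d13_1 D14342 (iv D9880) (iv F44253)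
theorem F62991 : act 4 n14342 = n9876 := d31_1 D14342 (iv D9876) D9875
def n14343 : Q := act 8 n9875
theorem D14343 : act 8 n9875 = n14343 := rfl
theorem F62992 : act 1 n14343 = n9881 := d15_1 D14343 (iv D9881) (iv F44253)
theorem F62993 : act 4 n14343 = n9877 := d33_1 D14343 (iv D9877) D9875
theorem F62994 : act 7 n14343 = n9926 := d42_1 D14343 (iv D9926) (iv F44254)
def n14344 : Q := act 7 n9876
theorem D14344 : act 7 n9876 = n14344 := rfl
theorem F62995 : act 1 n14344 = n9882 := d14_1 D14344 (iv D9882) (iv F44255)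
theorem F62996 : act 3 n14344 = n9879 := d27_1 D14344 (iv D9879) (iv F44256)
theorem F62997 : act 5 n14344 = n14344 := d36_1 D14344 (iv D14344) F44257
theorem F62998 : act 6 n14344 = n9927 := d39_1 D14344 (iv D9927) (iv D6844) (iv F31195) D9876
def n14345 : Q := act 8 n9876
theorem D14345 : act 8 n9876 = n14345 := rfl
theorem F62999 : act 1 n14345 = n9883 := d15_1 D14345 (iv D9883) (iv F44255)
theorem F63000 : act 3 n14345 = n14345 := d28_1 D14345 (iv D14345) F44256 F31203 (iv F44256)
theorem F63001 : act 5 n14345 = n14345 := d37_1 D14345 (iv D14345) F44257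
theorem F63002 : act 6 n14345 = n9877 := d40_1 D14345 (iv D9877) D9876
def n14346 : Q := act 9 n9877
theorem D14346 : act 9 n9877 = n14346 := rfl
theorem F63003 : act 1 n14346 = n9884 := d16_1 D14346 (iv D9884) (iv F44258)
theorem F63004 : act 3 n14346 = n14346 := d29_1 D14346 (iv D14346) F44259
theorem F63005 : act 5 n14346 = n9878 := d38_1 D14346 (iv D9878) (iv F44260)
theorem F63006 : act 7 n14346 = n9929 := d43_1 D14346 (iv D9929) (iv F44261)
def n14347 : Q := act 5 n9880
theorem D14347 : act 5 n9880 = n14347 := rfl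
theorem F63007 : act 0 n14347 = n14347 := d4_1 D14347 (iv D14347) F44271
theorem F63008 : act 2 n14347 = n10048 := d19_1 D14347 (iv D10048) (iv F44272)
theorem F63009 : act 4 n14347 = n14347 := d30_1 D14347 (iv D14347) F44273 F31210 (iv F44273)
def n14348 : Q := act 7 n9880
theorem D14348 : act 7 n9880 = n14348 := rfl
theorem F63010 : act 0 n14348 = n14348 := d6_1 D14348 (iv D14348) F44271
theorem F63011 : act 2 n14348 = n10049 := d21_1 D14348 (iv D10049) (iv F44272)
theorem F63012 : act 4 n14348 = n9882 := d32_1 D14348 (iv D9882) (iv F44273)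
theorem F63013 : act 6 n14348 = n9931 := d39_1 D14348 (iv D9931) (iv D6848) (iv F31206) D9880
def n14349 : Q := act 8 n9880
theorem D14349 : act 8 n9880 = n14349 := rfl
theorem F63014 : act 0 n14349 = n14349 := d7_1 D14349 (iv D14349) F44271
theorem F63015 : act 2 n14349 = n10050 := d22_1 D14349 (iv D10050) (iv F44272)
theorem F63016 : act 4 n14349 = n9883 := d33_1 D14349 (iv D9883) (iv F44273)
theorem F63017 : act 6 n14349 = n9881 := d40_1 D14349 (iv D9881) D9880
def n14350 : Q := act 3 n9881
theorem D14350 : act 3 n9881 = n14350 := rfl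
theorem F63018 : act 0 n14350 = n14350 := d2_1 D14350 (iv D14350) F44274
theorem F63019 : act 4 n14350 = n14350 := d24_2 (iv F44276) D14350 (iv D14350) F44276 F31213
theorem F63020 : act 7 n14350 = n9933 := d27_2 (iv F44277) D14350 (iv D9933)
def n14351 : Q := act 9 n9881
theorem D14351 : act 9 n9881 = n14351 := rfl
theorem F63021 : act 0 n14351 = n14351 := d8_1 D14351 (iv D14351) F44274
theorem F63022 : act 2 n14351 = n10052 := d23_1 D14351 (iv D10052) (iv F44275)
theorem F63023 : act 4 n14351 = n9884 := d34_1 D14351 (iv D9884) (iv F44276)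
theorem F63024 : act 7 n14351 = n9934 := d43_1 D14351 (iv D9934) (iv F44277)
def n14352 : Q := act 8 n9882
theorem D14352 : act 8 n9882 = n14352 := rfl
theorem F63025 : act 0 n14352 = n14352 := d7_1 D14352 (iv D14352) F44278
theorem F63026 : act 2 n14352 = n10053 := d22_1 D14352 (iv D10053) (iv F44279)
theorem F63027 : act 3 n14352 = n14352 := d28_1 D14352 (iv D14352) F44280 F31225 (iv F44280)
theorem F63028 : act 5 n14352 = n14352 := d37_1 D14352 (iv D14352) F44281
theorem F63029 : act 6 n14352 = n9935 := d40_1 D14352 (iv D9935) (iv F44282)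
theorem F63030 : act 7 n14352 = n9883 := d42_1 D14352 (iv D9883) D9882
def n14353 : Q := act 9 n9883
theorem D14353 : act 9 n9883 = n14353 := rfl
theorem F63031 : act 0 n14353 = n14353 := d8_1 D14353 (iv D14353) F44283
theorem F63032 : act 2 n14353 = n10054 := d23_1 D14353 (iv D10054) (iv F44284)
theorem F63033 : act 3 n14353 = n14353 := d29_1 D14353 (iv D14353) F44285
theorem F63034 : act 5 n14353 = n14353 := d38_1 D14353 (iv D14353) F44286
theorem F63035 : act 6 n14353 = n9884 := d41_1 D14353 (iv D9884) (iv F44287)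
def n14357 : Q := act 6 n9886
theorem D14357 : act 6 n9886 = n14357 := rfl
theorem F63053 : act 5 n14357 = n9940 := d35_1 D14357 (iv D9940) (iv D6854) (iv F31229) D9886
theorem F63054 : act 8 n14357 = n9899 := d40_2 (iv F44301) D14357 (iv D9899)
def n14360 : Q := act 4 n9888
theorem D14360 : act 4 n9888 = n14360 := rfl
theorem F63064 : act 1 n14360 = n9891 := d11_1 D14360 (iv D9891) (iv F44308)
def n14361 : Q := act 6 n9888
theorem D14361 : act 6 n9888 = n14361 := rfl
theorem F63067 : act 1 n14361 = n9892 := d13_1 D14361 (iv D9892) (iv F44308)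
theorem F63068 : act 3 n14361 = n9890 := d26_1 D14361 (iv D9890) (iv F44309)
def n14362 : Q := act 8 n9888
theorem D14362 : act 8 n9888 = n14362 := rfl
theorem F63071 : act 1 n14362 = n9893 := d15_1 D14362 (iv D9893) (iv F44308)
theorem F63072 : act 3 n14362 = n9904 := d28_1 D14362 (iv D9904) F31273 (iv F31238) (iv F44309)
def n14363 : Q := act 9 n9889
theorem D14363 : act 9 n9889 = n14363 := rfl
theorem F63074 : act 1 n14363 = n9894 := d16_1 D14363 (iv D9894) (iv F44311)
theorem F63075 : act 3 n14363 = n9905 := d29_1 D14363 (iv D9905) (iv F44312)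
def n14364 : Q := act 7 n9890
theorem D14364 : act 7 n9890 = n14364 := rfl
theorem F63082 : act 8 n14364 = n9906 := d42_2 (iv F44318) D14364 (iv D9906)
def n14365 : Q := act 6 n9891
theorem D14365 : act 6 n9891 = n14365 := rfl
theorem F63086 : act 4 n14365 = n9892 := d31_1 D14365 (iv D9892) D9891
def n14366 : Q := act 8 n9891
theorem D14366 : act 8 n9891 = n14366 := rfl
theorem F63088 : act 0 n14366 = n14366 := d7_1 D14366 (iv D14366) F44320
theorem F63089 : act 2 n14366 = n14366 := d22_1 D14366 (iv D14366) F44321
theorem F63090 : act 4 n14366 = n9893 := d33_1 D14366 (iv D9893) D9891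
theorem F63091 : act 5 n14366 = n14366 := d37_1 D14366 (iv D14366) F44322
def n14367 : Q := act 7 n9892
theorem D14367 : act 7 n9892 = n14367 := rfl
theorem F63094 : act 3 n14367 = n9895 := d27_1 D14367 (iv D9895) (iv F44326)
theorem F63095 : act 5 n14367 = n9950 := d36_1 D14367 (iv D9950) (iv F44327)
def n14368 : Q := act 8 n9892
theorem D14368 : act 8 n9892 = n14368 := rfl
theorem F63097 : act 0 n14368 = n14368 := d7_1 D14368 (iv D14368) F44324
theorem F63098 : act 2 n14368 = n14368 := d22_1 D14368 (iv D14368) F44325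
theorem F63099 : act 3 n14368 = n9910 := d28_1 D14368 (iv D9910) F31286 (iv F31252) (iv F44326)
theorem F63100 : act 5 n14368 = n9951 := d37_1 D14368 (iv D9951) (iv F44327)
theorem F63101 : act 6 n14368 = n9893 := d40_1 D14368 (iv D9893) D9892
def n14369 : Q := act 9 n9893
theorem D14369 : act 9 n9893 = n14369 := rfl
theorem F63102 : act 0 n14369 = n14369 := d8_1 D14369 (iv D14369) F44329
theorem F63103 : act 2 n14369 = n14369 := d23_1 D14369 (iv D14369) F44330
theorem F63104 : act 3 n14369 = n9911 := d29_1 D14369 (iv D9911) (iv F44331)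
theorem F63105 : act 5 n14369 = n9894 := d38_1 D14369 (iv D9894) (iv F44332)
theorem F63106 : act 8 n14369 = n14369 := d44_1 D14369 (iv D14369) (iv D9893) F31243 D9893
def n14370 : Q := act 1 n9896
theorem D14370 : act 1 n9896 = n14370 := rfl
theorem F63107 : act 0 n14370 = n10055 := d0_1 D14370 (iv D10055) F31688 (iv F31268) (iv F44344)
theorem F63109 : act 3 n14370 = n10806 := d10_2 (iv F44345) D14370 (iv D10806)
theorem F63110 : act 6 n14370 = n9953 := d13_2 (iv F44346) D14370 (iv D9953)
theorem F63111 : act 9 n14370 = n9912 := d16_2 (iv F44347) D14370 (iv D9912)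
def n14371 : Q := act 5 n9896
theorem D14371 : act 5 n9896 = n14371 := rfl
theorem F63112 : act 0 n14371 = n9900 := d4_1 D14371 (iv D9900) (iv F44344)
theorem F63113 : act 2 n14371 = n9897 := d19_1 D14371 (iv D9897) D9896
theorem F63114 : act 3 n14371 = n10807 := d25_1 D14371 (iv D10807) (iv F44345)
theorem F63115 : act 9 n14371 = n9913 := d38_2 (iv F44347) D14371 (iv D9913)
def n14372 : Q := act 8 n9896
theorem D14372 : act 8 n9896 = n14372 := rfl
theorem F63116 : act 0 n14372 = n9901 := d7_1 D14372 (iv D9901) (iv F44344)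
theorem F63117 : act 2 n14372 = n9898 := d22_1 D14372 (iv D9898) D9896
def n14373 : Q := act 4 n9897
theorem D14373 : act 4 n9897 = n14373 := rfl
theorem F63119 : act 0 n14373 = n9902 := d3_1 D14373 (iv D9902) (iv F44348)
theorem F63121 : act 9 n14373 = n9915 := d34_2 (iv F44351) D14373 (iv D9915)
def n14374 : Q := act 6 n9897
theorem D14374 : act 6 n9897 = n14374 := rfl
theorem F63122 : act 0 n14374 = n9903 := d5_1 D14374 (iv D9903) (iv F44348)
theorem F63124 : act 3 n14374 = n9899 := d26_1 D14374 (iv D9899) (iv F44350)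
theorem F63125 : act 5 n14374 = n9957 := d35_1 D14374 (iv D9957) (iv D6865) (iv F31262) D9897
theorem F63126 : act 9 n14374 = n9916 := d41_2 (iv F44351) D14374 (iv D9916)
def n14375 : Q := act 8 n9897
theorem D14375 : act 8 n9897 = n14375 := rfl
theorem F63127 : act 0 n14375 = n9904 := d7_1 D14375 (iv D9904) (iv F44348)
def n14376 : Q := act 9 n9898
theorem D14376 : act 9 n9898 = n14376 := rfl
theorem F63130 : act 0 n14376 = n9905 := d8_1 D14376 (iv D9905) (iv F44352)
theorem F63133 : act 8 n14376 = n9918 := d44_1 D14376 (iv D9918) (iv D6839) (iv F31263) D9898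
def n14377 : Q := act 7 n9899
theorem D14377 : act 7 n9899 = n14377 := rfl
theorem F63134 : act 0 n14377 = n9906 := d6_1 D14377 (iv D9906) (iv F44355)
theorem F63138 : act 9 n14377 = n9919 := d43_2 (iv F44359) D14377 (iv D9919)
def n14378 : Q := act 4 n9900
theorem D14378 : act 4 n9900 = n14378 := rfl
theorem F63139 : act 1 n14378 = n10063 := d11_1 D14378 (iv D10063) (iv F44360)
theorem F63140 : act 2 n14378 = n9902 := d18_1 D14378 (iv D9902) (iv F44361)
theorem F63141 : act 9 n14378 = n9920 := d34_2 (iv F44363) D14378 (iv D9920)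
def n14379 : Q := act 6 n9900
theorem D14379 : act 6 n9900 = n14379 := rfl
theorem F63142 : act 1 n14379 = n10064 := d13_1 D14379 (iv D10064) (iv F44360)
theorem F63143 : act 2 n14379 = n9903 := d20_1 D14379 (iv D9903) (iv F44361)
theorem F63144 : act 3 n14379 = n10815 := d26_1 D14379 (iv D10815) (iv F44362)
theorem F63145 : act 5 n14379 = n9962 := d35_1 D14379 (iv D9962) (iv D6868) (iv F31270) D9900
theorem F63146 : act 9 n14379 = n9921 := d41_2 (iv F44363) D14379 (iv D9921)
def n14380 : Q := act 8 n9900
theorem D14380 : act 8 n9900 = n14380 := rfl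
theorem F63147 : act 1 n14380 = n10065 := d15_1 D14380 (iv D10065) (iv F44360)
theorem F63148 : act 2 n14380 = n9904 := d22_1 D14380 (iv D9904) (iv F44361)
theorem F63149 : act 5 n14380 = n9901 := d37_1 D14380 (iv D9901) D9900
def n14381 : Q := act 3 n9901
theorem D14381 : act 3 n9901 = n14381 := rfl
theorem F63150 : act 1 n14381 = n10066 := d10_1 D14381 (iv D10066) (iv F44364)
theorem F63152 : act 8 n14381 = n10817 := d28_2 D9901 D14381 (iv D10817) (iv D7452) (iv F31269)
def n14382 : Q := act 9 n9901
theorem D14382 : act 9 n9901 = n14382 := rfl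
theorem F63153 : act 1 n14382 = n10067 := d16_1 D14382 (iv D10067) (iv F44364)
theorem F63154 : act 2 n14382 = n9905 := d23_1 D14382 (iv D9905) (iv F44365)
theorem F63155 : act 6 n14382 = n9965 := d41_1 D14382 (iv D9965) (iv F44366)
theorem F63156 : act 8 n14382 = n9924 := d44_1 D14382 (iv D9924) (iv D6842) (iv F31271) D9901
def n14383 : Q := act 6 n9902
theorem D14383 : act 6 n9902 = n14383 := rfl
theorem F63157 : act 1 n14383 = n9907 := d13_1 D14383 (iv D9907) (iv F44367)
theorem F63158 : act 4 n14383 = n9903 := d31_1 D14383 (iv D9903) D9902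
theorem F63159 : act 9 n14383 = n9925 := d41_2 (iv F44368) D14383 (iv D9925)
def n14384 : Q := act 8 n9902
theorem D14384 : act 8 n9902 = n14384 := rfl
theorem F63160 : act 1 n14384 = n9908 := d15_1 D14384 (iv D9908) (iv F44367)
theorem F63161 : act 4 n14384 = n9904 := d33_1 D14384 (iv D9904) D9902
def n14385 : Q := act 7 n9903
theorem D14385 : act 7 n9903 = n14385 := rfl
theorem F63162 : act 1 n14385 = n9909 := d14_1 D14385 (iv D9909) (iv F44369)
theorem F63163 : act 3 n14385 = n9906 := d27_1 D14385 (iv D9906) (iv F44370)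
theorem F63164 : act 5 n14385 = n9968 := d36_1 D14385 (iv D9968) (iv F44371)
theorem F63165 : act 9 n14385 = n9927 := d43_2 (iv F44372) D14385 (iv D9927)
def n14386 : Q := act 8 n9903
theorem D14386 : act 8 n9903 = n14386 := rfl
theorem F63166 : act 1 n14386 = n9910 := d15_1 D14386 (iv D9910) (iv F44369)
theorem F63167 : act 5 n14386 = n9969 := d37_1 D14386 (iv D9969) (iv F44371)
theorem F63168 : act 6 n14386 = n9904 := d40_1 D14386 (iv D9904) D9903
def n14387 : Q := act 9 n9904
theorem D14387 : act 9 n9904 = n14387 := rfl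
theorem F63169 : act 1 n14387 = n9911 := d16_1 D14387 (iv D9911) (iv F44373)
theorem F63170 : act 5 n14387 = n9905 := d38_1 D14387 (iv D9905) (iv F44374)
theorem F63171 : act 8 n14387 = n9929 := d44_1 D14387 (iv D9929) (iv D6845) (iv F31274) D9904
def n14388 : Q := act 5 n9907
theorem D14388 : act 5 n9907 = n14388 := rfl
theorem F63172 : act 0 n14388 = n14388 := d4_1 D14388 (iv D14388) F44382
theorem F63173 : act 2 n14388 = n10073 := d19_1 D14388 (iv D10073) (iv F44383)
theorem F63174 : act 4 n14388 = n9971 := d30_1 D14388 (iv D9971) F31457 (iv F31287) (iv F44384)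
theorem F63175 : act 9 n14388 = n9930 := d38_2 (iv F44385) D14388 (iv D9930)
def n14389 : Q := act 7 n9907
theorem D14389 : act 7 n9907 = n14389 := rfl
theorem F63176 : act 0 n14389 = n14389 := d6_1 D14389 (iv D14389) F44382
theorem F63177 : act 2 n14389 = n10074 := d21_1 D14389 (iv D10074) (iv F44383)
theorem F63178 : act 4 n14389 = n9909 := d32_1 D14389 (iv D9909) (iv F44384)
theorem F63179 : act 9 n14389 = n9931 := d43_2 (iv F44385) D14389 (iv D9931)
def n14390 : Q := act 8 n9907
theorem D14390 : act 8 n9907 = n14390 := rfl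
theorem F63180 : act 0 n14390 = n14390 := d7_1 D14390 (iv D14390) F44382
theorem F63181 : act 2 n14390 = n10075 := d22_1 D14390 (iv D10075) (iv F44383)
theorem F63182 : act 4 n14390 = n9910 := d33_1 D14390 (iv D9910) (iv F44384)
theorem F63183 : act 6 n14390 = n9908 := d40_1 D14390 (iv D9908) D9907
def n14391 : Q := act 3 n9908
theorem D14391 : act 3 n9908 = n14391 := rfl
theorem F63184 : act 0 n14391 = n14391 := d2_1 D14391 (iv D14391) F44386
def n14392 : Q := act 9 n9908
theorem D14392 : act 9 n9908 = n14392 := rfl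
theorem F63185 : act 0 n14392 = n14392 := d8_1 D14392 (iv D14392) F44386
theorem F63186 : act 2 n14392 = n10077 := d23_1 D14392 (iv D10077) (iv F44387)
theorem F63187 : act 4 n14392 = n9911 := d34_1 D14392 (iv D9911) (iv F44388)
theorem F63188 : act 8 n14392 = n9934 := d44_1 D14392 (iv D9934) (iv D6849) (iv F31283) D9908
def n14393 : Q := act 8 n9909
theorem D14393 : act 8 n9909 = n14393 := rfl
theorem F63189 : act 0 n14393 = n14393 := d7_1 D14393 (iv D14393) F44389
theorem F63190 : act 2 n14393 = n10078 := d22_1 D14393 (iv D10078) (iv F44390)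
theorem F63191 : act 5 n14393 = n9976 := d37_1 D14393 (iv D9976) (iv F44392)
theorem F63192 : act 7 n14393 = n9910 := d42_1 D14393 (iv D9910) D9909
def n14394 : Q := act 9 n9910
theorem D14394 : act 9 n9910 = n14394 := rfl
theorem F63193 : act 0 n14394 = n14394 := d8_1 D14394 (iv D14394) F44394
theorem F63194 : act 2 n14394 = n10079 := d23_1 D14394 (iv D10079) (iv F44395)
theorem F63195 : act 5 n14394 = n9977 := d38_1 D14394 (iv D9977) (iv F44396)
theorem F63196 : act 6 n14394 = n9911 := d41_1 D14394 (iv D9911) (iv F44397)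
theorem F63197 : act 8 n14394 = n9936 := d44_1 D14394 (iv D9936) (iv D6851) (iv F31288) D9910
def n14395 : Q := act 5 n9912
theorem D14395 : act 5 n9912 = n14395 := rfl
theorem F63198 : act 0 n14395 = n10080 := d4_1 D14395 (iv D10080) (iv F44402)
theorem F63199 : act 1 n14395 = n9913 := d12_1 D14395 (iv D9913) D9912
theorem F63200 : act 2 n14395 = n14395 := d19_1 D14395 (iv D14395) F44403
theorem F63201 : act 3 n14395 = n10831 := d25_1 D14395 (iv D10831) (iv F44404)
def n14396 : Q := act 8 n9912
theorem D14396 : act 8 n9912 = n14396 := rfl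
theorem F63202 : act 0 n14396 = n10081 := d7_1 D14396 (iv D10081) (iv F44402)
theorem F63203 : act 1 n14396 = n9914 := d15_1 D14396 (iv D9914) D9912
theorem F63204 : act 2 n14396 = n14396 := d22_1 D14396 (iv D14396) F44403
theorem F63205 : act 6 n14396 = n9979 := d40_1 D14396 (iv D9979) (iv F44405)
def n14397 : Q := act 4 n9913
theorem D14397 : act 4 n9913 = n14397 := rfl
theorem F63206 : act 0 n14397 = n9920 := d3_1 D14397 (iv D9920) (iv F44406)
theorem F63207 : act 2 n14397 = n9915 := d18_1 D14397 (iv D9915) (iv F44407)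
def n14398 : Q := act 6 n9913
theorem D14398 : act 6 n9913 = n14398 := rfl
theorem F63208 : act 0 n14398 = n9921 := d5_1 D14398 (iv D9921) (iv F44406)
theorem F63209 : act 2 n14398 = n9916 := d20_1 D14398 (iv D9916) (iv F44407)
theorem F63210 : act 3 n14398 = n10834 := d26_1 D14398 (iv D10834) (iv F44408)
theorem F63211 : act 5 n14398 = n9981 := d35_1 D14398 (iv D9981) (iv D6881) (iv F31302) D9913
def n14399 : Q := act 8 n9913
theorem D14399 : act 8 n9913 = n14399 := rfl
theorem F63212 : act 0 n14399 = n9922 := d7_1 D14399 (iv D9922) (iv F44406)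
theorem F63213 : act 2 n14399 = n9917 := d22_1 D14399 (iv D9917) (iv F44407)
theorem F63214 : act 5 n14399 = n9914 := d37_1 D14399 (iv D9914) D9913
def n14400 : Q := act 3 n9914
theorem D14400 : act 3 n9914 = n14400 := rfl
theorem F63215 : act 0 n14400 = n9923 := d2_1 D14400 (iv D9923) (iv F44409)
theorem F63216 : act 2 n14400 = n14400 := d17_1 D14400 (iv D14400) F44410 F31308 (iv F44410)
theorem F63217 : act 6 n14400 = n9983 := d26_2 (iv F44411) D14400 (iv D9983)
theorem F63218 : act 8 n14400 = n10836 := d28_2 D9914 D14400 (iv D10836) (iv D7465) (iv F31301)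
def n14401 : Q := act 9 n9914
theorem D14401 : act 9 n9914 = n14401 := rfl
theorem F63219 : act 0 n14401 = n9924 := d8_1 D14401 (iv D9924) (iv F44409)
theorem F63220 : act 2 n14401 = n9918 := d23_1 D14401 (iv D9918) (iv F44410)
theorem F63221 : act 6 n14401 = n9984 := d41_1 D14401 (iv D9984) (iv F44411)
def n14402 : Q := act 6 n9915
theorem D14402 : act 6 n9915 = n14402 := rfl
theorem F63222 : act 0 n14402 = n9925 := d5_1 D14402 (iv D9925) (iv F44412)
theorem F63223 : act 1 n14402 = n14402 := d13_1 D14402 (iv D14402) F44413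
theorem F63224 : act 4 n14402 = n9916 := d31_1 D14402 (iv D9916) D9915
def n14403 : Q := act 8 n9915
theorem D14403 : act 8 n9915 = n14403 := rfl
theorem F63225 : act 0 n14403 = n9926 := d7_1 D14403 (iv D9926) (iv F44412)
theorem F63226 : act 1 n14403 = n14403 := d15_1 D14403 (iv D14403) F44413
theorem F63227 : act 4 n14403 = n9917 := d33_1 D14403 (iv D9917) D9915
def n14404 : Q := act 7 n9916
theorem D14404 : act 7 n9916 = n14404 := rfl
theorem F63228 : act 0 n14404 = n9927 := d6_1 D14404 (iv D9927) (iv F44414)
theorem F63229 : act 1 n14404 = n14404 := d14_1 D14404 (iv D14404) F44415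
theorem F63230 : act 3 n14404 = n9919 := d27_1 D14404 (iv D9919) (iv F44416)
theorem F63231 : act 5 n14404 = n9987 := d36_1 D14404 (iv D9987) (iv F44417)
def n14405 : Q := act 8 n9916
theorem D14405 : act 8 n9916 = n14405 := rfl
theorem F63232 : act 0 n14405 = n9928 := d7_1 D14405 (iv D9928) (iv F44414)
theorem F63233 : act 1 n14405 = n14405 := d15_1 D14405 (iv D14405) F44415
theorem F63234 : act 3 n14405 = n14405 := d28_1 D14405 (iv D14405) F44416 F31314 (iv F44416)
theorem F63235 : act 5 n14405 = n9988 := d37_1 D14405 (iv D9988) (iv F44417)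
theorem F63236 : act 6 n14405 = n9917 := d40_1 D14405 (iv D9917) D9916
def n14406 : Q := act 9 n9917
theorem D14406 : act 9 n9917 = n14406 := rfl
theorem F63237 : act 0 n14406 = n9929 := d8_1 D14406 (iv D9929) (iv F44418)
theorem F63238 : act 1 n14406 = n14406 := d16_1 D14406 (iv D14406) F44419
theorem F63239 : act 3 n14406 = n14406 := d29_1 D14406 (iv D14406) F44420
theorem F63240 : act 5 n14406 = n9918 := d38_1 D14406 (iv D9918) (iv F44421)
def n14407 : Q := act 3 n9920
theorem D14407 : act 3 n9920 = n14407 := rfl
theorem F63241 : act 1 n14407 = n10092 := d10_1 D14407 (iv D10092) (iv F44431)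
theorem F63242 : act 4 n14407 = n10843 := d24_2 D9920 D14407 (iv D10843) (iv D7471) (iv F31317)
def n14408 : Q := act 6 n9920
theorem D14408 : act 6 n9920 = n14408 := rfl
theorem F63243 : act 1 n14408 = n10093 := d13_1 D14408 (iv D10093) (iv F44431)
theorem F63244 : act 2 n14408 = n9925 := d20_1 D14408 (iv D9925) (iv F44432)
theorem F63245 : act 4 n14408 = n9921 := d31_1 D14408 (iv D9921) D9920
def n14409 : Q := act 8 n9920
theorem D14409 : act 8 n9920 = n14409 := rfl
theorem F63246 : act 1 n14409 = n10094 := d15_1 D14409 (iv D10094) (iv F44431)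
theorem F63247 : act 2 n14409 = n9926 := d22_1 D14409 (iv D9926) (iv F44432)
theorem F63248 : act 4 n14409 = n9922 := d33_1 D14409 (iv D9922) D9920
def n14410 : Q := act 7 n9921
theorem D14410 : act 7 n9921 = n14410 := rfl
theorem F63249 : act 1 n14410 = n10095 := d14_1 D14410 (iv D10095) (iv F44433)
theorem F63250 : act 2 n14410 = n9927 := d21_1 D14410 (iv D9927) (iv F44434)
theorem F63251 : act 3 n14410 = n10846 := d27_1 D14410 (iv D10846) (iv F44435)
theorem F63252 : act 5 n14410 = n9993 := d36_1 D14410 (iv D9993) (iv F44436)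
def n14411 : Q := act 8 n9921
theorem D14411 : act 8 n9921 = n14411 := rfl
theorem F63253 : act 1 n14411 = n10096 := d15_1 D14411 (iv D10096) (iv F44433)
theorem F63254 : act 2 n14411 = n9928 := d22_1 D14411 (iv D9928) (iv F44434)
theorem F63255 : act 5 n14411 = n9994 := d37_1 D14411 (iv D9994) (iv F44436)
theorem F63256 : act 6 n14411 = n9922 := d40_1 D14411 (iv D9922) D9921
def n14412 : Q := act 3 n9922
theorem D14412 : act 3 n9922 = n14412 := rfl
theorem F63257 : act 1 n14412 = n10097 := d10_1 D14412 (iv D10097) (iv F44437)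
theorem F63258 : act 2 n14412 = n14412 := d17_1 D14412 (iv D14412) F44438 F31326 (iv F44438)
theorem F63259 : act 5 n14412 = n9923 := d25_2 (iv F44439) D14412 (iv D9923)
theorem F63260 : act 8 n14412 = n10848 := d28_2 D9922 D14412 (iv D10848) (iv D7473) (iv F31317)
def n14413 : Q := act 9 n9922
theorem D14413 : act 9 n9922 = n14413 := rfl
theorem F63261 : act 1 n14413 = n10098 := d16_1 D14413 (iv D10098) (iv F44437)
theorem F63262 : act 2 n14413 = n9929 := d23_1 D14413 (iv D9929) (iv F44438)
theorem F63263 : act 5 n14413 = n9924 := d38_1 D14413 (iv D9924) (iv F44439)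
def n14414 : Q := act 4 n9923
theorem D14414 : act 4 n9923 = n14414 := rfl
theorem F63264 : act 1 n14414 = n10099 := d11_1 D14414 (iv D10099) (iv F44440)
theorem F63265 : act 2 n14414 = n14414 := d18_1 D14414 (iv D14414) F44441
theorem F63266 : act 6 n14414 = n9997 := d31_2 (iv F44442) D14414 (iv D9997)
theorem F63267 : act 8 n14414 = n10850 := d33_2 (iv F44443) D14414 (iv D10850)
def n14415 : Q := act 9 n9923
theorem D14415 : act 9 n9923 = n14415 := rfl
theorem F63268 : act 1 n14415 = n10100 := d16_1 D14415 (iv D10100) (iv F44440)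
theorem F63269 : act 2 n14415 = n14415 := d23_1 D14415 (iv D14415) F44441
theorem F63270 : act 3 n14415 = n9924 := d29_1 D14415 (iv D9924) D9923
theorem F63271 : act 6 n14415 = n9998 := d41_1 D14415 (iv D9998) (iv F44442)
def n14416 : Q := act 5 n9925
theorem D14416 : act 5 n9925 = n14416 := rfl
theorem F63272 : act 1 n14416 = n9930 := d12_1 D14416 (iv D9930) (iv F44447)
theorem F63273 : act 4 n14416 = n9999 := d30_1 D14416 (iv D9999) F31528 (iv F31324) (iv F44448)
def n14417 : Q := act 7 n9925
theorem D14417 : act 7 n9925 = n14417 := rfl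
theorem F63274 : act 1 n14417 = n9931 := d14_1 D14417 (iv D9931) (iv F44447)
theorem F63275 : act 4 n14417 = n9927 := d32_1 D14417 (iv D9927) (iv F44448)
def n14418 : Q := act 8 n9925
theorem D14418 : act 8 n9925 = n14418 := rfl
theorem F63276 : act 1 n14418 = n9932 := d15_1 D14418 (iv D9932) (iv F44447)
theorem F63277 : act 4 n14418 = n9928 := d33_1 D14418 (iv D9928) (iv F44448)
theorem F63278 : act 6 n14418 = n9926 := d40_1 D14418 (iv D9926) D9925
def n14419 : Q := act 3 n9926
theorem D14419 : act 3 n9926 = n14419 := rfl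
theorem F63279 : act 1 n14419 = n9933 := d10_1 D14419 (iv D9933) (iv F44449)
theorem F63280 : act 4 n14419 = n14419 := d24_2 (iv F44450) D14419 (iv D14419) F44450 F31326
def n14420 : Q := act 9 n9926
theorem D14420 : act 9 n9926 = n14420 := rfl
theorem F63281 : act 1 n14420 = n9934 := d16_1 D14420 (iv D9934) (iv F44449)
theorem F63282 : act 4 n14420 = n9929 := d34_1 D14420 (iv D9929) (iv F44450)
def n14421 : Q := act 8 n9927
theorem D14421 : act 8 n9927 = n14421 := rfl
theorem F63283 : act 1 n14421 = n9935 := d15_1 D14421 (iv D9935) (iv F44451)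
theorem F63284 : act 3 n14421 = n14421 := d28_1 D14421 (iv D14421) F44452 F31334 (iv F44452)
theorem F63285 : act 5 n14421 = n10004 := d37_1 D14421 (iv D10004) (iv F44453)
theorem F63286 : act 7 n14421 = n9928 := d42_1 D14421 (iv D9928) D9927
def n14422 : Q := act 9 n9928
theorem D14422 : act 9 n9928 = n14422 := rfl
theorem F63287 : act 1 n14422 = n9936 := d16_1 D14422 (iv D9936) (iv F44454)
theorem F63288 : act 3 n14422 = n14422 := d29_1 D14422 (iv D14422) F44455
theorem F63289 : act 5 n14422 = n10005 := d38_1 D14422 (iv D10005) (iv F44456)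
theorem F63290 : act 6 n14422 = n9929 := d41_1 D14422 (iv D9929) (iv F44457)
def n14423 : Q := act 7 n9930
theorem D14423 : act 7 n9930 = n14423 := rfl
theorem F63291 : act 0 n14423 = n14423 := d6_1 D14423 (iv D14423) F44461
theorem F63292 : act 2 n14423 = n10108 := d21_1 D14423 (iv D10108) (iv F44462)
theorem F63293 : act 4 n14423 = n10006 := d32_1 D14423 (iv D10006) (iv F44463)
theorem F63294 : act 5 n14423 = n9931 := d36_1 D14423 (iv D9931) D9930
def n14424 : Q := act 8 n9930
theorem D14424 : act 8 n9930 = n14424 := rfl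
theorem F63295 : act 0 n14424 = n14424 := d7_1 D14424 (iv D14424) F44461
theorem F63296 : act 2 n14424 = n10109 := d22_1 D14424 (iv D10109) (iv F44462)
theorem F63297 : act 4 n14424 = n10007 := d33_1 D14424 (iv D10007) (iv F44463)
theorem F63298 : act 5 n14424 = n9932 := d37_1 D14424 (iv D9932) D9930
def n14425 : Q := act 8 n9931
theorem D14425 : act 8 n9931 = n14425 := rfl
theorem F63299 : act 0 n14425 = n14425 := d7_1 D14425 (iv D14425) F44464
theorem F63300 : act 2 n14425 = n10110 := d22_1 D14425 (iv D10110) (iv F44465)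
theorem F63301 : act 4 n14425 = n9935 := d33_1 D14425 (iv D9935) (iv F44466)
theorem F63302 : act 7 n14425 = n9932 := d42_1 D14425 (iv D9932) D9931
def n14426 : Q := act 3 n9932
theorem D14426 : act 3 n9932 = n14426 := rfl
theorem F63303 : act 0 n14426 = n14426 := d2_1 D14426 (iv D14426) F44467
theorem F63304 : act 4 n14426 = n14426 := d24_2 (iv F44469) D14426 (iv D14426) F44469 F31347
theorem F63305 : act 6 n14426 = n9933 := d26_2 (iv F44470) D14426 (iv D9933)
def n14427 : Q := act 9 n9932
theorem D14427 : act 9 n9932 = n14427 := rfl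
theorem F63306 : act 0 n14427 = n14427 := d8_1 D14427 (iv D14427) F44467
theorem F63307 : act 2 n14427 = n10112 := d23_1 D14427 (iv D10112) (iv F44468)
theorem F63308 : act 4 n14427 = n9936 := d34_1 D14427 (iv D9936) (iv F44469)
theorem F63309 : act 6 n14427 = n9934 := d41_1 D14427 (iv D9934) (iv F44470)
def n14428 : Q := act 2 n9933
theorem D14428 : act 2 n9933 = n14428 := rfl
theorem F63310 : act 0 n14428 = n14428 := d1_1 D14428 (iv D14428) F44471
theorem F63311 : act 3 n14428 = n10113 := d17_2 D9933 D14428 (iv D10113) (iv D6969) (iv F31339)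
theorem F63312 : act 4 n14428 = n14428 := d18_2 F44472 D14428 (iv D14428)
def n14429 : Q := act 9 n9933
theorem D14429 : act 9 n9933 = n14429 := rfl
theorem F63313 : act 0 n14429 = n14429 := d8_1 D14429 (iv D14429) F44471
theorem F63314 : act 3 n14429 = n9934 := d29_1 D14429 (iv D9934) D9933
theorem F63315 : act 4 n14429 = n14429 := d34_1 D14429 (iv D14429) F44472
def n14430 : Q := act 9 n9935
theorem D14430 : act 9 n9935 = n14430 := rfl
theorem F63316 : act 0 n14430 = n14430 := d8_1 D14430 (iv D14430) F44476
theorem F63317 : act 2 n14430 = n10115 := d23_1 D14430 (iv D10115) (iv F44477)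
theorem F63318 : act 3 n14430 = n14430 := d29_1 D14430 (iv D14430) F44478
theorem F63319 : act 5 n14430 = n10013 := d38_1 D14430 (iv D10013) (iv F44479)
theorem F63320 : act 7 n14430 = n9936 := d43_1 D14430 (iv D9936) (iv F44480)
def n14438 : Q := act 7 n9940
theorem D14438 : act 7 n9940 = n14438 := rfl
theorem F63362 : act 8 n14438 = n9960 := d42_2 (iv F44505) D14438 (iv D9960)
def n14439 : Q := act 4 n9941
theorem D14439 : act 4 n9941 = n14439 := rfl
def n14440 : Q := act 6 n9941
theorem D14440 : act 6 n9941 = n14440 := rfl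
theorem F63370 : act 2 n14440 = n9944 := d20_1 D14440 (iv D9944) (iv F44508)
theorem F63371 : act 3 n14440 = n10892 := d26_1 D14440 (iv D10892) (iv F44509)
def n14441 : Q := act 8 n9941
theorem D14441 : act 8 n9941 = n14441 := rfl
def n14444 : Q := act 6 n9943
theorem D14444 : act 6 n9943 = n14444 := rfl
theorem F63386 : act 1 n14444 = n9948 := d13_1 D14444 (iv D9948) (iv F44516)
theorem F63388 : act 4 n14444 = n9944 := d31_1 D14444 (iv D9944) D9943
def n14445 : Q := act 8 n9943
theorem D14445 : act 8 n9943 = n14445 := rfl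
theorem F63390 : act 1 n14445 = n9949 := d15_1 D14445 (iv D9949) (iv F44516)
theorem F63391 : act 4 n14445 = n9945 := d33_1 D14445 (iv D9945) D9943
def n14446 : Q := act 7 n9944
theorem D14446 : act 7 n9944 = n14446 := rfl
theorem F63394 : act 1 n14446 = n9950 := d14_1 D14446 (iv D9950) (iv F44521)
theorem F63395 : act 3 n14446 = n9947 := d27_1 D14446 (iv D9947) (iv F44522)
def n14447 : Q := act 8 n9944
theorem D14447 : act 8 n9944 = n14447 := rfl
theorem F63398 : act 1 n14447 = n9951 := d15_1 D14447 (iv D9951) (iv F44521)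
theorem F63399 : act 3 n14447 = n9969 := d28_1 D14447 (iv D9969) F31441 (iv F31382) (iv F44522)
def n14448 : Q := act 9 n9945
theorem D14448 : act 9 n9945 = n14448 := rfl
theorem F63401 : act 1 n14448 = n9952 := d16_1 D14448 (iv D9952) (iv F44524)
theorem F63402 : act 3 n14448 = n9970 := d29_1 D14448 (iv D9970) (iv F44525)
def n14449 : Q := act 5 n9948
theorem D14449 : act 5 n9948 = n14449 := rfl
def n14450 : Q := act 7 n9948
theorem D14450 : act 7 n9948 = n14450 := rfl
theorem F63414 : act 4 n14450 = n9950 := d32_1 D14450 (iv D9950) (iv F44542)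
def n14451 : Q := act 8 n9948
theorem D14451 : act 8 n9948 = n14451 := rfl
theorem F63417 : act 0 n14451 = n14451 := d7_1 D14451 (iv D14451) F44539
theorem F63418 : act 2 n14451 = n14451 := d22_1 D14451 (iv D14451) F44540
theorem F63419 : act 4 n14451 = n9951 := d33_1 D14451 (iv D9951) (iv F44542)
theorem F63420 : act 6 n14451 = n9949 := d40_1 D14451 (iv D9949) D9948
def n14452 : Q := act 3 n9949
theorem D14452 : act 3 n9949 = n14452 := rfl
theorem F63421 : act 0 n14452 = n14452 := d2_1 D14452 (iv D14452) F44544
theorem F63422 : act 4 n14452 = n9974 := d24_2 (iv F44546) D14452 (iv D9974) F31461 (iv F31396)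
theorem F63423 : act 5 n14452 = n14452 := d25_2 F44547 D14452 (iv D14452)
theorem F63424 : act 7 n14452 = n14452 := d27_2 F44548 D14452 (iv D14452)
theorem F63425 : act 8 n14452 = n14452 := d28_2 D9949 D14452 (iv D14452) (iv D9949) F31386
def n14453 : Q := act 9 n9949
theorem D14453 : act 9 n9949 = n14453 := rfl
theorem F63426 : act 0 n14453 = n14453 := d8_1 D14453 (iv D14453) F44544
theorem F63427 : act 2 n14453 = n14453 := d23_1 D14453 (iv D14453) F44545
theorem F63428 : act 4 n14453 = n9952 := d34_1 D14453 (iv D9952) (iv F44546)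
theorem F63429 : act 5 n14453 = n14453 := d38_1 D14453 (iv D14453) F44547
theorem F63430 : act 7 n14453 = n14453 := d43_1 D14453 (iv D14453) F44548
theorem F63431 : act 8 n14453 = n14453 := d44_1 D14453 (iv D14453) (iv D9949) F31389 D9949
def n14454 : Q := act 8 n9950
theorem D14454 : act 8 n9950 = n14454 := rfl
theorem F63432 : act 0 n14454 = n14454 := d7_1 D14454 (iv D14454) F44549
theorem F63433 : act 2 n14454 = n14454 := d22_1 D14454 (iv D14454) F44550
theorem F63434 : act 3 n14454 = n9976 := d28_1 D14454 (iv D9976) F31465 (iv F31409) (iv F44551)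
theorem F63435 : act 6 n14454 = n14454 := d40_1 D14454 (iv D14454) F44552
theorem F63436 : act 7 n14454 = n9951 := d42_1 D14454 (iv D9951) D9950
def n14455 : Q := act 9 n9951
theorem D14455 : act 9 n9951 = n14455 := rfl
theorem F63437 : act 0 n14455 = n14455 := d8_1 D14455 (iv D14455) F44554
theorem F63438 : act 2 n14455 = n14455 := d23_1 D14455 (iv D14455) F44555
theorem F63439 : act 3 n14455 = n9977 := d29_1 D14455 (iv D9977) (iv F44556)
theorem F63440 : act 6 n14455 = n9952 := d41_1 D14455 (iv D9952) (iv F44557)
theorem F63441 : act 8 n14455 = n14455 := d44_1 D14455 (iv D14455) (iv D9951) F31393 D9951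
def n14456 : Q := act 5 n9953
theorem D14456 : act 5 n9953 = n14456 := rfl
theorem F63442 : act 0 n14456 = n10116 := d4_1 D14456 (iv D10116) (iv F44564)
theorem F63443 : act 1 n14456 = n9954 := d12_1 D14456 (iv D9954) D9953
theorem F63445 : act 3 n14456 = n10908 := d25_1 D14456 (iv D10908) (iv F44566)
theorem F63447 : act 9 n14456 = n9978 := d38_2 (iv F44568) D14456 (iv D9978)
def n14457 : Q := act 8 n9953
theorem D14457 : act 8 n9953 = n14457 := rfl
def n14458 : Q := act 4 n9954
theorem D14458 : act 4 n9954 = n14458 := rfl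
theorem F63452 : act 0 n14458 = n9961 := d3_1 D14458 (iv D9961) (iv F44569)
theorem F63453 : act 2 n14458 = n9956 := d18_1 D14458 (iv D9956) (iv F44570)
theorem F63455 : act 9 n14458 = n9980 := d34_2 (iv F44573) D14458 (iv D9980)
def n14459 : Q := act 6 n9954
theorem D14459 : act 6 n9954 = n14459 := rfl
theorem F63456 : act 0 n14459 = n9962 := d5_1 D14459 (iv D9962) (iv F44569)
theorem F63457 : act 2 n14459 = n9957 := d20_1 D14459 (iv D9957) (iv F44570)
theorem F63459 : act 9 n14459 = n9981 := d41_2 (iv F44573) D14459 (iv D9981)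
def n14460 : Q := act 8 n9954
theorem D14460 : act 8 n9954 = n14460 := rfl
theorem F63460 : act 0 n14460 = n9963 := d7_1 D14460 (iv D9963) (iv F44569)
theorem F63461 : act 2 n14460 = n9958 := d22_1 D14460 (iv D9958) (iv F44570)
def n14461 : Q := act 3 n9955
theorem D14461 : act 3 n9955 = n14461 := rfl
theorem F63466 : act 8 n14461 = n10913 := d28_2 D9955 D14461 (iv D10913) (iv D7517) (iv F31412)
def n14462 : Q := act 9 n9955
theorem D14462 : act 9 n9955 = n14462 := rfl
theorem F63467 : act 0 n14462 = n9965 := d8_1 D14462 (iv D9965) (iv F44574)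
theorem F63470 : act 8 n14462 = n9984 := d44_1 D14462 (iv D9984) (iv D6882) (iv F31414) D9955
def n14463 : Q := act 6 n9956
theorem D14463 : act 6 n9956 = n14463 := rfl
theorem F63471 : act 0 n14463 = n9966 := d5_1 D14463 (iv D9966) (iv F44577)
theorem F63474 : act 4 n14463 = n9957 := d31_1 D14463 (iv D9957) D9956
theorem F63475 : act 9 n14463 = n9985 := d41_2 (iv F44581) D14463 (iv D9985)
def n14464 : Q := act 8 n9956
theorem D14464 : act 8 n9956 = n14464 := rfl
theorem F63476 : act 0 n14464 = n9967 := d7_1 D14464 (iv D9967) (iv F44577)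
theorem F63478 : act 4 n14464 = n9958 := d33_1 D14464 (iv D9958) D9956
def n14465 : Q := act 7 n9957
theorem D14465 : act 7 n9957 = n14465 := rfl
theorem F63480 : act 0 n14465 = n9968 := d6_1 D14465 (iv D9968) (iv F44582)
theorem F63482 : act 3 n14465 = n9960 := d27_1 D14465 (iv D9960) (iv F44584)
theorem F63484 : act 9 n14465 = n9987 := d43_2 (iv F44585) D14465 (iv D9987)
def n14466 : Q := act 8 n9957
theorem D14466 : act 8 n9957 = n14466 := rfl
theorem F63485 : act 0 n14466 = n9969 := d7_1 D14466 (iv D9969) (iv F44582)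
def n14467 : Q := act 9 n9958
theorem D14467 : act 9 n9958 = n14467 := rfl
theorem F63488 : act 0 n14467 = n9970 := d8_1 D14467 (iv D9970) (iv F44586)
theorem F63492 : act 8 n14467 = n9989 := d44_1 D14467 (iv D9989) (iv D6885) (iv F31419) D9958
def n14468 : Q := act 3 n9961
theorem D14468 : act 3 n9961 = n14468 := rfl
theorem F63493 : act 1 n14468 = n10128 := d10_1 D14468 (iv D10128) (iv F44600)
theorem F63494 : act 2 n14468 = n14468 := d17_1 D14468 (iv D14468) F44601 F31437 (iv F44601)
theorem F63495 : act 4 n14468 = n10920 := d24_2 D9961 D14468 (iv D10920) (iv D7523) (iv F31430)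
theorem F63496 : act 7 n14468 = n14468 := d27_2 F44602 D14468 (iv D14468)
theorem F63497 : act 9 n14468 = n9990 := d29_2 (iv F44603) D14468 (iv D9990)
def n14469 : Q := act 6 n9961
theorem D14469 : act 6 n9961 = n14469 := rfl
theorem F63498 : act 1 n14469 = n10129 := d13_1 D14469 (iv D10129) (iv F44600)
theorem F63499 : act 2 n14469 = n9966 := d20_1 D14469 (iv D9966) (iv F44601)
theorem F63500 : act 4 n14469 = n9962 := d31_1 D14469 (iv D9962) D9961
theorem F63501 : act 9 n14469 = n9991 := d41_2 (iv F44603) D14469 (iv D9991)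
def n14470 : Q := act 8 n9961
theorem D14470 : act 8 n9961 = n14470 := rfl
theorem F63502 : act 1 n14470 = n10130 := d15_1 D14470 (iv D10130) (iv F44600)
theorem F63503 : act 2 n14470 = n9967 := d22_1 D14470 (iv D9967) (iv F44601)
theorem F63504 : act 4 n14470 = n9963 := d33_1 D14470 (iv D9963) D9961
theorem F63505 : act 7 n14470 = n14470 := d42_1 D14470 (iv D14470) F44602
def n14471 : Q := act 7 n9962
theorem D14471 : act 7 n9962 = n14471 := rfl
theorem F63506 : act 1 n14471 = n10131 := d14_1 D14471 (iv D10131) (iv F44604)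
theorem F63507 : act 2 n14471 = n9968 := d21_1 D14471 (iv D9968) (iv F44605)
theorem F63508 : act 3 n14471 = n10923 := d27_1 D14471 (iv D10923) (iv F44606)
theorem F63509 : act 6 n14471 = n14471 := d39_1 D14471 (iv D14471) (iv D9962) F31431 D9962
theorem F63510 : act 9 n14471 = n9993 := d43_2 (iv F44607) D14471 (iv D9993)
def n14472 : Q := act 8 n9962
theorem D14472 : act 8 n9962 = n14472 := rfl
theorem F63511 : act 1 n14472 = n10132 := d15_1 D14472 (iv D10132) (iv F44604)
theorem F63512 : act 2 n14472 = n9969 := d22_1 D14472 (iv D9969) (iv F44605)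
theorem F63513 : act 6 n14472 = n9963 := d40_1 D14472 (iv D9963) D9962
def n14473 : Q := act 3 n9963
theorem D14473 : act 3 n9963 = n14473 := rfl
theorem F63514 : act 1 n14473 = n10133 := d10_1 D14473 (iv D10133) (iv F44608)
theorem F63517 : act 8 n14473 = n10925 := d28_2 D9963 D14473 (iv D10925) (iv D7525) (iv F31430)
def n14474 : Q := act 9 n9963
theorem D14474 : act 9 n9963 = n14474 := rfl
theorem F63518 : act 1 n14474 = n10134 := d16_1 D14474 (iv D10134) (iv F44608)
theorem F63519 : act 2 n14474 = n9970 := d23_1 D14474 (iv D9970) (iv F44609)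
theorem F63520 : act 5 n14474 = n9965 := d38_1 D14474 (iv D9965) (iv F44610)
theorem F63521 : act 7 n14474 = n14474 := d43_1 D14474 (iv D14474) F44611
theorem F63522 : act 8 n14474 = n9996 := d44_1 D14474 (iv D9996) (iv D6890) (iv F31432) D9963
def n14475 : Q := act 4 n9964
theorem D14475 : act 4 n9964 = n14475 := rfl
theorem F63525 : act 8 n14475 = n10927 := d33_2 (iv F44614) D14475 (iv D10927)
def n14476 : Q := act 9 n9964
theorem D14476 : act 9 n9964 = n14476 := rfl
theorem F63526 : act 1 n14476 = n10136 := d16_1 D14476 (iv D10136) (iv F44612)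
theorem F63527 : act 3 n14476 = n9965 := d29_1 D14476 (iv D9965) D9964
def n14477 : Q := act 5 n9966
theorem D14477 : act 5 n9966 = n14477 := rfl
theorem F63529 : act 1 n14477 = n9971 := d12_1 D14477 (iv D9971) (iv F44619)
theorem F63530 : act 3 n14477 = n14477 := d25_1 D14477 (iv D14477) F44620
theorem F63531 : act 9 n14477 = n9999 := d38_2 (iv F44622) D14477 (iv D9999)
def n14478 : Q := act 7 n9966
theorem D14478 : act 7 n9966 = n14478 := rfl
theorem F63532 : act 1 n14478 = n9972 := d14_1 D14478 (iv D9972) (iv F44619)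
theorem F63533 : act 3 n14478 = n14478 := d27_1 D14478 (iv D14478) F44620
theorem F63534 : act 4 n14478 = n9968 := d32_1 D14478 (iv D9968) (iv F44621)
theorem F63535 : act 6 n14478 = n14478 := d39_1 D14478 (iv D14478) (iv D9966) F31438 D9966
theorem F63536 : act 9 n14478 = n10000 := d43_2 (iv F44622) D14478 (iv D10000)
def n14479 : Q := act 8 n9966
theorem D14479 : act 8 n9966 = n14479 := rfl
theorem F63537 : act 1 n14479 = n9973 := d15_1 D14479 (iv D9973) (iv F44619)
theorem F63538 : act 4 n14479 = n9969 := d33_1 D14479 (iv D9969) (iv F44621)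
theorem F63539 : act 6 n14479 = n9967 := d40_1 D14479 (iv D9967) D9966
def n14480 : Q := act 3 n9967
theorem D14480 : act 3 n9967 = n14480 := rfl
theorem F63540 : act 1 n14480 = n9974 := d10_1 D14480 (iv D9974) (iv F44623)
theorem F63541 : act 7 n14480 = n14480 := d27_2 F44625 D14480 (iv D14480)
theorem F63542 : act 8 n14480 = n14480 := d28_2 D9967 D14480 (iv D14480) (iv D9967) F31437
def n14481 : Q := act 9 n9967
theorem D14481 : act 9 n9967 = n14481 := rfl
theorem F63543 : act 1 n14481 = n9975 := d16_1 D14481 (iv D9975) (iv F44623)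
theorem F63544 : act 4 n14481 = n9970 := d34_1 D14481 (iv D9970) (iv F44624)
theorem F63545 : act 7 n14481 = n14481 := d43_1 D14481 (iv D14481) F44625
theorem F63546 : act 8 n14481 = n10003 := d44_1 D14481 (iv D10003) (iv D6894) (iv F31439) D9967
def n14482 : Q := act 8 n9968
theorem D14482 : act 8 n9968 = n14482 := rfl
theorem F63547 : act 1 n14482 = n9976 := d15_1 D14482 (iv D9976) (iv F44626)
theorem F63548 : act 6 n14482 = n14482 := d40_1 D14482 (iv D14482) F44628
theorem F63549 : act 7 n14482 = n9969 := d42_1 D14482 (iv D9969) D9968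
def n14483 : Q := act 9 n9969
theorem D14483 : act 9 n9969 = n14483 := rfl
theorem F63550 : act 1 n14483 = n9977 := d16_1 D14483 (iv D9977) (iv F44630)
theorem F63551 : act 6 n14483 = n9970 := d41_1 D14483 (iv D9970) (iv F44631)
theorem F63552 : act 8 n14483 = n10005 := d44_1 D14483 (iv D10005) (iv D6896) (iv F31442) D9969
def n14484 : Q := act 7 n9971
theorem D14484 : act 7 n9971 = n14484 := rfl
theorem F63553 : act 0 n14484 = n14484 := d6_1 D14484 (iv D14484) F44636
theorem F63554 : act 2 n14484 = n10144 := d21_1 D14484 (iv D10144) (iv F44637)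
theorem F63555 : act 3 n14484 = n14484 := d27_1 D14484 (iv D14484) F44638
theorem F63556 : act 5 n14484 = n9972 := d36_1 D14484 (iv D9972) D9971
theorem F63557 : act 9 n14484 = n10006 := d43_2 (iv F44639) D14484 (iv D10006)
def n14485 : Q := act 8 n9971
theorem D14485 : act 8 n9971 = n14485 := rfl
theorem F63558 : act 0 n14485 = n14485 := d7_1 D14485 (iv D14485) F44636
theorem F63559 : act 2 n14485 = n10145 := d22_1 D14485 (iv D10145) (iv F44637)
theorem F63560 : act 5 n14485 = n9973 := d37_1 D14485 (iv D9973) D9971
def n14486 : Q := act 8 n9972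
theorem D14486 : act 8 n9972 = n14486 := rfl
theorem F63561 : act 0 n14486 = n14486 := d7_1 D14486 (iv D14486) F44640
theorem F63562 : act 2 n14486 = n10146 := d22_1 D14486 (iv D10146) (iv F44641)
theorem F63563 : act 4 n14486 = n9976 := d33_1 D14486 (iv D9976) (iv F44643)
theorem F63564 : act 6 n14486 = n14486 := d40_1 D14486 (iv D14486) F44644
theorem F63565 : act 7 n14486 = n9973 := d42_1 D14486 (iv D9973) D9972
def n14487 : Q := act 3 n9973
theorem D14487 : act 3 n9973 = n14487 := rfl
theorem F63566 : act 0 n14487 = n14487 := d2_1 D14487 (iv D14487) F44646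
theorem F63567 : act 6 n14487 = n9974 := d26_2 (iv F44649) D14487 (iv D9974)
theorem F63568 : act 8 n14487 = n14487 := d28_2 D9973 D14487 (iv D14487) (iv D9973) F31456
def n14488 : Q := act 9 n9973
theorem D14488 : act 9 n9973 = n14488 := rfl
theorem F63569 : act 0 n14488 = n14488 := d8_1 D14488 (iv D14488) F44646
theorem F63570 : act 2 n14488 = n10148 := d23_1 D14488 (iv D10148) (iv F44647)
theorem F63571 : act 4 n14488 = n9977 := d34_1 D14488 (iv D9977) (iv F44648)
theorem F63572 : act 6 n14488 = n9975 := d41_1 D14488 (iv D9975) (iv F44649)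
theorem F63573 : act 8 n14488 = n10010 := d44_1 D14488 (iv D10010) (iv D6900) (iv F31458) D9973
def n14489 : Q := act 2 n9974
theorem D14489 : act 2 n9974 = n14489 := rfl
theorem F63574 : act 0 n14489 = n14489 := d1_1 D14489 (iv D14489) F44650
theorem F63575 : act 3 n14489 = n10149 := d17_2 D9974 D14489 (iv D10149) (iv D6994) (iv F31460)
theorem F63576 : act 7 n14489 = n14489 := d21_2 F44651 D14489 (iv D14489)
theorem F63577 : act 8 n14489 = n14489 := d22_2 F44652 D14489 (iv D14489)
def n14490 : Q := act 9 n9974
theorem D14490 : act 9 n9974 = n14490 := rfl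
theorem F63578 : act 0 n14490 = n14490 := d8_1 D14490 (iv D14490) F44650
theorem F63579 : act 3 n14490 = n9975 := d29_1 D14490 (iv D9975) D9974
theorem F63580 : act 7 n14490 = n14490 := d43_1 D14490 (iv D14490) F44651
def n14491 : Q := act 9 n9976
theorem D14491 : act 9 n9976 = n14491 := rfl
theorem F63581 : act 0 n14491 = n14491 := d8_1 D14491 (iv D14491) F44658
theorem F63582 : act 2 n14491 = n10151 := d23_1 D14491 (iv D10151) (iv F44659)
theorem F63583 : act 6 n14491 = n14491 := d41_1 D14491 (iv D14491) F44660
theorem F63584 : act 7 n14491 = n9977 := d43_1 D14491 (iv D9977) (iv F44661)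
theorem F63585 : act 8 n14491 = n10013 := d44_1 D14491 (iv D10013) (iv D6903) (iv F31467) D9976
def n14492 : Q := act 4 n9978
theorem D14492 : act 4 n9978 = n14492 := rfl
theorem F63586 : act 0 n14492 = n10152 := d3_1 D14492 (iv D10152) (iv F44666)
theorem F63587 : act 1 n14492 = n9980 := d11_1 D14492 (iv D9980) (iv F44667)
theorem F63588 : act 2 n14492 = n14492 := d18_1 D14492 (iv D14492) F44668
theorem F63589 : act 7 n14492 = n14492 := d32_2 F44670 D14492 (iv D14492)
def n14493 : Q := act 6 n9978
theorem D14493 : act 6 n9978 = n14493 := rfl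
theorem F63590 : act 0 n14493 = n10153 := d5_1 D14493 (iv D10153) (iv F44666)
theorem F63591 : act 1 n14493 = n9981 := d13_1 D14493 (iv D9981) (iv F44667)
theorem F63592 : act 2 n14493 = n14493 := d20_1 D14493 (iv D14493) F44668
theorem F63593 : act 3 n14493 = n10945 := d26_1 D14493 (iv D10945) (iv F44669)
def n14494 : Q := act 8 n9978
theorem D14494 : act 8 n9978 = n14494 := rfl
theorem F63594 : act 0 n14494 = n10154 := d7_1 D14494 (iv D10154) (iv F44666)
theorem F63595 : act 1 n14494 = n9982 := d15_1 D14494 (iv D9982) (iv F44667)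
theorem F63596 : act 2 n14494 = n14494 := d22_1 D14494 (iv D14494) F44668
theorem F63597 : act 5 n14494 = n9979 := d37_1 D14494 (iv D9979) D9978
theorem F63598 : act 7 n14494 = n14494 := d42_1 D14494 (iv D14494) F44670
def n14495 : Q := act 3 n9979
theorem D14495 : act 3 n9979 = n14495 := rfl
theorem F63600 : act 1 n14495 = n9983 := d10_1 D14495 (iv D9983) (iv F44672)
theorem F63602 : act 8 n14495 = n10947 := d28_2 D9979 D14495 (iv D10947) (iv D7541) (iv F31478)
def n14496 : Q := act 9 n9979
theorem D14496 : act 9 n9979 = n14496 := rfl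
theorem F63603 : act 0 n14496 = n10156 := d8_1 D14496 (iv D10156) (iv F44671)
theorem F63604 : act 1 n14496 = n9984 := d16_1 D14496 (iv D9984) (iv F44672)
theorem F63605 : act 2 n14496 = n14496 := d23_1 D14496 (iv D14496) F44673
theorem F63606 : act 7 n14496 = n14496 := d43_1 D14496 (iv D14496) F44674
def n14497 : Q := act 3 n9980
theorem D14497 : act 3 n9980 = n14497 := rfl
theorem F63607 : act 0 n14497 = n9990 := d2_1 D14497 (iv D9990) (iv F44675)
theorem F63608 : act 2 n14497 = n14497 := d17_1 D14497 (iv D14497) F44676 F31489 (iv F44676)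
theorem F63609 : act 4 n14497 = n10949 := d24_2 D9980 D14497 (iv D10949) (iv D7542) (iv F31482)
theorem F63610 : act 7 n14497 = n14497 := d27_2 F44677 D14497 (iv D14497)
def n14498 : Q := act 6 n9980
theorem D14498 : act 6 n9980 = n14498 := rfl
theorem F63611 : act 0 n14498 = n9991 := d5_1 D14498 (iv D9991) (iv F44675)
theorem F63612 : act 2 n14498 = n9985 := d20_1 D14498 (iv D9985) (iv F44676)
theorem F63613 : act 4 n14498 = n9981 := d31_1 D14498 (iv D9981) D9980
def n14499 : Q := act 8 n9980
theorem D14499 : act 8 n9980 = n14499 := rfl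
theorem F63614 : act 0 n14499 = n9992 := d7_1 D14499 (iv D9992) (iv F44675)
theorem F63615 : act 2 n14499 = n9986 := d22_1 D14499 (iv D9986) (iv F44676)
theorem F63616 : act 4 n14499 = n9982 := d33_1 D14499 (iv D9982) D9980
theorem F63617 : act 7 n14499 = n14499 := d42_1 D14499 (iv D14499) F44677
def n14500 : Q := act 7 n9981
theorem D14500 : act 7 n9981 = n14500 := rfl
theorem F63618 : act 0 n14500 = n9993 := d6_1 D14500 (iv D9993) (iv F44678)
theorem F63619 : act 2 n14500 = n9987 := d21_1 D14500 (iv D9987) (iv F44679)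
theorem F63620 : act 3 n14500 = n10952 := d27_1 D14500 (iv D10952) (iv F44680)
theorem F63621 : act 6 n14500 = n14500 := d39_1 D14500 (iv D14500) (iv D9981) F31483 D9981
def n14501 : Q := act 8 n9981
theorem D14501 : act 8 n9981 = n14501 := rfl
theorem F63622 : act 0 n14501 = n9994 := d7_1 D14501 (iv D9994) (iv F44678)
theorem F63623 : act 2 n14501 = n9988 := d22_1 D14501 (iv D9988) (iv F44679)
theorem F63624 : act 6 n14501 = n9982 := d40_1 D14501 (iv D9982) D9981
def n14502 : Q := act 3 n9982
theorem D14502 : act 3 n9982 = n14502 := rfl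
theorem F63625 : act 0 n14502 = n9995 := d2_1 D14502 (iv D9995) (iv F44681)
theorem F63626 : act 2 n14502 = n14502 := d17_1 D14502 (iv D14502) F44682 F31496 (iv F44682)
theorem F63627 : act 5 n14502 = n9983 := d25_2 (iv F44683) D14502 (iv D9983)
theorem F63628 : act 7 n14502 = n14502 := d27_2 F44684 D14502 (iv D14502)
theorem F63629 : act 8 n14502 = n10954 := d28_2 D9982 D14502 (iv D10954) (iv D7544) (iv F31482)
def n14503 : Q := act 9 n9982
theorem D14503 : act 9 n9982 = n14503 := rfl
theorem F63630 : act 0 n14503 = n9996 := d8_1 D14503 (iv D9996) (iv F44681)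
theorem F63631 : act 2 n14503 = n9989 := d23_1 D14503 (iv D9989) (iv F44682)
theorem F63632 : act 5 n14503 = n9984 := d38_1 D14503 (iv D9984) (iv F44683)
theorem F63633 : act 7 n14503 = n14503 := d43_1 D14503 (iv D14503) F44684
def n14504 : Q := act 4 n9983
theorem D14504 : act 4 n9983 = n14504 := rfl
theorem F63634 : act 0 n14504 = n9997 := d3_1 D14504 (iv D9997) (iv F44685)
theorem F63637 : act 8 n14504 = n10956 := d33_2 (iv F44688) D14504 (iv D10956)
def n14505 : Q := act 9 n9983
theorem D14505 : act 9 n9983 = n14505 := rfl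
theorem F63638 : act 0 n14505 = n9998 := d8_1 D14505 (iv D9998) (iv F44685)
theorem F63639 : act 2 n14505 = n14505 := d23_1 D14505 (iv D14505) F44686
theorem F63640 : act 3 n14505 = n9984 := d29_1 D14505 (iv D9984) D9983
theorem F63641 : act 7 n14505 = n14505 := d43_1 D14505 (iv D14505) F44687
def n14506 : Q := act 5 n9985
theorem D14506 : act 5 n9985 = n14506 := rfl
theorem F63642 : act 0 n14506 = n9999 := d4_1 D14506 (iv D9999) (iv F44692)
theorem F63643 : act 1 n14506 = n14506 := d12_1 D14506 (iv D14506) F44693
theorem F63644 : act 3 n14506 = n14506 := d25_1 D14506 (iv D14506) F44694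
def n14507 : Q := act 7 n9985
theorem D14507 : act 7 n9985 = n14507 := rfl
theorem F63645 : act 0 n14507 = n10000 := d6_1 D14507 (iv D10000) (iv F44692)
theorem F63646 : act 1 n14507 = n14507 := d14_1 D14507 (iv D14507) F44693
theorem F63647 : act 3 n14507 = n14507 := d27_1 D14507 (iv D14507) F44694
theorem F63648 : act 4 n14507 = n9987 := d32_1 D14507 (iv D9987) (iv F44695)
theorem F63649 : act 6 n14507 = n14507 := d39_1 D14507 (iv D14507) (iv D9985) F31490 D9985
def n14508 : Q := act 8 n9985
theorem D14508 : act 8 n9985 = n14508 := rfl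
theorem F63650 : act 0 n14508 = n10001 := d7_1 D14508 (iv D10001) (iv F44692)
theorem F63651 : act 1 n14508 = n14508 := d15_1 D14508 (iv D14508) F44693
theorem F63652 : act 4 n14508 = n9988 := d33_1 D14508 (iv D9988) (iv F44695)
theorem F63653 : act 6 n14508 = n9986 := d40_1 D14508 (iv D9986) D9985
def n14509 : Q := act 3 n9986
theorem D14509 : act 3 n9986 = n14509 := rfl
theorem F63654 : act 0 n14509 = n10002 := d2_1 D14509 (iv D10002) (iv F44696)
theorem F63655 : act 1 n14509 = n14509 := d10_1 D14509 (iv D14509) F44697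
theorem F63656 : act 4 n14509 = n14509 := d24_2 (iv F44698) D14509 (iv D14509) F44698 F31496
theorem F63657 : act 7 n14509 = n14509 := d27_2 F44699 D14509 (iv D14509)
theorem F63658 : act 8 n14509 = n14509 := d28_2 D9986 D14509 (iv D14509) (iv D9986) F31489
def n14510 : Q := act 9 n9986
theorem D14510 : act 9 n9986 = n14510 := rfl
theorem F63659 : act 0 n14510 = n10003 := d8_1 D14510 (iv D10003) (iv F44696)
theorem F63660 : act 1 n14510 = n14510 := d16_1 D14510 (iv D14510) F44697
theorem F63661 : act 4 n14510 = n9989 := d34_1 D14510 (iv D9989) (iv F44698)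
theorem F63662 : act 7 n14510 = n14510 := d43_1 D14510 (iv D14510) F44699
def n14511 : Q := act 8 n9987
theorem D14511 : act 8 n9987 = n14511 := rfl
theorem F63663 : act 0 n14511 = n10004 := d7_1 D14511 (iv D10004) (iv F44700)
theorem F63664 : act 1 n14511 = n14511 := d15_1 D14511 (iv D14511) F44701
theorem F63665 : act 3 n14511 = n14511 := d28_1 D14511 (iv D14511) F44702 F31508 (iv F44702)
theorem F63666 : act 6 n14511 = n14511 := d40_1 D14511 (iv D14511) F44703
theorem F63667 : act 7 n14511 = n9988 := d42_1 D14511 (iv D9988) D9987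
def n14512 : Q := act 9 n9988
theorem D14512 : act 9 n9988 = n14512 := rfl
theorem F63668 : act 0 n14512 = n10005 := d8_1 D14512 (iv D10005) (iv F44704)
theorem F63669 : act 1 n14512 = n14512 := d16_1 D14512 (iv D14512) F44705
theorem F63670 : act 3 n14512 = n14512 := d29_1 D14512 (iv D14512) F44706
theorem F63671 : act 6 n14512 = n9989 := d41_1 D14512 (iv D9989) (iv F44707)
def n14513 : Q := act 6 n9990
theorem D14513 : act 6 n9990 = n14513 := rfl
theorem F63672 : act 1 n14513 = n10173 := d13_1 D14513 (iv D10173) (iv F44713)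
theorem F63673 : act 2 n14513 = n14513 := d20_1 D14513 (iv D14513) F44714
theorem F63674 : act 3 n14513 = n9991 := d26_1 D14513 (iv D9991) D9990
theorem F63675 : act 4 n14513 = n10965 := d31_1 D14513 (iv D10965) (iv F44715)
def n14514 : Q := act 8 n9990
theorem D14514 : act 8 n9990 = n14514 := rfl
theorem F63676 : act 1 n14514 = n10174 := d15_1 D14514 (iv D10174) (iv F44713)
theorem F63677 : act 2 n14514 = n14514 := d22_1 D14514 (iv D14514) F44714
theorem F63678 : act 4 n14514 = n10966 := d33_1 D14514 (iv D10966) (iv F44715)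
theorem F63679 : act 7 n14514 = n14514 := d42_1 D14514 (iv D14514) F44716
def n14515 : Q := act 5 n9991
theorem D14515 : act 5 n9991 = n14515 := rfl
theorem F63680 : act 1 n14515 = n10175 := d12_1 D14515 (iv D10175) (iv F44717)
theorem F63681 : act 2 n14515 = n9999 := d19_1 D14515 (iv D9999) (iv F44718)
def n14516 : Q := act 7 n9991
theorem D14516 : act 7 n9991 = n14516 := rfl
theorem F63682 : act 1 n14516 = n10176 := d14_1 D14516 (iv D10176) (iv F44717)
theorem F63683 : act 2 n14516 = n10000 := d21_1 D14516 (iv D10000) (iv F44718)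
theorem F63684 : act 4 n14516 = n9993 := d32_1 D14516 (iv D9993) (iv F44719)
theorem F63685 : act 6 n14516 = n14516 := d39_1 D14516 (iv D14516) (iv D9991) F31511 D9991
def n14517 : Q := act 8 n9991
theorem D14517 : act 8 n9991 = n14517 := rfl
theorem F63686 : act 1 n14517 = n10177 := d15_1 D14517 (iv D10177) (iv F44717)
theorem F63687 : act 2 n14517 = n10001 := d22_1 D14517 (iv D10001) (iv F44718)
theorem F63688 : act 4 n14517 = n9994 := d33_1 D14517 (iv D9994) (iv F44719)
theorem F63689 : act 6 n14517 = n9992 := d40_1 D14517 (iv D9992) D9991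
def n14518 : Q := act 3 n9992
theorem D14518 : act 3 n9992 = n14518 := rfl
theorem F63690 : act 1 n14518 = n10178 := d10_1 D14518 (iv D10178) (iv F44720)
theorem F63691 : act 7 n14518 = n14518 := d27_2 F44723 D14518 (iv D14518)
def n14519 : Q := act 9 n9992
theorem D14519 : act 9 n9992 = n14519 := rfl
theorem F63692 : act 1 n14519 = n10179 := d16_1 D14519 (iv D10179) (iv F44720)
theorem F63693 : act 2 n14519 = n10003 := d23_1 D14519 (iv D10003) (iv F44721)
theorem F63694 : act 4 n14519 = n9996 := d34_1 D14519 (iv D9996) (iv F44722)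
theorem F63695 : act 7 n14519 = n14519 := d43_1 D14519 (iv D14519) F44723
def n14520 : Q := act 8 n9993
theorem D14520 : act 8 n9993 = n14520 := rfl
theorem F63696 : act 1 n14520 = n10180 := d15_1 D14520 (iv D10180) (iv F44724)
theorem F63697 : act 2 n14520 = n10004 := d22_1 D14520 (iv D10004) (iv F44725)
theorem F63698 : act 6 n14520 = n14520 := d40_1 D14520 (iv D14520) F44727
theorem F63699 : act 7 n14520 = n9994 := d42_1 D14520 (iv D9994) D9993
def n14521 : Q := act 3 n9994
theorem D14521 : act 3 n9994 = n14521 := rfl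
theorem F63700 : act 1 n14521 = n10181 := d10_1 D14521 (iv D10181) (iv F44728)
theorem F63701 : act 2 n14521 = n14521 := d17_1 D14521 (iv D14521) F44729 F31536 (iv F44729)
theorem F63702 : act 6 n14521 = n9995 := d26_2 (iv F44730) D14521 (iv D9995)
theorem F63703 : act 8 n14521 = n10973 := d28_2 D9994 D14521 (iv D10973) (iv D7556) (iv F31514)
def n14522 : Q := act 9 n9994
theorem D14522 : act 9 n9994 = n14522 := rfl
theorem F63704 : act 1 n14522 = n10182 := d16_1 D14522 (iv D10182) (iv F44728)
theorem F63705 : act 2 n14522 = n10005 := d23_1 D14522 (iv D10005) (iv F44729)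
theorem F63706 : act 6 n14522 = n9996 := d41_1 D14522 (iv D9996) (iv F44730)
def n14523 : Q := act 4 n9995
theorem D14523 : act 4 n9995 = n14523 := rfl
theorem F63707 : act 1 n14523 = n10183 := d11_1 D14523 (iv D10183) (iv F44731)
theorem F63708 : act 2 n14523 = n14523 := d18_1 D14523 (iv D14523) F44732
theorem F63709 : act 7 n14523 = n14523 := d32_2 F44734 D14523 (iv D14523)
theorem F63710 : act 8 n14523 = n10975 := d33_2 (iv F44735) D14523 (iv D10975)
def n14524 : Q := act 9 n9995
theorem D14524 : act 9 n9995 = n14524 := rfl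
theorem F63711 : act 1 n14524 = n10184 := d16_1 D14524 (iv D10184) (iv F44731)
theorem F63712 : act 2 n14524 = n14524 := d23_1 D14524 (iv D14524) F44732
theorem F63713 : act 3 n14524 = n9996 := d29_1 D14524 (iv D9996) D9995
theorem F63714 : act 5 n14524 = n9998 := d38_1 D14524 (iv D9998) (iv F44733)
theorem F63715 : act 7 n14524 = n14524 := d43_1 D14524 (iv D14524) F44734
def n14525 : Q := act 5 n9997
theorem D14525 : act 5 n9997 = n14525 := rfl
theorem F63716 : act 1 n14525 = n10185 := d12_1 D14525 (iv D10185) (iv F44740)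
theorem F63717 : act 2 n14525 = n14525 := d19_1 D14525 (iv D14525) F44741
theorem F63718 : act 7 n14525 = n14525 := d36_2 F44742 D14525 (iv D14525)
theorem F63719 : act 8 n14525 = n10977 := d37_2 (iv F44743) D14525 (iv D10977)
def n14526 : Q := act 9 n9997
theorem D14526 : act 9 n9997 = n14526 := rfl
theorem F63720 : act 1 n14526 = n10186 := d16_1 D14526 (iv D10186) (iv F44740)
theorem F63721 : act 2 n14526 = n14526 := d23_1 D14526 (iv D14526) F44741
theorem F63722 : act 4 n14526 = n9998 := d34_1 D14526 (iv D9998) D9997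
theorem F63723 : act 7 n14526 = n14526 := d43_1 D14526 (iv D14526) F44742
def n14528 : Q := act 7 n9999
theorem D14528 : act 7 n9999 = n14528 := rfl
theorem F63728 : act 1 n14528 = n10006 := d14_1 D14528 (iv D10006) (iv F44748)
theorem F63729 : act 3 n14528 = n14528 := d27_1 D14528 (iv D14528) F44749
theorem F63730 : act 5 n14528 = n10000 := d36_1 D14528 (iv D10000) D9999
def n14529 : Q := act 8 n9999
theorem D14529 : act 8 n9999 = n14529 := rfl
theorem F63731 : act 1 n14529 = n10007 := d15_1 D14529 (iv D10007) (iv F44748)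
theorem F63732 : act 5 n14529 = n10001 := d37_1 D14529 (iv D10001) D9999
def n14530 : Q := act 8 n10000
theorem D14530 : act 8 n10000 = n14530 := rfl
theorem F63733 : act 1 n14530 = n10008 := d15_1 D14530 (iv D10008) (iv F44750)
theorem F63734 : act 4 n14530 = n10004 := d33_1 D14530 (iv D10004) (iv F44752)
theorem F63735 : act 6 n14530 = n14530 := d40_1 D14530 (iv D14530) F44753
theorem F63736 : act 7 n14530 = n10001 := d42_1 D14530 (iv D10001) D10000
def n14531 : Q := act 3 n10001
theorem D14531 : act 3 n10001 = n14531 := rfl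
theorem F63737 : act 1 n14531 = n10009 := d10_1 D14531 (iv D10009) (iv F44754)
theorem F63738 : act 4 n14531 = n14531 := d24_2 (iv F44755) D14531 (iv D14531) F44755 F31536
theorem F63739 : act 6 n14531 = n10002 := d26_2 (iv F44756) D14531 (iv D10002)
theorem F63740 : act 8 n14531 = n14531 := d28_2 D10001 D14531 (iv D14531) (iv D10001) F31527
def n14532 : Q := act 9 n10001
theorem D14532 : act 9 n10001 = n14532 := rfl
theorem F63741 : act 1 n14532 = n10010 := d16_1 D14532 (iv D10010) (iv F44754)
theorem F63742 : act 4 n14532 = n10005 := d34_1 D14532 (iv D10005) (iv F44755)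
theorem F63743 : act 6 n14532 = n10003 := d41_1 D14532 (iv D10003) (iv F44756)
def n14533 : Q := act 2 n10002
theorem D14533 : act 2 n10002 = n14533 := rfl
theorem F63744 : act 4 n14533 = n14533 := d18_2 F44758 D14533 (iv D14533)
theorem F63745 : act 7 n14533 = n14533 := d21_2 F44759 D14533 (iv D14533)
theorem F63746 : act 8 n14533 = n14533 := d22_2 F44760 D14533 (iv D14533)
def n14534 : Q := act 9 n10002
theorem D14534 : act 9 n10002 = n14534 := rfl
theorem F63747 : act 1 n14534 = n10012 := d16_1 D14534 (iv D10012) (iv F44757)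
theorem F63748 : act 3 n14534 = n10003 := d29_1 D14534 (iv D10003) D10002
theorem F63749 : act 4 n14534 = n14534 := d34_1 D14534 (iv D14534) F44758
theorem F63750 : act 7 n14534 = n14534 := d43_1 D14534 (iv D14534) F44759
def n14535 : Q := act 9 n10004
theorem D14535 : act 9 n10004 = n14535 := rfl
theorem F63751 : act 1 n14535 = n10013 := d16_1 D14535 (iv D10013) (iv F44764)
theorem F63752 : act 3 n14535 = n14535 := d29_1 D14535 (iv D14535) F44765
theorem F63753 : act 6 n14535 = n14535 := d41_1 D14535 (iv D14535) F44766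
theorem F63754 : act 7 n14535 = n10005 := d43_1 D14535 (iv D10005) (iv F44767)
def n14536 : Q := act 6 n10006
theorem D14536 : act 6 n10006 = n14536 := rfl
theorem F63755 : act 0 n14536 = n14536 := d5_1 D14536 (iv D14536) F44771
theorem F63756 : act 2 n14536 = n10196 := d20_1 D14536 (iv D10196) (iv F44772)
theorem F63757 : act 3 n14536 = n14536 := d26_1 D14536 (iv D14536) F44773
theorem F63758 : act 5 n14536 = n14536 := d35_1 D14536 (iv D14536) F44774 F31549 (iv F44774)
def n14537 : Q := act 8 n10006
theorem D14537 : act 8 n10006 = n14537 := rfl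
theorem F63759 : act 0 n14537 = n14537 := d7_1 D14537 (iv D14537) F44771
theorem F63760 : act 2 n14537 = n10197 := d22_1 D14537 (iv D10197) (iv F44772)
theorem F63761 : act 5 n14537 = n10008 := d37_1 D14537 (iv D10008) (iv F44774)
theorem F63762 : act 7 n14537 = n10007 := d42_1 D14537 (iv D10007) D10006
def n14538 : Q := act 3 n10007
theorem D14538 : act 3 n10007 = n14538 := rfl
theorem F63763 : act 0 n14538 = n14538 := d2_1 D14538 (iv D14538) F44775
theorem F63764 : act 5 n14538 = n10009 := d25_2 (iv F44777) D14538 (iv D10009)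
theorem F63765 : act 8 n14538 = n14538 := d28_2 D10007 D14538 (iv D14538) (iv D10007) F31544
def n14539 : Q := act 9 n10007
theorem D14539 : act 9 n10007 = n14539 := rfl
theorem F63766 : act 0 n14539 = n14539 := d8_1 D14539 (iv D14539) F44775
theorem F63767 : act 2 n14539 = n10199 := d23_1 D14539 (iv D10199) (iv F44776)
theorem F63768 : act 5 n14539 = n10010 := d38_1 D14539 (iv D10010) (iv F44777)
def n14540 : Q := act 3 n10008
theorem D14540 : act 3 n10008 = n14540 := rfl
theorem F63769 : act 0 n14540 = n14540 := d2_1 D14540 (iv D14540) F44778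
theorem F63770 : act 4 n14540 = n14540 := d24_2 (iv F44780) D14540 (iv D14540) F44780 F31564
theorem F63771 : act 6 n14540 = n14540 := d26_2 F44781 D14540 (iv D14540)
theorem F63772 : act 7 n14540 = n10009 := d27_2 (iv F44782) D14540 (iv D10009)
theorem F63773 : act 8 n14540 = n14540 := d28_2 D10008 D14540 (iv D14540) (iv D10008) F31547
def n14541 : Q := act 9 n10008
theorem D14541 : act 9 n10008 = n14541 := rfl
theorem F63774 : act 0 n14541 = n14541 := d8_1 D14541 (iv D14541) F44778
theorem F63775 : act 2 n14541 = n10201 := d23_1 D14541 (iv D10201) (iv F44779)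
theorem F63776 : act 4 n14541 = n10013 := d34_1 D14541 (iv D10013) (iv F44780)
theorem F63777 : act 6 n14541 = n14541 := d41_1 D14541 (iv D14541) F44781
theorem F63778 : act 7 n14541 = n10010 := d43_1 D14541 (iv D10010) (iv F44782)
def n14542 : Q := act 2 n10009
theorem D14542 : act 2 n10009 = n14542 := rfl
theorem F63779 : act 0 n14542 = n14542 := d1_1 D14542 (iv D14542) F44783
theorem F63780 : act 3 n14542 = n10202 := d17_2 D10009 D14542 (iv D10202) (iv D7029) (iv F31551)
theorem F63781 : act 4 n14542 = n14542 := d18_2 F44784 D14542 (iv D14542)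
theorem F63782 : act 6 n14542 = n10011 := d20_2 (iv F44785) D14542 (iv D10011)
theorem F63783 : act 8 n14542 = n14542 := d22_2 F44786 D14542 (iv D14542)
def n14543 : Q := act 9 n10009
theorem D14543 : act 9 n10009 = n14543 := rfl
theorem F63784 : act 0 n14543 = n14543 := d8_1 D14543 (iv D14543) F44783
theorem F63785 : act 3 n14543 = n10010 := d29_1 D14543 (iv D10010) D10009
theorem F63786 : act 4 n14543 = n14543 := d34_1 D14543 (iv D14543) F44784
theorem F63787 : act 6 n14543 = n10012 := d41_1 D14543 (iv D10012) (iv F44785)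
def n14544 : Q := act 1 n10011
theorem D14544 : act 1 n10011 = n14544 := rfl
theorem F63788 : act 3 n14544 = n10204 := d10_2 (iv F44792) D14544 (iv D10204)
theorem F63789 : act 4 n14544 = n14544 := d11_2 F44793 D14544 (iv D14544)
theorem F63790 : act 7 n14544 = n14544 := d14_2 F44794 D14544 (iv D14544)
theorem F63791 : act 8 n14544 = n14544 := d15_2 F44795 D14544 (iv D14544)
def n14545 : Q := act 9 n10011
theorem D14545 : act 9 n10011 = n14545 := rfl
theorem F63792 : act 0 n14545 = n14545 := d8_1 D14545 (iv D14545) F44791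
theorem F63793 : act 2 n14545 = n10012 := d23_1 D14545 (iv D10012) D10011
theorem F63794 : act 3 n14545 = n10205 := d29_1 D14545 (iv D10205) (iv F44792)
theorem F63795 : act 4 n14545 = n14545 := d34_1 D14545 (iv D14545) F44793
theorem F63796 : act 7 n14545 = n14545 := d43_1 D14545 (iv D14545) F44794
def n14546 : Q := act 8 n10012
theorem D14546 : act 8 n10012 = n14546 := rfl
theorem F63797 : act 0 n14546 = n14546 := d7_1 D14546 (iv D14546) F44796
theorem F63798 : act 4 n14546 = n14546 := d33_1 D14546 (iv D14546) F44798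
theorem F63799 : act 7 n14546 = n14546 := d42_1 D14546 (iv D14546) F44799
theorem F63800 : act 9 n14546 = n14546 := d44_2 D10012 D14546 (iv D14546) (iv D10012) F31557
def n14547 : Q := act 1 n10014
theorem D14547 : act 1 n10014 = n14547 := rfl
theorem F63801 : act 2 n14547 = n14547 := d9_2 D10014 D14547 (iv D14547) (iv D10014) F31572
theorem F63802 : act 3 n14547 = n10996 := d10_2 (iv F44806) D14547 (iv D10996)
theorem F63803 : act 6 n14547 = n14547 := d13_2 F44807 D14547 (iv D14547)
theorem F63804 : act 7 n14547 = n10055 := d14_2 (iv F44808) D14547 (iv D10055)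
theorem F63805 : act 9 n14547 = n10030 := d16_2 (iv F44809) D14547 (iv D10030)
def n14548 : Q := act 5 n10014
theorem D14548 : act 5 n10014 = n14548 := rfl
theorem F63806 : act 0 n14548 = n10018 := d4_1 D14548 (iv D10018) (iv F44805)
theorem F63807 : act 2 n14548 = n10015 := d19_1 D14548 (iv D10015) D10014
theorem F63808 : act 3 n14548 = n10997 := d25_1 D14548 (iv D10997) (iv F44806)
theorem F63809 : act 7 n14548 = n10056 := d36_2 (iv F44808) D14548 (iv D10056)
theorem F63810 : act 9 n14548 = n10031 := d38_2 (iv F44809) D14548 (iv D10031)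
def n14549 : Q := act 8 n10014
theorem D14549 : act 8 n10014 = n14549 := rfl
theorem F63811 : act 0 n14549 = n10019 := d7_1 D14549 (iv D10019) (iv F44805)
theorem F63812 : act 2 n14549 = n10016 := d22_1 D14549 (iv D10016) D10014
theorem F63813 : act 6 n14549 = n14549 := d40_1 D14549 (iv D14549) F44807
theorem F63814 : act 7 n14549 = n10057 := d42_1 D14549 (iv D10057) (iv F44808)
def n14550 : Q := act 4 n10015
theorem D14550 : act 4 n10015 = n14550 := rfl
theorem F63815 : act 0 n14550 = n10020 := d3_1 D14550 (iv D10020) (iv F44810)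
theorem F63816 : act 1 n14550 = n14550 := d11_1 D14550 (iv D14550) F44811
theorem F63817 : act 3 n14550 = n14550 := d24_1 D14550 (iv D14550) F44812 F31579 (iv F44812)
theorem F63818 : act 7 n14550 = n10058 := d32_2 (iv F44813) D14550 (iv D10058)
theorem F63819 : act 9 n14550 = n10033 := d34_2 (iv F44814) D14550 (iv D10033)
def n14551 : Q := act 6 n10015
theorem D14551 : act 6 n10015 = n14551 := rfl
theorem F63820 : act 0 n14551 = n10021 := d5_1 D14551 (iv D10021) (iv F44810)
theorem F63821 : act 1 n14551 = n14551 := d13_1 D14551 (iv D14551) F44811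
theorem F63822 : act 3 n14551 = n10017 := d26_1 D14551 (iv D10017) (iv F44812)
theorem F63823 : act 5 n14551 = n14551 := d35_1 D14551 (iv D14551) (iv D10015) F31573 D10015
theorem F63824 : act 9 n14551 = n10034 := d41_2 (iv F44814) D14551 (iv D10034)
def n14552 : Q := act 8 n10015
theorem D14552 : act 8 n10015 = n14552 := rfl
theorem F63825 : act 0 n14552 = n10022 := d7_1 D14552 (iv D10022) (iv F44810)
theorem F63826 : act 1 n14552 = n14552 := d15_1 D14552 (iv D14552) F44811
theorem F63827 : act 3 n14552 = n14552 := d28_1 D14552 (iv D14552) F44812 F31581 (iv F44812)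
theorem F63828 : act 5 n14552 = n10016 := d37_1 D14552 (iv D10016) D10015
theorem F63829 : act 7 n14552 = n10060 := d42_1 D14552 (iv D10060) (iv F44813)
def n14553 : Q := act 9 n10016
theorem D14553 : act 9 n10016 = n14553 := rfl
theorem F63830 : act 0 n14553 = n10023 := d8_1 D14553 (iv D10023) (iv F44815)
theorem F63831 : act 1 n14553 = n14553 := d16_1 D14553 (iv D14553) F44816
theorem F63832 : act 3 n14553 = n14553 := d29_1 D14553 (iv D14553) F44817
theorem F63833 : act 6 n14553 = n14553 := d41_1 D14553 (iv D14553) F44818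
theorem F63834 : act 7 n14553 = n10061 := d43_1 D14553 (iv D10061) (iv F44819)
theorem F63835 : act 8 n14553 = n10036 := d44_1 D14553 (iv D10036) (iv D6918) (iv F31575) D10016
def n14554 : Q := act 7 n10017
theorem D14554 : act 7 n10017 = n14554 := rfl
theorem F63836 : act 0 n14554 = n10024 := d6_1 D14554 (iv D10024) (iv F44820)
theorem F63837 : act 1 n14554 = n14554 := d14_1 D14554 (iv D14554) F44821
theorem F63838 : act 2 n14554 = n11003 := d21_1 D14554 (iv D11003) (iv F44822)
theorem F63839 : act 4 n14554 = n14554 := d32_1 D14554 (iv D14554) F44823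
theorem F63840 : act 5 n14554 = n14554 := d36_1 D14554 (iv D14554) F44824
theorem F63841 : act 6 n14554 = n10062 := d39_1 D14554 (iv D10062) (iv D6935) (iv F31580) D10017
theorem F63842 : act 8 n14554 = n14554 := d42_2 F44825 D14554 (iv D14554)
theorem F63843 : act 9 n14554 = n10037 := d43_2 (iv F44826) D14554 (iv D10037)
def n14555 : Q := act 4 n10018
theorem D14555 : act 4 n10018 = n14555 := rfl
theorem F63844 : act 2 n14555 = n10020 := d18_1 D14555 (iv D10020) (iv F44827)
theorem F63845 : act 7 n14555 = n10063 := d32_2 (iv F44829) D14555 (iv D10063)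
theorem F63846 : act 9 n14555 = n10038 := d34_2 (iv F44830) D14555 (iv D10038)
def n14556 : Q := act 6 n10018
theorem D14556 : act 6 n10018 = n14556 := rfl
theorem F63847 : act 2 n14556 = n10021 := d20_1 D14556 (iv D10021) (iv F44827)
theorem F63848 : act 3 n14556 = n11005 := d26_1 D14556 (iv D11005) (iv F44828)
theorem F63849 : act 5 n14556 = n14556 := d35_1 D14556 (iv D14556) (iv D10018) F31584 D10018
theorem F63850 : act 9 n14556 = n10039 := d41_2 (iv F44830) D14556 (iv D10039)
def n14557 : Q := act 8 n10018
theorem D14557 : act 8 n10018 = n14557 := rfl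
theorem F63851 : act 2 n14557 = n10022 := d22_1 D14557 (iv D10022) (iv F44827)
theorem F63852 : act 5 n14557 = n10019 := d37_1 D14557 (iv D10019) D10018
theorem F63853 : act 7 n14557 = n10065 := d42_1 D14557 (iv D10065) (iv F44829)
def n14558 : Q := act 3 n10019
theorem D14558 : act 3 n10019 = n14558 := rfl
theorem F63854 : act 2 n14558 = n14558 := d17_1 D14558 (iv D14558) F44831 F31592 (iv F44831)
theorem F63855 : act 6 n14558 = n14558 := d26_2 F44832 D14558 (iv D14558)
theorem F63856 : act 7 n14558 = n10066 := d27_2 (iv F44833) D14558 (iv D10066)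
theorem F63857 : act 8 n14558 = n11007 := d28_2 D10019 D14558 (iv D11007) (iv D7580) (iv F31583)
def n14559 : Q := act 9 n10019
theorem D14559 : act 9 n10019 = n14559 := rfl
theorem F63858 : act 2 n14559 = n10023 := d23_1 D14559 (iv D10023) (iv F44831)
theorem F63859 : act 6 n14559 = n14559 := d41_1 D14559 (iv D14559) F44832
theorem F63860 : act 7 n14559 = n10067 := d43_1 D14559 (iv D10067) (iv F44833)
theorem F63861 : act 8 n14559 = n10042 := d44_1 D14559 (iv D10042) (iv D6921) (iv F31586) D10019
def n14560 : Q := act 6 n10020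
theorem D14560 : act 6 n10020 = n14560 := rfl
theorem F63862 : act 1 n14560 = n10025 := d13_1 D14560 (iv D10025) (iv F44834)
theorem F63863 : act 3 n14560 = n14560 := d26_1 D14560 (iv D14560) F44835
theorem F63864 : act 4 n14560 = n10021 := d31_1 D14560 (iv D10021) D10020
theorem F63865 : act 9 n14560 = n10043 := d41_2 (iv F44837) D14560 (iv D10043)
def n14561 : Q := act 8 n10020
theorem D14561 : act 8 n10020 = n14561 := rfl
theorem F63866 : act 1 n14561 = n10026 := d15_1 D14561 (iv D10026) (iv F44834)
theorem F63867 : act 4 n14561 = n10022 := d33_1 D14561 (iv D10022) D10020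
theorem F63868 : act 7 n14561 = n10069 := d42_1 D14561 (iv D10069) (iv F44836)
def n14562 : Q := act 7 n10021
theorem D14562 : act 7 n10021 = n14562 := rfl
theorem F63869 : act 1 n14562 = n10027 := d14_1 D14562 (iv D10027) (iv F44838)
theorem F63870 : act 3 n14562 = n10024 := d27_1 D14562 (iv D10024) (iv F44839)
theorem F63871 : act 5 n14562 = n14562 := d36_1 D14562 (iv D14562) F44840
theorem F63872 : act 6 n14562 = n10070 := d39_1 D14562 (iv D10070) (iv D6939) (iv F31589) D10021
theorem F63873 : act 9 n14562 = n10045 := d43_2 (iv F44841) D14562 (iv D10045)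
def n14563 : Q := act 8 n10021
theorem D14563 : act 8 n10021 = n14563 := rfl
theorem F63874 : act 1 n14563 = n10028 := d15_1 D14563 (iv D10028) (iv F44838)
theorem F63875 : act 3 n14563 = n14563 := d28_1 D14563 (iv D14563) F44839 F31599 (iv F44839)
theorem F63876 : act 5 n14563 = n14563 := d37_1 D14563 (iv D14563) F44840
theorem F63877 : act 6 n14563 = n10022 := d40_1 D14563 (iv D10022) D10021
def n14564 : Q := act 9 n10022
theorem D14564 : act 9 n10022 = n14564 := rfl
theorem F63878 : act 1 n14564 = n10029 := d16_1 D14564 (iv D10029) (iv F44842)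
theorem F63879 : act 3 n14564 = n14564 := d29_1 D14564 (iv D14564) F44843
theorem F63880 : act 5 n14564 = n10023 := d38_1 D14564 (iv D10023) (iv F44844)
theorem F63881 : act 7 n14564 = n10072 := d43_1 D14564 (iv D10072) (iv F44845)
theorem F63882 : act 8 n14564 = n10047 := d44_1 D14564 (iv D10047) (iv D6924) (iv F31590) D10022
def n14565 : Q := act 5 n10025
theorem D14565 : act 5 n10025 = n14565 := rfl
theorem F63883 : act 0 n14565 = n14565 := d4_1 D14565 (iv D14565) F44858
theorem F63884 : act 3 n14565 = n14565 := d25_1 D14565 (iv D14565) F44859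
theorem F63885 : act 4 n14565 = n14565 := d30_1 D14565 (iv D14565) F44860 F31607 (iv F44860)
theorem F63886 : act 9 n14565 = n10048 := d38_2 (iv F44861) D14565 (iv D10048)
def n14566 : Q := act 7 n10025
theorem D14566 : act 7 n10025 = n14566 := rfl
theorem F63887 : act 0 n14566 = n14566 := d6_1 D14566 (iv D14566) F44858
theorem F63888 : act 3 n14566 = n14566 := d27_1 D14566 (iv D14566) F44859
theorem F63889 : act 4 n14566 = n10027 := d32_1 D14566 (iv D10027) (iv F44860)
theorem F63890 : act 6 n14566 = n10074 := d39_1 D14566 (iv D10074) (iv D6943) (iv F31603) D10025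
theorem F63891 : act 9 n14566 = n10049 := d43_2 (iv F44861) D14566 (iv D10049)
def n14567 : Q := act 8 n10025
theorem D14567 : act 8 n10025 = n14567 := rfl
theorem F63892 : act 0 n14567 = n14567 := d7_1 D14567 (iv D14567) F44858
theorem F63893 : act 4 n14567 = n10028 := d33_1 D14567 (iv D10028) (iv F44860)
theorem F63894 : act 6 n14567 = n10026 := d40_1 D14567 (iv D10026) D10025
def n14568 : Q := act 3 n10026
theorem D14568 : act 3 n10026 = n14568 := rfl
theorem F63895 : act 0 n14568 = n14568 := d2_1 D14568 (iv D14568) F44862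
theorem F63896 : act 4 n14568 = n14568 := d24_2 (iv F44863) D14568 (iv D14568) F44863 F31610
theorem F63897 : act 7 n14568 = n10076 := d27_2 (iv F44864) D14568 (iv D10076)
theorem F63898 : act 8 n14568 = n14568 := d28_2 D10026 D14568 (iv D14568) (iv D10026) F31602
def n14569 : Q := act 9 n10026
theorem D14569 : act 9 n10026 = n14569 := rfl
theorem F63899 : act 0 n14569 = n14569 := d8_1 D14569 (iv D14569) F44862
theorem F63900 : act 4 n14569 = n10029 := d34_1 D14569 (iv D10029) (iv F44863)
theorem F63901 : act 7 n14569 = n10077 := d43_1 D14569 (iv D10077) (iv F44864)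
theorem F63902 : act 8 n14569 = n10052 := d44_1 D14569 (iv D10052) (iv D6928) (iv F31604) D10026
def n14570 : Q := act 8 n10027
theorem D14570 : act 8 n10027 = n14570 := rfl
theorem F63903 : act 0 n14570 = n14570 := d7_1 D14570 (iv D14570) F44865
theorem F63904 : act 3 n14570 = n14570 := d28_1 D14570 (iv D14570) F44866 F31623 (iv F44866)
theorem F63905 : act 5 n14570 = n14570 := d37_1 D14570 (iv D14570) F44867
theorem F63906 : act 6 n14570 = n10078 := d40_1 D14570 (iv D10078) (iv F44868)
theorem F63907 : act 7 n14570 = n10028 := d42_1 D14570 (iv D10028) D10027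
def n14571 : Q := act 9 n10028
theorem D14571 : act 9 n10028 = n14571 := rfl
theorem F63908 : act 0 n14571 = n14571 := d8_1 D14571 (iv D14571) F44870
theorem F63909 : act 3 n14571 = n14571 := d29_1 D14571 (iv D14571) F44871
theorem F63910 : act 5 n14571 = n14571 := d38_1 D14571 (iv D14571) F44872
theorem F63911 : act 6 n14571 = n10029 := d41_1 D14571 (iv D10029) (iv F44873)
theorem F63912 : act 8 n14571 = n10054 := d44_1 D14571 (iv D10054) (iv D6930) (iv F31608) D10028
def n14572 : Q := act 5 n10030
theorem D14572 : act 5 n10030 = n14572 := rfl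
theorem F63913 : act 1 n14572 = n10031 := d12_1 D14572 (iv D10031) D10030
theorem F63914 : act 2 n14572 = n14572 := d19_1 D14572 (iv D14572) F44879
theorem F63915 : act 3 n14572 = n11021 := d25_1 D14572 (iv D11021) (iv F44880)
theorem F63916 : act 7 n14572 = n10080 := d36_2 (iv F44882) D14572 (iv D10080)
def n14573 : Q := act 8 n10030
theorem D14573 : act 8 n10030 = n14573 := rfl
def n14574 : Q := act 4 n10031
theorem D14574 : act 4 n10031 = n14574 := rfl
theorem F63921 : act 0 n14574 = n10038 := d3_1 D14574 (iv D10038) (iv F44883)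
theorem F63922 : act 2 n14574 = n10033 := d18_1 D14574 (iv D10033) (iv F44884)
theorem F63923 : act 7 n14574 = n10082 := d32_2 (iv F44886) D14574 (iv D10082)
def n14575 : Q := act 6 n10031
theorem D14575 : act 6 n10031 = n14575 := rfl
theorem F63924 : act 0 n14575 = n10039 := d5_1 D14575 (iv D10039) (iv F44883)
theorem F63925 : act 2 n14575 = n10034 := d20_1 D14575 (iv D10034) (iv F44884)
theorem F63926 : act 3 n14575 = n11024 := d26_1 D14575 (iv D11024) (iv F44885)
theorem F63927 : act 5 n14575 = n14575 := d35_1 D14575 (iv D14575) (iv D10031) F31627 D10031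
def n14576 : Q := act 8 n10031
theorem D14576 : act 8 n10031 = n14576 := rfl
theorem F63928 : act 0 n14576 = n10040 := d7_1 D14576 (iv D10040) (iv F44883)
theorem F63929 : act 2 n14576 = n10035 := d22_1 D14576 (iv D10035) (iv F44884)
theorem F63930 : act 5 n14576 = n10032 := d37_1 D14576 (iv D10032) D10031
theorem F63931 : act 7 n14576 = n10084 := d42_1 D14576 (iv D10084) (iv F44886)
def n14577 : Q := act 3 n10032
theorem D14577 : act 3 n10032 = n14577 := rfl
theorem F63932 : act 0 n14577 = n10041 := d2_1 D14577 (iv D10041) (iv F44887)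
theorem F63936 : act 8 n14577 = n11026 := d28_2 D10032 D14577 (iv D11026) (iv D7593) (iv F31626)
def n14578 : Q := act 9 n10032
theorem D14578 : act 9 n10032 = n14578 := rfl
theorem F63937 : act 0 n14578 = n10042 := d8_1 D14578 (iv D10042) (iv F44887)
theorem F63938 : act 2 n14578 = n10036 := d23_1 D14578 (iv D10036) (iv F44888)
theorem F63939 : act 6 n14578 = n14578 := d41_1 D14578 (iv D14578) F44889
theorem F63940 : act 7 n14578 = n10086 := d43_1 D14578 (iv D10086) (iv F44890)
def n14579 : Q := act 6 n10033
theorem D14579 : act 6 n10033 = n14579 := rfl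
theorem F63941 : act 0 n14579 = n10043 := d5_1 D14579 (iv D10043) (iv F44891)
theorem F63942 : act 1 n14579 = n14579 := d13_1 D14579 (iv D14579) F44892
theorem F63943 : act 3 n14579 = n14579 := d26_1 D14579 (iv D14579) F44893
theorem F63944 : act 4 n14579 = n10034 := d31_1 D14579 (iv D10034) D10033
def n14580 : Q := act 8 n10033
theorem D14580 : act 8 n10033 = n14580 := rfl
theorem F63945 : act 0 n14580 = n10044 := d7_1 D14580 (iv D10044) (iv F44891)
theorem F63946 : act 1 n14580 = n14580 := d15_1 D14580 (iv D14580) F44892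
theorem F63947 : act 4 n14580 = n10035 := d33_1 D14580 (iv D10035) D10033
theorem F63948 : act 7 n14580 = n10088 := d42_1 D14580 (iv D10088) (iv F44894)
def n14581 : Q := act 7 n10034
theorem D14581 : act 7 n10034 = n14581 := rfl
theorem F63949 : act 0 n14581 = n10045 := d6_1 D14581 (iv D10045) (iv F44895)
theorem F63950 : act 1 n14581 = n14581 := d14_1 D14581 (iv D14581) F44896
theorem F63951 : act 3 n14581 = n10037 := d27_1 D14581 (iv D10037) (iv F44897)
theorem F63952 : act 5 n14581 = n14581 := d36_1 D14581 (iv D14581) F44898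
theorem F63953 : act 6 n14581 = n10089 := d39_1 D14581 (iv D10089) (iv D6952) (iv F31632) D10034
def n14582 : Q := act 8 n10034
theorem D14582 : act 8 n10034 = n14582 := rfl
theorem F63954 : act 0 n14582 = n10046 := d7_1 D14582 (iv D10046) (iv F44895)
theorem F63955 : act 1 n14582 = n14582 := d15_1 D14582 (iv D14582) F44896
theorem F63956 : act 3 n14582 = n10332 := d28_1 D14582 (iv D10332) F32421 (iv F31643) (iv F44897)
theorem F63957 : act 5 n14582 = n14582 := d37_1 D14582 (iv D14582) F44898
theorem F63958 : act 6 n14582 = n10035 := d40_1 D14582 (iv D10035) D10034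
def n14583 : Q := act 9 n10035
theorem D14583 : act 9 n10035 = n14583 := rfl
theorem F63959 : act 0 n14583 = n10047 := d8_1 D14583 (iv D10047) (iv F44899)
theorem F63960 : act 1 n14583 = n14583 := d16_1 D14583 (iv D14583) F44900
theorem F63961 : act 3 n14583 = n10333 := d29_1 D14583 (iv D10333) (iv F44901)
theorem F63962 : act 5 n14583 = n10036 := d38_1 D14583 (iv D10036) (iv F44902)
theorem F63963 : act 7 n14583 = n10091 := d43_1 D14583 (iv D10091) (iv F44903)
def n14584 : Q := act 3 n10038
theorem D14584 : act 3 n10038 = n14584 := rfl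
theorem F63964 : act 2 n14584 = n14584 := d17_1 D14584 (iv D14584) F44916 F31651 (iv F44916)
theorem F63965 : act 4 n14584 = n11033 := d24_2 D10038 D14584 (iv D11033) (iv D7599) (iv F31645)
theorem F63966 : act 7 n14584 = n10092 := d27_2 (iv F44917) D14584 (iv D10092)
def n14585 : Q := act 6 n10038
theorem D14585 : act 6 n10038 = n14585 := rfl
theorem F63967 : act 2 n14585 = n10043 := d20_1 D14585 (iv D10043) (iv F44916)
theorem F63968 : act 4 n14585 = n10039 := d31_1 D14585 (iv D10039) D10038
def n14586 : Q := act 8 n10038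
theorem D14586 : act 8 n10038 = n14586 := rfl
theorem F63969 : act 2 n14586 = n10044 := d22_1 D14586 (iv D10044) (iv F44916)
theorem F63970 : act 4 n14586 = n10040 := d33_1 D14586 (iv D10040) D10038
theorem F63971 : act 7 n14586 = n10094 := d42_1 D14586 (iv D10094) (iv F44917)
def n14587 : Q := act 7 n10039
theorem D14587 : act 7 n10039 = n14587 := rfl
theorem F63972 : act 2 n14587 = n10045 := d21_1 D14587 (iv D10045) (iv F44918)
theorem F63973 : act 3 n14587 = n11036 := d27_1 D14587 (iv D11036) (iv F44919)
theorem F63974 : act 5 n14587 = n14587 := d36_1 D14587 (iv D14587) F44920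
theorem F63975 : act 6 n14587 = n10095 := d39_1 D14587 (iv D10095) (iv D6957) (iv F31646) D10039
def n14588 : Q := act 8 n10039
theorem D14588 : act 8 n10039 = n14588 := rfl
theorem F63976 : act 2 n14588 = n10046 := d22_1 D14588 (iv D10046) (iv F44918)
theorem F63977 : act 5 n14588 = n14588 := d37_1 D14588 (iv D14588) F44920
theorem F63978 : act 6 n14588 = n10040 := d40_1 D14588 (iv D10040) D10039
def n14589 : Q := act 3 n10040
theorem D14589 : act 3 n10040 = n14589 := rfl
theorem F63979 : act 2 n14589 = n10339 := d17_1 D14589 (iv D10339) F32452 (iv F31657) (iv F44921)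
theorem F63980 : act 5 n14589 = n10041 := d25_2 (iv F44922) D14589 (iv D10041)
theorem F63981 : act 7 n14589 = n10097 := d27_2 (iv F44923) D14589 (iv D10097)
theorem F63982 : act 8 n14589 = n11038 := d28_2 D10040 D14589 (iv D11038) (iv D7601) (iv F31645)
def n14590 : Q := act 9 n10040
theorem D14590 : act 9 n10040 = n14590 := rfl
theorem F63983 : act 2 n14590 = n10047 := d23_1 D14590 (iv D10047) (iv F44921)
theorem F63984 : act 5 n14590 = n10042 := d38_1 D14590 (iv D10042) (iv F44922)
theorem F63985 : act 7 n14590 = n10098 := d43_1 D14590 (iv D10098) (iv F44923)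
def n14591 : Q := act 4 n10041
theorem D14591 : act 4 n10041 = n14591 := rfl
theorem F63986 : act 2 n14591 = n10341 := d18_1 D14591 (iv D10341) (iv F44924)
theorem F63987 : act 6 n14591 = n14591 := d31_2 F44925 D14591 (iv D14591)
theorem F63988 : act 7 n14591 = n10099 := d32_2 (iv F44926) D14591 (iv D10099)
theorem F63989 : act 8 n14591 = n11040 := d33_2 (iv F44927) D14591 (iv D11040)
def n14592 : Q := act 9 n10041
theorem D14592 : act 9 n10041 = n14592 := rfl
theorem F63990 : act 2 n14592 = n10342 := d23_1 D14592 (iv D10342) (iv F44924)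
theorem F63991 : act 3 n14592 = n10042 := d29_1 D14592 (iv D10042) D10041
theorem F63992 : act 6 n14592 = n14592 := d41_1 D14592 (iv D14592) F44925
theorem F63993 : act 7 n14592 = n10100 := d43_1 D14592 (iv D10100) (iv F44926)
def n14593 : Q := act 5 n10043
theorem D14593 : act 5 n10043 = n14593 := rfl
theorem F63994 : act 1 n14593 = n10048 := d12_1 D14593 (iv D10048) (iv F44931)
theorem F63995 : act 3 n14593 = n14593 := d25_1 D14593 (iv D14593) F44932
theorem F63996 : act 4 n14593 = n14593 := d30_1 D14593 (iv D14593) F44933 F31655 (iv F44933)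
def n14594 : Q := act 7 n10043
theorem D14594 : act 7 n10043 = n14594 := rfl
theorem F63997 : act 1 n14594 = n10049 := d14_1 D14594 (iv D10049) (iv F44931)
theorem F63998 : act 3 n14594 = n14594 := d27_1 D14594 (iv D14594) F44932
theorem F63999 : act 4 n14594 = n10045 := d32_1 D14594 (iv D10045) (iv F44933)
theorem F64000 : act 6 n14594 = n10102 := d39_1 D14594 (iv D10102) (iv D6961) (iv F31652) D10043
def n14595 : Q := act 8 n10043
theorem D14595 : act 8 n10043 = n14595 := rfl
theorem F64001 : act 1 n14595 = n10050 := d15_1 D14595 (iv D10050) (iv F44931)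
theorem F64002 : act 4 n14595 = n10046 := d33_1 D14595 (iv D10046) (iv F44933)
theorem F64003 : act 6 n14595 = n10044 := d40_1 D14595 (iv D10044) D10043
def n14596 : Q := act 3 n10044
theorem D14596 : act 3 n10044 = n14596 := rfl
theorem F64004 : act 1 n14596 = n10051 := d10_1 D14596 (iv D10051) (iv F44934)
theorem F64005 : act 4 n14596 = n10346 := d24_2 (iv F44935) D14596 (iv D10346) F32470 (iv F31657)
theorem F64006 : act 7 n14596 = n10104 := d27_2 (iv F44936) D14596 (iv D10104)
theorem F64007 : act 8 n14596 = n14596 := d28_2 D10044 D14596 (iv D14596) (iv D10044) F31651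
def n14597 : Q := act 9 n10044
theorem D14597 : act 9 n10044 = n14597 := rfl
theorem F64008 : act 1 n14597 = n10052 := d16_1 D14597 (iv D10052) (iv F44934)
theorem F64009 : act 4 n14597 = n10047 := d34_1 D14597 (iv D10047) (iv F44935)
theorem F64010 : act 7 n14597 = n10105 := d43_1 D14597 (iv D10105) (iv F44936)
def n14598 : Q := act 8 n10045
theorem D14598 : act 8 n10045 = n14598 := rfl
theorem F64011 : act 1 n14598 = n10053 := d15_1 D14598 (iv D10053) (iv F44937)
theorem F64012 : act 3 n14598 = n10348 := d28_1 D14598 (iv D10348) F32474 (iv F31669) (iv F44938)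
theorem F64013 : act 5 n14598 = n14598 := d37_1 D14598 (iv D14598) F44939
theorem F64014 : act 6 n14598 = n10106 := d40_1 D14598 (iv D10106) (iv F44940)
theorem F64015 : act 7 n14598 = n10046 := d42_1 D14598 (iv D10046) D10045
def n14599 : Q := act 9 n10046
theorem D14599 : act 9 n10046 = n14599 := rfl
theorem F64016 : act 1 n14599 = n10054 := d16_1 D14599 (iv D10054) (iv F44941)
theorem F64017 : act 3 n14599 = n10349 := d29_1 D14599 (iv D10349) (iv F44942)
theorem F64018 : act 5 n14599 = n14599 := d38_1 D14599 (iv D14599) F44943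
theorem F64019 : act 6 n14599 = n10047 := d41_1 D14599 (iv D10047) (iv F44944)
def n14600 : Q := act 7 n10048
theorem D14600 : act 7 n10048 = n14600 := rfl
theorem F64020 : act 0 n14600 = n14600 := d6_1 D14600 (iv D14600) F44949
theorem F64021 : act 3 n14600 = n14600 := d27_1 D14600 (iv D14600) F44950
theorem F64022 : act 4 n14600 = n14600 := d32_1 D14600 (iv D14600) F44951
theorem F64023 : act 5 n14600 = n10049 := d36_1 D14600 (iv D10049) D10048
def n14601 : Q := act 8 n10048
theorem D14601 : act 8 n10048 = n14601 := rfl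
theorem F64024 : act 0 n14601 = n14601 := d7_1 D14601 (iv D14601) F44949
theorem F64025 : act 4 n14601 = n14601 := d33_1 D14601 (iv D14601) F44951
theorem F64026 : act 5 n14601 = n10050 := d37_1 D14601 (iv D10050) D10048
def n14602 : Q := act 8 n10049
theorem D14602 : act 8 n10049 = n14602 := rfl
theorem F64027 : act 0 n14602 = n14602 := d7_1 D14602 (iv D14602) F44952
theorem F64028 : act 4 n14602 = n10053 := d33_1 D14602 (iv D10053) (iv F44954)
theorem F64029 : act 6 n14602 = n10110 := d40_1 D14602 (iv D10110) (iv F44955)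
theorem F64030 : act 7 n14602 = n10050 := d42_1 D14602 (iv D10050) D10049
def n14603 : Q := act 3 n10050
theorem D14603 : act 3 n10050 = n14603 := rfl
theorem F64031 : act 0 n14603 = n14603 := d2_1 D14603 (iv D14603) F44956
theorem F64032 : act 4 n14603 = n10353 := d24_2 (iv F44957) D14603 (iv D10353) F32499 (iv F31681)
theorem F64033 : act 6 n14603 = n10051 := d26_2 (iv F44958) D14603 (iv D10051)
theorem F64034 : act 8 n14603 = n14603 := d28_2 D10050 D14603 (iv D14603) (iv D10050) F31671
def n14604 : Q := act 9 n10050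
theorem D14604 : act 9 n10050 = n14604 := rfl
theorem F64035 : act 0 n14604 = n14604 := d8_1 D14604 (iv D14604) F44956
theorem F64036 : act 4 n14604 = n10054 := d34_1 D14604 (iv D10054) (iv F44957)
theorem F64037 : act 6 n14604 = n10052 := d41_1 D14604 (iv D10052) (iv F44958)
def n14605 : Q := act 2 n10051
theorem D14605 : act 2 n10051 = n14605 := rfl
theorem F64038 : act 0 n14605 = n14605 := d1_1 D14605 (iv D14605) F44959
theorem F64039 : act 4 n14605 = n10355 := d18_2 (iv F44960) D14605 (iv D10355)
theorem F64040 : act 7 n14605 = n10113 := d21_2 (iv F44961) D14605 (iv D10113)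
theorem F64041 : act 8 n14605 = n14605 := d22_2 F44962 D14605 (iv D14605)
def n14606 : Q := act 9 n10051
theorem D14606 : act 9 n10051 = n14606 := rfl
theorem F64042 : act 0 n14606 = n14606 := d8_1 D14606 (iv D14606) F44959
theorem F64043 : act 3 n14606 = n10052 := d29_1 D14606 (iv D10052) D10051
theorem F64044 : act 4 n14606 = n10356 := d34_1 D14606 (iv D10356) (iv F44960)
theorem F64045 : act 7 n14606 = n10114 := d43_1 D14606 (iv D10114) (iv F44961)
def n14607 : Q := act 9 n10053
theorem D14607 : act 9 n10053 = n14607 := rfl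
theorem F64046 : act 0 n14607 = n14607 := d8_1 D14607 (iv D14607) F44966
theorem F64047 : act 3 n14607 = n10357 := d29_1 D14607 (iv D10357) (iv F44967)
theorem F64048 : act 5 n14607 = n14607 := d38_1 D14607 (iv D14607) F44968
theorem F64049 : act 6 n14607 = n10115 := d41_1 D14607 (iv D10115) (iv F44969)
theorem F64050 : act 7 n14607 = n10054 := d43_1 D14607 (iv D10054) (iv F44970)
def n14608 : Q := act 5 n10055
theorem D14608 : act 5 n10055 = n14608 := rfl
theorem F64051 : act 1 n14608 = n10056 := d12_1 D14608 (iv D10056) D10055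
theorem F64052 : act 2 n14608 = n14608 := d19_1 D14608 (iv D14608) F44975
theorem F64053 : act 3 n14608 = n11057 := d25_1 D14608 (iv D11057) (iv F44976)
theorem F64054 : act 9 n14608 = n10080 := d38_2 (iv F44978) D14608 (iv D10080)
def n14609 : Q := act 8 n10055
theorem D14609 : act 8 n10055 = n14609 := rfl
def n14610 : Q := act 4 n10056
theorem D14610 : act 4 n10056 = n14610 := rfl
theorem F64058 : act 0 n14610 = n10063 := d3_1 D14610 (iv D10063) (iv F44979)
theorem F64059 : act 2 n14610 = n10058 := d18_1 D14610 (iv D10058) (iv F44980)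
theorem F64060 : act 9 n14610 = n10082 := d34_2 (iv F44982) D14610 (iv D10082)
def n14611 : Q := act 6 n10056
theorem D14611 : act 6 n10056 = n14611 := rfl
theorem F64061 : act 0 n14611 = n10064 := d5_1 D14611 (iv D10064) (iv F44979)
theorem F64062 : act 2 n14611 = n10059 := d20_1 D14611 (iv D10059) (iv F44980)
theorem F64063 : act 3 n14611 = n11060 := d26_1 D14611 (iv D11060) (iv F44981)
theorem F64064 : act 5 n14611 = n10119 := d35_1 D14611 (iv D10119) (iv D6974) (iv F31690) D10056
theorem F64065 : act 9 n14611 = n10083 := d41_2 (iv F44982) D14611 (iv D10083)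
def n14612 : Q := act 8 n10056
theorem D14612 : act 8 n10056 = n14612 := rfl
theorem F64066 : act 0 n14612 = n10065 := d7_1 D14612 (iv D10065) (iv F44979)
theorem F64067 : act 2 n14612 = n10060 := d22_1 D14612 (iv D10060) (iv F44980)
theorem F64068 : act 5 n14612 = n10057 := d37_1 D14612 (iv D10057) D10056
def n14613 : Q := act 3 n10057
theorem D14613 : act 3 n10057 = n14613 := rfl
theorem F64072 : act 8 n14613 = n11062 := d28_2 D10057 D14613 (iv D11062) (iv D7618) (iv F31689)
def n14614 : Q := act 9 n10057
theorem D14614 : act 9 n10057 = n14614 := rfl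
theorem F64073 : act 0 n14614 = n10067 := d8_1 D14614 (iv D10067) (iv F44983)
theorem F64074 : act 2 n14614 = n10061 := d23_1 D14614 (iv D10061) (iv F44984)
theorem F64075 : act 6 n14614 = n10122 := d41_1 D14614 (iv D10122) (iv F44985)
theorem F64076 : act 8 n14614 = n10086 := d44_1 D14614 (iv D10086) (iv D6950) (iv F31691) D10057
def n14615 : Q := act 6 n10058
theorem D14615 : act 6 n10058 = n14615 := rfl
theorem F64077 : act 0 n14615 = n10068 := d5_1 D14615 (iv D10068) (iv F44986)
theorem F64078 : act 1 n14615 = n14615 := d13_1 D14615 (iv D14615) F44987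
theorem F64079 : act 3 n14615 = n14615 := d26_1 D14615 (iv D14615) F44988
theorem F64080 : act 4 n14615 = n10059 := d31_1 D14615 (iv D10059) D10058
theorem F64081 : act 9 n14615 = n10087 := d41_2 (iv F44989) D14615 (iv D10087)
def n14616 : Q := act 8 n10058
theorem D14616 : act 8 n10058 = n14616 := rfl
theorem F64082 : act 0 n14616 = n10069 := d7_1 D14616 (iv D10069) (iv F44986)
theorem F64083 : act 1 n14616 = n14616 := d15_1 D14616 (iv D14616) F44987
theorem F64084 : act 4 n14616 = n10060 := d33_1 D14616 (iv D10060) D10058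
def n14617 : Q := act 7 n10059
theorem D14617 : act 7 n10059 = n14617 := rfl
theorem F64085 : act 0 n14617 = n10070 := d6_1 D14617 (iv D10070) (iv F44990)
theorem F64086 : act 1 n14617 = n14617 := d14_1 D14617 (iv D14617) F44991
theorem F64087 : act 3 n14617 = n10062 := d27_1 D14617 (iv D10062) (iv F44992)
theorem F64088 : act 5 n14617 = n10125 := d36_1 D14617 (iv D10125) (iv F44993)
theorem F64089 : act 9 n14617 = n10089 := d43_2 (iv F44994) D14617 (iv D10089)
def n14618 : Q := act 8 n10059
theorem D14618 : act 8 n10059 = n14618 := rfl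
theorem F64090 : act 0 n14618 = n10071 := d7_1 D14618 (iv D10071) (iv F44990)
theorem F64091 : act 1 n14618 = n14618 := d15_1 D14618 (iv D14618) F44991
theorem F64092 : act 3 n14618 = n14618 := d28_1 D14618 (iv D14618) F44992 F31705 (iv F44992)
theorem F64093 : act 5 n14618 = n10126 := d37_1 D14618 (iv D10126) (iv F44993)
theorem F64094 : act 6 n14618 = n10060 := d40_1 D14618 (iv D10060) D10059
def n14619 : Q := act 9 n10060
theorem D14619 : act 9 n10060 = n14619 := rfl
theorem F64095 : act 0 n14619 = n10072 := d8_1 D14619 (iv D10072) (iv F44995)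
theorem F64096 : act 1 n14619 = n14619 := d16_1 D14619 (iv D14619) F44996
theorem F64097 : act 3 n14619 = n14619 := d29_1 D14619 (iv D14619) F44997
theorem F64098 : act 5 n14619 = n10061 := d38_1 D14619 (iv D10061) (iv F44998)
theorem F64099 : act 8 n14619 = n10091 := d44_1 D14619 (iv D10091) (iv D6953) (iv F31695) D10060
def n14620 : Q := act 3 n10063
theorem D14620 : act 3 n10063 = n14620 := rfl
theorem F64100 : act 2 n14620 = n14620 := d17_1 D14620 (iv D14620) F45011 F31713 (iv F45011)
theorem F64101 : act 4 n14620 = n11069 := d24_2 D10063 D14620 (iv D11069) (iv D7624) (iv F31708)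
theorem F64102 : act 9 n14620 = n10092 := d29_2 (iv F45012) D14620 (iv D10092)
def n14621 : Q := act 6 n10063
theorem D14621 : act 6 n10063 = n14621 := rfl
theorem F64103 : act 2 n14621 = n10068 := d20_1 D14621 (iv D10068) (iv F45011)
theorem F64104 : act 4 n14621 = n10064 := d31_1 D14621 (iv D10064) D10063
theorem F64105 : act 9 n14621 = n10093 := d41_2 (iv F45012) D14621 (iv D10093)
def n14622 : Q := act 8 n10063
theorem D14622 : act 8 n10063 = n14622 := rfl
theorem F64106 : act 2 n14622 = n10069 := d22_1 D14622 (iv D10069) (iv F45011)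
theorem F64107 : act 4 n14622 = n10065 := d33_1 D14622 (iv D10065) D10063
def n14623 : Q := act 7 n10064
theorem D14623 : act 7 n10064 = n14623 := rfl
theorem F64108 : act 2 n14623 = n10070 := d21_1 D14623 (iv D10070) (iv F45013)
theorem F64109 : act 3 n14623 = n11072 := d27_1 D14623 (iv D11072) (iv F45014)
theorem F64110 : act 5 n14623 = n10131 := d36_1 D14623 (iv D10131) (iv F45015)
theorem F64111 : act 9 n14623 = n10095 := d43_2 (iv F45016) D14623 (iv D10095)
def n14624 : Q := act 8 n10064
theorem D14624 : act 8 n10064 = n14624 := rfl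
theorem F64112 : act 2 n14624 = n10071 := d22_1 D14624 (iv D10071) (iv F45013)
theorem F64113 : act 5 n14624 = n10132 := d37_1 D14624 (iv D10132) (iv F45015)
theorem F64114 : act 6 n14624 = n10065 := d40_1 D14624 (iv D10065) D10064
def n14625 : Q := act 3 n10065
theorem D14625 : act 3 n10065 = n14625 := rfl
theorem F64115 : act 2 n14625 = n14625 := d17_1 D14625 (iv D14625) F45017 F31720 (iv F45017)
theorem F64116 : act 5 n14625 = n10066 := d25_2 (iv F45018) D14625 (iv D10066)
theorem F64117 : act 8 n14625 = n11074 := d28_2 D10065 D14625 (iv D11074) (iv D7626) (iv F31708)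
def n14626 : Q := act 9 n10065
theorem D14626 : act 9 n10065 = n14626 := rfl
theorem F64118 : act 2 n14626 = n10072 := d23_1 D14626 (iv D10072) (iv F45017)
theorem F64119 : act 5 n14626 = n10067 := d38_1 D14626 (iv D10067) (iv F45018)
theorem F64120 : act 8 n14626 = n10098 := d44_1 D14626 (iv D10098) (iv D6958) (iv F31709) D10065
def n14627 : Q := act 4 n10066
theorem D14627 : act 4 n10066 = n14627 := rfl
theorem F64123 : act 8 n14627 = n11076 := d33_2 (iv F45021) D14627 (iv D11076)
def n14628 : Q := act 9 n10066
theorem D14628 : act 9 n10066 = n14628 := rfl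
theorem F64124 : act 2 n14628 = n14628 := d23_1 D14628 (iv D14628) F45019
theorem F64125 : act 3 n14628 = n10067 := d29_1 D14628 (iv D10067) D10066
theorem F64126 : act 6 n14628 = n10136 := d41_1 D14628 (iv D10136) (iv F45020)
def n14629 : Q := act 5 n10068
theorem D14629 : act 5 n10068 = n14629 := rfl
theorem F64127 : act 1 n14629 = n10073 := d12_1 D14629 (iv D10073) (iv F45025)
theorem F64128 : act 3 n14629 = n14629 := d25_1 D14629 (iv D14629) F45026
theorem F64129 : act 4 n14629 = n10137 := d30_1 D14629 (iv D10137) F31883 (iv F31717) (iv F45027)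
theorem F64130 : act 9 n14629 = n10101 := d38_2 (iv F45028) D14629 (iv D10101)
def n14630 : Q := act 7 n10068
theorem D14630 : act 7 n10068 = n14630 := rfl
theorem F64131 : act 1 n14630 = n10074 := d14_1 D14630 (iv D10074) (iv F45025)
theorem F64132 : act 3 n14630 = n14630 := d27_1 D14630 (iv D14630) F45026
theorem F64133 : act 4 n14630 = n10070 := d32_1 D14630 (iv D10070) (iv F45027)
theorem F64134 : act 9 n14630 = n10102 := d43_2 (iv F45028) D14630 (iv D10102)
def n14631 : Q := act 8 n10068
theorem D14631 : act 8 n10068 = n14631 := rfl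
theorem F64135 : act 1 n14631 = n10075 := d15_1 D14631 (iv D10075) (iv F45025)
theorem F64136 : act 4 n14631 = n10071 := d33_1 D14631 (iv D10071) (iv F45027)
theorem F64137 : act 6 n14631 = n10069 := d40_1 D14631 (iv D10069) D10068
def n14632 : Q := act 3 n10069
theorem D14632 : act 3 n10069 = n14632 := rfl
theorem F64138 : act 1 n14632 = n10076 := d10_1 D14632 (iv D10076) (iv F45029)
theorem F64139 : act 4 n14632 = n14632 := d24_2 (iv F45030) D14632 (iv D14632) F45030 F31720
theorem F64140 : act 8 n14632 = n14632 := d28_2 D10069 D14632 (iv D14632) (iv D10069) F31713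
def n14633 : Q := act 9 n10069
theorem D14633 : act 9 n10069 = n14633 := rfl
theorem F64141 : act 1 n14633 = n10077 := d16_1 D14633 (iv D10077) (iv F45029)
theorem F64142 : act 4 n14633 = n10072 := d34_1 D14633 (iv D10072) (iv F45030)
theorem F64143 : act 8 n14633 = n10105 := d44_1 D14633 (iv D10105) (iv D6962) (iv F31714) D10069
def n14634 : Q := act 8 n10070
theorem D14634 : act 8 n10070 = n14634 := rfl
theorem F64144 : act 1 n14634 = n10078 := d15_1 D14634 (iv D10078) (iv F45031)
theorem F64145 : act 3 n14634 = n14634 := d28_1 D14634 (iv D14634) F45032 F31730 (iv F45032)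
theorem F64146 : act 5 n14634 = n10142 := d37_1 D14634 (iv D10142) (iv F45033)
theorem F64147 : act 7 n14634 = n10071 := d42_1 D14634 (iv D10071) D10070
def n14635 : Q := act 9 n10071
theorem D14635 : act 9 n10071 = n14635 := rfl
theorem F64148 : act 1 n14635 = n10079 := d16_1 D14635 (iv D10079) (iv F45035)
theorem F64149 : act 3 n14635 = n14635 := d29_1 D14635 (iv D14635) F45036
theorem F64150 : act 5 n14635 = n10143 := d38_1 D14635 (iv D10143) (iv F45037)
theorem F64151 : act 6 n14635 = n10072 := d41_1 D14635 (iv D10072) (iv F45038)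
theorem F64152 : act 8 n14635 = n10107 := d44_1 D14635 (iv D10107) (iv D6964) (iv F31718) D10071
def n14636 : Q := act 7 n10073
theorem D14636 : act 7 n10073 = n14636 := rfl
theorem F64153 : act 0 n14636 = n14636 := d6_1 D14636 (iv D14636) F45043
theorem F64154 : act 3 n14636 = n14636 := d27_1 D14636 (iv D14636) F45044
theorem F64155 : act 4 n14636 = n10144 := d32_1 D14636 (iv D10144) (iv F45045)
theorem F64156 : act 5 n14636 = n10074 := d36_1 D14636 (iv D10074) D10073
theorem F64157 : act 9 n14636 = n10108 := d43_2 (iv F45046) D14636 (iv D10108)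
def n14637 : Q := act 8 n10073
theorem D14637 : act 8 n10073 = n14637 := rfl
theorem F64158 : act 0 n14637 = n14637 := d7_1 D14637 (iv D14637) F45043
theorem F64159 : act 4 n14637 = n10145 := d33_1 D14637 (iv D10145) (iv F45045)
theorem F64160 : act 5 n14637 = n10075 := d37_1 D14637 (iv D10075) D10073
def n14638 : Q := act 8 n10074
theorem D14638 : act 8 n10074 = n14638 := rfl
theorem F64161 : act 0 n14638 = n14638 := d7_1 D14638 (iv D14638) F45047
theorem F64162 : act 4 n14638 = n10078 := d33_1 D14638 (iv D10078) (iv F45049)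
theorem F64163 : act 7 n14638 = n10075 := d42_1 D14638 (iv D10075) D10074
def n14639 : Q := act 3 n10075
theorem D14639 : act 3 n10075 = n14639 := rfl
theorem F64164 : act 0 n14639 = n14639 := d2_1 D14639 (iv D14639) F45051
theorem F64165 : act 4 n14639 = n14639 := d24_2 (iv F45052) D14639 (iv D14639) F45052 F31743
theorem F64166 : act 6 n14639 = n10076 := d26_2 (iv F45053) D14639 (iv D10076)
theorem F64167 : act 8 n14639 = n14639 := d28_2 D10075 D14639 (iv D14639) (iv D10075) F31733
def n14640 : Q := act 9 n10075
theorem D14640 : act 9 n10075 = n14640 := rfl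
theorem F64168 : act 0 n14640 = n14640 := d8_1 D14640 (iv D14640) F45051
theorem F64169 : act 4 n14640 = n10079 := d34_1 D14640 (iv D10079) (iv F45052)
theorem F64170 : act 6 n14640 = n10077 := d41_1 D14640 (iv D10077) (iv F45053)
theorem F64171 : act 8 n14640 = n10112 := d44_1 D14640 (iv D10112) (iv D6968) (iv F31735) D10075
def n14641 : Q := act 2 n10076
theorem D14641 : act 2 n10076 = n14641 := rfl
theorem F64172 : act 0 n14641 = n14641 := d1_1 D14641 (iv D14641) F45054
theorem F64173 : act 4 n14641 = n14641 := d18_2 F45055 D14641 (iv D14641)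
theorem F64174 : act 8 n14641 = n14641 := d22_2 F45056 D14641 (iv D14641)
def n14642 : Q := act 9 n10076
theorem D14642 : act 9 n10076 = n14642 := rfl
theorem F64175 : act 0 n14642 = n14642 := d8_1 D14642 (iv D14642) F45054
theorem F64176 : act 3 n14642 = n10077 := d29_1 D14642 (iv D10077) D10076
theorem F64177 : act 4 n14642 = n14642 := d34_1 D14642 (iv D14642) F45055
def n14643 : Q := act 9 n10078
theorem D14643 : act 9 n10078 = n14643 := rfl
theorem F64178 : act 0 n14643 = n14643 := d8_1 D14643 (iv D14643) F45060
theorem F64179 : act 3 n14643 = n14643 := d29_1 D14643 (iv D14643) F45061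
theorem F64180 : act 5 n14643 = n10151 := d38_1 D14643 (iv D10151) (iv F45062)
theorem F64181 : act 7 n14643 = n10079 := d43_1 D14643 (iv D10079) (iv F45063)
theorem F64182 : act 8 n14643 = n10115 := d44_1 D14643 (iv D10115) (iv D6971) (iv F31741) D10078
def n14644 : Q := act 4 n10080
theorem D14644 : act 4 n10080 = n14644 := rfl
theorem F64183 : act 1 n14644 = n10082 := d11_1 D14644 (iv D10082) (iv F45069)
theorem F64184 : act 2 n14644 = n14644 := d18_1 D14644 (iv D14644) F45070
def n14645 : Q := act 6 n10080
theorem D14645 : act 6 n10080 = n14645 := rfl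
theorem F64185 : act 1 n14645 = n10083 := d13_1 D14645 (iv D10083) (iv F45069)
theorem F64186 : act 2 n14645 = n14645 := d20_1 D14645 (iv D14645) F45070
theorem F64187 : act 3 n14645 = n11094 := d26_1 D14645 (iv D11094) (iv F45071)
theorem F64188 : act 5 n14645 = n10153 := d35_1 D14645 (iv D10153) (iv D6998) (iv F31752) D10080
def n14646 : Q := act 8 n10080
theorem D14646 : act 8 n10080 = n14646 := rfl
def n14648 : Q := act 9 n10081
theorem D14648 : act 9 n10081 = n14648 := rfl
def n14649 : Q := act 3 n10082
theorem D14649 : act 3 n10082 = n14649 := rfl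
theorem F64198 : act 0 n14649 = n10092 := d2_1 D14649 (iv D10092) (iv F45075)
theorem F64199 : act 2 n14649 = n14649 := d17_1 D14649 (iv D14649) F45076 F31761 (iv F45076)
theorem F64200 : act 4 n14649 = n11098 := d24_2 D10082 D14649 (iv D11098) (iv D7643) (iv F31755)
def n14650 : Q := act 6 n10082
theorem D14650 : act 6 n10082 = n14650 := rfl
theorem F64201 : act 0 n14650 = n10093 := d5_1 D14650 (iv D10093) (iv F45075)
theorem F64202 : act 2 n14650 = n10087 := d20_1 D14650 (iv D10087) (iv F45076)
theorem F64203 : act 4 n14650 = n10083 := d31_1 D14650 (iv D10083) D10082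
def n14651 : Q := act 8 n10082
theorem D14651 : act 8 n10082 = n14651 := rfl
theorem F64204 : act 0 n14651 = n10094 := d7_1 D14651 (iv D10094) (iv F45075)
theorem F64205 : act 2 n14651 = n10088 := d22_1 D14651 (iv D10088) (iv F45076)
theorem F64206 : act 4 n14651 = n10084 := d33_1 D14651 (iv D10084) D10082
def n14652 : Q := act 7 n10083
theorem D14652 : act 7 n10083 = n14652 := rfl
theorem F64207 : act 0 n14652 = n10095 := d6_1 D14652 (iv D10095) (iv F45077)
theorem F64208 : act 2 n14652 = n10089 := d21_1 D14652 (iv D10089) (iv F45078)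
theorem F64209 : act 3 n14652 = n11101 := d27_1 D14652 (iv D11101) (iv F45079)
theorem F64210 : act 5 n14652 = n10160 := d36_1 D14652 (iv D10160) (iv F45080)
def n14653 : Q := act 8 n10083
theorem D14653 : act 8 n10083 = n14653 := rfl
theorem F64211 : act 0 n14653 = n10096 := d7_1 D14653 (iv D10096) (iv F45077)
theorem F64212 : act 2 n14653 = n10090 := d22_1 D14653 (iv D10090) (iv F45078)
theorem F64213 : act 5 n14653 = n10161 := d37_1 D14653 (iv D10161) (iv F45080)
theorem F64214 : act 6 n14653 = n10084 := d40_1 D14653 (iv D10084) D10083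
def n14654 : Q := act 3 n10084
theorem D14654 : act 3 n10084 = n14654 := rfl
theorem F64215 : act 0 n14654 = n10097 := d2_1 D14654 (iv D10097) (iv F45081)
theorem F64218 : act 8 n14654 = n11103 := d28_2 D10084 D14654 (iv D11103) (iv D7645) (iv F31755)
def n14655 : Q := act 9 n10084
theorem D14655 : act 9 n10084 = n14655 := rfl
theorem F64219 : act 0 n14655 = n10098 := d8_1 D14655 (iv D10098) (iv F45081)
theorem F64220 : act 2 n14655 = n10091 := d23_1 D14655 (iv D10091) (iv F45082)
theorem F64221 : act 5 n14655 = n10086 := d38_1 D14655 (iv D10086) (iv F45083)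
def n14656 : Q := act 4 n10085
theorem D14656 : act 4 n10085 = n14656 := rfl
theorem F64222 : act 0 n14656 = n10099 := d3_1 D14656 (iv D10099) (iv F45084)
theorem F64225 : act 8 n14656 = n11105 := d33_2 (iv F45087) D14656 (iv D11105)
def n14658 : Q := act 5 n10087
theorem D14658 : act 5 n10087 = n14658 := rfl
theorem F64230 : act 0 n14658 = n10101 := d4_1 D14658 (iv D10101) (iv F45091)
theorem F64231 : act 1 n14658 = n14658 := d12_1 D14658 (iv D14658) F45092
theorem F64232 : act 3 n14658 = n14658 := d25_1 D14658 (iv D14658) F45093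
theorem F64233 : act 4 n14658 = n10166 := d30_1 D14658 (iv D10166) F31954 (iv F31765) (iv F45094)
def n14659 : Q := act 7 n10087
theorem D14659 : act 7 n10087 = n14659 := rfl
theorem F64234 : act 0 n14659 = n10102 := d6_1 D14659 (iv D10102) (iv F45091)
theorem F64235 : act 1 n14659 = n14659 := d14_1 D14659 (iv D14659) F45092
theorem F64236 : act 3 n14659 = n14659 := d27_1 D14659 (iv D14659) F45093
theorem F64237 : act 4 n14659 = n10089 := d32_1 D14659 (iv D10089) (iv F45094)
def n14660 : Q := act 8 n10087
theorem D14660 : act 8 n10087 = n14660 := rfl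
theorem F64238 : act 0 n14660 = n10103 := d7_1 D14660 (iv D10103) (iv F45091)
theorem F64239 : act 1 n14660 = n14660 := d15_1 D14660 (iv D14660) F45092
theorem F64240 : act 4 n14660 = n10090 := d33_1 D14660 (iv D10090) (iv F45094)
theorem F64241 : act 6 n14660 = n10088 := d40_1 D14660 (iv D10088) D10087
def n14661 : Q := act 3 n10088
theorem D14661 : act 3 n10088 = n14661 := rfl
theorem F64242 : act 0 n14661 = n10104 := d2_1 D14661 (iv D10104) (iv F45095)
theorem F64243 : act 1 n14661 = n14661 := d10_1 D14661 (iv D14661) F45096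
theorem F64244 : act 4 n14661 = n10375 := d24_2 (iv F45097) D14661 (iv D10375) F32558 (iv F31768)
theorem F64245 : act 8 n14661 = n14661 := d28_2 D10088 D14661 (iv D14661) (iv D10088) F31761
def n14662 : Q := act 9 n10088
theorem D14662 : act 9 n10088 = n14662 := rfl
theorem F64246 : act 0 n14662 = n10105 := d8_1 D14662 (iv D10105) (iv F45095)
theorem F64247 : act 1 n14662 = n14662 := d16_1 D14662 (iv D14662) F45096
theorem F64248 : act 4 n14662 = n10091 := d34_1 D14662 (iv D10091) (iv F45097)
def n14663 : Q := act 8 n10089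
theorem D14663 : act 8 n10089 = n14663 := rfl
theorem F64249 : act 0 n14663 = n10106 := d7_1 D14663 (iv D10106) (iv F45098)
theorem F64250 : act 1 n14663 = n14663 := d15_1 D14663 (iv D14663) F45099
theorem F64251 : act 3 n14663 = n10377 := d28_1 D14663 (iv D10377) F32562 (iv F31779) (iv F45100)
theorem F64252 : act 5 n14663 = n10171 := d37_1 D14663 (iv D10171) (iv F45101)
theorem F64253 : act 7 n14663 = n10090 := d42_1 D14663 (iv D10090) D10089
def n14664 : Q := act 9 n10090
theorem D14664 : act 9 n10090 = n14664 := rfl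
theorem F64254 : act 0 n14664 = n10107 := d8_1 D14664 (iv D10107) (iv F45102)
theorem F64255 : act 1 n14664 = n14664 := d16_1 D14664 (iv D14664) F45103
theorem F64256 : act 3 n14664 = n10378 := d29_1 D14664 (iv D10378) (iv F45104)
theorem F64257 : act 5 n14664 = n10172 := d38_1 D14664 (iv D10172) (iv F45105)
theorem F64258 : act 6 n14664 = n10091 := d41_1 D14664 (iv D10091) (iv F45106)
def n14665 : Q := act 6 n10092
theorem D14665 : act 6 n10092 = n14665 := rfl
theorem F64259 : act 2 n14665 = n14665 := d20_1 D14665 (iv D14665) F45111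
theorem F64260 : act 3 n14665 = n10093 := d26_1 D14665 (iv D10093) D10092
theorem F64261 : act 4 n14665 = n11114 := d31_1 D14665 (iv D11114) (iv F45112)
def n14666 : Q := act 8 n10092
theorem D14666 : act 8 n10092 = n14666 := rfl
theorem F64262 : act 2 n14666 = n14666 := d22_1 D14666 (iv D14666) F45111
theorem F64263 : act 4 n14666 = n11115 := d33_1 D14666 (iv D11115) (iv F45112)
def n14667 : Q := act 5 n10093
theorem D14667 : act 5 n10093 = n14667 := rfl
theorem F64264 : act 2 n14667 = n10101 := d19_1 D14667 (iv D10101) (iv F45113)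
theorem F64265 : act 4 n14667 = n10175 := d30_1 D14667 (iv D10175) F31976 (iv F31783) (iv F45114)
def n14668 : Q := act 7 n10093
theorem D14668 : act 7 n10093 = n14668 := rfl
theorem F64266 : act 2 n14668 = n10102 := d21_1 D14668 (iv D10102) (iv F45113)
theorem F64267 : act 4 n14668 = n10095 := d32_1 D14668 (iv D10095) (iv F45114)
def n14669 : Q := act 8 n10093
theorem D14669 : act 8 n10093 = n14669 := rfl
theorem F64268 : act 2 n14669 = n10103 := d22_1 D14669 (iv D10103) (iv F45113)
theorem F64269 : act 4 n14669 = n10096 := d33_1 D14669 (iv D10096) (iv F45114)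
theorem F64270 : act 6 n14669 = n10094 := d40_1 D14669 (iv D10094) D10093
def n14670 : Q := act 3 n10094
theorem D14670 : act 3 n10094 = n14670 := rfl
def n14671 : Q := act 9 n10094
theorem D14671 : act 9 n10094 = n14671 := rfl
theorem F64271 : act 2 n14671 = n10105 := d23_1 D14671 (iv D10105) (iv F45115)
theorem F64272 : act 4 n14671 = n10098 := d34_1 D14671 (iv D10098) (iv F45116)
def n14672 : Q := act 8 n10095
theorem D14672 : act 8 n10095 = n14672 := rfl
theorem F64273 : act 2 n14672 = n10106 := d22_1 D14672 (iv D10106) (iv F45117)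
theorem F64274 : act 5 n14672 = n10180 := d37_1 D14672 (iv D10180) (iv F45119)
theorem F64275 : act 7 n14672 = n10096 := d42_1 D14672 (iv D10096) D10095
def n14673 : Q := act 3 n10096
theorem D14673 : act 3 n10096 = n14673 := rfl
theorem F64276 : act 2 n14673 = n10387 := d17_1 D14673 (iv D10387) F32592 (iv F31800) (iv F45120)
theorem F64277 : act 5 n14673 = n10181 := d25_2 (iv F45121) D14673 (iv D10181)
theorem F64278 : act 6 n14673 = n10097 := d26_2 (iv F45122) D14673 (iv D10097)
theorem F64279 : act 8 n14673 = n11122 := d28_2 D10096 D14673 (iv D11122) (iv D7657) (iv F31782)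
def n14674 : Q := act 9 n10096
theorem D14674 : act 9 n10096 = n14674 := rfl
theorem F64280 : act 2 n14674 = n10107 := d23_1 D14674 (iv D10107) (iv F45120)
theorem F64281 : act 5 n14674 = n10182 := d38_1 D14674 (iv D10182) (iv F45121)
theorem F64282 : act 6 n14674 = n10098 := d41_1 D14674 (iv D10098) (iv F45122)
def n14675 : Q := act 4 n10097
theorem D14675 : act 4 n10097 = n14675 := rfl
theorem F64283 : act 2 n14675 = n10389 := d18_1 D14675 (iv D10389) (iv F45123)
theorem F64284 : act 8 n14675 = n11124 := d33_2 (iv F45125) D14675 (iv D11124)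
def n14676 : Q := act 9 n10097
theorem D14676 : act 9 n10097 = n14676 := rfl
theorem F64285 : act 2 n14676 = n10390 := d23_1 D14676 (iv D10390) (iv F45123)
theorem F64286 : act 3 n14676 = n10098 := d29_1 D14676 (iv D10098) D10097
theorem F64287 : act 5 n14676 = n10100 := d38_1 D14676 (iv D10100) (iv F45124)
def n14677 : Q := act 5 n10099
theorem D14677 : act 5 n10099 = n14677 := rfl
theorem F64288 : act 2 n14677 = n10391 := d19_1 D14677 (iv D10391) (iv F45128)
theorem F64289 : act 8 n14677 = n11126 := d37_2 (iv F45130) D14677 (iv D11126)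
def n14678 : Q := act 9 n10099
theorem D14678 : act 9 n10099 = n14678 := rfl
theorem F64290 : act 2 n14678 = n10392 := d23_1 D14678 (iv D10392) (iv F45128)
theorem F64291 : act 4 n14678 = n10100 := d34_1 D14678 (iv D10100) D10099
theorem F64292 : act 6 n14678 = n10186 := d41_1 D14678 (iv D10186) (iv F45129)
def n14680 : Q := act 7 n10101
theorem D14680 : act 7 n10101 = n14680 := rfl
theorem F64296 : act 1 n14680 = n10108 := d14_1 D14680 (iv D10108) (iv F45134)
theorem F64297 : act 3 n14680 = n14680 := d27_1 D14680 (iv D14680) F45135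
theorem F64298 : act 4 n14680 = n10188 := d32_1 D14680 (iv D10188) (iv F45136)
theorem F64299 : act 5 n14680 = n10102 := d36_1 D14680 (iv D10102) D10101
def n14681 : Q := act 8 n10101
theorem D14681 : act 8 n10101 = n14681 := rfl
theorem F64300 : act 1 n14681 = n10109 := d15_1 D14681 (iv D10109) (iv F45134)
theorem F64301 : act 4 n14681 = n10189 := d33_1 D14681 (iv D10189) (iv F45136)
theorem F64302 : act 5 n14681 = n10103 := d37_1 D14681 (iv D10103) D10101
def n14682 : Q := act 8 n10102
theorem D14682 : act 8 n10102 = n14682 := rfl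
theorem F64303 : act 1 n14682 = n10110 := d15_1 D14682 (iv D10110) (iv F45137)
theorem F64304 : act 4 n14682 = n10106 := d33_1 D14682 (iv D10106) (iv F45139)
theorem F64305 : act 7 n14682 = n10103 := d42_1 D14682 (iv D10103) D10102
def n14683 : Q := act 3 n10103
theorem D14683 : act 3 n10103 = n14683 := rfl
theorem F64306 : act 1 n14683 = n10111 := d10_1 D14683 (iv D10111) (iv F45140)
theorem F64307 : act 4 n14683 = n10397 := d24_2 (iv F45141) D14683 (iv D10397) F32619 (iv F31800)
theorem F64308 : act 6 n14683 = n10104 := d26_2 (iv F45142) D14683 (iv D10104)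
theorem F64309 : act 8 n14683 = n14683 := d28_2 D10103 D14683 (iv D14683) (iv D10103) F31792
def n14684 : Q := act 9 n10103
theorem D14684 : act 9 n10103 = n14684 := rfl
theorem F64310 : act 1 n14684 = n10112 := d16_1 D14684 (iv D10112) (iv F45140)
theorem F64311 : act 4 n14684 = n10107 := d34_1 D14684 (iv D10107) (iv F45141)
theorem F64312 : act 6 n14684 = n10105 := d41_1 D14684 (iv D10105) (iv F45142)
def n14685 : Q := act 2 n10104
theorem D14685 : act 2 n10104 = n14685 := rfl
theorem F64313 : act 4 n14685 = n10399 := d18_2 (iv F45144) D14685 (iv D10399)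
theorem F64314 : act 8 n14685 = n14685 := d22_2 F45145 D14685 (iv D14685)
def n14686 : Q := act 9 n10104
theorem D14686 : act 9 n10104 = n14686 := rfl
theorem F64315 : act 1 n14686 = n10114 := d16_1 D14686 (iv D10114) (iv F45143)
theorem F64316 : act 3 n14686 = n10105 := d29_1 D14686 (iv D10105) D10104
theorem F64317 : act 4 n14686 = n10400 := d34_1 D14686 (iv D10400) (iv F45144)
def n14687 : Q := act 9 n10106
theorem D14687 : act 9 n10106 = n14687 := rfl
theorem F64318 : act 1 n14687 = n10115 := d16_1 D14687 (iv D10115) (iv F45148)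
theorem F64319 : act 3 n14687 = n10401 := d29_1 D14687 (iv D10401) (iv F45149)
theorem F64320 : act 5 n14687 = n10195 := d38_1 D14687 (iv D10195) (iv F45150)
theorem F64321 : act 7 n14687 = n10107 := d43_1 D14687 (iv D10107) (iv F45151)
def n14688 : Q := act 6 n10108
theorem D14688 : act 6 n10108 = n14688 := rfl
theorem F64322 : act 0 n14688 = n14688 := d5_1 D14688 (iv D14688) F45156
theorem F64323 : act 3 n14688 = n14688 := d26_1 D14688 (iv D14688) F45157
theorem F64324 : act 4 n14688 = n10196 := d31_1 D14688 (iv D10196) (iv F45158)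
def n14689 : Q := act 8 n10108
theorem D14689 : act 8 n10108 = n14689 := rfl
theorem F64325 : act 0 n14689 = n14689 := d7_1 D14689 (iv D14689) F45156
theorem F64326 : act 4 n14689 = n10197 := d33_1 D14689 (iv D10197) (iv F45158)
theorem F64327 : act 5 n14689 = n10110 := d37_1 D14689 (iv D10110) (iv F45159)
theorem F64328 : act 7 n14689 = n10109 := d42_1 D14689 (iv D10109) D10108
def n14690 : Q := act 3 n10109
theorem D14690 : act 3 n10109 = n14690 := rfl
theorem F64329 : act 0 n14690 = n14690 := d2_1 D14690 (iv D14690) F45160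
theorem F64330 : act 5 n14690 = n10111 := d25_2 (iv F45162) D14690 (iv D10111)
theorem F64331 : act 8 n14690 = n14690 := d28_2 D10109 D14690 (iv D14690) (iv D10109) F31807
def n14691 : Q := act 9 n10109
theorem D14691 : act 9 n10109 = n14691 := rfl
theorem F64332 : act 0 n14691 = n14691 := d8_1 D14691 (iv D14691) F45160
theorem F64333 : act 4 n14691 = n10199 := d34_1 D14691 (iv D10199) (iv F45161)
theorem F64334 : act 5 n14691 = n10112 := d38_1 D14691 (iv D10112) (iv F45162)
def n14692 : Q := act 3 n10110
theorem D14692 : act 3 n10110 = n14692 := rfl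
theorem F64335 : act 0 n14692 = n14692 := d2_1 D14692 (iv D14692) F45163
theorem F64336 : act 4 n14692 = n10406 := d24_2 (iv F45164) D14692 (iv D10406) F32648 (iv F31821)
theorem F64337 : act 7 n14692 = n10111 := d27_2 (iv F45165) D14692 (iv D10111)
theorem F64338 : act 8 n14692 = n14692 := d28_2 D10110 D14692 (iv D14692) (iv D10110) F31810
def n14693 : Q := act 9 n10110
theorem D14693 : act 9 n10110 = n14693 := rfl
theorem F64339 : act 0 n14693 = n14693 := d8_1 D14693 (iv D14693) F45163
theorem F64340 : act 4 n14693 = n10115 := d34_1 D14693 (iv D10115) (iv F45164)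
theorem F64341 : act 7 n14693 = n10112 := d43_1 D14693 (iv D10112) (iv F45165)
def n14694 : Q := act 2 n10111
theorem D14694 : act 2 n10111 = n14694 := rfl
theorem F64342 : act 0 n14694 = n14694 := d1_1 D14694 (iv D14694) F45166
theorem F64343 : act 4 n14694 = n10408 := d18_2 (iv F45167) D14694 (iv D10408)
theorem F64344 : act 6 n14694 = n10113 := d20_2 (iv F45168) D14694 (iv D10113)
theorem F64345 : act 8 n14694 = n14694 := d22_2 F45169 D14694 (iv D14694)
def n14695 : Q := act 9 n10111
theorem D14695 : act 9 n10111 = n14695 := rfl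
theorem F64346 : act 0 n14695 = n14695 := d8_1 D14695 (iv D14695) F45166
theorem F64347 : act 3 n14695 = n10112 := d29_1 D14695 (iv D10112) D10111
theorem F64348 : act 4 n14695 = n10409 := d34_1 D14695 (iv D10409) (iv F45167)
theorem F64349 : act 6 n14695 = n10114 := d41_1 D14695 (iv D10114) (iv F45168)
def n14696 : Q := act 1 n10113
theorem D14696 : act 1 n10113 = n14696 := rfl
theorem F64350 : act 4 n14696 = n10410 := d11_2 (iv F45174) D14696 (iv D10410)
theorem F64351 : act 8 n14696 = n14696 := d15_2 F45175 D14696 (iv D14696)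
def n14697 : Q := act 9 n10113
theorem D14697 : act 9 n10113 = n14697 := rfl
theorem F64352 : act 0 n14697 = n14697 := d8_1 D14697 (iv D14697) F45173
theorem F64353 : act 2 n14697 = n10114 := d23_1 D14697 (iv D10114) D10113
theorem F64354 : act 4 n14697 = n10411 := d34_1 D14697 (iv D10411) (iv F45174)
def n14698 : Q := act 8 n10114
theorem D14698 : act 8 n10114 = n14698 := rfl
theorem F64355 : act 0 n14698 = n14698 := d7_1 D14698 (iv D14698) F45176
theorem F64356 : act 4 n14698 = n10412 := d33_1 D14698 (iv D10412) (iv F45178)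
theorem F64357 : act 9 n14698 = n14698 := d44_2 D10114 D14698 (iv D14698) (iv D10114) F31817
def n14699 : Q := act 4 n10116
theorem D14699 : act 4 n10116 = n14699 := rfl
theorem F64358 : act 1 n14699 = n10118 := d11_1 D14699 (iv D10118) (iv F45183)
theorem F64359 : act 2 n14699 = n14699 := d18_1 D14699 (iv D14699) F45184
theorem F64360 : act 7 n14699 = n14699 := d32_2 F45186 D14699 (iv D14699)
theorem F64361 : act 9 n14699 = n10152 := d34_2 (iv F45187) D14699 (iv D10152)
def n14700 : Q := act 6 n10116
theorem D14700 : act 6 n10116 = n14700 := rfl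
theorem F64362 : act 1 n14700 = n10119 := d13_1 D14700 (iv D10119) (iv F45183)
theorem F64363 : act 2 n14700 = n14700 := d20_1 D14700 (iv D14700) F45184
theorem F64364 : act 3 n14700 = n11149 := d26_1 D14700 (iv D11149) (iv F45185)
theorem F64365 : act 9 n14700 = n10153 := d41_2 (iv F45187) D14700 (iv D10153)
def n14701 : Q := act 8 n10116
theorem D14701 : act 8 n10116 = n14701 := rfl
def n14702 : Q := act 3 n10117
theorem D14702 : act 3 n10117 = n14702 := rfl
theorem F64372 : act 8 n14702 = n11151 := d28_2 D10117 D14702 (iv D11151) (iv D7678) (iv F31829)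
def n14704 : Q := act 3 n10118
theorem D14704 : act 3 n10118 = n14704 := rfl
theorem F64377 : act 0 n14704 = n10128 := d2_1 D14704 (iv D10128) (iv F45191)
theorem F64378 : act 2 n14704 = n10212 := d17_1 D14704 (iv D10212) F32061 (iv F31842) (iv F45192)
theorem F64379 : act 4 n14704 = n11153 := d24_2 D10118 D14704 (iv D11153) (iv D7679) (iv F31834)
theorem F64381 : act 9 n14704 = n10157 := d29_2 (iv F45194) D14704 (iv D10157)
def n14705 : Q := act 6 n10118
theorem D14705 : act 6 n10118 = n14705 := rfl
theorem F64382 : act 0 n14705 = n10129 := d5_1 D14705 (iv D10129) (iv F45191)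
theorem F64383 : act 2 n14705 = n10123 := d20_1 D14705 (iv D10123) (iv F45192)
theorem F64384 : act 4 n14705 = n10119 := d31_1 D14705 (iv D10119) D10118
theorem F64385 : act 9 n14705 = n10158 := d41_2 (iv F45194) D14705 (iv D10158)
def n14706 : Q := act 8 n10118
theorem D14706 : act 8 n10118 = n14706 := rfl
theorem F64386 : act 0 n14706 = n10130 := d7_1 D14706 (iv D10130) (iv F45191)
theorem F64387 : act 2 n14706 = n10124 := d22_1 D14706 (iv D10124) (iv F45192)
theorem F64388 : act 4 n14706 = n10120 := d33_1 D14706 (iv D10120) D10118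
theorem F64389 : act 7 n14706 = n14706 := d42_1 D14706 (iv D14706) F45193
def n14707 : Q := act 7 n10119
theorem D14707 : act 7 n10119 = n14707 := rfl
theorem F64390 : act 0 n14707 = n10131 := d6_1 D14707 (iv D10131) (iv F45195)
theorem F64391 : act 2 n14707 = n10125 := d21_1 D14707 (iv D10125) (iv F45196)
theorem F64392 : act 3 n14707 = n11156 := d27_1 D14707 (iv D11156) (iv F45197)
theorem F64393 : act 6 n14707 = n14707 := d39_1 D14707 (iv D14707) (iv D10119) F31835 D10119
theorem F64394 : act 9 n14707 = n10160 := d43_2 (iv F45198) D14707 (iv D10160)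
def n14708 : Q := act 8 n10119
theorem D14708 : act 8 n10119 = n14708 := rfl
theorem F64395 : act 0 n14708 = n10132 := d7_1 D14708 (iv D10132) (iv F45195)
theorem F64396 : act 2 n14708 = n10126 := d22_1 D14708 (iv D10126) (iv F45196)
theorem F64397 : act 6 n14708 = n10120 := d40_1 D14708 (iv D10120) D10119
def n14709 : Q := act 3 n10120
theorem D14709 : act 3 n10120 = n14709 := rfl
theorem F64402 : act 8 n14709 = n11158 := d28_2 D10120 D14709 (iv D11158) (iv D7681) (iv F31834)
def n14710 : Q := act 9 n10120
theorem D14710 : act 9 n10120 = n14710 := rfl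
theorem F64403 : act 0 n14710 = n10134 := d8_1 D14710 (iv D10134) (iv F45199)
theorem F64404 : act 2 n14710 = n10127 := d23_1 D14710 (iv D10127) (iv F45200)
theorem F64405 : act 5 n14710 = n10122 := d38_1 D14710 (iv D10122) (iv F45201)
theorem F64406 : act 7 n14710 = n14710 := d43_1 D14710 (iv D14710) F45202
theorem F64407 : act 8 n14710 = n10163 := d44_1 D14710 (iv D10163) (iv D7002) (iv F31836) D10120
def n14711 : Q := act 4 n10121
theorem D14711 : act 4 n10121 = n14711 := rfl
theorem F64411 : act 8 n14711 = n11160 := d33_2 (iv F45206) D14711 (iv D11160)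
def n14713 : Q := act 5 n10123
theorem D14713 : act 5 n10123 = n14713 := rfl
theorem F64416 : act 0 n14713 = n10137 := d4_1 D14713 (iv D10137) (iv F45211)
theorem F64417 : act 1 n14713 = n14713 := d12_1 D14713 (iv D14713) F45212
theorem F64418 : act 3 n14713 = n10221 := d25_1 D14713 (iv D10221) (iv F45213)
theorem F64419 : act 9 n14713 = n10166 := d38_2 (iv F45215) D14713 (iv D10166)
def n14714 : Q := act 7 n10123
theorem D14714 : act 7 n10123 = n14714 := rfl
theorem F64420 : act 0 n14714 = n10138 := d6_1 D14714 (iv D10138) (iv F45211)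
theorem F64421 : act 1 n14714 = n14714 := d14_1 D14714 (iv D14714) F45212
theorem F64422 : act 3 n14714 = n10222 := d27_1 D14714 (iv D10222) (iv F45213)
theorem F64423 : act 4 n14714 = n10125 := d32_1 D14714 (iv D10125) (iv F45214)
theorem F64424 : act 6 n14714 = n14714 := d39_1 D14714 (iv D14714) (iv D10123) F31843 D10123
theorem F64425 : act 9 n14714 = n10167 := d43_2 (iv F45215) D14714 (iv D10167)
def n14715 : Q := act 8 n10123
theorem D14715 : act 8 n10123 = n14715 := rfl
theorem F64426 : act 0 n14715 = n10139 := d7_1 D14715 (iv D10139) (iv F45211)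
theorem F64427 : act 1 n14715 = n14715 := d15_1 D14715 (iv D14715) F45212
theorem F64428 : act 4 n14715 = n10126 := d33_1 D14715 (iv D10126) (iv F45214)
theorem F64429 : act 6 n14715 = n10124 := d40_1 D14715 (iv D10124) D10123
def n14716 : Q := act 3 n10124
theorem D14716 : act 3 n10124 = n14716 := rfl
theorem F64430 : act 0 n14716 = n10140 := d2_1 D14716 (iv D10140) (iv F45216)
theorem F64434 : act 8 n14716 = n10224 := d28_2 D10124 D14716 (iv D10224) (iv D7042) (iv F31842)
def n14717 : Q := act 9 n10124
theorem D14717 : act 9 n10124 = n14717 := rfl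
theorem F64435 : act 0 n14717 = n10141 := d8_1 D14717 (iv D10141) (iv F45216)
theorem F64436 : act 1 n14717 = n14717 := d16_1 D14717 (iv D14717) F45217
theorem F64437 : act 4 n14717 = n10127 := d34_1 D14717 (iv D10127) (iv F45218)
theorem F64438 : act 7 n14717 = n14717 := d43_1 D14717 (iv D14717) F45219
theorem F64439 : act 8 n14717 = n10170 := d44_1 D14717 (iv D10170) (iv D7006) (iv F31844) D10124
def n14718 : Q := act 8 n10125
theorem D14718 : act 8 n10125 = n14718 := rfl
theorem F64440 : act 0 n14718 = n10142 := d7_1 D14718 (iv D10142) (iv F45220)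
theorem F64441 : act 1 n14718 = n14718 := d15_1 D14718 (iv D14718) F45221
theorem F64442 : act 3 n14718 = n14718 := d28_1 D14718 (iv D14718) F45222 F31864 (iv F45222)
theorem F64443 : act 6 n14718 = n14718 := d40_1 D14718 (iv D14718) F45223
theorem F64444 : act 7 n14718 = n10126 := d42_1 D14718 (iv D10126) D10125
def n14719 : Q := act 9 n10126
theorem D14719 : act 9 n10126 = n14719 := rfl
theorem F64445 : act 0 n14719 = n10143 := d8_1 D14719 (iv D10143) (iv F45225)
theorem F64446 : act 1 n14719 = n14719 := d16_1 D14719 (iv D14719) F45226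
theorem F64447 : act 3 n14719 = n14719 := d29_1 D14719 (iv D14719) F45227
theorem F64448 : act 6 n14719 = n10127 := d41_1 D14719 (iv D10127) (iv F45228)
theorem F64449 : act 8 n14719 = n10172 := d44_1 D14719 (iv D10172) (iv D7008) (iv F31848) D10126
def n14720 : Q := act 6 n10128
theorem D14720 : act 6 n10128 = n14720 := rfl
theorem F64450 : act 2 n14720 = n10228 := d20_1 D14720 (iv D10228) (iv F45235)
theorem F64451 : act 3 n14720 = n10129 := d26_1 D14720 (iv D10129) D10128
theorem F64452 : act 4 n14720 = n11169 := d31_1 D14720 (iv D11169) (iv F45236)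
theorem F64453 : act 9 n14720 = n10173 := d41_2 (iv F45238) D14720 (iv D10173)
def n14721 : Q := act 8 n10128
theorem D14721 : act 8 n10128 = n14721 := rfl
theorem F64454 : act 2 n14721 = n10229 := d22_1 D14721 (iv D10229) (iv F45235)
theorem F64455 : act 4 n14721 = n11170 := d33_1 D14721 (iv D11170) (iv F45236)
theorem F64456 : act 7 n14721 = n14721 := d42_1 D14721 (iv D14721) F45237
def n14722 : Q := act 5 n10129
theorem D14722 : act 5 n10129 = n14722 := rfl
theorem F64457 : act 2 n14722 = n10137 := d19_1 D14722 (iv D10137) (iv F45239)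
theorem F64458 : act 9 n14722 = n10175 := d38_2 (iv F45241) D14722 (iv D10175)
def n14723 : Q := act 7 n10129
theorem D14723 : act 7 n10129 = n14723 := rfl
theorem F64459 : act 2 n14723 = n10138 := d21_1 D14723 (iv D10138) (iv F45239)
theorem F64460 : act 4 n14723 = n10131 := d32_1 D14723 (iv D10131) (iv F45240)
theorem F64461 : act 6 n14723 = n14723 := d39_1 D14723 (iv D14723) (iv D10129) F31867 D10129
theorem F64462 : act 9 n14723 = n10176 := d43_2 (iv F45241) D14723 (iv D10176)
def n14724 : Q := act 8 n10129
theorem D14724 : act 8 n10129 = n14724 := rfl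
theorem F64463 : act 2 n14724 = n10139 := d22_1 D14724 (iv D10139) (iv F45239)
theorem F64464 : act 4 n14724 = n10132 := d33_1 D14724 (iv D10132) (iv F45240)
theorem F64465 : act 6 n14724 = n10130 := d40_1 D14724 (iv D10130) D10129
def n14725 : Q := act 3 n10130
theorem D14725 : act 3 n10130 = n14725 := rfl
theorem F64466 : act 7 n14725 = n14725 := d27_2 F45244 D14725 (iv D14725)
def n14726 : Q := act 9 n10130
theorem D14726 : act 9 n10130 = n14726 := rfl
theorem F64467 : act 2 n14726 = n10141 := d23_1 D14726 (iv D10141) (iv F45242)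
theorem F64468 : act 4 n14726 = n10134 := d34_1 D14726 (iv D10134) (iv F45243)
theorem F64469 : act 7 n14726 = n14726 := d43_1 D14726 (iv D14726) F45244
theorem F64470 : act 8 n14726 = n10179 := d44_1 D14726 (iv D10179) (iv D7012) (iv F31868) D10130
def n14727 : Q := act 8 n10131
theorem D14727 : act 8 n10131 = n14727 := rfl
theorem F64471 : act 2 n14727 = n10142 := d22_1 D14727 (iv D10142) (iv F45245)
theorem F64472 : act 6 n14727 = n14727 := d40_1 D14727 (iv D14727) F45247
theorem F64473 : act 7 n14727 = n10132 := d42_1 D14727 (iv D10132) D10131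
def n14728 : Q := act 3 n10132
theorem D14728 : act 3 n10132 = n14728 := rfl
theorem F64474 : act 2 n14728 = n14728 := d17_1 D14728 (iv D14728) F45249 F31893 (iv F45249)
theorem F64475 : act 6 n14728 = n10133 := d26_2 (iv F45250) D14728 (iv D10133)
theorem F64476 : act 8 n14728 = n11177 := d28_2 D10132 D14728 (iv D11177) (iv D7693) (iv F31870)
def n14729 : Q := act 9 n10132
theorem D14729 : act 9 n10132 = n14729 := rfl
theorem F64477 : act 2 n14729 = n10143 := d23_1 D14729 (iv D10143) (iv F45249)
theorem F64478 : act 6 n14729 = n10134 := d41_1 D14729 (iv D10134) (iv F45250)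
theorem F64479 : act 8 n14729 = n10182 := d44_1 D14729 (iv D10182) (iv D7014) (iv F31871) D10132
def n14730 : Q := act 4 n10133
theorem D14730 : act 4 n10133 = n14730 := rfl
theorem F64480 : act 2 n14730 = n14730 := d18_1 D14730 (iv D14730) F45251
theorem F64481 : act 7 n14730 = n14730 := d32_2 F45253 D14730 (iv D14730)
theorem F64482 : act 8 n14730 = n11179 := d33_2 (iv F45254) D14730 (iv D11179)
def n14731 : Q := act 9 n10133
theorem D14731 : act 9 n10133 = n14731 := rfl
theorem F64483 : act 2 n14731 = n14731 := d23_1 D14731 (iv D14731) F45251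
theorem F64484 : act 3 n14731 = n10134 := d29_1 D14731 (iv D10134) D10133
theorem F64485 : act 5 n14731 = n10136 := d38_1 D14731 (iv D10136) (iv F45252)
theorem F64486 : act 7 n14731 = n14731 := d43_1 D14731 (iv D14731) F45253
def n14732 : Q := act 5 n10135
theorem D14732 : act 5 n10135 = n14732 := rfl
theorem F64489 : act 8 n14732 = n11181 := d37_2 (iv F45261) D14732 (iv D11181)
def n14733 : Q := act 9 n10135
theorem D14733 : act 9 n10135 = n14733 := rfl
theorem F64491 : act 4 n14733 = n10136 := d34_1 D14733 (iv D10136) D10135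
def n14734 : Q := act 8 n10136
theorem D14734 : act 8 n10136 = n14734 := rfl
theorem F64494 : act 3 n14734 = n10187 := d28_1 D14734 (iv D10187) F31996 (iv F31880) (iv F45263)
theorem F64496 : act 9 n14734 = n11183 := d44_2 D10136 D14734 (iv D11183) (iv D7697) (iv F31877)
def n14735 : Q := act 7 n10137
theorem D14735 : act 7 n10137 = n14735 := rfl
theorem F64497 : act 1 n14735 = n10144 := d14_1 D14735 (iv D10144) (iv F45265)
theorem F64498 : act 3 n14735 = n10242 := d27_1 D14735 (iv D10242) (iv F45266)
theorem F64499 : act 5 n14735 = n10138 := d36_1 D14735 (iv D10138) D10137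
theorem F64500 : act 9 n14735 = n10188 := d43_2 (iv F45267) D14735 (iv D10188)
def n14736 : Q := act 8 n10137
theorem D14736 : act 8 n10137 = n14736 := rfl
theorem F64501 : act 1 n14736 = n10145 := d15_1 D14736 (iv D10145) (iv F45265)
theorem F64502 : act 5 n14736 = n10139 := d37_1 D14736 (iv D10139) D10137
def n14737 : Q := act 8 n10138
theorem D14737 : act 8 n10138 = n14737 := rfl
theorem F64503 : act 1 n14737 = n10146 := d15_1 D14737 (iv D10146) (iv F45268)
theorem F64504 : act 4 n14737 = n10142 := d33_1 D14737 (iv D10142) (iv F45270)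
theorem F64505 : act 6 n14737 = n14737 := d40_1 D14737 (iv D14737) F45271
theorem F64506 : act 7 n14737 = n10139 := d42_1 D14737 (iv D10139) D10138
def n14738 : Q := act 3 n10139
theorem D14738 : act 3 n10139 = n14738 := rfl
theorem F64507 : act 1 n14738 = n10147 := d10_1 D14738 (iv D10147) (iv F45273)
theorem F64508 : act 4 n14738 = n14738 := d24_2 (iv F45274) D14738 (iv D14738) F45274 F31893
theorem F64509 : act 6 n14738 = n10140 := d26_2 (iv F45275) D14738 (iv D10140)
theorem F64510 : act 8 n14738 = n10245 := d28_2 D10139 D14738 (iv D10245) (iv D7057) (iv F31882)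
def n14739 : Q := act 9 n10139
theorem D14739 : act 9 n10139 = n14739 := rfl
theorem F64511 : act 1 n14739 = n10148 := d16_1 D14739 (iv D10148) (iv F45273)
theorem F64512 : act 4 n14739 = n10143 := d34_1 D14739 (iv D10143) (iv F45274)
theorem F64513 : act 6 n14739 = n10141 := d41_1 D14739 (iv D10141) (iv F45275)
theorem F64514 : act 8 n14739 = n10192 := d44_1 D14739 (iv D10192) (iv D7021) (iv F31884) D10139
def n14740 : Q := act 2 n10140
theorem D14740 : act 2 n10140 = n14740 := rfl
theorem F64515 : act 4 n14740 = n14740 := d18_2 F45277 D14740 (iv D14740)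
theorem F64516 : act 7 n14740 = n14740 := d21_2 F45278 D14740 (iv D14740)
theorem F64517 : act 8 n14740 = n10247 := d22_2 (iv F45279) D14740 (iv D10247)
def n14741 : Q := act 9 n10140
theorem D14741 : act 9 n10140 = n14741 := rfl
theorem F64518 : act 1 n14741 = n10150 := d16_1 D14741 (iv D10150) (iv F45276)
theorem F64519 : act 3 n14741 = n10141 := d29_1 D14741 (iv D10141) D10140
theorem F64520 : act 4 n14741 = n14741 := d34_1 D14741 (iv D14741) F45277
theorem F64521 : act 7 n14741 = n14741 := d43_1 D14741 (iv D14741) F45278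
def n14742 : Q := act 9 n10142
theorem D14742 : act 9 n10142 = n14742 := rfl
theorem F64522 : act 1 n14742 = n10151 := d16_1 D14742 (iv D10151) (iv F45284)
theorem F64523 : act 3 n14742 = n14742 := d29_1 D14742 (iv D14742) F45285
theorem F64524 : act 6 n14742 = n14742 := d41_1 D14742 (iv D14742) F45286
theorem F64525 : act 7 n14742 = n10143 := d43_1 D14742 (iv D10143) (iv F45287)
theorem F64526 : act 8 n14742 = n10195 := d44_1 D14742 (iv D10195) (iv D7024) (iv F31891) D10142
def n14743 : Q := act 6 n10144
theorem D14743 : act 6 n10144 = n14743 := rfl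
theorem F64527 : act 0 n14743 = n14743 := d5_1 D14743 (iv D14743) F45292
theorem F64528 : act 3 n14743 = n10250 := d26_1 D14743 (iv D10250) (iv F45293)
theorem F64529 : act 5 n14743 = n14743 := d35_1 D14743 (iv D14743) F45294 F31906 (iv F45294)
theorem F64530 : act 9 n14743 = n10196 := d41_2 (iv F45295) D14743 (iv D10196)
def n14744 : Q := act 8 n10144
theorem D14744 : act 8 n10144 = n14744 := rfl
theorem F64531 : act 0 n14744 = n14744 := d7_1 D14744 (iv D14744) F45292
theorem F64532 : act 5 n14744 = n10146 := d37_1 D14744 (iv D10146) (iv F45294)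
theorem F64533 : act 7 n14744 = n10145 := d42_1 D14744 (iv D10145) D10144
def n14745 : Q := act 3 n10145
theorem D14745 : act 3 n10145 = n14745 := rfl
theorem F64534 : act 0 n14745 = n14745 := d2_1 D14745 (iv D14745) F45296
theorem F64535 : act 5 n14745 = n10147 := d25_2 (iv F45297) D14745 (iv D10147)
theorem F64536 : act 8 n14745 = n10252 := d28_2 D10145 D14745 (iv D10252) (iv D7063) (iv F31901)
def n14746 : Q := act 9 n10145
theorem D14746 : act 9 n10145 = n14746 := rfl
theorem F64537 : act 0 n14746 = n14746 := d8_1 D14746 (iv D14746) F45296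
theorem F64538 : act 5 n14746 = n10148 := d38_1 D14746 (iv D10148) (iv F45297)
theorem F64539 : act 8 n14746 = n10199 := d44_1 D14746 (iv D10199) (iv D7027) (iv F31902) D10145
def n14747 : Q := act 3 n10146
theorem D14747 : act 3 n10146 = n14747 := rfl
theorem F64540 : act 0 n14747 = n14747 := d2_1 D14747 (iv D14747) F45298
theorem F64541 : act 4 n14747 = n14747 := d24_2 (iv F45299) D14747 (iv D14747) F45299 F31920
theorem F64542 : act 6 n14747 = n14747 := d26_2 F45300 D14747 (iv D14747)
theorem F64543 : act 7 n14747 = n10147 := d27_2 (iv F45301) D14747 (iv D10147)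
theorem F64544 : act 8 n14747 = n10254 := d28_2 D10146 D14747 (iv D10254) (iv D7064) (iv F31904)
def n14748 : Q := act 9 n10146
theorem D14748 : act 9 n10146 = n14748 := rfl
theorem F64545 : act 0 n14748 = n14748 := d8_1 D14748 (iv D14748) F45298
theorem F64546 : act 4 n14748 = n10151 := d34_1 D14748 (iv D10151) (iv F45299)
theorem F64547 : act 6 n14748 = n14748 := d41_1 D14748 (iv D14748) F45300
theorem F64548 : act 7 n14748 = n10148 := d43_1 D14748 (iv D10148) (iv F45301)
theorem F64549 : act 8 n14748 = n10201 := d44_1 D14748 (iv D10201) (iv D7028) (iv F31907) D10146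
def n14749 : Q := act 2 n10147
theorem D14749 : act 2 n10147 = n14749 := rfl
theorem F64550 : act 0 n14749 = n14749 := d1_1 D14749 (iv D14749) F45302
theorem F64551 : act 4 n14749 = n14749 := d18_2 F45303 D14749 (iv D14749)
theorem F64552 : act 6 n14749 = n10149 := d20_2 (iv F45304) D14749 (iv D10149)
theorem F64553 : act 8 n14749 = n10256 := d22_2 (iv F45305) D14749 (iv D10256)
def n14750 : Q := act 9 n10147
theorem D14750 : act 9 n10147 = n14750 := rfl
theorem F64554 : act 0 n14750 = n14750 := d8_1 D14750 (iv D14750) F45302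
theorem F64555 : act 3 n14750 = n10148 := d29_1 D14750 (iv D10148) D10147
theorem F64556 : act 4 n14750 = n14750 := d34_1 D14750 (iv D14750) F45303
theorem F64557 : act 6 n14750 = n10150 := d41_1 D14750 (iv D10150) (iv F45304)
def n14751 : Q := act 1 n10149
theorem D14751 : act 1 n10149 = n14751 := rfl
theorem F64558 : act 4 n14751 = n14751 := d11_2 F45311 D14751 (iv D14751)
theorem F64559 : act 7 n14751 = n14751 := d14_2 F45312 D14751 (iv D14751)
theorem F64560 : act 8 n14751 = n10258 := d15_2 (iv F45313) D14751 (iv D10258)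
def n14752 : Q := act 9 n10149
theorem D14752 : act 9 n10149 = n14752 := rfl
theorem F64561 : act 0 n14752 = n14752 := d8_1 D14752 (iv D14752) F45310
theorem F64562 : act 2 n14752 = n10150 := d23_1 D14752 (iv D10150) D10149
theorem F64563 : act 4 n14752 = n14752 := d34_1 D14752 (iv D14752) F45311
theorem F64564 : act 7 n14752 = n14752 := d43_1 D14752 (iv D14752) F45312
def n14753 : Q := act 8 n10150
theorem D14753 : act 8 n10150 = n14753 := rfl
theorem F64565 : act 0 n14753 = n14753 := d7_1 D14753 (iv D14753) F45314
theorem F64566 : act 3 n14753 = n10206 := d28_1 D14753 (iv D10206) F32042 (iv F31918) (iv F45315)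
theorem F64567 : act 4 n14753 = n14753 := d33_1 D14753 (iv D14753) F45316
theorem F64568 : act 7 n14753 = n14753 := d42_1 D14753 (iv D14753) F45317
theorem F64569 : act 9 n14753 = n10260 := d44_2 D10150 D14753 (iv D10260) (iv D7068) (iv F31914)
def n14754 : Q := act 3 n10152
theorem D14754 : act 3 n10152 = n14754 := rfl
theorem F64570 : act 1 n14754 = n10157 := d10_1 D14754 (iv D10157) (iv F45323)
theorem F64571 : act 4 n14754 = n11202 := d24_2 D10152 D14754 (iv D11202) (iv D7713) (iv F31929)
theorem F64572 : act 7 n14754 = n14754 := d27_2 F45325 D14754 (iv D14754)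
def n14755 : Q := act 6 n10152
theorem D14755 : act 6 n10152 = n14755 := rfl
theorem F64573 : act 1 n14755 = n10158 := d13_1 D14755 (iv D10158) (iv F45323)
theorem F64574 : act 2 n14755 = n14755 := d20_1 D14755 (iv D14755) F45324
theorem F64575 : act 4 n14755 = n10153 := d31_1 D14755 (iv D10153) D10152
def n14756 : Q := act 8 n10152
theorem D14756 : act 8 n10152 = n14756 := rfl
theorem F64576 : act 1 n14756 = n10159 := d15_1 D14756 (iv D10159) (iv F45323)
def n14757 : Q := act 7 n10153
theorem D14757 : act 7 n10153 = n14757 := rfl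
theorem F64580 : act 1 n14757 = n10160 := d14_1 D14757 (iv D10160) (iv F45326)
theorem F64581 : act 2 n14757 = n14757 := d21_1 D14757 (iv D14757) F45327
theorem F64582 : act 3 n14757 = n11205 := d27_1 D14757 (iv D11205) (iv F45328)
theorem F64583 : act 6 n14757 = n14757 := d39_1 D14757 (iv D14757) (iv D10153) F31930 D10153
def n14758 : Q := act 8 n10153
theorem D14758 : act 8 n10153 = n14758 := rfl
def n14760 : Q := act 9 n10154
theorem D14760 : act 9 n10154 = n14760 := rfl
def n14764 : Q := act 6 n10157
theorem D14764 : act 6 n10157 = n14764 := rfl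
theorem F64605 : act 0 n14764 = n10173 := d5_1 D14764 (iv D10173) (iv F45339)
theorem F64606 : act 2 n14764 = n10267 := d20_1 D14764 (iv D10267) (iv F45340)
theorem F64607 : act 3 n14764 = n10158 := d26_1 D14764 (iv D10158) D10157
theorem F64608 : act 4 n14764 = n11212 := d31_1 D14764 (iv D11212) (iv F45341)
def n14765 : Q := act 8 n10157
theorem D14765 : act 8 n10157 = n14765 := rfl
theorem F64609 : act 0 n14765 = n10174 := d7_1 D14765 (iv D10174) (iv F45339)
theorem F64610 : act 2 n14765 = n10268 := d22_1 D14765 (iv D10268) (iv F45340)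
theorem F64611 : act 4 n14765 = n11213 := d33_1 D14765 (iv D11213) (iv F45341)
theorem F64612 : act 7 n14765 = n14765 := d42_1 D14765 (iv D14765) F45342
def n14766 : Q := act 5 n10158
theorem D14766 : act 5 n10158 = n14766 := rfl
theorem F64613 : act 0 n14766 = n10175 := d4_1 D14766 (iv D10175) (iv F45343)
theorem F64614 : act 2 n14766 = n10166 := d19_1 D14766 (iv D10166) (iv F45344)
def n14767 : Q := act 7 n10158
theorem D14767 : act 7 n10158 = n14767 := rfl
theorem F64615 : act 0 n14767 = n10176 := d6_1 D14767 (iv D10176) (iv F45343)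
theorem F64616 : act 2 n14767 = n10167 := d21_1 D14767 (iv D10167) (iv F45344)
theorem F64617 : act 4 n14767 = n10160 := d32_1 D14767 (iv D10160) (iv F45345)
theorem F64618 : act 6 n14767 = n14767 := d39_1 D14767 (iv D14767) (iv D10158) F31936 D10158
def n14768 : Q := act 8 n10158
theorem D14768 : act 8 n10158 = n14768 := rfl
theorem F64619 : act 0 n14768 = n10177 := d7_1 D14768 (iv D10177) (iv F45343)
theorem F64620 : act 2 n14768 = n10168 := d22_1 D14768 (iv D10168) (iv F45344)
theorem F64621 : act 4 n14768 = n10161 := d33_1 D14768 (iv D10161) (iv F45345)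
theorem F64622 : act 6 n14768 = n10159 := d40_1 D14768 (iv D10159) D10158
def n14769 : Q := act 3 n10159
theorem D14769 : act 3 n10159 = n14769 := rfl
theorem F64623 : act 0 n14769 = n10178 := d2_1 D14769 (iv D10178) (iv F45346)
theorem F64624 : act 7 n14769 = n14769 := d27_2 F45349 D14769 (iv D14769)
def n14770 : Q := act 9 n10159
theorem D14770 : act 9 n10159 = n14770 := rfl
theorem F64625 : act 0 n14770 = n10179 := d8_1 D14770 (iv D10179) (iv F45346)
theorem F64626 : act 2 n14770 = n10170 := d23_1 D14770 (iv D10170) (iv F45347)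
theorem F64627 : act 4 n14770 = n10163 := d34_1 D14770 (iv D10163) (iv F45348)
theorem F64628 : act 7 n14770 = n14770 := d43_1 D14770 (iv D14770) F45349
def n14771 : Q := act 8 n10160
theorem D14771 : act 8 n10160 = n14771 := rfl
theorem F64629 : act 0 n14771 = n10180 := d7_1 D14771 (iv D10180) (iv F45350)
theorem F64630 : act 2 n14771 = n10171 := d22_1 D14771 (iv D10171) (iv F45351)
theorem F64631 : act 6 n14771 = n14771 := d40_1 D14771 (iv D14771) F45353
theorem F64632 : act 7 n14771 = n10161 := d42_1 D14771 (iv D10161) D10160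
def n14772 : Q := act 3 n10161
theorem D14772 : act 3 n10161 = n14772 := rfl
theorem F64633 : act 0 n14772 = n10181 := d2_1 D14772 (iv D10181) (iv F45354)
def n14773 : Q := act 9 n10161
theorem D14773 : act 9 n10161 = n14773 := rfl
theorem F64637 : act 0 n14773 = n10182 := d8_1 D14773 (iv D10182) (iv F45354)
theorem F64638 : act 2 n14773 = n10172 := d23_1 D14773 (iv D10172) (iv F45355)
theorem F64639 : act 6 n14773 = n10163 := d41_1 D14773 (iv D10163) (iv F45356)
def n14774 : Q := act 4 n10162
theorem D14774 : act 4 n10162 = n14774 := rfl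
theorem F64640 : act 0 n14774 = n10183 := d3_1 D14774 (iv D10183) (iv F45357)
theorem F64643 : act 8 n14774 = n11222 := d33_2 (iv F45361) D14774 (iv D11222)
def n14776 : Q := act 5 n10164
theorem D14776 : act 5 n10164 = n14776 := rfl
theorem F64649 : act 0 n14776 = n10185 := d4_1 D14776 (iv D10185) (iv F45366)
theorem F64652 : act 8 n14776 = n11224 := d37_2 (iv F45369) D14776 (iv D11224)
def n14779 : Q := act 7 n10166
theorem D14779 : act 7 n10166 = n14779 := rfl
theorem F64661 : act 0 n14779 = n10188 := d6_1 D14779 (iv D10188) (iv F45374)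
theorem F64662 : act 1 n14779 = n14779 := d14_1 D14779 (iv D14779) F45375
theorem F64663 : act 3 n14779 = n10276 := d27_1 D14779 (iv D10276) (iv F45376)
theorem F64664 : act 5 n14779 = n10167 := d36_1 D14779 (iv D10167) D10166
def n14780 : Q := act 8 n10166
theorem D14780 : act 8 n10166 = n14780 := rfl
theorem F64665 : act 0 n14780 = n10189 := d7_1 D14780 (iv D10189) (iv F45374)
theorem F64666 : act 1 n14780 = n14780 := d15_1 D14780 (iv D14780) F45375
theorem F64667 : act 5 n14780 = n10168 := d37_1 D14780 (iv D10168) D10166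
def n14781 : Q := act 8 n10167
theorem D14781 : act 8 n10167 = n14781 := rfl
theorem F64668 : act 0 n14781 = n10190 := d7_1 D14781 (iv D10190) (iv F45377)
theorem F64669 : act 1 n14781 = n14781 := d15_1 D14781 (iv D14781) F45378
theorem F64670 : act 4 n14781 = n10171 := d33_1 D14781 (iv D10171) (iv F45380)
theorem F64671 : act 6 n14781 = n14781 := d40_1 D14781 (iv D14781) F45381
theorem F64672 : act 7 n14781 = n10168 := d42_1 D14781 (iv D10168) D10167
def n14782 : Q := act 3 n10168
theorem D14782 : act 3 n10168 = n14782 := rfl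
theorem F64673 : act 0 n14782 = n10191 := d2_1 D14782 (iv D10191) (iv F45382)
theorem F64674 : act 1 n14782 = n14782 := d10_1 D14782 (iv D14782) F45383
theorem F64675 : act 4 n14782 = n10438 := d24_2 (iv F45384) D14782 (iv D10438) F32744 (iv F31965)
theorem F64676 : act 6 n14782 = n10169 := d26_2 (iv F45385) D14782 (iv D10169)
theorem F64677 : act 8 n14782 = n10279 := d28_2 D10168 D14782 (iv D10279) (iv D7082) (iv F31953)
def n14783 : Q := act 9 n10168
theorem D14783 : act 9 n10168 = n14783 := rfl
theorem F64678 : act 0 n14783 = n10192 := d8_1 D14783 (iv D10192) (iv F45382)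
theorem F64679 : act 1 n14783 = n14783 := d16_1 D14783 (iv D14783) F45383
theorem F64680 : act 4 n14783 = n10172 := d34_1 D14783 (iv D10172) (iv F45384)
theorem F64681 : act 6 n14783 = n10170 := d41_1 D14783 (iv D10170) (iv F45385)
def n14784 : Q := act 2 n10169
theorem D14784 : act 2 n10169 = n14784 := rfl
theorem F64682 : act 0 n14784 = n10193 := d1_1 D14784 (iv D10193) (iv F45386)
theorem F64683 : act 4 n14784 = n10440 := d18_2 (iv F45388) D14784 (iv D10440)
theorem F64684 : act 7 n14784 = n14784 := d21_2 F45389 D14784 (iv D14784)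
theorem F64685 : act 8 n14784 = n10281 := d22_2 (iv F45390) D14784 (iv D10281)
def n14785 : Q := act 9 n10169
theorem D14785 : act 9 n10169 = n14785 := rfl
theorem F64686 : act 0 n14785 = n10194 := d8_1 D14785 (iv D10194) (iv F45386)
theorem F64687 : act 1 n14785 = n14785 := d16_1 D14785 (iv D14785) F45387
theorem F64688 : act 3 n14785 = n10170 := d29_1 D14785 (iv D10170) D10169
theorem F64689 : act 4 n14785 = n10441 := d34_1 D14785 (iv D10441) (iv F45388)
theorem F64690 : act 7 n14785 = n14785 := d43_1 D14785 (iv D14785) F45389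
def n14786 : Q := act 9 n10171
theorem D14786 : act 9 n10171 = n14786 := rfl
theorem F64691 : act 0 n14786 = n10195 := d8_1 D14786 (iv D10195) (iv F45395)
theorem F64692 : act 1 n14786 = n14786 := d16_1 D14786 (iv D14786) F45396
theorem F64693 : act 3 n14786 = n10442 := d29_1 D14786 (iv D10442) (iv F45397)
theorem F64694 : act 6 n14786 = n14786 := d41_1 D14786 (iv D14786) F45398
theorem F64695 : act 7 n14786 = n10172 := d43_1 D14786 (iv D10172) (iv F45399)
def n14787 : Q := act 5 n10173
theorem D14787 : act 5 n10173 = n14787 := rfl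
theorem F64696 : act 2 n14787 = n10284 := d19_1 D14787 (iv D10284) (iv F45404)
theorem F64697 : act 3 n14787 = n10175 := d25_1 D14787 (iv D10175) (iv F45405)
def n14788 : Q := act 7 n10173
theorem D14788 : act 7 n10173 = n14788 := rfl
theorem F64698 : act 2 n14788 = n10285 := d21_1 D14788 (iv D10285) (iv F45404)
theorem F64699 : act 3 n14788 = n10176 := d27_1 D14788 (iv D10176) (iv F45405)
theorem F64700 : act 4 n14788 = n11233 := d32_1 D14788 (iv D11233) (iv F45406)
theorem F64701 : act 6 n14788 = n14788 := d39_1 D14788 (iv D14788) (iv D10173) F31974 D10173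
def n14789 : Q := act 8 n10173
theorem D14789 : act 8 n10173 = n14789 := rfl
theorem F64702 : act 2 n14789 = n10286 := d22_1 D14789 (iv D10286) (iv F45404)
theorem F64703 : act 4 n14789 = n11234 := d33_1 D14789 (iv D11234) (iv F45406)
theorem F64704 : act 6 n14789 = n10174 := d40_1 D14789 (iv D10174) D10173
def n14790 : Q := act 3 n10174
theorem D14790 : act 3 n10174 = n14790 := rfl
theorem F64705 : act 7 n14790 = n14790 := d27_2 F45409 D14790 (iv D14790)
theorem F64706 : act 8 n14790 = n10178 := d28_2 D10174 D14790 (iv D10178) (iv D7012) D7010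
def n14791 : Q := act 9 n10174
theorem D14791 : act 9 n10174 = n14791 := rfl
theorem F64707 : act 2 n14791 = n10288 := d23_1 D14791 (iv D10288) (iv F45407)
theorem F64708 : act 4 n14791 = n11236 := d34_1 D14791 (iv D11236) (iv F45408)
theorem F64709 : act 7 n14791 = n14791 := d43_1 D14791 (iv D14791) F45409
def n14792 : Q := act 7 n10175
theorem D14792 : act 7 n10175 = n14792 := rfl
theorem F64710 : act 2 n14792 = n10188 := d21_1 D14792 (iv D10188) (iv F45410)
theorem F64711 : act 5 n14792 = n10176 := d36_1 D14792 (iv D10176) D10175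
def n14793 : Q := act 8 n10175
theorem D14793 : act 8 n10175 = n14793 := rfl
theorem F64712 : act 2 n14793 = n10189 := d22_1 D14793 (iv D10189) (iv F45410)
theorem F64713 : act 5 n14793 = n10177 := d37_1 D14793 (iv D10177) D10175
def n14794 : Q := act 8 n10176
theorem D14794 : act 8 n10176 = n14794 := rfl
theorem F64714 : act 2 n14794 = n10190 := d22_1 D14794 (iv D10190) (iv F45411)
theorem F64715 : act 4 n14794 = n10180 := d33_1 D14794 (iv D10180) (iv F45412)
theorem F64716 : act 6 n14794 = n14794 := d40_1 D14794 (iv D14794) F45413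
theorem F64717 : act 7 n14794 = n10177 := d42_1 D14794 (iv D10177) D10176
def n14795 : Q := act 3 n10177
theorem D14795 : act 3 n10177 = n14795 := rfl
theorem F64718 : act 6 n14795 = n10178 := d26_2 (iv F45416) D14795 (iv D10178)
def n14796 : Q := act 9 n10177
theorem D14796 : act 9 n10177 = n14796 := rfl
theorem F64719 : act 2 n14796 = n10192 := d23_1 D14796 (iv D10192) (iv F45414)
theorem F64720 : act 4 n14796 = n10182 := d34_1 D14796 (iv D10182) (iv F45415)
theorem F64721 : act 6 n14796 = n10179 := d41_1 D14796 (iv D10179) (iv F45416)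
def n14797 : Q := act 2 n10178
theorem D14797 : act 2 n10178 = n14797 := rfl
theorem F64722 : act 3 n14797 = n10193 := d17_2 D10178 D14797 (iv D10193) (iv D7022) (iv F31977)
theorem F64723 : act 7 n14797 = n14797 := d21_2 F45417 D14797 (iv D14797)
def n14798 : Q := act 4 n10178
theorem D14798 : act 4 n10178 = n14798 := rfl
theorem F64724 : act 3 n14798 = n10183 := d24_1 D14798 (iv D10183) (iv D7015) (iv F31978) D10178
theorem F64725 : act 7 n14798 = n14798 := d32_2 F45417 D14798 (iv D14798)
def n14799 : Q := act 9 n10178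
theorem D14799 : act 9 n10178 = n14799 := rfl
theorem F64726 : act 3 n14799 = n10179 := d29_1 D14799 (iv D10179) D10178
theorem F64727 : act 7 n14799 = n14799 := d43_1 D14799 (iv D14799) F45417
def n14800 : Q := act 3 n10180
theorem D14800 : act 3 n10180 = n14800 := rfl
theorem F64728 : act 2 n14800 = n10451 := d17_1 D14800 (iv D10451) F32791 (iv F32015) (iv F45421)
theorem F64729 : act 6 n14800 = n14800 := d26_2 F45422 D14800 (iv D14800)
theorem F64730 : act 7 n14800 = n10181 := d27_2 (iv F45423) D14800 (iv D10181)
theorem F64731 : act 8 n14800 = n11244 := d28_2 D10180 D14800 (iv D11244) (iv D7740) (iv F31981)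
def n14801 : Q := act 9 n10180
theorem D14801 : act 9 n10180 = n14801 := rfl
theorem F64732 : act 2 n14801 = n10195 := d23_1 D14801 (iv D10195) (iv F45421)
theorem F64733 : act 6 n14801 = n14801 := d41_1 D14801 (iv D14801) F45422
theorem F64734 : act 7 n14801 = n10182 := d43_1 D14801 (iv D10182) (iv F45423)
def n14802 : Q := act 4 n10181
theorem D14802 : act 4 n10181 = n14802 := rfl
theorem F64735 : act 2 n14802 = n10453 := d18_1 D14802 (iv D10453) (iv F45424)
theorem F64736 : act 6 n14802 = n10183 := d31_2 (iv F45425) D14802 (iv D10183)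
theorem F64737 : act 8 n14802 = n11246 := d33_2 (iv F45426) D14802 (iv D11246)
def n14803 : Q := act 9 n10181
theorem D14803 : act 9 n10181 = n14803 := rfl
theorem F64738 : act 2 n14803 = n10454 := d23_1 D14803 (iv D10454) (iv F45424)
theorem F64739 : act 3 n14803 = n10182 := d29_1 D14803 (iv D10182) D10181
theorem F64740 : act 6 n14803 = n10184 := d41_1 D14803 (iv D10184) (iv F45425)
def n14804 : Q := act 5 n10183
theorem D14804 : act 5 n10183 = n14804 := rfl
theorem F64741 : act 2 n14804 = n10455 := d19_1 D14804 (iv D10455) (iv F45429)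
theorem F64742 : act 4 n14804 = n10185 := d30_1 D14804 (iv D10185) (iv D7017) (iv F31986) D10183
theorem F64743 : act 7 n14804 = n14804 := d36_2 F45430 D14804 (iv D14804)
theorem F64744 : act 8 n14804 = n11248 := d37_2 (iv F45431) D14804 (iv D11248)
def n14805 : Q := act 9 n10183
theorem D14805 : act 9 n10183 = n14805 := rfl
theorem F64745 : act 2 n14805 = n10456 := d23_1 D14805 (iv D10456) (iv F45429)
theorem F64746 : act 4 n14805 = n10184 := d34_1 D14805 (iv D10184) D10183
theorem F64747 : act 7 n14805 = n14805 := d43_1 D14805 (iv D14805) F45430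
def n14807 : Q := act 6 n10185
theorem D14807 : act 6 n10185 = n14807 := rfl
theorem F64752 : act 2 n14807 = n10458 := d20_1 D14807 (iv D10458) (iv F45436)
theorem F64753 : act 8 n14807 = n11251 := d40_2 (iv F45438) D14807 (iv D11251)
def n14808 : Q := act 9 n10185
theorem D14808 : act 9 n10185 = n14808 := rfl
theorem F64754 : act 2 n14808 = n10459 := d23_1 D14808 (iv D10459) (iv F45436)
theorem F64755 : act 5 n14808 = n10186 := d38_1 D14808 (iv D10186) D10185
theorem F64756 : act 7 n14808 = n14808 := d43_1 D14808 (iv D14808) F45437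
def n14809 : Q := act 8 n10186
theorem D14809 : act 8 n10186 = n14809 := rfl
theorem F64758 : act 4 n14809 = n10187 := d33_1 D14809 (iv D10187) (iv F45440)
theorem F64760 : act 9 n14809 = n11253 := d44_2 D10186 D14809 (iv D11253) (iv D7746) (iv F31994)
def n14810 : Q := act 6 n10188
theorem D14810 : act 6 n10188 = n14810 := rfl
theorem F64761 : act 1 n14810 = n10196 := d13_1 D14810 (iv D10196) (iv F45445)
theorem F64762 : act 3 n14810 = n10297 := d26_1 D14810 (iv D10297) (iv F45446)
theorem F64763 : act 5 n14810 = n14810 := d35_1 D14810 (iv D14810) F45447 F32003 (iv F45447)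
def n14811 : Q := act 8 n10188
theorem D14811 : act 8 n10188 = n14811 := rfl
theorem F64764 : act 1 n14811 = n10197 := d15_1 D14811 (iv D10197) (iv F45445)
theorem F64765 : act 5 n14811 = n10190 := d37_1 D14811 (iv D10190) (iv F45447)
theorem F64766 : act 7 n14811 = n10189 := d42_1 D14811 (iv D10189) D10188
def n14812 : Q := act 3 n10189
theorem D14812 : act 3 n10189 = n14812 := rfl
theorem F64767 : act 1 n14812 = n10198 := d10_1 D14812 (iv D10198) (iv F45448)
theorem F64768 : act 5 n14812 = n10191 := d25_2 (iv F45449) D14812 (iv D10191)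
theorem F64769 : act 8 n14812 = n10299 := d28_2 D10189 D14812 (iv D10299) (iv D7097) (iv F31999)
def n14813 : Q := act 9 n10189
theorem D14813 : act 9 n10189 = n14813 := rfl
theorem F64770 : act 1 n14813 = n10199 := d16_1 D14813 (iv D10199) (iv F45448)
theorem F64771 : act 5 n14813 = n10192 := d38_1 D14813 (iv D10192) (iv F45449)
def n14814 : Q := act 3 n10190
theorem D14814 : act 3 n10190 = n14814 := rfl
theorem F64772 : act 1 n14814 = n10200 := d10_1 D14814 (iv D10200) (iv F45450)
theorem F64773 : act 4 n14814 = n10465 := d24_2 (iv F45451) D14814 (iv D10465) F32828 (iv F32015)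
theorem F64774 : act 6 n14814 = n14814 := d26_2 F45452 D14814 (iv D14814)
theorem F64775 : act 7 n14814 = n10191 := d27_2 (iv F45453) D14814 (iv D10191)
theorem F64776 : act 8 n14814 = n10301 := d28_2 D10190 D14814 (iv D10301) (iv D7098) (iv F32001)
def n14815 : Q := act 9 n10190
theorem D14815 : act 9 n10190 = n14815 := rfl
theorem F64777 : act 1 n14815 = n10201 := d16_1 D14815 (iv D10201) (iv F45450)
theorem F64778 : act 4 n14815 = n10195 := d34_1 D14815 (iv D10195) (iv F45451)
theorem F64779 : act 6 n14815 = n14815 := d41_1 D14815 (iv D14815) F45452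
theorem F64780 : act 7 n14815 = n10192 := d43_1 D14815 (iv D10192) (iv F45453)
def n14816 : Q := act 2 n10191
theorem D14816 : act 2 n10191 = n14816 := rfl
theorem F64781 : act 4 n14816 = n10467 := d18_2 (iv F45455) D14816 (iv D10467)
theorem F64782 : act 6 n14816 = n10193 := d20_2 (iv F45456) D14816 (iv D10193)
theorem F64783 : act 8 n14816 = n10303 := d22_2 (iv F45457) D14816 (iv D10303)
def n14817 : Q := act 9 n10191
theorem D14817 : act 9 n10191 = n14817 := rfl
theorem F64784 : act 1 n14817 = n10203 := d16_1 D14817 (iv D10203) (iv F45454)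
theorem F64785 : act 3 n14817 = n10192 := d29_1 D14817 (iv D10192) D10191
theorem F64786 : act 4 n14817 = n10468 := d34_1 D14817 (iv D10468) (iv F45455)
theorem F64787 : act 6 n14817 = n10194 := d41_1 D14817 (iv D10194) (iv F45456)
def n14818 : Q := act 1 n10193
theorem D14818 : act 1 n10193 = n14818 := rfl
theorem F64788 : act 2 n14818 = n10204 := d9_2 D10193 D14818 (iv D10204) (iv D7031) (iv F32007)
theorem F64789 : act 4 n14818 = n10469 := d11_2 (iv F45461) D14818 (iv D10469)
theorem F64790 : act 7 n14818 = n14818 := d14_2 F45462 D14818 (iv D14818)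
theorem F64791 : act 8 n14818 = n10305 := d15_2 (iv F45463) D14818 (iv D10305)
def n14819 : Q := act 9 n10193
theorem D14819 : act 9 n10193 = n14819 := rfl
theorem F64792 : act 2 n14819 = n10194 := d23_1 D14819 (iv D10194) D10193
theorem F64793 : act 4 n14819 = n10470 := d34_1 D14819 (iv D10470) (iv F45461)
theorem F64794 : act 7 n14819 = n14819 := d43_1 D14819 (iv D14819) F45462
def n14820 : Q := act 8 n10194
theorem D14820 : act 8 n10194 = n14820 := rfl
theorem F64795 : act 1 n14820 = n10206 := d15_1 D14820 (iv D10206) (iv F45464)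
theorem F64796 : act 4 n14820 = n10471 := d33_1 D14820 (iv D10471) (iv F45466)
theorem F64797 : act 7 n14820 = n14820 := d42_1 D14820 (iv D14820) F45467
theorem F64798 : act 9 n14820 = n10307 := d44_2 D10194 D14820 (iv D10307) (iv D7102) (iv F32010)
def n14821 : Q := act 8 n10196
theorem D14821 : act 8 n10196 = n14821 := rfl
theorem F64799 : act 0 n14821 = n14821 := d7_1 D14821 (iv D14821) F45472
theorem F64800 : act 5 n14821 = n14821 := d37_1 D14821 (iv D14821) F45474
theorem F64801 : act 6 n14821 = n10197 := d40_1 D14821 (iv D10197) D10196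
def n14822 : Q := act 3 n10197
theorem D14822 : act 3 n10197 = n14822 := rfl
theorem F64802 : act 0 n14822 = n14822 := d2_1 D14822 (iv D14822) F45475
theorem F64803 : act 5 n14822 = n10200 := d25_2 (iv F45476) D14822 (iv D10200)
theorem F64804 : act 7 n14822 = n10198 := d27_2 (iv F45477) D14822 (iv D10198)
theorem F64805 : act 8 n14822 = n10309 := d28_2 D10197 D14822 (iv D10309) (iv D7105) (iv F32022)
def n14823 : Q := act 9 n10197
theorem D14823 : act 9 n10197 = n14823 := rfl
theorem F64806 : act 0 n14823 = n14823 := d8_1 D14823 (iv D14823) F45475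
theorem F64807 : act 5 n14823 = n10201 := d38_1 D14823 (iv D10201) (iv F45476)
theorem F64808 : act 7 n14823 = n10199 := d43_1 D14823 (iv D10199) (iv F45477)
def n14824 : Q := act 2 n10198
theorem D14824 : act 2 n10198 = n14824 := rfl
theorem F64809 : act 0 n14824 = n14824 := d1_1 D14824 (iv D14824) F45478
theorem F64810 : act 5 n14824 = n10202 := d19_2 (iv F45479) D14824 (iv D10202)
theorem F64811 : act 8 n14824 = n10311 := d22_2 (iv F45480) D14824 (iv D10311)
def n14825 : Q := act 4 n10198
theorem D14825 : act 4 n10198 = n14825 := rfl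
theorem F64812 : act 0 n14825 = n14825 := d3_1 D14825 (iv D14825) F45478
theorem F64813 : act 5 n14825 = n10476 := d30_2 (iv F45479) D14825 (iv D10476) F32860 (iv F32031)
theorem F64814 : act 8 n14825 = n10312 := d33_2 (iv F45480) D14825 (iv D10312)
def n14826 : Q := act 9 n10198
theorem D14826 : act 9 n10198 = n14826 := rfl
theorem F64815 : act 0 n14826 = n14826 := d8_1 D14826 (iv D14826) F45478
theorem F64816 : act 3 n14826 = n10199 := d29_1 D14826 (iv D10199) D10198
theorem F64817 : act 5 n14826 = n10203 := d38_1 D14826 (iv D10203) (iv F45479)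
def n14827 : Q := act 2 n10200
theorem D14827 : act 2 n10200 = n14827 := rfl
theorem F64818 : act 0 n14827 = n14827 := d1_1 D14827 (iv D14827) F45483
theorem F64819 : act 4 n14827 = n10478 := d18_2 (iv F45484) D14827 (iv D10478)
theorem F64820 : act 6 n14827 = n14827 := d20_2 F45485 D14827 (iv D14827)
theorem F64821 : act 7 n14827 = n10202 := d21_2 (iv F45486) D14827 (iv D10202)
theorem F64822 : act 8 n14827 = n10314 := d22_2 (iv F45487) D14827 (iv D10314)
def n14828 : Q := act 9 n10200
theorem D14828 : act 9 n10200 = n14828 := rfl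
theorem F64823 : act 0 n14828 = n14828 := d8_1 D14828 (iv D14828) F45483
theorem F64824 : act 3 n14828 = n10201 := d29_1 D14828 (iv D10201) D10200
theorem F64825 : act 4 n14828 = n10479 := d34_1 D14828 (iv D10479) (iv F45484)
theorem F64826 : act 6 n14828 = n14828 := d41_1 D14828 (iv D14828) F45485
theorem F64827 : act 7 n14828 = n10203 := d43_1 D14828 (iv D10203) (iv F45486)
def n14829 : Q := act 1 n10202
theorem D14829 : act 1 n10202 = n14829 := rfl
theorem F64828 : act 4 n14829 = n10480 := d11_2 (iv F45493) D14829 (iv D10480)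
theorem F64829 : act 6 n14829 = n10204 := d13_2 (iv F45494) D14829 (iv D10204)
theorem F64830 : act 8 n14829 = n10316 := d15_2 (iv F45495) D14829 (iv D10316)
def n14830 : Q := act 9 n10202
theorem D14830 : act 9 n10202 = n14830 := rfl
theorem F64831 : act 0 n14830 = n14830 := d8_1 D14830 (iv D14830) F45492
theorem F64832 : act 2 n14830 = n10203 := d23_1 D14830 (iv D10203) D10202
theorem F64833 : act 4 n14830 = n10481 := d34_1 D14830 (iv D10481) (iv F45493)
theorem F64834 : act 6 n14830 = n10205 := d41_1 D14830 (iv D10205) (iv F45494)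
def n14831 : Q := act 8 n10203
theorem D14831 : act 8 n10203 = n14831 := rfl
theorem F64835 : act 0 n14831 = n14831 := d7_1 D14831 (iv D14831) F45496
theorem F64836 : act 4 n14831 = n10482 := d33_1 D14831 (iv D10482) (iv F45498)
theorem F64837 : act 6 n14831 = n10206 := d40_1 D14831 (iv D10206) (iv F45499)
theorem F64838 : act 9 n14831 = n10318 := d44_2 D10203 D14831 (iv D10318) (iv D7111) (iv F32033)
def n14832 : Q := act 0 n10204
theorem D14832 : act 0 n10204 = n14832 := rfl
theorem F64839 : act 1 n14832 = n14832 := d0_2 D10204 D14832 (iv D14832) (iv D10204) F32037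
theorem F64840 : act 4 n14832 = n10483 := d3_2 (iv F45500) D14832 (iv D10483)
theorem F64841 : act 7 n14832 = n14832 := d6_2 F45501 D14832 (iv D14832)
theorem F64842 : act 8 n14832 = n10319 := d7_2 (iv F45502) D14832 (iv D10319)
def n14833 : Q := act 9 n10204
theorem D14833 : act 9 n10204 = n14833 := rfl
theorem F64843 : act 1 n14833 = n10205 := d16_1 D14833 (iv D10205) D10204
theorem F64844 : act 4 n14833 = n10484 := d34_1 D14833 (iv D10484) (iv F45500)
theorem F64845 : act 7 n14833 = n14833 := d43_1 D14833 (iv D14833) F45501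
def n14834 : Q := act 8 n10205
theorem D14834 : act 8 n10205 = n14834 := rfl
theorem F64846 : act 0 n14834 = n14834 := d7_1 D14834 (iv D14834) F45503
theorem F64847 : act 2 n14834 = n10206 := d22_1 D14834 (iv D10206) (iv F45504)
theorem F64848 : act 4 n14834 = n10485 := d33_1 D14834 (iv D10485) (iv F45505)
theorem F64849 : act 7 n14834 = n14834 := d42_1 D14834 (iv D14834) F45506
theorem F64850 : act 9 n14834 = n10321 := d44_2 D10205 D14834 (iv D10321) (iv D7113) (iv F32040)
def n14835 : Q := act 3 n10207
theorem D14835 : act 3 n10207 = n14835 := rfl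
theorem F64855 : act 9 n14835 = n10261 := d29_2 (iv F45515) D14835 (iv D10261)
def n14836 : Q := act 6 n10207
theorem D14836 : act 6 n10207 = n14836 := rfl
def n14837 : Q := act 8 n10207
theorem D14837 : act 8 n10207 = n14837 := rfl
def n14843 : Q := act 4 n10210
theorem D14843 : act 4 n10210 = n14843 := rfl
def n14845 : Q := act 6 n10212
theorem D14845 : act 6 n10212 = n14845 := rfl
theorem F64906 : act 0 n14845 = n10228 := d5_1 D14845 (iv D10228) (iv F45538)
theorem F64908 : act 4 n14845 = n11268 := d31_1 D14845 (iv D11268) (iv F45539)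
theorem F64909 : act 9 n14845 = n10267 := d41_2 (iv F45541) D14845 (iv D10267)
def n14846 : Q := act 8 n10212
theorem D14846 : act 8 n10212 = n14846 := rfl
theorem F64910 : act 0 n14846 = n10229 := d7_1 D14846 (iv D10229) (iv F45538)
theorem F64911 : act 4 n14846 = n11269 := d33_1 D14846 (iv D11269) (iv F45539)
def n14847 : Q := act 5 n10213
theorem D14847 : act 5 n10213 = n14847 := rfl
theorem F64913 : act 0 n14847 = n10230 := d4_1 D14847 (iv D10230) (iv F45542)
theorem F64914 : act 2 n14847 = n10221 := d19_1 D14847 (iv D10221) (iv F45543)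
theorem F64916 : act 9 n14847 = n10269 := d38_2 (iv F45545) D14847 (iv D10269)
def n14848 : Q := act 7 n10213
theorem D14848 : act 7 n10213 = n14848 := rfl
theorem F64917 : act 0 n14848 = n10231 := d6_1 D14848 (iv D10231) (iv F45542)
theorem F64918 : act 2 n14848 = n10222 := d21_1 D14848 (iv D10222) (iv F45543)
theorem F64921 : act 9 n14848 = n10270 := d43_2 (iv F45545) D14848 (iv D10270)
def n14850 : Q := act 3 n10214
theorem D14850 : act 3 n10214 = n14850 := rfl
theorem F64926 : act 0 n14850 = n10233 := d2_1 D14850 (iv D10233) (iv F45546)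
def n14851 : Q := act 9 n10214
theorem D14851 : act 9 n10214 = n14851 := rfl
theorem F64932 : act 8 n14851 = n10273 := d44_1 D14851 (iv D10273) (iv D7076) (iv F32063) D10214
def n14857 : Q := act 5 n10219
theorem D14857 : act 5 n10219 = n14857 := rfl
def n14859 : Q := act 7 n10221
theorem D14859 : act 7 n10221 = n14859 := rfl
theorem F64968 : act 0 n14859 = n10242 := d6_1 D14859 (iv D10242) (iv F45581)
theorem F64969 : act 1 n14859 = n14859 := d14_1 D14859 (iv D14859) F45582
theorem F64970 : act 4 n14859 = n14859 := d32_1 D14859 (iv D14859) F45583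
theorem F64971 : act 5 n14859 = n10222 := d36_1 D14859 (iv D10222) D10221
theorem F64972 : act 9 n14859 = n10276 := d43_2 (iv F45584) D14859 (iv D10276)
def n14860 : Q := act 8 n10221
theorem D14860 : act 8 n10221 = n14860 := rfl
theorem F64973 : act 0 n14860 = n10243 := d7_1 D14860 (iv D10243) (iv F45581)
theorem F64976 : act 5 n14860 = n10223 := d37_1 D14860 (iv D10223) D10221
def n14861 : Q := act 8 n10222
theorem D14861 : act 8 n10222 = n14861 := rfl
theorem F64977 : act 0 n14861 = n10244 := d7_1 D14861 (iv D10244) (iv F45585)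
theorem F64981 : act 7 n14861 = n10223 := d42_1 D14861 (iv D10223) D10222
def n14862 : Q := act 3 n10223
theorem D14862 : act 3 n10223 = n14862 := rfl
theorem F64982 : act 0 n14862 = n10245 := d2_1 D14862 (iv D10245) (iv F45590)
theorem F64985 : act 6 n14862 = n10224 := d26_2 (iv F45593) D14862 (iv D10224)
def n14863 : Q := act 9 n10223
theorem D14863 : act 9 n10223 = n14863 := rfl
theorem F64990 : act 8 n14863 = n10280 := d44_1 D14863 (iv D10280) (iv D7082) (iv F32086) D10223
def n14864 : Q := act 2 n10224
theorem D14864 : act 2 n10224 = n14864 := rfl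
theorem F64991 : act 0 n14864 = n10247 := d1_1 D14864 (iv D10247) (iv F45594)
def n14865 : Q := act 9 n10224
theorem D14865 : act 9 n10224 = n14865 := rfl
theorem F64996 : act 3 n14865 = n10225 := d29_1 D14865 (iv D10225) D10224
def n14867 : Q := act 5 n10228
theorem D14867 : act 5 n10228 = n14867 := rfl
theorem F65006 : act 1 n14867 = n14867 := d12_1 D14867 (iv D14867) F45615
theorem F65007 : act 3 n14867 = n10230 := d25_1 D14867 (iv D10230) (iv F45616)
theorem F65008 : act 9 n14867 = n10284 := d38_2 (iv F45618) D14867 (iv D10284)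
def n14868 : Q := act 7 n10228
theorem D14868 : act 7 n10228 = n14868 := rfl
theorem F65009 : act 1 n14868 = n14868 := d14_1 D14868 (iv D14868) F45615
theorem F65010 : act 3 n14868 = n10231 := d27_1 D14868 (iv D10231) (iv F45616)
theorem F65011 : act 4 n14868 = n11284 := d32_1 D14868 (iv D11284) (iv F45617)
theorem F65012 : act 6 n14868 = n14868 := d39_1 D14868 (iv D14868) (iv D10228) F32110 D10228
theorem F65013 : act 9 n14868 = n10285 := d43_2 (iv F45618) D14868 (iv D10285)
def n14869 : Q := act 8 n10228
theorem D14869 : act 8 n10228 = n14869 := rfl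
theorem F65014 : act 1 n14869 = n14869 := d15_1 D14869 (iv D14869) F45615
theorem F65015 : act 4 n14869 = n11285 := d33_1 D14869 (iv D11285) (iv F45617)
theorem F65016 : act 6 n14869 = n10229 := d40_1 D14869 (iv D10229) D10228
def n14870 : Q := act 3 n10229
theorem D14870 : act 3 n10229 = n14870 := rfl
theorem F65019 : act 8 n14870 = n10233 := d28_2 D10229 D14870 (iv D10233) (iv D7048) D7046
def n14871 : Q := act 9 n10229
theorem D14871 : act 9 n10229 = n14871 := rfl
theorem F65020 : act 1 n14871 = n14871 := d16_1 D14871 (iv D14871) F45619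
theorem F65021 : act 4 n14871 = n11287 := d34_1 D14871 (iv D11287) (iv F45620)
theorem F65022 : act 7 n14871 = n14871 := d43_1 D14871 (iv D14871) F45621
theorem F65023 : act 8 n14871 = n10288 := d44_1 D14871 (iv D10288) (iv D7088) (iv F32111) D10229
def n14872 : Q := act 7 n10230
theorem D14872 : act 7 n10230 = n14872 := rfl
theorem F65024 : act 1 n14872 = n14872 := d14_1 D14872 (iv D14872) F45622
theorem F65025 : act 2 n14872 = n10242 := d21_1 D14872 (iv D10242) (iv F45623)
theorem F65026 : act 4 n14872 = n14872 := d32_1 D14872 (iv D14872) F45624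
theorem F65027 : act 5 n14872 = n10231 := d36_1 D14872 (iv D10231) D10230
theorem F65028 : act 9 n14872 = n10289 := d43_2 (iv F45625) D14872 (iv D10289)
def n14873 : Q := act 8 n10230
theorem D14873 : act 8 n10230 = n14873 := rfl
theorem F65030 : act 2 n14873 = n10243 := d22_1 D14873 (iv D10243) (iv F45623)
theorem F65032 : act 5 n14873 = n10232 := d37_1 D14873 (iv D10232) D10230
def n14874 : Q := act 8 n10231
theorem D14874 : act 8 n10231 = n14874 := rfl
theorem F65034 : act 2 n14874 = n10244 := d22_1 D14874 (iv D10244) (iv F45627)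
theorem F65037 : act 7 n14874 = n10232 := d42_1 D14874 (iv D10232) D10231
def n14875 : Q := act 3 n10232
theorem D14875 : act 3 n10232 = n14875 := rfl
theorem F65039 : act 6 n14875 = n10233 := d26_2 (iv F45634) D14875 (iv D10233)
def n14876 : Q := act 9 n10232
theorem D14876 : act 9 n10232 = n14876 := rfl
theorem F65043 : act 6 n14876 = n10234 := d41_1 D14876 (iv D10234) (iv F45634)
theorem F65044 : act 8 n14876 = n10293 := d44_1 D14876 (iv D10293) (iv D7091) (iv F32115) D10232
def n14877 : Q := act 2 n10233
theorem D14877 : act 2 n10233 = n14877 := rfl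
theorem F65045 : act 3 n14877 = n10247 := d17_2 D10233 D14877 (iv D10247) (iv D7058) (iv F32117)
def n14878 : Q := act 4 n10233
theorem D14878 : act 4 n10233 = n14878 := rfl
def n14879 : Q := act 9 n10233
theorem D14879 : act 9 n10233 = n14879 := rfl
theorem F65051 : act 3 n14879 = n10234 := d29_1 D14879 (iv D10234) D10233
def n14886 : Q := act 6 n10240
theorem D14886 : act 6 n10240 = n14886 := rfl
def n14888 : Q := act 6 n10242
theorem D14888 : act 6 n10242 = n14888 := rfl
theorem F65094 : act 1 n14888 = n10250 := d13_1 D14888 (iv D10250) (iv F45677)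
theorem F65095 : act 4 n14888 = n14888 := d31_1 D14888 (iv D14888) F45678
theorem F65096 : act 5 n14888 = n14888 := d35_1 D14888 (iv D14888) F45679 F32156 (iv F45679)
theorem F65097 : act 9 n14888 = n10297 := d41_2 (iv F45680) D14888 (iv D10297)
def n14889 : Q := act 8 n10242
theorem D14889 : act 8 n10242 = n14889 := rfl
theorem F65098 : act 1 n14889 = n10251 := d15_1 D14889 (iv D10251) (iv F45677)
theorem F65099 : act 4 n14889 = n14889 := d33_1 D14889 (iv D14889) F45678
theorem F65100 : act 5 n14889 = n10244 := d37_1 D14889 (iv D10244) (iv F45679)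
theorem F65101 : act 7 n14889 = n10243 := d42_1 D14889 (iv D10243) D10242
def n14890 : Q := act 3 n10243
theorem D14890 : act 3 n10243 = n14890 := rfl
theorem F65102 : act 1 n14890 = n10252 := d10_1 D14890 (iv D10252) (iv F45681)
theorem F65103 : act 5 n14890 = n10245 := d25_2 (iv F45683) D14890 (iv D10245)
def n14891 : Q := act 9 n10243
theorem D14891 : act 9 n10243 = n14891 := rfl
theorem F65104 : act 1 n14891 = n10253 := d16_1 D14891 (iv D10253) (iv F45681)
theorem F65107 : act 8 n14891 = n10300 := d44_1 D14891 (iv D10300) (iv D7097) (iv F32153) D10243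
def n14892 : Q := act 3 n10244
theorem D14892 : act 3 n10244 = n14892 := rfl
theorem F65108 : act 1 n14892 = n10254 := d10_1 D14892 (iv D10254) (iv F45684)
theorem F65109 : act 4 n14892 = n14892 := d24_2 (iv F45685) D14892 (iv D14892) F45685 F32169
theorem F65110 : act 6 n14892 = n14892 := d26_2 F45686 D14892 (iv D14892)
theorem F65111 : act 7 n14892 = n10245 := d27_2 (iv F45687) D14892 (iv D10245)
def n14893 : Q := act 9 n10244
theorem D14893 : act 9 n10244 = n14893 := rfl
theorem F65112 : act 1 n14893 = n10255 := d16_1 D14893 (iv D10255) (iv F45684)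
def n14894 : Q := act 2 n10245
theorem D14894 : act 2 n10245 = n14894 := rfl
theorem F65117 : act 4 n14894 = n14894 := d18_2 F45689 D14894 (iv D14894)
theorem F65118 : act 6 n14894 = n10247 := d20_2 (iv F45690) D14894 (iv D10247)
def n14895 : Q := act 9 n10245
theorem D14895 : act 9 n10245 = n14895 := rfl
theorem F65119 : act 1 n14895 = n10257 := d16_1 D14895 (iv D10257) (iv F45688)
theorem F65120 : act 3 n14895 = n10246 := d29_1 D14895 (iv D10246) D10245
def n14896 : Q := act 1 n10247
theorem D14896 : act 1 n10247 = n14896 := rfl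
theorem F65123 : act 2 n14896 = n10258 := d9_2 D10247 D14896 (iv D10258) (iv D7067) (iv F32161)
theorem F65124 : act 4 n14896 = n14896 := d11_2 F45695 D14896 (iv D14896)
theorem F65125 : act 7 n14896 = n14896 := d14_2 F45696 D14896 (iv D14896)
def n14897 : Q := act 9 n10247
theorem D14897 : act 9 n10247 = n14897 := rfl
theorem F65126 : act 2 n14897 = n10248 := d23_1 D14897 (iv D10248) D10247
def n14898 : Q := act 8 n10248
theorem D14898 : act 8 n10248 = n14898 := rfl
theorem F65129 : act 1 n14898 = n10260 := d15_1 D14898 (iv D10260) (iv F45697)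
theorem F65130 : act 3 n14898 = n10307 := d28_1 D14898 (iv D10307) F32345 (iv F32167) (iv F45698)
def n14899 : Q := act 8 n10250
theorem D14899 : act 8 n10250 = n14899 := rfl
theorem F65133 : act 0 n14899 = n14899 := d7_1 D14899 (iv D14899) F45707
theorem F65134 : act 2 n14899 = n14899 := d22_1 D14899 (iv D14899) F45708
theorem F65135 : act 4 n14899 = n14899 := d33_1 D14899 (iv D14899) F45709
theorem F65136 : act 5 n14899 = n14899 := d37_1 D14899 (iv D14899) F45710
theorem F65137 : act 6 n14899 = n10251 := d40_1 D14899 (iv D10251) D10250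
def n14900 : Q := act 3 n10251
theorem D14900 : act 3 n10251 = n14900 := rfl
theorem F65138 : act 0 n14900 = n14900 := d2_1 D14900 (iv D14900) F45712
theorem F65139 : act 5 n14900 = n10254 := d25_2 (iv F45715) D14900 (iv D10254)
theorem F65140 : act 7 n14900 = n10252 := d27_2 (iv F45716) D14900 (iv D10252)
def n14901 : Q := act 9 n10251
theorem D14901 : act 9 n10251 = n14901 := rfl
theorem F65141 : act 0 n14901 = n14901 := d8_1 D14901 (iv D14901) F45712
theorem F65142 : act 2 n14901 = n14901 := d23_1 D14901 (iv D14901) F45713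
theorem F65143 : act 4 n14901 = n14901 := d34_1 D14901 (iv D14901) F45714
theorem F65144 : act 5 n14901 = n10255 := d38_1 D14901 (iv D10255) (iv F45715)
theorem F65145 : act 7 n14901 = n10253 := d43_1 D14901 (iv D10253) (iv F45716)
theorem F65146 : act 8 n14901 = n10310 := d44_1 D14901 (iv D10310) (iv D7105) (iv F32182) D10251
def n14902 : Q := act 2 n10252
theorem D14902 : act 2 n10252 = n14902 := rfl
theorem F65147 : act 0 n14902 = n14902 := d1_1 D14902 (iv D14902) F45717
theorem F65148 : act 3 n14902 = n14902 := d17_2 D10252 D14902 (iv D14902) (iv D10252) F32184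
theorem F65149 : act 5 n14902 = n10256 := d19_2 (iv F45718) D14902 (iv D10256)
def n14903 : Q := act 4 n10252
theorem D14903 : act 4 n10252 = n14903 := rfl
theorem F65150 : act 0 n14903 = n14903 := d3_1 D14903 (iv D14903) F45717
theorem F65151 : act 3 n14903 = n14903 := d24_1 D14903 (iv D14903) (iv D10252) F32185 D10252
theorem F65152 : act 5 n14903 = n14903 := d30_2 (iv F45718) D14903 (iv D14903) F45718 F32193
def n14904 : Q := act 9 n10252
theorem D14904 : act 9 n10252 = n14904 := rfl
theorem F65153 : act 0 n14904 = n14904 := d8_1 D14904 (iv D14904) F45717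
theorem F65154 : act 3 n14904 = n10253 := d29_1 D14904 (iv D10253) D10252
theorem F65155 : act 5 n14904 = n10257 := d38_1 D14904 (iv D10257) (iv F45718)
def n14905 : Q := act 2 n10254
theorem D14905 : act 2 n10254 = n14905 := rfl
theorem F65156 : act 0 n14905 = n14905 := d1_1 D14905 (iv D14905) F45724
theorem F65157 : act 3 n14905 = n14905 := d17_2 D10254 D14905 (iv D14905) (iv D10254) F32188
theorem F65158 : act 4 n14905 = n14905 := d18_2 F45725 D14905 (iv D14905)
theorem F65159 : act 6 n14905 = n14905 := d20_2 F45726 D14905 (iv D14905)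
theorem F65160 : act 7 n14905 = n10256 := d21_2 (iv F45727) D14905 (iv D10256)
def n14906 : Q := act 9 n10254
theorem D14906 : act 9 n10254 = n14906 := rfl
theorem F65161 : act 0 n14906 = n14906 := d8_1 D14906 (iv D14906) F45724
theorem F65162 : act 3 n14906 = n10255 := d29_1 D14906 (iv D10255) D10254
theorem F65163 : act 4 n14906 = n14906 := d34_1 D14906 (iv D14906) F45725
theorem F65164 : act 6 n14906 = n14906 := d41_1 D14906 (iv D14906) F45726
theorem F65165 : act 7 n14906 = n10257 := d43_1 D14906 (iv D10257) (iv F45727)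
def n14907 : Q := act 1 n10256
theorem D14907 : act 1 n10256 = n14907 := rfl
theorem F65166 : act 3 n14907 = n14907 := d10_2 F45735 D14907 (iv D14907)
theorem F65167 : act 4 n14907 = n14907 := d11_2 F45736 D14907 (iv D14907)
theorem F65168 : act 6 n14907 = n10258 := d13_2 (iv F45737) D14907 (iv D10258)
def n14908 : Q := act 9 n10256
theorem D14908 : act 9 n10256 = n14908 := rfl
theorem F65169 : act 0 n14908 = n14908 := d8_1 D14908 (iv D14908) F45734
theorem F65170 : act 2 n14908 = n10257 := d23_1 D14908 (iv D10257) D10256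
theorem F65171 : act 3 n14908 = n14908 := d29_1 D14908 (iv D14908) F45735
theorem F65172 : act 4 n14908 = n14908 := d34_1 D14908 (iv D14908) F45736
theorem F65173 : act 6 n14908 = n10259 := d41_1 D14908 (iv D10259) (iv F45737)
def n14909 : Q := act 8 n10257
theorem D14909 : act 8 n10257 = n14909 := rfl
theorem F65174 : act 0 n14909 = n14909 := d7_1 D14909 (iv D14909) F45738
theorem F65175 : act 3 n14909 = n10318 := d28_1 D14909 (iv D10318) F32382 (iv F32199) (iv F45739)
theorem F65176 : act 4 n14909 = n14909 := d33_1 D14909 (iv D14909) F45740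
theorem F65177 : act 6 n14909 = n10260 := d40_1 D14909 (iv D10260) (iv F45741)
def n14910 : Q := act 0 n10258
theorem D14910 : act 0 n10258 = n14910 := rfl
theorem F65178 : act 1 n14910 = n14910 := d0_2 D10258 D14910 (iv D14910) (iv D10258) F32200
theorem F65179 : act 3 n14910 = n14910 := d2_2 F45742 D14910 (iv D14910)
theorem F65180 : act 4 n14910 = n14910 := d3_2 F45743 D14910 (iv D14910)
theorem F65181 : act 7 n14910 = n14910 := d6_2 F45744 D14910 (iv D14910)
def n14911 : Q := act 9 n10258
theorem D14911 : act 9 n10258 = n14911 := rfl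
theorem F65182 : act 1 n14911 = n10259 := d16_1 D14911 (iv D10259) D10258
theorem F65183 : act 3 n14911 = n14911 := d29_1 D14911 (iv D14911) F45742
theorem F65184 : act 4 n14911 = n14911 := d34_1 D14911 (iv D14911) F45743
theorem F65185 : act 7 n14911 = n14911 := d43_1 D14911 (iv D14911) F45744
def n14912 : Q := act 8 n10259
theorem D14912 : act 8 n10259 = n14912 := rfl
theorem F65186 : act 0 n14912 = n14912 := d7_1 D14912 (iv D14912) F45745
theorem F65187 : act 2 n14912 = n10260 := d22_1 D14912 (iv D10260) (iv F45746)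
theorem F65188 : act 4 n14912 = n14912 := d33_1 D14912 (iv D14912) F45748
theorem F65189 : act 7 n14912 = n14912 := d42_1 D14912 (iv D14912) F45749
def n14913 : Q := act 2 n10261
theorem D14913 : act 2 n10261 = n14913 := rfl
theorem F65192 : act 4 n14913 = n11311 := d18_2 (iv F45756) D14913 (iv D11311)
def n14914 : Q := act 6 n10261
theorem D14914 : act 6 n10261 = n14914 := rfl
theorem F65195 : act 1 n14914 = n10267 := d13_1 D14914 (iv D10267) (iv F45755)
theorem F65196 : act 3 n14914 = n10262 := d26_1 D14914 (iv D10262) D10261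
theorem F65197 : act 4 n14914 = n11312 := d31_1 D14914 (iv D11312) (iv F45756)
def n14915 : Q := act 8 n10261
theorem D14915 : act 8 n10261 = n14915 := rfl
theorem F65199 : act 1 n14915 = n10268 := d15_1 D14915 (iv D10268) (iv F45755)
theorem F65200 : act 4 n14915 = n11313 := d33_1 D14915 (iv D11313) (iv F45756)
def n14916 : Q := act 5 n10262
theorem D14916 : act 5 n10262 = n14916 := rfl
theorem F65203 : act 1 n14916 = n10269 := d12_1 D14916 (iv D10269) (iv F45759)
def n14917 : Q := act 7 n10262
theorem D14917 : act 7 n10262 = n14917 := rfl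
theorem F65207 : act 1 n14917 = n10270 := d14_1 D14917 (iv D10270) (iv F45759)
theorem F65209 : act 4 n14917 = n10264 := d32_1 D14917 (iv D10264) (iv F45761)
def n14923 : Q := act 5 n10267
theorem D14923 : act 5 n10267 = n14923 := rfl
theorem F65238 : act 0 n14923 = n10284 := d4_1 D14923 (iv D10284) (iv F45785)
theorem F65239 : act 3 n14923 = n10269 := d25_1 D14923 (iv D10269) (iv F45786)
def n14924 : Q := act 7 n10267
theorem D14924 : act 7 n10267 = n14924 := rfl
theorem F65240 : act 0 n14924 = n10285 := d6_1 D14924 (iv D10285) (iv F45785)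
theorem F65241 : act 3 n14924 = n10270 := d27_1 D14924 (iv D10270) (iv F45786)
theorem F65242 : act 4 n14924 = n11317 := d32_1 D14924 (iv D11317) (iv F45787)
theorem F65243 : act 6 n14924 = n14924 := d39_1 D14924 (iv D14924) (iv D10267) F32238 D10267
def n14925 : Q := act 8 n10267
theorem D14925 : act 8 n10267 = n14925 := rfl
theorem F65244 : act 0 n14925 = n10286 := d7_1 D14925 (iv D10286) (iv F45785)
theorem F65245 : act 4 n14925 = n11318 := d33_1 D14925 (iv D11318) (iv F45787)
theorem F65246 : act 6 n14925 = n10268 := d40_1 D14925 (iv D10268) D10267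
def n14926 : Q := act 3 n10268
theorem D14926 : act 3 n10268 = n14926 := rfl
theorem F65247 : act 0 n14926 = n10287 := d2_1 D14926 (iv D10287) (iv F45788)
theorem F65250 : act 8 n14926 = n10272 := d28_2 D10268 D14926 (iv D10272) (iv D7076) D7074
def n14927 : Q := act 9 n10268
theorem D14927 : act 9 n10268 = n14927 := rfl
theorem F65251 : act 0 n14927 = n10288 := d8_1 D14927 (iv D10288) (iv F45788)
theorem F65252 : act 4 n14927 = n11319 := d34_1 D14927 (iv D11319) (iv F45789)
theorem F65253 : act 7 n14927 = n14927 := d43_1 D14927 (iv D14927) F45790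
def n14928 : Q := act 7 n10269
theorem D14928 : act 7 n10269 = n14928 := rfl
theorem F65254 : act 0 n14928 = n10289 := d6_1 D14928 (iv D10289) (iv F45791)
theorem F65255 : act 2 n14928 = n10276 := d21_1 D14928 (iv D10276) (iv F45792)
theorem F65256 : act 4 n14928 = n14928 := d32_1 D14928 (iv D14928) F45793
theorem F65257 : act 5 n14928 = n10270 := d36_1 D14928 (iv D10270) D10269
def n14929 : Q := act 8 n10269
theorem D14929 : act 8 n10269 = n14929 := rfl
theorem F65258 : act 0 n14929 = n10290 := d7_1 D14929 (iv D10290) (iv F45791)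
theorem F65259 : act 2 n14929 = n10277 := d22_1 D14929 (iv D10277) (iv F45792)
theorem F65261 : act 5 n14929 = n10271 := d37_1 D14929 (iv D10271) D10269
def n14930 : Q := act 8 n10270
theorem D14930 : act 8 n10270 = n14930 := rfl
theorem F65262 : act 0 n14930 = n10291 := d7_1 D14930 (iv D10291) (iv F45794)
theorem F65263 : act 2 n14930 = n10278 := d22_1 D14930 (iv D10278) (iv F45795)
def n14931 : Q := act 3 n10271
theorem D14931 : act 3 n10271 = n14931 := rfl
theorem F65267 : act 0 n14931 = n10292 := d2_1 D14931 (iv D10292) (iv F45798)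
def n14933 : Q := act 2 n10272
theorem D14933 : act 2 n10272 = n14933 := rfl
theorem F65274 : act 0 n14933 = n10294 := d1_1 D14933 (iv D10294) (iv F45802)
theorem F65275 : act 3 n14933 = n10281 := d17_2 D10272 D14933 (iv D10281) (iv D7083) (iv F32243)
def n14934 : Q := act 9 n10272
theorem D14934 : act 9 n10272 = n14934 := rfl
theorem F65279 : act 3 n14934 = n10273 := d29_1 D14934 (iv D10273) D10272
def n14936 : Q := act 6 n10276
theorem D14936 : act 6 n10276 = n14936 := rfl
theorem F65288 : act 0 n14936 = n10297 := d5_1 D14936 (iv D10297) (iv F45820)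
theorem F65289 : act 1 n14936 = n14936 := d13_1 D14936 (iv D14936) F45821
theorem F65290 : act 4 n14936 = n14936 := d31_1 D14936 (iv D14936) F45822
theorem F65291 : act 5 n14936 = n14936 := d35_1 D14936 (iv D14936) F45823 F32267 (iv F45823)
def n14937 : Q := act 8 n10276
theorem D14937 : act 8 n10276 = n14937 := rfl
theorem F65292 : act 0 n14937 = n10298 := d7_1 D14937 (iv D10298) (iv F45820)
theorem F65293 : act 1 n14937 = n14937 := d15_1 D14937 (iv D14937) F45821
theorem F65294 : act 4 n14937 = n14937 := d33_1 D14937 (iv D14937) F45822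
theorem F65295 : act 5 n14937 = n10278 := d37_1 D14937 (iv D10278) (iv F45823)
theorem F65296 : act 7 n14937 = n10277 := d42_1 D14937 (iv D10277) D10276
def n14938 : Q := act 3 n10277
theorem D14938 : act 3 n10277 = n14938 := rfl
theorem F65297 : act 0 n14938 = n10299 := d2_1 D14938 (iv D10299) (iv F45824)
theorem F65298 : act 1 n14938 = n14938 := d10_1 D14938 (iv D14938) F45825
theorem F65299 : act 5 n14938 = n10279 := d25_2 (iv F45827) D14938 (iv D10279)
def n14939 : Q := act 9 n10277
theorem D14939 : act 9 n10277 = n14939 := rfl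
theorem F65300 : act 0 n14939 = n10300 := d8_1 D14939 (iv D10300) (iv F45824)
def n14940 : Q := act 3 n10278
theorem D14940 : act 3 n10278 = n14940 := rfl
theorem F65304 : act 0 n14940 = n10301 := d2_1 D14940 (iv D10301) (iv F45828)
theorem F65305 : act 1 n14940 = n14940 := d10_1 D14940 (iv D14940) F45829
theorem F65306 : act 4 n14940 = n10490 := d24_2 (iv F45830) D14940 (iv D10490) F32914 (iv F32282)
theorem F65307 : act 6 n14940 = n14940 := d26_2 F45831 D14940 (iv D14940)
theorem F65308 : act 7 n14940 = n10279 := d27_2 (iv F45832) D14940 (iv D10279)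
def n14941 : Q := act 9 n10278
theorem D14941 : act 9 n10278 = n14941 := rfl
def n14942 : Q := act 2 n10279
theorem D14942 : act 2 n10279 = n14942 := rfl
theorem F65314 : act 0 n14942 = n10303 := d1_1 D14942 (iv D10303) (iv F45833)
theorem F65315 : act 4 n14942 = n10492 := d18_2 (iv F45835) D14942 (iv D10492)
theorem F65316 : act 6 n14942 = n10281 := d20_2 (iv F45836) D14942 (iv D10281)
def n14943 : Q := act 9 n10279
theorem D14943 : act 9 n10279 = n14943 := rfl
theorem F65317 : act 0 n14943 = n10304 := d8_1 D14943 (iv D10304) (iv F45833)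
theorem F65319 : act 3 n14943 = n10280 := d29_1 D14943 (iv D10280) D10279
theorem F65320 : act 4 n14943 = n10493 := d34_1 D14943 (iv D10493) (iv F45835)
def n14944 : Q := act 1 n10281
theorem D14944 : act 1 n10281 = n14944 := rfl
theorem F65322 : act 2 n14944 = n14944 := d9_2 D10281 D14944 (iv D14944) (iv D10281) F32273
theorem F65323 : act 4 n14944 = n10494 := d11_2 (iv F45842) D14944 (iv D10494)
theorem F65324 : act 7 n14944 = n14944 := d14_2 F45843 D14944 (iv D14944)
def n14945 : Q := act 9 n10281
theorem D14945 : act 9 n10281 = n14945 := rfl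
theorem F65325 : act 0 n14945 = n10306 := d8_1 D14945 (iv D10306) (iv F45841)
theorem F65326 : act 2 n14945 = n10282 := d23_1 D14945 (iv D10282) D10281
theorem F65327 : act 4 n14945 = n10495 := d34_1 D14945 (iv D10495) (iv F45842)
def n14946 : Q := act 8 n10282
theorem D14946 : act 8 n10282 = n14946 := rfl
theorem F65331 : act 4 n14946 = n10496 := d33_1 D14946 (iv D10496) (iv F45847)
def n14947 : Q := act 4 n10284
theorem D14947 : act 4 n10284 = n14947 := rfl
theorem F65333 : act 1 n14947 = n14947 := d11_1 D14947 (iv D14947) F45855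
theorem F65334 : act 3 n14947 = n14947 := d24_1 D14947 (iv D14947) F45856 F32299 (iv F45856)
theorem F65335 : act 5 n14947 = n11322 := d30_2 D10284 D14947 (iv D11322) (iv D7802) (iv F32293)
def n14948 : Q := act 7 n10284
theorem D14948 : act 7 n10284 = n14948 := rfl
theorem F65336 : act 1 n14948 = n14948 := d14_1 D14948 (iv D14948) F45855
theorem F65337 : act 3 n14948 = n10289 := d27_1 D14948 (iv D10289) (iv F45856)
theorem F65338 : act 5 n14948 = n10285 := d36_1 D14948 (iv D10285) D10284
def n14949 : Q := act 8 n10284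
theorem D14949 : act 8 n10284 = n14949 := rfl
theorem F65339 : act 1 n14949 = n14949 := d15_1 D14949 (iv D14949) F45855
theorem F65340 : act 5 n14949 = n10286 := d37_1 D14949 (iv D10286) D10284
def n14950 : Q := act 8 n10285
theorem D14950 : act 8 n10285 = n14950 := rfl
theorem F65341 : act 1 n14950 = n14950 := d15_1 D14950 (iv D14950) F45857
theorem F65342 : act 4 n14950 = n11325 := d33_1 D14950 (iv D11325) (iv F45859)
theorem F65343 : act 6 n14950 = n14950 := d40_1 D14950 (iv D14950) F45860
theorem F65344 : act 7 n14950 = n10286 := d42_1 D14950 (iv D10286) D10285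
def n14951 : Q := act 3 n10286
theorem D14951 : act 3 n10286 = n14951 := rfl
theorem F65345 : act 1 n14951 = n14951 := d10_1 D14951 (iv D14951) F45861
theorem F65346 : act 4 n14951 = n14951 := d24_2 (iv F45862) D14951 (iv D14951) F45862 F35374
theorem F65347 : act 6 n14951 = n10287 := d26_2 (iv F45863) D14951 (iv D10287)
theorem F65348 : act 8 n14951 = n10292 := d28_2 D10286 D14951 (iv D10292) (iv D7091) (iv F32292)
def n14952 : Q := act 9 n10286
theorem D14952 : act 9 n10286 = n14952 := rfl
theorem F65349 : act 1 n14952 = n14952 := d16_1 D14952 (iv D14952) F45861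
theorem F65350 : act 4 n14952 = n11326 := d34_1 D14952 (iv D11326) (iv F45862)
theorem F65351 : act 6 n14952 = n10288 := d41_1 D14952 (iv D10288) (iv F45863)
def n14953 : Q := act 2 n10287
theorem D14953 : act 2 n10287 = n14953 := rfl
theorem F65352 : act 4 n14953 = n14953 := d18_2 F45865 D14953 (iv D14953)
theorem F65353 : act 7 n14953 = n14953 := d21_2 F45866 D14953 (iv D14953)
theorem F65354 : act 8 n14953 = n10294 := d22_2 (iv F45867) D14953 (iv D10294)
def n14954 : Q := act 9 n10287
theorem D14954 : act 9 n10287 = n14954 := rfl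
theorem F65355 : act 1 n14954 = n14954 := d16_1 D14954 (iv D14954) F45864
theorem F65356 : act 3 n14954 = n10288 := d29_1 D14954 (iv D10288) D10287
theorem F65357 : act 4 n14954 = n14954 := d34_1 D14954 (iv D14954) F45865
theorem F65358 : act 7 n14954 = n14954 := d43_1 D14954 (iv D14954) F45866
def n14955 : Q := act 6 n10289
theorem D14955 : act 6 n10289 = n14955 := rfl
theorem F65359 : act 1 n14955 = n14955 := d13_1 D14955 (iv D14955) F45871
theorem F65360 : act 2 n14955 = n10297 := d20_1 D14955 (iv D10297) (iv F45872)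
theorem F65361 : act 4 n14955 = n14955 := d31_1 D14955 (iv D14955) F45873
theorem F65362 : act 5 n14955 = n14955 := d35_1 D14955 (iv D14955) F45874 F32303 (iv F45874)
def n14956 : Q := act 8 n10289
theorem D14956 : act 8 n10289 = n14956 := rfl
theorem F65363 : act 1 n14956 = n14956 := d15_1 D14956 (iv D14956) F45871
theorem F65364 : act 2 n14956 = n10298 := d22_1 D14956 (iv D10298) (iv F45872)
theorem F65365 : act 4 n14956 = n14956 := d33_1 D14956 (iv D14956) F45873
theorem F65366 : act 5 n14956 = n10291 := d37_1 D14956 (iv D10291) (iv F45874)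
theorem F65367 : act 7 n14956 = n10290 := d42_1 D14956 (iv D10290) D10289
def n14957 : Q := act 3 n10290
theorem D14957 : act 3 n10290 = n14957 := rfl
theorem F65368 : act 1 n14957 = n14957 := d10_1 D14957 (iv D14957) F45875
theorem F65369 : act 5 n14957 = n10292 := d25_2 (iv F45878) D14957 (iv D10292)
def n14958 : Q := act 9 n10290
theorem D14958 : act 9 n10290 = n14958 := rfl
theorem F65371 : act 2 n14958 = n10300 := d23_1 D14958 (iv D10300) (iv F45876)
def n14959 : Q := act 3 n10291
theorem D14959 : act 3 n10291 = n14959 := rfl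
theorem F65374 : act 1 n14959 = n14959 := d10_1 D14959 (iv D14959) F45879
theorem F65375 : act 4 n14959 = n14959 := d24_2 (iv F45881) D14959 (iv D14959) F45881 F32317
theorem F65376 : act 6 n14959 = n14959 := d26_2 F45882 D14959 (iv D14959)
theorem F65377 : act 7 n14959 = n10292 := d27_2 (iv F45883) D14959 (iv D10292)
def n14960 : Q := act 9 n10291
theorem D14960 : act 9 n10291 = n14960 := rfl
def n14961 : Q := act 2 n10292
theorem D14961 : act 2 n10292 = n14961 := rfl
theorem F65383 : act 3 n14961 = n10303 := d17_2 D10292 D14961 (iv D10303) (iv D7099) (iv F32305)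
theorem F65384 : act 4 n14961 = n14961 := d18_2 F45885 D14961 (iv D14961)
theorem F65385 : act 6 n14961 = n10294 := d20_2 (iv F45886) D14961 (iv D10294)
def n14962 : Q := act 9 n10292
theorem D14962 : act 9 n10292 = n14962 := rfl
theorem F65387 : act 3 n14962 = n10293 := d29_1 D14962 (iv D10293) D10292
def n14963 : Q := act 1 n10294
theorem D14963 : act 1 n10294 = n14963 := rfl
theorem F65390 : act 2 n14963 = n14963 := d9_2 D10294 D14963 (iv D14963) (iv D10294) F32308
theorem F65391 : act 3 n14963 = n10305 := d10_2 (iv F45891) D14963 (iv D10305)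
theorem F65392 : act 4 n14963 = n14963 := d11_2 F45892 D14963 (iv D14963)
theorem F65393 : act 7 n14963 = n14963 := d14_2 F45893 D14963 (iv D14963)
def n14964 : Q := act 9 n10294
theorem D14964 : act 9 n10294 = n14964 := rfl
theorem F65394 : act 2 n14964 = n10295 := d23_1 D14964 (iv D10295) D10294
theorem F65395 : act 3 n14964 = n10306 := d29_1 D14964 (iv D10306) (iv F45891)
def n14965 : Q := act 8 n10295
theorem D14965 : act 8 n10295 = n14965 := rfl
def n14966 : Q := act 8 n10297
theorem D14966 : act 8 n10297 = n14966 := rfl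
theorem F65401 : act 1 n14966 = n10308 := d15_1 D14966 (iv D10308) (iv F45904)
theorem F65402 : act 4 n14966 = n14966 := d33_1 D14966 (iv D14966) F45905
theorem F65403 : act 5 n14966 = n14966 := d37_1 D14966 (iv D14966) F45906
theorem F65404 : act 6 n14966 = n10298 := d40_1 D14966 (iv D10298) D10297
def n14967 : Q := act 3 n10298
theorem D14967 : act 3 n10298 = n14967 := rfl
theorem F65405 : act 1 n14967 = n10309 := d10_1 D14967 (iv D10309) (iv F45907)
theorem F65406 : act 5 n14967 = n10301 := d25_2 (iv F45909) D14967 (iv D10301)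
theorem F65407 : act 7 n14967 = n10299 := d27_2 (iv F45910) D14967 (iv D10299)
def n14968 : Q := act 9 n10298
theorem D14968 : act 9 n10298 = n14968 := rfl
theorem F65408 : act 1 n14968 = n10310 := d16_1 D14968 (iv D10310) (iv F45907)
theorem F65409 : act 4 n14968 = n14968 := d34_1 D14968 (iv D14968) F45908
theorem F65410 : act 5 n14968 = n10302 := d38_1 D14968 (iv D10302) (iv F45909)
theorem F65411 : act 7 n14968 = n10300 := d43_1 D14968 (iv D10300) (iv F45910)
def n14969 : Q := act 2 n10299
theorem D14969 : act 2 n10299 = n14969 := rfl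
theorem F65412 : act 5 n14969 = n10303 := d19_2 (iv F45912) D14969 (iv D10303)
def n14970 : Q := act 4 n10299
theorem D14970 : act 4 n10299 = n14970 := rfl
theorem F65413 : act 1 n14970 = n10312 := d11_1 D14970 (iv D10312) (iv F45911)
theorem F65414 : act 3 n14970 = n14970 := d24_1 D14970 (iv D14970) (iv D10299) F32330 D10299
theorem F65415 : act 5 n14970 = n10501 := d30_2 (iv F45912) D14970 (iv D10501) F32954 (iv F32337)
def n14971 : Q := act 9 n10299
theorem D14971 : act 9 n10299 = n14971 := rfl
theorem F65416 : act 1 n14971 = n10313 := d16_1 D14971 (iv D10313) (iv F45911)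
theorem F65417 : act 3 n14971 = n10300 := d29_1 D14971 (iv D10300) D10299
theorem F65418 : act 5 n14971 = n10304 := d38_1 D14971 (iv D10304) (iv F45912)
def n14972 : Q := act 2 n10301
theorem D14972 : act 2 n10301 = n14972 := rfl
theorem F65419 : act 4 n14972 = n10503 := d18_2 (iv F45917) D14972 (iv D10503)
theorem F65420 : act 6 n14972 = n14972 := d20_2 F45918 D14972 (iv D14972)
theorem F65421 : act 7 n14972 = n10303 := d21_2 (iv F45919) D14972 (iv D10303)
def n14973 : Q := act 9 n10301
theorem D14973 : act 9 n10301 = n14973 := rfl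
theorem F65422 : act 1 n14973 = n10315 := d16_1 D14973 (iv D10315) (iv F45916)
theorem F65423 : act 3 n14973 = n10302 := d29_1 D14973 (iv D10302) D10301
theorem F65424 : act 4 n14973 = n10504 := d34_1 D14973 (iv D10504) (iv F45917)
theorem F65425 : act 6 n14973 = n14973 := d41_1 D14973 (iv D14973) F45918
theorem F65426 : act 7 n14973 = n10304 := d43_1 D14973 (iv D10304) (iv F45919)
def n14974 : Q := act 1 n10303
theorem D14974 : act 1 n10303 = n14974 := rfl
theorem F65427 : act 2 n14974 = n10316 := d9_2 D10303 D14974 (iv D10316) (iv D7110) (iv F32336)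
theorem F65428 : act 4 n14974 = n10505 := d11_2 (iv F45924) D14974 (iv D10505)
theorem F65429 : act 6 n14974 = n10305 := d13_2 (iv F45925) D14974 (iv D10305)
def n14975 : Q := act 9 n10303
theorem D14975 : act 9 n10303 = n14975 := rfl
theorem F65430 : act 2 n14975 = n10304 := d23_1 D14975 (iv D10304) D10303
theorem F65431 : act 4 n14975 = n10506 := d34_1 D14975 (iv D10506) (iv F45924)
theorem F65432 : act 6 n14975 = n10306 := d41_1 D14975 (iv D10306) (iv F45925)
def n14976 : Q := act 8 n10304
theorem D14976 : act 8 n10304 = n14976 := rfl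
theorem F65433 : act 1 n14976 = n10318 := d15_1 D14976 (iv D10318) (iv F45926)
theorem F65434 : act 4 n14976 = n10507 := d33_1 D14976 (iv D10507) (iv F45928)
theorem F65435 : act 6 n14976 = n10307 := d40_1 D14976 (iv D10307) (iv F45929)
def n14977 : Q := act 0 n10305
theorem D14977 : act 0 n10305 = n14977 := rfl
theorem F65436 : act 2 n14977 = n10319 := d1_2 (iv F45930) D14977 (iv D10319)
theorem F65437 : act 4 n14977 = n10508 := d3_2 (iv F45931) D14977 (iv D10508)
theorem F65438 : act 7 n14977 = n14977 := d6_2 F45932 D14977 (iv D14977)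
def n14978 : Q := act 9 n10305
theorem D14978 : act 9 n10305 = n14978 := rfl
theorem F65439 : act 1 n14978 = n10306 := d16_1 D14978 (iv D10306) D10305
theorem F65440 : act 2 n14978 = n10320 := d23_1 D14978 (iv D10320) (iv F45930)
theorem F65441 : act 4 n14978 = n10509 := d34_1 D14978 (iv D10509) (iv F45931)
theorem F65442 : act 7 n14978 = n14978 := d43_1 D14978 (iv D14978) F45932
def n14979 : Q := act 8 n10306
theorem D14979 : act 8 n10306 = n14979 := rfl
theorem F65443 : act 2 n14979 = n10307 := d22_1 D14979 (iv D10307) (iv F45933)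
theorem F65444 : act 4 n14979 = n10510 := d33_1 D14979 (iv D10510) (iv F45934)
theorem F65445 : act 7 n14979 = n14979 := d42_1 D14979 (iv D14979) F45935
def n14980 : Q := act 3 n10308
theorem D14980 : act 3 n10308 = n14980 := rfl
theorem F65446 : act 0 n14980 = n14980 := d2_1 D14980 (iv D14980) F45939
theorem F65447 : act 5 n14980 = n14980 := d25_2 F45942 D14980 (iv D14980)
theorem F65448 : act 6 n14980 = n10309 := d26_2 (iv F45943) D14980 (iv D10309)
def n14981 : Q := act 9 n10308
theorem D14981 : act 9 n10308 = n14981 := rfl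
theorem F65449 : act 0 n14981 = n14981 := d8_1 D14981 (iv D14981) F45939
theorem F65450 : act 2 n14981 = n14981 := d23_1 D14981 (iv D14981) F45940
theorem F65451 : act 4 n14981 = n14981 := d34_1 D14981 (iv D14981) F45941
theorem F65452 : act 5 n14981 = n14981 := d38_1 D14981 (iv D14981) F45942
theorem F65453 : act 6 n14981 = n10310 := d41_1 D14981 (iv D10310) (iv F45943)
def n14982 : Q := act 2 n10309
theorem D14982 : act 2 n10309 = n14982 := rfl
theorem F65454 : act 0 n14982 = n14982 := d1_1 D14982 (iv D14982) F45944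
theorem F65455 : act 3 n14982 = n14982 := d17_2 D10309 D14982 (iv D14982) (iv D10309) F32358
theorem F65456 : act 5 n14982 = n10314 := d19_2 (iv F45945) D14982 (iv D10314)
theorem F65457 : act 7 n14982 = n10311 := d21_2 (iv F45946) D14982 (iv D10311)
def n14983 : Q := act 4 n10309
theorem D14983 : act 4 n10309 = n14983 := rfl
theorem F65458 : act 0 n14983 = n14983 := d3_1 D14983 (iv D14983) F45944
theorem F65459 : act 3 n14983 = n14983 := d24_1 D14983 (iv D14983) (iv D10309) F32359 D10309
theorem F65460 : act 5 n14983 = n10514 := d30_2 (iv F45945) D14983 (iv D10514) F32995 (iv F32369)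
theorem F65461 : act 7 n14983 = n10312 := d32_2 (iv F45946) D14983 (iv D10312)
def n14984 : Q := act 9 n10309
theorem D14984 : act 9 n10309 = n14984 := rfl
theorem F65462 : act 0 n14984 = n14984 := d8_1 D14984 (iv D14984) F45944
theorem F65463 : act 3 n14984 = n10310 := d29_1 D14984 (iv D10310) D10309
theorem F65464 : act 5 n14984 = n10315 := d38_1 D14984 (iv D10315) (iv F45945)
theorem F65465 : act 7 n14984 = n10313 := d43_1 D14984 (iv D10313) (iv F45946)
def n14985 : Q := act 1 n10311
theorem D14985 : act 1 n10311 = n14985 := rfl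
theorem F65466 : act 3 n14985 = n14985 := d10_2 F45953 D14985 (iv D14985)
theorem F65467 : act 5 n14985 = n10316 := d12_2 (iv F45954) D14985 (iv D10316)
def n14986 : Q := act 4 n10311
theorem D14986 : act 4 n10311 = n14986 := rfl
theorem F65469 : act 2 n14986 = n10312 := d18_1 D14986 (iv D10312) D10311
theorem F65470 : act 5 n14986 = n10517 := d30_2 (iv F45954) D14986 (iv D10517) F33005 (iv F32379)
def n14987 : Q := act 9 n10311
theorem D14987 : act 9 n10311 = n14987 := rfl
theorem F65472 : act 2 n14987 = n10313 := d23_1 D14987 (iv D10313) D10311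
theorem F65474 : act 5 n14987 = n10317 := d38_1 D14987 (iv D10317) (iv F45954)
def n14988 : Q := act 9 n10312
theorem D14988 : act 9 n10312 = n14988 := rfl
theorem F65477 : act 4 n14988 = n10313 := d34_1 D14988 (iv D10313) D10312
theorem F65478 : act 5 n14988 = n10519 := d38_1 D14988 (iv D10519) (iv F45957)
def n14989 : Q := act 8 n10313
theorem D14989 : act 8 n10313 = n14989 := rfl
theorem F65479 : act 0 n14989 = n14989 := d7_1 D14989 (iv D14989) F45958
theorem F65480 : act 5 n14989 = n10318 := d37_1 D14989 (iv D10318) (iv F45960)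
def n14990 : Q := act 1 n10314
theorem D14990 : act 1 n10314 = n14990 := rfl
theorem F65481 : act 3 n14990 = n14990 := d10_2 F45962 D14990 (iv D14990)
theorem F65482 : act 4 n14990 = n10521 := d11_2 (iv F45963) D14990 (iv D10521)
theorem F65483 : act 6 n14990 = n14990 := d13_2 F45964 D14990 (iv D14990)
theorem F65484 : act 7 n14990 = n10316 := d14_2 (iv F45965) D14990 (iv D10316)
def n14991 : Q := act 9 n10314
theorem D14991 : act 9 n10314 = n14991 := rfl
def n14992 : Q := act 8 n10315
theorem D14992 : act 8 n10315 = n14992 := rfl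
theorem F65491 : act 0 n14992 = n14992 := d7_1 D14992 (iv D14992) F45966
theorem F65492 : act 4 n14992 = n10523 := d33_1 D14992 (iv D10523) (iv F45968)
theorem F65493 : act 6 n14992 = n14992 := d40_1 D14992 (iv D14992) F45969
theorem F65494 : act 7 n14992 = n10318 := d42_1 D14992 (iv D10318) (iv F45970)
def n14993 : Q := act 0 n10316
theorem D14993 : act 0 n10316 = n14993 := rfl
theorem F65495 : act 1 n14993 = n14993 := d0_2 D10316 D14993 (iv D14993) (iv D10316) F32377
theorem F65496 : act 3 n14993 = n14993 := d2_2 F45971 D14993 (iv D14993)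
theorem F65497 : act 4 n14993 = n10524 := d3_2 (iv F45972) D14993 (iv D10524)
theorem F65498 : act 6 n14993 = n10319 := d5_2 (iv F45973) D14993 (iv D10319)
def n14994 : Q := act 9 n10316
theorem D14994 : act 9 n10316 = n14994 := rfl
theorem F65499 : act 1 n14994 = n10317 := d16_1 D14994 (iv D10317) D10316
theorem F65500 : act 3 n14994 = n14994 := d29_1 D14994 (iv D14994) F45971
theorem F65501 : act 4 n14994 = n10525 := d34_1 D14994 (iv D10525) (iv F45972)
theorem F65502 : act 6 n14994 = n10320 := d41_1 D14994 (iv D10320) (iv F45973)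
def n14995 : Q := act 8 n10317
theorem D14995 : act 8 n10317 = n14995 := rfl
theorem F65503 : act 0 n14995 = n14995 := d7_1 D14995 (iv D14995) F45974
theorem F65504 : act 2 n14995 = n10318 := d22_1 D14995 (iv D10318) (iv F45975)
theorem F65505 : act 4 n14995 = n10526 := d33_1 D14995 (iv D10526) (iv F45977)
theorem F65506 : act 6 n14995 = n10321 := d40_1 D14995 (iv D10321) (iv F45978)
def n14996 : Q := act 9 n10319
theorem D14996 : act 9 n10319 = n14996 := rfl
theorem F65507 : act 0 n14996 = n10320 := d8_1 D14996 (iv D10320) D10319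
theorem F65508 : act 1 n14996 = n14996 := d16_1 D14996 (iv D14996) F45982
theorem F65509 : act 3 n14996 = n14996 := d29_1 D14996 (iv D14996) F45983
theorem F65510 : act 4 n14996 = n10527 := d34_1 D14996 (iv D10527) (iv F45984)
theorem F65511 : act 7 n14996 = n14996 := d43_1 D14996 (iv D14996) F45985
def n14997 : Q := act 8 n10320
theorem D14997 : act 8 n10320 = n14997 := rfl
theorem F65512 : act 1 n14997 = n10321 := d15_1 D14997 (iv D10321) (iv F45986)
theorem F65513 : act 4 n14997 = n10528 := d33_1 D14997 (iv D10528) (iv F45988)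
theorem F65514 : act 7 n14997 = n14997 := d42_1 D14997 (iv D14997) F45989
def n14998 : Q := act 3 n10321
theorem D14998 : act 3 n10321 = n14998 := rfl
theorem F65515 : act 0 n14998 = n14998 := d2_1 D14998 (iv D14998) F45990
theorem F65516 : act 7 n14998 = n14998 := d27_2 F45993 D14998 (iv D14998)
theorem F65517 : act 8 n14998 = n14998 := d28_2 D10321 D14998 (iv D14998) (iv D10321) F32390
def n15004 : Q := act 3 n10324
theorem D15004 : act 3 n10324 = n15004 := rfl
theorem F65547 : act 0 n15004 = n10334 := d2_1 D15004 (iv D10334) (iv F46006)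
theorem F65551 : act 7 n15004 = n10363 := d27_2 (iv F46009) D15004 (iv D10363)
def n15005 : Q := act 6 n10324
theorem D15005 : act 6 n10324 = n15005 := rfl
theorem F65553 : act 0 n15005 = n10335 := d5_1 D15005 (iv D10335) (iv F46006)
theorem F65554 : act 2 n15005 = n10329 := d20_1 D15005 (iv D10329) (iv F46007)
def n15006 : Q := act 8 n10324
theorem D15006 : act 8 n10324 = n15006 := rfl
theorem F65557 : act 0 n15006 = n10336 := d7_1 D15006 (iv D10336) (iv F46006)
theorem F65558 : act 2 n15006 = n10330 := d22_1 D15006 (iv D10330) (iv F46007)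
theorem F65559 : act 4 n15006 = n10326 := d33_1 D15006 (iv D10326) D10324
theorem F65560 : act 5 n15006 = n15006 := d37_1 D15006 (iv D15006) F46008
theorem F65561 : act 7 n15006 = n10365 := d42_1 D15006 (iv D10365) (iv F46009)
def n15007 : Q := act 7 n10325
theorem D15007 : act 7 n10325 = n15007 := rfl
theorem F65562 : act 0 n15007 = n10337 := d6_1 D15007 (iv D10337) (iv F46011)
theorem F65563 : act 2 n15007 = n10331 := d21_1 D15007 (iv D10331) (iv F46012)
theorem F65566 : act 6 n15007 = n10366 := d39_1 D15007 (iv D10366) (iv D7143) (iv F32406) D10325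
def n15008 : Q := act 8 n10325
theorem D15008 : act 8 n10325 = n15008 := rfl
theorem F65568 : act 0 n15008 = n10338 := d7_1 D15008 (iv D10338) (iv F46011)
theorem F65569 : act 2 n15008 = n10332 := d22_1 D15008 (iv D10332) (iv F46012)
theorem F65570 : act 5 n15008 = n15008 := d37_1 D15008 (iv D15008) F46014
theorem F65571 : act 6 n15008 = n10326 := d40_1 D15008 (iv D10326) D10325
def n15009 : Q := act 3 n10326
theorem D15009 : act 3 n10326 = n15009 := rfl
theorem F65575 : act 8 n15009 = n11338 := d28_2 D10326 D15009 (iv D11338) (iv D7812) (iv F32405)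
def n15010 : Q := act 9 n10326
theorem D15010 : act 9 n10326 = n15010 := rfl
theorem F65576 : act 0 n15010 = n10340 := d8_1 D15010 (iv D10340) (iv F46016)
theorem F65577 : act 2 n15010 = n10333 := d23_1 D15010 (iv D10333) (iv F46017)
theorem F65578 : act 5 n15010 = n10328 := d38_1 D15010 (iv D10328) (iv F46018)
theorem F65579 : act 7 n15010 = n10369 := d43_1 D15010 (iv D10369) (iv F46019)
theorem F65580 : act 8 n15010 = n15010 := d44_1 D15010 (iv D15010) (iv D10326) F32407 D10326
def n15012 : Q := act 9 n10327
theorem D15012 : act 9 n10327 = n15012 := rfl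
theorem F65587 : act 3 n15012 = n10328 := d29_1 D15012 (iv D10328) D10327
def n15013 : Q := act 5 n10329
theorem D15013 : act 5 n10329 = n15013 := rfl
theorem F65590 : act 0 n15013 = n10343 := d4_1 D15013 (iv D10343) (iv F46030)
def n15014 : Q := act 7 n10329
theorem D15014 : act 7 n10329 = n15014 := rfl
theorem F65596 : act 0 n15014 = n10344 := d6_1 D15014 (iv D10344) (iv F46030)
theorem F65599 : act 4 n15014 = n10331 := d32_1 D15014 (iv D10331) (iv F46033)
theorem F65600 : act 6 n15014 = n10373 := d39_1 D15014 (iv D10373) (iv D7147) (iv F32417) D10329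
def n15015 : Q := act 8 n10329
theorem D15015 : act 8 n10329 = n15015 := rfl
theorem F65602 : act 0 n15015 = n10345 := d7_1 D15015 (iv D10345) (iv F46030)
theorem F65603 : act 1 n15015 = n15015 := d15_1 D15015 (iv D15015) F46031
theorem F65604 : act 4 n15015 = n10332 := d33_1 D15015 (iv D10332) (iv F46033)
theorem F65605 : act 6 n15015 = n10330 := d40_1 D15015 (iv D10330) D10329
def n15016 : Q := act 3 n10330
theorem D15016 : act 3 n10330 = n15016 := rfl
theorem F65606 : act 0 n15016 = n10346 := d2_1 D15016 (iv D10346) (iv F46035)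
theorem F65607 : act 1 n15016 = n15016 := d10_1 D15016 (iv D15016) F46036
theorem F65608 : act 5 n15016 = n15016 := d25_2 F46038 D15016 (iv D15016)
theorem F65609 : act 7 n15016 = n10375 := d27_2 (iv F46039) D15016 (iv D10375)
theorem F65610 : act 8 n15016 = n15016 := d28_2 D10330 D15016 (iv D15016) (iv D10330) F32415
def n15017 : Q := act 9 n10330
theorem D15017 : act 9 n10330 = n15017 := rfl
theorem F65611 : act 0 n15017 = n10347 := d8_1 D15017 (iv D10347) (iv F46035)
theorem F65612 : act 1 n15017 = n15017 := d16_1 D15017 (iv D15017) F46036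
theorem F65613 : act 4 n15017 = n10333 := d34_1 D15017 (iv D10333) (iv F46037)
theorem F65614 : act 5 n15017 = n15017 := d38_1 D15017 (iv D15017) F46038
theorem F65615 : act 7 n15017 = n10376 := d43_1 D15017 (iv D10376) (iv F46039)
theorem F65616 : act 8 n15017 = n15017 := d44_1 D15017 (iv D15017) (iv D10330) F32418 D10330
def n15018 : Q := act 8 n10331
theorem D15018 : act 8 n10331 = n15018 := rfl
theorem F65617 : act 0 n15018 = n10348 := d7_1 D15018 (iv D10348) (iv F46040)
theorem F65618 : act 1 n15018 = n15018 := d15_1 D15018 (iv D15018) F46041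
theorem F65619 : act 5 n15018 = n15018 := d37_1 D15018 (iv D15018) F46043
theorem F65620 : act 6 n15018 = n10377 := d40_1 D15018 (iv D10377) (iv F46044)
theorem F65621 : act 7 n15018 = n10332 := d42_1 D15018 (iv D10332) D10331
def n15019 : Q := act 9 n10332
theorem D15019 : act 9 n10332 = n15019 := rfl
theorem F65622 : act 0 n15019 = n10349 := d8_1 D15019 (iv D10349) (iv F46046)
theorem F65623 : act 1 n15019 = n15019 := d16_1 D15019 (iv D15019) F46047
theorem F65624 : act 5 n15019 = n15019 := d38_1 D15019 (iv D15019) F46048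
theorem F65625 : act 6 n15019 = n10333 := d41_1 D15019 (iv D10333) (iv F46049)
theorem F65626 : act 8 n15019 = n15019 := d44_1 D15019 (iv D15019) (iv D10332) F32423 D10332
def n15020 : Q := act 6 n10334
theorem D15020 : act 6 n10334 = n15020 := rfl
theorem F65629 : act 3 n15020 = n10335 := d26_1 D15020 (iv D10335) D10334
theorem F65630 : act 4 n15020 = n11349 := d31_1 D15020 (iv D11349) (iv F46057)
def n15021 : Q := act 8 n10334
theorem D15021 : act 8 n10334 = n15021 := rfl
theorem F65636 : act 7 n15021 = n10380 := d42_1 D15021 (iv D10380) (iv F46059)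
def n15022 : Q := act 5 n10335
theorem D15022 : act 5 n10335 = n15022 := rfl
theorem F65638 : act 2 n15022 = n10343 := d19_1 D15022 (iv D10343) (iv F46062)
def n15023 : Q := act 7 n10335
theorem D15023 : act 7 n10335 = n15023 := rfl
theorem F65643 : act 2 n15023 = n10344 := d21_1 D15023 (iv D10344) (iv F46062)
theorem F65645 : act 6 n15023 = n10382 := d39_1 D15023 (iv D10382) (iv D7153) (iv F32444) D10335
def n15024 : Q := act 8 n10335
theorem D15024 : act 8 n10335 = n15024 := rfl
theorem F65647 : act 1 n15024 = n15024 := d15_1 D15024 (iv D15024) F46061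
theorem F65648 : act 2 n15024 = n10345 := d22_1 D15024 (iv D10345) (iv F46062)
theorem F65649 : act 4 n15024 = n10338 := d33_1 D15024 (iv D10338) (iv F46063)
theorem F65650 : act 6 n15024 = n10336 := d40_1 D15024 (iv D10336) D10335
def n15025 : Q := act 3 n10336
theorem D15025 : act 3 n10336 = n15025 := rfl
theorem F65651 : act 1 n15025 = n15025 := d10_1 D15025 (iv D15025) F46065
theorem F65652 : act 5 n15025 = n15025 := d25_2 F46068 D15025 (iv D15025)
theorem F65653 : act 7 n15025 = n10384 := d27_2 (iv F46069) D15025 (iv D10384)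
def n15026 : Q := act 9 n10336
theorem D15026 : act 9 n10336 = n15026 := rfl
theorem F65654 : act 1 n15026 = n15026 := d16_1 D15026 (iv D15026) F46065
theorem F65655 : act 2 n15026 = n10347 := d23_1 D15026 (iv D10347) (iv F46066)
theorem F65656 : act 4 n15026 = n10340 := d34_1 D15026 (iv D10340) (iv F46067)
theorem F65657 : act 5 n15026 = n15026 := d38_1 D15026 (iv D15026) F46068
theorem F65658 : act 7 n15026 = n10385 := d43_1 D15026 (iv D10385) (iv F46069)
theorem F65659 : act 8 n15026 = n15026 := d44_1 D15026 (iv D15026) (iv D10336) F32445 D10336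
def n15027 : Q := act 8 n10337
theorem D15027 : act 8 n10337 = n15027 := rfl
theorem F65660 : act 1 n15027 = n15027 := d15_1 D15027 (iv D15027) F46070
theorem F65661 : act 2 n15027 = n10348 := d22_1 D15027 (iv D10348) (iv F46071)
theorem F65662 : act 5 n15027 = n15027 := d37_1 D15027 (iv D15027) F46073
theorem F65663 : act 6 n15027 = n10386 := d40_1 D15027 (iv D10386) (iv F46074)
theorem F65664 : act 7 n15027 = n10338 := d42_1 D15027 (iv D10338) D10337
def n15028 : Q := act 3 n10338
theorem D15028 : act 3 n10338 = n15028 := rfl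
theorem F65665 : act 1 n15028 = n15028 := d10_1 D15028 (iv D15028) F46076
theorem F65666 : act 5 n15028 = n15028 := d25_2 F46078 D15028 (iv D15028)
theorem F65667 : act 6 n15028 = n10339 := d26_2 (iv F46079) D15028 (iv D10339)
theorem F65668 : act 8 n15028 = n11357 := d28_2 D10338 D15028 (iv D11357) (iv D7824) (iv F32448)
def n15029 : Q := act 9 n10338
theorem D15029 : act 9 n10338 = n15029 := rfl
theorem F65669 : act 1 n15029 = n15029 := d16_1 D15029 (iv D15029) F46076
theorem F65670 : act 2 n15029 = n10349 := d23_1 D15029 (iv D10349) (iv F46077)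
theorem F65671 : act 5 n15029 = n15029 := d38_1 D15029 (iv D15029) F46078
theorem F65672 : act 6 n15029 = n10340 := d41_1 D15029 (iv D10340) (iv F46079)
theorem F65673 : act 8 n15029 = n15029 := d44_1 D15029 (iv D15029) (iv D10338) F32450 D10338
def n15030 : Q := act 4 n10339
theorem D15030 : act 4 n10339 = n15030 := rfl
theorem F65674 : act 1 n15030 = n15030 := d11_1 D15030 (iv D15030) F46080
theorem F65675 : act 7 n15030 = n10389 := d32_2 (iv F46082) D15030 (iv D10389)
theorem F65676 : act 8 n15030 = n11359 := d33_2 (iv F46083) D15030 (iv D11359)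
def n15031 : Q := act 9 n10339
theorem D15031 : act 9 n10339 = n15031 := rfl
theorem F65677 : act 1 n15031 = n15031 := d16_1 D15031 (iv D15031) F46080
theorem F65678 : act 3 n15031 = n10340 := d29_1 D15031 (iv D10340) D10339
theorem F65679 : act 5 n15031 = n10342 := d38_1 D15031 (iv D10342) (iv F46081)
theorem F65680 : act 7 n15031 = n10390 := d43_1 D15031 (iv D10390) (iv F46082)
def n15032 : Q := act 5 n10341
theorem D15032 : act 5 n10341 = n15032 := rfl
theorem F65681 : act 1 n15032 = n15032 := d12_1 D15032 (iv D15032) F46089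
theorem F65682 : act 3 n15032 = n15032 := d25_1 D15032 (iv D15032) F46090
theorem F65683 : act 7 n15032 = n10391 := d36_2 (iv F46092) D15032 (iv D10391)
theorem F65684 : act 8 n15032 = n11361 := d37_2 (iv F46093) D15032 (iv D11361)
def n15033 : Q := act 9 n10341
theorem D15033 : act 9 n10341 = n15033 := rfl
theorem F65685 : act 1 n15033 = n15033 := d16_1 D15033 (iv D15033) F46089
theorem F65686 : act 3 n15033 = n15033 := d29_1 D15033 (iv D15033) F46090
theorem F65687 : act 4 n15033 = n10342 := d34_1 D15033 (iv D10342) D10341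
theorem F65688 : act 6 n15033 = n15033 := d41_1 D15033 (iv D15033) F46091
theorem F65689 : act 7 n15033 = n10392 := d43_1 D15033 (iv D10392) (iv F46092)
def n15035 : Q := act 7 n10343
theorem D15035 : act 7 n10343 = n15035 := rfl
theorem F65695 : act 1 n15035 = n10350 := d14_1 D15035 (iv D10350) (iv F46098)
theorem F65698 : act 5 n15035 = n10344 := d36_1 D15035 (iv D10344) D10343
def n15036 : Q := act 8 n10343
theorem D15036 : act 8 n10343 = n15036 := rfl
theorem F65700 : act 1 n15036 = n10351 := d15_1 D15036 (iv D10351) (iv F46098)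
theorem F65701 : act 4 n15036 = n15036 := d33_1 D15036 (iv D15036) F46100
theorem F65702 : act 5 n15036 = n10345 := d37_1 D15036 (iv D10345) D10343
theorem F65703 : act 6 n15036 = n15036 := d40_1 D15036 (iv D15036) F46101
def n15037 : Q := act 8 n10344
theorem D15037 : act 8 n10344 = n15037 := rfl
theorem F65704 : act 1 n15037 = n10352 := d15_1 D15037 (iv D10352) (iv F46103)
theorem F65705 : act 4 n15037 = n10348 := d33_1 D15037 (iv D10348) (iv F46105)
theorem F65706 : act 6 n15037 = n10396 := d40_1 D15037 (iv D10396) (iv F46106)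
theorem F65707 : act 7 n15037 = n10345 := d42_1 D15037 (iv D10345) D10344
def n15038 : Q := act 3 n10345
theorem D15038 : act 3 n10345 = n15038 := rfl
theorem F65708 : act 1 n15038 = n10353 := d10_1 D15038 (iv D10353) (iv F46108)
theorem F65709 : act 6 n15038 = n10346 := d26_2 (iv F46110) D15038 (iv D10346)
theorem F65710 : act 8 n15038 = n15038 := d28_2 D10345 D15038 (iv D15038) (iv D10345) F32466
def n15039 : Q := act 9 n10345
theorem D15039 : act 9 n10345 = n15039 := rfl
theorem F65711 : act 1 n15039 = n10354 := d16_1 D15039 (iv D10354) (iv F46108)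
theorem F65712 : act 4 n15039 = n10349 := d34_1 D15039 (iv D10349) (iv F46109)
theorem F65713 : act 6 n15039 = n10347 := d41_1 D15039 (iv D10347) (iv F46110)
theorem F65714 : act 8 n15039 = n15039 := d44_1 D15039 (iv D15039) (iv D10345) F32468 D10345
def n15040 : Q := act 2 n10346
theorem D15040 : act 2 n10346 = n15040 := rfl
theorem F65715 : act 5 n15040 = n15040 := d19_2 F46112 D15040 (iv D15040)
theorem F65716 : act 7 n15040 = n10399 := d21_2 (iv F46113) D15040 (iv D10399)
theorem F65717 : act 8 n15040 = n15040 := d22_2 F46114 D15040 (iv D15040)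
def n15041 : Q := act 9 n10346
theorem D15041 : act 9 n10346 = n15041 := rfl
theorem F65718 : act 1 n15041 = n10356 := d16_1 D15041 (iv D10356) (iv F46111)
theorem F65719 : act 3 n15041 = n10347 := d29_1 D15041 (iv D10347) D10346
theorem F65720 : act 5 n15041 = n15041 := d38_1 D15041 (iv D15041) F46112
theorem F65721 : act 7 n15041 = n10400 := d43_1 D15041 (iv D10400) (iv F46113)
def n15042 : Q := act 9 n10348
theorem D15042 : act 9 n10348 = n15042 := rfl
theorem F65722 : act 1 n15042 = n10357 := d16_1 D15042 (iv D10357) (iv F46120)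
theorem F65723 : act 5 n15042 = n15042 := d38_1 D15042 (iv D15042) F46121
theorem F65724 : act 6 n15042 = n10401 := d41_1 D15042 (iv D10401) (iv F46122)
theorem F65725 : act 7 n15042 = n10349 := d43_1 D15042 (iv D10349) (iv F46123)
theorem F65726 : act 8 n15042 = n15042 := d44_1 D15042 (iv D15042) (iv D10348) F32477 D10348
def n15043 : Q := act 6 n10350
theorem D15043 : act 6 n10350 = n15043 := rfl
theorem F65731 : act 5 n15043 = n10402 := d35_1 D15043 (iv D10402) F32639 (iv F32495) (iv F46132)
def n15044 : Q := act 8 n10350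
theorem D15044 : act 8 n10350 = n15044 := rfl
theorem F65734 : act 0 n15044 = n15044 := d7_1 D15044 (iv D15044) F46128
theorem F65735 : act 2 n15044 = n15044 := d22_1 D15044 (iv D15044) F46129
theorem F65736 : act 4 n15044 = n15044 := d33_1 D15044 (iv D15044) F46131
theorem F65737 : act 5 n15044 = n10352 := d37_1 D15044 (iv D10352) (iv F46132)
theorem F65738 : act 7 n15044 = n10351 := d42_1 D15044 (iv D10351) D10350
def n15045 : Q := act 3 n10351
theorem D15045 : act 3 n10351 = n15045 := rfl
theorem F65739 : act 0 n15045 = n15045 := d2_1 D15045 (iv D15045) F46134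
theorem F65740 : act 5 n15045 = n10353 := d25_2 (iv F46137) D15045 (iv D10353)
theorem F65741 : act 6 n15045 = n15045 := d26_2 F46138 D15045 (iv D15045)
theorem F65742 : act 8 n15045 = n15045 := d28_2 D10351 D15045 (iv D15045) (iv D10351) F32487
def n15046 : Q := act 9 n10351
theorem D15046 : act 9 n10351 = n15046 := rfl
theorem F65743 : act 0 n15046 = n15046 := d8_1 D15046 (iv D15046) F46134
theorem F65744 : act 2 n15046 = n15046 := d23_1 D15046 (iv D15046) F46135
theorem F65745 : act 4 n15046 = n15046 := d34_1 D15046 (iv D15046) F46136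
theorem F65746 : act 5 n15046 = n10354 := d38_1 D15046 (iv D10354) (iv F46137)
theorem F65747 : act 6 n15046 = n15046 := d41_1 D15046 (iv D15046) F46138
theorem F65748 : act 8 n15046 = n15046 := d44_1 D15046 (iv D15046) (iv D10351) F32490 D10351
def n15047 : Q := act 3 n10352
theorem D15047 : act 3 n10352 = n15047 := rfl
theorem F65749 : act 0 n15047 = n15047 := d2_1 D15047 (iv D15047) F46139
theorem F65750 : act 6 n15047 = n10406 := d26_2 (iv F46142) D15047 (iv D10406)
theorem F65751 : act 7 n15047 = n10353 := d27_2 (iv F46143) D15047 (iv D10353)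
theorem F65752 : act 8 n15047 = n15047 := d28_2 D10352 D15047 (iv D15047) (iv D10352) F32493
def n15048 : Q := act 9 n10352
theorem D15048 : act 9 n10352 = n15048 := rfl
theorem F65753 : act 0 n15048 = n15048 := d8_1 D15048 (iv D15048) F46139
theorem F65754 : act 2 n15048 = n15048 := d23_1 D15048 (iv D15048) F46140
theorem F65755 : act 4 n15048 = n10357 := d34_1 D15048 (iv D10357) (iv F46141)
theorem F65756 : act 6 n15048 = n10407 := d41_1 D15048 (iv D10407) (iv F46142)
theorem F65757 : act 7 n15048 = n10354 := d43_1 D15048 (iv D10354) (iv F46143)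
theorem F65758 : act 8 n15048 = n15048 := d44_1 D15048 (iv D15048) (iv D10352) F32496 D10352
def n15049 : Q := act 2 n10353
theorem D15049 : act 2 n10353 = n15049 := rfl
theorem F65759 : act 0 n15049 = n15049 := d1_1 D15049 (iv D15049) F46144
theorem F65760 : act 3 n15049 = n15049 := d17_2 D10353 D15049 (iv D15049) (iv D10353) F32498
theorem F65761 : act 6 n15049 = n10355 := d20_2 (iv F46145) D15049 (iv D10355)
theorem F65762 : act 8 n15049 = n15049 := d22_2 F46146 D15049 (iv D15049)
def n15050 : Q := act 9 n10353
theorem D15050 : act 9 n10353 = n15050 := rfl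
theorem F65763 : act 0 n15050 = n15050 := d8_1 D15050 (iv D15050) F46144
theorem F65764 : act 3 n15050 = n10354 := d29_1 D15050 (iv D10354) D10353
theorem F65765 : act 6 n15050 = n10356 := d41_1 D15050 (iv D10356) (iv F46145)
def n15051 : Q := act 1 n10355
theorem D15051 : act 1 n10355 = n15051 := rfl
theorem F65766 : act 3 n15051 = n15051 := d10_2 F46153 D15051 (iv D15051)
theorem F65767 : act 5 n15051 = n15051 := d12_2 F46154 D15051 (iv D15051)
theorem F65768 : act 7 n15051 = n10410 := d14_2 (iv F46155) D15051 (iv D10410)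
theorem F65769 : act 8 n15051 = n15051 := d15_2 F46156 D15051 (iv D15051)
def n15052 : Q := act 9 n10355
theorem D15052 : act 9 n10355 = n15052 := rfl
theorem F65770 : act 0 n15052 = n15052 := d8_1 D15052 (iv D15052) F46152
theorem F65771 : act 2 n15052 = n10356 := d23_1 D15052 (iv D10356) D10355
theorem F65772 : act 3 n15052 = n15052 := d29_1 D15052 (iv D15052) F46153
theorem F65773 : act 5 n15052 = n15052 := d38_1 D15052 (iv D15052) F46154
theorem F65774 : act 7 n15052 = n10411 := d43_1 D15052 (iv D10411) (iv F46155)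
def n15053 : Q := act 8 n10356
theorem D15053 : act 8 n10356 = n15053 := rfl
theorem F65775 : act 0 n15053 = n15053 := d7_1 D15053 (iv D15053) F46157
theorem F65776 : act 3 n15053 = n15053 := d28_1 D15053 (iv D15053) F46158 F32510 (iv F46158)
theorem F65777 : act 5 n15053 = n15053 := d37_1 D15053 (iv D15053) F46159
theorem F65778 : act 7 n15053 = n10412 := d42_1 D15053 (iv D10412) (iv F46160)
theorem F65779 : act 9 n15053 = n15053 := d44_2 D10356 D15053 (iv D15053) (iv D10356) F32504
def n15057 : Q := act 7 n10359
theorem D15057 : act 7 n10359 = n15057 := rfl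
theorem F65796 : act 1 n15057 = n10366 := d14_1 D15057 (iv D10366) (iv F46173)
theorem F65798 : act 3 n15057 = n11385 := d27_1 D15057 (iv D11385) (iv F46175)
def n15064 : Q := act 6 n10363
theorem D15064 : act 6 n10363 = n15064 := rfl
theorem F65828 : act 0 n15064 = n10379 := d5_1 D15064 (iv D10379) (iv F46192)
theorem F65830 : act 3 n15064 = n10364 := d26_1 D15064 (iv D10364) D10363
theorem F65831 : act 4 n15064 = n11392 := d31_1 D15064 (iv D11392) (iv F46194)
def n15065 : Q := act 8 n10363
theorem D15065 : act 8 n10363 = n15065 := rfl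
theorem F65833 : act 0 n15065 = n10380 := d7_1 D15065 (iv D10380) (iv F46192)
theorem F65835 : act 4 n15065 = n11393 := d33_1 D15065 (iv D11393) (iv F46194)
def n15066 : Q := act 5 n10364
theorem D15066 : act 5 n10364 = n15066 := rfl
theorem F65837 : act 0 n15066 = n10381 := d4_1 D15066 (iv D10381) (iv F46197)
theorem F65838 : act 2 n15066 = n10372 := d19_1 D15066 (iv D10372) (iv F46198)
theorem F65839 : act 4 n15066 = n10422 := d30_1 D15066 (iv D10422) F32700 (iv F32538) (iv F46199)
def n15067 : Q := act 7 n10364
theorem D15067 : act 7 n10364 = n15067 := rfl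
theorem F65842 : act 0 n15067 = n10382 := d6_1 D15067 (iv D10382) (iv F46197)
theorem F65843 : act 2 n15067 = n10373 := d21_1 D15067 (iv D10373) (iv F46198)
theorem F65844 : act 4 n15067 = n10366 := d32_1 D15067 (iv D10366) (iv F46199)
def n15068 : Q := act 8 n10364
theorem D15068 : act 8 n10364 = n15068 := rfl
theorem F65846 : act 0 n15068 = n10383 := d7_1 D15068 (iv D10383) (iv F46197)
theorem F65847 : act 2 n15068 = n10374 := d22_1 D15068 (iv D10374) (iv F46198)
theorem F65848 : act 4 n15068 = n10367 := d33_1 D15068 (iv D10367) (iv F46199)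
theorem F65849 : act 6 n15068 = n10365 := d40_1 D15068 (iv D10365) D10364
def n15069 : Q := act 3 n10365
theorem D15069 : act 3 n10365 = n15069 := rfl
theorem F65850 : act 0 n15069 = n10384 := d2_1 D15069 (iv D10384) (iv F46201)
theorem F65851 : act 5 n15069 = n15069 := d25_2 F46204 D15069 (iv D15069)
def n15070 : Q := act 9 n10365
theorem D15070 : act 9 n10365 = n15070 := rfl
theorem F65852 : act 0 n15070 = n10385 := d8_1 D15070 (iv D10385) (iv F46201)
theorem F65853 : act 2 n15070 = n10376 := d23_1 D15070 (iv D10376) (iv F46202)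
theorem F65854 : act 4 n15070 = n10369 := d34_1 D15070 (iv D10369) (iv F46203)
theorem F65855 : act 5 n15070 = n15070 := d38_1 D15070 (iv D15070) F46204
theorem F65856 : act 8 n15070 = n15070 := d44_1 D15070 (iv D15070) (iv D10365) F32534 D10365
def n15071 : Q := act 8 n10366
theorem D15071 : act 8 n10366 = n15071 := rfl
theorem F65857 : act 0 n15071 = n10386 := d7_1 D15071 (iv D10386) (iv F46205)
theorem F65858 : act 2 n15071 = n10377 := d22_1 D15071 (iv D10377) (iv F46206)
theorem F65859 : act 5 n15071 = n10427 := d37_1 D15071 (iv D10427) (iv F46208)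
theorem F65860 : act 7 n15071 = n10367 := d42_1 D15071 (iv D10367) D10366
def n15072 : Q := act 3 n10367
theorem D15072 : act 3 n10367 = n15072 := rfl
theorem F65864 : act 8 n15072 = n11399 := d28_2 D10367 D15072 (iv D11399) (iv D7853) (iv F32537)
def n15073 : Q := act 9 n10367
theorem D15073 : act 9 n10367 = n15073 := rfl
theorem F65865 : act 0 n15073 = n10388 := d8_1 D15073 (iv D10388) (iv F46210)
theorem F65866 : act 2 n15073 = n10378 := d23_1 D15073 (iv D10378) (iv F46211)
theorem F65867 : act 5 n15073 = n10429 := d38_1 D15073 (iv D10429) (iv F46212)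
theorem F65868 : act 6 n15073 = n10369 := d41_1 D15073 (iv D10369) (iv F46213)
theorem F65869 : act 8 n15073 = n15073 := d44_1 D15073 (iv D15073) (iv D10367) F32539 D10367
def n15074 : Q := act 4 n10368
theorem D15074 : act 4 n10368 = n15074 := rfl
theorem F65871 : act 8 n15074 = n11401 := d33_2 (iv F46216) D15074 (iv D11401)
def n15078 : Q := act 8 n10371
theorem D15078 : act 8 n10371 = n15078 := rfl
theorem F65885 : act 9 n15078 = n11405 := d44_2 D10371 D15078 (iv D11405) (iv D7857) (iv F32545)
def n15079 : Q := act 7 n10372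
theorem D15079 : act 7 n10372 = n15079 := rfl
theorem F65886 : act 0 n15079 = n10394 := d6_1 D15079 (iv D10394) (iv F46228)
theorem F65889 : act 4 n15079 = n10435 := d32_1 D15079 (iv D10435) (iv F46231)
theorem F65890 : act 5 n15079 = n10373 := d36_1 D15079 (iv D10373) D10372
def n15080 : Q := act 8 n10372
theorem D15080 : act 8 n10372 = n15080 := rfl
theorem F65892 : act 0 n15080 = n10395 := d7_1 D15080 (iv D10395) (iv F46228)
theorem F65893 : act 1 n15080 = n15080 := d15_1 D15080 (iv D15080) F46229
theorem F65894 : act 4 n15080 = n10436 := d33_1 D15080 (iv D10436) (iv F46231)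
theorem F65895 : act 5 n15080 = n10374 := d37_1 D15080 (iv D10374) D10372
theorem F65896 : act 6 n15080 = n15080 := d40_1 D15080 (iv D15080) F46232
def n15081 : Q := act 8 n10373
theorem D15081 : act 8 n10373 = n15081 := rfl
theorem F65897 : act 0 n15081 = n10396 := d7_1 D15081 (iv D10396) (iv F46234)
theorem F65898 : act 1 n15081 = n15081 := d15_1 D15081 (iv D15081) F46235
theorem F65899 : act 4 n15081 = n10377 := d33_1 D15081 (iv D10377) (iv F46237)
theorem F65900 : act 7 n15081 = n10374 := d42_1 D15081 (iv D10374) D10373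
def n15082 : Q := act 3 n10374
theorem D15082 : act 3 n10374 = n15082 := rfl
theorem F65901 : act 0 n15082 = n10397 := d2_1 D15082 (iv D10397) (iv F46239)
theorem F65902 : act 1 n15082 = n15082 := d10_1 D15082 (iv D15082) F46240
theorem F65903 : act 6 n15082 = n10375 := d26_2 (iv F46242) D15082 (iv D10375)
theorem F65904 : act 8 n15082 = n15082 := d28_2 D10374 D15082 (iv D15082) (iv D10374) F32553
def n15083 : Q := act 9 n10374
theorem D15083 : act 9 n10374 = n15083 := rfl
theorem F65905 : act 0 n15083 = n10398 := d8_1 D15083 (iv D10398) (iv F46239)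
theorem F65906 : act 1 n15083 = n15083 := d16_1 D15083 (iv D15083) F46240
theorem F65907 : act 4 n15083 = n10378 := d34_1 D15083 (iv D10378) (iv F46241)
theorem F65908 : act 6 n15083 = n10376 := d41_1 D15083 (iv D10376) (iv F46242)
theorem F65909 : act 8 n15083 = n15083 := d44_1 D15083 (iv D15083) (iv D10374) F32555 D10374
def n15084 : Q := act 2 n10375
theorem D15084 : act 2 n10375 = n15084 := rfl
theorem F65910 : act 0 n15084 = n10399 := d1_1 D15084 (iv D10399) (iv F46243)
theorem F65911 : act 5 n15084 = n15084 := d19_2 F46245 D15084 (iv D15084)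
theorem F65912 : act 8 n15084 = n15084 := d22_2 F46246 D15084 (iv D15084)
def n15085 : Q := act 9 n10375
theorem D15085 : act 9 n10375 = n15085 := rfl
theorem F65913 : act 0 n15085 = n10400 := d8_1 D15085 (iv D10400) (iv F46243)
theorem F65914 : act 1 n15085 = n15085 := d16_1 D15085 (iv D15085) F46244
theorem F65915 : act 3 n15085 = n10376 := d29_1 D15085 (iv D10376) D10375
theorem F65916 : act 5 n15085 = n15085 := d38_1 D15085 (iv D15085) F46245
def n15086 : Q := act 9 n10377
theorem D15086 : act 9 n10377 = n15086 := rfl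
theorem F65917 : act 0 n15086 = n10401 := d8_1 D15086 (iv D10401) (iv F46252)
theorem F65918 : act 1 n15086 = n15086 := d16_1 D15086 (iv D15086) F46253
theorem F65919 : act 5 n15086 = n10442 := d38_1 D15086 (iv D10442) (iv F46254)
theorem F65920 : act 7 n15086 = n10378 := d43_1 D15086 (iv D10378) (iv F46255)
theorem F65921 : act 8 n15086 = n15086 := d44_1 D15086 (iv D15086) (iv D10377) F32564 D10377
def n15087 : Q := act 5 n10379
theorem D15087 : act 5 n10379 = n15087 := rfl
theorem F65924 : act 3 n15087 = n10381 := d25_1 D15087 (iv D10381) (iv F46263)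
def n15088 : Q := act 7 n10379
theorem D15088 : act 7 n10379 = n15088 := rfl
theorem F65930 : act 3 n15088 = n10382 := d27_1 D15088 (iv D10382) (iv F46263)
theorem F65931 : act 4 n15088 = n11412 := d32_1 D15088 (iv D11412) (iv F46264)
def n15089 : Q := act 8 n10379
theorem D15089 : act 8 n10379 = n15089 := rfl
def n15090 : Q := act 3 n10380
theorem D15090 : act 3 n10380 = n15090 := rfl
theorem F65937 : act 1 n15090 = n15090 := d10_1 D15090 (iv D15090) F46266
theorem F65938 : act 5 n15090 = n15090 := d25_2 F46269 D15090 (iv D15090)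
theorem F65939 : act 8 n15090 = n10384 := d28_2 D10380 D15090 (iv D10384) (iv D7154) D7152
def n15091 : Q := act 9 n10380
theorem D15091 : act 9 n10380 = n15091 := rfl
theorem F65940 : act 1 n15091 = n15091 := d16_1 D15091 (iv D15091) F46266
theorem F65941 : act 2 n15091 = n15091 := d23_1 D15091 (iv D15091) F46267
theorem F65942 : act 4 n15091 = n11415 := d34_1 D15091 (iv D11415) (iv F46268)
theorem F65943 : act 5 n15091 = n15091 := d38_1 D15091 (iv D15091) F46269
theorem F65944 : act 8 n15091 = n15091 := d44_1 D15091 (iv D15091) (iv D10380) F32577 D10380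
def n15092 : Q := act 7 n10381
theorem D15092 : act 7 n10381 = n15092 := rfl
theorem F65946 : act 2 n15092 = n10394 := d21_1 D15092 (iv D10394) (iv F46271)
theorem F65947 : act 4 n15092 = n10443 := d32_1 D15092 (iv D10443) (iv F46272)
theorem F65948 : act 5 n15092 = n10382 := d36_1 D15092 (iv D10382) D10381
def n15093 : Q := act 8 n10381
theorem D15093 : act 8 n10381 = n15093 := rfl
theorem F65950 : act 1 n15093 = n15093 := d15_1 D15093 (iv D15093) F46270
theorem F65951 : act 2 n15093 = n10395 := d22_1 D15093 (iv D10395) (iv F46271)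
theorem F65952 : act 4 n15093 = n10444 := d33_1 D15093 (iv D10444) (iv F46272)
theorem F65953 : act 5 n15093 = n10383 := d37_1 D15093 (iv D10383) D10381
theorem F65954 : act 6 n15093 = n15093 := d40_1 D15093 (iv D15093) F46273
def n15094 : Q := act 8 n10382
theorem D15094 : act 8 n10382 = n15094 := rfl
theorem F65955 : act 1 n15094 = n15094 := d15_1 D15094 (iv D15094) F46275
theorem F65956 : act 2 n15094 = n10396 := d22_1 D15094 (iv D10396) (iv F46276)
theorem F65957 : act 4 n15094 = n10386 := d33_1 D15094 (iv D10386) (iv F46277)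
theorem F65958 : act 7 n15094 = n10383 := d42_1 D15094 (iv D10383) D10382
def n15095 : Q := act 3 n10383
theorem D15095 : act 3 n10383 = n15095 := rfl
theorem F65959 : act 1 n15095 = n15095 := d10_1 D15095 (iv D15095) F46279
theorem F65960 : act 6 n15095 = n10384 := d26_2 (iv F46282) D15095 (iv D10384)
def n15096 : Q := act 9 n10383
theorem D15096 : act 9 n10383 = n15096 := rfl
theorem F65961 : act 1 n15096 = n15096 := d16_1 D15096 (iv D15096) F46279
theorem F65962 : act 2 n15096 = n10398 := d23_1 D15096 (iv D10398) (iv F46280)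
theorem F65963 : act 4 n15096 = n10388 := d34_1 D15096 (iv D10388) (iv F46281)
theorem F65964 : act 6 n15096 = n10385 := d41_1 D15096 (iv D10385) (iv F46282)
theorem F65965 : act 8 n15096 = n15096 := d44_1 D15096 (iv D15096) (iv D10383) F32581 D10383
def n15097 : Q := act 2 n10384
theorem D15097 : act 2 n10384 = n15097 := rfl
theorem F65966 : act 3 n15097 = n10399 := d17_2 D10384 D15097 (iv D10399) (iv D7164) (iv F32583)
theorem F65967 : act 5 n15097 = n15097 := d19_2 F46284 D15097 (iv D15097)
def n15098 : Q := act 4 n10384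
theorem D15098 : act 4 n10384 = n15098 := rfl
theorem F65968 : act 1 n15098 = n15098 := d11_1 D15098 (iv D15098) F46283
theorem F65969 : act 3 n15098 = n10389 := d24_1 D15098 (iv D10389) (iv D7157) (iv F32584) D10384
def n15099 : Q := act 9 n10384
theorem D15099 : act 9 n10384 = n15099 := rfl
theorem F65970 : act 1 n15099 = n15099 := d16_1 D15099 (iv D15099) F46283
theorem F65971 : act 3 n15099 = n10385 := d29_1 D15099 (iv D10385) D10384
theorem F65972 : act 5 n15099 = n15099 := d38_1 D15099 (iv D15099) F46284
def n15100 : Q := act 3 n10386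
theorem D15100 : act 3 n10386 = n15100 := rfl
theorem F65973 : act 1 n15100 = n15100 := d10_1 D15100 (iv D15100) F46290
theorem F65974 : act 5 n15100 = n10451 := d25_2 (iv F46292) D15100 (iv D10451)
theorem F65975 : act 7 n15100 = n10387 := d27_2 (iv F46293) D15100 (iv D10387)
theorem F65976 : act 8 n15100 = n11422 := d28_2 D10386 D15100 (iv D11422) (iv D7870) (iv F32588)
def n15101 : Q := act 9 n10386
theorem D15101 : act 9 n10386 = n15101 := rfl
theorem F65977 : act 1 n15101 = n15101 := d16_1 D15101 (iv D15101) F46290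
theorem F65978 : act 2 n15101 = n10401 := d23_1 D15101 (iv D10401) (iv F46291)
theorem F65979 : act 5 n15101 = n10452 := d38_1 D15101 (iv D10452) (iv F46292)
theorem F65980 : act 7 n15101 = n10388 := d43_1 D15101 (iv D10388) (iv F46293)
theorem F65981 : act 8 n15101 = n15101 := d44_1 D15101 (iv D15101) (iv D10386) F32590 D10386
def n15102 : Q := act 4 n10387
theorem D15102 : act 4 n10387 = n15102 := rfl
theorem F65982 : act 1 n15102 = n15102 := d11_1 D15102 (iv D15102) F46294
theorem F65983 : act 6 n15102 = n10389 := d31_2 (iv F46296) D15102 (iv D10389)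
theorem F65984 : act 8 n15102 = n11424 := d33_2 (iv F46297) D15102 (iv D11424)
def n15103 : Q := act 9 n10387
theorem D15103 : act 9 n10387 = n15103 := rfl
theorem F65985 : act 1 n15103 = n15103 := d16_1 D15103 (iv D15103) F46294
theorem F65986 : act 3 n15103 = n10388 := d29_1 D15103 (iv D10388) D10387
theorem F65987 : act 5 n15103 = n10454 := d38_1 D15103 (iv D10454) (iv F46295)
theorem F65988 : act 6 n15103 = n10390 := d41_1 D15103 (iv D10390) (iv F46296)
def n15104 : Q := act 5 n10389
theorem D15104 : act 5 n10389 = n15104 := rfl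
theorem F65989 : act 1 n15104 = n15104 := d12_1 D15104 (iv D15104) F46303
theorem F65990 : act 4 n15104 = n10391 := d30_1 D15104 (iv D10391) (iv D7159) (iv F32596) D10389
theorem F65991 : act 8 n15104 = n11426 := d37_2 (iv F46304) D15104 (iv D11426)
def n15105 : Q := act 9 n10389
theorem D15105 : act 9 n10389 = n15105 := rfl
theorem F65992 : act 1 n15105 = n15105 := d16_1 D15105 (iv D15105) F46303
theorem F65993 : act 4 n15105 = n10390 := d34_1 D15105 (iv D10390) D10389
def n15107 : Q := act 6 n10391
theorem D15107 : act 6 n10391 = n15107 := rfl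
theorem F65998 : act 1 n15107 = n15107 := d13_1 D15107 (iv D15107) F46308
theorem F65999 : act 3 n15107 = n15107 := d26_1 D15107 (iv D15107) F46309
theorem F66000 : act 5 n15107 = n10458 := d35_1 D15107 (iv D10458) (iv D7206) (iv F32604) D10391
theorem F66001 : act 8 n15107 = n11429 := d40_2 (iv F46310) D15107 (iv D11429)
def n15108 : Q := act 9 n10391
theorem D15108 : act 9 n10391 = n15108 := rfl
theorem F66002 : act 1 n15108 = n15108 := d16_1 D15108 (iv D15108) F46308
theorem F66003 : act 3 n15108 = n15108 := d29_1 D15108 (iv D15108) F46309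
theorem F66004 : act 5 n15108 = n10392 := d38_1 D15108 (iv D10392) D10391
def n15110 : Q := act 6 n10394
theorem D15110 : act 6 n10394 = n15110 := rfl
theorem F66009 : act 1 n15110 = n10402 := d13_1 D15110 (iv D10402) (iv F46319)
theorem F66011 : act 4 n15110 = n10461 := d31_1 D15110 (iv D10461) (iv F46321)
def n15111 : Q := act 8 n10394
theorem D15111 : act 8 n10394 = n15111 := rfl
theorem F66014 : act 1 n15111 = n10403 := d15_1 D15111 (iv D10403) (iv F46319)
theorem F66015 : act 4 n15111 = n10462 := d33_1 D15111 (iv D10462) (iv F46321)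
theorem F66016 : act 5 n15111 = n10396 := d37_1 D15111 (iv D10396) (iv F46322)
theorem F66017 : act 7 n15111 = n10395 := d42_1 D15111 (iv D10395) D10394
def n15112 : Q := act 3 n10395
theorem D15112 : act 3 n10395 = n15112 := rfl
theorem F66018 : act 1 n15112 = n10404 := d10_1 D15112 (iv D10404) (iv F46324)
theorem F66019 : act 5 n15112 = n10397 := d25_2 (iv F46326) D15112 (iv D10397)
theorem F66020 : act 6 n15112 = n15112 := d26_2 F46327 D15112 (iv D15112)
theorem F66021 : act 8 n15112 = n15112 := d28_2 D10395 D15112 (iv D15112) (iv D10395) F32610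
def n15113 : Q := act 9 n10395
theorem D15113 : act 9 n10395 = n15113 := rfl
theorem F66022 : act 1 n15113 = n10405 := d16_1 D15113 (iv D10405) (iv F46324)
theorem F66023 : act 4 n15113 = n10464 := d34_1 D15113 (iv D10464) (iv F46325)
theorem F66024 : act 5 n15113 = n10398 := d38_1 D15113 (iv D10398) (iv F46326)
theorem F66025 : act 6 n15113 = n15113 := d41_1 D15113 (iv D15113) F46327
theorem F66026 : act 8 n15113 = n15113 := d44_1 D15113 (iv D15113) (iv D10395) F32613 D10395
def n15114 : Q := act 3 n10396
theorem D15114 : act 3 n10396 = n15114 := rfl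
theorem F66027 : act 1 n15114 = n10406 := d10_1 D15114 (iv D10406) (iv F46328)
theorem F66028 : act 7 n15114 = n10397 := d27_2 (iv F46330) D15114 (iv D10397)
theorem F66029 : act 8 n15114 = n15114 := d28_2 D10396 D15114 (iv D15114) (iv D10396) F32615
def n15115 : Q := act 9 n10396
theorem D15115 : act 9 n10396 = n15115 := rfl
theorem F66030 : act 1 n15115 = n10407 := d16_1 D15115 (iv D10407) (iv F46328)
theorem F66031 : act 4 n15115 = n10401 := d34_1 D15115 (iv D10401) (iv F46329)
theorem F66032 : act 7 n15115 = n10398 := d43_1 D15115 (iv D10398) (iv F46330)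
theorem F66033 : act 8 n15115 = n15115 := d44_1 D15115 (iv D15115) (iv D10396) F32617 D10396
def n15116 : Q := act 2 n10397
theorem D15116 : act 2 n10397 = n15116 := rfl
theorem F66034 : act 6 n15116 = n10399 := d20_2 (iv F46332) D15116 (iv D10399)
theorem F66035 : act 8 n15116 = n15116 := d22_2 F46333 D15116 (iv D15116)
def n15117 : Q := act 9 n10397
theorem D15117 : act 9 n10397 = n15117 := rfl
theorem F66036 : act 1 n15117 = n10409 := d16_1 D15117 (iv D10409) (iv F46331)
theorem F66037 : act 3 n15117 = n10398 := d29_1 D15117 (iv D10398) D10397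
theorem F66038 : act 6 n15117 = n10400 := d41_1 D15117 (iv D10400) (iv F46332)
def n15118 : Q := act 1 n10399
theorem D15118 : act 1 n10399 = n15118 := rfl
theorem F66039 : act 2 n15118 = n10410 := d9_2 D10399 D15118 (iv D10410) (iv D7173) (iv F32621)
theorem F66040 : act 5 n15118 = n15118 := d12_2 F46338 D15118 (iv D15118)
theorem F66041 : act 8 n15118 = n15118 := d15_2 F46339 D15118 (iv D15118)
def n15119 : Q := act 9 n10399
theorem D15119 : act 9 n10399 = n15119 := rfl
theorem F66042 : act 2 n15119 = n10400 := d23_1 D15119 (iv D10400) D10399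
theorem F66043 : act 5 n15119 = n15119 := d38_1 D15119 (iv D15119) F46338
def n15120 : Q := act 8 n10400
theorem D15120 : act 8 n10400 = n15120 := rfl
theorem F66044 : act 1 n15120 = n10412 := d15_1 D15120 (iv D10412) (iv F46340)
theorem F66045 : act 3 n15120 = n15120 := d28_1 D15120 (iv D15120) F46341 F32627 (iv F46341)
theorem F66046 : act 5 n15120 = n15120 := d37_1 D15120 (iv D15120) F46342
theorem F66047 : act 9 n15120 = n15120 := d44_2 D10400 D15120 (iv D15120) (iv D10400) F32623
def n15121 : Q := act 8 n10402
theorem D15121 : act 8 n10402 = n15121 := rfl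
theorem F66048 : act 0 n15121 = n15121 := d7_1 D15121 (iv D15121) F46347
theorem F66049 : act 2 n15121 = n15121 := d22_1 D15121 (iv D15121) F46348
theorem F66050 : act 4 n15121 = n10472 := d33_1 D15121 (iv D10472) (iv F46350)
theorem F66051 : act 6 n15121 = n10403 := d40_1 D15121 (iv D10403) D10402
theorem F66052 : act 7 n15121 = n15121 := d42_1 D15121 (iv D15121) F46351
def n15122 : Q := act 3 n10403
theorem D15122 : act 3 n10403 = n15122 := rfl
theorem F66053 : act 0 n15122 = n15122 := d2_1 D15122 (iv D15122) F46353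
theorem F66054 : act 5 n15122 = n10406 := d25_2 (iv F46356) D15122 (iv D10406)
theorem F66055 : act 7 n15122 = n10404 := d27_2 (iv F46357) D15122 (iv D10404)
theorem F66056 : act 8 n15122 = n15122 := d28_2 D10403 D15122 (iv D15122) (iv D10403) F32637
def n15123 : Q := act 9 n10403
theorem D15123 : act 9 n10403 = n15123 := rfl
theorem F66057 : act 0 n15123 = n15123 := d8_1 D15123 (iv D15123) F46353
theorem F66058 : act 2 n15123 = n15123 := d23_1 D15123 (iv D15123) F46354
theorem F66059 : act 4 n15123 = n10474 := d34_1 D15123 (iv D10474) (iv F46355)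
theorem F66060 : act 5 n15123 = n10407 := d38_1 D15123 (iv D10407) (iv F46356)
theorem F66061 : act 7 n15123 = n10405 := d43_1 D15123 (iv D10405) (iv F46357)
theorem F66062 : act 8 n15123 = n15123 := d44_1 D15123 (iv D15123) (iv D10403) F32640 D10403
def n15124 : Q := act 2 n10404
theorem D15124 : act 2 n10404 = n15124 := rfl
theorem F66063 : act 0 n15124 = n15124 := d1_1 D15124 (iv D15124) F46358
theorem F66064 : act 3 n15124 = n15124 := d17_2 D10404 D15124 (iv D15124) (iv D10404) F32642
theorem F66065 : act 5 n15124 = n10408 := d19_2 (iv F46359) D15124 (iv D10408)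
theorem F66066 : act 6 n15124 = n15124 := d20_2 F46360 D15124 (iv D15124)
theorem F66067 : act 8 n15124 = n15124 := d22_2 F46361 D15124 (iv D15124)
def n15125 : Q := act 4 n10404
theorem D15125 : act 4 n10404 = n15125 := rfl
theorem F66068 : act 0 n15125 = n15125 := d3_1 D15125 (iv D15125) F46358
theorem F66069 : act 3 n15125 = n10476 := d24_1 D15125 (iv D10476) (iv D7219) (iv F32643) D10404
theorem F66070 : act 6 n15125 = n15125 := d31_2 F46360 D15125 (iv D15125)
theorem F66071 : act 8 n15125 = n15125 := d33_2 F46361 D15125 (iv D15125)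
def n15126 : Q := act 9 n10404
theorem D15126 : act 9 n10404 = n15126 := rfl
theorem F66072 : act 0 n15126 = n15126 := d8_1 D15126 (iv D15126) F46358
theorem F66073 : act 3 n15126 = n10405 := d29_1 D15126 (iv D10405) D10404
theorem F66074 : act 5 n15126 = n10409 := d38_1 D15126 (iv D10409) (iv F46359)
theorem F66075 : act 6 n15126 = n15126 := d41_1 D15126 (iv D15126) F46360
def n15127 : Q := act 2 n10406
theorem D15127 : act 2 n10406 = n15127 := rfl
theorem F66076 : act 0 n15127 = n15127 := d1_1 D15127 (iv D15127) F46368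
theorem F66077 : act 3 n15127 = n15127 := d17_2 D10406 D15127 (iv D15127) (iv D10406) F32647
theorem F66078 : act 7 n15127 = n10408 := d21_2 (iv F46369) D15127 (iv D10408)
theorem F66079 : act 8 n15127 = n15127 := d22_2 F46370 D15127 (iv D15127)
def n15128 : Q := act 9 n10406
theorem D15128 : act 9 n10406 = n15128 := rfl
theorem F66080 : act 0 n15128 = n15128 := d8_1 D15128 (iv D15128) F46368
theorem F66081 : act 3 n15128 = n10407 := d29_1 D15128 (iv D10407) D10406
theorem F66082 : act 7 n15128 = n10409 := d43_1 D15128 (iv D10409) (iv F46369)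
def n15129 : Q := act 1 n10408
theorem D15129 : act 1 n10408 = n15129 := rfl
theorem F66083 : act 3 n15129 = n15129 := d10_2 F46377 D15129 (iv D15129)
theorem F66084 : act 6 n15129 = n10410 := d13_2 (iv F46378) D15129 (iv D10410)
theorem F66085 : act 8 n15129 = n15129 := d15_2 F46379 D15129 (iv D15129)
def n15130 : Q := act 9 n10408
theorem D15130 : act 9 n10408 = n15130 := rfl
theorem F66086 : act 0 n15130 = n15130 := d8_1 D15130 (iv D15130) F46376
theorem F66087 : act 2 n15130 = n10409 := d23_1 D15130 (iv D10409) D10408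
theorem F66088 : act 3 n15130 = n15130 := d29_1 D15130 (iv D15130) F46377
theorem F66089 : act 6 n15130 = n10411 := d41_1 D15130 (iv D10411) (iv F46378)
def n15131 : Q := act 8 n10409
theorem D15131 : act 8 n10409 = n15131 := rfl
theorem F66090 : act 0 n15131 = n15131 := d7_1 D15131 (iv D15131) F46380
theorem F66091 : act 3 n15131 = n15131 := d28_1 D15131 (iv D15131) F46381 F32657 (iv F46381)
theorem F66092 : act 6 n15131 = n10412 := d40_1 D15131 (iv D10412) (iv F46382)
theorem F66093 : act 9 n15131 = n15131 := d44_2 D10409 D15131 (iv D15131) (iv D10409) F32652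
def n15132 : Q := act 0 n10410
theorem D15132 : act 0 n10410 = n15132 := rfl
theorem F66094 : act 1 n15132 = n15132 := d0_2 D10410 D15132 (iv D15132) (iv D10410) F32658
theorem F66095 : act 3 n15132 = n15132 := d2_2 F46383 D15132 (iv D15132)
theorem F66096 : act 5 n15132 = n15132 := d4_2 F46384 D15132 (iv D15132)
theorem F66097 : act 8 n15132 = n15132 := d7_2 F46385 D15132 (iv D15132)
def n15133 : Q := act 9 n10410
theorem D15133 : act 9 n10410 = n15133 := rfl
theorem F66098 : act 1 n15133 = n10411 := d16_1 D15133 (iv D10411) D10410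
theorem F66099 : act 3 n15133 = n15133 := d29_1 D15133 (iv D15133) F46383
theorem F66100 : act 5 n15133 = n15133 := d38_1 D15133 (iv D15133) F46384
def n15134 : Q := act 8 n10411
theorem D15134 : act 8 n10411 = n15134 := rfl
theorem F66101 : act 0 n15134 = n15134 := d7_1 D15134 (iv D15134) F46386
theorem F66102 : act 2 n15134 = n10412 := d22_1 D15134 (iv D10412) (iv F46387)
theorem F66103 : act 5 n15134 = n15134 := d37_1 D15134 (iv D15134) F46389
theorem F66104 : act 9 n15134 = n15134 := d44_2 D10411 D15134 (iv D15134) (iv D10411) F32661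
def n15151 : Q := act 7 n10422
theorem D15151 : act 7 n10422 = n15151 := rfl
theorem F66186 : act 0 n15151 = n10443 := d6_1 D15151 (iv D10443) (iv F46440)
theorem F66187 : act 2 n15151 = n10435 := d21_1 D15151 (iv D10435) (iv F46441)
theorem F66189 : act 5 n15151 = n10423 := d36_1 D15151 (iv D10423) D10422
def n15152 : Q := act 8 n10422
theorem D15152 : act 8 n10422 = n15152 := rfl
theorem F66191 : act 0 n15152 = n10444 := d7_1 D15152 (iv D10444) (iv F46440)
theorem F66192 : act 2 n15152 = n10436 := d22_1 D15152 (iv D10436) (iv F46441)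
theorem F66193 : act 5 n15152 = n10424 := d37_1 D15152 (iv D10424) D10422
theorem F66194 : act 6 n15152 = n15152 := d40_1 D15152 (iv D15152) F46443
def n15153 : Q := act 8 n10423
theorem D15153 : act 8 n10423 = n15153 := rfl
theorem F66195 : act 0 n15153 = n10445 := d7_1 D15153 (iv D10445) (iv F46445)
theorem F66196 : act 2 n15153 = n10437 := d22_1 D15153 (iv D10437) (iv F46446)
theorem F66197 : act 4 n15153 = n10427 := d33_1 D15153 (iv D10427) (iv F46448)
theorem F66198 : act 6 n15153 = n15153 := d40_1 D15153 (iv D15153) F46449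
theorem F66199 : act 7 n15153 = n10424 := d42_1 D15153 (iv D10424) D10423
def n15154 : Q := act 3 n10424
theorem D15154 : act 3 n10424 = n15154 := rfl
theorem F66200 : act 0 n15154 = n10446 := d2_1 D15154 (iv D10446) (iv F46451)
theorem F66201 : act 6 n15154 = n10425 := d26_2 (iv F46454) D15154 (iv D10425)
theorem F66202 : act 8 n15154 = n15154 := d28_2 D10424 D15154 (iv D15154) (iv D10424) F32699
def n15155 : Q := act 9 n10424
theorem D15155 : act 9 n10424 = n15155 := rfl
theorem F66203 : act 0 n15155 = n10447 := d8_1 D15155 (iv D10447) (iv F46451)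
theorem F66204 : act 2 n15155 = n10439 := d23_1 D15155 (iv D10439) (iv F46452)
theorem F66205 : act 4 n15155 = n10429 := d34_1 D15155 (iv D10429) (iv F46453)
theorem F66206 : act 6 n15155 = n10426 := d41_1 D15155 (iv D10426) (iv F46454)
theorem F66207 : act 8 n15155 = n15155 := d44_1 D15155 (iv D15155) (iv D10424) F32701 D10424
def n15156 : Q := act 2 n10425
theorem D15156 : act 2 n10425 = n15156 := rfl
theorem F66208 : act 0 n15156 = n10448 := d1_1 D15156 (iv D10448) (iv F46455)
theorem F66209 : act 3 n15156 = n10440 := d17_2 D10425 D15156 (iv D10440) (iv D7192) (iv F32703)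
theorem F66210 : act 5 n15156 = n15156 := d19_2 F46456 D15156 (iv D15156)
theorem F66211 : act 7 n15156 = n15156 := d21_2 F46457 D15156 (iv D15156)
theorem F66212 : act 8 n15156 = n15156 := d22_2 F46458 D15156 (iv D15156)
def n15157 : Q := act 4 n10425
theorem D15157 : act 4 n10425 = n15157 := rfl
theorem F66214 : act 3 n15157 = n10430 := d24_1 D15157 (iv D10430) (iv D7185) (iv F32704) D10425
def n15158 : Q := act 9 n10425
theorem D15158 : act 9 n10425 = n15158 := rfl
theorem F66217 : act 0 n15158 = n10450 := d8_1 D15158 (iv D10450) (iv F46455)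
theorem F66218 : act 3 n15158 = n10426 := d29_1 D15158 (iv D10426) D10425
theorem F66219 : act 5 n15158 = n15158 := d38_1 D15158 (iv D15158) F46456
theorem F66220 : act 7 n15158 = n15158 := d43_1 D15158 (iv D15158) F46457
def n15159 : Q := act 3 n10427
theorem D15159 : act 3 n10427 = n15159 := rfl
theorem F66224 : act 8 n15159 = n11458 := d28_2 D10427 D15159 (iv D11458) (iv D7898) (iv F32709)
def n15160 : Q := act 9 n10427
theorem D15160 : act 9 n10427 = n15160 := rfl
theorem F66225 : act 0 n15160 = n10452 := d8_1 D15160 (iv D10452) (iv F46465)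
theorem F66226 : act 2 n15160 = n10442 := d23_1 D15160 (iv D10442) (iv F46466)
theorem F66227 : act 6 n15160 = n15160 := d41_1 D15160 (iv D15160) F46467
theorem F66228 : act 7 n15160 = n10429 := d43_1 D15160 (iv D10429) (iv F46468)
theorem F66229 : act 8 n15160 = n15160 := d44_1 D15160 (iv D15160) (iv D10427) F32711 D10427
def n15161 : Q := act 4 n10428
theorem D15161 : act 4 n10428 = n15161 := rfl
theorem F66232 : act 8 n15161 = n11460 := d33_2 (iv F46471) D15161 (iv D11460)
def n15164 : Q := act 9 n10430
theorem D15164 : act 9 n10430 = n15164 := rfl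
def n15165 : Q := act 8 n10431
theorem D15165 : act 8 n10431 = n15165 := rfl
theorem F66247 : act 9 n15165 = n11464 := d44_2 D10431 D15165 (iv D11464) (iv D7902) (iv F32718)
def n15169 : Q := act 6 n10435
theorem D15169 : act 6 n10435 = n15169 := rfl
theorem F66259 : act 0 n15169 = n10461 := d5_1 D15169 (iv D10461) (iv F46495)
theorem F66261 : act 3 n15169 = n10486 := d26_1 D15169 (iv D10486) (iv F46497)
def n15170 : Q := act 8 n10435
theorem D15170 : act 8 n10435 = n15170 := rfl
theorem F66265 : act 0 n15170 = n10462 := d7_1 D15170 (iv D10462) (iv F46495)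
theorem F66266 : act 1 n15170 = n15170 := d15_1 D15170 (iv D15170) F46496
theorem F66267 : act 5 n15170 = n10437 := d37_1 D15170 (iv D10437) (iv F46498)
theorem F66268 : act 7 n15170 = n10436 := d42_1 D15170 (iv D10436) D10435
def n15171 : Q := act 3 n10436
theorem D15171 : act 3 n10436 = n15171 := rfl
theorem F66269 : act 0 n15171 = n10463 := d2_1 D15171 (iv D10463) (iv F46500)
theorem F66270 : act 1 n15171 = n15171 := d10_1 D15171 (iv D15171) F46501
theorem F66271 : act 5 n15171 = n10438 := d25_2 (iv F46502) D15171 (iv D10438)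
theorem F66272 : act 6 n15171 = n15171 := d26_2 F46503 D15171 (iv D15171)
theorem F66273 : act 8 n15171 = n10488 := d28_2 D10436 D15171 (iv D10488) (iv D7229) (iv F32733)
def n15172 : Q := act 9 n10436
theorem D15172 : act 9 n10436 = n15172 := rfl
theorem F66274 : act 0 n15172 = n10464 := d8_1 D15172 (iv D10464) (iv F46500)
theorem F66275 : act 1 n15172 = n15172 := d16_1 D15172 (iv D15172) F46501
theorem F66276 : act 5 n15172 = n10439 := d38_1 D15172 (iv D10439) (iv F46502)
theorem F66277 : act 6 n15172 = n15172 := d41_1 D15172 (iv D15172) F46503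
theorem F66278 : act 8 n15172 = n15172 := d44_1 D15172 (iv D15172) (iv D10436) F32735 D10436
def n15173 : Q := act 3 n10437
theorem D15173 : act 3 n10437 = n15173 := rfl
theorem F66279 : act 0 n15173 = n10465 := d2_1 D15173 (iv D10465) (iv F46504)
theorem F66280 : act 1 n15173 = n15173 := d10_1 D15173 (iv D15173) F46505
theorem F66281 : act 6 n15173 = n15173 := d26_2 F46507 D15173 (iv D15173)
theorem F66282 : act 7 n15173 = n10438 := d27_2 (iv F46508) D15173 (iv D10438)
theorem F66283 : act 8 n15173 = n10490 := d28_2 D10437 D15173 (iv D10490) (iv D7230) (iv F32738)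
def n15174 : Q := act 9 n10437
theorem D15174 : act 9 n10437 = n15174 := rfl
theorem F66284 : act 0 n15174 = n10466 := d8_1 D15174 (iv D10466) (iv F46504)
theorem F66285 : act 1 n15174 = n15174 := d16_1 D15174 (iv D15174) F46505
theorem F66286 : act 4 n15174 = n10442 := d34_1 D15174 (iv D10442) (iv F46506)
theorem F66287 : act 6 n15174 = n15174 := d41_1 D15174 (iv D15174) F46507
theorem F66288 : act 7 n15174 = n10439 := d43_1 D15174 (iv D10439) (iv F46508)
theorem F66289 : act 8 n15174 = n15174 := d44_1 D15174 (iv D15174) (iv D10437) F32741 D10437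
def n15175 : Q := act 2 n10438
theorem D15175 : act 2 n10438 = n15175 := rfl
theorem F66290 : act 0 n15175 = n10467 := d1_1 D15175 (iv D10467) (iv F46509)
theorem F66291 : act 6 n15175 = n10440 := d20_2 (iv F46511) D15175 (iv D10440)
theorem F66292 : act 8 n15175 = n10492 := d22_2 (iv F46512) D15175 (iv D10492)
def n15176 : Q := act 9 n10438
theorem D15176 : act 9 n10438 = n15176 := rfl
theorem F66293 : act 0 n15176 = n10468 := d8_1 D15176 (iv D10468) (iv F46509)
theorem F66294 : act 1 n15176 = n15176 := d16_1 D15176 (iv D15176) F46510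
theorem F66295 : act 3 n15176 = n10439 := d29_1 D15176 (iv D10439) D10438
theorem F66296 : act 6 n15176 = n10441 := d41_1 D15176 (iv D10441) (iv F46511)
def n15177 : Q := act 1 n10440
theorem D15177 : act 1 n10440 = n15177 := rfl
theorem F66297 : act 2 n15177 = n15177 := d9_2 D10440 D15177 (iv D15177) (iv D10440) F32747
theorem F66298 : act 5 n15177 = n15177 := d12_2 F46519 D15177 (iv D15177)
theorem F66299 : act 7 n15177 = n15177 := d14_2 F46520 D15177 (iv D15177)
theorem F66300 : act 8 n15177 = n10494 := d15_2 (iv F46521) D15177 (iv D10494)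
def n15178 : Q := act 9 n10440
theorem D15178 : act 9 n10440 = n15178 := rfl
theorem F66301 : act 0 n15178 = n10470 := d8_1 D15178 (iv D10470) (iv F46518)
theorem F66302 : act 2 n15178 = n10441 := d23_1 D15178 (iv D10441) D10440
theorem F66303 : act 5 n15178 = n15178 := d38_1 D15178 (iv D15178) F46519
theorem F66304 : act 7 n15178 = n15178 := d43_1 D15178 (iv D15178) F46520
def n15179 : Q := act 8 n10441
theorem D15179 : act 8 n10441 = n15179 := rfl
theorem F66305 : act 0 n15179 = n10471 := d7_1 D15179 (iv D10471) (iv F46522)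
theorem F66306 : act 1 n15179 = n15179 := d15_1 D15179 (iv D15179) F46523
theorem F66307 : act 3 n15179 = n15179 := d28_1 D15179 (iv D15179) F46524 F32756 (iv F46524)
theorem F66308 : act 5 n15179 = n15179 := d37_1 D15179 (iv D15179) F46525
theorem F66309 : act 7 n15179 = n15179 := d42_1 D15179 (iv D15179) F46526
theorem F66310 : act 9 n15179 = n10496 := d44_2 D10441 D15179 (iv D10496) (iv D7234) (iv F32750)
def n15180 : Q := act 6 n10443
theorem D15180 : act 6 n10443 = n15180 := rfl
theorem F66312 : act 2 n15180 = n10461 := d20_1 D15180 (iv D10461) (iv F46533)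
def n15181 : Q := act 8 n10443
theorem D15181 : act 8 n10443 = n15181 := rfl
theorem F66317 : act 1 n15181 = n15181 := d15_1 D15181 (iv D15181) F46532
theorem F66318 : act 2 n15181 = n10462 := d22_1 D15181 (iv D10462) (iv F46533)
theorem F66319 : act 5 n15181 = n10445 := d37_1 D15181 (iv D10445) (iv F46535)
theorem F66320 : act 7 n15181 = n10444 := d42_1 D15181 (iv D10444) D10443
def n15182 : Q := act 3 n10444
theorem D15182 : act 3 n10444 = n15182 := rfl
theorem F66321 : act 1 n15182 = n15182 := d10_1 D15182 (iv D15182) F46537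
theorem F66322 : act 5 n15182 = n10446 := d25_2 (iv F46539) D15182 (iv D10446)
theorem F66323 : act 6 n15182 = n15182 := d26_2 F46540 D15182 (iv D15182)
theorem F66324 : act 8 n15182 = n15182 := d28_2 D10444 D15182 (iv D15182) (iv D10444) F32767
def n15183 : Q := act 9 n10444
theorem D15183 : act 9 n10444 = n15183 := rfl
theorem F66325 : act 1 n15183 = n15183 := d16_1 D15183 (iv D15183) F46537
theorem F66326 : act 2 n15183 = n10464 := d23_1 D15183 (iv D10464) (iv F46538)
theorem F66327 : act 5 n15183 = n10447 := d38_1 D15183 (iv D10447) (iv F46539)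
theorem F66328 : act 6 n15183 = n15183 := d41_1 D15183 (iv D15183) F46540
theorem F66329 : act 8 n15183 = n15183 := d44_1 D15183 (iv D15183) (iv D10444) F32769 D10444
def n15184 : Q := act 3 n10445
theorem D15184 : act 3 n10445 = n15184 := rfl
theorem F66330 : act 1 n15184 = n15184 := d10_1 D15184 (iv D15184) F46541
theorem F66331 : act 6 n15184 = n15184 := d26_2 F46544 D15184 (iv D15184)
theorem F66332 : act 7 n15184 = n10446 := d27_2 (iv F46545) D15184 (iv D10446)
theorem F66333 : act 8 n15184 = n15184 := d28_2 D10445 D15184 (iv D15184) (iv D10445) F32772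
def n15185 : Q := act 9 n10445
theorem D15185 : act 9 n10445 = n15185 := rfl
theorem F66334 : act 1 n15185 = n15185 := d16_1 D15185 (iv D15185) F46541
theorem F66335 : act 2 n15185 = n10466 := d23_1 D15185 (iv D10466) (iv F46542)
theorem F66336 : act 4 n15185 = n10452 := d34_1 D15185 (iv D10452) (iv F46543)
theorem F66337 : act 6 n15185 = n15185 := d41_1 D15185 (iv D15185) F46544
theorem F66338 : act 7 n15185 = n10447 := d43_1 D15185 (iv D10447) (iv F46545)
theorem F66339 : act 8 n15185 = n15185 := d44_1 D15185 (iv D15185) (iv D10445) F32775 D10445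
def n15186 : Q := act 2 n10446
theorem D15186 : act 2 n10446 = n15186 := rfl
theorem F66340 : act 3 n15186 = n10467 := d17_2 D10446 D15186 (iv D10467) (iv D7212) (iv F32777)
theorem F66341 : act 6 n15186 = n10448 := d20_2 (iv F46547) D15186 (iv D10448)
theorem F66342 : act 8 n15186 = n15186 := d22_2 F46548 D15186 (iv D15186)
def n15187 : Q := act 4 n10446
theorem D15187 : act 4 n10446 = n15187 := rfl
theorem F66343 : act 1 n15187 = n15187 := d11_1 D15187 (iv D15187) F46546
theorem F66344 : act 3 n15187 = n10453 := d24_1 D15187 (iv D10453) (iv D7202) (iv F32778) D10446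
theorem F66345 : act 6 n15187 = n10449 := d31_2 (iv F46547) D15187 (iv D10449)
theorem F66346 : act 8 n15187 = n15187 := d33_2 F46548 D15187 (iv D15187)
def n15188 : Q := act 9 n10446
theorem D15188 : act 9 n10446 = n15188 := rfl
theorem F66347 : act 1 n15188 = n15188 := d16_1 D15188 (iv D15188) F46546
theorem F66348 : act 3 n15188 = n10447 := d29_1 D15188 (iv D10447) D10446
theorem F66349 : act 6 n15188 = n10450 := d41_1 D15188 (iv D10450) (iv F46547)
def n15189 : Q := act 1 n10448
theorem D15189 : act 1 n10448 = n15189 := rfl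
theorem F66350 : act 2 n15189 = n15189 := d9_2 D10448 D15189 (iv D15189) (iv D10448) F32780
theorem F66351 : act 3 n15189 = n10469 := d10_2 (iv F46554) D15189 (iv D10469)
theorem F66352 : act 5 n15189 = n15189 := d12_2 F46555 D15189 (iv D15189)
theorem F66353 : act 7 n15189 = n15189 := d14_2 F46556 D15189 (iv D15189)
theorem F66354 : act 8 n15189 = n15189 := d15_2 F46557 D15189 (iv D15189)
def n15190 : Q := act 4 n10448
theorem D15190 : act 4 n10448 = n15190 := rfl
theorem F66355 : act 2 n15190 = n10449 := d18_1 D15190 (iv D10449) D10448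
theorem F66356 : act 7 n15190 = n15190 := d32_2 F46556 D15190 (iv D15190)
theorem F66357 : act 8 n15190 = n15190 := d33_2 F46557 D15190 (iv D15190)
def n15191 : Q := act 9 n10448
theorem D15191 : act 9 n10448 = n15191 := rfl
theorem F66358 : act 2 n15191 = n10450 := d23_1 D15191 (iv D10450) D10448
theorem F66359 : act 3 n15191 = n10470 := d29_1 D15191 (iv D10470) (iv F46554)
theorem F66360 : act 5 n15191 = n15191 := d38_1 D15191 (iv D15191) F46555
theorem F66361 : act 7 n15191 = n15191 := d43_1 D15191 (iv D15191) F46556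
def n15192 : Q := act 5 n10449
theorem D15192 : act 5 n10449 = n15192 := rfl
theorem F66362 : act 1 n15192 = n15192 := d12_1 D15192 (iv D15192) F46558
theorem F66363 : act 3 n15192 = n10455 := d25_1 D15192 (iv D10455) (iv F46559)
theorem F66364 : act 4 n15192 = n15192 := d30_1 D15192 (iv D15192) (iv D10449) F32781 D10449
theorem F66365 : act 7 n15192 = n15192 := d36_2 F46560 D15192 (iv D15192)
theorem F66366 : act 8 n15192 = n15192 := d37_2 F46561 D15192 (iv D15192)
def n15193 : Q := act 9 n10449
theorem D15193 : act 9 n10449 = n15193 := rfl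
theorem F66367 : act 1 n15193 = n15193 := d16_1 D15193 (iv D15193) F46558
theorem F66368 : act 3 n15193 = n10456 := d29_1 D15193 (iv D10456) (iv F46559)
theorem F66369 : act 4 n15193 = n10450 := d34_1 D15193 (iv D10450) D10449
theorem F66370 : act 7 n15193 = n15193 := d43_1 D15193 (iv D15193) F46560
def n15194 : Q := act 8 n10450
theorem D15194 : act 8 n10450 = n15194 := rfl
theorem F66371 : act 1 n15194 = n15194 := d15_1 D15194 (iv D15194) F46562
theorem F66372 : act 3 n15194 = n15194 := d28_1 D15194 (iv D15194) F46563 F32789 (iv F46563)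
theorem F66373 : act 5 n15194 = n15194 := d37_1 D15194 (iv D15194) F46564
theorem F66374 : act 7 n15194 = n15194 := d42_1 D15194 (iv D15194) F46565
theorem F66375 : act 9 n15194 = n15194 := d44_2 D10450 D15194 (iv D15194) (iv D10450) F32783
def n15195 : Q := act 4 n10451
theorem D15195 : act 4 n10451 = n15195 := rfl
theorem F66376 : act 1 n15195 = n15195 := d11_1 D15195 (iv D15195) F46566
theorem F66377 : act 6 n15195 = n15195 := d31_2 F46567 D15195 (iv D15195)
theorem F66378 : act 7 n15195 = n10453 := d32_2 (iv F46568) D15195 (iv D10453)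
theorem F66379 : act 8 n15195 = n11468 := d33_2 (iv F46569) D15195 (iv D11468)
def n15196 : Q := act 9 n10451
theorem D15196 : act 9 n10451 = n15196 := rfl
theorem F66380 : act 1 n15196 = n15196 := d16_1 D15196 (iv D15196) F46566
theorem F66381 : act 3 n15196 = n10452 := d29_1 D15196 (iv D10452) D10451
theorem F66382 : act 6 n15196 = n15196 := d41_1 D15196 (iv D15196) F46567
theorem F66383 : act 7 n15196 = n10454 := d43_1 D15196 (iv D10454) (iv F46568)
def n15197 : Q := act 5 n10453
theorem D15197 : act 5 n10453 = n15197 := rfl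
theorem F66384 : act 1 n15197 = n15197 := d12_1 D15197 (iv D15197) F46575
theorem F66385 : act 8 n15197 = n11470 := d37_2 (iv F46577) D15197 (iv D11470)
def n15198 : Q := act 9 n10453
theorem D15198 : act 9 n10453 = n15198 := rfl
theorem F66386 : act 1 n15198 = n15198 := d16_1 D15198 (iv D15198) F46575
theorem F66387 : act 4 n15198 = n10454 := d34_1 D15198 (iv D10454) D10453
theorem F66388 : act 6 n15198 = n10456 := d41_1 D15198 (iv D10456) (iv F46576)
def n15200 : Q := act 6 n10455
theorem D15200 : act 6 n10455 = n15200 := rfl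
theorem F66393 : act 1 n15200 = n15200 := d13_1 D15200 (iv D15200) F46581
theorem F66394 : act 4 n15200 = n10458 := d31_1 D15200 (iv D10458) (iv F46582)
theorem F66395 : act 8 n15200 = n11473 := d40_2 (iv F46584) D15200 (iv D11473)
def n15201 : Q := act 9 n10455
theorem D15201 : act 9 n10455 = n15201 := rfl
theorem F66396 : act 1 n15201 = n15201 := d16_1 D15201 (iv D15201) F46581
theorem F66397 : act 4 n15201 = n10459 := d34_1 D15201 (iv D10459) (iv F46582)
theorem F66398 : act 5 n15201 = n10456 := d38_1 D15201 (iv D10456) D10455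
theorem F66399 : act 7 n15201 = n15201 := d43_1 D15201 (iv D15201) F46583
def n15203 : Q := act 7 n10458
theorem D15203 : act 7 n10458 = n15203 := rfl
theorem F66404 : act 1 n15203 = n15203 := d14_1 D15203 (iv D15203) F46593
theorem F66405 : act 3 n15203 = n15203 := d27_1 D15203 (iv D15203) F46594
theorem F66406 : act 6 n15203 = n15203 := d39_1 D15203 (iv D15203) (iv D10458) F32810 D10458
theorem F66407 : act 8 n15203 = n11476 := d42_2 (iv F46595) D15203 (iv D11476)
def n15204 : Q := act 9 n10458
theorem D15204 : act 9 n10458 = n15204 := rfl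
theorem F66408 : act 1 n15204 = n15204 := d16_1 D15204 (iv D15204) F46593
theorem F66409 : act 3 n15204 = n15204 := d29_1 D15204 (iv D15204) F46594
theorem F66410 : act 6 n15204 = n10459 := d41_1 D15204 (iv D10459) D10458
def n15205 : Q := act 8 n10459
theorem D15205 : act 8 n10459 = n15205 := rfl
theorem F66414 : act 9 n15205 = n11478 := d44_2 D10459 D15205 (iv D11478) (iv D7915) (iv F32811)
def n15207 : Q := act 8 n10461
theorem D15207 : act 8 n10461 = n15207 := rfl
theorem F66420 : act 1 n15207 = n10472 := d15_1 D15207 (iv D10472) (iv F46604)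
theorem F66421 : act 5 n15207 = n15207 := d37_1 D15207 (iv D15207) F46606
theorem F66422 : act 6 n15207 = n10462 := d40_1 D15207 (iv D10462) D10461
theorem F66423 : act 7 n15207 = n15207 := d42_1 D15207 (iv D15207) F46607
def n15208 : Q := act 3 n10462
theorem D15208 : act 3 n10462 = n15208 := rfl
theorem F66424 : act 1 n15208 = n10473 := d10_1 D15208 (iv D10473) (iv F46609)
theorem F66425 : act 5 n15208 = n10465 := d25_2 (iv F46610) D15208 (iv D10465)
theorem F66426 : act 7 n15208 = n10463 := d27_2 (iv F46611) D15208 (iv D10463)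
theorem F66427 : act 8 n15208 = n10498 := d28_2 D10462 D15208 (iv D10498) (iv D7237) (iv F32821)
def n15209 : Q := act 9 n10462
theorem D15209 : act 9 n10462 = n15209 := rfl
theorem F66428 : act 1 n15209 = n10474 := d16_1 D15209 (iv D10474) (iv F46609)
theorem F66429 : act 5 n15209 = n10466 := d38_1 D15209 (iv D10466) (iv F46610)
theorem F66430 : act 7 n15209 = n10464 := d43_1 D15209 (iv D10464) (iv F46611)
theorem F66431 : act 8 n15209 = n15209 := d44_1 D15209 (iv D15209) (iv D10462) F32823 D10462
def n15210 : Q := act 2 n10463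
theorem D15210 : act 2 n10463 = n15210 := rfl
theorem F66432 : act 5 n15210 = n10467 := d19_2 (iv F46613) D15210 (iv D10467)
theorem F66433 : act 6 n15210 = n15210 := d20_2 F46614 D15210 (iv D15210)
theorem F66434 : act 8 n15210 = n10500 := d22_2 (iv F46615) D15210 (iv D10500)
def n15211 : Q := act 4 n10463
theorem D15211 : act 4 n10463 = n15211 := rfl
theorem F66435 : act 1 n15211 = n10476 := d11_1 D15211 (iv D10476) (iv F46612)
theorem F66436 : act 6 n15211 = n15211 := d31_2 F46614 D15211 (iv D15211)
theorem F66437 : act 8 n15211 = n10501 := d33_2 (iv F46615) D15211 (iv D10501)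
def n15212 : Q := act 9 n10463
theorem D15212 : act 9 n10463 = n15212 := rfl
theorem F66438 : act 1 n15212 = n10477 := d16_1 D15212 (iv D10477) (iv F46612)
theorem F66439 : act 3 n15212 = n10464 := d29_1 D15212 (iv D10464) D10463
theorem F66440 : act 5 n15212 = n10468 := d38_1 D15212 (iv D10468) (iv F46613)
theorem F66441 : act 6 n15212 = n15212 := d41_1 D15212 (iv D15212) F46614
def n15213 : Q := act 2 n10465
theorem D15213 : act 2 n10465 = n15213 := rfl
theorem F66442 : act 6 n15213 = n15213 := d20_2 F46621 D15213 (iv D15213)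
theorem F66443 : act 7 n15213 = n10467 := d21_2 (iv F46622) D15213 (iv D10467)
theorem F66444 : act 8 n15213 = n10503 := d22_2 (iv F46623) D15213 (iv D10503)
def n15214 : Q := act 9 n10465
theorem D15214 : act 9 n10465 = n15214 := rfl
theorem F66445 : act 1 n15214 = n10479 := d16_1 D15214 (iv D10479) (iv F46620)
theorem F66446 : act 3 n15214 = n10466 := d29_1 D15214 (iv D10466) D10465
theorem F66447 : act 6 n15214 = n15214 := d41_1 D15214 (iv D15214) F46621
theorem F66448 : act 7 n15214 = n10468 := d43_1 D15214 (iv D10468) (iv F46622)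
def n15215 : Q := act 1 n10467
theorem D15215 : act 1 n10467 = n15215 := rfl
theorem F66449 : act 2 n15215 = n10480 := d9_2 D10467 D15215 (iv D10480) (iv D7223) (iv F32831)
theorem F66450 : act 6 n15215 = n10469 := d13_2 (iv F46629) D15215 (iv D10469)
theorem F66451 : act 8 n15215 = n10505 := d15_2 (iv F46630) D15215 (iv D10505)
def n15216 : Q := act 9 n10467
theorem D15216 : act 9 n10467 = n15216 := rfl
theorem F66452 : act 2 n15216 = n10468 := d23_1 D15216 (iv D10468) D10467
theorem F66453 : act 6 n15216 = n10470 := d41_1 D15216 (iv D10470) (iv F46629)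
def n15217 : Q := act 8 n10468
theorem D15217 : act 8 n10468 = n15217 := rfl
theorem F66454 : act 1 n15217 = n10482 := d15_1 D15217 (iv D10482) (iv F46631)
theorem F66455 : act 3 n15217 = n15217 := d28_1 D15217 (iv D15217) F46632 F32837 (iv F46632)
theorem F66456 : act 6 n15217 = n10471 := d40_1 D15217 (iv D10471) (iv F46633)
theorem F66457 : act 9 n15217 = n10507 := d44_2 D10468 D15217 (iv D10507) (iv D7243) (iv F32833)
def n15218 : Q := act 0 n10469
theorem D15218 : act 0 n10469 = n15218 := rfl
theorem F66458 : act 2 n15218 = n10483 := d1_2 (iv F46634) D15218 (iv D10483)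
theorem F66459 : act 5 n15218 = n15218 := d4_2 F46635 D15218 (iv D15218)
theorem F66460 : act 7 n15218 = n15218 := d6_2 F46636 D15218 (iv D15218)
theorem F66461 : act 8 n15218 = n10508 := d7_2 (iv F46637) D15218 (iv D10508)
def n15219 : Q := act 9 n10469
theorem D15219 : act 9 n10469 = n15219 := rfl
theorem F66462 : act 1 n15219 = n10470 := d16_1 D15219 (iv D10470) D10469
theorem F66463 : act 2 n15219 = n10484 := d23_1 D15219 (iv D10484) (iv F46634)
theorem F66464 : act 5 n15219 = n15219 := d38_1 D15219 (iv D15219) F46635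
theorem F66465 : act 7 n15219 = n15219 := d43_1 D15219 (iv D15219) F46636
def n15220 : Q := act 8 n10470
theorem D15220 : act 8 n10470 = n15220 := rfl
theorem F66466 : act 2 n15220 = n10471 := d22_1 D15220 (iv D10471) (iv F46638)
theorem F66467 : act 5 n15220 = n15220 := d37_1 D15220 (iv D15220) F46639
theorem F66468 : act 7 n15220 = n15220 := d42_1 D15220 (iv D15220) F46640
theorem F66469 : act 9 n15220 = n10510 := d44_2 D10470 D15220 (iv D10510) (iv D7245) (iv F32840)
def n15221 : Q := act 3 n10472
theorem D15221 : act 3 n10472 = n15221 := rfl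
theorem F66472 : act 6 n15221 = n10473 := d26_2 (iv F46649) D15221 (iv D10473)
theorem F66474 : act 8 n15221 = n10511 := d28_2 D10472 D15221 (iv D10511) (iv D7247) (iv F32851)
def n15222 : Q := act 9 n10472
theorem D15222 : act 9 n10472 = n15222 := rfl
theorem F66475 : act 0 n15222 = n15222 := d8_1 D15222 (iv D15222) F46646
theorem F66476 : act 2 n15222 = n15222 := d23_1 D15222 (iv D15222) F46647
theorem F66477 : act 5 n15222 = n15222 := d38_1 D15222 (iv D15222) F46648
theorem F66478 : act 6 n15222 = n10474 := d41_1 D15222 (iv D10474) (iv F46649)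
theorem F66479 : act 7 n15222 = n15222 := d43_1 D15222 (iv D15222) F46650
theorem F66480 : act 8 n15222 = n15222 := d44_1 D15222 (iv D15222) (iv D10472) F32854 D10472
def n15223 : Q := act 2 n10473
theorem D15223 : act 2 n10473 = n15223 := rfl
theorem F66483 : act 5 n15223 = n10478 := d19_2 (iv F46652) D15223 (iv D10478)
theorem F66485 : act 8 n15223 = n10513 := d22_2 (iv F46654) D15223 (iv D10513)
def n15224 : Q := act 4 n10473
theorem D15224 : act 4 n10473 = n15224 := rfl
theorem F66487 : act 7 n15224 = n10476 := d32_2 (iv F46653) D15224 (iv D10476)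
theorem F66488 : act 8 n15224 = n10514 := d33_2 (iv F46654) D15224 (iv D10514)
def n15225 : Q := act 9 n10473
theorem D15225 : act 9 n10473 = n15225 := rfl
theorem F66489 : act 0 n15225 = n15225 := d8_1 D15225 (iv D15225) F46651
theorem F66490 : act 3 n15225 = n10474 := d29_1 D15225 (iv D10474) D10473
theorem F66491 : act 5 n15225 = n10479 := d38_1 D15225 (iv D10479) (iv F46652)
theorem F66492 : act 7 n15225 = n10477 := d43_1 D15225 (iv D10477) (iv F46653)
def n15226 : Q := act 1 n10475
theorem D15226 : act 1 n10475 = n15226 := rfl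
theorem F66493 : act 3 n15226 = n15226 := d10_2 F46661 D15226 (iv D15226)
theorem F66494 : act 5 n15226 = n10480 := d12_2 (iv F46662) D15226 (iv D10480)
theorem F66495 : act 6 n15226 = n15226 := d13_2 F46663 D15226 (iv D15226)
theorem F66496 : act 8 n15226 = n10516 := d15_2 (iv F46664) D15226 (iv D10516)
def n15227 : Q := act 4 n10475
theorem D15227 : act 4 n10475 = n15227 := rfl
theorem F66498 : act 2 n15227 = n10476 := d18_1 D15227 (iv D10476) D10475
theorem F66500 : act 8 n15227 = n10517 := d33_2 (iv F46664) D15227 (iv D10517)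
def n15228 : Q := act 9 n10475
theorem D15228 : act 9 n10475 = n15228 := rfl
theorem F66501 : act 0 n15228 = n15228 := d8_1 D15228 (iv D15228) F46660
theorem F66502 : act 2 n15228 = n10477 := d23_1 D15228 (iv D10477) D10475
theorem F66503 : act 3 n15228 = n15228 := d29_1 D15228 (iv D15228) F46661
theorem F66504 : act 5 n15228 = n10481 := d38_1 D15228 (iv D10481) (iv F46662)
theorem F66505 : act 6 n15228 = n15228 := d41_1 D15228 (iv D15228) F46663
def n15229 : Q := act 9 n10476
theorem D15229 : act 9 n10476 = n15229 := rfl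
theorem F66506 : act 0 n15229 = n15229 := d8_1 D15229 (iv D15229) F46665
theorem F66507 : act 4 n15229 = n10477 := d34_1 D15229 (iv D10477) D10476
theorem F66508 : act 6 n15229 = n15229 := d41_1 D15229 (iv D15229) F46666
def n15230 : Q := act 8 n10477
theorem D15230 : act 8 n10477 = n15230 := rfl
theorem F66509 : act 0 n15230 = n15230 := d7_1 D15230 (iv D15230) F46668
theorem F66510 : act 3 n15230 = n15230 := d28_1 D15230 (iv D15230) F46669 F32867 (iv F46669)
theorem F66511 : act 5 n15230 = n10482 := d37_1 D15230 (iv D10482) (iv F46670)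
theorem F66512 : act 6 n15230 = n15230 := d40_1 D15230 (iv D15230) F46671
theorem F66513 : act 9 n15230 = n10520 := d44_2 D10477 D15230 (iv D10520) (iv D7252) (iv F32862)
def n15231 : Q := act 1 n10478
theorem D15231 : act 1 n10478 = n15231 := rfl
theorem F66514 : act 3 n15231 = n15231 := d10_2 F46673 D15231 (iv D15231)
theorem F66515 : act 6 n15231 = n15231 := d13_2 F46674 D15231 (iv D15231)
theorem F66516 : act 7 n15231 = n10480 := d14_2 (iv F46675) D15231 (iv D10480)
theorem F66517 : act 8 n15231 = n10521 := d15_2 (iv F46676) D15231 (iv D10521)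
def n15232 : Q := act 9 n10478
theorem D15232 : act 9 n10478 = n15232 := rfl
def n15233 : Q := act 8 n10479
theorem D15233 : act 8 n10479 = n15233 := rfl
theorem F66526 : act 7 n15233 = n10482 := d42_1 D15233 (iv D10482) (iv F46680)
def n15234 : Q := act 0 n10480
theorem D15234 : act 0 n10480 = n15234 := rfl
theorem F66528 : act 1 n15234 = n15234 := d0_2 D10480 D15234 (iv D15234) (iv D10480) F32878
theorem F66529 : act 3 n15234 = n15234 := d2_2 F46681 D15234 (iv D15234)
theorem F66530 : act 6 n15234 = n10483 := d5_2 (iv F46682) D15234 (iv D10483)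
theorem F66531 : act 8 n15234 = n10524 := d7_2 (iv F46683) D15234 (iv D10524)
def n15235 : Q := act 9 n10480
theorem D15235 : act 9 n10480 = n15235 := rfl
theorem F66532 : act 1 n15235 = n10481 := d16_1 D15235 (iv D10481) D10480
theorem F66533 : act 3 n15235 = n15235 := d29_1 D15235 (iv D15235) F46681
theorem F66534 : act 6 n15235 = n10484 := d41_1 D15235 (iv D10484) (iv F46682)
def n15236 : Q := act 8 n10481
theorem D15236 : act 8 n10481 = n15236 := rfl
theorem F66536 : act 2 n15236 = n10482 := d22_1 D15236 (iv D10482) (iv F46685)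
theorem F66538 : act 9 n15236 = n10526 := d44_2 D10481 D15236 (iv D10526) (iv D7256) (iv F32881)
def n15237 : Q := act 9 n10483
theorem D15237 : act 9 n10483 = n15237 := rfl
theorem F66539 : act 0 n15237 = n10484 := d8_1 D15237 (iv D10484) D10483
theorem F66540 : act 1 n15237 = n15237 := d16_1 D15237 (iv D15237) F46692
theorem F66541 : act 3 n15237 = n15237 := d29_1 D15237 (iv D15237) F46693
theorem F66542 : act 5 n15237 = n15237 := d38_1 D15237 (iv D15237) F46694
theorem F66543 : act 7 n15237 = n15237 := d43_1 D15237 (iv D15237) F46695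
def n15238 : Q := act 8 n10484
theorem D15238 : act 8 n10484 = n15238 := rfl
theorem F66544 : act 1 n15238 = n10485 := d15_1 D15238 (iv D10485) (iv F46697)
theorem F66545 : act 5 n15238 = n15238 := d37_1 D15238 (iv D15238) F46699
theorem F66546 : act 7 n15238 = n15238 := d42_1 D15238 (iv D15238) F46700
theorem F66547 : act 9 n15238 = n10528 := d44_2 D10484 D15238 (iv D10528) (iv D7259) (iv F32888)
def n15239 : Q := act 3 n10485
theorem D15239 : act 3 n10485 = n15239 := rfl
theorem F66553 : act 9 n15239 = n10529 := d29_2 (iv F46705) D15239 (iv D10529)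
def n15240 : Q := act 8 n10486
theorem D15240 : act 8 n10486 = n15240 := rfl
theorem F66559 : act 6 n15240 = n10487 := d40_1 D15240 (iv D10487) D10486
def n15241 : Q := act 3 n10487
theorem D15241 : act 3 n10487 = n15241 := rfl
theorem F66561 : act 0 n15241 = n10498 := d2_1 D15241 (iv D10498) (iv F46713)
theorem F66562 : act 1 n15241 = n15241 := d10_1 D15241 (iv D15241) F46714
theorem F66563 : act 5 n15241 = n10490 := d25_2 (iv F46717) D15241 (iv D10490)
theorem F66564 : act 7 n15241 = n10488 := d27_2 (iv F46718) D15241 (iv D10488)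
def n15242 : Q := act 9 n10487
theorem D15242 : act 9 n10487 = n15242 := rfl
theorem F66570 : act 7 n15242 = n10489 := d43_1 D15242 (iv D10489) (iv F46718)
def n15243 : Q := act 2 n10488
theorem D15243 : act 2 n10488 = n15243 := rfl
theorem F66572 : act 0 n15243 = n10500 := d1_1 D15243 (iv D10500) (iv F46719)
theorem F66573 : act 3 n15243 = n15243 := d17_2 D10488 D15243 (iv D15243) (iv D10488) F32907
theorem F66574 : act 5 n15243 = n10492 := d19_2 (iv F46721) D15243 (iv D10492)
theorem F66575 : act 6 n15243 = n15243 := d20_2 F46722 D15243 (iv D15243)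
def n15244 : Q := act 4 n10488
theorem D15244 : act 4 n10488 = n15244 := rfl
theorem F66576 : act 0 n15244 = n10501 := d3_1 D15244 (iv D10501) (iv F46719)
theorem F66577 : act 1 n15244 = n15244 := d11_1 D15244 (iv D15244) F46720
theorem F66578 : act 3 n15244 = n15244 := d24_1 D15244 (iv D15244) (iv D10488) F32908 D10488
theorem F66579 : act 6 n15244 = n15244 := d31_2 F46722 D15244 (iv D15244)
def n15245 : Q := act 9 n10488
theorem D15245 : act 9 n10488 = n15245 := rfl
theorem F66580 : act 0 n15245 = n10502 := d8_1 D15245 (iv D10502) (iv F46719)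
theorem F66581 : act 1 n15245 = n15245 := d16_1 D15245 (iv D15245) F46720
theorem F66582 : act 3 n15245 = n10489 := d29_1 D15245 (iv D10489) D10488
theorem F66583 : act 5 n15245 = n10493 := d38_1 D15245 (iv D10493) (iv F46721)
theorem F66584 : act 6 n15245 = n15245 := d41_1 D15245 (iv D15245) F46722
def n15246 : Q := act 2 n10490
theorem D15246 : act 2 n10490 = n15246 := rfl
theorem F66585 : act 0 n15246 = n10503 := d1_1 D15246 (iv D10503) (iv F46730)
theorem F66586 : act 3 n15246 = n15246 := d17_2 D10490 D15246 (iv D15246) (iv D10490) F32913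
theorem F66587 : act 6 n15246 = n15246 := d20_2 F46732 D15246 (iv D15246)
theorem F66588 : act 7 n15246 = n10492 := d21_2 (iv F46733) D15246 (iv D10492)
def n15247 : Q := act 9 n10490
theorem D15247 : act 9 n10490 = n15247 := rfl
theorem F66589 : act 0 n15247 = n10504 := d8_1 D15247 (iv D10504) (iv F46730)
theorem F66590 : act 1 n15247 = n15247 := d16_1 D15247 (iv D15247) F46731
theorem F66591 : act 3 n15247 = n10491 := d29_1 D15247 (iv D10491) D10490
theorem F66592 : act 6 n15247 = n15247 := d41_1 D15247 (iv D15247) F46732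
theorem F66593 : act 7 n15247 = n10493 := d43_1 D15247 (iv D10493) (iv F46733)
def n15248 : Q := act 1 n10492
theorem D15248 : act 1 n10492 = n15248 := rfl
theorem F66594 : act 2 n15248 = n15248 := d9_2 D10492 D15248 (iv D15248) (iv D10492) F32918
theorem F66595 : act 3 n15248 = n15248 := d10_2 F46742 D15248 (iv D15248)
theorem F66596 : act 6 n15248 = n10494 := d13_2 (iv F46743) D15248 (iv D10494)
def n15249 : Q := act 9 n10492
theorem D15249 : act 9 n10492 = n15249 := rfl
theorem F66597 : act 0 n15249 = n10506 := d8_1 D15249 (iv D10506) (iv F46741)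
theorem F66598 : act 2 n15249 = n10493 := d23_1 D15249 (iv D10493) D10492
theorem F66599 : act 3 n15249 = n15249 := d29_1 D15249 (iv D15249) F46742
theorem F66600 : act 6 n15249 = n10495 := d41_1 D15249 (iv D10495) (iv F46743)
def n15250 : Q := act 8 n10493
theorem D15250 : act 8 n10493 = n15250 := rfl
theorem F66601 : act 0 n15250 = n10507 := d7_1 D15250 (iv D10507) (iv F46744)
theorem F66602 : act 1 n15250 = n15250 := d15_1 D15250 (iv D15250) F46745
theorem F66603 : act 3 n15250 = n15250 := d28_1 D15250 (iv D15250) F46746 F32925 (iv F46746)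
theorem F66604 : act 6 n15250 = n10496 := d40_1 D15250 (iv D10496) (iv F46747)
def n15251 : Q := act 0 n10494
theorem D15251 : act 0 n10494 = n15251 := rfl
theorem F66605 : act 1 n15251 = n10508 := d0_2 D10494 D15251 (iv D10508) (iv D7244) (iv F32926)
theorem F66606 : act 2 n15251 = n15251 := d1_2 F46748 D15251 (iv D15251)
theorem F66607 : act 3 n15251 = n15251 := d2_2 F46749 D15251 (iv D15251)
theorem F66608 : act 5 n15251 = n15251 := d4_2 F46750 D15251 (iv D15251)
theorem F66609 : act 7 n15251 = n15251 := d6_2 F46751 D15251 (iv D15251)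
def n15252 : Q := act 9 n10494
theorem D15252 : act 9 n10494 = n15252 := rfl
theorem F66610 : act 1 n15252 = n10495 := d16_1 D15252 (iv D10495) D10494
theorem F66611 : act 2 n15252 = n15252 := d23_1 D15252 (iv D15252) F46748
theorem F66612 : act 3 n15252 = n15252 := d29_1 D15252 (iv D15252) F46749
theorem F66613 : act 5 n15252 = n15252 := d38_1 D15252 (iv D15252) F46750
theorem F66614 : act 7 n15252 = n15252 := d43_1 D15252 (iv D15252) F46751
def n15253 : Q := act 8 n10495
theorem D15253 : act 8 n10495 = n15253 := rfl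
theorem F66615 : act 0 n15253 = n10510 := d7_1 D15253 (iv D10510) (iv F46752)
theorem F66616 : act 2 n15253 = n10496 := d22_1 D15253 (iv D10496) (iv F46753)
theorem F66617 : act 5 n15253 = n15253 := d37_1 D15253 (iv D15253) F46755
theorem F66618 : act 7 n15253 = n15253 := d42_1 D15253 (iv D15253) F46756
def n15254 : Q := act 3 n10497
theorem D15254 : act 3 n10497 = n15254 := rfl
theorem F66621 : act 6 n15254 = n10498 := d26_2 (iv F46766) D15254 (iv D10498)
def n15255 : Q := act 9 n10497
theorem D15255 : act 9 n10497 = n15255 := rfl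
theorem F66627 : act 6 n15255 = n10499 := d41_1 D15255 (iv D10499) (iv F46766)
def n15256 : Q := act 2 n10498
theorem D15256 : act 2 n10498 = n15256 := rfl
theorem F66630 : act 3 n15256 = n15256 := d17_2 D10498 D15256 (iv D15256) (iv D10498) F32949
theorem F66631 : act 5 n15256 = n10503 := d19_2 (iv F46769) D15256 (iv D10503)
theorem F66632 : act 7 n15256 = n10500 := d21_2 (iv F46770) D15256 (iv D10500)
def n15257 : Q := act 4 n10498
theorem D15257 : act 4 n10498 = n15257 := rfl
theorem F66635 : act 7 n15257 = n10501 := d32_2 (iv F46770) D15257 (iv D10501)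
def n15258 : Q := act 9 n10498
theorem D15258 : act 9 n10498 = n15258 := rfl
theorem F66639 : act 7 n15258 = n10502 := d43_1 D15258 (iv D10502) (iv F46770)
def n15259 : Q := act 1 n10500
theorem D15259 : act 1 n10500 = n15259 := rfl
theorem F66641 : act 3 n15259 = n15259 := d10_2 F46777 D15259 (iv D15259)
theorem F66642 : act 5 n15259 = n10505 := d12_2 (iv F46778) D15259 (iv D10505)
theorem F66643 : act 6 n15259 = n15259 := d13_2 F46779 D15259 (iv D15259)
def n15260 : Q := act 4 n10500
theorem D15260 : act 4 n10500 = n15260 := rfl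
theorem F66644 : act 2 n15260 = n10501 := d18_1 D15260 (iv D10501) D10500
theorem F66645 : act 6 n15260 = n15260 := d31_2 F46779 D15260 (iv D15260)
def n15261 : Q := act 9 n10500
theorem D15261 : act 9 n10500 = n15261 := rfl
theorem F66646 : act 2 n15261 = n10502 := d23_1 D15261 (iv D10502) D10500
theorem F66647 : act 3 n15261 = n15261 := d29_1 D15261 (iv D15261) F46777
theorem F66648 : act 5 n15261 = n10506 := d38_1 D15261 (iv D10506) (iv F46778)
theorem F66649 : act 6 n15261 = n15261 := d41_1 D15261 (iv D15261) F46779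
def n15262 : Q := act 9 n10501
theorem D15262 : act 9 n10501 = n15262 := rfl
theorem F66652 : act 4 n15262 = n10502 := d34_1 D15262 (iv D10502) D10501
def n15263 : Q := act 8 n10502
theorem D15263 : act 8 n10502 = n15263 := rfl
def n15264 : Q := act 1 n10503
theorem D15264 : act 1 n10503 = n15264 := rfl
theorem F66661 : act 7 n15264 = n10505 := d14_2 (iv F46789) D15264 (iv D10505)
def n15265 : Q := act 9 n10503
theorem D15265 : act 9 n10503 = n15265 := rfl
theorem F66662 : act 2 n15265 = n10504 := d23_1 D15265 (iv D10504) D10503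
theorem F66665 : act 7 n15265 = n10506 := d43_1 D15265 (iv D10506) (iv F46789)
def n15266 : Q := act 8 n10504
theorem D15266 : act 8 n10504 = n15266 := rfl
theorem F66669 : act 7 n15266 = n10507 := d42_1 D15266 (iv D10507) (iv F46793)
def n15267 : Q := act 0 n10505
theorem D15267 : act 0 n10505 = n15267 := rfl
theorem F66670 : act 2 n15267 = n10524 := d1_2 (iv F46794) D15267 (iv D10524)
theorem F66671 : act 3 n15267 = n15267 := d2_2 F46795 D15267 (iv D15267)
theorem F66672 : act 6 n15267 = n10508 := d5_2 (iv F46796) D15267 (iv D10508)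
def n15268 : Q := act 9 n10505
theorem D15268 : act 9 n10505 = n15268 := rfl
theorem F66673 : act 1 n15268 = n10506 := d16_1 D15268 (iv D10506) D10505
theorem F66676 : act 6 n15268 = n10509 := d41_1 D15268 (iv D10509) (iv F46796)
def n15269 : Q := act 8 n10506
theorem D15269 : act 8 n10506 = n15269 := rfl
theorem F66677 : act 2 n15269 = n10507 := d22_1 D15269 (iv D10507) (iv F46797)
theorem F66678 : act 6 n15269 = n10510 := d40_1 D15269 (iv D10510) (iv F46799)
def n15270 : Q := act 9 n10508
theorem D15270 : act 9 n10508 = n15270 := rfl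
theorem F66679 : act 0 n15270 = n10509 := d8_1 D15270 (iv D10509) D10508
theorem F66680 : act 2 n15270 = n10527 := d23_1 D15270 (iv D10527) (iv F46803)
theorem F66681 : act 3 n15270 = n15270 := d29_1 D15270 (iv D15270) F46804
theorem F66682 : act 5 n15270 = n15270 := d38_1 D15270 (iv D15270) F46805
theorem F66683 : act 7 n15270 = n15270 := d43_1 D15270 (iv D15270) F46806
def n15271 : Q := act 8 n10509
theorem D15271 : act 8 n10509 = n15271 := rfl
theorem F66684 : act 1 n15271 = n10510 := d15_1 D15271 (iv D10510) (iv F46807)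
theorem F66685 : act 2 n15271 = n10528 := d22_1 D15271 (iv D10528) (iv F46808)
theorem F66686 : act 5 n15271 = n15271 := d37_1 D15271 (iv D15271) F46810
theorem F66687 : act 7 n15271 = n15271 := d42_1 D15271 (iv D15271) F46811
def n15272 : Q := act 3 n10510
theorem D15272 : act 3 n10510 = n15272 := rfl
theorem F66688 : act 2 n15272 = n15272 := d17_1 D15272 (iv D15272) F46812 F32985 (iv F46812)
theorem F66689 : act 5 n15272 = n15272 := d25_2 F46813 D15272 (iv D15272)
theorem F66690 : act 7 n15272 = n15272 := d27_2 F46814 D15272 (iv D15272)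
theorem F66691 : act 8 n15272 = n15272 := d28_2 D10510 D15272 (iv D15272) (iv D10510) F32981
def n15274 : Q := act 4 n10511
theorem D15274 : act 4 n10511 = n15274 := rfl
theorem F66699 : act 6 n15274 = n10514 := d31_2 (iv F46817) D15274 (iv D10514)
def n15276 : Q := act 1 n10513
theorem D15276 : act 1 n10513 = n15276 := rfl
theorem F66706 : act 3 n15276 = n10533 := d10_2 (iv F46827) D15276 (iv D10533)
theorem F66707 : act 5 n15276 = n10521 := d12_2 (iv F46828) D15276 (iv D10521)
theorem F66708 : act 7 n15276 = n10516 := d14_2 (iv F46829) D15276 (iv D10516)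
def n15277 : Q := act 4 n10513
theorem D15277 : act 4 n10513 = n15277 := rfl
def n15280 : Q := act 8 n10515
theorem D15280 : act 8 n10515 = n15280 := rfl
def n15281 : Q := act 0 n10516
theorem D15281 : act 0 n10516 = n15281 := rfl
theorem F66726 : act 3 n15281 = n10538 := d2_2 (iv F46837) D15281 (iv D10538)
theorem F66727 : act 5 n15281 = n10524 := d4_2 (iv F46838) D15281 (iv D10524)
def n15282 : Q := act 4 n10516
theorem D15282 : act 4 n10516 = n15282 := rfl
def n15283 : Q := act 9 n10516
theorem D15283 : act 9 n10516 = n15283 := rfl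
theorem F66732 : act 3 n15283 = n10540 := d29_1 D15283 (iv D10540) (iv F46837)
def n15284 : Q := act 3 n10517
theorem D15284 : act 3 n10517 = n15284 := rfl
theorem F66737 : act 4 n15284 = n10541 := d24_2 D10517 D15284 (iv D10541) (iv D7267) (iv F33004)
def n15285 : Q := act 9 n10517
theorem D15285 : act 9 n10517 = n15285 := rfl
theorem F66741 : act 4 n15285 = n10518 := d34_1 D15285 (iv D10518) D10517
def n15286 : Q := act 8 n10518
theorem D15286 : act 8 n10518 = n15286 := rfl
def n15287 : Q := act 8 n10519
theorem D15287 : act 8 n10519 = n15287 := rfl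
def n15288 : Q := act 0 n10521
theorem D15288 : act 0 n10521 = n15288 := rfl
theorem F66751 : act 3 n15288 = n10545 := d2_2 (iv F46856) D15288 (iv D10545)
theorem F66753 : act 7 n15288 = n10524 := d6_2 (iv F46858) D15288 (iv D10524)
def n15291 : Q := act 9 n10524
theorem D15291 : act 9 n10524 = n15291 := rfl
theorem F66765 : act 6 n15291 = n10527 := d41_1 D15291 (iv D10527) (iv F46870)
def n15292 : Q := act 8 n10525
theorem D15292 : act 8 n10525 = n15292 := rfl
theorem F66767 : act 6 n15292 = n10528 := d40_1 D15292 (iv D10528) (iv F46873)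
def n15294 : Q := act 8 n10527
theorem D15294 : act 8 n10527 = n15294 := rfl
theorem F66772 : act 0 n15294 = n10528 := d7_1 D15294 (iv D10528) (iv F46877)
theorem F66773 : act 1 n15294 = n15294 := d15_1 D15294 (iv D15294) F46878
theorem F66774 : act 5 n15294 = n15294 := d37_1 D15294 (iv D15294) F46880
theorem F66775 : act 7 n15294 = n15294 := d42_1 D15294 (iv D15294) F46881
def n15295 : Q := act 3 n10528
theorem D15295 : act 3 n10528 = n15295 := rfl
theorem F66776 : act 1 n15295 = n10529 := d10_1 D15295 (iv D10529) (iv F46882)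
theorem F66779 : act 8 n15295 = n10552 := d28_2 D10528 D15295 (iv D10552) (iv D7278) (iv F33036)
def n15296 : Q := act 4 n10529
theorem D15296 : act 4 n10529 = n15296 := rfl
def n15303 : Q := act 0 n10533
theorem D15303 : act 0 n10533 = n15303 := rfl
theorem F66821 : act 5 n15303 = n10545 := d4_2 (iv F46908) D15303 (iv D10545)
theorem F66822 : act 7 n15303 = n10538 := d6_2 (iv F46909) D15303 (iv D10538)
def n15311 : Q := act 9 n10538
theorem D15311 : act 9 n10538 = n15311 := rfl
theorem F66862 : act 5 n15311 = n10548 := d38_1 D15311 (iv D10548) (iv F46934)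
def n15314 : Q := act 8 n10540
theorem D15314 : act 8 n10540 = n15314 := rfl
theorem F66874 : act 5 n15314 = n10549 := d37_1 D15314 (iv D10549) (iv F46944)
def n15316 : Q := act 9 n10541
theorem D15316 : act 9 n10541 = n15316 := rfl
theorem F66884 : act 3 n15316 = n10542 := d29_1 D15316 (iv D10542) D10541
def n15320 : Q := act 9 n10545
theorem D15320 : act 9 n10545 = n15320 := rfl
theorem F66910 : act 7 n15320 = n10548 := d43_1 D15320 (iv D10548) (iv F46970)
def n15321 : Q := act 8 n10546
theorem D15321 : act 8 n10546 = n15321 := rfl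
theorem F66915 : act 7 n15321 = n10549 := d42_1 D15321 (iv D10549) (iv F46976)
def n15323 : Q := act 8 n10548
theorem D15323 : act 8 n10548 = n15323 := rfl
theorem F66926 : act 6 n15323 = n10551 := d40_1 D15323 (iv D10551) (iv F46987)
def n15324 : Q := act 3 n10549
theorem D15324 : act 3 n10549 = n15324 := rfl
theorem F66929 : act 6 n15324 = n10552 := d26_2 (iv F46991) D15324 (iv D10552)
def n15326 : Q := act 3 n10551
theorem D15326 : act 3 n10551 = n15326 := rfl
def n15327 : Q := act 2 n10552
theorem D15327 : act 2 n10552 = n15327 := rfl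
def n15328 : Q := act 4 n10552
theorem D15328 : act 4 n10552 = n15328 := rfl
theorem F66946 : act 1 n15328 = n10553 := d11_1 D15328 (iv D10553) (iv F47004)
def n15330 : Q := act 3 n10554
theorem D15330 : act 3 n10554 = n15330 := rfl
theorem F66956 : act 0 n15330 = n11622 := d2_1 D15330 (iv D11622) (iv F47013)
theorem F66957 : act 1 n15330 = n15330 := d10_1 D15330 (iv D15330) F47014
theorem F66958 : act 4 n15330 = n15330 := d24_2 (iv F47016) D15330 (iv D15330) F47016 F33154
theorem F66959 : act 5 n15330 = n15330 := d25_2 F47017 D15330 (iv D15330)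
theorem F66960 : act 6 n15330 = n15330 := d26_2 F47018 D15330 (iv D15330)
theorem F66961 : act 7 n15330 = n15330 := d27_2 F47019 D15330 (iv D15330)
theorem F66962 : act 8 n15330 = n15330 := d28_2 D10554 D15330 (iv D15330) (iv D10554) F33147
def n15331 : Q := act 9 n10554
theorem D15331 : act 9 n10554 = n15331 := rfl
def n15332 : Q := act 8 n10555
theorem D15332 : act 8 n10555 = n15332 := rfl
theorem F66973 : act 4 n15332 = n10557 := d33_1 D15332 (iv D10557) (iv F47024)
def n15333 : Q := act 8 n10556
theorem D15333 : act 8 n10556 = n15333 := rfl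
theorem F66983 : act 9 n15333 = n10557 := d44_2 D10556 D15333 (iv D10557) (iv D7282) D7281
def n15334 : Q := act 3 n10557
theorem D15334 : act 3 n10557 = n15334 := rfl
theorem F66989 : act 8 n15334 = n10560 := d28_2 D10557 D15334 (iv D10560) (iv D7285) (iv F33161)
def n15349 : Q := act 4 n10566
theorem D15349 : act 4 n10566 = n15349 := rfl
theorem F67071 : act 2 n15349 = n10567 := d18_1 D15349 (iv D10567) D10566
def n15350 : Q := act 5 n10567
theorem D15350 : act 5 n10567 = n15350 := rfl
theorem F67076 : act 0 n15350 = n11642 := d4_1 D15350 (iv D11642) (iv F47095)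
theorem F67078 : act 4 n15350 = n10570 := d30_1 D15350 (iv D10570) (iv D7291) (iv F33205) D10567
def n15354 : Q := act 5 n10569
theorem D15354 : act 5 n10569 = n15354 := rfl
theorem F67098 : act 2 n15354 = n10570 := d19_1 D15354 (iv D10570) (iv F47106)
def n15355 : Q := act 6 n10570
theorem D15355 : act 6 n10570 = n15355 := rfl
theorem F67103 : act 3 n15355 = n10575 := d26_1 D15355 (iv D10575) (iv F47112)
theorem F67104 : act 5 n15355 = n10609 := d35_1 D15355 (iv D10609) (iv D7316) (iv F33217) D10570
def n15356 : Q := act 4 n10571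
theorem D15356 : act 4 n10571 = n15356 := rfl
theorem F67107 : act 0 n15356 = n10572 := d3_1 D15356 (iv D10572) D10571
theorem F67109 : act 6 n15356 = n10610 := d31_2 (iv F47118) D15356 (iv D10610)
theorem F67111 : act 8 n15356 = n10576 := d33_2 (iv F47120) D15356 (iv D10576)
def n15358 : Q := act 5 n10572
theorem D15358 : act 5 n10572 = n15358 := rfl
theorem F67117 : act 1 n15358 = n10574 := d12_1 D15358 (iv D10574) (iv F47122)
theorem F67120 : act 8 n15358 = n10578 := d37_2 (iv F47125) D15358 (iv D10578)
def n15361 : Q := act 6 n10574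
theorem D15361 : act 6 n10574 = n15361 := rfl
theorem F67131 : act 2 n15361 = n10575 := d20_1 D15361 (iv D10575) (iv F47132)
theorem F67133 : act 5 n15361 = n10615 := d35_1 D15361 (iv D10615) (iv D7320) (iv F33228) D10574
theorem F67134 : act 8 n15361 = n10581 := d40_2 (iv F47135) D15361 (iv D10581)
def n15362 : Q := act 7 n10575
theorem D15362 : act 7 n10575 = n15362 := rfl
theorem F67140 : act 8 n15362 = n10582 := d42_2 (iv F47140) D15362 (iv D10582)
def n15364 : Q := act 5 n10576
theorem D15364 : act 5 n10576 = n15364 := rfl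
theorem F67148 : act 0 n15364 = n10578 := d4_1 D15364 (iv D10578) (iv F47142)
theorem F67152 : act 9 n15364 = n10584 := d38_2 (iv F47146) D15364 (iv D10584)
def n15365 : Q := act 2 n10577
theorem D15365 : act 2 n10577 = n15365 := rfl
theorem F67157 : act 9 n15365 = n10585 := d23_2 (iv F47151) D15365 (iv D10585)
def n15366 : Q := act 5 n10577
theorem D15366 : act 5 n10577 = n15366 := rfl
theorem F67159 : act 3 n15366 = n10578 := d25_1 D15366 (iv D10578) D10577
def n15367 : Q := act 8 n10577
theorem D15367 : act 8 n10577 = n15367 := rfl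
theorem F67164 : act 6 n15367 = n10621 := d40_1 D15367 (iv D10621) (iv F47149)
def n15368 : Q := act 6 n10578
theorem D15368 : act 6 n10578 = n15368 := rfl
def n15374 : Q := act 2 n10583
theorem D15374 : act 2 n10583 = n15374 := rfl
theorem F67197 : act 0 n15374 = n10585 := d1_1 D15374 (iv D10585) (iv F47177)
theorem F67199 : act 6 n15374 = n10628 := d20_2 (iv F47180) D15374 (iv D10628)
def n15376 : Q := act 8 n10583
theorem D15376 : act 8 n10583 = n15376 := rfl
theorem F67205 : act 0 n15376 = n10587 := d7_1 D15376 (iv D10587) (iv F47177)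
theorem F67206 : act 1 n15376 = n11668 := d15_1 D15376 (iv D11668) (iv F47178)
theorem F67209 : act 6 n15376 = n10630 := d40_1 D15376 (iv D10630) (iv F47180)
def n15378 : Q := act 5 n10585
theorem D15378 : act 5 n10585 = n15378 := rfl
def n15379 : Q := act 8 n10585
theorem D15379 : act 8 n10585 = n15379 := rfl
theorem F67222 : act 6 n15379 = n10633 := d40_1 D15379 (iv D10633) (iv F47189)
def n15380 : Q := act 4 n10586
theorem D15380 : act 4 n10586 = n15380 := rfl
def n15381 : Q := act 6 n10586
theorem D15381 : act 6 n10586 = n15381 := rfl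
theorem F67230 : act 5 n15381 = n10635 := d35_1 D15381 (iv D10635) (iv D7332) (iv F33270) D10586
def n15382 : Q := act 8 n10586
theorem D15382 : act 8 n10586 = n15382 := rfl
theorem F67233 : act 5 n15382 = n10587 := d37_1 D15382 (iv D10587) D10586
def n15385 : Q := act 6 n10589
theorem D15385 : act 6 n10589 = n15385 := rfl
theorem F67248 : act 4 n15385 = n10590 := d31_1 D15385 (iv D10590) D10589
def n15386 : Q := act 8 n10589
theorem D15386 : act 8 n10589 = n15386 := rfl
theorem F67251 : act 4 n15386 = n10591 := d33_1 D15386 (iv D10591) D10589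
def n15388 : Q := act 8 n10590
theorem D15388 : act 8 n10590 = n15388 := rfl
theorem F67262 : act 5 n15388 = n10642 := d37_1 D15388 (iv D10642) (iv F47211)
theorem F67263 : act 6 n15388 = n10591 := d40_1 D15388 (iv D10591) D10590
def n15408 : Q := act 3 n10606
theorem D15408 : act 3 n10606 = n15408 := rfl
theorem F67361 : act 1 n15408 = n10607 := d10_1 D15408 (iv D10607) (iv F47292)
def n15409 : Q := act 5 n10606
theorem D15409 : act 5 n10606 = n15409 := rfl
def n15410 : Q := act 5 n10607
theorem D15410 : act 5 n10607 = n15410 := rfl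
theorem F67370 : act 2 n15410 = n10613 := d19_1 D15410 (iv D10613) (iv F47297)
theorem F67371 : act 3 n15410 = n10608 := d25_1 D15410 (iv D10608) D10607
def n15412 : Q := act 6 n10608
theorem D15412 : act 6 n10608 = n15412 := rfl
theorem F67379 : act 2 n15412 = n10609 := d20_1 D15412 (iv D10609) (iv F47301)
def n15413 : Q := act 7 n10609
theorem D15413 : act 7 n10609 = n15413 := rfl
theorem F67384 : act 3 n15413 = n10616 := d27_1 D15413 (iv D10616) (iv F47307)
theorem F67386 : act 6 n15413 = n10667 := d39_1 D15413 (iv D10667) (iv D7355) (iv F33348) D10609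
def n15414 : Q := act 3 n10610
theorem D15414 : act 3 n10610 = n15414 := rfl
theorem F67391 : act 7 n15414 = n10668 := d27_2 (iv F47313) D15414 (iv D10668)
def n15415 : Q := act 5 n10610
theorem D15415 : act 5 n10610 = n15415 := rfl
theorem F67395 : act 4 n15415 = n10728 := d30_1 D15415 (iv D10728) (iv D7395) (iv F33352) D10610
theorem F67396 : act 7 n15415 = n10669 := d36_2 (iv F47313) D15415 (iv D10669)
theorem F67397 : act 8 n15415 = n10618 := d37_2 (iv F47314) D15415 (iv D10618)
def n15419 : Q := act 6 n10612
theorem D15419 : act 6 n10612 = n15419 := rfl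
theorem F67409 : act 4 n15419 = n10732 := d31_1 D15419 (iv D10732) (iv F47320)
theorem F67410 : act 8 n15419 = n10622 := d40_2 (iv F47322) D15419 (iv D10622)
def n15420 : Q := act 4 n10613
theorem D15420 : act 4 n10613 = n15420 := rfl
theorem F67413 : act 3 n15420 = n10733 := d24_1 D15420 (iv D10733) F33710 (iv F33365) (iv F47325)
def n15424 : Q := act 7 n10615
theorem D15424 : act 7 n10615 = n15424 := rfl
theorem F67428 : act 2 n15424 = n10616 := d21_1 D15424 (iv D10616) (iv F47332)
theorem F67430 : act 6 n15424 = n10678 := d39_1 D15424 (iv D10678) (iv D7361) (iv F33366) D10615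
theorem F67431 : act 8 n15424 = n10627 := d42_2 (iv F47334) D15424 (iv D10627)
def n15425 : Q := act 2 n10617
theorem D15425 : act 2 n10617 = n15425 := rfl
theorem F67436 : act 9 n15425 = n10628 := d23_2 (iv F47345) D15425 (iv D10628)
def n15427 : Q := act 8 n10617
theorem D15427 : act 8 n10617 = n15427 := rfl
def n15428 : Q := act 6 n10618
theorem D15428 : act 6 n10618 = n15428 := rfl
theorem F67446 : act 0 n15428 = n10622 := d5_1 D15428 (iv D10622) (iv F47346)
theorem F67449 : act 9 n15428 = n10631 := d41_2 (iv F47350) D15428 (iv D10631)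
def n15429 : Q := act 5 n10619
theorem D15429 : act 5 n10619 = n15429 := rfl
theorem F67451 : act 2 n15429 = n10620 := d19_1 D15429 (iv D10620) D10619
theorem F67453 : act 9 n15429 = n10632 := d38_2 (iv F47354) D15429 (iv D10632)
def n15430 : Q := act 8 n10619
theorem D15430 : act 8 n10619 = n15430 := rfl
def n15431 : Q := act 4 n10620
theorem D15431 : act 4 n10620 = n15431 := rfl
theorem F67459 : act 3 n15431 = n10744 := d24_1 D15431 (iv D10744) F33745 (iv F33382) (iv F47356)
theorem F67462 : act 9 n15431 = n10634 := d34_2 (iv F47358) D15431 (iv D10634)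
def n15432 : Q := act 6 n10620
theorem D15432 : act 6 n10620 = n15432 := rfl
theorem F67464 : act 3 n15432 = n10622 := d26_1 D15432 (iv D10622) (iv F47356)
def n15433 : Q := act 8 n10620
theorem D15433 : act 8 n10620 = n15433 := rfl
theorem F67467 : act 5 n15433 = n10621 := d37_1 D15433 (iv D10621) D10620
def n15434 : Q := act 9 n10621
theorem D15434 : act 9 n10621 = n15434 := rfl
theorem F67472 : act 8 n15434 = n10637 := d44_1 D15434 (iv D10637) (iv D7333) (iv F33380) D10621
def n15435 : Q := act 7 n10622
theorem D15435 : act 7 n10622 = n15435 := rfl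
def n15437 : Q := act 8 n10623
theorem D15437 : act 8 n10623 = n15437 := rfl
theorem F67484 : act 4 n15437 = n10625 := d33_1 D15437 (iv D10625) D10623
def n15441 : Q := act 1 n10628
theorem D15441 : act 1 n10628 = n15441 := rfl
theorem F67503 : act 7 n15441 = n10695 := d14_2 (iv F47391) D15441 (iv D10695)
def n15442 : Q := act 5 n10628
theorem D15442 : act 5 n10628 = n15442 := rfl
theorem F67505 : act 2 n15442 = n10629 := d19_1 D15442 (iv D10629) D10628
theorem F67506 : act 7 n15442 = n10696 := d36_2 (iv F47391) D15442 (iv D10696)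
def n15443 : Q := act 8 n10628
theorem D15443 : act 8 n10628 = n15443 := rfl
theorem F67507 : act 0 n15443 = n10633 := d7_1 D15443 (iv D10633) (iv F47389)
theorem F67510 : act 7 n15443 = n10697 := d42_1 D15443 (iv D10697) (iv F47391)
def n15444 : Q := act 4 n10629
theorem D15444 : act 4 n10629 = n15444 := rfl
theorem F67513 : act 3 n15444 = n10757 := d24_1 D15444 (iv D10757) F33786 (iv F33409) (iv F47394)
theorem F67515 : act 7 n15444 = n10698 := d32_2 (iv F47395) D15444 (iv D10698)
def n15446 : Q := act 8 n10629
theorem D15446 : act 8 n10629 = n15446 := rfl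
theorem F67522 : act 5 n15446 = n10630 := d37_1 D15446 (iv D10630) D10629
theorem F67523 : act 7 n15446 = n10700 := d42_1 D15446 (iv D10700) (iv F47395)
def n15447 : Q := act 9 n10630
theorem D15447 : act 9 n10630 = n15447 := rfl
def n15449 : Q := act 4 n10632
theorem D15449 : act 4 n10632 = n15449 := rfl
theorem F67535 : act 2 n15449 = n10634 := d18_1 D15449 (iv D10634) (iv F47406)
theorem F67537 : act 7 n15449 = n10703 := d32_2 (iv F47407) D15449 (iv D10703)
def n15450 : Q := act 6 n10632
theorem D15450 : act 6 n10632 = n15450 := rfl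
def n15451 : Q := act 8 n10632
theorem D15451 : act 8 n10632 = n15451 := rfl
theorem F67542 : act 5 n15451 = n10633 := d37_1 D15451 (iv D10633) D10632
theorem F67543 : act 7 n15451 = n10705 := d42_1 D15451 (iv D10705) (iv F47407)
def n15452 : Q := act 3 n10633
theorem D15452 : act 3 n10633 = n15452 := rfl
theorem F67546 : act 7 n15452 = n10706 := d27_2 (iv F47411) D15452 (iv D10706)
def n15453 : Q := act 9 n10633
theorem D15453 : act 9 n10633 = n15453 := rfl
def n15454 : Q := act 6 n10634
theorem D15454 : act 6 n10634 = n15454 := rfl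
theorem F67552 : act 3 n15454 = n10767 := d26_1 D15454 (iv D10767) (iv F47413)
theorem F67553 : act 4 n15454 = n10635 := d31_1 D15454 (iv D10635) D10634
def n15455 : Q := act 8 n10634
theorem D15455 : act 8 n10634 = n15455 := rfl
theorem F67555 : act 4 n15455 = n10636 := d33_1 D15455 (iv D10636) D10634
theorem F67557 : act 7 n15455 = n10709 := d42_1 D15455 (iv D10709) (iv F47415)
def n15456 : Q := act 7 n10635
theorem D15456 : act 7 n10635 = n15456 := rfl
theorem F67560 : act 6 n15456 = n10710 := d39_1 D15456 (iv D10710) (iv D7381) (iv F33417) D10635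
def n15457 : Q := act 8 n10635
theorem D15457 : act 8 n10635 = n15457 := rfl
def n15459 : Q := act 5 n10639
theorem D15459 : act 5 n10639 = n15459 := rfl
theorem F67570 : act 3 n15459 = n10772 := d25_1 D15459 (iv D10772) (iv F47432)
def n15461 : Q := act 8 n10639
theorem D15461 : act 8 n10639 = n15461 := rfl
theorem F67579 : act 4 n15461 = n10642 := d33_1 D15461 (iv D10642) (iv F47433)
def n15462 : Q := act 3 n10640
theorem D15462 : act 3 n10640 = n15462 := rfl
theorem F67581 : act 0 n15462 = n11769 := d2_1 D15462 (iv D11769) (iv F47434)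
theorem F67584 : act 7 n15462 = n10716 := d27_2 (iv F47438) D15462 (iv D10716)
def n15494 : Q := act 2 n10662
theorem D15494 : act 2 n10662 = n15494 := rfl
theorem F67732 : act 1 n15494 = n10670 := d9_1 D15494 (iv D10670) F33534 (iv F33515) (iv F47542)
def n15495 : Q := act 5 n10662
theorem D15495 : act 5 n10662 = n15495 := rfl
theorem F67735 : act 1 n15495 = n10664 := d12_1 D15495 (iv D10664) (iv F47542)
theorem F67736 : act 3 n15495 = n10663 := d25_1 D15495 (iv D10663) D10662
def n15498 : Q := act 4 n10664
theorem D15498 : act 4 n10664 = n15498 := rfl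
theorem F67747 : act 2 n15498 = n10674 := d18_1 D15498 (iv D10674) (iv F47550)
def n15499 : Q := act 6 n10664
theorem D15499 : act 6 n10664 = n15499 := rfl
theorem F67752 : act 3 n15499 = n10666 := d26_1 D15499 (iv D10666) (iv F47551)
def n15502 : Q := act 7 n10666
theorem D15502 : act 7 n10666 = n15502 := rfl
theorem F67765 : act 2 n15502 = n10667 := d21_1 D15502 (iv D10667) (iv F47558)
def n15504 : Q := act 5 n10668
theorem D15504 : act 5 n10668 = n15504 := rfl
theorem F67775 : act 3 n15504 = n10669 := d25_1 D15504 (iv D10669) D10668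
def n15505 : Q := act 8 n10668
theorem D15505 : act 8 n10668 = n15505 := rfl
theorem F67779 : act 3 n15505 = n10681 := d28_1 D15505 (iv D10681) (iv D7363) (iv F33532) D10668
def n15506 : Q := act 6 n10669
theorem D15506 : act 6 n10669 = n15506 := rfl
theorem F67783 : act 4 n15506 = n10793 := d31_1 D15506 (iv D10793) (iv F47575)
theorem F67785 : act 8 n15506 = n10682 := d40_2 (iv F47576) D15506 (iv D10682)
def n15507 : Q := act 5 n10670
theorem D15507 : act 5 n10670 = n15507 := rfl
theorem F67787 : act 2 n15507 = n10671 := d19_1 D15507 (iv D10671) D10670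
def n15509 : Q := act 4 n10671
theorem D15509 : act 4 n10671 = n15509 := rfl
theorem F67792 : act 3 n15509 = n10796 := d24_1 D15509 (iv D10796) F33894 (iv F33538) (iv F47581)
def n15513 : Q := act 7 n10673
theorem D15513 : act 7 n10673 = n15513 := rfl
theorem F67808 : act 8 n15513 = n10689 := d42_2 (iv F47589) D15513 (iv D10689)
def n15514 : Q := act 6 n10674
theorem D15514 : act 6 n10674 = n15514 := rfl
theorem F67811 : act 3 n15514 = n10801 := d26_1 D15514 (iv D10801) (iv F47592)
def n15519 : Q := act 1 n10679
theorem D15519 : act 1 n10679 = n15519 := rfl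
theorem F67832 : act 9 n15519 = n10695 := d16_2 (iv F47614) D15519 (iv D10695)
def n15522 : Q := act 4 n10680
theorem D15522 : act 4 n10680 = n15522 := rfl
theorem F67844 : act 9 n15522 = n10698 := d34_2 (iv F47618) D15522 (iv D10698)
def n15524 : Q := act 8 n10680
theorem D15524 : act 8 n10680 = n15524 := rfl
def n15525 : Q := act 9 n10681
theorem D15525 : act 9 n10681 = n15525 := rfl
theorem F67857 : act 8 n15525 = n10701 := d44_1 D15525 (iv D10701) (iv D7376) (iv F33562) D10681
def n15526 : Q := act 7 n10682
theorem D15526 : act 7 n10682 = n15526 := rfl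
theorem F67858 : act 0 n15526 = n10689 := d6_1 D15526 (iv D10689) (iv F47623)
theorem F67862 : act 9 n15526 = n10702 := d43_2 (iv F47627) D15526 (iv D10702)
def n15527 : Q := act 4 n10683
theorem D15527 : act 4 n10683 = n15527 := rfl
theorem F67864 : act 2 n15527 = n10685 := d18_1 D15527 (iv D10685) (iv F47629)
theorem F67866 : act 9 n15527 = n10703 := d34_2 (iv F47630) D15527 (iv D10703)
def n15528 : Q := act 6 n10683
theorem D15528 : act 6 n10683 = n15528 := rfl
theorem F67868 : act 2 n15528 = n10686 := d20_1 D15528 (iv D10686) (iv F47629)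
theorem F67870 : act 9 n15528 = n10704 := d41_2 (iv F47630) D15528 (iv D10704)
def n15529 : Q := act 8 n10683
theorem D15529 : act 8 n10683 = n15529 := rfl
theorem F67873 : act 5 n15529 = n10684 := d37_1 D15529 (iv D10684) D10683
def n15530 : Q := act 3 n10684
theorem D15530 : act 3 n10684 = n15530 := rfl
def n15532 : Q := act 6 n10685
theorem D15532 : act 6 n10685 = n15532 := rfl
theorem F67882 : act 3 n15532 = n10819 := d26_1 D15532 (iv D10819) (iv F47636)
theorem F67883 : act 4 n15532 = n10686 := d31_1 D15532 (iv D10686) D10685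
theorem F67884 : act 9 n15532 = n10708 := d41_2 (iv F47638) D15532 (iv D10708)
def n15533 : Q := act 8 n10685
theorem D15533 : act 8 n10685 = n15533 := rfl
theorem F67886 : act 4 n15533 = n10687 := d33_1 D15533 (iv D10687) D10685
def n15534 : Q := act 7 n10686
theorem D15534 : act 7 n10686 = n15534 := rfl
theorem F67889 : act 3 n15534 = n10689 := d27_1 D15534 (iv D10689) (iv F47640)
def n15535 : Q := act 8 n10686
theorem D15535 : act 8 n10686 = n15535 := rfl
def n15539 : Q := act 8 n10690
theorem D15539 : act 8 n10690 = n15539 := rfl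
theorem F67911 : act 4 n15539 = n10693 := d33_1 D15539 (iv D10693) (iv F47656)
def n15540 : Q := act 3 n10691
theorem D15540 : act 3 n10691 = n15540 := rfl
theorem F67915 : act 8 n15540 = n10827 := d28_2 D10691 D15540 (iv D10827) (iv D7459) (iv F33583)
def n15544 : Q := act 5 n10695
theorem D15544 : act 5 n10695 = n15544 := rfl
def n15545 : Q := act 8 n10695
theorem D15545 : act 8 n10695 = n15545 := rfl
def n15546 : Q := act 4 n10696
theorem D15546 : act 4 n10696 = n15546 := rfl
theorem F67939 : act 2 n15546 = n10698 := d18_1 D15546 (iv D10698) (iv F47680)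
def n15547 : Q := act 6 n10696
theorem D15547 : act 6 n10696 = n15547 := rfl
def n15548 : Q := act 8 n10696
theorem D15548 : act 8 n10696 = n15548 := rfl
theorem F67944 : act 0 n15548 = n10705 := d7_1 D15548 (iv D10705) (iv F47679)
theorem F67946 : act 5 n15548 = n10697 := d37_1 D15548 (iv D10697) D10696
def n15549 : Q := act 3 n10697
theorem D15549 : act 3 n10697 = n15549 := rfl
def n15551 : Q := act 6 n10698
theorem D15551 : act 6 n10698 = n15551 := rfl
theorem F67956 : act 3 n15551 = n10838 := d26_1 D15551 (iv D10838) (iv F47687)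
def n15552 : Q := act 8 n10698
theorem D15552 : act 8 n10698 = n15552 := rfl
def n15554 : Q := act 8 n10699
theorem D15554 : act 8 n10699 = n15554 := rfl
theorem F67970 : act 6 n15554 = n10700 := d40_1 D15554 (iv D10700) D10699
def n15555 : Q := act 9 n10700
theorem D15555 : act 9 n10700 = n15555 := rfl
def n15556 : Q := act 3 n10703
theorem D15556 : act 3 n10703 = n15556 := rfl
theorem F67975 : act 1 n15556 = n15556 := d10_1 D15556 (iv D15556) F47707
theorem F67976 : act 2 n15556 = n10843 := d17_1 D15556 (iv D10843) F34016 (iv F33627) (iv F47708)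
theorem F67977 : act 5 n15556 = n15556 := d25_2 F47709 D15556 (iv D15556)
def n15557 : Q := act 6 n10703
theorem D15557 : act 6 n10703 = n15557 := rfl
def n15558 : Q := act 8 n10703
theorem D15558 : act 8 n10703 = n15558 := rfl
theorem F67982 : act 2 n15558 = n10709 := d22_1 D15558 (iv D10709) (iv F47708)
theorem F67983 : act 4 n15558 = n10705 := d33_1 D15558 (iv D10705) D10703
def n15559 : Q := act 7 n10704
theorem D15559 : act 7 n10704 = n15559 := rfl
def n15560 : Q := act 8 n10704
theorem D15560 : act 8 n10704 = n15560 := rfl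
theorem F67991 : act 6 n15560 = n10705 := d40_1 D15560 (iv D10705) D10704
def n15561 : Q := act 3 n10705
theorem D15561 : act 3 n10705 = n15561 := rfl
theorem F67994 : act 5 n15561 = n10706 := d25_2 (iv F47715) D15561 (iv D10706)
def n15562 : Q := act 9 n10705
theorem D15562 : act 9 n10705 = n15562 := rfl
theorem F67997 : act 5 n15562 = n10707 := d38_1 D15562 (iv D10707) (iv F47715)
def n15563 : Q := act 4 n10706
theorem D15563 : act 4 n10706 = n15563 := rfl
def n15565 : Q := act 5 n10708
theorem D15565 : act 5 n10708 = n15565 := rfl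
theorem F68007 : act 3 n15565 = n10852 := d25_1 D15565 (iv D10852) (iv F47724)
def n15566 : Q := act 7 n10708
theorem D15566 : act 7 n10708 = n15566 := rfl
theorem F68011 : act 3 n15566 = n10853 := d27_1 D15566 (iv D10853) (iv F47724)
def n15567 : Q := act 8 n10708
theorem D15567 : act 8 n10708 = n15567 := rfl
theorem F68015 : act 6 n15567 = n10709 := d40_1 D15567 (iv D10709) D10708
def n15568 : Q := act 3 n10709
theorem D15568 : act 3 n10709 = n15568 := rfl
theorem F68019 : act 8 n15568 = n10855 := d28_2 D10709 D15568 (iv D10855) (iv D7477) (iv F33627)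
def n15569 : Q := act 9 n10709
theorem D15569 : act 9 n10709 = n15569 := rfl
theorem F68021 : act 4 n15569 = n10712 := d34_1 D15569 (iv D10712) (iv F47727)
def n15570 : Q := act 8 n10710
theorem D15570 : act 8 n10710 = n15570 := rfl
def n15577 : Q := act 2 n10716
theorem D15577 : act 2 n10716 = n15577 := rfl
theorem F68053 : act 0 n15577 = n11907 := d1_1 D15577 (iv D11907) (iv F47752)
theorem F68057 : act 8 n15577 = n10864 := d22_2 (iv F47755) D15577 (iv D10864)
def n15580 : Q := act 3 n10720
theorem D15580 : act 3 n10720 = n15580 := rfl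
theorem F68069 : act 4 n15580 = n10727 := d24_2 D10720 D15580 (iv D10727) (iv D7395) (iv F33666)
theorem F68071 : act 7 n15580 = n10779 := d27_2 (iv F47774) D15580 (iv D10779)
def n15588 : Q := act 8 n10723
theorem D15588 : act 8 n10723 = n15588 := rfl
theorem F68113 : act 7 n15588 = n10787 := d42_1 D15588 (iv D10787) (iv F47790)
def n15589 : Q := act 9 n10724
theorem D15589 : act 9 n10724 = n15589 := rfl
theorem F68117 : act 4 n15589 = n10736 := d34_1 D15589 (iv D10736) (iv F47795)
theorem F68119 : act 7 n15589 = n10788 := d43_1 D15589 (iv D10788) (iv F47797)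
def n15591 : Q := act 2 n10727
theorem D15591 : act 2 n10727 = n15591 := rfl
theorem F68129 : act 7 n15591 = n10790 := d21_2 (iv F47813) D15591 (iv D10790)
def n15592 : Q := act 5 n10727
theorem D15592 : act 5 n10727 = n15592 := rfl
theorem F68131 : act 0 n15592 = n10730 := d4_1 D15592 (iv D10730) (iv F47810)
theorem F68133 : act 3 n15592 = n10728 := d25_1 D15592 (iv D10728) D10727
theorem F68134 : act 7 n15592 = n10791 := d36_2 (iv F47813) D15592 (iv D10791)
def n15593 : Q := act 8 n10727
theorem D15593 : act 8 n10727 = n15593 := rfl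
theorem F68136 : act 0 n15593 = n10731 := d7_1 D15593 (iv D10731) (iv F47810)
theorem F68137 : act 1 n15593 = n11930 := d15_1 D15593 (iv D11930) (iv F47811)
theorem F68140 : act 7 n15593 = n10792 := d42_1 D15593 (iv D10792) (iv F47813)
def n15594 : Q := act 6 n10728
theorem D15594 : act 6 n10728 = n15594 := rfl
theorem F68144 : act 8 n15594 = n10741 := d40_2 (iv F47818) D15594 (iv D10741)
def n15595 : Q := act 5 n10729
theorem D15595 : act 5 n10729 = n15595 := rfl
theorem F68147 : act 2 n15595 = n10730 := d19_1 D15595 (iv D10730) D10729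
theorem F68148 : act 7 n15595 = n10794 := d36_2 (iv F47822) D15595 (iv D10794)
def n15596 : Q := act 8 n10729
theorem D15596 : act 8 n10729 = n15596 := rfl
theorem F68151 : act 2 n15596 = n10731 := d22_1 D15596 (iv D10731) D10729
theorem F68153 : act 7 n15596 = n10795 := d42_1 D15596 (iv D10795) (iv F47822)
def n15598 : Q := act 6 n10730
theorem D15598 : act 6 n10730 = n15598 := rfl
theorem F68158 : act 3 n15598 = n10732 := d26_1 D15598 (iv D10732) (iv F47825)
def n15599 : Q := act 8 n10730
theorem D15599 : act 8 n10730 = n15599 := rfl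
theorem F68162 : act 3 n15599 = n10746 := d28_1 D15599 (iv D10746) F33745 (iv F33706) (iv F47825)
theorem F68164 : act 7 n15599 = n10798 := d42_1 D15599 (iv D10798) (iv F47826)
def n15600 : Q := act 9 n10731
theorem D15600 : act 9 n10731 = n15600 := rfl
theorem F68168 : act 7 n15600 = n10799 := d43_1 D15600 (iv D10799) (iv F47831)
def n15601 : Q := act 7 n10732
theorem D15601 : act 7 n10732 = n15601 := rfl
theorem F68172 : act 6 n15601 = n10800 := d39_1 D15601 (iv D10800) (iv D7441) (iv F33705) D10732
theorem F68173 : act 8 n15601 = n10748 := d42_2 (iv F47834) D15601 (iv D10748)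
def n15602 : Q := act 6 n10733
theorem D15602 : act 6 n10733 = n15602 := rfl
def n15603 : Q := act 8 n10733
theorem D15603 : act 8 n10733 = n15603 := rfl
theorem F68182 : act 7 n15603 = n10802 := d42_1 D15603 (iv D10802) (iv F47838)
def n15604 : Q := act 7 n10734
theorem D15604 : act 7 n10734 = n15604 := rfl
theorem F68185 : act 3 n15604 = n10737 := d27_1 D15604 (iv D10737) (iv F47842)
theorem F68187 : act 6 n15604 = n10803 := d39_1 D15604 (iv D10803) (iv D7443) (iv F33711) D10734
def n15605 : Q := act 8 n10734
theorem D15605 : act 8 n10734 = n15605 := rfl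
theorem F68191 : act 3 n15605 = n10752 := d28_1 D15605 (iv D10752) F33762 (iv F33721) (iv F47842)
theorem F68193 : act 6 n15605 = n10735 := d40_1 D15605 (iv D10735) D10734
def n15606 : Q := act 9 n10735
theorem D15606 : act 9 n10735 = n15606 := rfl
theorem F68198 : act 7 n15606 = n10805 := d43_1 D15606 (iv D10805) (iv F47849)
def n15607 : Q := act 1 n10738
theorem D15607 : act 1 n10738 = n15607 := rfl
theorem F68200 : act 0 n15607 = n10996 := d0_1 D15607 (iv D10996) F34447 (iv F33739) (iv F47862)
theorem F68204 : act 7 n15607 = n10806 := d14_2 (iv F47865) D15607 (iv D10806)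
theorem F68205 : act 9 n15607 = n10754 := d16_2 (iv F47866) D15607 (iv D10754)
def n15608 : Q := act 5 n10738
theorem D15608 : act 5 n10738 = n15608 := rfl
theorem F68206 : act 0 n15608 = n10742 := d4_1 D15608 (iv D10742) (iv F47862)
theorem F68207 : act 2 n15608 = n10739 := d19_1 D15608 (iv D10739) D10738
theorem F68208 : act 7 n15608 = n10807 := d36_2 (iv F47865) D15608 (iv D10807)
theorem F68209 : act 9 n15608 = n10755 := d38_2 (iv F47866) D15608 (iv D10755)
def n15609 : Q := act 8 n10738
theorem D15609 : act 8 n10738 = n15609 := rfl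
theorem F68210 : act 0 n15609 = n10743 := d7_1 D15609 (iv D10743) (iv F47862)
theorem F68211 : act 2 n15609 = n10740 := d22_1 D15609 (iv D10740) D10738
theorem F68214 : act 7 n15609 = n10808 := d42_1 D15609 (iv D10808) (iv F47865)
def n15611 : Q := act 6 n10739
theorem D15611 : act 6 n10739 = n15611 := rfl
theorem F68220 : act 0 n15611 = n10745 := d5_1 D15611 (iv D10745) (iv F47867)
theorem F68222 : act 3 n15611 = n10741 := d26_1 D15611 (iv D10741) (iv F47869)
theorem F68224 : act 9 n15611 = n10758 := d41_2 (iv F47871) D15611 (iv D10758)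
def n15612 : Q := act 8 n10739
theorem D15612 : act 8 n10739 = n15612 := rfl
theorem F68228 : act 7 n15612 = n10811 := d42_1 D15612 (iv D10811) (iv F47870)
def n15613 : Q := act 9 n10740
theorem D15613 : act 9 n10740 = n15613 := rfl
theorem F68229 : act 0 n15613 = n10747 := d8_1 D15613 (iv D10747) (iv F47872)
theorem F68230 : act 1 n15613 = n11950 := d16_1 D15613 (iv D11950) (iv F47873)
theorem F68233 : act 7 n15613 = n10812 := d43_1 D15613 (iv D10812) (iv F47876)
theorem F68234 : act 8 n15613 = n10760 := d44_1 D15613 (iv D10760) (iv D7415) (iv F33734) D10740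
def n15614 : Q := act 7 n10741
theorem D15614 : act 7 n10741 = n15614 := rfl
theorem F68239 : act 9 n15614 = n10761 := d43_2 (iv F47880) D15614 (iv D10761)
def n15615 : Q := act 4 n10742
theorem D15615 : act 4 n10742 = n15615 := rfl
theorem F68240 : act 1 n15615 = n11004 := d11_1 D15615 (iv D11004) (iv F47881)
theorem F68241 : act 2 n15615 = n10744 := d18_1 D15615 (iv D10744) (iv F47882)
theorem F68242 : act 5 n15615 = n15615 := d30_2 D10742 D15615 (iv D15615) (iv D10742) F33740
theorem F68243 : act 7 n15615 = n10814 := d32_2 (iv F47883) D15615 (iv D10814)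
theorem F68244 : act 9 n15615 = n10762 := d34_2 (iv F47884) D15615 (iv D10762)
def n15616 : Q := act 6 n10742
theorem D15616 : act 6 n10742 = n15616 := rfl
theorem F68245 : act 1 n15616 = n11005 := d13_1 D15616 (iv D11005) (iv F47881)
theorem F68246 : act 2 n15616 = n10745 := d20_1 D15616 (iv D10745) (iv F47882)
theorem F68247 : act 5 n15616 = n15616 := d35_1 D15616 (iv D15616) (iv D10742) F33741 D10742
theorem F68248 : act 9 n15616 = n10763 := d41_2 (iv F47884) D15616 (iv D10763)
def n15617 : Q := act 8 n10742
theorem D15617 : act 8 n10742 = n15617 := rfl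
theorem F68249 : act 1 n15617 = n11006 := d15_1 D15617 (iv D11006) (iv F47881)
theorem F68250 : act 2 n15617 = n10746 := d22_1 D15617 (iv D10746) (iv F47882)
theorem F68252 : act 7 n15617 = n10816 := d42_1 D15617 (iv D10816) (iv F47883)
def n15618 : Q := act 3 n10743
theorem D15618 : act 3 n10743 = n15618 := rfl
theorem F68255 : act 7 n15618 = n10817 := d27_2 (iv F47889) D15618 (iv D10817)
def n15619 : Q := act 9 n10743
theorem D15619 : act 9 n10743 = n15619 := rfl
theorem F68260 : act 7 n15619 = n10818 := d43_1 D15619 (iv D10818) (iv F47889)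
def n15620 : Q := act 6 n10744
theorem D15620 : act 6 n10744 = n15620 := rfl
theorem F68263 : act 4 n15620 = n10745 := d31_1 D15620 (iv D10745) D10744
def n15621 : Q := act 8 n10744
theorem D15621 : act 8 n10744 = n15621 := rfl
theorem F68268 : act 7 n15621 = n10820 := d42_1 D15621 (iv D10820) (iv F47892)
def n15622 : Q := act 7 n10745
theorem D15622 : act 7 n10745 = n15622 := rfl
theorem F68270 : act 3 n15622 = n10748 := d27_1 D15622 (iv D10748) (iv F47895)
def n15623 : Q := act 8 n10745
theorem D15623 : act 8 n10745 = n15623 := rfl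
def n15625 : Q := act 5 n10749
theorem D15625 : act 5 n10749 = n15625 := rfl
theorem F68285 : act 9 n15625 = n10772 := d38_2 (iv F47913) D15625 (iv D10772)
def n15626 : Q := act 7 n10749
theorem D15626 : act 7 n10749 = n15626 := rfl
theorem F68288 : act 4 n15626 = n10751 := d32_1 D15626 (iv D10751) (iv F47912)
theorem F68290 : act 9 n15626 = n10773 := d43_2 (iv F47913) D15626 (iv D10773)
def n15627 : Q := act 8 n10749
theorem D15627 : act 8 n10749 = n15627 := rfl
theorem F68293 : act 4 n15627 = n10752 := d33_1 D15627 (iv D10752) (iv F47912)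
def n15628 : Q := act 3 n10750
theorem D15628 : act 3 n10750 = n15628 := rfl
theorem F68297 : act 7 n15628 = n10827 := d27_2 (iv F47918) D15628 (iv D10827)
def n15629 : Q := act 9 n10750
theorem D15629 : act 9 n10750 = n15629 := rfl
theorem F68299 : act 2 n15629 = n11018 := d23_1 D15629 (iv D11018) (iv F47915)
theorem F68302 : act 7 n15629 = n10828 := d43_1 D15629 (iv D10828) (iv F47918)
def n15630 : Q := act 8 n10751
theorem D15630 : act 8 n10751 = n15630 := rfl
theorem F68305 : act 2 n15630 = n11019 := d22_1 D15630 (iv D11019) (iv F47920)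
def n15632 : Q := act 5 n10754
theorem D15632 : act 5 n10754 = n15632 := rfl
theorem F68314 : act 0 n15632 = n11021 := d4_1 D15632 (iv D11021) (iv F47934)
theorem F68315 : act 1 n15632 = n10755 := d12_1 D15632 (iv D10755) D10754
theorem F68317 : act 7 n15632 = n10831 := d36_2 (iv F47938) D15632 (iv D10831)
def n15633 : Q := act 8 n10754
theorem D15633 : act 8 n10754 = n15633 := rfl
theorem F68319 : act 1 n15633 = n10756 := d15_1 D15633 (iv D10756) D10754
def n15634 : Q := act 4 n10755
theorem D15634 : act 4 n10755 = n15634 := rfl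
theorem F68325 : act 2 n15634 = n10757 := d18_1 D15634 (iv D10757) (iv F47940)
def n15635 : Q := act 6 n10755
theorem D15635 : act 6 n10755 = n15635 := rfl
theorem F68328 : act 0 n15635 = n10763 := d5_1 D15635 (iv D10763) (iv F47939)
def n15636 : Q := act 8 n10755
theorem D15636 : act 8 n10755 = n15636 := rfl
theorem F68331 : act 0 n15636 = n10764 := d7_1 D15636 (iv D10764) (iv F47939)
theorem F68332 : act 2 n15636 = n10759 := d22_1 D15636 (iv D10759) (iv F47940)
theorem F68333 : act 5 n15636 = n10756 := d37_1 D15636 (iv D10756) D10755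
theorem F68334 : act 7 n15636 = n10835 := d42_1 D15636 (iv D10835) (iv F47941)
def n15637 : Q := act 3 n10756
theorem D15637 : act 3 n10756 = n15637 := rfl
theorem F68338 : act 7 n15637 = n10836 := d27_2 (iv F47946) D15637 (iv D10836)
def n15638 : Q := act 9 n10756
theorem D15638 : act 9 n10756 = n15638 := rfl
def n15640 : Q := act 8 n10757
theorem D15640 : act 8 n10757 = n15640 := rfl
theorem F68349 : act 4 n15640 = n10759 := d33_1 D15640 (iv D10759) D10757
def n15642 : Q := act 8 n10758
theorem D15642 : act 8 n10758 = n15642 := rfl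
theorem F68361 : act 6 n15642 = n10759 := d40_1 D15642 (iv D10759) D10758
def n15643 : Q := act 9 n10759
theorem D15643 : act 9 n10759 = n15643 := rfl
theorem F68362 : act 0 n15643 = n10771 := d8_1 D15643 (iv D10771) (iv F47955)
theorem F68363 : act 1 n15643 = n11980 := d16_1 D15643 (iv D11980) (iv F47956)
def n15644 : Q := act 3 n10762
theorem D15644 : act 3 n10762 = n15644 := rfl
theorem F68367 : act 1 n15644 = n11033 := d10_1 D15644 (iv D11033) (iv F47971)
theorem F68368 : act 5 n15644 = n15644 := d25_2 F47973 D15644 (iv D15644)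
theorem F68369 : act 7 n15644 = n10843 := d27_2 (iv F47974) D15644 (iv D10843)
def n15645 : Q := act 6 n10762
theorem D15645 : act 6 n10762 = n15645 := rfl
theorem F68370 : act 1 n15645 = n11034 := d13_1 D15645 (iv D11034) (iv F47971)
theorem F68371 : act 2 n15645 = n10767 := d20_1 D15645 (iv D10767) (iv F47972)
theorem F68372 : act 4 n15645 = n10763 := d31_1 D15645 (iv D10763) D10762
def n15646 : Q := act 8 n10762
theorem D15646 : act 8 n10762 = n15646 := rfl
theorem F68373 : act 1 n15646 = n11035 := d15_1 D15646 (iv D11035) (iv F47971)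
theorem F68374 : act 2 n15646 = n10768 := d22_1 D15646 (iv D10768) (iv F47972)
def n15647 : Q := act 7 n10763
theorem D15647 : act 7 n10763 = n15647 := rfl
theorem F68378 : act 1 n15647 = n11036 := d14_1 D15647 (iv D11036) (iv F47975)
theorem F68381 : act 6 n15647 = n10846 := d39_1 D15647 (iv D10846) (iv D7472) (iv F33800) D10763
def n15648 : Q := act 8 n10763
theorem D15648 : act 8 n10763 = n15648 := rfl
theorem F68382 : act 1 n15648 = n11037 := d15_1 D15648 (iv D11037) (iv F47975)
theorem F68385 : act 6 n15648 = n10764 := d40_1 D15648 (iv D10764) D10763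
def n15649 : Q := act 3 n10764
theorem D15649 : act 3 n10764 = n15649 := rfl
theorem F68386 : act 1 n15649 = n11038 := d10_1 D15649 (iv D11038) (iv F47978)
theorem F68387 : act 2 n15649 = n15649 := d17_1 D15649 (iv D15649) F47979 F33813 (iv F47979)
theorem F68388 : act 5 n15649 = n10765 := d25_2 (iv F47980) D15649 (iv D10765)
theorem F68389 : act 7 n15649 = n10848 := d27_2 (iv F47981) D15649 (iv D10848)
def n15650 : Q := act 9 n10764
theorem D15650 : act 9 n10764 = n15650 := rfl
theorem F68391 : act 2 n15650 = n10771 := d23_1 D15650 (iv D10771) (iv F47979)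
def n15651 : Q := act 4 n10765
theorem D15651 : act 4 n10765 = n15651 := rfl
theorem F68394 : act 1 n15651 = n11040 := d11_1 D15651 (iv D11040) (iv F47982)
theorem F68395 : act 2 n15651 = n15651 := d18_1 D15651 (iv D15651) F47983
theorem F68396 : act 3 n15651 = n15651 := d24_1 D15651 (iv D15651) (iv D10765) F33803 D10765
theorem F68397 : act 6 n15651 = n15651 := d31_2 F47984 D15651 (iv D15651)
theorem F68398 : act 7 n15651 = n10850 := d32_2 (iv F47985) D15651 (iv D10850)
def n15652 : Q := act 9 n10765
theorem D15652 : act 9 n10765 = n15652 := rfl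
theorem F68399 : act 1 n15652 = n11041 := d16_1 D15652 (iv D11041) (iv F47982)
theorem F68403 : act 7 n15652 = n10851 := d43_1 D15652 (iv D10851) (iv F47985)
def n15653 : Q := act 5 n10767
theorem D15653 : act 5 n10767 = n15653 := rfl
def n15654 : Q := act 7 n10767
theorem D15654 : act 7 n10767 = n15654 := rfl
theorem F68409 : act 6 n15654 = n10853 := d39_1 D15654 (iv D10853) (iv D7476) (iv F33808) D10767
def n15655 : Q := act 8 n10767
theorem D15655 : act 8 n10767 = n15655 := rfl
theorem F68410 : act 1 n15655 = n10774 := d15_1 D15655 (iv D10774) (iv F47991)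
def n15656 : Q := act 3 n10768
theorem D15656 : act 3 n10768 = n15656 := rfl
theorem F68413 : act 1 n15656 = n10775 := d10_1 D15656 (iv D10775) (iv F47993)
theorem F68416 : act 7 n15656 = n10855 := d27_2 (iv F47996) D15656 (iv D10855)
def n15661 : Q := act 8 n10772
theorem D15661 : act 8 n10772 = n15661 := rfl
theorem F68435 : act 2 n15661 = n11050 := d22_1 D15661 (iv D11050) (iv F48010)
theorem F68437 : act 5 n15661 = n10774 := d37_1 D15661 (iv D10774) D10772
def n15662 : Q := act 8 n10773
theorem D15662 : act 8 n10773 = n15662 := rfl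
theorem F68443 : act 7 n15662 = n10774 := d42_1 D15662 (iv D10774) D10773
def n15663 : Q := act 3 n10774
theorem D15663 : act 3 n10774 = n15663 := rfl
theorem F68446 : act 6 n15663 = n10775 := d26_2 (iv F48020) D15663 (iv D10775)
def n15664 : Q := act 9 n10774
theorem D15664 : act 9 n10774 = n15664 := rfl
theorem F68448 : act 2 n15664 = n11053 := d23_1 D15664 (iv D11053) (iv F48018)
theorem F68449 : act 4 n15664 = n10778 := d34_1 D15664 (iv D10778) (iv F48019)
theorem F68450 : act 6 n15664 = n10776 := d41_1 D15664 (iv D10776) (iv F48020)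
def n15665 : Q := act 2 n10775
theorem D15665 : act 2 n10775 = n15665 := rfl
theorem F68452 : act 3 n15665 = n11054 := d17_2 D10775 D15665 (iv D11054) (iv D7612) (iv F33829)
theorem F68455 : act 7 n15665 = n10864 := d21_2 (iv F48024) D15665 (iv D10864)
def n15666 : Q := act 9 n10775
theorem D15666 : act 9 n10775 = n15666 := rfl
theorem F68460 : act 7 n15666 = n10865 := d43_1 D15666 (iv D10865) (iv F48024)
def n15668 : Q := act 2 n10779
theorem D15668 : act 2 n10779 = n15668 := rfl
theorem F68469 : act 4 n15668 = n10790 := d18_2 (iv F48043) D15668 (iv D10790)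
theorem F68470 : act 6 n15668 = n10867 := d20_2 (iv F48044) D15668 (iv D10867)
def n15673 : Q := act 8 n10781
theorem D15673 : act 8 n10781 = n15673 := rfl
theorem F68493 : act 4 n15673 = n10795 := d33_1 D15673 (iv D10795) (iv F48053)
theorem F68494 : act 6 n15673 = n10872 := d40_1 D15673 (iv D10872) (iv F48054)
def n15683 : Q := act 9 n10787
theorem D15683 : act 9 n10787 = n15683 := rfl
theorem F68536 : act 5 n15683 = n10788 := d38_1 D15683 (iv D10788) (iv F48080)
def n15684 : Q := act 1 n10790
theorem D15684 : act 1 n10790 = n15684 := rfl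
theorem F68539 : act 2 n15684 = n12032 := d9_2 D10790 D15684 (iv D12032) (iv D8291) (iv F33883)
theorem F68540 : act 6 n15684 = n10883 := d13_2 (iv F48093) D15684 (iv D10883)
def n15685 : Q := act 5 n10790
theorem D15685 : act 5 n10790 = n15685 := rfl
def n15686 : Q := act 8 n10790
theorem D15686 : act 8 n10790 = n15686 := rfl
theorem F68545 : act 0 n15686 = n10795 := d7_1 D15686 (iv D10795) (iv F48092)
theorem F68546 : act 2 n15686 = n10792 := d22_1 D15686 (iv D10792) D10790
theorem F68547 : act 6 n15686 = n10885 := d40_1 D15686 (iv D10885) (iv F48093)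
def n15687 : Q := act 4 n10791
theorem D15687 : act 4 n10791 = n15687 := rfl
def n15688 : Q := act 6 n10791
theorem D15688 : act 6 n10791 = n15688 := rfl
theorem F68553 : act 3 n15688 = n10793 := d26_1 D15688 (iv D10793) (iv F48097)
theorem F68554 : act 5 n15688 = n10887 := d35_1 D15688 (iv D10887) (iv D7500) (iv F33884) D10791
def n15689 : Q := act 8 n10791
theorem D15689 : act 8 n10791 = n15689 := rfl
def n15690 : Q := act 9 n10792
theorem D15690 : act 9 n10792 = n15690 := rfl
theorem F68563 : act 6 n15690 = n10889 := d41_1 D15690 (iv D10889) (iv F48102)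
def n15691 : Q := act 7 n10793
theorem D15691 : act 7 n10793 = n15691 := rfl
theorem F68567 : act 5 n15691 = n10890 := d36_1 D15691 (iv D10890) (iv F48105)
theorem F68568 : act 8 n15691 = n10813 := d42_2 (iv F48106) D15691 (iv D10813)
def n15693 : Q := act 6 n10794
theorem D15693 : act 6 n10794 = n15693 := rfl
theorem F68574 : act 2 n15693 = n10797 := d20_1 D15693 (iv D10797) (iv F48109)
theorem F68575 : act 5 n15693 = n10892 := d35_1 D15693 (iv D10892) (iv D7503) (iv F33891) D10794
def n15694 : Q := act 8 n10794
theorem D15694 : act 8 n10794 = n15694 := rfl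
theorem F68579 : act 5 n15694 = n10795 := d37_1 D15694 (iv D10795) D10794
def n15695 : Q := act 3 n10795
theorem D15695 : act 3 n10795 = n15695 := rfl
theorem F68582 : act 6 n15695 = n10894 := d26_2 (iv F48113) D15695 (iv D10894)
def n15696 : Q := act 9 n10795
theorem D15696 : act 9 n10795 = n15696 := rfl
theorem F68585 : act 6 n15696 = n10895 := d41_1 D15696 (iv D10895) (iv F48113)
def n15697 : Q := act 6 n10796
theorem D15697 : act 6 n10796 = n15697 := rfl
theorem F68588 : act 4 n15697 = n10797 := d31_1 D15697 (iv D10797) D10796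
def n15698 : Q := act 8 n10796
theorem D15698 : act 8 n10796 = n15698 := rfl
theorem F68591 : act 4 n15698 = n10798 := d33_1 D15698 (iv D10798) D10796
def n15699 : Q := act 7 n10797
theorem D15699 : act 7 n10797 = n15699 := rfl
theorem F68593 : act 3 n15699 = n10800 := d27_1 D15699 (iv D10800) (iv F48117)
theorem F68594 : act 5 n15699 = n10898 := d36_1 D15699 (iv D10898) (iv F48118)
def n15700 : Q := act 8 n10797
theorem D15700 : act 8 n10797 = n15700 := rfl
theorem F68597 : act 3 n15700 = n10822 := d28_1 D15700 (iv D10822) F33952 (iv F33901) (iv F48117)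
theorem F68598 : act 5 n15700 = n10899 := d37_1 D15700 (iv D10899) (iv F48118)
theorem F68599 : act 6 n15700 = n10798 := d40_1 D15700 (iv D10798) D10797
def n15701 : Q := act 9 n10798
theorem D15701 : act 9 n10798 = n15701 := rfl
theorem F68601 : act 3 n15701 = n10823 := d29_1 D15701 (iv D10823) (iv F48121)
def n15702 : Q := act 5 n10801
theorem D15702 : act 5 n10801 = n15702 := rfl
theorem F68606 : act 4 n15702 = n10901 := d30_1 D15702 (iv D10901) F34178 (iv F33909) (iv F48133)
def n15703 : Q := act 7 n10801
theorem D15703 : act 7 n10801 = n15703 := rfl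
def n15704 : Q := act 8 n10801
theorem D15704 : act 8 n10801 = n15704 := rfl
theorem F68615 : act 6 n15704 = n10802 := d40_1 D15704 (iv D10802) D10801
def n15706 : Q := act 9 n10802
theorem D15706 : act 9 n10802 = n15706 := rfl
def n15707 : Q := act 8 n10803
theorem D15707 : act 8 n10803 = n15707 := rfl
theorem F68624 : act 3 n15707 = n10829 := d28_1 D15707 (iv D10829) F33974 (iv F33923) (iv F48140)
theorem F68626 : act 7 n15707 = n10804 := d42_1 D15707 (iv D10804) D10803
def n15708 : Q := act 9 n10804
theorem D15708 : act 9 n10804 = n15708 := rfl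
theorem F68630 : act 5 n15708 = n10907 := d38_1 D15708 (iv D10907) (iv F48146)
theorem F68631 : act 6 n15708 = n10805 := d41_1 D15708 (iv D10805) (iv F48147)
def n15709 : Q := act 5 n10806
theorem D15709 : act 5 n10806 = n15709 := rfl
theorem F68633 : act 0 n15709 = n11057 := d4_1 D15709 (iv D11057) (iv F48153)
theorem F68634 : act 1 n15709 = n10807 := d12_1 D15709 (iv D10807) D10806
theorem F68636 : act 9 n15709 = n10831 := d38_2 (iv F48157) D15709 (iv D10831)
def n15710 : Q := act 8 n10806
theorem D15710 : act 8 n10806 = n15710 := rfl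
theorem F68638 : act 1 n15710 = n10808 := d15_1 D15710 (iv D10808) D10806
theorem F68639 : act 2 n15710 = n12058 := d22_1 D15710 (iv D12058) (iv F48154)
theorem F68641 : act 6 n15710 = n10909 := d40_1 D15710 (iv D10909) (iv F48156)
def n15712 : Q := act 6 n10807
theorem D15712 : act 6 n10807 = n15712 := rfl
theorem F68646 : act 0 n15712 = n10815 := d5_1 D15712 (iv D10815) (iv F48158)
theorem F68647 : act 2 n15712 = n10810 := d20_1 D15712 (iv D10810) (iv F48159)
theorem F68648 : act 5 n15712 = n10911 := d35_1 D15712 (iv D10911) (iv D7516) (iv F33927) D10807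
theorem F68649 : act 9 n15712 = n10834 := d41_2 (iv F48160) D15712 (iv D10834)
def n15713 : Q := act 8 n10807
theorem D15713 : act 8 n10807 = n15713 := rfl
def n15714 : Q := act 3 n10808
theorem D15714 : act 3 n10808 = n15714 := rfl
theorem F68653 : act 0 n15714 = n10817 := d2_1 D15714 (iv D10817) (iv F48161)
theorem F68654 : act 6 n15714 = n10913 := d26_2 (iv F48164) D15714 (iv D10913)
def n15715 : Q := act 9 n10808
theorem D15715 : act 9 n10808 = n15715 := rfl
theorem F68658 : act 6 n15715 = n10914 := d41_1 D15715 (iv D10914) (iv F48164)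
theorem F68659 : act 8 n15715 = n10837 := d44_1 D15715 (iv D10837) (iv D7465) (iv F33928) D10808
def n15718 : Q := act 7 n10810
theorem D15718 : act 7 n10810 = n15718 := rfl
theorem F68668 : act 0 n15718 = n10821 := d6_1 D15718 (iv D10821) (iv F48169)
theorem F68670 : act 3 n15718 = n10813 := d27_1 D15718 (iv D10813) (iv F48171)
theorem F68672 : act 9 n15718 = n10840 := d43_2 (iv F48173) D15718 (iv D10840)
def n15719 : Q := act 8 n10810
theorem D15719 : act 8 n10810 = n15719 := rfl
theorem F68675 : act 5 n15719 = n10918 := d37_1 D15719 (iv D10918) (iv F48172)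
theorem F68676 : act 6 n15719 = n10811 := d40_1 D15719 (iv D10811) D10810
def n15721 : Q := act 3 n10814
theorem D15721 : act 3 n10814 = n15721 := rfl
theorem F68681 : act 1 n15721 = n11069 := d10_1 D15721 (iv D11069) (iv F48186)
theorem F68682 : act 5 n15721 = n15721 := d25_2 F48188 D15721 (iv D15721)
theorem F68683 : act 9 n15721 = n10843 := d29_2 (iv F48189) D15721 (iv D10843)
def n15722 : Q := act 6 n10814
theorem D15722 : act 6 n10814 = n15722 := rfl
theorem F68684 : act 1 n15722 = n11070 := d13_1 D15722 (iv D11070) (iv F48186)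
theorem F68685 : act 2 n15722 = n10819 := d20_1 D15722 (iv D10819) (iv F48187)
theorem F68686 : act 4 n15722 = n10815 := d31_1 D15722 (iv D10815) D10814
theorem F68687 : act 9 n15722 = n10844 := d41_2 (iv F48189) D15722 (iv D10844)
def n15723 : Q := act 8 n10814
theorem D15723 : act 8 n10814 = n15723 := rfl
theorem F68688 : act 1 n15723 = n11071 := d15_1 D15723 (iv D11071) (iv F48186)
def n15724 : Q := act 7 n10815
theorem D15724 : act 7 n10815 = n15724 := rfl
theorem F68692 : act 1 n15724 = n11072 := d14_1 D15724 (iv D11072) (iv F48190)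
theorem F68693 : act 2 n15724 = n10821 := d21_1 D15724 (iv D10821) (iv F48191)
theorem F68694 : act 5 n15724 = n10923 := d36_1 D15724 (iv D10923) (iv F48192)
theorem F68695 : act 9 n15724 = n10846 := d43_2 (iv F48193) D15724 (iv D10846)
def n15725 : Q := act 8 n10815
theorem D15725 : act 8 n10815 = n15725 := rfl
theorem F68696 : act 1 n15725 = n11073 := d15_1 D15725 (iv D11073) (iv F48190)
theorem F68698 : act 5 n15725 = n10924 := d37_1 D15725 (iv D10924) (iv F48192)
theorem F68699 : act 6 n15725 = n10816 := d40_1 D15725 (iv D10816) D10815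
def n15726 : Q := act 3 n10816
theorem D15726 : act 3 n10816 = n15726 := rfl
def n15727 : Q := act 9 n10816
theorem D15727 : act 9 n10816 = n15727 := rfl
def n15728 : Q := act 4 n10817
theorem D15728 : act 4 n10817 = n15728 := rfl
theorem F68708 : act 6 n15728 = n10927 := d31_2 (iv F48198) D15728 (iv D10927)
def n15729 : Q := act 9 n10817
theorem D15729 : act 9 n10817 = n15729 := rfl
theorem F68711 : act 6 n15729 = n10928 := d41_1 D15729 (iv D10928) (iv F48198)
def n15730 : Q := act 5 n10819
theorem D15730 : act 5 n10819 = n15730 := rfl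
theorem F68713 : act 4 n15730 = n10929 := d30_1 D15730 (iv D10929) F34257 (iv F33953) (iv F48205)
theorem F68715 : act 9 n15730 = n10852 := d38_2 (iv F48206) D15730 (iv D10852)
def n15731 : Q := act 7 n10819
theorem D15731 : act 7 n10819 = n15731 := rfl
theorem F68717 : act 4 n15731 = n10821 := d32_1 D15731 (iv D10821) (iv F48205)
def n15732 : Q := act 8 n10819
theorem D15732 : act 8 n10819 = n15732 := rfl
theorem F68720 : act 4 n15732 = n10822 := d33_1 D15732 (iv D10822) (iv F48205)
def n15733 : Q := act 3 n10820
theorem D15733 : act 3 n10820 = n15733 := rfl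
def n15734 : Q := act 9 n10820
theorem D15734 : act 9 n10820 = n15734 := rfl
theorem F68724 : act 1 n15734 = n10828 := d16_1 D15734 (iv D10828) (iv F48207)
theorem F68725 : act 4 n15734 = n10823 := d34_1 D15734 (iv D10823) (iv F48208)
theorem F68727 : act 8 n15734 = n10856 := d44_1 D15734 (iv D10856) (iv D7477) (iv F33950) D10820
def n15735 : Q := act 8 n10821
theorem D15735 : act 8 n10821 = n15735 := rfl
theorem F68729 : act 5 n15735 = n10934 := d37_1 D15735 (iv D10934) (iv F48212)
theorem F68730 : act 7 n15735 = n10822 := d42_1 D15735 (iv D10822) D10821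
def n15737 : Q := act 7 n10824
theorem D15737 : act 7 n10824 = n15737 := rfl
theorem F68738 : act 5 n15737 = n10825 := d36_1 D15737 (iv D10825) D10824
theorem F68739 : act 9 n15737 = n10859 := d43_2 (iv F48224) D15737 (iv D10859)
def n15738 : Q := act 8 n10824
theorem D15738 : act 8 n10824 = n15738 := rfl
theorem F68741 : act 2 n15738 = n11086 := d22_1 D15738 (iv D11086) (iv F48221)
theorem F68742 : act 4 n15738 = n10937 := d33_1 D15738 (iv D10937) (iv F48222)
theorem F68743 : act 5 n15738 = n10826 := d37_1 D15738 (iv D10826) D10824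
def n15739 : Q := act 8 n10825
theorem D15739 : act 8 n10825 = n15739 := rfl
theorem F68747 : act 4 n15739 = n10829 := d33_1 D15739 (iv D10829) (iv F48227)
def n15740 : Q := act 3 n10826
theorem D15740 : act 3 n10826 = n15740 := rfl
theorem F68750 : act 6 n15740 = n10827 := d26_2 (iv F48232) D15740 (iv D10827)
def n15741 : Q := act 9 n10826
theorem D15741 : act 9 n10826 = n15741 := rfl
theorem F68752 : act 2 n15741 = n11089 := d23_1 D15741 (iv D11089) (iv F48230)
def n15745 : Q := act 4 n10831
theorem D15745 : act 4 n10831 = n15745 := rfl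
theorem F68767 : act 0 n15745 = n11093 := d3_1 D15745 (iv D11093) (iv F48249)
theorem F68768 : act 1 n15745 = n10833 := d11_1 D15745 (iv D10833) (iv F48250)
theorem F68770 : act 5 n15745 = n15745 := d30_2 D10831 D15745 (iv D15745) (iv D10831) F33987
def n15746 : Q := act 6 n10831
theorem D15746 : act 6 n10831 = n15746 := rfl
theorem F68771 : act 0 n15746 = n11094 := d5_1 D15746 (iv D11094) (iv F48249)
theorem F68772 : act 1 n15746 = n10834 := d13_1 D15746 (iv D10834) (iv F48250)
theorem F68774 : act 5 n15746 = n10945 := d35_1 D15746 (iv D10945) (iv D7540) (iv F33988) D10831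
def n15747 : Q := act 8 n10831
theorem D15747 : act 8 n10831 = n15747 := rfl
theorem F68775 : act 0 n15747 = n11095 := d7_1 D15747 (iv D11095) (iv F48249)
theorem F68776 : act 1 n15747 = n10835 := d15_1 D15747 (iv D10835) (iv F48250)
def n15748 : Q := act 3 n10832
theorem D15748 : act 3 n10832 = n15748 := rfl
theorem F68781 : act 6 n15748 = n10947 := d26_2 (iv F48256) D15748 (iv D10947)
def n15750 : Q := act 3 n10833
theorem D15750 : act 3 n10833 = n15750 := rfl
theorem F68787 : act 0 n15750 = n10843 := d2_1 D15750 (iv D10843) (iv F48257)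
theorem F68788 : act 5 n15750 = n15750 := d25_2 F48259 D15750 (iv D15750)
def n15751 : Q := act 6 n10833
theorem D15751 : act 6 n10833 = n15751 := rfl
theorem F68790 : act 2 n15751 = n10838 := d20_1 D15751 (iv D10838) (iv F48258)
theorem F68791 : act 4 n15751 = n10834 := d31_1 D15751 (iv D10834) D10833
def n15752 : Q := act 8 n10833
theorem D15752 : act 8 n10833 = n15752 := rfl
theorem F68792 : act 0 n15752 = n10845 := d7_1 D15752 (iv D10845) (iv F48257)
theorem F68793 : act 2 n15752 = n10839 := d22_1 D15752 (iv D10839) (iv F48258)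
theorem F68794 : act 4 n15752 = n10835 := d33_1 D15752 (iv D10835) D10833
theorem F68795 : act 5 n15752 = n15752 := d37_1 D15752 (iv D15752) F48259
def n15753 : Q := act 7 n10834
theorem D15753 : act 7 n10834 = n15753 := rfl
theorem F68796 : act 0 n15753 = n10846 := d6_1 D15753 (iv D10846) (iv F48260)
theorem F68797 : act 2 n15753 = n10840 := d21_1 D15753 (iv D10840) (iv F48261)
theorem F68798 : act 5 n15753 = n10952 := d36_1 D15753 (iv D10952) (iv F48262)
def n15754 : Q := act 8 n10834
theorem D15754 : act 8 n10834 = n15754 := rfl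
theorem F68799 : act 0 n15754 = n10847 := d7_1 D15754 (iv D10847) (iv F48260)
theorem F68800 : act 2 n15754 = n10841 := d22_1 D15754 (iv D10841) (iv F48261)
theorem F68801 : act 5 n15754 = n10953 := d37_1 D15754 (iv D10953) (iv F48262)
theorem F68802 : act 6 n15754 = n10835 := d40_1 D15754 (iv D10835) D10834
def n15755 : Q := act 3 n10835
theorem D15755 : act 3 n10835 = n15755 := rfl
def n15756 : Q := act 9 n10835
theorem D15756 : act 9 n10835 = n15756 := rfl
def n15757 : Q := act 4 n10836
theorem D15757 : act 4 n10836 = n15757 := rfl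
theorem F68812 : act 6 n15757 = n10956 := d31_2 (iv F48268) D15757 (iv D10956)
def n15758 : Q := act 9 n10836
theorem D15758 : act 9 n10836 = n15758 := rfl
theorem F68815 : act 3 n15758 = n10837 := d29_1 D15758 (iv D10837) D10836
theorem F68816 : act 6 n15758 = n10957 := d41_1 D15758 (iv D10957) (iv F48268)
def n15759 : Q := act 5 n10838
theorem D15759 : act 5 n10838 = n15759 := rfl
theorem F68819 : act 4 n15759 = n10958 := d30_1 D15759 (iv D10958) F34335 (iv F34001) (iv F48275)
def n15761 : Q := act 8 n10838
theorem D15761 : act 8 n10838 = n15761 := rfl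
theorem F68826 : act 4 n15761 = n10841 := d33_1 D15761 (iv D10841) (iv F48275)
theorem F68827 : act 6 n15761 = n10839 := d40_1 D15761 (iv D10839) D10838
def n15762 : Q := act 3 n10839
theorem D15762 : act 3 n10839 = n15762 := rfl
def n15763 : Q := act 9 n10839
theorem D15763 : act 9 n10839 = n15763 := rfl
theorem F68832 : act 0 n15763 = n10856 := d8_1 D15763 (iv D10856) (iv F48276)
def n15764 : Q := act 8 n10840
theorem D15764 : act 8 n10840 = n15764 := rfl
theorem F68840 : act 7 n15764 = n10841 := d42_1 D15764 (iv D10841) D10840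
def n15765 : Q := act 9 n10841
theorem D15765 : act 9 n10841 = n15765 := rfl
theorem F68841 : act 0 n15765 = n10858 := d8_1 D15765 (iv D10858) (iv F48284)
theorem F68842 : act 1 n15765 = n12113 := d16_1 D15765 (iv D12113) (iv F48285)
def n15766 : Q := act 6 n10843
theorem D15766 : act 6 n10843 = n15766 := rfl
theorem F68846 : act 1 n15766 = n11114 := d13_1 D15766 (iv D11114) (iv F48293)
theorem F68847 : act 3 n15766 = n10844 := d26_1 D15766 (iv D10844) D10843
def n15767 : Q := act 8 n10843
theorem D15767 : act 8 n10843 = n15767 := rfl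
theorem F68848 : act 1 n15767 = n11115 := d15_1 D15767 (iv D11115) (iv F48293)
theorem F68849 : act 5 n15767 = n15767 := d37_1 D15767 (iv D15767) F48294
def n15768 : Q := act 5 n10844
theorem D15768 : act 5 n10844 = n15768 := rfl
theorem F68850 : act 1 n15768 = n11116 := d12_1 D15768 (iv D11116) (iv F48295)
theorem F68851 : act 2 n15768 = n10852 := d19_1 D15768 (iv D10852) (iv F48296)
theorem F68852 : act 4 n15768 = n10967 := d30_1 D15768 (iv D10967) F34360 (iv F34020) (iv F48297)
def n15769 : Q := act 7 n10844
theorem D15769 : act 7 n10844 = n15769 := rfl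
theorem F68855 : act 2 n15769 = n10853 := d21_1 D15769 (iv D10853) (iv F48296)
theorem F68856 : act 4 n15769 = n10846 := d32_1 D15769 (iv D10846) (iv F48297)
def n15770 : Q := act 8 n10844
theorem D15770 : act 8 n10844 = n15770 := rfl
theorem F68857 : act 1 n15770 = n11118 := d15_1 D15770 (iv D11118) (iv F48295)
theorem F68859 : act 4 n15770 = n10847 := d33_1 D15770 (iv D10847) (iv F48297)
theorem F68860 : act 6 n15770 = n10845 := d40_1 D15770 (iv D10845) D10844
def n15771 : Q := act 3 n10845
theorem D15771 : act 3 n10845 = n15771 := rfl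
theorem F68861 : act 1 n15771 = n11119 := d10_1 D15771 (iv D11119) (iv F48298)
def n15772 : Q := act 9 n10845
theorem D15772 : act 9 n10845 = n15772 := rfl
theorem F68863 : act 1 n15772 = n11120 := d16_1 D15772 (iv D11120) (iv F48298)
theorem F68864 : act 2 n15772 = n10856 := d23_1 D15772 (iv D10856) (iv F48299)
theorem F68865 : act 4 n15772 = n10849 := d34_1 D15772 (iv D10849) (iv F48300)
def n15773 : Q := act 8 n10846
theorem D15773 : act 8 n10846 = n15773 := rfl
theorem F68867 : act 1 n15773 = n11121 := d15_1 D15773 (iv D11121) (iv F48302)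
theorem F68869 : act 5 n15773 = n10972 := d37_1 D15773 (iv D10972) (iv F48304)
def n15774 : Q := act 3 n10847
theorem D15774 : act 3 n10847 = n15774 := rfl
theorem F68871 : act 1 n15774 = n11122 := d10_1 D15774 (iv D11122) (iv F48305)
theorem F68872 : act 2 n15774 = n15774 := d17_1 D15774 (iv D15774) F48306 F34040 (iv F48306)
theorem F68873 : act 5 n15774 = n10973 := d25_2 (iv F48307) D15774 (iv D10973)
theorem F68874 : act 6 n15774 = n10848 := d26_2 (iv F48308) D15774 (iv D10848)
def n15775 : Q := act 9 n10847
theorem D15775 : act 9 n10847 = n15775 := rfl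
theorem F68876 : act 2 n15775 = n10858 := d23_1 D15775 (iv D10858) (iv F48306)
theorem F68877 : act 5 n15775 = n10974 := d38_1 D15775 (iv D10974) (iv F48307)
def n15776 : Q := act 4 n10848
theorem D15776 : act 4 n10848 = n15776 := rfl
theorem F68879 : act 1 n15776 = n11124 := d11_1 D15776 (iv D11124) (iv F48309)
theorem F68880 : act 2 n15776 = n15776 := d18_1 D15776 (iv D15776) F48310
def n15777 : Q := act 9 n10848
theorem D15777 : act 9 n10848 = n15777 := rfl
theorem F68881 : act 1 n15777 = n11125 := d16_1 D15777 (iv D11125) (iv F48309)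
theorem F68883 : act 3 n15777 = n10849 := d29_1 D15777 (iv D10849) D10848
def n15778 : Q := act 5 n10850
theorem D15778 : act 5 n10850 = n15778 := rfl
theorem F68885 : act 1 n15778 = n11126 := d12_1 D15778 (iv D11126) (iv F48315)
theorem F68886 : act 2 n15778 = n15778 := d19_1 D15778 (iv D15778) F48316
theorem F68887 : act 3 n15778 = n15778 := d25_1 D15778 (iv D15778) F48317
def n15779 : Q := act 9 n10850
theorem D15779 : act 9 n10850 = n15779 := rfl
theorem F68891 : act 4 n15779 = n10851 := d34_1 D15779 (iv D10851) D10850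
theorem F68892 : act 6 n15779 = n10978 := d41_1 D15779 (iv D10978) (iv F48318)
def n15780 : Q := act 8 n10851
theorem D15780 : act 8 n10851 = n15780 := rfl
theorem F68895 : act 6 n15780 = n10979 := d40_1 D15780 (iv D10979) (iv F48322)
def n15781 : Q := act 7 n10852
theorem D15781 : act 7 n10852 = n15781 := rfl
theorem F68897 : act 4 n15781 = n10980 := d32_1 D15781 (iv D10980) (iv F48324)
theorem F68898 : act 5 n15781 = n10853 := d36_1 D15781 (iv D10853) D10852
def n15782 : Q := act 8 n10852
theorem D15782 : act 8 n10852 = n15782 := rfl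
theorem F68899 : act 1 n15782 = n10860 := d15_1 D15782 (iv D10860) (iv F48323)
theorem F68900 : act 4 n15782 = n10981 := d33_1 D15782 (iv D10981) (iv F48324)
theorem F68901 : act 5 n15782 = n10854 := d37_1 D15782 (iv D10854) D10852
def n15783 : Q := act 8 n10853
theorem D15783 : act 8 n10853 = n15783 := rfl
theorem F68903 : act 1 n15783 = n10861 := d15_1 D15783 (iv D10861) (iv F48326)
theorem F68904 : act 4 n15783 = n10857 := d33_1 D15783 (iv D10857) (iv F48327)
def n15784 : Q := act 3 n10854
theorem D15784 : act 3 n10854 = n15784 := rfl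
def n15785 : Q := act 9 n10854
theorem D15785 : act 9 n10854 = n15785 := rfl
theorem F68911 : act 6 n15785 = n10856 := d41_1 D15785 (iv D10856) (iv F48330)
def n15787 : Q := act 9 n10855
theorem D15787 : act 9 n10855 = n15787 := rfl
theorem F68915 : act 3 n15787 = n10856 := d29_1 D15787 (iv D10856) D10855
def n15788 : Q := act 9 n10857
theorem D15788 : act 9 n10857 = n15788 := rfl
theorem F68920 : act 5 n15788 = n10987 := d38_1 D15788 (iv D10987) (iv F48339)
def n15790 : Q := act 8 n10859
theorem D15790 : act 8 n10859 = n15790 := rfl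
theorem F68929 : act 5 n15790 = n10861 := d37_1 D15790 (iv D10861) (iv F48348)
def n15791 : Q := act 3 n10860
theorem D15791 : act 3 n10860 = n15791 := rfl
def n15792 : Q := act 9 n10860
theorem D15792 : act 9 n10860 = n15792 := rfl
theorem F68935 : act 2 n15792 = n11140 := d23_1 D15792 (iv D11140) (iv F48350)
theorem F68936 : act 4 n15792 = n10991 := d34_1 D15792 (iv D10991) (iv F48351)
def n15794 : Q := act 9 n10861
theorem D15794 : act 9 n10861 = n15794 := rfl
theorem F68943 : act 2 n15794 = n11142 := d23_1 D15794 (iv D11142) (iv F48355)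
theorem F68944 : act 4 n15794 = n10866 := d34_1 D15794 (iv D10866) (iv F48356)
def n15797 : Q := act 1 n10864
theorem D15797 : act 1 n10864 = n15797 := rfl
theorem F68954 : act 3 n15797 = n11145 := d10_2 (iv F48366) D15797 (iv D11145)
def n15798 : Q := act 9 n10864
theorem D15798 : act 9 n10864 = n15798 := rfl
theorem F68959 : act 3 n15798 = n11146 := d29_1 D15798 (iv D11146) (iv F48366)
def n15800 : Q := act 1 n10867
theorem D15800 : act 1 n10867 = n15800 := rfl
theorem F68968 : act 4 n15800 = n10883 := d11_2 (iv F48380) D15800 (iv D10883)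
def n15802 : Q := act 8 n10867
theorem D15802 : act 8 n10867 = n15802 := rfl
theorem F68978 : act 4 n15802 = n10885 := d33_1 D15802 (iv D10885) (iv F48380)
def n15812 : Q := act 9 n10872
theorem D15812 : act 9 n10872 = n15812 := rfl
theorem F69027 : act 4 n15812 = n10895 := d34_1 D15812 (iv D10895) (iv F48406)
def n15821 : Q := act 3 n10879
theorem D15821 : act 3 n10879 = n15821 := rfl
theorem F69067 : act 5 n15821 = n10904 := d25_2 (iv F48439) D15821 (iv D10904)
def n15822 : Q := act 9 n10879
theorem D15822 : act 9 n10879 = n15822 := rfl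
theorem F69072 : act 4 n15822 = n10882 := d34_1 D15822 (iv D10882) (iv F48438)
def n15825 : Q := act 5 n10883
theorem D15825 : act 5 n10883 = n15825 := rfl
theorem F69087 : act 1 n15825 = n10884 := d12_1 D15825 (iv D10884) D10883
def n15826 : Q := act 8 n10883
theorem D15826 : act 8 n10883 = n15826 := rfl
theorem F69092 : act 1 n15826 = n10885 := d15_1 D15826 (iv D10885) D10883
theorem F69093 : act 2 n15826 = n12190 := d22_1 D15826 (iv D12190) (iv F48457)
def n15827 : Q := act 4 n10884
theorem D15827 : act 4 n10884 = n15827 := rfl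
theorem F69096 : act 2 n15827 = n10886 := d18_1 D15827 (iv D10886) (iv F48461)
def n15828 : Q := act 6 n10884
theorem D15828 : act 6 n10884 = n15828 := rfl
theorem F69100 : act 2 n15828 = n10887 := d20_1 D15828 (iv D10887) (iv F48461)
def n15829 : Q := act 8 n10884
theorem D15829 : act 8 n10884 = n15829 := rfl
theorem F69104 : act 5 n15829 = n10885 := d37_1 D15829 (iv D10885) D10884
def n15830 : Q := act 3 n10885
theorem D15830 : act 3 n10885 = n15830 := rfl
theorem F69106 : act 0 n15830 = n10894 := d2_1 D15830 (iv D10894) (iv F48464)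
theorem F69107 : act 2 n15830 = n10913 := d17_1 D15830 (iv D10913) F34209 (iv F34141) (iv F48465)
def n15831 : Q := act 9 n10885
theorem D15831 : act 9 n10885 = n15831 := rfl
def n15832 : Q := act 6 n10886
theorem D15832 : act 6 n10886 = n15832 := rfl
theorem F69116 : act 4 n15832 = n10887 := d31_1 D15832 (iv D10887) D10886
def n15833 : Q := act 8 n10886
theorem D15833 : act 8 n10886 = n15833 := rfl
theorem F69118 : act 0 n15833 = n10897 := d7_1 D15833 (iv D10897) (iv F48467)
theorem F69120 : act 4 n15833 = n10888 := d33_1 D15833 (iv D10888) D10886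
def n15834 : Q := act 7 n10887
theorem D15834 : act 7 n10887 = n15834 := rfl
theorem F69124 : act 3 n15834 = n10890 := d27_1 D15834 (iv D10890) (iv F48474)
def n15835 : Q := act 8 n10887
theorem D15835 : act 8 n10887 = n15835 := rfl
theorem F69130 : act 6 n15835 = n10888 := d40_1 D15835 (iv D10888) D10887
def n15836 : Q := act 9 n10888
theorem D15836 : act 9 n10888 = n15836 := rfl
theorem F69134 : act 5 n15836 = n10889 := d38_1 D15836 (iv D10889) (iv F48479)
def n15837 : Q := act 3 n10891
theorem D15837 : act 3 n10891 = n15837 := rfl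
def n15839 : Q := act 8 n10891
theorem D15839 : act 8 n10891 = n15839 := rfl
theorem F69146 : act 2 n15839 = n10897 := d22_1 D15839 (iv D10897) (iv F48493)
theorem F69147 : act 4 n15839 = n10893 := d33_1 D15839 (iv D10893) D10891
def n15840 : Q := act 7 n10892
theorem D15840 : act 7 n10892 = n15840 := rfl
def n15841 : Q := act 8 n10892
theorem D15841 : act 8 n10892 = n15841 := rfl
theorem F69155 : act 6 n15841 = n10893 := d40_1 D15841 (iv D10893) D10892
def n15842 : Q := act 3 n10893
theorem D15842 : act 3 n10893 = n15842 := rfl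
theorem F69158 : act 5 n15842 = n10894 := d25_2 (iv F48501) D15842 (iv D10894)
def n15843 : Q := act 9 n10893
theorem D15843 : act 9 n10893 = n15843 := rfl
theorem F69162 : act 5 n15843 = n10895 := d38_1 D15843 (iv D10895) (iv F48501)
def n15844 : Q := act 4 n10894
theorem D15844 : act 4 n10894 = n15844 := rfl
def n15845 : Q := act 9 n10894
theorem D15845 : act 9 n10894 = n15845 := rfl
def n15847 : Q := act 7 n10896
theorem D15847 : act 7 n10896 = n15847 := rfl
theorem F69175 : act 1 n15847 = n10902 := d14_1 D15847 (iv D10902) (iv F48510)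
theorem F69177 : act 4 n15847 = n10898 := d32_1 D15847 (iv D10898) (iv F48512)
def n15848 : Q := act 8 n10896
theorem D15848 : act 8 n10896 = n15848 := rfl
theorem F69182 : act 6 n15848 = n10897 := d40_1 D15848 (iv D10897) D10896
def n15849 : Q := act 3 n10897
theorem D15849 : act 3 n10897 = n15849 := rfl
theorem F69183 : act 1 n15849 = n10904 := d10_1 D15849 (iv D10904) (iv F48514)
theorem F69184 : act 4 n15849 = n10932 := d24_2 (iv F48515) D15849 (iv D10932) F34260 (iv F34163)
def n15850 : Q := act 9 n10897
theorem D15850 : act 9 n10897 = n15850 := rfl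
theorem F69188 : act 4 n15850 = n10900 := d34_1 D15850 (iv D10900) (iv F48515)
def n15851 : Q := act 8 n10898
theorem D15851 : act 8 n10898 = n15851 := rfl
def n15852 : Q := act 9 n10899
theorem D15852 : act 9 n10899 = n15852 := rfl
theorem F69197 : act 6 n15852 = n10900 := d41_1 D15852 (iv D10900) (iv F48523)
def n15854 : Q := act 8 n10901
theorem D15854 : act 8 n10901 = n15854 := rfl
theorem F69206 : act 5 n15854 = n10903 := d37_1 D15854 (iv D10903) D10901
def n15855 : Q := act 8 n10902
theorem D15855 : act 8 n10902 = n15855 := rfl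
theorem F69209 : act 4 n15855 = n10906 := d33_1 D15855 (iv D10906) (iv F48536)
def n15856 : Q := act 3 n10903
theorem D15856 : act 3 n10903 = n15856 := rfl
theorem F69214 : act 6 n15856 = n10904 := d26_2 (iv F48542) D15856 (iv D10904)
def n15857 : Q := act 9 n10903
theorem D15857 : act 9 n10903 = n15857 := rfl
theorem F69218 : act 4 n15857 = n10907 := d34_1 D15857 (iv D10907) (iv F48541)
def n15858 : Q := act 2 n10904
theorem D15858 : act 2 n10904 = n15858 := rfl
theorem F69221 : act 0 n15858 = n12222 := d1_1 D15858 (iv D12222) (iv F48543)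
theorem F69223 : act 4 n15858 = n10941 := d18_2 (iv F48544) D15858 (iv D10941)
def n15859 : Q := act 9 n10904
theorem D15859 : act 9 n10904 = n15859 := rfl
theorem F69227 : act 3 n15859 = n10905 := d29_1 D15859 (iv D10905) D10904
theorem F69228 : act 4 n15859 = n10942 := d34_1 D15859 (iv D10942) (iv F48544)
def n15861 : Q := act 4 n10908
theorem D15861 : act 4 n10908 = n15861 := rfl
theorem F69241 : act 9 n15861 = n10944 := d34_2 (iv F48566) D15861 (iv D10944)
def n15862 : Q := act 6 n10908
theorem D15862 : act 6 n10908 = n15862 := rfl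
theorem F69242 : act 0 n15862 = n11149 := d5_1 D15862 (iv D11149) (iv F48562)
theorem F69243 : act 1 n15862 = n10911 := d13_1 D15862 (iv D10911) (iv F48563)
theorem F69245 : act 9 n15862 = n10945 := d41_2 (iv F48566) D15862 (iv D10945)
def n15863 : Q := act 8 n10908
theorem D15863 : act 8 n10908 = n15863 := rfl
theorem F69249 : act 5 n15863 = n10909 := d37_1 D15863 (iv D10909) D10908
def n15864 : Q := act 3 n10909
theorem D15864 : act 3 n10909 = n15864 := rfl
theorem F69252 : act 1 n15864 = n10913 := d10_1 D15864 (iv D10913) (iv F48568)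
def n15866 : Q := act 3 n10910
theorem D15866 : act 3 n10910 = n15866 := rfl
theorem F69260 : act 0 n15866 = n10920 := d2_1 D15866 (iv D10920) (iv F48572)
theorem F69264 : act 9 n15866 = n10949 := d29_2 (iv F48576) D15866 (iv D10949)
def n15867 : Q := act 6 n10910
theorem D15867 : act 6 n10910 = n15867 := rfl
theorem F69265 : act 0 n15867 = n10921 := d5_1 D15867 (iv D10921) (iv F48572)
theorem F69267 : act 4 n15867 = n10911 := d31_1 D15867 (iv D10911) D10910
theorem F69268 : act 9 n15867 = n10950 := d41_2 (iv F48576) D15867 (iv D10950)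
def n15868 : Q := act 8 n10910
theorem D15868 : act 8 n10910 = n15868 := rfl
theorem F69270 : act 2 n15868 = n10916 := d22_1 D15868 (iv D10916) (iv F48573)
theorem F69271 : act 4 n15868 = n10912 := d33_1 D15868 (iv D10912) D10910
def n15869 : Q := act 7 n10911
theorem D15869 : act 7 n10911 = n15869 := rfl
theorem F69274 : act 0 n15869 = n10923 := d6_1 D15869 (iv D10923) (iv F48577)
theorem F69275 : act 2 n15869 = n10917 := d21_1 D15869 (iv D10917) (iv F48578)
theorem F69277 : act 9 n15869 = n10952 := d43_2 (iv F48579) D15869 (iv D10952)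
def n15870 : Q := act 8 n10911
theorem D15870 : act 8 n10911 = n15870 := rfl
def n15871 : Q := act 3 n10912
theorem D15871 : act 3 n10912 = n15871 := rfl
theorem F69282 : act 5 n15871 = n10913 := d25_2 (iv F48582) D15871 (iv D10913)
def n15872 : Q := act 9 n10912
theorem D15872 : act 9 n10912 = n15872 := rfl
theorem F69286 : act 5 n15872 = n10914 := d38_1 D15872 (iv D10914) (iv F48582)
theorem F69288 : act 8 n15872 = n10955 := d44_1 D15872 (iv D10955) (iv D7544) (iv F34207) D10912
def n15873 : Q := act 4 n10913
theorem D15873 : act 4 n10913 = n15873 := rfl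
theorem F69289 : act 0 n15873 = n10927 := d3_1 D15873 (iv D10927) (iv F48584)
def n15874 : Q := act 9 n10913
theorem D15874 : act 9 n10913 = n15874 := rfl
theorem F69293 : act 3 n15874 = n10914 := d29_1 D15874 (iv D10914) D10913
def n15876 : Q := act 7 n10915
theorem D15876 : act 7 n10915 = n15876 := rfl
theorem F69300 : act 0 n15876 = n10930 := d6_1 D15876 (iv D10930) (iv F48591)
theorem F69303 : act 4 n15876 = n10917 := d32_1 D15876 (iv D10917) (iv F48594)
theorem F69305 : act 9 n15876 = n10959 := d43_2 (iv F48595) D15876 (iv D10959)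
def n15877 : Q := act 8 n10915
theorem D15877 : act 8 n10915 = n15877 := rfl
theorem F69308 : act 4 n15877 = n10918 := d33_1 D15877 (iv D10918) (iv F48594)
theorem F69309 : act 6 n15877 = n10916 := d40_1 D15877 (iv D10916) D10915
def n15878 : Q := act 3 n10916
theorem D15878 : act 3 n10916 = n15878 := rfl
theorem F69310 : act 0 n15878 = n10932 := d2_1 D15878 (iv D10932) (iv F48596)
def n15879 : Q := act 9 n10916
theorem D15879 : act 9 n10916 = n15879 := rfl
theorem F69317 : act 4 n15879 = n10919 := d34_1 D15879 (iv D10919) (iv F48598)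
theorem F69320 : act 8 n15879 = n10962 := d44_1 D15879 (iv D10962) (iv D7548) (iv F34217) D10916
def n15880 : Q := act 8 n10917
theorem D15880 : act 8 n10917 = n15880 := rfl
def n15881 : Q := act 9 n10918
theorem D15881 : act 9 n10918 = n15881 := rfl
theorem F69325 : act 0 n15881 = n10935 := d8_1 D15881 (iv D10935) (iv F48606)
theorem F69326 : act 1 n15881 = n12245 := d16_1 D15881 (iv D12245) (iv F48607)
def n15882 : Q := act 6 n10920
theorem D15882 : act 6 n10920 = n15882 := rfl
theorem F69329 : act 1 n15882 = n11169 := d13_1 D15882 (iv D11169) (iv F48614)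
theorem F69330 : act 2 n15882 = n15882 := d20_1 D15882 (iv D15882) F48615
theorem F69331 : act 3 n15882 = n10921 := d26_1 D15882 (iv D10921) D10920
theorem F69332 : act 9 n15882 = n10965 := d41_2 (iv F48618) D15882 (iv D10965)
def n15883 : Q := act 8 n10920
theorem D15883 : act 8 n10920 = n15883 := rfl
theorem F69333 : act 1 n15883 = n11170 := d15_1 D15883 (iv D11170) (iv F48614)
theorem F69334 : act 2 n15883 = n15883 := d22_1 D15883 (iv D15883) F48615
theorem F69335 : act 5 n15883 = n15883 := d37_1 D15883 (iv D15883) F48616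
theorem F69336 : act 7 n15883 = n15883 := d42_1 D15883 (iv D15883) F48617
def n15884 : Q := act 5 n10921
theorem D15884 : act 5 n10921 = n15884 := rfl
theorem F69337 : act 1 n15884 = n11171 := d12_1 D15884 (iv D11171) (iv F48619)
theorem F69338 : act 2 n15884 = n10929 := d19_1 D15884 (iv D10929) (iv F48620)
theorem F69339 : act 6 n15884 = n15884 := d35_2 D10921 D15884 (iv D15884) (iv D10921) F34238
theorem F69340 : act 9 n15884 = n10967 := d38_2 (iv F48622) D15884 (iv D10967)
def n15885 : Q := act 7 n10921
theorem D15885 : act 7 n10921 = n15885 := rfl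
theorem F69341 : act 1 n15885 = n11172 := d14_1 D15885 (iv D11172) (iv F48619)
theorem F69342 : act 2 n15885 = n10930 := d21_1 D15885 (iv D10930) (iv F48620)
theorem F69343 : act 4 n15885 = n10923 := d32_1 D15885 (iv D10923) (iv F48621)
theorem F69344 : act 6 n15885 = n15885 := d39_1 D15885 (iv D15885) (iv D10921) F34239 D10921
theorem F69345 : act 9 n15885 = n10968 := d43_2 (iv F48622) D15885 (iv D10968)
def n15886 : Q := act 8 n10921
theorem D15886 : act 8 n10921 = n15886 := rfl
theorem F69346 : act 1 n15886 = n11173 := d15_1 D15886 (iv D11173) (iv F48619)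
theorem F69348 : act 4 n15886 = n10924 := d33_1 D15886 (iv D10924) (iv F48621)
theorem F69349 : act 6 n15886 = n10922 := d40_1 D15886 (iv D10922) D10921
def n15887 : Q := act 3 n10922
theorem D15887 : act 3 n10922 = n15887 := rfl
theorem F69350 : act 1 n15887 = n11174 := d10_1 D15887 (iv D11174) (iv F48623)
def n15888 : Q := act 9 n10922
theorem D15888 : act 9 n10922 = n15888 := rfl
theorem F69354 : act 2 n15888 = n10933 := d23_1 D15888 (iv D10933) (iv F48624)
theorem F69355 : act 4 n15888 = n10926 := d34_1 D15888 (iv D10926) (iv F48625)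
def n15889 : Q := act 8 n10923
theorem D15889 : act 8 n10923 = n15889 := rfl
theorem F69362 : act 7 n15889 = n10924 := d42_1 D15889 (iv D10924) D10923
def n15890 : Q := act 3 n10924
theorem D15890 : act 3 n10924 = n15890 := rfl
theorem F69364 : act 6 n15890 = n10925 := d26_2 (iv F48634) D15890 (iv D10925)
def n15891 : Q := act 9 n10924
theorem D15891 : act 9 n10924 = n15891 := rfl
def n15892 : Q := act 4 n10925
theorem D15892 : act 4 n10925 = n15892 := rfl
def n15893 : Q := act 9 n10925
theorem D15893 : act 9 n10925 = n15893 := rfl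
theorem F69372 : act 3 n15893 = n10926 := d29_1 D15893 (iv D10926) D10925
theorem F69373 : act 5 n15893 = n10928 := d38_1 D15893 (iv D10928) (iv F48636)
def n15894 : Q := act 5 n10927
theorem D15894 : act 5 n10927 = n15894 := rfl
def n15895 : Q := act 9 n10927
theorem D15895 : act 9 n10927 = n15895 := rfl
def n15897 : Q := act 7 n10929
theorem D15897 : act 7 n10929 = n15897 := rfl
theorem F69387 : act 5 n15897 = n10930 := d36_1 D15897 (iv D10930) D10929
def n15898 : Q := act 8 n10929
theorem D15898 : act 8 n10929 = n15898 := rfl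
theorem F69390 : act 5 n15898 = n10931 := d37_1 D15898 (iv D10931) D10929
def n15899 : Q := act 8 n10930
theorem D15899 : act 8 n10930 = n15899 := rfl
theorem F69393 : act 4 n15899 = n10934 := d33_1 D15899 (iv D10934) (iv F48655)
theorem F69395 : act 7 n15899 = n10931 := d42_1 D15899 (iv D10931) D10930
def n15900 : Q := act 3 n10931
theorem D15900 : act 3 n10931 = n15900 := rfl
theorem F69397 : act 6 n15900 = n10932 := d26_2 (iv F48660) D15900 (iv D10932)
def n15901 : Q := act 9 n10931
theorem D15901 : act 9 n10931 = n15901 := rfl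
theorem F69400 : act 4 n15901 = n10935 := d34_1 D15901 (iv D10935) (iv F48659)
def n15902 : Q := act 2 n10932
theorem D15902 : act 2 n10932 = n15902 := rfl
def n15903 : Q := act 9 n10932
theorem D15903 : act 9 n10932 = n15903 := rfl
theorem F69407 : act 3 n15903 = n10933 := d29_1 D15903 (iv D10933) D10932
def n15904 : Q := act 9 n10934
theorem D15904 : act 9 n10934 = n15904 := rfl
theorem F69413 : act 8 n15904 = n10987 := d44_1 D15904 (iv D10987) (iv D7566) (iv F34266) D10934
def n15906 : Q := act 8 n10936
theorem D15906 : act 8 n10936 = n15906 := rfl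
theorem F69422 : act 5 n15906 = n10938 := d37_1 D15906 (iv D10938) (iv F48679)
def n15907 : Q := act 3 n10937
theorem D15907 : act 3 n10937 = n15907 := rfl
theorem F69425 : act 5 n15907 = n10939 := d25_2 (iv F48683) D15907 (iv D10939)
def n15908 : Q := act 9 n10937
theorem D15908 : act 9 n10937 = n15908 := rfl
theorem F69429 : act 2 n15908 = n11195 := d23_1 D15908 (iv D11195) (iv F48682)
def n15909 : Q := act 3 n10938
theorem D15909 : act 3 n10938 = n15909 := rfl
theorem F69435 : act 7 n15909 = n10939 := d27_2 (iv F48689) D15909 (iv D10939)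
def n15911 : Q := act 2 n10939
theorem D15911 : act 2 n10939 = n15911 := rfl
theorem F69445 : act 6 n15911 = n10941 := d20_2 (iv F48691) D15911 (iv D10941)
def n15912 : Q := act 9 n10939
theorem D15912 : act 9 n10939 = n15912 := rfl
theorem F69449 : act 6 n15912 = n10942 := d41_1 D15912 (iv D10942) (iv F48691)
def n15913 : Q := act 1 n10941
theorem D15913 : act 1 n10941 = n15913 := rfl
theorem F69450 : act 3 n15913 = n11200 := d10_2 (iv F48699) D15913 (iv D11200)
def n15914 : Q := act 9 n10941
theorem D15914 : act 9 n10941 = n15914 := rfl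
theorem F69456 : act 3 n15914 = n11201 := d29_1 D15914 (iv D11201) (iv F48699)
theorem F69457 : act 5 n15914 = n15914 := d38_1 D15914 (iv D15914) F48700
def n15915 : Q := act 8 n10942
theorem D15915 : act 8 n10942 = n15915 := rfl
def n15916 : Q := act 3 n10944
theorem D15916 : act 3 n10944 = n15916 := rfl
theorem F69464 : act 0 n15916 = n11202 := d2_1 D15916 (iv D11202) (iv F48712)
theorem F69465 : act 1 n15916 = n10949 := d10_1 D15916 (iv D10949) (iv F48713)
theorem F69466 : act 5 n15916 = n15916 := d25_2 F48715 D15916 (iv D15916)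
theorem F69467 : act 7 n15916 = n15916 := d27_2 F48716 D15916 (iv D15916)
def n15917 : Q := act 6 n10944
theorem D15917 : act 6 n10944 = n15917 := rfl
theorem F69468 : act 0 n15917 = n11203 := d5_1 D15917 (iv D11203) (iv F48712)
theorem F69469 : act 1 n15917 = n10950 := d13_1 D15917 (iv D10950) (iv F48713)
theorem F69471 : act 4 n15917 = n10945 := d31_1 D15917 (iv D10945) D10944
def n15918 : Q := act 8 n10944
theorem D15918 : act 8 n10944 = n15918 := rfl
theorem F69473 : act 1 n15918 = n10951 := d15_1 D15918 (iv D10951) (iv F48713)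
theorem F69475 : act 4 n15918 = n10946 := d33_1 D15918 (iv D10946) D10944
def n15919 : Q := act 7 n10945
theorem D15919 : act 7 n10945 = n15919 := rfl
theorem F69478 : act 0 n15919 = n11205 := d6_1 D15919 (iv D11205) (iv F48717)
theorem F69479 : act 1 n15919 = n10952 := d14_1 D15919 (iv D10952) (iv F48718)
theorem F69481 : act 6 n15919 = n15919 := d39_1 D15919 (iv D15919) (iv D10945) F34309 D10945
def n15920 : Q := act 8 n10945
theorem D15920 : act 8 n10945 = n15920 := rfl
theorem F69483 : act 1 n15920 = n10953 := d15_1 D15920 (iv D10953) (iv F48718)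
def n15921 : Q := act 3 n10946
theorem D15921 : act 3 n10946 = n15921 := rfl
theorem F69488 : act 5 n15921 = n10947 := d25_2 (iv F48723) D15921 (iv D10947)
def n15924 : Q := act 4 n10947
theorem D15924 : act 4 n10947 = n15924 := rfl
def n15926 : Q := act 6 n10949
theorem D15926 : act 6 n10949 = n15926 := rfl
theorem F69507 : act 0 n15926 = n10965 := d5_1 D15926 (iv D10965) (iv F48733)
theorem F69508 : act 2 n15926 = n15926 := d20_1 D15926 (iv D15926) F48734
theorem F69509 : act 3 n15926 = n10950 := d26_1 D15926 (iv D10950) D10949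
def n15927 : Q := act 8 n10949
theorem D15927 : act 8 n10949 = n15927 := rfl
theorem F69510 : act 0 n15927 = n10966 := d7_1 D15927 (iv D10966) (iv F48733)
theorem F69511 : act 2 n15927 = n15927 := d22_1 D15927 (iv D15927) F48734
theorem F69512 : act 5 n15927 = n15927 := d37_1 D15927 (iv D15927) F48735
theorem F69513 : act 7 n15927 = n15927 := d42_1 D15927 (iv D15927) F48736
def n15928 : Q := act 5 n10950
theorem D15928 : act 5 n10950 = n15928 := rfl
def n15929 : Q := act 7 n10950
theorem D15929 : act 7 n10950 = n15929 := rfl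
theorem F69517 : act 0 n15929 = n10968 := d6_1 D15929 (iv D10968) (iv F48737)
theorem F69518 : act 2 n15929 = n10959 := d21_1 D15929 (iv D10959) (iv F48738)
theorem F69519 : act 4 n15929 = n10952 := d32_1 D15929 (iv D10952) (iv F48739)
def n15930 : Q := act 8 n10950
theorem D15930 : act 8 n10950 = n15930 := rfl
theorem F69521 : act 0 n15930 = n10969 := d7_1 D15930 (iv D10969) (iv F48737)
theorem F69522 : act 2 n15930 = n10960 := d22_1 D15930 (iv D10960) (iv F48738)
theorem F69523 : act 4 n15930 = n10953 := d33_1 D15930 (iv D10953) (iv F48739)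
theorem F69524 : act 6 n15930 = n10951 := d40_1 D15930 (iv D10951) D10950
def n15931 : Q := act 3 n10951
theorem D15931 : act 3 n10951 = n15931 := rfl
theorem F69525 : act 0 n15931 = n10970 := d2_1 D15931 (iv D10970) (iv F48740)
theorem F69526 : act 5 n15931 = n15931 := d25_2 F48743 D15931 (iv D15931)
theorem F69527 : act 7 n15931 = n15931 := d27_2 F48744 D15931 (iv D15931)
def n15932 : Q := act 9 n10951
theorem D15932 : act 9 n10951 = n15932 := rfl
def n15933 : Q := act 8 n10952
theorem D15933 : act 8 n10952 = n15933 := rfl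
theorem F69533 : act 0 n15933 = n10972 := d7_1 D15933 (iv D10972) (iv F48745)
theorem F69534 : act 2 n15933 = n10963 := d22_1 D15933 (iv D10963) (iv F48746)
theorem F69535 : act 6 n15933 = n15933 := d40_1 D15933 (iv D15933) F48747
theorem F69536 : act 7 n15933 = n10953 := d42_1 D15933 (iv D10953) D10952
def n15934 : Q := act 3 n10953
theorem D15934 : act 3 n10953 = n15934 := rfl
def n15935 : Q := act 9 n10953
theorem D15935 : act 9 n10953 = n15935 := rfl
def n15936 : Q := act 4 n10954
theorem D15936 : act 4 n10954 = n15936 := rfl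
def n15937 : Q := act 9 n10954
theorem D15937 : act 9 n10954 = n15937 := rfl
theorem F69548 : act 3 n15937 = n10955 := d29_1 D15937 (iv D10955) D10954
theorem F69549 : act 5 n15937 = n10957 := d38_1 D15937 (iv D10957) (iv F48753)
def n15939 : Q := act 9 n10956
theorem D15939 : act 9 n10956 = n15939 := rfl
theorem F69558 : act 4 n15939 = n10957 := d34_1 D15939 (iv D10957) D10956
def n15940 : Q := act 8 n10957
theorem D15940 : act 8 n10957 = n15940 := rfl
def n15942 : Q := act 8 n10958
theorem D15942 : act 8 n10958 = n15942 := rfl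
theorem F69567 : act 0 n15942 = n10981 := d7_1 D15942 (iv D10981) (iv F48767)
theorem F69568 : act 1 n15942 = n12306 := d15_1 D15942 (iv D12306) (iv F48768)
theorem F69569 : act 5 n15942 = n10960 := d37_1 D15942 (iv D10960) D10958
def n15943 : Q := act 8 n10959
theorem D15943 : act 8 n10959 = n15943 := rfl
theorem F69573 : act 4 n15943 = n10963 := d33_1 D15943 (iv D10963) (iv F48774)
theorem F69575 : act 7 n15943 = n10960 := d42_1 D15943 (iv D10960) D10959
def n15944 : Q := act 3 n10960
theorem D15944 : act 3 n10960 = n15944 := rfl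
theorem F69579 : act 6 n15944 = n10961 := d26_2 (iv F48779) D15944 (iv D10961)
def n15945 : Q := act 9 n10960
theorem D15945 : act 9 n10960 = n15945 := rfl
theorem F69581 : act 0 n15945 = n10984 := d8_1 D15945 (iv D10984) (iv F48776)
theorem F69583 : act 4 n15945 = n10964 := d34_1 D15945 (iv D10964) (iv F48778)
def n15946 : Q := act 2 n10961
theorem D15946 : act 2 n10961 = n15946 := rfl
theorem F69585 : act 0 n15946 = n10985 := d1_1 D15946 (iv D10985) (iv F48780)
theorem F69586 : act 4 n15946 = n15946 := d18_2 F48782 D15946 (iv D15946)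
theorem F69587 : act 5 n15946 = n15946 := d19_2 F48783 D15946 (iv D15946)
theorem F69588 : act 7 n15946 = n15946 := d21_2 F48784 D15946 (iv D15946)
theorem F69589 : act 8 n15946 = n15946 := d22_2 F48785 D15946 (iv D15946)
def n15947 : Q := act 9 n10961
theorem D15947 : act 9 n10961 = n15947 := rfl
theorem F69590 : act 0 n15947 = n10986 := d8_1 D15947 (iv D10986) (iv F48780)
theorem F69592 : act 3 n15947 = n10962 := d29_1 D15947 (iv D10962) D10961
def n15948 : Q := act 9 n10963
theorem D15948 : act 9 n10963 = n15948 := rfl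
theorem F69596 : act 0 n15948 = n10987 := d8_1 D15948 (iv D10987) (iv F48791)
def n15949 : Q := act 5 n10965
theorem D15949 : act 5 n10965 = n15949 := rfl
theorem F69601 : act 1 n15949 = n11232 := d12_1 D15949 (iv D11232) (iv F48800)
theorem F69602 : act 2 n15949 = n15949 := d19_1 D15949 (iv D15949) F48801
theorem F69603 : act 3 n15949 = n10967 := d25_1 D15949 (iv D10967) (iv F48802)
theorem F69604 : act 6 n15949 = n15949 := d35_2 D10965 D15949 (iv D15949) (iv D10965) F34356
def n15950 : Q := act 7 n10965
theorem D15950 : act 7 n10965 = n15950 := rfl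
theorem F69605 : act 1 n15950 = n11233 := d14_1 D15950 (iv D11233) (iv F48800)
theorem F69606 : act 2 n15950 = n15950 := d21_1 D15950 (iv D15950) F48801
theorem F69607 : act 3 n15950 = n10968 := d27_1 D15950 (iv D10968) (iv F48802)
theorem F69608 : act 6 n15950 = n15950 := d39_1 D15950 (iv D15950) (iv D10965) F34357 D10965
def n15951 : Q := act 8 n10965
theorem D15951 : act 8 n10965 = n15951 := rfl
theorem F69609 : act 1 n15951 = n11234 := d15_1 D15951 (iv D11234) (iv F48800)
theorem F69610 : act 2 n15951 = n15951 := d22_1 D15951 (iv D15951) F48801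
theorem F69611 : act 6 n15951 = n10966 := d40_1 D15951 (iv D10966) D10965
def n15952 : Q := act 3 n10966
theorem D15952 : act 3 n10966 = n15952 := rfl
theorem F69612 : act 1 n15952 = n11235 := d10_1 D15952 (iv D11235) (iv F48803)
theorem F69613 : act 5 n15952 = n15952 := d25_2 F48805 D15952 (iv D15952)
theorem F69614 : act 7 n15952 = n15952 := d27_2 F48806 D15952 (iv D15952)
theorem F69615 : act 8 n15952 = n10970 := d28_2 D10966 D15952 (iv D10970) (iv D7554) D7552
def n15953 : Q := act 9 n10966
theorem D15953 : act 9 n10966 = n15953 := rfl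
theorem F69616 : act 1 n15953 = n11236 := d16_1 D15953 (iv D11236) (iv F48803)
theorem F69617 : act 2 n15953 = n15953 := d23_1 D15953 (iv D15953) F48804
theorem F69618 : act 5 n15953 = n15953 := d38_1 D15953 (iv D15953) F48805
theorem F69619 : act 7 n15953 = n15953 := d43_1 D15953 (iv D15953) F48806
def n15954 : Q := act 7 n10967
theorem D15954 : act 7 n10967 = n15954 := rfl
theorem F69622 : act 5 n15954 = n10968 := d36_1 D15954 (iv D10968) D10967
def n15955 : Q := act 8 n10967
theorem D15955 : act 8 n10967 = n15955 := rfl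
theorem F69625 : act 5 n15955 = n10969 := d37_1 D15955 (iv D10969) D10967
def n15956 : Q := act 8 n10968
theorem D15956 : act 8 n10968 = n15956 := rfl
theorem F69629 : act 4 n15956 = n10972 := d33_1 D15956 (iv D10972) (iv F48812)
def n15957 : Q := act 3 n10969
theorem D15957 : act 3 n10969 = n15957 := rfl
theorem F69632 : act 1 n15957 = n11240 := d10_1 D15957 (iv D11240) (iv F48814)
theorem F69633 : act 6 n15957 = n10970 := d26_2 (iv F48817) D15957 (iv D10970)
def n15958 : Q := act 9 n10969
theorem D15958 : act 9 n10969 = n15958 := rfl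
theorem F69635 : act 2 n15958 = n10984 := d23_1 D15958 (iv D10984) (iv F48815)
def n15959 : Q := act 2 n10970
theorem D15959 : act 2 n10970 = n15959 := rfl
theorem F69638 : act 1 n15959 = n15959 := d9_1 D15959 (iv D15959) F48818 F35082 (iv F48818)
theorem F69639 : act 3 n15959 = n10985 := d17_2 D10970 D15959 (iv D10985) (iv D7564) (iv F34362)
theorem F69640 : act 5 n15959 = n15959 := d19_2 F48819 D15959 (iv D15959)
theorem F69641 : act 7 n15959 = n15959 := d21_2 F48820 D15959 (iv D15959)
def n15960 : Q := act 4 n10970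
theorem D15960 : act 4 n10970 = n15960 := rfl
theorem F69642 : act 1 n15960 = n11242 := d11_1 D15960 (iv D11242) (iv F48818)
theorem F69643 : act 3 n15960 = n10975 := d24_1 D15960 (iv D10975) (iv D7557) (iv F34363) D10970
theorem F69644 : act 7 n15960 = n15960 := d32_2 F48820 D15960 (iv D15960)
def n15961 : Q := act 9 n10970
theorem D15961 : act 9 n10970 = n15961 := rfl
theorem F69646 : act 3 n15961 = n10971 := d29_1 D15961 (iv D10971) D10970
def n15962 : Q := act 3 n10972
theorem D15962 : act 3 n10972 = n15962 := rfl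
theorem F69649 : act 1 n15962 = n11244 := d10_1 D15962 (iv D11244) (iv F48826)
theorem F69650 : act 2 n15962 = n15962 := d17_1 D15962 (iv D15962) F48827 F34408 (iv F48827)
theorem F69651 : act 6 n15962 = n15962 := d26_2 F48828 D15962 (iv D15962)
theorem F69652 : act 7 n15962 = n10973 := d27_2 (iv F48829) D15962 (iv D10973)
def n15963 : Q := act 9 n10972
theorem D15963 : act 9 n10972 = n15963 := rfl
theorem F69654 : act 2 n15963 = n10987 := d23_1 D15963 (iv D10987) (iv F48827)
def n15964 : Q := act 4 n10973
theorem D15964 : act 4 n10973 = n15964 := rfl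
theorem F69657 : act 1 n15964 = n11246 := d11_1 D15964 (iv D11246) (iv F48830)
theorem F69658 : act 2 n15964 = n15964 := d18_1 D15964 (iv D15964) F48831
theorem F69659 : act 6 n15964 = n10975 := d31_2 (iv F48832) D15964 (iv D10975)
def n15965 : Q := act 9 n10973
theorem D15965 : act 9 n10973 = n15965 := rfl
def n15966 : Q := act 5 n10975
theorem D15966 : act 5 n10975 = n15966 := rfl
theorem F69664 : act 1 n15966 = n11248 := d12_1 D15966 (iv D11248) (iv F48836)
theorem F69665 : act 2 n15966 = n15966 := d19_1 D15966 (iv D15966) F48837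
theorem F69666 : act 4 n15966 = n10977 := d30_1 D15966 (iv D10977) (iv D7559) (iv F34374) D10975
theorem F69667 : act 7 n15966 = n15966 := d36_2 F48838 D15966 (iv D15966)
def n15967 : Q := act 9 n10975
theorem D15967 : act 9 n10975 = n15967 := rfl
theorem F69670 : act 4 n15967 = n10976 := d34_1 D15967 (iv D10976) D10975
def n15968 : Q := act 8 n10976
theorem D15968 : act 8 n10976 = n15968 := rfl
theorem F69674 : act 5 n15968 = n10979 := d37_1 D15968 (iv D10979) (iv F48842)
def n15969 : Q := act 6 n10977
theorem D15969 : act 6 n10977 = n15969 := rfl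
theorem F69676 : act 1 n15969 = n11251 := d13_1 D15969 (iv D11251) (iv F48844)
theorem F69677 : act 2 n15969 = n15969 := d20_1 D15969 (iv D15969) F48845
theorem F69678 : act 3 n15969 = n15969 := d26_1 D15969 (iv D15969) F48846
def n15970 : Q := act 9 n10977
theorem D15970 : act 9 n10977 = n15970 := rfl
theorem F69682 : act 5 n15970 = n10978 := d38_1 D15970 (iv D10978) D10977
def n15971 : Q := act 8 n10978
theorem D15971 : act 8 n10978 = n15971 := rfl
theorem F69684 : act 1 n15971 = n11253 := d15_1 D15971 (iv D11253) (iv F48848)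
def n15973 : Q := act 8 n10980
theorem D15973 : act 8 n10980 = n15973 := rfl
theorem F69693 : act 5 n15973 = n10982 := d37_1 D15973 (iv D10982) (iv F48858)
def n15974 : Q := act 3 n10981
theorem D15974 : act 3 n10981 = n15974 := rfl
theorem F69695 : act 1 n15974 = n10990 := d10_1 D15974 (iv D10990) (iv F48859)
theorem F69696 : act 5 n15974 = n10983 := d25_2 (iv F48860) D15974 (iv D10983)
def n15975 : Q := act 9 n10981
theorem D15975 : act 9 n10981 = n15975 := rfl
def n15976 : Q := act 3 n10982
theorem D15976 : act 3 n10982 = n15976 := rfl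
theorem F69705 : act 7 n15976 = n10983 := d27_2 (iv F48865) D15976 (iv D10983)
def n15977 : Q := act 9 n10982
theorem D15977 : act 9 n10982 = n15977 := rfl
theorem F69708 : act 4 n15977 = n10987 := d34_1 D15977 (iv D10987) (iv F48863)
def n15978 : Q := act 2 n10983
theorem D15978 : act 2 n10983 = n15978 := rfl
theorem F69713 : act 6 n15978 = n10985 := d20_2 (iv F48868) D15978 (iv D10985)
def n15979 : Q := act 9 n10983
theorem D15979 : act 9 n10983 = n15979 := rfl
theorem F69716 : act 3 n15979 = n10984 := d29_1 D15979 (iv D10984) D10983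
theorem F69718 : act 6 n15979 = n10986 := d41_1 D15979 (iv D10986) (iv F48868)
def n15980 : Q := act 9 n10985
theorem D15980 : act 9 n10985 = n15980 := rfl
theorem F69719 : act 1 n15980 = n15980 := d16_1 D15980 (iv D15980) F48873
theorem F69720 : act 2 n15980 = n10986 := d23_1 D15980 (iv D10986) D10985
theorem F69721 : act 4 n15980 = n15980 := d34_1 D15980 (iv D15980) F48874
theorem F69722 : act 5 n15980 = n15980 := d38_1 D15980 (iv D15980) F48875
theorem F69723 : act 7 n15980 = n15980 := d43_1 D15980 (iv D15980) F48876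
def n15981 : Q := act 8 n10986
theorem D15981 : act 8 n10986 = n15981 := rfl
def n15984 : Q := act 9 n10989
theorem D15984 : act 9 n10989 = n15984 := rfl
theorem F69741 : act 5 n15984 = n10993 := d38_1 D15984 (iv D10993) (iv F48894)
def n15985 : Q := act 4 n10990
theorem D15985 : act 4 n10990 = n15985 := rfl
def n15986 : Q := act 9 n10990
theorem D15986 : act 9 n10990 = n15986 := rfl
theorem F69750 : act 3 n15986 = n10991 := d29_1 D15986 (iv D10991) D10990
theorem F69751 : act 5 n15986 = n10994 := d38_1 D15986 (iv D10994) (iv F48898)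
def n15988 : Q := act 8 n10994
theorem D15988 : act 8 n10994 = n15988 := rfl
def n15989 : Q := act 5 n10996
theorem D15989 : act 5 n10996 = n15989 := rfl
theorem F69764 : act 1 n15989 = n10997 := d12_1 D15989 (iv D10997) D10996
theorem F69766 : act 7 n15989 = n11057 := d36_2 (iv F48930) D15989 (iv D11057)
theorem F69767 : act 9 n15989 = n11021 := d38_2 (iv F48931) D15989 (iv D11021)
def n15990 : Q := act 8 n10996
theorem D15990 : act 8 n10996 = n15990 := rfl
theorem F69768 : act 1 n15990 = n10998 := d15_1 D15990 (iv D10998) D10996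
theorem F69769 : act 2 n15990 = n12354 := d22_1 D15990 (iv D12354) (iv F48927)
theorem F69772 : act 7 n15990 = n11058 := d42_1 D15990 (iv D11058) (iv F48930)
def n15991 : Q := act 4 n10997
theorem D15991 : act 4 n10997 = n15991 := rfl
theorem F69773 : act 0 n15991 = n11004 := d3_1 D15991 (iv D11004) (iv F48932)
theorem F69774 : act 2 n15991 = n10999 := d18_1 D15991 (iv D10999) (iv F48933)
theorem F69775 : act 5 n15991 = n15991 := d30_2 D10997 D15991 (iv D15991) (iv D10997) F34448
theorem F69776 : act 7 n15991 = n11059 := d32_2 (iv F48934) D15991 (iv D11059)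
theorem F69777 : act 9 n15991 = n11023 := d34_2 (iv F48935) D15991 (iv D11023)
def n15992 : Q := act 6 n10997
theorem D15992 : act 6 n10997 = n15992 := rfl
theorem F69778 : act 0 n15992 = n11005 := d5_1 D15992 (iv D11005) (iv F48932)
theorem F69779 : act 2 n15992 = n11000 := d20_1 D15992 (iv D11000) (iv F48933)
theorem F69780 : act 5 n15992 = n15992 := d35_1 D15992 (iv D15992) (iv D10997) F34449 D10997
theorem F69781 : act 9 n15992 = n11024 := d41_2 (iv F48935) D15992 (iv D11024)
def n15993 : Q := act 8 n10997
theorem D15993 : act 8 n10997 = n15993 := rfl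
theorem F69782 : act 0 n15993 = n11006 := d7_1 D15993 (iv D11006) (iv F48932)
theorem F69785 : act 7 n15993 = n11061 := d42_1 D15993 (iv D11061) (iv F48934)
def n15994 : Q := act 3 n10998
theorem D15994 : act 3 n10998 = n15994 := rfl
theorem F69786 : act 0 n15994 = n11007 := d2_1 D15994 (iv D11007) (iv F48936)
theorem F69789 : act 7 n15994 = n11062 := d27_2 (iv F48940) D15994 (iv D11062)
def n15996 : Q := act 6 n10999
theorem D15996 : act 6 n10999 = n15996 := rfl
theorem F69799 : act 4 n15996 = n11000 := d31_1 D15996 (iv D11000) D10999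
theorem F69800 : act 9 n15996 = n11028 := d41_2 (iv F48946) D15996 (iv D11028)
def n15997 : Q := act 8 n10999
theorem D15997 : act 8 n10999 = n15997 := rfl
theorem F69802 : act 1 n15997 = n12361 := d15_1 D15997 (iv D12361) (iv F48942)
theorem F69805 : act 7 n15997 = n11065 := d42_1 D15997 (iv D11065) (iv F48945)
def n15998 : Q := act 7 n11000
theorem D15998 : act 7 n11000 = n15998 := rfl
theorem F69806 : act 0 n15998 = n11011 := d6_1 D15998 (iv D11011) (iv F48947)
theorem F69808 : act 3 n15998 = n11003 := d27_1 D15998 (iv D11003) (iv F48949)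
theorem F69811 : act 9 n15998 = n11030 := d43_2 (iv F48951) D15998 (iv D11030)
def n16000 : Q := act 9 n11001
theorem D16000 : act 9 n11001 = n16000 := rfl
theorem F69817 : act 0 n16000 = n11013 := d8_1 D16000 (iv D11013) (iv F48952)
theorem F69818 : act 1 n16000 = n12364 := d16_1 D16000 (iv D12364) (iv F48953)
def n16001 : Q := act 3 n11004
theorem D16001 : act 3 n11004 = n16001 := rfl
theorem F69823 : act 2 n16001 = n16001 := d17_1 D16001 (iv D16001) F48971 F34477 (iv F48971)
theorem F69824 : act 5 n16001 = n16001 := d25_2 F48972 D16001 (iv D16001)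
theorem F69825 : act 7 n16001 = n11069 := d27_2 (iv F48973) D16001 (iv D11069)
theorem F69826 : act 9 n16001 = n11033 := d29_2 (iv F48974) D16001 (iv D11033)
def n16002 : Q := act 6 n11004
theorem D16002 : act 6 n11004 = n16002 := rfl
theorem F69828 : act 4 n16002 = n11005 := d31_1 D16002 (iv D11005) D11004
theorem F69829 : act 9 n16002 = n11034 := d41_2 (iv F48974) D16002 (iv D11034)
def n16003 : Q := act 8 n11004
theorem D16003 : act 8 n11004 = n16003 := rfl
theorem F69830 : act 2 n16003 = n11010 := d22_1 D16003 (iv D11010) (iv F48971)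
theorem F69831 : act 4 n16003 = n11006 := d33_1 D16003 (iv D11006) D11004
theorem F69833 : act 7 n16003 = n11071 := d42_1 D16003 (iv D11071) (iv F48973)
def n16004 : Q := act 7 n11005
theorem D16004 : act 7 n11005 = n16004 := rfl
theorem F69836 : act 6 n16004 = n11072 := d39_1 D16004 (iv D11072) (iv D7625) (iv F34470) D11005
theorem F69837 : act 9 n16004 = n11036 := d43_2 (iv F48977) D16004 (iv D11036)
def n16005 : Q := act 8 n11005
theorem D16005 : act 8 n11005 = n16005 := rfl
theorem F69840 : act 6 n16005 = n11006 := d40_1 D16005 (iv D11006) D11005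
def n16006 : Q := act 3 n11006
theorem D16006 : act 3 n11006 = n16006 := rfl
theorem F69843 : act 7 n16006 = n11074 := d27_2 (iv F48980) D16006 (iv D11074)
def n16007 : Q := act 9 n11006
theorem D16007 : act 9 n11006 = n16007 := rfl
theorem F69846 : act 7 n16007 = n11075 := d43_1 D16007 (iv D11075) (iv F48980)
theorem F69847 : act 8 n16007 = n11039 := d44_1 D16007 (iv D11039) (iv D7601) (iv F34471) D11006
def n16008 : Q := act 4 n11007
theorem D16008 : act 4 n11007 = n16008 := rfl
theorem F69851 : act 7 n16008 = n11076 := d32_2 (iv F48983) D16008 (iv D11076)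
def n16009 : Q := act 9 n11007
theorem D16009 : act 9 n11007 = n16009 := rfl
theorem F69853 : act 3 n16009 = n11008 := d29_1 D16009 (iv D11008) D11007
theorem F69855 : act 7 n16009 = n11077 := d43_1 D16009 (iv D11077) (iv F48983)
def n16010 : Q := act 5 n11009
theorem D16010 : act 5 n11009 = n16010 := rfl
theorem F69860 : act 9 n16010 = n11042 := d38_2 (iv F48992) D16010 (iv D11042)
def n16011 : Q := act 7 n11009
theorem D16011 : act 7 n11009 = n16011 := rfl
theorem F69863 : act 4 n16011 = n11011 := d32_1 D16011 (iv D11011) (iv F48991)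
theorem F69865 : act 9 n16011 = n11043 := d43_2 (iv F48992) D16011 (iv D11043)
def n16012 : Q := act 8 n11009
theorem D16012 : act 8 n11009 = n16012 := rfl
def n16013 : Q := act 3 n11010
theorem D16013 : act 3 n11010 = n16013 := rfl
theorem F69872 : act 7 n16013 = n11081 := d27_2 (iv F48996) D16013 (iv D11081)
def n16014 : Q := act 9 n11010
theorem D16014 : act 9 n11010 = n16014 := rfl
theorem F69878 : act 8 n16014 = n11046 := d44_1 D16014 (iv D11046) (iv D7605) (iv F34480) D11010
def n16015 : Q := act 8 n11011
theorem D16015 : act 8 n11011 = n16015 := rfl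
theorem F69879 : act 1 n16015 = n11019 := d15_1 D16015 (iv D11019) (iv F48997)
theorem F69882 : act 6 n16015 = n11083 := d40_1 D16015 (iv D11083) (iv F49000)
def n16016 : Q := act 9 n11012
theorem D16016 : act 9 n11012 = n16016 := rfl
theorem F69888 : act 8 n16016 = n11048 := d44_1 D16016 (iv D11048) (iv D7607) (iv F34484) D11012
def n16017 : Q := act 7 n11014
theorem D16017 : act 7 n11014 = n16017 := rfl
theorem F69892 : act 5 n16017 = n11015 := d36_1 D16017 (iv D11015) D11014
theorem F69893 : act 9 n16017 = n11049 := d43_2 (iv F49015) D16017 (iv D11049)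
def n16018 : Q := act 8 n11014
theorem D16018 : act 8 n11014 = n16018 := rfl
theorem F69896 : act 5 n16018 = n11016 := d37_1 D16018 (iv D11016) D11014
def n16019 : Q := act 8 n11015
theorem D16019 : act 8 n11015 = n16019 := rfl
theorem F69899 : act 4 n16019 = n11019 := d33_1 D16019 (iv D11019) (iv F49018)
def n16020 : Q := act 3 n11016
theorem D16020 : act 3 n11016 = n16020 := rfl
def n16021 : Q := act 9 n11016
theorem D16021 : act 9 n11016 = n16021 := rfl
theorem F69907 : act 4 n16021 = n11020 := d34_1 D16021 (iv D11020) (iv F49022)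
theorem F69909 : act 8 n16021 = n11053 := d44_1 D16021 (iv D11053) (iv D7611) (iv F34504) D11016
def n16023 : Q := act 9 n11017
theorem D16023 : act 9 n11017 = n16023 := rfl
theorem F69916 : act 3 n16023 = n11018 := d29_1 D16023 (iv D11018) D11017
theorem F69919 : act 7 n16023 = n11091 := d43_1 D16023 (iv D11091) (iv F49027)
def n16025 : Q := act 4 n11021
theorem D16025 : act 4 n11021 = n16025 := rfl
theorem F69926 : act 1 n16025 = n11023 := d11_1 D16025 (iv D11023) (iv F49044)
theorem F69929 : act 7 n16025 = n11093 := d32_2 (iv F49046) D16025 (iv D11093)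
def n16026 : Q := act 6 n11021
theorem D16026 : act 6 n11021 = n16026 := rfl
theorem F69930 : act 1 n16026 = n11024 := d13_1 D16026 (iv D11024) (iv F49044)
def n16027 : Q := act 8 n11021
theorem D16027 : act 8 n11021 = n16027 := rfl
theorem F69933 : act 1 n16027 = n11025 := d15_1 D16027 (iv D11025) (iv F49044)
def n16030 : Q := act 3 n11023
theorem D16030 : act 3 n11023 = n16030 := rfl
theorem F69945 : act 0 n16030 = n11033 := d2_1 D16030 (iv D11033) (iv F49052)
theorem F69946 : act 2 n16030 = n16030 := d17_1 D16030 (iv D16030) F49053 F34537 (iv F49053)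
theorem F69947 : act 5 n16030 = n16030 := d25_2 F49054 D16030 (iv D16030)
theorem F69948 : act 7 n16030 = n11098 := d27_2 (iv F49055) D16030 (iv D11098)
def n16031 : Q := act 6 n11023
theorem D16031 : act 6 n11023 = n16031 := rfl
theorem F69949 : act 0 n16031 = n11034 := d5_1 D16031 (iv D11034) (iv F49052)
theorem F69950 : act 2 n16031 = n11028 := d20_1 D16031 (iv D11028) (iv F49053)
def n16032 : Q := act 8 n11023
theorem D16032 : act 8 n11023 = n16032 := rfl
theorem F69952 : act 0 n16032 = n11035 := d7_1 D16032 (iv D11035) (iv F49052)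
theorem F69953 : act 2 n16032 = n11029 := d22_1 D16032 (iv D11029) (iv F49053)
theorem F69954 : act 4 n16032 = n11025 := d33_1 D16032 (iv D11025) D11023
theorem F69956 : act 7 n16032 = n11100 := d42_1 D16032 (iv D11100) (iv F49055)
def n16033 : Q := act 7 n11024
theorem D16033 : act 7 n11024 = n16033 := rfl
theorem F69958 : act 2 n16033 = n11030 := d21_1 D16033 (iv D11030) (iv F49057)
theorem F69960 : act 6 n16033 = n11101 := d39_1 D16033 (iv D11101) (iv D7644) (iv F34529) D11024
def n16034 : Q := act 8 n11024
theorem D16034 : act 8 n11024 = n16034 := rfl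
theorem F69962 : act 2 n16034 = n11031 := d22_1 D16034 (iv D11031) (iv F49057)
def n16035 : Q := act 3 n11025
theorem D16035 : act 3 n11025 = n16035 := rfl
theorem F69965 : act 0 n16035 = n11038 := d2_1 D16035 (iv D11038) (iv F49059)
theorem F69966 : act 2 n16035 = n11338 := d17_1 D16035 (iv D11338) F35411 (iv F34546) (iv F49060)
theorem F69968 : act 7 n16035 = n11103 := d27_2 (iv F49062) D16035 (iv D11103)
def n16036 : Q := act 9 n11025
theorem D16036 : act 9 n11025 = n16036 := rfl
def n16037 : Q := act 4 n11026
theorem D16037 : act 4 n11026 = n16037 := rfl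
def n16038 : Q := act 9 n11026
theorem D16038 : act 9 n11026 = n16038 := rfl
theorem F69979 : act 2 n16038 = n11341 := d23_1 D16038 (iv D11341) (iv F49064)
theorem F69980 : act 3 n16038 = n11027 := d29_1 D16038 (iv D11027) D11026
def n16040 : Q := act 7 n11028
theorem D16040 : act 7 n11028 = n16040 := rfl
theorem F69991 : act 4 n16040 = n11030 := d32_1 D16040 (iv D11030) (iv F49075)
def n16041 : Q := act 8 n11028
theorem D16041 : act 8 n11028 = n16041 := rfl
theorem F69995 : act 4 n16041 = n11031 := d33_1 D16041 (iv D11031) (iv F49075)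
def n16042 : Q := act 3 n11029
theorem D16042 : act 3 n11029 = n16042 := rfl
theorem F69997 : act 0 n16042 = n11045 := d2_1 D16042 (iv D11045) (iv F49076)
theorem F69999 : act 4 n16042 = n11345 := d24_2 (iv F49078) D16042 (iv D11345) F35430 (iv F34546)
theorem F70001 : act 7 n16042 = n11110 := d27_2 (iv F49080) D16042 (iv D11110)
def n16043 : Q := act 9 n11029
theorem D16043 : act 9 n11029 = n16043 := rfl
def n16044 : Q := act 8 n11030
theorem D16044 : act 8 n11030 = n16044 := rfl
theorem F70010 : act 3 n16044 = n11347 := d28_1 D16044 (iv D11347) F35435 (iv F34560) (iv F49083)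
theorem F70012 : act 6 n16044 = n11112 := d40_1 D16044 (iv D11112) (iv F49085)
theorem F70013 : act 7 n16044 = n11031 := d42_1 D16044 (iv D11031) D11030
def n16045 : Q := act 9 n11031
theorem D16045 : act 9 n11031 = n16045 := rfl
theorem F70016 : act 3 n16045 = n11348 := d29_1 D16045 (iv D11348) (iv F49088)
def n16046 : Q := act 6 n11033
theorem D16046 : act 6 n11033 = n16046 := rfl
theorem F70020 : act 3 n16046 = n11034 := d26_1 D16046 (iv D11034) D11033
def n16047 : Q := act 8 n11033
theorem D16047 : act 8 n11033 = n16047 := rfl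
theorem F70021 : act 2 n16047 = n16047 := d22_1 D16047 (iv D16047) F49096
theorem F70022 : act 5 n16047 = n16047 := d37_1 D16047 (iv D16047) F49097
theorem F70023 : act 7 n16047 = n11115 := d42_1 D16047 (iv D11115) (iv F49098)
def n16048 : Q := act 5 n11034
theorem D16048 : act 5 n11034 = n16048 := rfl
theorem F70024 : act 2 n16048 = n11042 := d19_1 D16048 (iv D11042) (iv F49099)
def n16049 : Q := act 7 n11034
theorem D16049 : act 7 n11034 = n16049 := rfl
theorem F70028 : act 4 n16049 = n11036 := d32_1 D16049 (iv D11036) (iv F49100)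
theorem F70029 : act 6 n16049 = n11117 := d39_1 D16049 (iv D11117) (iv D7654) (iv F34563) D11034
def n16050 : Q := act 8 n11034
theorem D16050 : act 8 n11034 = n16050 := rfl
theorem F70030 : act 2 n16050 = n11044 := d22_1 D16050 (iv D11044) (iv F49099)
theorem F70031 : act 4 n16050 = n11037 := d33_1 D16050 (iv D11037) (iv F49100)
theorem F70032 : act 6 n16050 = n11035 := d40_1 D16050 (iv D11035) D11034
def n16051 : Q := act 3 n11035
theorem D16051 : act 3 n11035 = n16051 := rfl
theorem F70034 : act 7 n16051 = n11119 := d27_2 (iv F49104) D16051 (iv D11119)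
def n16052 : Q := act 9 n11035
theorem D16052 : act 9 n11035 = n16052 := rfl
theorem F70035 : act 2 n16052 = n11046 := d23_1 D16052 (iv D11046) (iv F49101)
def n16053 : Q := act 8 n11036
theorem D16053 : act 8 n11036 = n16053 := rfl
theorem F70039 : act 2 n16053 = n11047 := d22_1 D16053 (iv D11047) (iv F49105)
theorem F70041 : act 6 n16053 = n11121 := d40_1 D16053 (iv D11121) (iv F49107)
theorem F70042 : act 7 n16053 = n11037 := d42_1 D16053 (iv D11037) D11036
def n16054 : Q := act 3 n11037
theorem D16054 : act 3 n11037 = n16054 := rfl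
theorem F70043 : act 2 n16054 = n11357 := d17_1 D16054 (iv D11357) F35468 (iv F34588) (iv F49108)
theorem F70045 : act 6 n16054 = n11038 := d26_2 (iv F49110) D16054 (iv D11038)
def n16055 : Q := act 9 n11037
theorem D16055 : act 9 n11037 = n16055 := rfl
def n16056 : Q := act 4 n11038
theorem D16056 : act 4 n11038 = n16056 := rfl
theorem F70049 : act 2 n16056 = n11359 := d18_1 D16056 (iv D11359) (iv F49111)
theorem F70050 : act 7 n16056 = n11124 := d32_2 (iv F49113) D16056 (iv D11124)
def n16057 : Q := act 9 n11038
theorem D16057 : act 9 n11038 = n16057 := rfl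
def n16058 : Q := act 5 n11040
theorem D16058 : act 5 n11040 = n16058 := rfl
theorem F70055 : act 2 n16058 = n11361 := d19_1 D16058 (iv D11361) (iv F49117)
theorem F70056 : act 3 n16058 = n16058 := d25_1 D16058 (iv D16058) F49118
theorem F70057 : act 7 n16058 = n11126 := d36_2 (iv F49120) D16058 (iv D11126)
def n16059 : Q := act 9 n11040
theorem D16059 : act 9 n11040 = n16059 := rfl
theorem F70060 : act 4 n16059 = n11041 := d34_1 D16059 (iv D11041) D11040
theorem F70062 : act 7 n16059 = n11127 := d43_1 D16059 (iv D11127) (iv F49120)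
def n16060 : Q := act 8 n11041
theorem D16060 : act 8 n11041 = n16060 := rfl
def n16061 : Q := act 7 n11042
theorem D16061 : act 7 n11042 = n16061 := rfl
def n16062 : Q := act 8 n11042
theorem D16062 : act 8 n11042 = n16062 := rfl
theorem F70070 : act 1 n16062 = n11050 := d15_1 D16062 (iv D11050) (iv F49125)
theorem F70072 : act 5 n16062 = n11044 := d37_1 D16062 (iv D11044) D11042
def n16063 : Q := act 8 n11043
theorem D16063 : act 8 n11043 = n16063 := rfl
theorem F70075 : act 4 n16063 = n11047 := d33_1 D16063 (iv D11047) (iv F49131)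
theorem F70076 : act 6 n16063 = n11131 := d40_1 D16063 (iv D11131) (iv F49132)
theorem F70077 : act 7 n16063 = n11044 := d42_1 D16063 (iv D11044) D11043
def n16064 : Q := act 3 n11044
theorem D16064 : act 3 n11044 = n16064 := rfl
theorem F70078 : act 1 n16064 = n11052 := d10_1 D16064 (iv D11052) (iv F49133)
theorem F70079 : act 4 n16064 = n11367 := d24_2 (iv F49134) D16064 (iv D11367) F35498 (iv F34588)
theorem F70080 : act 6 n16064 = n11045 := d26_2 (iv F49135) D16064 (iv D11045)
def n16065 : Q := act 9 n11044
theorem D16065 : act 9 n11044 = n16065 := rfl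
theorem F70083 : act 4 n16065 = n11048 := d34_1 D16065 (iv D11048) (iv F49134)
def n16066 : Q := act 2 n11045
theorem D16066 : act 2 n11045 = n16066 := rfl
theorem F70085 : act 4 n16066 = n11369 := d18_2 (iv F49137) D16066 (iv D11369)
theorem F70087 : act 7 n16066 = n11134 := d21_2 (iv F49139) D16066 (iv D11134)
def n16067 : Q := act 9 n11045
theorem D16067 : act 9 n11045 = n16067 := rfl
theorem F70090 : act 3 n16067 = n11046 := d29_1 D16067 (iv D11046) D11045
theorem F70091 : act 4 n16067 = n11370 := d34_1 D16067 (iv D11370) (iv F49137)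
theorem F70093 : act 7 n16067 = n11135 := d43_1 D16067 (iv D11135) (iv F49139)
def n16068 : Q := act 9 n11047
theorem D16068 : act 9 n11047 = n16068 := rfl
theorem F70097 : act 6 n16068 = n11136 := d41_1 D16068 (iv D11136) (iv F49148)
theorem F70098 : act 7 n16068 = n11048 := d43_1 D16068 (iv D11048) (iv F49149)
def n16070 : Q := act 8 n11049
theorem D16070 : act 8 n11049 = n16070 := rfl
theorem F70107 : act 7 n16070 = n11050 := d42_1 D16070 (iv D11050) D11049
def n16071 : Q := act 3 n11050
theorem D16071 : act 3 n11050 = n16071 := rfl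
theorem F70109 : act 5 n16071 = n11052 := d25_2 (iv F49160) D16071 (iv D11052)
def n16072 : Q := act 9 n11050
theorem D16072 : act 9 n11050 = n16072 := rfl
def n16073 : Q := act 3 n11051
theorem D16073 : act 3 n11051 = n16073 := rfl
theorem F70118 : act 6 n16073 = n11141 := d26_2 (iv F49164) D16073 (iv D11141)
theorem F70119 : act 7 n16073 = n11052 := d27_2 (iv F49165) D16073 (iv D11052)
def n16074 : Q := act 9 n11051
theorem D16074 : act 9 n11051 = n16074 := rfl
theorem F70122 : act 4 n16074 = n11056 := d34_1 D16074 (iv D11056) (iv F49163)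
def n16075 : Q := act 2 n11052
theorem D16075 : act 2 n11052 = n16075 := rfl
theorem F70126 : act 4 n16075 = n11377 := d18_2 (iv F49167) D16075 (iv D11377)
theorem F70127 : act 6 n16075 = n11054 := d20_2 (iv F49168) D16075 (iv D11054)
def n16076 : Q := act 9 n11052
theorem D16076 : act 9 n11052 = n16076 := rfl
theorem F70130 : act 3 n16076 = n11053 := d29_1 D16076 (iv D11053) D11052
theorem F70131 : act 4 n16076 = n11378 := d34_1 D16076 (iv D11378) (iv F49167)
def n16077 : Q := act 1 n11054
theorem D16077 : act 1 n11054 = n16077 := rfl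
theorem F70133 : act 4 n16077 = n11379 := d11_2 (iv F49174) D16077 (iv D11379)
def n16078 : Q := act 9 n11054
theorem D16078 : act 9 n11054 = n16078 := rfl
theorem F70139 : act 4 n16078 = n11380 := d34_1 D16078 (iv D11380) (iv F49174)
theorem F70141 : act 7 n16078 = n11146 := d43_1 D16078 (iv D11146) (iv F49176)
def n16079 : Q := act 8 n11055
theorem D16079 : act 8 n11055 = n16079 := rfl
theorem F70143 : act 4 n16079 = n11381 := d33_1 D16079 (iv D11381) (iv F49180)
theorem F70145 : act 7 n16079 = n11147 := d42_1 D16079 (iv D11147) (iv F49182)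
def n16080 : Q := act 4 n11057
theorem D16080 : act 4 n11057 = n16080 := rfl
theorem F70147 : act 1 n16080 = n11059 := d11_1 D16080 (iv D11059) (iv F49188)
theorem F70150 : act 9 n16080 = n11093 := d34_2 (iv F49190) D16080 (iv D11093)
def n16081 : Q := act 6 n11057
theorem D16081 : act 6 n11057 = n16081 := rfl
theorem F70151 : act 1 n16081 = n11060 := d13_1 D16081 (iv D11060) (iv F49188)
theorem F70153 : act 5 n16081 = n11149 := d35_1 D16081 (iv D11149) (iv D7677) (iv F34626) D11057
theorem F70154 : act 9 n16081 = n11094 := d41_2 (iv F49190) D16081 (iv D11094)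
def n16082 : Q := act 8 n11057
theorem D16082 : act 8 n11057 = n16082 := rfl
theorem F70155 : act 1 n16082 = n11061 := d15_1 D16082 (iv D11061) (iv F49188)
theorem F70156 : act 2 n16082 = n12446 := d22_1 D16082 (iv D12446) (iv F49189)
def n16083 : Q := act 3 n11058
theorem D16083 : act 3 n11058 = n16083 := rfl
theorem F70158 : act 1 n16083 = n11062 := d10_1 D16083 (iv D11062) (iv F49191)
theorem F70159 : act 6 n16083 = n11151 := d26_2 (iv F49194) D16083 (iv D11151)
def n16085 : Q := act 3 n11059
theorem D16085 : act 3 n11059 = n16085 := rfl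
theorem F70165 : act 0 n16085 = n11069 := d2_1 D16085 (iv D11069) (iv F49195)
theorem F70166 : act 2 n16085 = n16085 := d17_1 D16085 (iv D16085) F49196 F34637 (iv F49196)
theorem F70167 : act 5 n16085 = n16085 := d25_2 F49197 D16085 (iv D16085)
theorem F70168 : act 9 n16085 = n11098 := d29_2 (iv F49198) D16085 (iv D11098)
def n16086 : Q := act 6 n11059
theorem D16086 : act 6 n11059 = n16086 := rfl
theorem F70169 : act 0 n16086 = n11070 := d5_1 D16086 (iv D11070) (iv F49195)
theorem F70170 : act 2 n16086 = n11064 := d20_1 D16086 (iv D11064) (iv F49196)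
theorem F70171 : act 4 n16086 = n11060 := d31_1 D16086 (iv D11060) D11059
theorem F70172 : act 9 n16086 = n11099 := d41_2 (iv F49198) D16086 (iv D11099)
def n16087 : Q := act 8 n11059
theorem D16087 : act 8 n11059 = n16087 := rfl
theorem F70173 : act 0 n16087 = n11071 := d7_1 D16087 (iv D11071) (iv F49195)
theorem F70174 : act 2 n16087 = n11065 := d22_1 D16087 (iv D11065) (iv F49196)
def n16088 : Q := act 7 n11060
theorem D16088 : act 7 n11060 = n16088 := rfl
theorem F70177 : act 0 n16088 = n11072 := d6_1 D16088 (iv D11072) (iv F49199)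
theorem F70178 : act 2 n16088 = n11066 := d21_1 D16088 (iv D11066) (iv F49200)
theorem F70179 : act 5 n16088 = n11156 := d36_1 D16088 (iv D11156) (iv F49201)
theorem F70180 : act 9 n16088 = n11101 := d43_2 (iv F49202) D16088 (iv D11101)
def n16089 : Q := act 8 n11060
theorem D16089 : act 8 n11060 = n16089 := rfl
theorem F70183 : act 5 n16089 = n11157 := d37_1 D16089 (iv D11157) (iv F49201)
theorem F70184 : act 6 n16089 = n11061 := d40_1 D16089 (iv D11061) D11060
def n16090 : Q := act 3 n11061
theorem D16090 : act 3 n11061 = n16090 := rfl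
def n16091 : Q := act 9 n11061
theorem D16091 : act 9 n11061 = n16091 := rfl
def n16092 : Q := act 4 n11062
theorem D16092 : act 4 n11062 = n16092 := rfl
theorem F70195 : act 6 n16092 = n11160 := d31_2 (iv F49208) D16092 (iv D11160)
def n16093 : Q := act 9 n11062
theorem D16093 : act 9 n11062 = n16093 := rfl
theorem F70199 : act 6 n16093 = n11161 := d41_1 D16093 (iv D11161) (iv F49208)
def n16094 : Q := act 5 n11064
theorem D16094 : act 5 n11064 = n16094 := rfl
theorem F70205 : act 9 n16094 = n11107 := d38_2 (iv F49218) D16094 (iv D11107)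
def n16095 : Q := act 7 n11064
theorem D16095 : act 7 n11064 = n16095 := rfl
theorem F70209 : act 4 n16095 = n11066 := d32_1 D16095 (iv D11066) (iv F49217)
theorem F70210 : act 9 n16095 = n11108 := d43_2 (iv F49218) D16095 (iv D11108)
def n16096 : Q := act 8 n11064
theorem D16096 : act 8 n11064 = n16096 := rfl
theorem F70212 : act 1 n16096 = n12460 := d15_1 D16096 (iv D12460) (iv F49215)
theorem F70214 : act 6 n16096 = n11065 := d40_1 D16096 (iv D11065) D11064
def n16097 : Q := act 3 n11065
theorem D16097 : act 3 n11065 = n16097 := rfl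
def n16098 : Q := act 9 n11065
theorem D16098 : act 9 n11065 = n16098 := rfl
theorem F70221 : act 1 n16098 = n12462 := d16_1 D16098 (iv D12462) (iv F49220)
theorem F70224 : act 8 n16098 = n11111 := d44_1 D16098 (iv D11111) (iv D7649) (iv F34639) D11065
def n16099 : Q := act 8 n11066
theorem D16099 : act 8 n11066 = n16099 := rfl
theorem F70225 : act 0 n16099 = n11083 := d7_1 D16099 (iv D11083) (iv F49223)
def n16101 : Q := act 6 n11069
theorem D16101 : act 6 n11069 = n16101 := rfl
theorem F70236 : act 2 n16101 = n16101 := d20_1 D16101 (iv D16101) F49238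
theorem F70237 : act 3 n16101 = n11070 := d26_1 D16101 (iv D11070) D11069
theorem F70238 : act 9 n16101 = n11114 := d41_2 (iv F49240) D16101 (iv D11114)
def n16102 : Q := act 8 n11069
theorem D16102 : act 8 n11069 = n16102 := rfl
theorem F70239 : act 2 n16102 = n16102 := d22_1 D16102 (iv D16102) F49238
theorem F70240 : act 5 n16102 = n16102 := d37_1 D16102 (iv D16102) F49239
def n16103 : Q := act 5 n11070
theorem D16103 : act 5 n11070 = n16103 := rfl
theorem F70242 : act 4 n16103 = n11171 := d30_1 D16103 (iv D11171) F34901 (iv F34665) (iv F49242)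
theorem F70244 : act 9 n16103 = n11116 := d38_2 (iv F49243) D16103 (iv D11116)
def n16104 : Q := act 7 n11070
theorem D16104 : act 7 n11070 = n16104 := rfl
theorem F70246 : act 4 n16104 = n11072 := d32_1 D16104 (iv D11072) (iv F49242)
def n16105 : Q := act 8 n11070
theorem D16105 : act 8 n11070 = n16105 := rfl
theorem F70248 : act 2 n16105 = n11080 := d22_1 D16105 (iv D11080) (iv F49241)
theorem F70249 : act 4 n16105 = n11073 := d33_1 D16105 (iv D11073) (iv F49242)
theorem F70250 : act 6 n16105 = n11071 := d40_1 D16105 (iv D11071) D11070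
def n16106 : Q := act 3 n11071
theorem D16106 : act 3 n11071 = n16106 := rfl
theorem F70251 : act 5 n16106 = n16106 := d25_2 F49246 D16106 (iv D16106)
def n16107 : Q := act 9 n11071
theorem D16107 : act 9 n11071 = n16107 := rfl
theorem F70252 : act 2 n16107 = n11082 := d23_1 D16107 (iv D11082) (iv F49244)
theorem F70255 : act 8 n16107 = n11120 := d44_1 D16107 (iv D11120) (iv D7655) (iv F34663) D11071
def n16108 : Q := act 8 n11072
theorem D16108 : act 8 n11072 = n16108 := rfl
theorem F70257 : act 5 n16108 = n11176 := d37_1 D16108 (iv D11176) (iv F49248)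
theorem F70258 : act 7 n16108 = n11073 := d42_1 D16108 (iv D11073) D11072
def n16109 : Q := act 3 n11073
theorem D16109 : act 3 n11073 = n16109 := rfl
theorem F70260 : act 5 n16109 = n11177 := d25_2 (iv F49251) D16109 (iv D11177)
theorem F70261 : act 6 n16109 = n11074 := d26_2 (iv F49252) D16109 (iv D11074)
def n16110 : Q := act 9 n11073
theorem D16110 : act 9 n11073 = n16110 := rfl
theorem F70263 : act 5 n16110 = n11178 := d38_1 D16110 (iv D11178) (iv F49251)
theorem F70264 : act 6 n16110 = n11075 := d41_1 D16110 (iv D11075) (iv F49252)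
theorem F70265 : act 8 n16110 = n11123 := d44_1 D16110 (iv D11123) (iv D7657) (iv F34666) D11073
def n16111 : Q := act 4 n11074
theorem D16111 : act 4 n11074 = n16111 := rfl
def n16112 : Q := act 9 n11074
theorem D16112 : act 9 n11074 = n16112 := rfl
theorem F70268 : act 3 n16112 = n11075 := d29_1 D16112 (iv D11075) D11074
def n16114 : Q := act 9 n11076
theorem D16114 : act 9 n11076 = n16114 := rfl
theorem F70274 : act 4 n16114 = n11077 := d34_1 D16114 (iv D11077) D11076
theorem F70275 : act 6 n16114 = n11182 := d41_1 D16114 (iv D11182) (iv F49260)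
def n16115 : Q := act 8 n11077
theorem D16115 : act 8 n11077 = n16115 := rfl
theorem F70277 : act 3 n16115 = n11128 := d28_1 D16115 (iv D11128) F34786 (iv F34674) (iv F49262)
theorem F70278 : act 6 n16115 = n11183 := d40_1 D16115 (iv D11183) (iv F49263)
def n16116 : Q := act 7 n11078
theorem D16116 : act 7 n11078 = n16116 := rfl
theorem F70282 : act 5 n16116 = n11079 := d36_1 D16116 (iv D11079) D11078
theorem F70283 : act 9 n16116 = n11129 := d43_2 (iv F49268) D16116 (iv D11129)
def n16117 : Q := act 8 n11078
theorem D16117 : act 8 n11078 = n16117 := rfl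
theorem F70285 : act 4 n16117 = n11185 := d33_1 D16117 (iv D11185) (iv F49266)
theorem F70286 : act 5 n16117 = n11080 := d37_1 D16117 (iv D11080) D11078
def n16118 : Q := act 8 n11079
theorem D16118 : act 8 n11079 = n16118 := rfl
theorem F70289 : act 4 n16118 = n11083 := d33_1 D16118 (iv D11083) (iv F49271)
def n16119 : Q := act 3 n11080
theorem D16119 : act 3 n11080 = n16119 := rfl
theorem F70293 : act 6 n16119 = n11081 := d26_2 (iv F49275) D16119 (iv D11081)
def n16120 : Q := act 9 n11080
theorem D16120 : act 9 n11080 = n16120 := rfl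
theorem F70297 : act 6 n16120 = n11082 := d41_1 D16120 (iv D11082) (iv F49275)
def n16121 : Q := act 2 n11081
theorem D16121 : act 2 n11081 = n16121 := rfl
def n16122 : Q := act 9 n11081
theorem D16122 : act 9 n11081 = n16122 := rfl
theorem F70303 : act 3 n16122 = n11082 := d29_1 D16122 (iv D11082) D11081
def n16123 : Q := act 9 n11083
theorem D16123 : act 9 n11083 = n16123 := rfl
theorem F70308 : act 5 n16123 = n11191 := d38_1 D16123 (iv D11191) (iv F49286)
theorem F70310 : act 8 n16123 = n11136 := d44_1 D16123 (iv D11136) (iv D7667) (iv F34685) D11083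
def n16125 : Q := act 8 n11085
theorem D16125 : act 8 n11085 = n16125 := rfl
theorem F70318 : act 5 n16125 = n11087 := d37_1 D16125 (iv D11087) (iv F49296)
def n16126 : Q := act 3 n11086
theorem D16126 : act 3 n11086 = n16126 := rfl
theorem F70321 : act 5 n16126 = n11088 := d25_2 (iv F49300) D16126 (iv D11088)
def n16127 : Q := act 9 n11086
theorem D16127 : act 9 n11086 = n16127 := rfl
theorem F70325 : act 4 n16127 = n11195 := d34_1 D16127 (iv D11195) (iv F49299)
theorem F70328 : act 8 n16127 = n11140 := d44_1 D16127 (iv D11140) (iv D7670) (iv F34698) D11086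
def n16128 : Q := act 3 n11087
theorem D16128 : act 3 n11087 = n16128 := rfl
def n16129 : Q := act 9 n11087
theorem D16129 : act 9 n11087 = n16129 := rfl
theorem F70334 : act 4 n16129 = n11092 := d34_1 D16129 (iv D11092) (iv F49303)
def n16130 : Q := act 2 n11088
theorem D16130 : act 2 n11088 = n16130 := rfl
theorem F70339 : act 6 n16130 = n11090 := d20_2 (iv F49307) D16130 (iv D11090)
def n16131 : Q := act 9 n11088
theorem D16131 : act 9 n11088 = n16131 := rfl
theorem F70342 : act 3 n16131 = n11089 := d29_1 D16131 (iv D11089) D11088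
theorem F70344 : act 6 n16131 = n11091 := d41_1 D16131 (iv D11091) (iv F49307)
def n16134 : Q := act 8 n11091
theorem D16134 : act 8 n11091 = n16134 := rfl
def n16135 : Q := act 3 n11093
theorem D16135 : act 3 n11093 = n16135 := rfl
theorem F70357 : act 1 n16135 = n11098 := d10_1 D16135 (iv D11098) (iv F49326)
def n16136 : Q := act 6 n11093
theorem D16136 : act 6 n11093 = n16136 := rfl
theorem F70359 : act 1 n16136 = n11099 := d13_1 D16136 (iv D11099) (iv F49326)
theorem F70361 : act 4 n16136 = n11094 := d31_1 D16136 (iv D11094) D11093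
def n16137 : Q := act 8 n11093
theorem D16137 : act 8 n11093 = n16137 := rfl
theorem F70362 : act 1 n16137 = n11100 := d15_1 D16137 (iv D11100) (iv F49326)
def n16138 : Q := act 7 n11094
theorem D16138 : act 7 n11094 = n16138 := rfl
theorem F70366 : act 1 n16138 = n11101 := d14_1 D16138 (iv D11101) (iv F49329)
theorem F70368 : act 5 n16138 = n11205 := d36_1 D16138 (iv D11205) (iv F49331)
def n16139 : Q := act 8 n11094
theorem D16139 : act 8 n11094 = n16139 := rfl
theorem F70371 : act 5 n16139 = n11206 := d37_1 D16139 (iv D11206) (iv F49331)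
theorem F70372 : act 6 n16139 = n11095 := d40_1 D16139 (iv D11095) D11094
def n16145 : Q := act 6 n11098
theorem D16145 : act 6 n11098 = n16145 := rfl
theorem F70387 : act 0 n16145 = n11114 := d5_1 D16145 (iv D11114) (iv F49341)
theorem F70388 : act 2 n16145 = n16145 := d20_1 D16145 (iv D16145) F49342
theorem F70389 : act 3 n16145 = n11099 := d26_1 D16145 (iv D11099) D11098
def n16146 : Q := act 8 n11098
theorem D16146 : act 8 n11098 = n16146 := rfl
theorem F70390 : act 0 n16146 = n11115 := d7_1 D16146 (iv D11115) (iv F49341)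
theorem F70391 : act 2 n16146 = n16146 := d22_1 D16146 (iv D16146) F49342
theorem F70392 : act 5 n16146 = n16146 := d37_1 D16146 (iv D16146) F49343
def n16147 : Q := act 5 n11099
theorem D16147 : act 5 n11099 = n16147 := rfl
theorem F70393 : act 0 n16147 = n11116 := d4_1 D16147 (iv D11116) (iv F49344)
theorem F70395 : act 4 n16147 = n11214 := d30_1 D16147 (iv D11214) F35012 (iv F34734) (iv F49346)
def n16149 : Q := act 8 n11099
theorem D16149 : act 8 n11099 = n16149 := rfl
theorem F70401 : act 2 n16149 = n11109 := d22_1 D16149 (iv D11109) (iv F49345)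
theorem F70403 : act 6 n16149 = n11100 := d40_1 D16149 (iv D11100) D11099
def n16150 : Q := act 3 n11100
theorem D16150 : act 3 n11100 = n16150 := rfl
theorem F70404 : act 0 n16150 = n11119 := d2_1 D16150 (iv D11119) (iv F49347)
def n16151 : Q := act 9 n11100
theorem D16151 : act 9 n11100 = n16151 := rfl
theorem F70407 : act 2 n16151 = n11111 := d23_1 D16151 (iv D11111) (iv F49348)
def n16152 : Q := act 8 n11101
theorem D16152 : act 8 n11101 = n16152 := rfl
theorem F70410 : act 0 n16152 = n11121 := d7_1 D16152 (iv D11121) (iv F49351)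
theorem F70411 : act 2 n16152 = n11112 := d22_1 D16152 (iv D11112) (iv F49352)
def n16153 : Q := act 3 n11102
theorem D16153 : act 3 n11102 = n16153 := rfl
theorem F70414 : act 0 n16153 = n11122 := d2_1 D16153 (iv D11122) (iv F49354)
theorem F70415 : act 2 n16153 = n11399 := d17_1 D16153 (iv D11399) F35598 (iv F34759) (iv F49355)
def n16154 : Q := act 9 n11102
theorem D16154 : act 9 n11102 = n16154 := rfl
def n16155 : Q := act 4 n11103
theorem D16155 : act 4 n11103 = n16155 := rfl
def n16157 : Q := act 5 n11105
theorem D16157 : act 5 n11105 = n16157 := rfl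
def n16158 : Q := act 9 n11105
theorem D16158 : act 9 n11105 = n16158 := rfl
theorem F70434 : act 4 n16158 = n11106 := d34_1 D16158 (iv D11106) D11105
def n16159 : Q := act 8 n11106
theorem D16159 : act 8 n11106 = n16159 := rfl
theorem F70436 : act 0 n16159 = n11128 := d7_1 D16159 (iv D11128) (iv F49368)
theorem F70437 : act 2 n16159 = n11405 := d22_1 D16159 (iv D11405) (iv F49369)
def n16160 : Q := act 7 n11107
theorem D16160 : act 7 n11107 = n16160 := rfl
theorem F70443 : act 5 n16160 = n11108 := d36_1 D16160 (iv D11108) D11107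
def n16162 : Q := act 8 n11108
theorem D16162 : act 8 n11108 = n16162 := rfl
def n16163 : Q := act 3 n11109
theorem D16163 : act 3 n11109 = n16163 := rfl
theorem F70456 : act 6 n16163 = n11110 := d26_2 (iv F49384) D16163 (iv D11110)
def n16164 : Q := act 9 n11109
theorem D16164 : act 9 n11109 = n16164 := rfl
def n16165 : Q := act 2 n11110
theorem D16165 : act 2 n11110 = n16165 := rfl
theorem F70463 : act 4 n16165 = n11409 := d18_2 (iv F49387) D16165 (iv D11409)
def n16166 : Q := act 9 n11110
theorem D16166 : act 9 n11110 = n16166 := rfl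
theorem F70468 : act 3 n16166 = n11111 := d29_1 D16166 (iv D11111) D11110
def n16167 : Q := act 9 n11112
theorem D16167 : act 9 n11112 = n16167 := rfl
theorem F70474 : act 5 n16167 = n11231 := d38_1 D16167 (iv D11231) (iv F49397)
def n16168 : Q := act 5 n11114
theorem D16168 : act 5 n11114 = n16168 := rfl
theorem F70477 : act 3 n16168 = n11116 := d25_1 D16168 (iv D11116) (iv F49405)
def n16169 : Q := act 7 n11114
theorem D16169 : act 7 n11114 = n16169 := rfl
theorem F70480 : act 3 n16169 = n11117 := d27_1 D16169 (iv D11117) (iv F49405)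
def n16170 : Q := act 8 n11114
theorem D16170 : act 8 n11114 = n16170 := rfl
theorem F70481 : act 2 n16170 = n16170 := d22_1 D16170 (iv D16170) F49404
theorem F70482 : act 6 n16170 = n11115 := d40_1 D16170 (iv D11115) D11114
def n16171 : Q := act 3 n11115
theorem D16171 : act 3 n11115 = n16171 := rfl
theorem F70483 : act 5 n16171 = n16171 := d25_2 F49407 D16171 (iv D16171)
theorem F70484 : act 8 n16171 = n11119 := d28_2 D11115 D16171 (iv D11119) (iv D7655) D7653
def n16172 : Q := act 9 n11115
theorem D16172 : act 9 n11115 = n16172 := rfl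
theorem F70485 : act 2 n16172 = n16172 := d23_1 D16172 (iv D16172) F49406
theorem F70486 : act 5 n16172 = n16172 := d38_1 D16172 (iv D16172) F49407
def n16173 : Q := act 7 n11116
theorem D16173 : act 7 n11116 = n16173 := rfl
theorem F70488 : act 4 n16173 = n11237 := d32_1 D16173 (iv D11237) (iv F49409)
theorem F70489 : act 5 n16173 = n11117 := d36_1 D16173 (iv D11117) D11116
def n16174 : Q := act 8 n11116
theorem D16174 : act 8 n11116 = n16174 := rfl
theorem F70490 : act 2 n16174 = n11130 := d22_1 D16174 (iv D11130) (iv F49408)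
theorem F70491 : act 4 n16174 = n11238 := d33_1 D16174 (iv D11238) (iv F49409)
def n16175 : Q := act 8 n11117
theorem D16175 : act 8 n11117 = n16175 := rfl
theorem F70494 : act 2 n16175 = n11131 := d22_1 D16175 (iv D11131) (iv F49411)
def n16176 : Q := act 3 n11118
theorem D16176 : act 3 n11118 = n16176 := rfl
theorem F70497 : act 6 n16176 = n11119 := d26_2 (iv F49415) D16176 (iv D11119)
def n16177 : Q := act 9 n11118
theorem D16177 : act 9 n11118 = n16177 := rfl
theorem F70498 : act 2 n16177 = n11133 := d23_1 D16177 (iv D11133) (iv F49413)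
theorem F70499 : act 4 n16177 = n11123 := d34_1 D16177 (iv D11123) (iv F49414)
theorem F70500 : act 6 n16177 = n11120 := d41_1 D16177 (iv D11120) (iv F49415)
def n16178 : Q := act 2 n11119
theorem D16178 : act 2 n11119 = n16178 := rfl
theorem F70501 : act 3 n16178 = n11134 := d17_2 D11119 D16178 (iv D11134) (iv D7665) (iv F34770)
def n16179 : Q := act 4 n11119
theorem D16179 : act 4 n11119 = n16179 := rfl
theorem F70503 : act 3 n16179 = n11124 := d24_1 D16179 (iv D11124) (iv D7658) (iv F34771) D11119
def n16180 : Q := act 9 n11119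
theorem D16180 : act 9 n11119 = n16180 := rfl
def n16181 : Q := act 3 n11121
theorem D16181 : act 3 n11121 = n16181 := rfl
theorem F70507 : act 5 n16181 = n11244 := d25_2 (iv F49421) D16181 (iv D11244)
theorem F70508 : act 7 n16181 = n11122 := d27_2 (iv F49422) D16181 (iv D11122)
def n16182 : Q := act 9 n11121
theorem D16182 : act 9 n11121 = n16182 := rfl
theorem F70509 : act 2 n16182 = n11136 := d23_1 D16182 (iv D11136) (iv F49420)
theorem F70510 : act 5 n16182 = n11245 := d38_1 D16182 (iv D11245) (iv F49421)
def n16183 : Q := act 4 n11122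
theorem D16183 : act 4 n11122 = n16183 := rfl
theorem F70512 : act 2 n16183 = n11424 := d18_1 D16183 (iv D11424) (iv F49423)
theorem F70513 : act 6 n16183 = n11124 := d31_2 (iv F49425) D16183 (iv D11124)
def n16184 : Q := act 9 n11122
theorem D16184 : act 9 n11122 = n16184 := rfl
theorem F70515 : act 3 n16184 = n11123 := d29_1 D16184 (iv D11123) D11122
theorem F70516 : act 5 n16184 = n11247 := d38_1 D16184 (iv D11247) (iv F49424)
theorem F70517 : act 6 n16184 = n11125 := d41_1 D16184 (iv D11125) (iv F49425)
def n16185 : Q := act 5 n11124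
theorem D16185 : act 5 n11124 = n16185 := rfl
theorem F70518 : act 2 n16185 = n11426 := d19_1 D16185 (iv D11426) (iv F49429)
theorem F70519 : act 4 n16185 = n11126 := d30_1 D16185 (iv D11126) (iv D7660) (iv F34779) D11124
def n16187 : Q := act 8 n11125
theorem D16187 : act 8 n11125 = n16187 := rfl
def n16188 : Q := act 6 n11126
theorem D16188 : act 6 n11126 = n16188 := rfl
theorem F70524 : act 2 n16188 = n11429 := d20_1 D16188 (iv D11429) (iv F49433)
theorem F70525 : act 3 n16188 = n16188 := d26_1 D16188 (iv D16188) F49434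
theorem F70526 : act 5 n16188 = n11251 := d35_1 D16188 (iv D11251) (iv D7745) (iv F34784) D11126
def n16189 : Q := act 9 n11126
theorem D16189 : act 9 n11126 = n16189 := rfl
theorem F70529 : act 5 n16189 = n11127 := d38_1 D16189 (iv D11127) D11126
def n16190 : Q := act 8 n11127
theorem D16190 : act 8 n11127 = n16190 := rfl
theorem F70531 : act 4 n16190 = n11128 := d33_1 D16190 (iv D11128) (iv F49437)
def n16192 : Q := act 8 n11129
theorem D16192 : act 8 n11129 = n16192 := rfl
theorem F70538 : act 4 n16192 = n11255 := d33_1 D16192 (iv D11255) (iv F49443)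
theorem F70539 : act 5 n16192 = n11131 := d37_1 D16192 (iv D11131) (iv F49444)
def n16193 : Q := act 3 n11130
theorem D16193 : act 3 n11130 = n16193 := rfl
theorem F70543 : act 5 n16193 = n11132 := d25_2 (iv F49447) D16193 (iv D11132)
def n16194 : Q := act 9 n11130
theorem D16194 : act 9 n11130 = n16194 := rfl
theorem F70547 : act 4 n16194 = n11256 := d34_1 D16194 (iv D11256) (iv F49446)
theorem F70548 : act 5 n16194 = n11133 := d38_1 D16194 (iv D11133) (iv F49447)
def n16195 : Q := act 3 n11131
theorem D16195 : act 3 n11131 = n16195 := rfl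
theorem F70551 : act 4 n16195 = n11432 := d24_2 (iv F49450) D16195 (iv D11432) F35693 (iv F34806)
def n16196 : Q := act 9 n11131
theorem D16196 : act 9 n11131 = n16196 := rfl
def n16197 : Q := act 2 n11132
theorem D16197 : act 2 n11132 = n16197 := rfl
theorem F70558 : act 6 n16197 = n11134 := d20_2 (iv F49454) D16197 (iv D11134)
def n16198 : Q := act 9 n11132
theorem D16198 : act 9 n11132 = n16198 := rfl
theorem F70561 : act 3 n16198 = n11133 := d29_1 D16198 (iv D11133) D11132
theorem F70563 : act 6 n16198 = n11135 := d41_1 D16198 (iv D11135) (iv F49454)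
def n16199 : Q := act 1 n11134
theorem D16199 : act 1 n11134 = n16199 := rfl
theorem F70564 : act 2 n16199 = n11145 := d9_2 D11134 D16199 (iv D11145) (iv D7674) (iv F34798)
theorem F70565 : act 4 n16199 = n11436 := d11_2 (iv F49459) D16199 (iv D11436)
def n16200 : Q := act 9 n11134
theorem D16200 : act 9 n11134 = n16200 := rfl
def n16201 : Q := act 8 n11135
theorem D16201 : act 8 n11135 = n16201 := rfl
def n16203 : Q := act 3 n11138
theorem D16203 : act 3 n11138 = n16203 := rfl
theorem F70581 : act 5 n16203 = n11141 := d25_2 (iv F49476) D16203 (iv D11141)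
def n16204 : Q := act 9 n11138
theorem D16204 : act 9 n11138 = n16204 := rfl
theorem F70585 : act 4 n16204 = n11259 := d34_1 D16204 (iv D11259) (iv F49475)
def n16205 : Q := act 2 n11139
theorem D16205 : act 2 n11139 = n16205 := rfl
theorem F70588 : act 0 n16205 = n12569 := d1_1 D16205 (iv D12569) (iv F49478)
theorem F70590 : act 5 n16205 = n11143 := d19_2 (iv F49480) D16205 (iv D11143)
def n16206 : Q := act 9 n11139
theorem D16206 : act 9 n11139 = n16206 := rfl
theorem F70594 : act 3 n16206 = n11140 := d29_1 D16206 (iv D11140) D11139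
theorem F70596 : act 5 n16206 = n11144 := d38_1 D16206 (iv D11144) (iv F49480)
def n16208 : Q := act 9 n11141
theorem D16208 : act 9 n11141 = n16208 := rfl
theorem F70603 : act 3 n16208 = n11142 := d29_1 D16208 (iv D11142) D11141
def n16210 : Q := act 9 n11143
theorem D16210 : act 9 n11143 = n16210 := rfl
theorem F70612 : act 6 n16210 = n11146 := d41_1 D16210 (iv D11146) (iv F49496)
def n16211 : Q := act 8 n11144
theorem D16211 : act 8 n11144 = n16211 := rfl
theorem F70615 : act 6 n16211 = n11147 := d40_1 D16211 (iv D11147) (iv F49501)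
def n16212 : Q := act 0 n11145
theorem D16212 : act 0 n11145 = n16212 := rfl
theorem F70618 : act 4 n16212 = n11444 := d3_2 (iv F49502) D16212 (iv D11444)
def n16213 : Q := act 9 n11145
theorem D16213 : act 9 n11145 = n16213 := rfl
theorem F70622 : act 4 n16213 = n11445 := d34_1 D16213 (iv D11445) (iv F49502)
def n16214 : Q := act 8 n11146
theorem D16214 : act 8 n11146 = n16214 := rfl
def n16215 : Q := act 3 n11148
theorem D16215 : act 3 n11148 = n16215 := rfl
theorem F70629 : act 1 n16215 = n11153 := d10_1 D16215 (iv D11153) (iv F49513)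
theorem F70632 : act 9 n16215 = n11202 := d29_2 (iv F49517) D16215 (iv D11202)
def n16216 : Q := act 6 n11148
theorem D16216 : act 6 n11148 = n16216 := rfl
theorem F70633 : act 1 n16216 = n11154 := d13_1 D16216 (iv D11154) (iv F49513)
theorem F70635 : act 4 n16216 = n11149 := d31_1 D16216 (iv D11149) D11148
theorem F70636 : act 9 n16216 = n11203 := d41_2 (iv F49517) D16216 (iv D11203)
def n16217 : Q := act 8 n11148
theorem D16217 : act 8 n11148 = n16217 := rfl
theorem F70639 : act 4 n16217 = n11150 := d33_1 D16217 (iv D11150) D11148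
def n16218 : Q := act 7 n11149
theorem D16218 : act 7 n11149 = n16218 := rfl
theorem F70642 : act 1 n16218 = n11156 := d14_1 D16218 (iv D11156) (iv F49518)
theorem F70645 : act 9 n16218 = n11205 := d43_2 (iv F49520) D16218 (iv D11205)
def n16219 : Q := act 8 n11149
theorem D16219 : act 8 n11149 = n16219 := rfl
def n16220 : Q := act 3 n11150
theorem D16220 : act 3 n11150 = n16220 := rfl
theorem F70650 : act 5 n16220 = n11151 := d25_2 (iv F49523) D16220 (iv D11151)
def n16223 : Q := act 4 n11151
theorem D16223 : act 4 n11151 = n16223 := rfl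
def n16225 : Q := act 6 n11153
theorem D16225 : act 6 n11153 = n16225 := rfl
theorem F70666 : act 0 n16225 = n11169 := d5_1 D16225 (iv D11169) (iv F49532)
theorem F70667 : act 2 n16225 = n11268 := d20_1 D16225 (iv D11268) (iv F49533)
theorem F70668 : act 3 n16225 = n11154 := d26_1 D16225 (iv D11154) D11153
theorem F70669 : act 9 n16225 = n11212 := d41_2 (iv F49536) D16225 (iv D11212)
def n16226 : Q := act 8 n11153
theorem D16226 : act 8 n11153 = n16226 := rfl
theorem F70670 : act 0 n16226 = n11170 := d7_1 D16226 (iv D11170) (iv F49532)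
theorem F70671 : act 2 n16226 = n11269 := d22_1 D16226 (iv D11269) (iv F49533)
theorem F70672 : act 5 n16226 = n16226 := d37_1 D16226 (iv D16226) F49534
theorem F70673 : act 7 n16226 = n16226 := d42_1 D16226 (iv D16226) F49535
def n16227 : Q := act 5 n11154
theorem D16227 : act 5 n11154 = n16227 := rfl
theorem F70674 : act 0 n16227 = n11171 := d4_1 D16227 (iv D11171) (iv F49537)
theorem F70675 : act 2 n16227 = n11162 := d19_1 D16227 (iv D11162) (iv F49538)
theorem F70676 : act 6 n16227 = n16227 := d35_2 D11154 D16227 (iv D16227) (iv D11154) F34853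
theorem F70677 : act 9 n16227 = n11214 := d38_2 (iv F49540) D16227 (iv D11214)
def n16228 : Q := act 7 n11154
theorem D16228 : act 7 n11154 = n16228 := rfl
theorem F70678 : act 0 n16228 = n11172 := d6_1 D16228 (iv D11172) (iv F49537)
theorem F70679 : act 2 n16228 = n11163 := d21_1 D16228 (iv D11163) (iv F49538)
theorem F70680 : act 4 n16228 = n11156 := d32_1 D16228 (iv D11156) (iv F49539)
theorem F70681 : act 6 n16228 = n16228 := d39_1 D16228 (iv D16228) (iv D11154) F34854 D11154
theorem F70682 : act 9 n16228 = n11215 := d43_2 (iv F49540) D16228 (iv D11215)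
def n16229 : Q := act 8 n11154
theorem D16229 : act 8 n11154 = n16229 := rfl
theorem F70683 : act 0 n16229 = n11173 := d7_1 D16229 (iv D11173) (iv F49537)
theorem F70685 : act 4 n16229 = n11157 := d33_1 D16229 (iv D11157) (iv F49539)
def n16230 : Q := act 3 n11155
theorem D16230 : act 3 n11155 = n16230 := rfl
theorem F70687 : act 0 n16230 = n11174 := d2_1 D16230 (iv D11174) (iv F49541)
def n16232 : Q := act 8 n11156
theorem D16232 : act 8 n11156 = n16232 := rfl
def n16233 : Q := act 3 n11157
theorem D16233 : act 3 n11157 = n16233 := rfl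
theorem F70700 : act 0 n16233 = n11177 := d2_1 D16233 (iv D11177) (iv F49550)
def n16234 : Q := act 9 n11157
theorem D16234 : act 9 n11157 = n16234 := rfl
def n16235 : Q := act 4 n11158
theorem D16235 : act 4 n11158 = n16235 := rfl
def n16236 : Q := act 9 n11158
theorem D16236 : act 9 n11158 = n16236 := rfl
theorem F70713 : act 5 n16236 = n11161 := d38_1 D16236 (iv D11161) (iv F49555)
def n16237 : Q := act 5 n11160
theorem D16237 : act 5 n11160 = n16237 := rfl
def n16238 : Q := act 9 n11160
theorem D16238 : act 9 n11160 = n16238 := rfl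
def n16240 : Q := act 7 n11162
theorem D16240 : act 7 n11162 = n16240 := rfl
theorem F70731 : act 5 n16240 = n11163 := d36_1 D16240 (iv D11163) D11162
theorem F70732 : act 9 n16240 = n11227 := d43_2 (iv F49574) D16240 (iv D11227)
def n16242 : Q := act 8 n11163
theorem D16242 : act 8 n11163 = n16242 := rfl
theorem F70739 : act 4 n16242 = n11167 := d33_1 D16242 (iv D11167) (iv F49578)
def n16243 : Q := act 3 n11164
theorem D16243 : act 3 n11164 = n16243 := rfl
theorem F70745 : act 6 n16243 = n11165 := d26_2 (iv F49584) D16243 (iv D11165)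
theorem F70746 : act 8 n16243 = n11281 := d28_2 D11164 D16243 (iv D11281) (iv D7770) (iv F34873)
def n16244 : Q := act 9 n11164
theorem D16244 : act 9 n11164 = n16244 := rfl
theorem F70749 : act 4 n16244 = n11168 := d34_1 D16244 (iv D11168) (iv F49583)
def n16245 : Q := act 2 n11165
theorem D16245 : act 2 n11165 = n16245 := rfl
theorem F70752 : act 0 n16245 = n11189 := d1_1 D16245 (iv D11189) (iv F49585)
theorem F70756 : act 8 n16245 = n11282 := d22_2 (iv F49590) D16245 (iv D11282)
def n16246 : Q := act 9 n11165
theorem D16246 : act 9 n11165 = n16246 := rfl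
theorem F70759 : act 3 n16246 = n11166 := d29_1 D16246 (iv D11166) D11165
def n16247 : Q := act 9 n11167
theorem D16247 : act 9 n11167 = n16247 := rfl
theorem F70765 : act 1 n16247 = n12611 := d16_1 D16247 (iv D12611) (iv F49598)
theorem F70769 : act 8 n16247 = n11231 := d44_1 D16247 (iv D11231) (iv D7731) (iv F34885) D11167
def n16248 : Q := act 5 n11169
theorem D16248 : act 5 n11169 = n16248 := rfl
theorem F70770 : act 2 n16248 = n11283 := d19_1 D16248 (iv D11283) (iv F49607)
theorem F70771 : act 3 n16248 = n11171 := d25_1 D16248 (iv D11171) (iv F49608)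
theorem F70772 : act 6 n16248 = n16248 := d35_2 D11169 D16248 (iv D16248) (iv D11169) F34897
theorem F70773 : act 9 n16248 = n11232 := d38_2 (iv F49609) D16248 (iv D11232)
def n16249 : Q := act 7 n11169
theorem D16249 : act 7 n11169 = n16249 := rfl
theorem F70774 : act 2 n16249 = n11284 := d21_1 D16249 (iv D11284) (iv F49607)
theorem F70775 : act 3 n16249 = n11172 := d27_1 D16249 (iv D11172) (iv F49608)
theorem F70776 : act 6 n16249 = n16249 := d39_1 D16249 (iv D16249) (iv D11169) F34898 D11169
theorem F70777 : act 9 n16249 = n11233 := d43_2 (iv F49609) D16249 (iv D11233)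
def n16250 : Q := act 8 n11169
theorem D16250 : act 8 n11169 = n16250 := rfl
theorem F70778 : act 2 n16250 = n11285 := d22_1 D16250 (iv D11285) (iv F49607)
theorem F70779 : act 6 n16250 = n11170 := d40_1 D16250 (iv D11170) D11169
def n16251 : Q := act 3 n11170
theorem D16251 : act 3 n11170 = n16251 := rfl
theorem F70780 : act 5 n16251 = n16251 := d25_2 F49611 D16251 (iv D16251)
theorem F70781 : act 7 n16251 = n16251 := d27_2 F49612 D16251 (iv D16251)
theorem F70782 : act 8 n16251 = n11174 := d28_2 D11170 D16251 (iv D11174) (iv D7691) D7689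
def n16252 : Q := act 9 n11170
theorem D16252 : act 9 n11170 = n16252 := rfl
theorem F70783 : act 2 n16252 = n11287 := d23_1 D16252 (iv D11287) (iv F49610)
theorem F70784 : act 5 n16252 = n16252 := d38_1 D16252 (iv D16252) F49611
theorem F70785 : act 7 n16252 = n16252 := d43_1 D16252 (iv D16252) F49612
theorem F70786 : act 8 n16252 = n11236 := d44_1 D16252 (iv D11236) (iv D7734) (iv F34899) D11170
def n16253 : Q := act 7 n11171
theorem D16253 : act 7 n11171 = n16253 := rfl
theorem F70788 : act 5 n16253 = n11172 := d36_1 D16253 (iv D11172) D11171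
def n16254 : Q := act 8 n11171
theorem D16254 : act 8 n11171 = n16254 := rfl
theorem F70791 : act 5 n16254 = n11173 := d37_1 D16254 (iv D11173) D11171
def n16255 : Q := act 8 n11172
theorem D16255 : act 8 n11172 = n16255 := rfl
theorem F70794 : act 4 n16255 = n11176 := d33_1 D16255 (iv D11176) (iv F49617)
theorem F70796 : act 7 n16255 = n11173 := d42_1 D16255 (iv D11173) D11172
def n16256 : Q := act 3 n11173
theorem D16256 : act 3 n11173 = n16256 := rfl
theorem F70797 : act 6 n16256 = n11174 := d26_2 (iv F49622) D16256 (iv D11174)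
def n16257 : Q := act 9 n11173
theorem D16257 : act 9 n11173 = n16257 := rfl
theorem F70799 : act 4 n16257 = n11178 := d34_1 D16257 (iv D11178) (iv F49621)
theorem F70801 : act 8 n16257 = n11241 := d44_1 D16257 (iv D11241) (iv D7737) (iv F34902) D11173
def n16258 : Q := act 2 n11174
theorem D16258 : act 2 n11174 = n16258 := rfl
theorem F70802 : act 3 n16258 = n11189 := d17_2 D11174 D16258 (iv D11189) (iv D7701) (iv F34903)
theorem F70803 : act 5 n16258 = n16258 := d19_2 F49623 D16258 (iv D16258)
theorem F70804 : act 7 n16258 = n16258 := d21_2 F49624 D16258 (iv D16258)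
def n16259 : Q := act 4 n11174
theorem D16259 : act 4 n11174 = n16259 := rfl
theorem F70805 : act 3 n16259 = n11179 := d24_1 D16259 (iv D11179) (iv D7694) (iv F34904) D11174
def n16260 : Q := act 9 n11174
theorem D16260 : act 9 n11174 = n16260 := rfl
theorem F70807 : act 3 n16260 = n11175 := d29_1 D16260 (iv D11175) D11174
def n16261 : Q := act 3 n11176
theorem D16261 : act 3 n11176 = n16261 := rfl
def n16262 : Q := act 9 n11176
theorem D16262 : act 9 n11176 = n16262 := rfl
theorem F70816 : act 8 n16262 = n11245 := d44_1 D16262 (iv D11245) (iv D7740) (iv F34909) D11176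
def n16263 : Q := act 4 n11177
theorem D16263 : act 4 n11177 = n16263 := rfl
theorem F70818 : act 6 n16263 = n11179 := d31_2 (iv F49634) D16263 (iv D11179)
def n16264 : Q := act 9 n11177
theorem D16264 : act 9 n11177 = n16264 := rfl
theorem F70820 : act 3 n16264 = n11178 := d29_1 D16264 (iv D11178) D11177
def n16265 : Q := act 5 n11179
theorem D16265 : act 5 n11179 = n16265 := rfl
theorem F70823 : act 4 n16265 = n11181 := d30_1 D16265 (iv D11181) (iv D7696) (iv F34913) D11179
def n16266 : Q := act 9 n11179
theorem D16266 : act 9 n11179 = n16266 := rfl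
theorem F70826 : act 4 n16266 = n11180 := d34_1 D16266 (iv D11180) D11179
def n16267 : Q := act 8 n11180
theorem D16267 : act 8 n11180 = n16267 := rfl
theorem F70829 : act 3 n16267 = n11250 := d28_1 D16267 (iv D11250) F35099 (iv F34918) (iv F49641)
theorem F70830 : act 5 n16267 = n11183 := d37_1 D16267 (iv D11183) (iv F49642)
def n16269 : Q := act 9 n11181
theorem D16269 : act 9 n11181 = n16269 := rfl
theorem F70836 : act 5 n16269 = n11182 := d38_1 D16269 (iv D11182) D11181
def n16270 : Q := act 8 n11182
theorem D16270 : act 8 n11182 = n16270 := rfl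
theorem F70839 : act 4 n16270 = n11183 := d33_1 D16270 (iv D11183) (iv F49649)
def n16272 : Q := act 8 n11184
theorem D16272 : act 8 n11184 = n16272 := rfl
def n16273 : Q := act 3 n11185
theorem D16273 : act 3 n11185 = n16273 := rfl
theorem F70850 : act 5 n16273 = n11187 := d25_2 (iv F49659) D16273 (iv D11187)
theorem F70852 : act 8 n16273 = n11300 := d28_2 D11185 D16273 (iv D11300) (iv D7784) (iv F34926)
def n16274 : Q := act 9 n11185
theorem D16274 : act 9 n11185 = n16274 := rfl
def n16275 : Q := act 3 n11186
theorem D16275 : act 3 n11186 = n16275 := rfl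
theorem F70860 : act 7 n16275 = n11187 := d27_2 (iv F49664) D16275 (iv D11187)
theorem F70861 : act 8 n16275 = n11301 := d28_2 D11186 D16275 (iv D11301) (iv D7785) (iv F34930)
def n16276 : Q := act 9 n11186
theorem D16276 : act 9 n11186 = n16276 := rfl
theorem F70866 : act 8 n16276 = n11257 := d44_1 D16276 (iv D11257) (iv D7750) (iv F34933) D11186
def n16277 : Q := act 2 n11187
theorem D16277 : act 2 n11187 = n16277 := rfl
theorem F70867 : act 4 n16277 = n16277 := d18_2 F49666 D16277 (iv D16277)
theorem F70868 : act 6 n16277 = n11189 := d20_2 (iv F49667) D16277 (iv D11189)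
theorem F70869 : act 8 n16277 = n11302 := d22_2 (iv F49668) D16277 (iv D11302)
def n16279 : Q := act 1 n11189
theorem D16279 : act 1 n11189 = n16279 := rfl
theorem F70875 : act 2 n16279 = n11200 := d9_2 D11189 D16279 (iv D11200) (iv D7710) (iv F34937)
theorem F70879 : act 8 n16279 = n11303 := d15_2 (iv F49676) D16279 (iv D11303)
def n16281 : Q := act 8 n11192
theorem D16281 : act 8 n11192 = n16281 := rfl
theorem F70887 : act 6 n16281 = n11193 := d40_1 D16281 (iv D11193) D11192
def n16282 : Q := act 3 n11193
theorem D16282 : act 3 n11193 = n16282 := rfl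
theorem F70890 : act 5 n16282 = n11196 := d25_2 (iv F49694) D16282 (iv D11196)
theorem F70892 : act 8 n16282 = n11305 := d28_2 D11193 D16282 (iv D11305) (iv D7789) (iv F34956)
def n16283 : Q := act 9 n11193
theorem D16283 : act 9 n11193 = n16283 := rfl
theorem F70894 : act 5 n16283 = n11197 := d38_1 D16283 (iv D11197) (iv F49694)
def n16284 : Q := act 2 n11194
theorem D16284 : act 2 n11194 = n16284 := rfl
theorem F70898 : act 5 n16284 = n11198 := d19_2 (iv F49697) D16284 (iv D11198)
theorem F70900 : act 8 n16284 = n11306 := d22_2 (iv F49699) D16284 (iv D11306)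
def n16286 : Q := act 9 n11194
theorem D16286 : act 9 n11194 = n16286 := rfl
theorem F70906 : act 3 n16286 = n11195 := d29_1 D16286 (iv D11195) D11194
def n16287 : Q := act 2 n11196
theorem D16287 : act 2 n11196 = n16287 := rfl
theorem F70913 : act 7 n16287 = n11198 := d21_2 (iv F49707) D16287 (iv D11198)
def n16289 : Q := act 1 n11198
theorem D16289 : act 1 n11198 = n16289 := rfl
theorem F70922 : act 6 n16289 = n11200 := d13_2 (iv F49716) D16289 (iv D11200)
theorem F70923 : act 8 n16289 = n11309 := d15_2 (iv F49717) D16289 (iv D11309)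
def n16291 : Q := act 0 n11200
theorem D16291 : act 0 n11200 = n16291 := rfl
theorem F70933 : act 8 n16291 = n11310 := d7_2 (iv F49726) D16291 (iv D11310)
def n16292 : Q := act 9 n11200
theorem D16292 : act 9 n11200 = n16292 := rfl
def n16293 : Q := act 2 n11202
theorem D16293 : act 2 n11202 = n16293 := rfl
theorem F70939 : act 1 n16293 = n11311 := d9_1 D16293 (iv D11311) F35332 (iv F35007) (iv F49733)
def n16294 : Q := act 6 n11202
theorem D16294 : act 6 n11202 = n16294 := rfl
theorem F70943 : act 1 n16294 = n11212 := d13_1 D16294 (iv D11212) (iv F49733)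
theorem F70944 : act 3 n16294 = n11203 := d26_1 D16294 (iv D11203) D11202
def n16295 : Q := act 8 n11202
theorem D16295 : act 8 n11202 = n16295 := rfl
def n16296 : Q := act 5 n11203
theorem D16296 : act 5 n11203 = n16296 := rfl
def n16297 : Q := act 7 n11203
theorem D16297 : act 7 n11203 = n16297 := rfl
theorem F70951 : act 1 n16297 = n11215 := d14_1 D16297 (iv D11215) (iv F49736)
def n16298 : Q := act 8 n11203
theorem D16298 : act 8 n11203 = n16298 := rfl
theorem F70957 : act 4 n16298 = n11206 := d33_1 D16298 (iv D11206) (iv F49738)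
def n16299 : Q := act 3 n11204
theorem D16299 : act 3 n11204 = n16299 := rfl
def n16301 : Q := act 8 n11205
theorem D16301 : act 8 n11205 = n16301 := rfl
def n16312 : Q := act 5 n11212
theorem D16312 : act 5 n11212 = n16312 := rfl
theorem F71002 : act 0 n16312 = n11232 := d4_1 D16312 (iv D11232) (iv F49766)
theorem F71003 : act 2 n16312 = n11316 := d19_1 D16312 (iv D11316) (iv F49767)
theorem F71004 : act 3 n16312 = n11214 := d25_1 D16312 (iv D11214) (iv F49768)
theorem F71005 : act 6 n16312 = n16312 := d35_2 D11212 D16312 (iv D16312) (iv D11212) F35008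
def n16313 : Q := act 7 n11212
theorem D16313 : act 7 n11212 = n16313 := rfl
theorem F71006 : act 0 n16313 = n11233 := d6_1 D16313 (iv D11233) (iv F49766)
theorem F71007 : act 2 n16313 = n11317 := d21_1 D16313 (iv D11317) (iv F49767)
theorem F71008 : act 3 n16313 = n11215 := d27_1 D16313 (iv D11215) (iv F49768)
theorem F71009 : act 6 n16313 = n16313 := d39_1 D16313 (iv D16313) (iv D11212) F35009 D11212
def n16314 : Q := act 8 n11212
theorem D16314 : act 8 n11212 = n16314 := rfl
theorem F71010 : act 0 n16314 = n11234 := d7_1 D16314 (iv D11234) (iv F49766)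
theorem F71011 : act 2 n16314 = n11318 := d22_1 D16314 (iv D11318) (iv F49767)
theorem F71012 : act 6 n16314 = n11213 := d40_1 D16314 (iv D11213) D11212
def n16315 : Q := act 3 n11213
theorem D16315 : act 3 n11213 = n16315 := rfl
theorem F71017 : act 8 n16315 = n11217 := d28_2 D11213 D16315 (iv D11217) (iv D7720) D7718
def n16316 : Q := act 9 n11213
theorem D16316 : act 9 n11213 = n16316 := rfl
theorem F71018 : act 0 n16316 = n11236 := d8_1 D16316 (iv D11236) (iv F49769)
theorem F71019 : act 2 n16316 = n11319 := d23_1 D16316 (iv D11319) (iv F49770)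
theorem F71020 : act 5 n16316 = n16316 := d38_1 D16316 (iv D16316) F49771
theorem F71021 : act 7 n16316 = n16316 := d43_1 D16316 (iv D16316) F49772
def n16317 : Q := act 7 n11214
theorem D16317 : act 7 n11214 = n16317 := rfl
def n16318 : Q := act 8 n11214
theorem D16318 : act 8 n11214 = n16318 := rfl
theorem F71027 : act 5 n16318 = n11216 := d37_1 D16318 (iv D11216) D11214
def n16319 : Q := act 8 n11215
theorem D16319 : act 8 n11215 = n16319 := rfl
theorem F71031 : act 4 n16319 = n11219 := d33_1 D16319 (iv D11219) (iv F49778)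
theorem F71033 : act 7 n16319 = n11216 := d42_1 D16319 (iv D11216) D11215
def n16320 : Q := act 3 n11216
theorem D16320 : act 3 n11216 = n16320 := rfl
def n16321 : Q := act 9 n11216
theorem D16321 : act 9 n11216 = n16321 := rfl
def n16322 : Q := act 4 n11217
theorem D16322 : act 4 n11217 = n16322 := rfl
theorem F71043 : act 3 n16322 = n11222 := d24_1 D16322 (iv D11222) (iv D7723) (iv F35015) D11217
def n16328 : Q := act 5 n11222
theorem D16328 : act 5 n11222 = n16328 := rfl
theorem F71067 : act 4 n16328 = n11224 := d30_1 D16328 (iv D11224) (iv D7725) (iv F35026) D11222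
def n16329 : Q := act 9 n11222
theorem D16329 : act 9 n11222 = n16329 := rfl
theorem F71071 : act 4 n16329 = n11223 := d34_1 D16329 (iv D11223) D11222
def n16331 : Q := act 6 n11224
theorem D16331 : act 6 n11224 = n16331 := rfl
def n16332 : Q := act 9 n11224
theorem D16332 : act 9 n11224 = n16332 := rfl
theorem F71083 : act 5 n16332 = n11225 := d38_1 D16332 (iv D11225) D11224
def n16335 : Q := act 8 n11227
theorem D16335 : act 8 n11227 = n16335 := rfl
def n16337 : Q := act 9 n11229
theorem D16337 : act 9 n11229 = n16337 := rfl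
theorem F71107 : act 4 n16337 = n11231 := d34_1 D16337 (iv D11231) (iv F49835)
def n16338 : Q := act 4 n11232
theorem D16338 : act 4 n11232 = n16338 := rfl
theorem F71110 : act 2 n16338 = n11322 := d18_1 D16338 (iv D11322) (iv F49848)
theorem F71111 : act 6 n16338 = n16338 := d31_2 F49850 D16338 (iv D16338)
def n16339 : Q := act 7 n11232
theorem D16339 : act 7 n11232 = n16339 := rfl
theorem F71112 : act 2 n16339 = n11323 := d21_1 D16339 (iv D11323) (iv F49848)
theorem F71113 : act 3 n16339 = n11237 := d27_1 D16339 (iv D11237) (iv F49849)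
theorem F71114 : act 5 n16339 = n11233 := d36_1 D16339 (iv D11233) D11232
def n16340 : Q := act 8 n11232
theorem D16340 : act 8 n11232 = n16340 := rfl
theorem F71115 : act 2 n16340 = n11324 := d22_1 D16340 (iv D11324) (iv F49848)
theorem F71116 : act 5 n16340 = n11234 := d37_1 D16340 (iv D11234) D11232
theorem F71117 : act 6 n16340 = n16340 := d40_1 D16340 (iv D16340) F49850
def n16341 : Q := act 8 n11233
theorem D16341 : act 8 n11233 = n16341 := rfl
theorem F71118 : act 2 n16341 = n11325 := d22_1 D16341 (iv D11325) (iv F49851)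
theorem F71119 : act 6 n16341 = n16341 := d40_1 D16341 (iv D16341) F49853
theorem F71120 : act 7 n16341 = n11234 := d42_1 D16341 (iv D11234) D11233
def n16342 : Q := act 3 n11234
theorem D16342 : act 3 n11234 = n16342 := rfl
theorem F71121 : act 2 n16342 = n16342 := d17_1 D16342 (iv D16342) F49854 F35374 (iv F49854)
theorem F71122 : act 6 n16342 = n11235 := d26_2 (iv F49855) D16342 (iv D11235)
theorem F71123 : act 8 n16342 = n11240 := d28_2 D11234 D16342 (iv D11240) (iv D7737) (iv F35070)
def n16343 : Q := act 9 n11234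
theorem D16343 : act 9 n11234 = n16343 := rfl
theorem F71124 : act 2 n16343 = n11326 := d23_1 D16343 (iv D11326) (iv F49854)
theorem F71125 : act 6 n16343 = n11236 := d41_1 D16343 (iv D11236) (iv F49855)
def n16344 : Q := act 4 n11235
theorem D16344 : act 4 n11235 = n16344 := rfl
theorem F71126 : act 2 n16344 = n16344 := d18_1 D16344 (iv D16344) F49856
theorem F71127 : act 7 n16344 = n16344 := d32_2 F49858 D16344 (iv D16344)
theorem F71128 : act 8 n16344 = n11242 := d33_2 (iv F49859) D16344 (iv D11242)
def n16345 : Q := act 9 n11235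
theorem D16345 : act 9 n11235 = n16345 := rfl
theorem F71129 : act 2 n16345 = n16345 := d23_1 D16345 (iv D16345) F49856
theorem F71130 : act 3 n16345 = n11236 := d29_1 D16345 (iv D11236) D11235
theorem F71131 : act 5 n16345 = n16345 := d38_1 D16345 (iv D16345) F49857
theorem F71132 : act 7 n16345 = n16345 := d43_1 D16345 (iv D16345) F49858
def n16346 : Q := act 6 n11237
theorem D16346 : act 6 n11237 = n16346 := rfl
def n16347 : Q := act 8 n11237
theorem D16347 : act 8 n11237 = n16347 := rfl
theorem F71137 : act 5 n16347 = n11239 := d37_1 D16347 (iv D11239) (iv F49864)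
def n16348 : Q := act 3 n11238
theorem D16348 : act 3 n11238 = n16348 := rfl
theorem F71140 : act 5 n16348 = n11240 := d25_2 (iv F49866) D16348 (iv D11240)
def n16349 : Q := act 9 n11238
theorem D16349 : act 9 n11238 = n16349 := rfl
theorem F71143 : act 5 n16349 = n11241 := d38_1 D16349 (iv D11241) (iv F49866)
def n16350 : Q := act 3 n11239
theorem D16350 : act 3 n11239 = n16350 := rfl
theorem F71147 : act 7 n16350 = n11240 := d27_2 (iv F49871) D16350 (iv D11240)
def n16351 : Q := act 9 n11239
theorem D16351 : act 9 n11239 = n16351 := rfl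
theorem F71149 : act 4 n16351 = n11245 := d34_1 D16351 (iv D11245) (iv F49869)
def n16352 : Q := act 4 n11240
theorem D16352 : act 4 n11240 = n16352 := rfl
theorem F71152 : act 2 n16352 = n16352 := d18_1 D16352 (iv D16352) F49872
theorem F71153 : act 3 n16352 = n11246 := d24_1 D16352 (iv D11246) (iv D7741) (iv F35080) D11240
theorem F71154 : act 6 n16352 = n11242 := d31_2 (iv F49873) D16352 (iv D11242)
def n16353 : Q := act 9 n11240
theorem D16353 : act 9 n11240 = n16353 := rfl
def n16354 : Q := act 5 n11242
theorem D16354 : act 5 n11242 = n16354 := rfl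
theorem F71158 : act 2 n16354 = n16354 := d19_1 D16354 (iv D16354) F49877
theorem F71159 : act 3 n16354 = n11248 := d25_1 D16354 (iv D11248) (iv F49878)
theorem F71160 : act 4 n16354 = n16354 := d30_1 D16354 (iv D16354) (iv D11242) F35083 D11242
theorem F71161 : act 7 n16354 = n16354 := d36_2 F49879 D16354 (iv D16354)
def n16355 : Q := act 9 n11242
theorem D16355 : act 9 n11242 = n16355 := rfl
theorem F71163 : act 3 n16355 = n11249 := d29_1 D16355 (iv D11249) (iv F49878)
def n16356 : Q := act 8 n11243
theorem D16356 : act 8 n11243 = n16356 := rfl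
def n16357 : Q := act 4 n11244
theorem D16357 : act 4 n11244 = n16357 := rfl
theorem F71169 : act 2 n16357 = n11468 := d18_1 D16357 (iv D11468) (iv F49884)
theorem F71170 : act 6 n16357 = n16357 := d31_2 F49885 D16357 (iv D16357)
theorem F71171 : act 7 n16357 = n11246 := d32_2 (iv F49886) D16357 (iv D11246)
def n16358 : Q := act 9 n11244
theorem D16358 : act 9 n11244 = n16358 := rfl
theorem F71173 : act 3 n16358 = n11245 := d29_1 D16358 (iv D11245) D11244
def n16359 : Q := act 5 n11246
theorem D16359 : act 5 n11246 = n16359 := rfl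
theorem F71176 : act 2 n16359 = n11470 := d19_1 D16359 (iv D11470) (iv F49890)
def n16360 : Q := act 9 n11246
theorem D16360 : act 9 n11246 = n16360 := rfl
theorem F71178 : act 4 n16360 = n11247 := d34_1 D16360 (iv D11247) D11246
def n16361 : Q := act 8 n11247
theorem D16361 : act 8 n11247 = n16361 := rfl
def n16362 : Q := act 6 n11248
theorem D16362 : act 6 n11248 = n16362 := rfl
theorem F71182 : act 2 n16362 = n11473 := d20_1 D16362 (iv D11473) (iv F49895)
theorem F71183 : act 4 n16362 = n11251 := d31_1 D16362 (iv D11251) (iv F49896)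
def n16363 : Q := act 9 n11248
theorem D16363 : act 9 n11248 = n16363 := rfl
theorem F71185 : act 4 n16363 = n11252 := d34_1 D16363 (iv D11252) (iv F49896)
theorem F71186 : act 5 n16363 = n11249 := d38_1 D16363 (iv D11249) D11248
def n16364 : Q := act 8 n11249
theorem D16364 : act 8 n11249 = n16364 := rfl
theorem F71189 : act 4 n16364 = n11250 := d33_1 D16364 (iv D11250) (iv F49899)
def n16365 : Q := act 7 n11251
theorem D16365 : act 7 n11251 = n16365 := rfl
theorem F71191 : act 2 n16365 = n11476 := d21_1 D16365 (iv D11476) (iv F49904)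
theorem F71192 : act 3 n16365 = n16365 := d27_1 D16365 (iv D16365) F49905
theorem F71193 : act 6 n16365 = n16365 := d39_1 D16365 (iv D16365) (iv D11251) F35104 D11251
def n16366 : Q := act 9 n11251
theorem D16366 : act 9 n11251 = n16366 := rfl
theorem F71196 : act 6 n16366 = n11252 := d41_1 D16366 (iv D11252) D11251
def n16367 : Q := act 8 n11252
theorem D16367 : act 8 n11252 = n16367 := rfl
def n16368 : Q := act 3 n11253
theorem D16368 : act 3 n11253 = n16368 := rfl
def n16370 : Q := act 9 n11255
theorem D16370 : act 9 n11255 = n16370 := rfl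
def n16371 : Q := act 9 n11258
theorem D16371 : act 9 n11258 = n16371 := rfl
def n16372 : Q := act 2 n11260
theorem D16372 : act 2 n11260 = n16372 := rfl
theorem F71217 : act 3 n16372 = n12736 := d17_2 D11260 D16372 (iv D12736) (iv D8772) (iv F35150)
def n16373 : Q := act 6 n11260
theorem D16373 : act 6 n11260 = n16373 := rfl
theorem F71222 : act 1 n16373 = n11268 := d13_1 D16373 (iv D11268) (iv F49940)
theorem F71224 : act 9 n16373 = n11312 := d41_2 (iv F49943) D16373 (iv D11312)
def n16374 : Q := act 8 n11260
theorem D16374 : act 8 n11260 = n16374 := rfl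
theorem F71226 : act 1 n16374 = n11269 := d15_1 D16374 (iv D11269) (iv F49940)
def n16375 : Q := act 5 n11261
theorem D16375 : act 5 n11261 = n16375 := rfl
theorem F71230 : act 1 n16375 = n11270 := d12_1 D16375 (iv D11270) (iv F49945)
theorem F71231 : act 2 n16375 = n12739 := d19_1 D16375 (iv D12739) (iv F49946)
theorem F71234 : act 9 n16375 = n11314 := d38_2 (iv F49948) D16375 (iv D11314)
def n16376 : Q := act 7 n11261
theorem D16376 : act 7 n11261 = n16376 := rfl
theorem F71236 : act 1 n16376 = n11271 := d14_1 D16376 (iv D11271) (iv F49945)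
theorem F71237 : act 2 n16376 = n12740 := d21_1 D16376 (iv D12740) (iv F49946)
theorem F71240 : act 9 n16376 = n11315 := d43_2 (iv F49948) D16376 (iv D11315)
def n16385 : Q := act 5 n11268
theorem D16385 : act 5 n11268 = n16385 := rfl
theorem F71285 : act 0 n16385 = n11283 := d4_1 D16385 (iv D11283) (iv F49985)
theorem F71286 : act 3 n16385 = n11270 := d25_1 D16385 (iv D11270) (iv F49986)
theorem F71287 : act 6 n16385 = n16385 := d35_2 D11268 D16385 (iv D16385) (iv D11268) F35171
theorem F71288 : act 9 n16385 = n11316 := d38_2 (iv F49987) D16385 (iv D11316)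
def n16386 : Q := act 7 n11268
theorem D16386 : act 7 n11268 = n16386 := rfl
theorem F71289 : act 0 n16386 = n11284 := d6_1 D16386 (iv D11284) (iv F49985)
theorem F71290 : act 3 n16386 = n11271 := d27_1 D16386 (iv D11271) (iv F49986)
theorem F71291 : act 6 n16386 = n16386 := d39_1 D16386 (iv D16386) (iv D11268) F35172 D11268
theorem F71292 : act 9 n16386 = n11317 := d43_2 (iv F49987) D16386 (iv D11317)
def n16387 : Q := act 8 n11268
theorem D16387 : act 8 n11268 = n16387 := rfl
theorem F71293 : act 0 n16387 = n11285 := d7_1 D16387 (iv D11285) (iv F49985)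
theorem F71294 : act 6 n16387 = n11269 := d40_1 D16387 (iv D11269) D11268
def n16388 : Q := act 3 n11269
theorem D16388 : act 3 n11269 = n16388 := rfl
theorem F71295 : act 0 n16388 = n11286 := d2_1 D16388 (iv D11286) (iv F49988)
def n16389 : Q := act 9 n11269
theorem D16389 : act 9 n11269 = n16389 := rfl
theorem F71299 : act 0 n16389 = n11287 := d8_1 D16389 (iv D11287) (iv F49988)
theorem F71300 : act 5 n16389 = n16389 := d38_1 D16389 (iv D16389) F49989
theorem F71301 : act 7 n16389 = n16389 := d43_1 D16389 (iv D16389) F49990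
theorem F71302 : act 8 n16389 = n11319 := d44_1 D16389 (iv D11319) (iv D7798) (iv F35173) D11269
def n16390 : Q := act 7 n11270
theorem D16390 : act 7 n11270 = n16390 := rfl
theorem F71303 : act 0 n16390 = n11288 := d6_1 D16390 (iv D11288) (iv F49991)
theorem F71304 : act 2 n16390 = n11278 := d21_1 D16390 (iv D11278) (iv F49992)
theorem F71307 : act 9 n16390 = n11320 := d43_2 (iv F49995) D16390 (iv D11320)
def n16391 : Q := act 8 n11270
theorem D16391 : act 8 n11270 = n16391 := rfl
theorem F71308 : act 0 n16391 = n11289 := d7_1 D16391 (iv D11289) (iv F49991)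
theorem F71309 : act 2 n16391 = n11279 := d22_1 D16391 (iv D11279) (iv F49992)
def n16392 : Q := act 8 n11271
theorem D16392 : act 8 n11271 = n16392 := rfl
theorem F71314 : act 0 n16392 = n11290 := d7_1 D16392 (iv D11290) (iv F49996)
theorem F71315 : act 2 n16392 = n11280 := d22_1 D16392 (iv D11280) (iv F49997)
def n16393 : Q := act 3 n11272
theorem D16393 : act 3 n11272 = n16393 := rfl
theorem F71320 : act 0 n16393 = n11291 := d2_1 D16393 (iv D11291) (iv F50001)
def n16394 : Q := act 2 n11273
theorem D16394 : act 2 n11273 = n16394 := rfl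
theorem F71324 : act 3 n16394 = n11282 := d17_2 D11273 D16394 (iv D11282) (iv D7771) (iv F35179)
def n16400 : Q := act 6 n11278
theorem D16400 : act 6 n11278 = n16400 := rfl
theorem F71357 : act 9 n16400 = n11321 := d41_2 (iv F50034) D16400 (iv D11321)
def n16404 : Q := act 2 n11281
theorem D16404 : act 2 n11281 = n16404 := rfl
theorem F71375 : act 0 n16404 = n11302 := d1_1 D16404 (iv D11302) (iv F50047)
theorem F71376 : act 4 n16404 = n16404 := d18_2 F50049 D16404 (iv D16404)
theorem F71377 : act 6 n16404 = n11282 := d20_2 (iv F50050) D16404 (iv D11282)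
theorem F71378 : act 9 n16404 = n16404 := d23_2 F50051 D16404 (iv D16404)
def n16405 : Q := act 1 n11282
theorem D16405 : act 1 n11282 = n16405 := rfl
def n16406 : Q := act 4 n11283
theorem D16406 : act 4 n11283 = n16406 := rfl
theorem F71384 : act 1 n16406 = n16406 := d11_1 D16406 (iv D16406) F50057
theorem F71385 : act 3 n16406 = n16406 := d24_1 D16406 (iv D16406) F50058 F35241 (iv F50058)
theorem F71386 : act 6 n16406 = n16406 := d31_2 F50059 D16406 (iv D16406)
theorem F71387 : act 9 n16406 = n11322 := d34_2 (iv F50060) D16406 (iv D11322)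
def n16407 : Q := act 7 n11283
theorem D16407 : act 7 n11283 = n16407 := rfl
theorem F71388 : act 1 n16407 = n16407 := d14_1 D16407 (iv D16407) F50057
theorem F71389 : act 3 n16407 = n11288 := d27_1 D16407 (iv D11288) (iv F50058)
theorem F71390 : act 5 n16407 = n11284 := d36_1 D16407 (iv D11284) D11283
theorem F71391 : act 9 n16407 = n11323 := d43_2 (iv F50060) D16407 (iv D11323)
def n16408 : Q := act 8 n11283
theorem D16408 : act 8 n11283 = n16408 := rfl
theorem F71392 : act 1 n16408 = n16408 := d15_1 D16408 (iv D16408) F50057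
theorem F71393 : act 5 n16408 = n11285 := d37_1 D16408 (iv D11285) D11283
theorem F71394 : act 6 n16408 = n16408 := d40_1 D16408 (iv D16408) F50059
def n16409 : Q := act 8 n11284
theorem D16409 : act 8 n11284 = n16409 := rfl
theorem F71395 : act 1 n16409 = n16409 := d15_1 D16409 (iv D16409) F50061
theorem F71396 : act 6 n16409 = n16409 := d40_1 D16409 (iv D16409) F50063
theorem F71397 : act 7 n16409 = n11285 := d42_1 D16409 (iv D11285) D11284
def n16410 : Q := act 3 n11285
theorem D16410 : act 3 n11285 = n16410 := rfl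
theorem F71398 : act 1 n16410 = n16410 := d10_1 D16410 (iv D16410) F50065
theorem F71399 : act 6 n16410 = n11286 := d26_2 (iv F50066) D16410 (iv D11286)
theorem F71400 : act 8 n16410 = n11291 := d28_2 D11285 D16410 (iv D11291) (iv D7777) (iv F35234)
def n16411 : Q := act 9 n11285
theorem D16411 : act 9 n11285 = n16411 := rfl
theorem F71401 : act 1 n16411 = n16411 := d16_1 D16411 (iv D16411) F50065
theorem F71402 : act 6 n16411 = n11287 := d41_1 D16411 (iv D11287) (iv F50066)
theorem F71403 : act 8 n16411 = n11326 := d44_1 D16411 (iv D11326) (iv D7804) (iv F35235) D11285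
def n16412 : Q := act 2 n11286
theorem D16412 : act 2 n11286 = n16412 := rfl
theorem F71404 : act 5 n16412 = n16412 := d19_2 F50068 D16412 (iv D16412)
theorem F71405 : act 7 n16412 = n16412 := d21_2 F50069 D16412 (iv D16412)
theorem F71406 : act 8 n16412 = n11292 := d22_2 (iv F50070) D16412 (iv D11292)
def n16413 : Q := act 4 n11286
theorem D16413 : act 4 n11286 = n16413 := rfl
def n16414 : Q := act 9 n11286
theorem D16414 : act 9 n11286 = n16414 := rfl
theorem F71410 : act 1 n16414 = n16414 := d16_1 D16414 (iv D16414) F50067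
theorem F71411 : act 3 n16414 = n11287 := d29_1 D16414 (iv D11287) D11286
theorem F71412 : act 5 n16414 = n16414 := d38_1 D16414 (iv D16414) F50068
theorem F71413 : act 7 n16414 = n16414 := d43_1 D16414 (iv D16414) F50069
theorem F71414 : act 8 n16414 = n16414 := d44_1 D16414 (iv D16414) F50070 F35257 (iv F50070)
def n16416 : Q := act 8 n11288
theorem D16416 : act 8 n11288 = n16416 := rfl
theorem F71424 : act 5 n16416 = n11290 := d37_1 D16416 (iv D11290) (iv F50078)
theorem F71425 : act 7 n16416 = n11289 := d42_1 D16416 (iv D11289) D11288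
def n16417 : Q := act 3 n11289
theorem D16417 : act 3 n11289 = n16417 := rfl
theorem F71427 : act 1 n16417 = n16417 := d10_1 D16417 (iv D16417) F50080
theorem F71428 : act 5 n16417 = n11291 := d25_2 (iv F50083) D16417 (iv D11291)
theorem F71429 : act 6 n16417 = n16417 := d26_2 F50084 D16417 (iv D16417)
theorem F71430 : act 9 n16417 = n16417 := d29_2 F50085 D16417 (iv D16417)
def n16418 : Q := act 3 n11290
theorem D16418 : act 3 n11290 = n16418 := rfl
theorem F71431 : act 1 n16418 = n16418 := d10_1 D16418 (iv D16418) F50086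
theorem F71432 : act 6 n16418 = n16418 := d26_2 F50089 D16418 (iv D16418)
theorem F71433 : act 7 n16418 = n11291 := d27_2 (iv F50090) D16418 (iv D11291)
theorem F71434 : act 9 n16418 = n16418 := d29_2 F50091 D16418 (iv D16418)
def n16419 : Q := act 2 n11291
theorem D16419 : act 2 n11291 = n16419 := rfl
theorem F71435 : act 3 n16419 = n11302 := d17_2 D11291 D16419 (iv D11302) (iv D7786) (iv F35250)
theorem F71436 : act 6 n16419 = n11292 := d20_2 (iv F50093) D16419 (iv D11292)
theorem F71437 : act 9 n16419 = n16419 := d23_2 F50094 D16419 (iv D16419)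
def n16420 : Q := act 4 n11291
theorem D16420 : act 4 n11291 = n16420 := rfl
def n16421 : Q := act 1 n11292
theorem D16421 : act 1 n11292 = n16421 := rfl
theorem F71442 : act 2 n16421 = n16421 := d9_2 D11292 D16421 (iv D16421) (iv D11292) F35254
theorem F71443 : act 3 n16421 = n11303 := d10_2 (iv F50095) D16421 (iv D11303)
theorem F71444 : act 5 n16421 = n16421 := d12_2 F50096 D16421 (iv D16421)
theorem F71445 : act 7 n16421 = n16421 := d14_2 F50097 D16421 (iv D16421)
theorem F71446 : act 9 n16421 = n16421 := d16_2 F50098 D16421 (iv D16421)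
def n16422 : Q := act 4 n11292
theorem D16422 : act 4 n11292 = n16422 := rfl
def n16430 : Q := act 2 n11300
theorem D16430 : act 2 n11300 = n16430 := rfl
theorem F71485 : act 5 n16430 = n11302 := d19_2 (iv F50134) D16430 (iv D11302)
def n16432 : Q := act 2 n11301
theorem D16432 : act 2 n11301 = n16432 := rfl
theorem F71495 : act 7 n16432 = n11302 := d21_2 (iv F50140) D16432 (iv D11302)
def n16433 : Q := act 1 n11302
theorem D16433 : act 1 n11302 = n16433 := rfl
theorem F71497 : act 2 n16433 = n11309 := d9_2 D11302 D16433 (iv D11309) (iv D7792) (iv F35292)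
theorem F71499 : act 6 n16433 = n11303 := d13_2 (iv F50143) D16433 (iv D11303)
def n16434 : Q := act 0 n11303
theorem D16434 : act 0 n11303 = n16434 := rfl
def n16435 : Q := act 3 n11304
theorem D16435 : act 3 n11304 = n16435 := rfl
theorem F71508 : act 6 n16435 = n11305 := d26_2 (iv F50154) D16435 (iv D11305)
def n16436 : Q := act 2 n11305
theorem D16436 : act 2 n11305 = n16436 := rfl
def n16438 : Q := act 1 n11306
theorem D16438 : act 1 n11306 = n16438 := rfl
theorem F71522 : act 5 n16438 = n11309 := d12_2 (iv F50163) D16438 (iv D11309)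
def n16440 : Q := act 1 n11308
theorem D16440 : act 1 n11308 = n16440 := rfl
theorem F71533 : act 7 n16440 = n11309 := d14_2 (iv F50175) D16440 (iv D11309)
def n16441 : Q := act 0 n11309
theorem D16441 : act 0 n11309 = n16441 := rfl
def n16442 : Q := act 6 n11311
theorem D16442 : act 6 n11311 = n16442 := rfl
theorem F71540 : act 0 n16442 = n16442 := d5_1 D16442 (iv D16442) F50187
theorem F71541 : act 2 n16442 = n11312 := d20_1 D16442 (iv D11312) D11311
theorem F71542 : act 3 n16442 = n12806 := d26_1 D16442 (iv D12806) (iv F50188)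
def n16443 : Q := act 8 n11311
theorem D16443 : act 8 n11311 = n16443 := rfl
theorem F71543 : act 0 n16443 = n16443 := d7_1 D16443 (iv D16443) F50187
theorem F71544 : act 2 n16443 = n11313 := d22_1 D16443 (iv D11313) D11311
theorem F71545 : act 5 n16443 = n16443 := d37_1 D16443 (iv D16443) F50189
theorem F71546 : act 7 n16443 = n16443 := d42_1 D16443 (iv D16443) F50190
def n16444 : Q := act 5 n11312
theorem D16444 : act 5 n11312 = n16444 := rfl
theorem F71547 : act 0 n16444 = n16444 := d4_1 D16444 (iv D16444) F50191
theorem F71548 : act 1 n16444 = n11316 := d12_1 D16444 (iv D11316) (iv F50192)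
theorem F71549 : act 3 n16444 = n11314 := d25_1 D16444 (iv D11314) (iv F50193)
theorem F71550 : act 6 n16444 = n16444 := d35_2 D11312 D16444 (iv D16444) (iv D11312) F35333
def n16445 : Q := act 7 n11312
theorem D16445 : act 7 n11312 = n16445 := rfl
theorem F71551 : act 0 n16445 = n16445 := d6_1 D16445 (iv D16445) F50191
theorem F71552 : act 1 n16445 = n11317 := d14_1 D16445 (iv D11317) (iv F50192)
theorem F71553 : act 3 n16445 = n11315 := d27_1 D16445 (iv D11315) (iv F50193)
theorem F71554 : act 6 n16445 = n16445 := d39_1 D16445 (iv D16445) (iv D11312) F35334 D11312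
def n16446 : Q := act 8 n11312
theorem D16446 : act 8 n11312 = n16446 := rfl
theorem F71555 : act 0 n16446 = n16446 := d7_1 D16446 (iv D16446) F50191
theorem F71556 : act 1 n16446 = n11318 := d15_1 D16446 (iv D11318) (iv F50192)
theorem F71557 : act 3 n16446 = n16446 := d28_1 D16446 (iv D16446) F50193 F35339 (iv F50193)
theorem F71558 : act 6 n16446 = n11313 := d40_1 D16446 (iv D11313) D11312
def n16447 : Q := act 9 n11313
theorem D16447 : act 9 n11313 = n16447 := rfl
theorem F71559 : act 0 n16447 = n16447 := d8_1 D16447 (iv D16447) F50194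
theorem F71560 : act 1 n16447 = n11319 := d16_1 D16447 (iv D11319) (iv F50195)
theorem F71561 : act 3 n16447 = n16447 := d29_1 D16447 (iv D16447) F50196
theorem F71562 : act 5 n16447 = n16447 := d38_1 D16447 (iv D16447) F50197
theorem F71563 : act 7 n16447 = n16447 := d43_1 D16447 (iv D16447) F50198
def n16448 : Q := act 7 n11314
theorem D16448 : act 7 n11314 = n16448 := rfl
theorem F71564 : act 0 n16448 = n16448 := d6_1 D16448 (iv D16448) F50199
theorem F71565 : act 1 n16448 = n11320 := d14_1 D16448 (iv D11320) (iv F50200)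
theorem F71567 : act 4 n16448 = n16448 := d32_1 D16448 (iv D16448) F50202
theorem F71568 : act 5 n16448 = n11315 := d36_1 D16448 (iv D11315) D11314
theorem F71569 : act 8 n16448 = n16448 := d42_2 F50204 D16448 (iv D16448)
def n16449 : Q := act 4 n11316
theorem D16449 : act 4 n11316 = n16449 := rfl
theorem F71570 : act 0 n16449 = n11322 := d3_1 D16449 (iv D11322) (iv F50211)
theorem F71571 : act 3 n16449 = n16449 := d24_1 D16449 (iv D16449) F50212 F35354 (iv F50212)
theorem F71572 : act 6 n16449 = n16449 := d31_2 F50213 D16449 (iv D16449)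
def n16450 : Q := act 7 n11316
theorem D16450 : act 7 n11316 = n16450 := rfl
theorem F71573 : act 0 n16450 = n11323 := d6_1 D16450 (iv D11323) (iv F50211)
theorem F71574 : act 3 n16450 = n11320 := d27_1 D16450 (iv D11320) (iv F50212)
theorem F71575 : act 5 n16450 = n11317 := d36_1 D16450 (iv D11317) D11316
def n16451 : Q := act 8 n11316
theorem D16451 : act 8 n11316 = n16451 := rfl
theorem F71576 : act 0 n16451 = n11324 := d7_1 D16451 (iv D11324) (iv F50211)
theorem F71577 : act 3 n16451 = n16451 := d28_1 D16451 (iv D16451) F50212 F35356 (iv F50212)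
theorem F71578 : act 5 n16451 = n11318 := d37_1 D16451 (iv D11318) D11316
theorem F71579 : act 6 n16451 = n16451 := d40_1 D16451 (iv D16451) F50213
def n16452 : Q := act 8 n11317
theorem D16452 : act 8 n11317 = n16452 := rfl
theorem F71580 : act 0 n16452 = n11325 := d7_1 D16452 (iv D11325) (iv F50214)
theorem F71581 : act 3 n16452 = n16452 := d28_1 D16452 (iv D16452) F50215 F35361 (iv F50215)
theorem F71582 : act 6 n16452 = n16452 := d40_1 D16452 (iv D16452) F50216
theorem F71583 : act 7 n16452 = n11318 := d42_1 D16452 (iv D11318) D11317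
def n16453 : Q := act 9 n11318
theorem D16453 : act 9 n11318 = n16453 := rfl
theorem F71584 : act 0 n16453 = n11326 := d8_1 D16453 (iv D11326) (iv F50217)
theorem F71585 : act 3 n16453 = n16453 := d29_1 D16453 (iv D16453) F50218
theorem F71586 : act 6 n16453 = n11319 := d41_1 D16453 (iv D11319) (iv F50219)
def n16454 : Q := act 6 n11320
theorem D16454 : act 6 n11320 = n16454 := rfl
theorem F71588 : act 2 n16454 = n11321 := d20_1 D16454 (iv D11321) (iv F50225)
def n16455 : Q := act 7 n11322
theorem D16455 : act 7 n11322 = n16455 := rfl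
theorem F71593 : act 1 n16455 = n16455 := d14_1 D16455 (iv D16455) F50235
theorem F71594 : act 3 n16455 = n16455 := d27_1 D16455 (iv D16455) F50236
theorem F71595 : act 4 n16455 = n11323 := d32_1 D16455 (iv D11323) D11322
def n16456 : Q := act 8 n11322
theorem D16456 : act 8 n11322 = n16456 := rfl
theorem F71596 : act 1 n16456 = n16456 := d15_1 D16456 (iv D16456) F50235
theorem F71597 : act 4 n16456 = n11324 := d33_1 D16456 (iv D11324) D11322
theorem F71598 : act 6 n16456 = n16456 := d40_1 D16456 (iv D16456) F50237
def n16457 : Q := act 6 n11323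
theorem D16457 : act 6 n11323 = n16457 := rfl
def n16458 : Q := act 8 n11323
theorem D16458 : act 8 n11323 = n16458 := rfl
theorem F71603 : act 1 n16458 = n16458 := d15_1 D16458 (iv D16458) F50238
theorem F71604 : act 3 n16458 = n16458 := d28_1 D16458 (iv D16458) F50239 F35384 (iv F50239)
theorem F71605 : act 5 n16458 = n11325 := d37_1 D16458 (iv D11325) (iv F50240)
theorem F71606 : act 7 n16458 = n11324 := d42_1 D16458 (iv D11324) D11323
def n16459 : Q := act 9 n11324
theorem D16459 : act 9 n11324 = n16459 := rfl
theorem F71607 : act 1 n16459 = n16459 := d16_1 D16459 (iv D16459) F50241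
theorem F71608 : act 3 n16459 = n16459 := d29_1 D16459 (iv D16459) F50242
theorem F71609 : act 5 n16459 = n11326 := d38_1 D16459 (iv D11326) (iv F50243)
theorem F71610 : act 6 n16459 = n16459 := d41_1 D16459 (iv D16459) F50244
def n16460 : Q := act 9 n11325
theorem D16460 : act 9 n11325 = n16460 := rfl
theorem F71611 : act 1 n16460 = n16460 := d16_1 D16460 (iv D16460) F50245
theorem F71612 : act 3 n16460 = n16460 := d29_1 D16460 (iv D16460) F50246
theorem F71613 : act 6 n16460 = n16460 := d41_1 D16460 (iv D16460) F50247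
theorem F71614 : act 7 n16460 = n11326 := d43_1 D16460 (iv D11326) (iv F50248)
def n16462 : Q := act 6 n11328
theorem D16462 : act 6 n11328 = n16462 := rfl
theorem F71621 : act 1 n16462 = n11334 := d13_1 D16462 (iv D11334) (iv F50259)
theorem F71623 : act 4 n16462 = n11329 := d31_1 D16462 (iv D11329) D11328
def n16463 : Q := act 8 n11328
theorem D16463 : act 8 n11328 = n16463 := rfl
theorem F71628 : act 4 n16463 = n11330 := d33_1 D16463 (iv D11330) D11328
theorem F71629 : act 5 n16463 = n11482 := d37_1 D16463 (iv D11482) (iv F50261)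
theorem F71630 : act 7 n16463 = n11384 := d42_1 D16463 (iv D11384) (iv F50262)
def n16464 : Q := act 7 n11329
theorem D16464 : act 7 n11329 = n16464 := rfl
theorem F71635 : act 6 n16464 = n11385 := d39_1 D16464 (iv D11385) (iv D7845) (iv F35393) D11329
def n16465 : Q := act 8 n11329
theorem D16465 : act 8 n11329 = n16465 := rfl
theorem F71638 : act 1 n16465 = n11337 := d15_1 D16465 (iv D11337) (iv F50265)
theorem F71641 : act 6 n16465 = n11330 := d40_1 D16465 (iv D11330) D11329
def n16466 : Q := act 3 n11330
theorem D16466 : act 3 n11330 = n16466 := rfl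
def n16467 : Q := act 9 n11330
theorem D16467 : act 9 n11330 = n16467 := rfl
def n16471 : Q := act 6 n11333
theorem D16471 : act 6 n11333 = n16471 := rfl
theorem F71666 : act 0 n16471 = n11349 := d5_1 D16471 (iv D11349) (iv F50285)
theorem F71668 : act 3 n16471 = n11334 := d26_1 D16471 (iv D11334) D11333
def n16472 : Q := act 8 n11333
theorem D16472 : act 8 n11333 = n16472 := rfl
theorem F71670 : act 0 n16472 = n11350 := d7_1 D16472 (iv D11350) (iv F50285)
theorem F71673 : act 7 n16472 = n11393 := d42_1 D16472 (iv D11393) (iv F50288)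
def n16473 : Q := act 5 n11334
theorem D16473 : act 5 n11334 = n16473 := rfl
theorem F71677 : act 6 n16473 = n11491 := d35_2 D11334 D16473 (iv D11491) (iv D7923) (iv F35403)
def n16474 : Q := act 7 n11334
theorem D16474 : act 7 n11334 = n16474 := rfl
theorem F71681 : act 4 n16474 = n11336 := d32_1 D16474 (iv D11336) (iv F50292)
theorem F71682 : act 6 n16474 = n11394 := d39_1 D16474 (iv D11394) (iv D7850) (iv F35404) D11334
def n16475 : Q := act 8 n11334
theorem D16475 : act 8 n11334 = n16475 := rfl
theorem F71686 : act 4 n16475 = n11337 := d33_1 D16475 (iv D11337) (iv F50292)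
def n16476 : Q := act 3 n11335
theorem D16476 : act 3 n11335 = n16476 := rfl
theorem F71689 : act 5 n16476 = n11493 := d25_2 (iv F50297) D16476 (iv D11493)
theorem F71690 : act 7 n16476 = n11396 := d27_2 (iv F50298) D16476 (iv D11396)
def n16477 : Q := act 9 n11335
theorem D16477 : act 9 n11335 = n16477 := rfl
theorem F71693 : act 4 n16477 = n11339 := d34_1 D16477 (iv D11339) (iv F50296)
theorem F71694 : act 5 n16477 = n11494 := d38_1 D16477 (iv D11494) (iv F50297)
def n16478 : Q := act 8 n11336
theorem D16478 : act 8 n11336 = n16478 := rfl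
theorem F71698 : act 2 n16478 = n11347 := d22_1 D16478 (iv D11347) (iv F50300)
def n16479 : Q := act 3 n11337
theorem D16479 : act 3 n11337 = n16479 := rfl
def n16481 : Q := act 4 n11338
theorem D16481 : act 4 n11338 = n16481 := rfl
def n16482 : Q := act 9 n11338
theorem D16482 : act 9 n11338 = n16482 := rfl
theorem F71713 : act 3 n16482 = n11339 := d29_1 D16482 (iv D11339) D11338
def n16485 : Q := act 8 n11341
theorem D16485 : act 8 n11341 = n16485 := rfl
def n16487 : Q := act 8 n11342
theorem D16487 : act 8 n11342 = n16487 := rfl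
theorem F71736 : act 1 n16487 = n12851 := d15_1 D16487 (iv D12851) (iv F50325)
theorem F71738 : act 5 n16487 = n11344 := d37_1 D16487 (iv D11344) D11342
theorem F71739 : act 6 n16487 = n11502 := d40_1 D16487 (iv D11502) (iv F50328)
def n16488 : Q := act 8 n11343
theorem D16488 : act 8 n11343 = n16488 := rfl
def n16489 : Q := act 3 n11344
theorem D16489 : act 3 n11344 = n16489 := rfl
def n16490 : Q := act 9 n11344
theorem D16490 : act 9 n11344 = n16490 := rfl
theorem F71751 : act 4 n16490 = n11348 := d34_1 D16490 (iv D11348) (iv F50338)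
def n16491 : Q := act 2 n11345
theorem D16491 : act 2 n11345 = n16491 := rfl
theorem F71755 : act 5 n16491 = n11505 := d19_2 (iv F50342) D16491 (iv D11505)
theorem F71756 : act 7 n16491 = n11409 := d21_2 (iv F50343) D16491 (iv D11409)
def n16492 : Q := act 9 n11345
theorem D16492 : act 9 n11345 = n16492 := rfl
theorem F71761 : act 5 n16492 = n11506 := d38_1 D16492 (iv D11506) (iv F50342)
theorem F71762 : act 7 n16492 = n11410 := d43_1 D16492 (iv D11410) (iv F50343)
def n16494 : Q := act 5 n11349
theorem D16494 : act 5 n11349 = n16494 := rfl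
theorem F71771 : act 3 n16494 = n11351 := d25_1 D16494 (iv D11351) (iv F50363)
def n16495 : Q := act 7 n11349
theorem D16495 : act 7 n11349 = n16495 := rfl
theorem F71776 : act 3 n16495 = n11352 := d27_1 D16495 (iv D11352) (iv F50363)
def n16496 : Q := act 8 n11349
theorem D16496 : act 8 n11349 = n16496 := rfl
theorem F71781 : act 6 n16496 = n11350 := d40_1 D16496 (iv D11350) D11349
def n16497 : Q := act 3 n11350
theorem D16497 : act 3 n11350 = n16497 := rfl
theorem F71782 : act 1 n16497 = n16497 := d10_1 D16497 (iv D16497) F50365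
theorem F71783 : act 5 n16497 = n11509 := d25_2 (iv F50367) D16497 (iv D11509)
theorem F71784 : act 7 n16497 = n11414 := d27_2 (iv F50368) D16497 (iv D11414)
theorem F71785 : act 8 n16497 = n11354 := d28_2 D11350 D16497 (iv D11354) (iv D7822) D7820
def n16498 : Q := act 9 n11350
theorem D16498 : act 9 n11350 = n16498 := rfl
theorem F71786 : act 1 n16498 = n16498 := d16_1 D16498 (iv D16498) F50365
theorem F71787 : act 2 n16498 = n16498 := d23_1 D16498 (iv D16498) F50366
theorem F71788 : act 5 n16498 = n11510 := d38_1 D16498 (iv D11510) (iv F50367)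
theorem F71789 : act 7 n16498 = n11415 := d43_1 D16498 (iv D11415) (iv F50368)
theorem F71790 : act 8 n16498 = n16498 := d44_1 D16498 (iv D16498) (iv D11350) F35452 D11350
def n16500 : Q := act 8 n11351
theorem D16500 : act 8 n11351 = n16500 := rfl
theorem F71800 : act 5 n16500 = n11353 := d37_1 D16500 (iv D11353) D11351
theorem F71801 : act 6 n16500 = n11511 := d40_1 D16500 (iv D11511) (iv F50372)
def n16501 : Q := act 8 n11352
theorem D16501 : act 8 n11352 = n16501 := rfl
theorem F71803 : act 2 n16501 = n11366 := d22_1 D16501 (iv D11366) (iv F50375)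
theorem F71805 : act 6 n16501 = n11416 := d40_1 D16501 (iv D11416) (iv F50377)
theorem F71806 : act 7 n16501 = n11353 := d42_1 D16501 (iv D11353) D11352
def n16502 : Q := act 3 n11353
theorem D16502 : act 3 n11353 = n16502 := rfl
def n16503 : Q := act 9 n11353
theorem D16503 : act 9 n11353 = n16503 := rfl
theorem F71810 : act 2 n16503 = n11368 := d23_1 D16503 (iv D11368) (iv F50380)
theorem F71811 : act 4 n16503 = n11358 := d34_1 D16503 (iv D11358) (iv F50381)
def n16504 : Q := act 2 n11354
theorem D16504 : act 2 n11354 = n16504 := rfl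
theorem F71814 : act 3 n16504 = n11369 := d17_2 D11354 D16504 (iv D11369) (iv D7832) (iv F35458)
theorem F71815 : act 5 n16504 = n11514 := d19_2 (iv F50384) D16504 (iv D11514)
theorem F71816 : act 7 n16504 = n11419 := d21_2 (iv F50385) D16504 (iv D11419)
def n16505 : Q := act 4 n11354
theorem D16505 : act 4 n11354 = n16505 := rfl
theorem F71817 : act 1 n16505 = n16505 := d11_1 D16505 (iv D16505) F50383
theorem F71818 : act 3 n16505 = n11359 := d24_1 D16505 (iv D11359) (iv D7825) (iv F35459) D11354
theorem F71819 : act 7 n16505 = n11420 := d32_2 (iv F50385) D16505 (iv D11420)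
def n16507 : Q := act 3 n11356
theorem D16507 : act 3 n11356 = n16507 := rfl
theorem F71826 : act 6 n16507 = n11422 := d26_2 (iv F50395) D16507 (iv D11422)
theorem F71827 : act 7 n16507 = n11357 := d27_2 (iv F50396) D16507 (iv D11357)
def n16509 : Q := act 4 n11357
theorem D16509 : act 4 n11357 = n16509 := rfl
theorem F71834 : act 1 n16509 = n16509 := d11_1 D16509 (iv D16509) F50397
theorem F71835 : act 6 n16509 = n11359 := d31_2 (iv F50399) D16509 (iv D11359)
def n16510 : Q := act 9 n11357
theorem D16510 : act 9 n11357 = n16510 := rfl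
theorem F71837 : act 3 n16510 = n11358 := d29_1 D16510 (iv D11358) D11357
def n16511 : Q := act 5 n11359
theorem D16511 : act 5 n11359 = n16511 := rfl
theorem F71840 : act 1 n16511 = n16511 := d12_1 D16511 (iv D16511) F50405
theorem F71841 : act 4 n16511 = n11361 := d30_1 D16511 (iv D11361) (iv D7827) (iv F35472) D11359
theorem F71842 : act 7 n16511 = n11426 := d36_2 (iv F50406) D16511 (iv D11426)
def n16514 : Q := act 6 n11361
theorem D16514 : act 6 n11361 = n16514 := rfl
theorem F71850 : act 1 n16514 = n16514 := d13_1 D16514 (iv D16514) F50411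
theorem F71851 : act 3 n16514 = n11522 := d26_1 D16514 (iv D11522) (iv F50412)
theorem F71852 : act 5 n16514 = n16514 := d35_1 D16514 (iv D16514) (iv D11361) F35481 D11361
def n16518 : Q := act 3 n11365
theorem D16518 : act 3 n11365 = n16518 := rfl
theorem F71867 : act 5 n16518 = n11367 := d25_2 (iv F50431) D16518 (iv D11367)
theorem F71868 : act 6 n16518 = n11525 := d26_2 (iv F50432) D16518 (iv D11525)
def n16519 : Q := act 9 n11365
theorem D16519 : act 9 n11365 = n16519 := rfl
def n16520 : Q := act 3 n11366
theorem D16520 : act 3 n11366 = n16520 := rfl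
theorem F71876 : act 6 n16520 = n11432 := d26_2 (iv F50435) D16520 (iv D11432)
theorem F71877 : act 7 n16520 = n11367 := d27_2 (iv F50436) D16520 (iv D11367)
def n16521 : Q := act 9 n11366
theorem D16521 : act 9 n11366 = n16521 := rfl
def n16522 : Q := act 2 n11367
theorem D16522 : act 2 n11367 = n16522 := rfl
def n16523 : Q := act 9 n11367
theorem D16523 : act 9 n11367 = n16523 := rfl
theorem F71887 : act 3 n16523 = n11368 := d29_1 D16523 (iv D11368) D11367
def n16524 : Q := act 1 n11369
theorem D16524 : act 1 n11369 = n16524 := rfl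
theorem F71890 : act 5 n16524 = n11529 := d12_2 (iv F50444) D16524 (iv D11529)
theorem F71891 : act 7 n16524 = n11436 := d14_2 (iv F50445) D16524 (iv D11436)
def n16525 : Q := act 9 n11369
theorem D16525 : act 9 n11369 = n16525 := rfl
theorem F71894 : act 5 n16525 = n11530 := d38_1 D16525 (iv D11530) (iv F50444)
theorem F71895 : act 7 n16525 = n11437 := d43_1 D16525 (iv D11437) (iv F50445)
def n16526 : Q := act 8 n11370
theorem D16526 : act 8 n11370 = n16526 := rfl
theorem F71898 : act 5 n16526 = n11531 := d37_1 D16526 (iv D11531) (iv F50449)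
theorem F71899 : act 7 n16526 = n11438 := d42_1 D16526 (iv D11438) (iv F50450)
def n16529 : Q := act 2 n11373
theorem D16529 : act 2 n11373 = n16529 := rfl
theorem F71915 : act 5 n16529 = n11377 := d19_2 (iv F50463) D16529 (iv D11377)
theorem F71916 : act 6 n16529 = n11532 := d20_2 (iv F50464) D16529 (iv D11532)
def n16530 : Q := act 4 n11373
theorem D16530 : act 4 n11373 = n16530 := rfl
theorem F71920 : act 6 n16530 = n11533 := d31_2 (iv F50464) D16530 (iv D11533)
def n16531 : Q := act 9 n11373
theorem D16531 : act 9 n11373 = n16531 := rfl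
theorem F71924 : act 5 n16531 = n11378 := d38_1 D16531 (iv D11378) (iv F50463)
theorem F71925 : act 6 n16531 = n11534 := d41_1 D16531 (iv D11534) (iv F50464)
def n16532 : Q := act 2 n11375
theorem D16532 : act 2 n11375 = n16532 := rfl
theorem F71928 : act 6 n16532 = n11439 := d20_2 (iv F50473) D16532 (iv D11439)
theorem F71929 : act 7 n16532 = n11377 := d21_2 (iv F50474) D16532 (iv D11377)
def n16533 : Q := act 9 n11375
theorem D16533 : act 9 n11375 = n16533 := rfl
theorem F71933 : act 6 n16533 = n11440 := d41_1 D16533 (iv D11440) (iv F50473)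
theorem F71934 : act 7 n16533 = n11378 := d43_1 D16533 (iv D11378) (iv F50474)
def n16534 : Q := act 1 n11377
theorem D16534 : act 1 n11377 = n16534 := rfl
theorem F71936 : act 6 n16534 = n11379 := d13_2 (iv F50484) D16534 (iv D11379)
def n16535 : Q := act 9 n11377
theorem D16535 : act 9 n11377 = n16535 := rfl
def n16536 : Q := act 8 n11378
theorem D16536 : act 8 n11378 = n16536 := rfl
def n16538 : Q := act 9 n11379
theorem D16538 : act 9 n11379 = n16538 := rfl
theorem F71953 : act 5 n16538 = n11539 := d38_1 D16538 (iv D11539) (iv F50490)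
def n16539 : Q := act 8 n11380
theorem D16539 : act 8 n11380 = n16539 := rfl
theorem F71957 : act 5 n16539 = n11540 := d37_1 D16539 (iv D11540) (iv F50496)
def n16544 : Q := act 8 n11383
theorem D16544 : act 8 n11383 = n16544 := rfl
theorem F71980 : act 1 n16544 = n11395 := d15_1 D16544 (iv D11395) (iv F50508)
theorem F71981 : act 2 n16544 = n12908 := d22_1 D16544 (iv D12908) (iv F50509)
theorem F71984 : act 6 n16544 = n11384 := d40_1 D16544 (iv D11384) D11383
def n16546 : Q := act 9 n11384
theorem D16546 : act 9 n11384 = n16546 := rfl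
theorem F71989 : act 1 n16546 = n11397 := d16_1 D16546 (iv D11397) (iv F50514)
theorem F71990 : act 2 n16546 = n12910 := d23_1 D16546 (iv D12910) (iv F50515)
def n16547 : Q := act 8 n11385
theorem D16547 : act 8 n11385 = n16547 := rfl
theorem F71995 : act 1 n16547 = n11398 := d15_1 D16547 (iv D11398) (iv F50519)
def n16549 : Q := act 9 n11386
theorem D16549 : act 9 n11386 = n16549 := rfl
theorem F72004 : act 1 n16549 = n11400 := d16_1 D16549 (iv D11400) (iv F50524)
def n16558 : Q := act 7 n11392
theorem D16558 : act 7 n11392 = n16558 := rfl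
theorem F72037 : act 0 n16558 = n11412 := d6_1 D16558 (iv D11412) (iv F50547)
theorem F72039 : act 3 n16558 = n11394 := d27_1 D16558 (iv D11394) (iv F50549)
def n16559 : Q := act 8 n11392
theorem D16559 : act 8 n11392 = n16559 := rfl
theorem F72042 : act 0 n16559 = n11413 := d7_1 D16559 (iv D11413) (iv F50547)
def n16560 : Q := act 3 n11393
theorem D16560 : act 3 n11393 = n16560 := rfl
theorem F72046 : act 0 n16560 = n11414 := d2_1 D16560 (iv D11414) (iv F50552)
theorem F72048 : act 8 n16560 = n11396 := d28_2 D11393 D16560 (iv D11396) (iv D7851) D7849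
def n16561 : Q := act 9 n11393
theorem D16561 : act 9 n11393 = n16561 := rfl
theorem F72049 : act 0 n16561 = n11415 := d8_1 D16561 (iv D11415) (iv F50552)
theorem F72050 : act 2 n16561 = n16561 := d23_1 D16561 (iv D16561) F50553
theorem F72051 : act 5 n16561 = n11554 := d38_1 D16561 (iv D11554) (iv F50554)
theorem F72052 : act 8 n16561 = n16561 := d44_1 D16561 (iv D16561) (iv D11393) F35583 D11393
def n16562 : Q := act 8 n11394
theorem D16562 : act 8 n11394 = n16562 := rfl
def n16563 : Q := act 3 n11395
theorem D16563 : act 3 n11395 = n16563 := rfl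
theorem F72060 : act 6 n16563 = n11396 := d26_2 (iv F50564) D16563 (iv D11396)
def n16565 : Q := act 2 n11396
theorem D16565 : act 2 n11396 = n16565 := rfl
theorem F72067 : act 0 n16565 = n11419 := d1_1 D16565 (iv D11419) (iv F50565)
theorem F72068 : act 3 n16565 = n11409 := d17_2 D11396 D16565 (iv D11409) (iv D7860) (iv F35590)
theorem F72069 : act 5 n16565 = n11555 := d19_2 (iv F50566) D16565 (iv D11555)
def n16566 : Q := act 4 n11396
theorem D16566 : act 4 n11396 = n16566 := rfl
def n16567 : Q := act 9 n11396
theorem D16567 : act 9 n11396 = n16567 := rfl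
theorem F72073 : act 3 n16567 = n11397 := d29_1 D16567 (iv D11397) D11396
theorem F72074 : act 5 n16567 = n11557 := d38_1 D16567 (iv D11557) (iv F50566)
def n16568 : Q := act 3 n11398
theorem D16568 : act 3 n11398 = n16568 := rfl
theorem F72075 : act 0 n16568 = n11422 := d2_1 D16568 (iv D11422) (iv F50572)
theorem F72076 : act 5 n16568 = n11458 := d25_2 (iv F50574) D16568 (iv D11458)
theorem F72077 : act 7 n16568 = n11399 := d27_2 (iv F50575) D16568 (iv D11399)
def n16570 : Q := act 4 n11399
theorem D16570 : act 4 n11399 = n16570 := rfl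
def n16571 : Q := act 9 n11399
theorem D16571 : act 9 n11399 = n16571 := rfl
theorem F72086 : act 3 n16571 = n11400 := d29_1 D16571 (iv D11400) D11399
def n16583 : Q := act 9 n11409
theorem D16583 : act 9 n11409 = n16583 := rfl
theorem F72130 : act 5 n16583 = n11565 := d38_1 D16583 (iv D11565) (iv F50614)
def n16584 : Q := act 8 n11410
theorem D16584 : act 8 n11410 = n16584 := rfl
def n16585 : Q := act 8 n11412
theorem D16585 : act 8 n11412 = n16585 := rfl
theorem F72139 : act 7 n16585 = n11413 := d42_1 D16585 (iv D11413) D11412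
def n16586 : Q := act 3 n11413
theorem D16586 : act 3 n11413 = n16586 := rfl
theorem F72140 : act 1 n16586 = n16586 := d10_1 D16586 (iv D16586) F50630
theorem F72141 : act 5 n16586 = n16586 := d25_2 F50632 D16586 (iv D16586)
theorem F72142 : act 6 n16586 = n11414 := d26_2 (iv F50633) D16586 (iv D11414)
theorem F72143 : act 8 n16586 = n11417 := d28_2 D11413 D16586 (iv D11417) (iv D7867) (iv F35644)
def n16587 : Q := act 9 n11413
theorem D16587 : act 9 n11413 = n16587 := rfl
theorem F72144 : act 1 n16587 = n16587 := d16_1 D16587 (iv D16587) F50630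
theorem F72145 : act 2 n16587 = n16587 := d23_1 D16587 (iv D16587) F50631
theorem F72146 : act 5 n16587 = n16587 := d38_1 D16587 (iv D16587) F50632
theorem F72147 : act 6 n16587 = n11415 := d41_1 D16587 (iv D11415) (iv F50633)
theorem F72148 : act 8 n16587 = n16587 := d44_1 D16587 (iv D16587) (iv D11413) F35646 D11413
def n16588 : Q := act 2 n11414
theorem D16588 : act 2 n11414 = n16588 := rfl
theorem F72149 : act 3 n16588 = n16588 := d17_2 D11414 D16588 (iv D16588) (iv D11414) F35648
theorem F72150 : act 5 n16588 = n11567 := d19_2 (iv F50635) D16588 (iv D11567)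
theorem F72151 : act 8 n16588 = n11419 := d22_2 (iv F50636) D16588 (iv D11419)
def n16589 : Q := act 4 n11414
theorem D16589 : act 4 n11414 = n16589 := rfl
theorem F72152 : act 1 n16589 = n16589 := d11_1 D16589 (iv D16589) F50634
theorem F72153 : act 8 n16589 = n11420 := d33_2 (iv F50636) D16589 (iv D11420)
def n16590 : Q := act 9 n11414
theorem D16590 : act 9 n11414 = n16590 := rfl
theorem F72154 : act 1 n16590 = n16590 := d16_1 D16590 (iv D16590) F50634
theorem F72155 : act 3 n16590 = n11415 := d29_1 D16590 (iv D11415) D11414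
theorem F72156 : act 5 n16590 = n11569 := d38_1 D16590 (iv D11569) (iv F50635)
def n16591 : Q := act 3 n11416
theorem D16591 : act 3 n11416 = n16591 := rfl
theorem F72159 : act 7 n16591 = n11417 := d27_2 (iv F50645) D16591 (iv D11417)
def n16593 : Q := act 2 n11417
theorem D16593 : act 2 n11417 = n16593 := rfl
theorem F72166 : act 3 n16593 = n11434 := d17_2 D11417 D16593 (iv D11434) (iv D7879) (iv F35656)
def n16594 : Q := act 4 n11417
theorem D16594 : act 4 n11417 = n16594 := rfl
theorem F72169 : act 1 n16594 = n16594 := d11_1 D16594 (iv D16594) F50646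
theorem F72170 : act 3 n16594 = n11424 := d24_1 D16594 (iv D11424) (iv D7871) (iv F35657) D11417
theorem F72171 : act 6 n16594 = n11420 := d31_2 (iv F50648) D16594 (iv D11420)
def n16597 : Q := act 4 n11419
theorem D16597 : act 4 n11419 = n16597 := rfl
theorem F72179 : act 2 n16597 = n11420 := d18_1 D16597 (iv D11420) D11419
def n16598 : Q := act 9 n11419
theorem D16598 : act 9 n11419 = n16598 := rfl
theorem F72180 : act 2 n16598 = n11421 := d23_1 D16598 (iv D11421) D11419
theorem F72182 : act 5 n16598 = n11572 := d38_1 D16598 (iv D11572) (iv F50656)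
def n16599 : Q := act 5 n11420
theorem D16599 : act 5 n11420 = n16599 := rfl
theorem F72183 : act 1 n16599 = n16599 := d12_1 D16599 (iv D16599) F50657
theorem F72184 : act 3 n16599 = n11426 := d25_1 D16599 (iv D11426) (iv F50658)
theorem F72185 : act 4 n16599 = n11573 := d30_1 D16599 (iv D11573) (iv D7980) (iv F35661) D11420
def n16600 : Q := act 9 n11420
theorem D16600 : act 9 n11420 = n16600 := rfl
theorem F72188 : act 4 n16600 = n11421 := d34_1 D16600 (iv D11421) D11420
def n16601 : Q := act 8 n11421
theorem D16601 : act 8 n11421 = n16601 := rfl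
def n16602 : Q := act 4 n11422
theorem D16602 : act 4 n11422 = n16602 := rfl
theorem F72192 : act 1 n16602 = n16602 := d11_1 D16602 (iv D16602) F50662
theorem F72193 : act 7 n16602 = n11424 := d32_2 (iv F50664) D16602 (iv D11424)
def n16604 : Q := act 5 n11424
theorem D16604 : act 5 n11424 = n16604 := rfl
theorem F72198 : act 1 n16604 = n16604 := d12_1 D16604 (iv D16604) F50670
theorem F72199 : act 4 n16604 = n11470 := d30_1 D16604 (iv D11470) (iv D7909) (iv F35672) D11424
def n16607 : Q := act 6 n11426
theorem D16607 : act 6 n11426 = n16607 := rfl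
theorem F72207 : act 1 n16607 = n16607 := d13_1 D16607 (iv D16607) F50676
theorem F72208 : act 4 n16607 = n11429 := d31_1 D16607 (iv D11429) (iv F50677)
def n16610 : Q := act 7 n11429
theorem D16610 : act 7 n11429 = n16610 := rfl
theorem F72214 : act 1 n16610 = n16610 := d14_1 D16610 (iv D16610) F50683
theorem F72215 : act 3 n16610 = n11579 := d27_1 D16610 (iv D11579) (iv F50684)
theorem F72216 : act 5 n16610 = n11476 := d36_1 D16610 (iv D11476) (iv F50685)
def n16614 : Q := act 2 n11432
theorem D16614 : act 2 n11432 = n16614 := rfl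
theorem F72228 : act 7 n16614 = n11434 := d21_2 (iv F50694) D16614 (iv D11434)
def n16615 : Q := act 9 n11432
theorem D16615 : act 9 n11432 = n16615 := rfl
def n16616 : Q := act 1 n11434
theorem D16616 : act 1 n11434 = n16616 := rfl
def n16617 : Q := act 9 n11434
theorem D16617 : act 9 n11434 = n16617 := rfl
theorem F72240 : act 6 n16617 = n11437 := d41_1 D16617 (iv D11437) (iv F50702)
def n16619 : Q := act 0 n11436
theorem D16619 : act 0 n11436 = n16619 := rfl
theorem F72247 : act 5 n16619 = n11583 := d4_2 (iv F50709) D16619 (iv D11583)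
def n16620 : Q := act 9 n11436
theorem D16620 : act 9 n11436 = n16620 := rfl
def n16621 : Q := act 8 n11437
theorem D16621 : act 8 n11437 = n16621 := rfl
def n16622 : Q := act 1 n11439
theorem D16622 : act 1 n11439 = n16622 := rfl
def n16623 : Q := act 9 n11439
theorem D16623 : act 9 n11439 = n16623 := rfl
def n16624 : Q := act 8 n11440
theorem D16624 : act 8 n11440 = n16624 := rfl
def n16648 : Q := act 4 n11458
theorem D16648 : act 4 n11458 = n16648 := rfl
theorem F72369 : act 7 n16648 = n11460 := d32_2 (iv F50801) D16648 (iv D11460)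
def n16655 : Q := act 8 n11463
theorem D16655 : act 8 n11463 = n16655 := rfl
def n16658 : Q := act 8 n11466
theorem D16658 : act 8 n11466 = n16658 := rfl
theorem F72400 : act 0 n16658 = n11478 := d7_1 D16658 (iv D11478) (iv F50828)
def n16660 : Q := act 5 n11468
theorem D16660 : act 5 n11468 = n16660 := rfl
theorem F72407 : act 1 n16660 = n16660 := d12_1 D16660 (iv D16660) F50835
theorem F72408 : act 3 n16660 = n16660 := d25_1 D16660 (iv D16660) F50836
theorem F72409 : act 7 n16660 = n11470 := d36_2 (iv F50838) D16660 (iv D11470)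
def n16663 : Q := act 6 n11470
theorem D16663 : act 6 n11470 = n16663 := rfl
theorem F72419 : act 1 n16663 = n16663 := d13_1 D16663 (iv D16663) F50843
theorem F72420 : act 3 n16663 = n16663 := d26_1 D16663 (iv D16663) F50844
theorem F72421 : act 5 n16663 = n11473 := d35_1 D16663 (iv D11473) (iv D7911) (iv F35823) D11470
def n16666 : Q := act 7 n11473
theorem D16666 : act 7 n11473 = n16666 := rfl
theorem F72428 : act 1 n16666 = n16666 := d14_1 D16666 (iv D16666) F50852
theorem F72429 : act 3 n16666 = n16666 := d27_1 D16666 (iv D16666) F50853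
theorem F72430 : act 4 n16666 = n11476 := d32_1 D16666 (iv D11476) (iv F50854)
theorem F72431 : act 6 n16666 = n16666 := d39_1 D16666 (iv D16666) (iv D11473) F35830 D11473
def n16667 : Q := act 9 n11473
theorem D16667 : act 9 n11473 = n16667 := rfl
theorem F72435 : act 6 n16667 = n11474 := d41_1 D16667 (iv D11474) D11473
def n16668 : Q := act 8 n11474
theorem D16668 : act 8 n11474 = n16668 := rfl
theorem F72437 : act 4 n16668 = n11478 := d33_1 D16668 (iv D11478) (iv F50857)
def n16670 : Q := act 9 n11476
theorem D16670 : act 9 n11476 = n16670 := rfl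
theorem F72447 : act 7 n16670 = n11477 := d43_1 D16670 (iv D11477) D11476
def n16671 : Q := act 8 n11477
theorem D16671 : act 8 n11477 = n16671 := rfl
theorem F72449 : act 6 n16671 = n11478 := d40_1 D16671 (iv D11478) (iv F50868)
def n16672 : Q := act 3 n11478
theorem D16672 : act 3 n11478 = n16672 := rfl
theorem F72451 : act 5 n16672 = n11479 := d25_2 (iv F50870) D16672 (iv D11479)
theorem F72453 : act 8 n16672 = n11602 := d28_2 D11478 D16672 (iv D11602) (iv D8004) (iv F35842)
def n16673 : Q := act 2 n11479
theorem D16673 : act 2 n11479 = n16673 := rfl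
def n16677 : Q := act 5 n11481
theorem D16677 : act 5 n11481 = n16677 := rfl
theorem F72474 : act 1 n16677 = n11491 := d12_1 D16677 (iv D11491) (iv F50882)
def n16678 : Q := act 8 n11481
theorem D16678 : act 8 n11481 = n16678 := rfl
theorem F72480 : act 1 n16678 = n11492 := d15_1 D16678 (iv D11492) (iv F50882)
theorem F72483 : act 6 n16678 = n11482 := d40_1 D16678 (iv D11482) D11481
def n16680 : Q := act 9 n11482
theorem D16680 : act 9 n11482 = n16680 := rfl
def n16691 : Q := act 5 n11489
theorem D16691 : act 5 n11489 = n16691 := rfl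
theorem F72549 : act 0 n16691 = n11507 := d4_1 D16691 (iv D11507) (iv F50925)
theorem F72551 : act 3 n16691 = n11491 := d25_1 D16691 (iv D11491) (iv F50927)
def n16692 : Q := act 8 n11489
theorem D16692 : act 8 n11489 = n16692 := rfl
theorem F72554 : act 0 n16692 = n11508 := d7_1 D16692 (iv D11508) (iv F50925)
theorem F72557 : act 6 n16692 = n11490 := d40_1 D16692 (iv D11490) D11489
def n16693 : Q := act 3 n11490
theorem D16693 : act 3 n11490 = n16693 := rfl
theorem F72559 : act 0 n16693 = n11509 := d2_1 D16693 (iv D11509) (iv F50931)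
theorem F72561 : act 8 n16693 = n11493 := d28_2 D11490 D16693 (iv D11493) (iv D7924) D7922
def n16694 : Q := act 9 n11490
theorem D16694 : act 9 n11490 = n16694 := rfl
theorem F72562 : act 0 n16694 = n11510 := d8_1 D16694 (iv D11510) (iv F50931)
theorem F72563 : act 2 n16694 = n16694 := d23_1 D16694 (iv D16694) F50932
theorem F72564 : act 4 n16694 = n16694 := d34_1 D16694 (iv D16694) F50933
theorem F72565 : act 7 n16694 = n11554 := d43_1 D16694 (iv D11554) (iv F50934)
theorem F72566 : act 8 n16694 = n16694 := d44_1 D16694 (iv D16694) (iv D11490) F35880 D11490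
def n16695 : Q := act 8 n11491
theorem D16695 : act 8 n11491 = n16695 := rfl
theorem F72568 : act 2 n16695 = n11502 := d22_1 D16695 (iv D11502) (iv F50936)
def n16696 : Q := act 3 n11492
theorem D16696 : act 3 n11492 = n16696 := rfl
theorem F72573 : act 6 n16696 = n11493 := d26_2 (iv F50943) D16696 (iv D11493)
def n16697 : Q := act 9 n11492
theorem D16697 : act 9 n11492 = n16697 := rfl
theorem F72578 : act 6 n16697 = n11494 := d41_1 D16697 (iv D11494) (iv F50943)
def n16698 : Q := act 2 n11493
theorem D16698 : act 2 n11493 = n16698 := rfl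
theorem F72581 : act 0 n16698 = n11514 := d1_1 D16698 (iv D11514) (iv F50945)
def n16700 : Q := act 9 n11493
theorem D16700 : act 9 n11493 = n16700 := rfl
def n16709 : Q := act 3 n11502
theorem D16709 : act 3 n11502 = n16709 := rfl
theorem F72631 : act 1 n16709 = n13073 := d10_1 D16709 (iv D13073) (iv F50989)
theorem F72632 : act 5 n16709 = n11503 := d25_2 (iv F50991) D16709 (iv D11503)
def n16710 : Q := act 9 n11502
theorem D16710 : act 9 n11502 = n16710 := rfl
def n16711 : Q := act 2 n11503
theorem D16711 : act 2 n11503 = n16711 := rfl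
theorem F72643 : act 6 n16711 = n11505 := d20_2 (iv F50996) D16711 (iv D11505)
def n16712 : Q := act 9 n11503
theorem D16712 : act 9 n11503 = n16712 := rfl
theorem F72650 : act 6 n16712 = n11506 := d41_1 D16712 (iv D11506) (iv F50996)
def n16714 : Q := act 9 n11505
theorem D16714 : act 9 n11505 = n16714 := rfl
def n16715 : Q := act 8 n11506
theorem D16715 : act 8 n11506 = n16715 := rfl
def n16716 : Q := act 4 n11507
theorem D16716 : act 4 n11507 = n16716 := rfl
def n16717 : Q := act 8 n11507
theorem D16717 : act 8 n11507 = n16717 := rfl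
theorem F72674 : act 5 n16717 = n11508 := d37_1 D16717 (iv D11508) D11507
def n16718 : Q := act 3 n11508
theorem D16718 : act 3 n11508 = n16718 := rfl
theorem F72676 : act 1 n16718 = n16718 := d10_1 D16718 (iv D16718) F51019
theorem F72677 : act 6 n16718 = n11509 := d26_2 (iv F51022) D16718 (iv D11509)
theorem F72678 : act 7 n16718 = n16718 := d27_2 F51023 D16718 (iv D16718)
theorem F72679 : act 8 n16718 = n11512 := d28_2 D11508 D16718 (iv D11512) (iv D7938) (iv F35945)
def n16719 : Q := act 9 n11508
theorem D16719 : act 9 n11508 = n16719 := rfl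
theorem F72680 : act 1 n16719 = n16719 := d16_1 D16719 (iv D16719) F51019
theorem F72681 : act 2 n16719 = n16719 := d23_1 D16719 (iv D16719) F51020
theorem F72682 : act 4 n16719 = n16719 := d34_1 D16719 (iv D16719) F51021
theorem F72683 : act 6 n16719 = n11510 := d41_1 D16719 (iv D11510) (iv F51022)
theorem F72684 : act 7 n16719 = n16719 := d43_1 D16719 (iv D16719) F51023
theorem F72685 : act 8 n16719 = n16719 := d44_1 D16719 (iv D16719) (iv D11508) F35948 D11508
def n16720 : Q := act 2 n11509
theorem D16720 : act 2 n11509 = n16720 := rfl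
theorem F72686 : act 3 n16720 = n16720 := d17_2 D11509 D16720 (iv D16720) (iv D11509) F35950
theorem F72687 : act 7 n16720 = n11567 := d21_2 (iv F51025) D16720 (iv D11567)
theorem F72688 : act 8 n16720 = n11514 := d22_2 (iv F51026) D16720 (iv D11514)
def n16721 : Q := act 4 n11509
theorem D16721 : act 4 n11509 = n16721 := rfl
theorem F72689 : act 1 n16721 = n16721 := d11_1 D16721 (iv D16721) F51024
theorem F72690 : act 3 n16721 = n16721 := d24_1 D16721 (iv D16721) (iv D11509) F35951 D11509
theorem F72691 : act 7 n16721 = n11568 := d32_2 (iv F51025) D16721 (iv D11568)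
theorem F72692 : act 8 n16721 = n11515 := d33_2 (iv F51026) D16721 (iv D11515)
def n16722 : Q := act 9 n11509
theorem D16722 : act 9 n11509 = n16722 := rfl
theorem F72693 : act 1 n16722 = n16722 := d16_1 D16722 (iv D16722) F51024
theorem F72694 : act 3 n16722 = n11510 := d29_1 D16722 (iv D11510) D11509
theorem F72695 : act 7 n16722 = n11569 := d43_1 D16722 (iv D11569) (iv F51025)
def n16723 : Q := act 3 n11511
theorem D16723 : act 3 n11511 = n16723 := rfl
def n16725 : Q := act 2 n11512
theorem D16725 : act 2 n11512 = n16725 := rfl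
theorem F72706 : act 6 n16725 = n11514 := d20_2 (iv F51038) D16725 (iv D11514)
def n16726 : Q := act 4 n11512
theorem D16726 : act 4 n11512 = n16726 := rfl
theorem F72708 : act 1 n16726 = n16726 := d11_1 D16726 (iv D16726) F51037
theorem F72709 : act 3 n16726 = n11517 := d24_1 D16726 (iv D11517) (iv D7941) (iv F35960) D11512
theorem F72710 : act 6 n16726 = n11515 := d31_2 (iv F51038) D16726 (iv D11515)
theorem F72711 : act 7 n16726 = n16726 := d32_2 F51039 D16726 (iv D16726)
def n16728 : Q := act 1 n11514
theorem D16728 : act 1 n11514 = n16728 := rfl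
theorem F72718 : act 7 n16728 = n11570 := d14_2 (iv F51047) D16728 (iv D11570)
def n16729 : Q := act 4 n11514
theorem D16729 : act 4 n11514 = n16729 := rfl
theorem F72719 : act 2 n16729 = n11515 := d18_1 D16729 (iv D11515) D11514
def n16730 : Q := act 9 n11514
theorem D16730 : act 9 n11514 = n16730 := rfl
def n16731 : Q := act 5 n11515
theorem D16731 : act 5 n11515 = n16731 := rfl
theorem F72725 : act 1 n16731 = n16731 := d12_1 D16731 (iv D16731) F51048
theorem F72726 : act 3 n16731 = n11519 := d25_1 D16731 (iv D11519) (iv F51049)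
theorem F72727 : act 7 n16731 = n11573 := d36_2 (iv F51050) D16731 (iv D11573)
def n16737 : Q := act 6 n11519
theorem D16737 : act 6 n11519 = n16737 := rfl
theorem F72754 : act 4 n16737 = n11522 := d31_1 D16737 (iv D11522) (iv F51067)
def n16740 : Q := act 7 n11522
theorem D16740 : act 7 n11522 = n16740 := rfl
theorem F72769 : act 6 n16740 = n11579 := d39_1 D16740 (iv D11579) (iv D7985) (iv F35993) D11522
def n16744 : Q := act 2 n11525
theorem D16744 : act 2 n11525 = n16744 := rfl
theorem F72785 : act 5 n16744 = n11527 := d19_2 (iv F51095) D16744 (iv D11527)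
def n16745 : Q := act 4 n11525
theorem D16745 : act 4 n11525 = n16745 := rfl
theorem F72788 : act 1 n16745 = n11533 := d11_1 D16745 (iv D11533) (iv F51094)
def n16746 : Q := act 9 n11525
theorem D16746 : act 9 n11525 = n16746 := rfl
theorem F72795 : act 5 n16746 = n11528 := d38_1 D16746 (iv D11528) (iv F51095)
def n16747 : Q := act 1 n11527
theorem D16747 : act 1 n11527 = n16747 := rfl
theorem F72799 : act 6 n16747 = n11529 := d13_2 (iv F51104) D16747 (iv D11529)
def n16748 : Q := act 9 n11527
theorem D16748 : act 9 n11527 = n16748 := rfl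
theorem F72804 : act 6 n16748 = n11530 := d41_1 D16748 (iv D11530) (iv F51104)
def n16749 : Q := act 8 n11528
theorem D16749 : act 8 n11528 = n16749 := rfl
theorem F72809 : act 6 n16749 = n11531 := d40_1 D16749 (iv D11531) (iv F51110)
def n16751 : Q := act 9 n11529
theorem D16751 : act 9 n11529 = n16751 := rfl
def n16752 : Q := act 8 n11530
theorem D16752 : act 8 n11530 = n16752 := rfl
def n16753 : Q := act 1 n11532
theorem D16753 : act 1 n11532 = n16753 := rfl
theorem F72825 : act 5 n16753 = n11535 := d12_2 (iv F51126) D16753 (iv D11535)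
def n16754 : Q := act 4 n11532
theorem D16754 : act 4 n11532 = n16754 := rfl
theorem F72829 : act 2 n16754 = n11533 := d18_1 D16754 (iv D11533) D11532
def n16755 : Q := act 9 n11532
theorem D16755 : act 9 n11532 = n16755 := rfl
theorem F72836 : act 5 n16755 = n11536 := d38_1 D16755 (iv D11536) (iv F51126)
def n16756 : Q := act 9 n11533
theorem D16756 : act 9 n11533 = n16756 := rfl
theorem F72838 : act 0 n16756 = n13120 := d8_1 D16756 (iv D13120) (iv F51129)
theorem F72840 : act 4 n16756 = n11534 := d34_1 D16756 (iv D11534) D11533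
def n16757 : Q := act 8 n11534
theorem D16757 : act 8 n11534 = n16757 := rfl
theorem F72845 : act 5 n16757 = n11537 := d37_1 D16757 (iv D11537) (iv F51136)
def n16759 : Q := act 9 n11535
theorem D16759 : act 9 n11535 = n16759 := rfl
theorem F72857 : act 6 n16759 = n11539 := d41_1 D16759 (iv D11539) (iv F51140)
def n16760 : Q := act 8 n11536
theorem D16760 : act 8 n11536 = n16760 := rfl
theorem F72862 : act 6 n16760 = n11540 := d40_1 D16760 (iv D11540) (iv F51147)
def n16762 : Q := act 8 n11539
theorem D16762 : act 8 n11539 = n16762 := rfl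
def n16782 : Q := act 2 n11553
theorem D16782 : act 2 n11553 = n16782 := rfl
theorem F72959 : act 0 n16782 = n11567 := d1_1 D16782 (iv D11567) (iv F51225)
theorem F72962 : act 8 n16782 = n11555 := d22_2 (iv F51227) D16782 (iv D11555)
def n16784 : Q := act 9 n11553
theorem D16784 : act 9 n11553 = n16784 := rfl
theorem F72968 : act 3 n16784 = n11554 := d29_1 D16784 (iv D11554) D11553
def n16787 : Q := act 9 n11555
theorem D16787 : act 9 n11555 = n16787 := rfl
def n16790 : Q := act 8 n11557
theorem D16790 : act 8 n11557 = n16790 := rfl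
def n16801 : Q := act 1 n11567
theorem D16801 : act 1 n11567 = n16801 := rfl
theorem F73036 : act 8 n16801 = n11570 := d15_2 (iv F51284) D16801 (iv D11570)
def n16802 : Q := act 4 n11567
theorem D16802 : act 4 n11567 = n16802 := rfl
theorem F73037 : act 2 n16802 = n11568 := d18_1 D16802 (iv D11568) D11567
theorem F73039 : act 8 n16802 = n11571 := d33_2 (iv F51284) D16802 (iv D11571)
def n16804 : Q := act 5 n11568
theorem D16804 : act 5 n11568 = n16804 := rfl
theorem F73043 : act 1 n16804 = n16804 := d12_1 D16804 (iv D16804) F51285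
theorem F73044 : act 3 n16804 = n16804 := d25_1 D16804 (iv D16804) F51286
theorem F73045 : act 8 n16804 = n11573 := d37_2 (iv F51288) D16804 (iv D11573)
def n16805 : Q := act 9 n11568
theorem D16805 : act 9 n11568 = n16805 := rfl
def n16806 : Q := act 8 n11569
theorem D16806 : act 8 n11569 = n16806 := rfl
theorem F73053 : act 9 n16806 = n11575 := d44_2 D11569 D16806 (iv D11575) (iv D7981) (iv F36139)
def n16809 : Q := act 9 n11570
theorem D16809 : act 9 n11570 = n16809 := rfl
def n16810 : Q := act 5 n11571
theorem D16810 : act 5 n11571 = n16810 := rfl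
theorem F73065 : act 2 n16810 = n11573 := d19_1 D16810 (iv D11573) (iv F51295)
def n16811 : Q := act 9 n11571
theorem D16811 : act 9 n11571 = n16811 := rfl
theorem F73069 : act 4 n16811 = n11572 := d34_1 D16811 (iv D11572) D11571
def n16813 : Q := act 6 n11573
theorem D16813 : act 6 n11573 = n16813 := rfl
theorem F73073 : act 1 n16813 = n16813 := d13_1 D16813 (iv D16813) F51301
theorem F73074 : act 3 n16813 = n11576 := d26_1 D16813 (iv D11576) (iv F51302)
theorem F73075 : act 5 n16813 = n16813 := d35_1 D16813 (iv D16813) (iv D11573) F36149 D11573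
def n16814 : Q := act 9 n11573
theorem D16814 : act 9 n11573 = n16814 := rfl
def n16815 : Q := act 8 n11574
theorem D16815 : act 8 n11574 = n16815 := rfl
def n16816 : Q := act 7 n11576
theorem D16816 : act 7 n11576 = n16816 := rfl
theorem F73084 : act 4 n16816 = n11579 := d32_1 D16816 (iv D11579) (iv F51312)
def n16828 : Q := act 3 n11587
theorem D16828 : act 3 n11587 = n16828 := rfl
def n16829 : Q := act 4 n11588
theorem D16829 : act 4 n11588 = n16829 := rfl
def n16842 : Q := act 8 n11597
theorem D16842 : act 8 n11597 = n16842 := rfl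
theorem F73210 : act 6 n16842 = n11598 := d40_1 D16842 (iv D11598) (iv F51409)
def n16843 : Q := act 3 n11598
theorem D16843 : act 3 n11598 = n16843 := rfl
def n16845 : Q := act 8 n11600
theorem D16845 : act 8 n11600 = n16845 := rfl
theorem F73225 : act 7 n16845 = n11601 := d42_1 D16845 (iv D11601) (iv F51424)
def n16846 : Q := act 3 n11601
theorem D16846 : act 3 n11601 = n16846 := rfl
theorem F73228 : act 6 n16846 = n11602 := d26_2 (iv F51428) D16846 (iv D11602)
def n16850 : Q := act 3 n11604
theorem D16850 : act 3 n11604 = n16850 := rfl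
theorem F73244 : act 0 n16850 = n16850 := d2_1 D16850 (iv D16850) F51438
theorem F73245 : act 1 n16850 = n16850 := d10_1 D16850 (iv D16850) F51439
theorem F73246 : act 2 n16850 = n16850 := d17_1 D16850 (iv D16850) F51440 F36285 (iv F51440)
theorem F73247 : act 4 n16850 = n16850 := d24_2 D11604 D16850 (iv D16850) (iv D11604) F36267
theorem F73248 : act 5 n16850 = n16850 := d25_2 F51441 D16850 (iv D16850)
theorem F73249 : act 6 n16850 = n16850 := d26_2 F51442 D16850 (iv D16850)
theorem F73250 : act 7 n16850 = n16850 := d27_2 F51443 D16850 (iv D16850)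
theorem F73251 : act 8 n16850 = n16850 := d46_7 (iv D8007) D8006 D11604 D16850 F73246 F73245 F73244 F73248 F73247 (iv D16850) F51440 F36284 (iv F33144) D10554 F47017 F47016 F33154 F33153 F33152 F33151 (iv D5542) (iv D3837) F12956 (iv D2662) F9240 F6601 (iv F8451) F8455 D2417 F11844 F11843 (iv F16641) F16640 F16639 F12963 (iv D2663) (iv D1852) F6596 (iv D1290) F4710 (iv F6032) F6036 F6033 D1681 F8452 (iv F11831) F11830 F11829 F9243 D2663 F12960 (iv F18226) F18225 (iv F25654) F25653 D8010 F36292 F25661 F25660 (iv F36272) F36271 F36270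
def n16851 : Q := act 8 n11604
theorem D16851 : act 8 n11604 = n16851 := rfl
theorem F73252 : act 0 n16851 = n16851 := d7_1 D16851 (iv D16851) F51438
theorem F73253 : act 1 n16851 = n16851 := d15_1 D16851 (iv D16851) F51439
theorem F73254 : act 2 n16851 = n11610 := d22_1 D16851 (iv D11610) (iv F51440)
theorem F73255 : act 3 n16851 = n16851 := d28_1 D16851 (iv D16851) D16850 F73251 (iv D16850)
theorem F73256 : act 4 n16851 = n11605 := d33_1 D16851 (iv D11605) D11604
theorem F73257 : act 5 n16851 = n16851 := d37_1 D16851 (iv D16851) F51441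
theorem F73258 : act 6 n16851 = n16851 := d40_1 D16851 (iv D16851) F51442
theorem F73259 : act 7 n16851 = n16851 := d42_1 D16851 (iv D16851) F51443
def n16852 : Q := act 9 n11604
theorem D16852 : act 9 n11604 = n16852 := rfl
theorem F73263 : act 4 n16852 = n11606 := d34_1 D16852 (iv D11606) D11604
def n16853 : Q := act 3 n11605
theorem D16853 : act 3 n11605 = n16853 := rfl
theorem F73267 : act 0 n16853 = n16853 := d2_1 D16853 (iv D16853) F51444
theorem F73268 : act 1 n16853 = n16853 := d10_1 D16853 (iv D16853) F51445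
theorem F73269 : act 2 n16853 = n16853 := d17_1 D16853 (iv D16853) F51446 F36291 (iv F51446)
theorem F73270 : act 4 n16853 = n16853 := d24_2 F73256 D16853 (iv D16853) (iv F73256) F73255
theorem F73271 : act 5 n16853 = n11607 := d25_2 (iv F51447) D16853 (iv D11607)
theorem F73272 : act 6 n16853 = n16853 := d26_2 F51448 D16853 (iv D16853)
theorem F73273 : act 7 n16853 = n16853 := d27_2 F51449 D16853 (iv D16853)
theorem F73274 : act 8 n16853 = n16853 := d28_2 D11605 D16853 (iv D16853) (iv D11605) F36267
def n16854 : Q := act 9 n11605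
theorem D16854 : act 9 n11605 = n16854 := rfl
def n16855 : Q := act 8 n11606
theorem D16855 : act 8 n11606 = n16855 := rfl
theorem F73283 : act 2 n16855 = n11613 := d22_1 D16855 (iv D11613) (iv F51452)
def n16856 : Q := act 4 n11607
theorem D16856 : act 4 n11607 = n16856 := rfl
theorem F73287 : act 0 n16856 = n16856 := d3_1 D16856 (iv D16856) F51457
theorem F73288 : act 1 n16856 = n16856 := d11_1 D16856 (iv D16856) F51458
theorem F73289 : act 2 n16856 = n16856 := d18_1 D16856 (iv D16856) F51459
theorem F73290 : act 3 n16856 = n16856 := d24_1 D16856 (iv D16856) (iv D11607) F36273 D11607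
theorem F73291 : act 5 n16856 = n16856 := d30_2 F73271 D16856 (iv D16856) (iv F73271) F73270
theorem F73292 : act 6 n16856 = n11682 := d31_2 (iv F51460) D16856 (iv D11682)
theorem F73293 : act 7 n16856 = n16856 := d32_2 F51461 D16856 (iv D16856)
theorem F73294 : act 8 n16856 = n16856 := d33_2 F51462 D16856 (iv D16856)
def n16857 : Q := act 9 n11607
theorem D16857 : act 9 n11607 = n16857 := rfl
theorem F73298 : act 3 n16857 = n11608 := d29_1 D16857 (iv D11608) D11607
def n16858 : Q := act 8 n11608
theorem D16858 : act 8 n11608 = n16858 := rfl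
theorem F73307 : act 9 n16858 = n11609 := d44_2 D11608 D16858 (iv D11609) (iv D8008) D8007
def n16860 : Q := act 3 n11610
theorem D16860 : act 3 n11610 = n16860 := rfl
theorem F73313 : act 0 n16860 = n16860 := d2_1 D16860 (iv D16860) F51475
theorem F73314 : act 1 n16860 = n11622 := d10_1 D16860 (iv D11622) (iv F51476)
theorem F73315 : act 2 n16860 = n16860 := d17_1 D16860 (iv D16860) (iv F73254) F73255 F73254
theorem F73316 : act 4 n16860 = n16860 := d24_2 (iv F51477) D16860 (iv D16860) F51477 F36291
theorem F73317 : act 5 n16860 = n16860 := d25_2 F51478 D16860 (iv D16860)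
theorem F73318 : act 6 n16860 = n16860 := d26_2 F51479 D16860 (iv D16860)
theorem F73319 : act 7 n16860 = n16860 := d27_2 F51480 D16860 (iv D16860)
theorem F73320 : act 8 n16860 = n16860 := d28_2 D11610 D16860 (iv D16860) (iv D11610) F36285
def n16861 : Q := act 9 n11610
theorem D16861 : act 9 n11610 = n16861 := rfl
def n16862 : Q := act 8 n11611
theorem D16862 : act 8 n11611 = n16862 := rfl
theorem F73329 : act 4 n16862 = n11613 := d33_1 D16862 (iv D11613) (iv F51484)
def n16863 : Q := act 8 n11612
theorem D16863 : act 8 n11612 = n16863 := rfl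
theorem F73338 : act 9 n16863 = n11613 := d44_2 D11612 D16863 (iv D11613) (iv D8011) D8010
def n16864 : Q := act 3 n11613
theorem D16864 : act 3 n11613 = n16864 := rfl
theorem F73344 : act 8 n16864 = n11616 := d28_2 D11613 D16864 (iv D11616) (iv D8014) (iv F36297)
def n16878 : Q := act 2 n11622
theorem D16878 : act 2 n11622 = n16878 := rfl
theorem F73419 : act 1 n16878 = n16878 := d9_1 D16878 (iv D16878) (iv F73314) F73315 F73314
theorem F73420 : act 3 n16878 = n16878 := d17_2 D11622 D16878 (iv D16878) (iv D11622) F36338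
theorem F73421 : act 4 n16878 = n16878 := d18_2 F51546 D16878 (iv D16878)
theorem F73422 : act 5 n16878 = n16878 := d19_2 F51547 D16878 (iv D16878)
theorem F73423 : act 6 n16878 = n16878 := d20_2 F51548 D16878 (iv D16878)
theorem F73424 : act 7 n16878 = n16878 := d21_2 F51549 D16878 (iv D16878)
theorem F73425 : act 8 n16878 = n16878 := d22_2 F51550 D16878 (iv D16878)
def n16879 : Q := act 9 n11622
theorem D16879 : act 9 n11622 = n16879 := rfl
theorem F73426 : act 3 n16879 = n11623 := d29_1 D16879 (iv D11623) D11622
def n16880 : Q := act 8 n11623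
theorem D16880 : act 8 n11623 = n16880 := rfl
theorem F73436 : act 9 n16880 = n11624 := d44_2 D11623 D16880 (iv D11624) (iv D8019) D8018
def n16908 : Q := act 5 n11641
theorem D16908 : act 5 n11641 = n16908 := rfl
theorem F73555 : act 2 n16908 = n11642 := d19_1 D16908 (iv D11642) (iv F51632)
theorem F73556 : act 4 n16908 = n11646 := d30_1 D16908 (iv D11646) (iv D8033) (iv F36393) D11641
def n16909 : Q := act 6 n11642
theorem D16909 : act 6 n11642 = n16909 := rfl
theorem F73562 : act 4 n16909 = n11647 := d31_1 D16909 (iv D11647) (iv F51639)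
def n16915 : Q := act 6 n11646
theorem D16915 : act 6 n11646 = n16915 := rfl
theorem F73589 : act 2 n16915 = n11647 := d20_1 D16915 (iv D11647) (iv F51658)
theorem F73590 : act 5 n16915 = n11719 := d35_1 D16915 (iv D11719) (iv D8082) (iv F36410) D11646
def n16916 : Q := act 7 n11647
theorem D16916 : act 7 n11647 = n16916 := rfl
def n16918 : Q := act 5 n11648
theorem D16918 : act 5 n11648 = n16918 := rfl
theorem F73603 : act 0 n16918 = n11650 := d4_1 D16918 (iv D11650) (iv F51667)
def n16922 : Q := act 6 n11650
theorem D16922 : act 6 n11650 = n16922 := rfl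
theorem F73624 : act 5 n16922 = n11726 := d35_1 D16922 (iv D11726) (iv D8086) (iv F36427) D11650
def n16932 : Q := act 5 n11657
theorem D16932 : act 5 n11657 = n16932 := rfl
theorem F73666 : act 2 n16932 = n11658 := d19_1 D16932 (iv D11658) D11657
theorem F73667 : act 3 n16932 = n16932 := d25_1 D16932 (iv D16932) F51711
theorem F73669 : act 9 n16932 = n11670 := d38_2 (iv F51715) D16932 (iv D11670)
def n16944 : Q := act 1 n11666
theorem D16944 : act 1 n11666 = n16944 := rfl
theorem F73721 : act 6 n16944 = n11748 := d13_2 (iv F51754) D16944 (iv D11748)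
def n16946 : Q := act 8 n11666
theorem D16946 : act 8 n11666 = n16946 := rfl
theorem F73727 : act 0 n16946 = n11671 := d7_1 D16946 (iv D11671) (iv F51751)
theorem F73728 : act 2 n16946 = n11668 := d22_1 D16946 (iv D11668) D11666
theorem F73730 : act 6 n16946 = n11750 := d40_1 D16946 (iv D11750) (iv F51754)
def n16948 : Q := act 6 n11667
theorem D16948 : act 6 n11667 = n16948 := rfl
theorem F73738 : act 5 n16948 = n11752 := d35_1 D16948 (iv D11752) (iv D8103) (iv F36479) D11667
def n16949 : Q := act 8 n11667
theorem D16949 : act 8 n11667 = n16949 := rfl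
theorem F73741 : act 5 n16949 = n11668 := d37_1 D16949 (iv D11668) D11667
def n16954 : Q := act 8 n11670
theorem D16954 : act 8 n11670 = n16954 := rfl
theorem F73764 : act 5 n16954 = n11671 := d37_1 D16954 (iv D11671) D11670
def n16955 : Q := act 3 n11671
theorem D16955 : act 3 n11671 = n16955 := rfl
theorem F73766 : act 1 n16955 = n16955 := d10_1 D16955 (iv D16955) F51773
theorem F73767 : act 2 n16955 = n16955 := d17_1 D16955 (iv D16955) F51774 F36495 (iv F51774)
theorem F73768 : act 6 n16955 = n11759 := d26_2 (iv F51776) D16955 (iv D11759)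
theorem F73770 : act 8 n16955 = n16955 := d28_2 D11671 D16955 (iv D16955) (iv D11671) F36487
def n16962 : Q := act 5 n11677
theorem D16962 : act 5 n11677 = n16962 := rfl
theorem F73797 : act 4 n16962 = n11766 := d30_1 D16962 (iv D11766) F36762 (iv F36510) (iv F51802)
def n16964 : Q := act 8 n11677
theorem D16964 : act 8 n11677 = n16964 := rfl
theorem F73805 : act 6 n16964 = n11678 := d40_1 D16964 (iv D11678) D11677
def n16969 : Q := act 5 n11682
theorem D16969 : act 5 n11682 = n16969 := rfl
theorem F73823 : act 0 n16969 = n16969 := d4_1 D16969 (iv D16969) F51819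
theorem F73824 : act 1 n16969 = n16969 := d12_1 D16969 (iv D16969) F51820
theorem F73825 : act 2 n16969 = n16969 := d19_1 D16969 (iv D16969) F51821
theorem F73826 : act 3 n16969 = n16969 := d25_1 D16969 (iv D16969) F51822
theorem F73827 : act 4 n16969 = n16969 := d30_1 D16969 (iv D16969) (iv D11682) F36528 D11682
theorem F73828 : act 6 n16969 = n16969 := d35_2 F73292 D16969 (iv D16969) (iv F73292) F73291
theorem F73829 : act 7 n16969 = n11773 := d36_2 (iv F51823) D16969 (iv D11773)
theorem F73830 : act 8 n16969 = n16969 := d37_2 F51824 D16969 (iv D16969)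
def n16970 : Q := act 9 n11682
theorem D16970 : act 9 n11682 = n16970 := rfl
theorem F73835 : act 4 n16970 = n11683 := d34_1 D16970 (iv D11683) D11682
def n17024 : Q := act 4 n11717
theorem D17024 : act 4 n11717 = n17024 := rfl
theorem F74066 : act 2 n17024 = n11727 := d18_1 D17024 (iv D11727) (iv F51979)
def n17025 : Q := act 6 n11717
theorem D17025 : act 6 n11717 = n17025 := rfl
theorem F74071 : act 3 n17025 = n11719 := d26_1 D17025 (iv D11719) (iv F51980)
def n17028 : Q := act 7 n11719
theorem D17028 : act 7 n11719 = n17028 := rfl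
theorem F74081 : act 2 n17028 = n11720 := d21_1 D17028 (iv D11720) (iv F51986)
def n17039 : Q := act 7 n11726
theorem D17039 : act 7 n11726 = n17039 := rfl
theorem F74126 : act 6 n17039 = n11843 := d39_1 D17039 (iv D11843) (iv D8162) (iv F36657) D11726
def n17040 : Q := act 6 n11727
theorem D17040 : act 6 n11727 = n17040 := rfl
theorem F74129 : act 3 n17040 = n11939 := d26_1 D17040 (iv D11939) (iv F52020)
def n17066 : Q := act 3 n11744
theorem D17066 : act 3 n11744 = n17066 := rfl
theorem F74230 : act 8 n17066 = n11965 := d28_2 D11744 D17066 (iv D11965) (iv D8244) (iv F36700)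
def n17070 : Q := act 5 n11748
theorem D17070 : act 5 n11748 = n17070 := rfl
theorem F74245 : act 7 n17070 = n11874 := d36_2 (iv F52102) D17070 (iv D11874)
def n17071 : Q := act 8 n11748
theorem D17071 : act 8 n11748 = n17071 := rfl
theorem F74247 : act 1 n17071 = n11750 := d15_1 D17071 (iv D11750) D11748
theorem F74249 : act 7 n17071 = n11875 := d42_1 D17071 (iv D11875) (iv F52102)
def n17074 : Q := act 8 n11749
theorem D17074 : act 8 n11749 = n17074 := rfl
theorem F74259 : act 5 n17074 = n11750 := d37_1 D17074 (iv D11750) D11749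
theorem F74260 : act 7 n17074 = n11878 := d42_1 D17074 (iv D11878) (iv F52106)
def n17075 : Q := act 3 n11750
theorem D17075 : act 3 n11750 = n17075 := rfl
theorem F74263 : act 7 n17075 = n11879 := d27_2 (iv F52110) D17075 (iv D11879)
def n17077 : Q := act 6 n11751
theorem D17077 : act 6 n11751 = n17077 := rfl
theorem F74270 : act 3 n17077 = n11976 := d26_1 D17077 (iv D11976) (iv F52112)
theorem F74271 : act 4 n17077 = n11752 := d31_1 D17077 (iv D11752) D11751
def n17078 : Q := act 8 n11751
theorem D17078 : act 8 n11751 = n17078 := rfl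
theorem F74273 : act 4 n17078 = n11753 := d33_1 D17078 (iv D11753) D11751
theorem F74275 : act 7 n17078 = n11882 := d42_1 D17078 (iv D11882) (iv F52114)
def n17079 : Q := act 7 n11752
theorem D17079 : act 7 n11752 = n17079 := rfl
theorem F74278 : act 6 n17079 = n11883 := d39_1 D17079 (iv D11883) (iv D8188) (iv F36724) D11752
def n17080 : Q := act 8 n11752
theorem D17080 : act 8 n11752 = n17080 := rfl
def n17084 : Q := act 8 n11756
theorem D17084 : act 8 n11756 = n17084 := rfl
theorem F74295 : act 2 n17084 = n11762 := d22_1 D17084 (iv D11762) (iv F52131)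
theorem F74296 : act 4 n17084 = n11758 := d33_1 D17084 (iv D11758) D11756
def n17087 : Q := act 3 n11758
theorem D17087 : act 3 n11758 = n17087 := rfl
theorem F74308 : act 5 n17087 = n11759 := d25_2 (iv F52139) D17087 (iv D11759)
theorem F74309 : act 7 n17087 = n11891 := d27_2 (iv F52140) D17087 (iv D11891)
def n17088 : Q := act 9 n11758
theorem D17088 : act 9 n11758 = n17088 := rfl
def n17089 : Q := act 4 n11759
theorem D17089 : act 4 n11759 = n17089 := rfl
theorem F74318 : act 7 n17089 = n11893 := d32_2 (iv F52143) D17089 (iv D11893)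
def n17090 : Q := act 9 n11759
theorem D17090 : act 9 n11759 = n17090 := rfl
def n17094 : Q := act 3 n11762
theorem D17094 : act 3 n11762 = n17094 := rfl
theorem F74337 : act 7 n17094 = n11898 := d27_2 (iv F52155) D17094 (iv D11898)
theorem F74338 : act 8 n17094 = n11993 := d28_2 D11762 D17094 (iv D11993) (iv D8262) (iv F36742)
def n17095 : Q := act 9 n11762
theorem D17095 : act 9 n11762 = n17095 := rfl
theorem F74340 : act 4 n17095 = n11765 := d34_1 D17095 (iv D11765) (iv F52153)
def n17099 : Q := act 8 n11766
theorem D17099 : act 8 n11766 = n17099 := rfl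
def n17100 : Q := act 8 n11767
theorem D17100 : act 8 n11767 = n17100 := rfl
theorem F74358 : act 6 n17100 = n11904 := d40_1 D17100 (iv D11904) (iv F52172)
theorem F74359 : act 7 n17100 = n11768 := d42_1 D17100 (iv D11768) D11767
def n17101 : Q := act 3 n11768
theorem D17101 : act 3 n11768 = n17101 := rfl
theorem F74362 : act 8 n17101 = n12000 := d28_2 D11768 D17101 (iv D12000) (iv D8268) (iv F36761)
def n17103 : Q := act 2 n11769
theorem D17103 : act 2 n11769 = n17103 := rfl
theorem F74369 : act 7 n17103 = n11907 := d21_2 (iv F52178) D17103 (iv D11907)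
theorem F74370 : act 8 n17103 = n12002 := d22_2 (iv F52179) D17103 (iv D12002)
def n17104 : Q := act 9 n11769
theorem D17104 : act 9 n11769 = n17104 := rfl
theorem F74371 : act 3 n17104 = n11770 := d29_1 D17104 (iv D11770) D11769
def n17106 : Q := act 6 n11773
theorem D17106 : act 6 n11773 = n17106 := rfl
theorem F74379 : act 0 n17106 = n17106 := d5_1 D17106 (iv D17106) F52191
theorem F74380 : act 1 n17106 = n17106 := d13_1 D17106 (iv D17106) F52192
theorem F74381 : act 2 n17106 = n17106 := d20_1 D17106 (iv D17106) F52193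
theorem F74382 : act 3 n17106 = n17106 := d26_1 D17106 (iv D17106) F52194
theorem F74383 : act 4 n17106 = n17106 := d31_1 D17106 (iv D17106) F52195
theorem F74384 : act 5 n17106 = n17106 := d35_1 D17106 (iv D17106) (iv D11773) F36781 D11773
theorem F74385 : act 7 n17106 = n17106 := d39_2 F73829 D17106 (iv D17106) (iv F73829) F73828
theorem F74386 : act 8 n17106 = n17106 := d40_2 F52196 D17106 (iv D17106)
def n17107 : Q := act 9 n11773
theorem D17107 : act 9 n11773 = n17107 := rfl
theorem F74392 : act 5 n17107 = n11774 := d38_1 D17107 (iv D11774) D11773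
def n17191 : Q := act 6 n11828
theorem D17191 : act 6 n11828 = n17191 := rfl
theorem F74732 : act 2 n17191 = n11844 := d20_1 D17191 (iv D11844) (iv F52425)
theorem F74734 : act 4 n17191 = n11829 := d31_1 D17191 (iv D11829) D11828
def n17193 : Q := act 7 n11829
theorem D17193 : act 7 n11829 = n17193 := rfl
theorem F74739 : act 3 n17193 = n11832 := d27_1 D17193 (iv D11832) (iv F52429)
def n17215 : Q := act 7 n11844
theorem D17215 : act 7 n11844 = n17215 := rfl
theorem F74815 : act 3 n17215 = n12051 := d27_1 D17215 (iv D12051) (iv F52485)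
def n17252 : Q := act 3 n11869
theorem D17252 : act 3 n11869 = n17252 := rfl
theorem F74951 : act 8 n17252 = n12088 := d28_2 D11869 D17252 (iv D12088) (iv D8327) (iv F37032)
def n17257 : Q := act 4 n11874
theorem D17257 : act 4 n11874 = n17257 := rfl
theorem F74966 : act 1 n17257 = n11876 := d11_1 D17257 (iv D11876) (iv F52593)
def n17259 : Q := act 8 n11874
theorem D17259 : act 8 n11874 = n17259 := rfl
theorem F74974 : act 5 n17259 = n11875 := d37_1 D17259 (iv D11875) D11874
def n17260 : Q := act 3 n11875
theorem D17260 : act 3 n11875 = n17260 := rfl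
def n17262 : Q := act 3 n11876
theorem D17262 : act 3 n11876 = n17262 := rfl
theorem F74984 : act 2 n17262 = n12098 := d17_1 D17262 (iv D12098) F37640 (iv F37060) (iv F52600)
def n17267 : Q := act 3 n11878
theorem D17267 : act 3 n11878 = n17267 := rfl
theorem F75004 : act 5 n17267 = n11879 := d25_2 (iv F52608) D17267 (iv D11879)
def n17269 : Q := act 4 n11879
theorem D17269 : act 4 n11879 = n17269 := rfl
def n17271 : Q := act 5 n11881
theorem D17271 : act 5 n11881 = n17271 := rfl
theorem F75019 : act 3 n17271 = n12107 := d25_1 D17271 (iv D12107) (iv F52618)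
def n17272 : Q := act 7 n11881
theorem D17272 : act 7 n11881 = n17272 := rfl
theorem F75023 : act 3 n17272 = n12108 := d27_1 D17272 (iv D12108) (iv F52618)
def n17273 : Q := act 8 n11881
theorem D17273 : act 8 n11881 = n17273 := rfl
theorem F75027 : act 6 n17273 = n11882 := d40_1 D17273 (iv D11882) D11881
def n17274 : Q := act 3 n11882
theorem D17274 : act 3 n11882 = n17274 := rfl
theorem F75031 : act 8 n17274 = n12110 := d28_2 D11882 D17274 (iv D12110) (iv D8340) (iv F37060)
def n17276 : Q := act 8 n11883
theorem D17276 : act 8 n11883 = n17276 := rfl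
def n17284 : Q := act 9 n11888
theorem D17284 : act 9 n11888 = n17284 := rfl
theorem F75065 : act 2 n17284 = n11899 := d23_1 D17284 (iv D11899) (iv F52641)
theorem F75066 : act 4 n17284 = n11892 := d34_1 D17284 (iv D11892) (iv F52642)
def n17289 : Q := act 9 n11891
theorem D17289 : act 9 n11891 = n17289 := rfl
theorem F75086 : act 3 n17289 = n11892 := d29_1 D17289 (iv D11892) D11891
theorem F75087 : act 5 n17289 = n11894 := d38_1 D17289 (iv D11894) (iv F52654)
def n17294 : Q := act 8 n11895
theorem D17294 : act 8 n11895 = n17294 := rfl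
theorem F75107 : act 5 n17294 = n11897 := d37_1 D17294 (iv D11897) D11895
def n17296 : Q := act 3 n11897
theorem D17296 : act 3 n11897 = n17296 := rfl
theorem F75114 : act 6 n17296 = n11898 := d26_2 (iv F52677) D17296 (iv D11898)
theorem F75115 : act 8 n17296 = n12132 := d28_2 D11897 D17296 (iv D12132) (iv D8355) (iv F37096)
def n17299 : Q := act 9 n11898
theorem D17299 : act 9 n11898 = n17299 := rfl
theorem F75123 : act 3 n17299 = n11899 := d29_1 D17299 (iv D11899) D11898
def n17302 : Q := act 8 n11902
theorem D17302 : act 8 n11902 = n17302 := rfl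
theorem F75136 : act 5 n17302 = n11904 := d37_1 D17302 (iv D11904) (iv F52696)
def n17303 : Q := act 3 n11903
theorem D17303 : act 3 n11903 = n17303 := rfl
theorem F75138 : act 5 n17303 = n11905 := d25_2 (iv F52699) D17303 (iv D11905)
theorem F75140 : act 8 n17303 = n12139 := d28_2 D11903 D17303 (iv D12139) (iv D8361) (iv F37112)
def n17305 : Q := act 3 n11904
theorem D17305 : act 3 n11904 = n17305 := rfl
theorem F75147 : act 8 n17305 = n12141 := d28_2 D11904 D17305 (iv D12141) (iv D8362) (iv F37116)
def n17307 : Q := act 2 n11905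
theorem D17307 : act 2 n11905 = n17307 := rfl
theorem F75153 : act 6 n17307 = n11907 := d20_2 (iv F52705) D17307 (iv D11907)
def n17309 : Q := act 1 n11907
theorem D17309 : act 1 n11907 = n17309 := rfl
theorem F75161 : act 8 n17309 = n12145 := d15_2 (iv F52713) D17309 (iv D12145)
def n17311 : Q := act 8 n11908
theorem D17311 : act 8 n11908 = n17311 := rfl
theorem F75168 : act 9 n17311 = n12147 := d44_2 D11908 D17311 (iv D12147) (iv D8366) (iv F37123)
def n17323 : Q := act 2 n11917
theorem D17323 : act 2 n11917 = n17323 := rfl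
theorem F75229 : act 0 n17323 = n11919 := d1_1 D17323 (iv D11919) (iv F52761)
theorem F75232 : act 7 n17323 = n12016 := d21_2 (iv F52764) D17323 (iv D12016)
def n17328 : Q := act 8 n11919
theorem D17328 : act 8 n11919 = n17328 := rfl
theorem F75253 : act 4 n17328 = n11933 := d33_1 D17328 (iv D11933) (iv F52771)
theorem F75255 : act 7 n17328 = n12021 := d42_1 D17328 (iv D12021) (iv F52773)
def n17338 : Q := act 9 n11925
theorem D17338 : act 9 n11925 = n17338 := rfl
theorem F75298 : act 7 n17338 = n12031 := d43_1 D17338 (iv D12031) (iv F52799)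
def n17339 : Q := act 1 n11928
theorem D17339 : act 1 n11928 = n17339 := rfl
theorem F75303 : act 7 n17339 = n12032 := d14_2 (iv F52814) D17339 (iv D12032)
def n17340 : Q := act 5 n11928
theorem D17340 : act 5 n11928 = n17340 := rfl
theorem F75306 : act 2 n17340 = n11929 := d19_1 D17340 (iv D11929) D11928
theorem F75308 : act 7 n17340 = n12033 := d36_2 (iv F52814) D17340 (iv D12033)
def n17341 : Q := act 8 n11928
theorem D17341 : act 8 n11928 = n17341 := rfl
theorem F75310 : act 0 n17341 = n11933 := d7_1 D17341 (iv D11933) (iv F52811)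
theorem F75311 : act 2 n17341 = n11930 := d22_1 D17341 (iv D11930) D11928
theorem F75313 : act 7 n17341 = n12034 := d42_1 D17341 (iv D12034) (iv F52814)
def n17345 : Q := act 9 n11930
theorem D17345 : act 9 n11930 = n17345 := rfl
def n17348 : Q := act 6 n11932
theorem D17348 : act 6 n11932 = n17348 := rfl
theorem F75340 : act 1 n17348 = n17348 := d13_1 D17348 (iv D17348) F52829
theorem F75341 : act 2 n17348 = n11935 := d20_1 D17348 (iv D11935) (iv F52830)
def n17349 : Q := act 8 n11932
theorem D17349 : act 8 n11932 = n17349 := rfl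
theorem F75346 : act 2 n17349 = n11936 := d22_1 D17349 (iv D11936) (iv F52830)
theorem F75347 : act 5 n17349 = n11933 := d37_1 D17349 (iv D11933) D11932
theorem F75348 : act 7 n17349 = n12042 := d42_1 D17349 (iv D12042) (iv F52832)
def n17350 : Q := act 3 n11933
theorem D17350 : act 3 n11933 = n17350 := rfl
theorem F75350 : act 2 n17350 = n11955 := d17_1 D17350 (iv D11955) F37269 (iv F37216) (iv F52835)
theorem F75352 : act 7 n17350 = n12043 := d27_2 (iv F52837) D17350 (iv D12043)
def n17351 : Q := act 9 n11933
theorem D17351 : act 9 n11933 = n17351 := rfl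
theorem F75355 : act 2 n17351 = n11937 := d23_1 D17351 (iv D11937) (iv F52835)
theorem F75357 : act 7 n17351 = n12044 := d43_1 D17351 (iv D12044) (iv F52837)
def n17354 : Q := act 7 n11935
theorem D17354 : act 7 n11935 = n17354 := rfl
theorem F75368 : act 6 n17354 = n12047 := d39_1 D17354 (iv D12047) (iv D8298) (iv F37213) D11935
def n17355 : Q := act 8 n11935
theorem D17355 : act 8 n11935 = n17355 := rfl
theorem F75371 : act 3 n17355 = n11960 := d28_1 D17355 (iv D11960) F37278 (iv F37222) (iv F52842)
def n17358 : Q := act 7 n11939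
theorem D17358 : act 7 n11939 = n17358 := rfl
theorem F75384 : act 6 n17358 = n12051 := d39_1 D17358 (iv D12051) (iv D8302) (iv F37225) D11939
def n17359 : Q := act 8 n11939
theorem D17359 : act 8 n11939 = n17359 := rfl
theorem F75388 : act 6 n17359 = n11940 := d40_1 D17359 (iv D11940) D11939
def n17361 : Q := act 9 n11940
theorem D17361 : act 9 n11940 = n17361 := rfl
theorem F75393 : act 7 n17361 = n12054 := d43_1 D17361 (iv D12054) (iv F52865)
def n17362 : Q := act 8 n11941
theorem D17362 : act 8 n11941 = n17362 := rfl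
theorem F75396 : act 3 n17362 = n11967 := d28_1 D17362 (iv D11967) F37302 (iv F37243) (iv F52867)
theorem F75398 : act 6 n17362 = n12055 := d40_1 D17362 (iv D12055) (iv F52869)
def n17363 : Q := act 9 n11942
theorem D17363 : act 9 n11942 = n17363 := rfl
theorem F75403 : act 6 n17363 = n11943 := d41_1 D17363 (iv D11943) (iv F52874)
def n17365 : Q := act 8 n11944
theorem D17365 : act 8 n11944 = n17365 := rfl
theorem F75414 : act 7 n17365 = n12058 := d42_1 D17365 (iv D12058) (iv F52884)
def n17370 : Q := act 9 n11946
theorem D17370 : act 9 n11946 = n17370 := rfl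
theorem F75434 : act 2 n17370 = n11950 := d23_1 D17370 (iv D11950) (iv F52892)
theorem F75438 : act 8 n17370 = n11975 := d44_1 D17370 (iv D11975) (iv D8250) (iv F37250) D11946
def n17375 : Q := act 9 n11949
theorem D17375 : act 9 n11949 = n17375 := rfl
theorem F75457 : act 8 n17375 = n11980 := d44_1 D17375 (iv D11980) (iv D8253) (iv F37254) D11949
def n17379 : Q := act 7 n11953
theorem D17379 : act 7 n11953 = n17379 := rfl
theorem F75472 : act 1 n17379 = n12368 := d14_1 D17379 (iv D12368) (iv F52922)
theorem F75473 : act 2 n17379 = n11959 := d21_1 D17379 (iv D11959) (iv F52923)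
def n17380 : Q := act 8 n11953
theorem D17380 : act 8 n11953 = n17380 := rfl
theorem F75478 : act 1 n17380 = n12369 := d15_1 D17380 (iv D12369) (iv F52922)
theorem F75479 : act 2 n17380 = n11960 := d22_1 D17380 (iv D11960) (iv F52923)
def n17381 : Q := act 3 n11954
theorem D17381 : act 3 n11954 = n17381 := rfl
theorem F75482 : act 1 n17381 = n12370 := d10_1 D17381 (iv D12370) (iv F52927)
def n17382 : Q := act 9 n11954
theorem D17382 : act 9 n11954 = n17382 := rfl
theorem F75487 : act 2 n17382 = n11961 := d23_1 D17382 (iv D11961) (iv F52928)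
theorem F75490 : act 8 n17382 = n11987 := d44_1 D17382 (iv D11987) (iv D8258) (iv F37267) D11954
def n17383 : Q := act 4 n11955
theorem D17383 : act 4 n11955 = n17383 := rfl
def n17384 : Q := act 9 n11955
theorem D17384 : act 9 n11955 = n17384 := rfl
theorem F75497 : act 3 n17384 = n11956 := d29_1 D17384 (iv D11956) D11955
theorem F75499 : act 7 n17384 = n12077 := d43_1 D17384 (iv D12077) (iv F52933)
def n17388 : Q := act 3 n11958
theorem D17388 : act 3 n11958 = n17388 := rfl
theorem F75513 : act 7 n17388 = n12081 := d27_2 (iv F52947) D17388 (iv D12081)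
def n17389 : Q := act 9 n11958
theorem D17389 : act 9 n11958 = n17389 := rfl
theorem F75517 : act 7 n17389 = n12082 := d43_1 D17389 (iv D12082) (iv F52947)
theorem F75518 : act 8 n17389 = n11994 := d44_1 D17389 (iv D11994) (iv D8262) (iv F37276) D11958
def n17398 : Q := act 9 n11965
theorem D17398 : act 9 n11965 = n17398 := rfl
theorem F75547 : act 3 n17398 = n11966 := d29_1 D17398 (iv D11966) D11965
theorem F75549 : act 7 n17398 = n12091 := d43_1 D17398 (iv D12091) (iv F52972)
def n17400 : Q := act 4 n11969
theorem D17400 : act 4 n11969 = n17400 := rfl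
theorem F75555 : act 0 n17400 = n12389 := d3_1 D17400 (iv D12389) (iv F52986)
theorem F75556 : act 1 n17400 = n11971 := d11_1 D17400 (iv D11971) (iv F52987)
def n17406 : Q := act 6 n11971
theorem D17406 : act 6 n11971 = n17406 := rfl
theorem F75582 : act 2 n17406 = n11976 := d20_1 D17406 (iv D11976) (iv F52996)
theorem F75583 : act 4 n17406 = n11972 := d31_1 D17406 (iv D11972) D11971
def n17407 : Q := act 8 n11971
theorem D17407 : act 8 n11971 = n17407 := rfl
theorem F75585 : act 2 n17407 = n11977 := d22_1 D17407 (iv D11977) (iv F52996)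
theorem F75586 : act 4 n17407 = n11973 := d33_1 D17407 (iv D11973) D11971
def n17408 : Q := act 7 n11972
theorem D17408 : act 7 n11972 = n17408 := rfl
theorem F75593 : act 6 n17408 = n12101 := d39_1 D17408 (iv D12101) (iv D8335) (iv F37321) D11972
def n17409 : Q := act 8 n11972
theorem D17409 : act 8 n11972 = n17409 := rfl
def n17410 : Q := act 3 n11973
theorem D17410 : act 3 n11973 = n17410 := rfl
theorem F75601 : act 7 n17410 = n12103 := d27_2 (iv F53006) D17410 (iv D12103)
def n17411 : Q := act 9 n11973
theorem D17411 : act 9 n11973 = n17411 := rfl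
theorem F75604 : act 2 n17411 = n11980 := d23_1 D17411 (iv D11980) (iv F53004)
def n17416 : Q := act 8 n11976
theorem D17416 : act 8 n11976 = n17416 := rfl
theorem F75625 : act 4 n17416 = n11979 := d33_1 D17416 (iv D11979) (iv F53018)
def n17417 : Q := act 3 n11977
theorem D17417 : act 3 n11977 = n17417 := rfl
def n17419 : Q := act 8 n11978
theorem D17419 : act 8 n11978 = n17419 := rfl
theorem F75638 : act 6 n17419 = n12112 := d40_1 D17419 (iv D12112) (iv F53026)
theorem F75639 : act 7 n17419 = n11979 := d42_1 D17419 (iv D11979) D11978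
def n17432 : Q := act 9 n11986
theorem D17432 : act 9 n11986 = n17432 := rfl
theorem F75691 : act 3 n17432 = n11987 := d29_1 D17432 (iv D11987) D11986
theorem F75693 : act 7 n17432 = n12125 := d43_1 D17432 (iv D12125) (iv F53059)
def n17435 : Q := act 8 n11989
theorem D17435 : act 8 n11989 = n17435 := rfl
theorem F75708 : act 7 n17435 = n12128 := d42_1 D17435 (iv D12128) (iv F53075)
def n17442 : Q := act 9 n11993
theorem D17442 : act 9 n11993 = n17442 := rfl
theorem F75731 : act 3 n17442 = n11994 := d29_1 D17442 (iv D11994) D11993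
def n17446 : Q := act 3 n11998
theorem D17446 : act 3 n11998 = n17446 := rfl
def n17448 : Q := act 3 n11999
theorem D17448 : act 3 n11999 = n17448 := rfl
def n17449 : Q := act 9 n11999
theorem D17449 : act 9 n11999 = n17449 := rfl
theorem F75758 : act 4 n17449 = n12004 := d34_1 D17449 (iv D12004) (iv F53110)
def n17450 : Q := act 2 n12000
theorem D17450 : act 2 n12000 = n17450 := rfl
theorem F75761 : act 3 n17450 = n12439 := d17_2 D12000 D17450 (iv D12439) (iv D8564) (iv F37393)
theorem F75763 : act 6 n17450 = n12002 := d20_2 (iv F53114) D17450 (iv D12002)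
def n17452 : Q := act 1 n12002
theorem D17452 : act 1 n12002 = n17452 := rfl
theorem F75767 : act 3 n17452 = n12441 := d10_2 (iv F53118) D17452 (iv D12441)
def n17453 : Q := act 9 n12002
theorem D17453 : act 9 n12002 = n17453 := rfl
theorem F75772 : act 3 n17453 = n12442 := d29_1 D17453 (iv D12442) (iv F53118)
theorem F75775 : act 7 n17453 = n12146 := d43_1 D17453 (iv D12146) (iv F53121)
def n17454 : Q := act 8 n12003
theorem D17454 : act 8 n12003 = n17454 := rfl
def n17473 : Q := act 8 n12016
theorem D17473 : act 8 n12016 = n17473 := rfl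
theorem F75859 : act 4 n17473 = n12034 := d33_1 D17473 (iv D12034) (iv F53183)
theorem F75860 : act 6 n17473 = n12166 := d40_1 D17473 (iv D12166) (iv F53184)
def n17482 : Q := act 3 n12021
theorem D17482 : act 3 n12021 = n17482 := rfl
def n17495 : Q := act 9 n12030
theorem D17495 : act 9 n12030 = n17495 := rfl
theorem F75939 : act 5 n17495 = n12188 := d38_1 D17495 (iv D12188) (iv F53235)
theorem F75940 : act 6 n17495 = n12031 := d41_1 D17495 (iv D12031) (iv F53236)
def n17496 : Q := act 5 n12032
theorem D17496 : act 5 n12032 = n17496 := rfl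
def n17497 : Q := act 8 n12032
theorem D17497 : act 8 n12032 = n17497 := rfl
theorem F75947 : act 1 n17497 = n12034 := d15_1 D17497 (iv D12034) D12032
theorem F75948 : act 6 n17497 = n12190 := d40_1 D17497 (iv D12190) (iv F53243)
def n17500 : Q := act 8 n12033
theorem D17500 : act 8 n12033 = n17500 := rfl
def n17501 : Q := act 3 n12034
theorem D17501 : act 3 n12034 = n17501 := rfl
theorem F75961 : act 2 n17501 = n12062 := d17_1 D17501 (iv D12062) F37554 (iv F37495) (iv F53250)
def n17511 : Q := act 7 n12041
theorem D17511 : act 7 n12041 = n17511 := rfl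
theorem F75998 : act 5 n17511 = n12204 := d36_1 D17511 (iv D12204) (iv F53276)
def n17512 : Q := act 8 n12041
theorem D17512 : act 8 n12041 = n17512 := rfl
theorem F76001 : act 2 n17512 = n12048 := d22_1 D17512 (iv D12048) (iv F53274)
theorem F76002 : act 5 n17512 = n12205 := d37_1 D17512 (iv D12205) (iv F53276)
theorem F76003 : act 6 n17512 = n12042 := d40_1 D17512 (iv D12042) D12041
def n17513 : Q := act 3 n12042
theorem D17513 : act 3 n12042 = n17513 := rfl
theorem F76005 : act 2 n17513 = n12074 := d17_1 D17513 (iv D12074) F37584 (iv F37516) (iv F53279)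
def n17514 : Q := act 9 n12042
theorem D17514 : act 9 n12042 = n17514 := rfl
def n17515 : Q := act 4 n12043
theorem D17515 : act 4 n12043 = n17515 := rfl
def n17516 : Q := act 9 n12043
theorem D17516 : act 9 n12043 = n17516 := rfl
theorem F76018 : act 3 n17516 = n12044 := d29_1 D17516 (iv D12044) D12043
theorem F76019 : act 6 n17516 = n12209 := d41_1 D17516 (iv D12209) (iv F53283)
def n17517 : Q := act 5 n12045
theorem D17517 : act 5 n12045 = n17517 := rfl
theorem F76021 : act 4 n17517 = n12210 := d30_1 D17517 (iv D12210) F37931 (iv F37513) (iv F53290)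
def n17519 : Q := act 8 n12045
theorem D17519 : act 8 n12045 = n17519 := rfl
theorem F76027 : act 4 n17519 = n12048 := d33_1 D17519 (iv D12048) (iv F53290)
def n17522 : Q := act 8 n12047
theorem D17522 : act 8 n12047 = n17522 := rfl
theorem F76035 : act 3 n17522 = n12083 := d28_1 D17522 (iv D12083) F37601 (iv F37525) (iv F53295)
def n17523 : Q := act 9 n12048
theorem D17523 : act 9 n12048 = n17523 := rfl
theorem F76039 : act 3 n17523 = n12084 := d29_1 D17523 (iv D12084) (iv F53299)
theorem F76040 : act 5 n17523 = n12216 := d38_1 D17523 (iv D12216) (iv F53300)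
def n17525 : Q := act 8 n12050
theorem D17525 : act 8 n12050 = n17525 := rfl
theorem F76048 : act 4 n17525 = n12218 := d33_1 D17525 (iv D12218) (iv F53307)
theorem F76049 : act 5 n17525 = n12052 := d37_1 D17525 (iv D12052) D12050
def n17526 : Q := act 8 n12051
theorem D17526 : act 8 n12051 = n17526 := rfl
theorem F76052 : act 7 n17526 = n12052 := d42_1 D17526 (iv D12052) D12051
def n17528 : Q := act 9 n12052
theorem D17528 : act 9 n12052 = n17528 := rfl
theorem F76057 : act 6 n17528 = n12054 := d41_1 D17528 (iv D12054) (iv F53314)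
def n17531 : Q := act 9 n12055
theorem D17531 : act 9 n12055 = n17531 := rfl
theorem F76066 : act 7 n17531 = n12056 := d43_1 D17531 (iv D12056) (iv F53322)
def n17534 : Q := act 8 n12057
theorem D17534 : act 8 n12057 = n17534 := rfl
def n17535 : Q := act 3 n12058
theorem D17535 : act 3 n12058 = n17535 := rfl
theorem F76081 : act 1 n17535 = n12062 := d10_1 D17535 (iv D12062) (iv F53333)
theorem F76082 : act 6 n17535 = n12228 := d26_2 (iv F53335) D17535 (iv D12228)
def n17543 : Q := act 9 n12061
theorem D17543 : act 9 n12061 = n17543 := rfl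
theorem F76114 : act 2 n17543 = n12068 := d23_1 D17543 (iv D12068) (iv F53346)
theorem F76116 : act 8 n17543 = n12104 := d44_1 D17543 (iv D12104) (iv D8336) (iv F37552) D12061
def n17552 : Q := act 9 n12067
theorem D17552 : act 9 n12067 = n17552 := rfl
theorem F76145 : act 6 n17552 = n12068 := d41_1 D17552 (iv D12068) (iv F53368)
theorem F76146 : act 8 n17552 = n12113 := d44_1 D17552 (iv D12113) (iv D8342) (iv F37563) D12067
def n17560 : Q := act 8 n12072
theorem D17560 : act 8 n12072 = n17560 := rfl
theorem F76174 : act 1 n17560 = n12472 := d15_1 D17560 (iv D12472) (iv F53384)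
theorem F76175 : act 2 n17560 = n12083 := d22_1 D17560 (iv D12083) (iv F53385)
def n17561 : Q := act 3 n12073
theorem D17561 : act 3 n12073 = n17561 := rfl
theorem F76178 : act 1 n17561 = n12473 := d10_1 D17561 (iv D12473) (iv F53389)
theorem F76180 : act 6 n17561 = n12074 := d26_2 (iv F53392) D17561 (iv D12074)
def n17562 : Q := act 9 n12073
theorem D17562 : act 9 n12073 = n17562 := rfl
theorem F76183 : act 2 n17562 = n12084 := d23_1 D17562 (iv D12084) (iv F53390)
def n17564 : Q := act 9 n12074
theorem D17564 : act 9 n12074 = n17564 := rfl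
theorem F76190 : act 3 n17564 = n12075 := d29_1 D17564 (iv D12075) D12074
def n17567 : Q := act 8 n12077
theorem D17567 : act 8 n12077 = n17567 := rfl
theorem F76201 : act 6 n17567 = n12260 := d40_1 D17567 (iv D12260) (iv F53406)
def n17571 : Q := act 3 n12080
theorem D17571 : act 3 n12080 = n17571 := rfl
theorem F76215 : act 6 n17571 = n12081 := d26_2 (iv F53416) D17571 (iv D12081)
def n17572 : Q := act 9 n12080
theorem D17572 : act 9 n12080 = n17572 := rfl
theorem F76217 : act 4 n17572 = n12084 := d34_1 D17572 (iv D12084) (iv F53415)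
theorem F76218 : act 6 n17572 = n12082 := d41_1 D17572 (iv D12082) (iv F53416)
def n17574 : Q := act 9 n12081
theorem D17574 : act 9 n12081 = n17574 := rfl
theorem F76222 : act 3 n17574 = n12082 := d29_1 D17574 (iv D12082) D12081
def n17578 : Q := act 3 n12086
theorem D17578 : act 3 n12086 = n17578 := rfl
theorem F76236 : act 5 n17578 = n12088 := d25_2 (iv F53436) D17578 (iv D12088)
def n17579 : Q := act 9 n12086
theorem D17579 : act 9 n12086 = n17579 := rfl
theorem F76239 : act 4 n17579 = n12272 := d34_1 D17579 (iv D12272) (iv F53435)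
theorem F76240 : act 5 n17579 = n12089 := d38_1 D17579 (iv D12089) (iv F53436)
def n17583 : Q := act 9 n12088
theorem D17583 : act 9 n12088 = n17583 := rfl
theorem F76251 : act 6 n17583 = n12091 := d41_1 D17583 (iv D12091) (iv F53441)
def n17586 : Q := act 8 n12091
theorem D17586 : act 8 n12091 = n17586 := rfl
theorem F76257 : act 3 n17586 = n12147 := d28_1 D17586 (iv D12147) F37746 (iv F37624) (iv F53448)
def n17587 : Q := act 3 n12093
theorem D17587 : act 3 n12093 = n17587 := rfl
theorem F76259 : act 0 n17587 = n12499 := d2_1 D17587 (iv D12499) (iv F53454)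
theorem F76260 : act 1 n17587 = n12098 := d10_1 D17587 (iv D12098) (iv F53455)
def n17588 : Q := act 6 n12093
theorem D17588 : act 6 n12093 = n17588 := rfl
theorem F76263 : act 0 n17588 = n12500 := d5_1 D17588 (iv D12500) (iv F53454)
theorem F76264 : act 1 n17588 = n12099 := d13_1 D17588 (iv D12099) (iv F53455)
theorem F76265 : act 4 n17588 = n12094 := d31_1 D17588 (iv D12094) D12093
def n17589 : Q := act 8 n12093
theorem D17589 : act 8 n12093 = n17589 := rfl
theorem F76266 : act 0 n17589 = n12501 := d7_1 D17589 (iv D12501) (iv F53454)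
theorem F76267 : act 1 n17589 = n12100 := d15_1 D17589 (iv D12100) (iv F53455)
theorem F76268 : act 4 n17589 = n12095 := d33_1 D17589 (iv D12095) D12093
def n17591 : Q := act 8 n12094
theorem D17591 : act 8 n12094 = n17591 := rfl
theorem F76276 : act 5 n17591 = n12284 := d37_1 D17591 (iv D12284) (iv F53460)
def n17593 : Q := act 9 n12095
theorem D17593 : act 9 n12095 = n17593 := rfl
def n17599 : Q := act 5 n12099
theorem D17599 : act 5 n12099 = n17599 := rfl
theorem F76305 : act 2 n17599 = n12107 := d19_1 D17599 (iv D12107) (iv F53476)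
theorem F76306 : act 4 n17599 = n12292 := d30_1 D17599 (iv D12292) F38142 (iv F37645) (iv F53477)
def n17600 : Q := act 7 n12099
theorem D17600 : act 7 n12099 = n17600 := rfl
theorem F76309 : act 2 n17600 = n12108 := d21_1 D17600 (iv D12108) (iv F53476)
theorem F76310 : act 4 n17600 = n12101 := d32_1 D17600 (iv D12101) (iv F53477)
def n17601 : Q := act 8 n12099
theorem D17601 : act 8 n12099 = n17601 := rfl
theorem F76312 : act 2 n17601 = n12109 := d22_1 D17601 (iv D12109) (iv F53476)
theorem F76313 : act 4 n17601 = n12102 := d33_1 D17601 (iv D12102) (iv F53477)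
def n17604 : Q := act 8 n12101
theorem D17604 : act 8 n12101 = n17604 := rfl
theorem F76323 : act 5 n17604 = n12297 := d37_1 D17604 (iv D12297) (iv F53485)
def n17605 : Q := act 3 n12102
theorem D17605 : act 3 n12102 = n17605 := rfl
theorem F76327 : act 5 n17605 = n12298 := d25_2 (iv F53488) D17605 (iv D12298)
theorem F76328 : act 6 n17605 = n12103 := d26_2 (iv F53489) D17605 (iv D12103)
def n17606 : Q := act 9 n12102
theorem D17606 : act 9 n12102 = n17606 := rfl
theorem F76331 : act 2 n17606 = n12113 := d23_1 D17606 (iv D12113) (iv F53487)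
def n17608 : Q := act 9 n12103
theorem D17608 : act 9 n12103 = n17608 := rfl
theorem F76339 : act 3 n17608 = n12104 := d29_1 D17608 (iv D12104) D12103
def n17612 : Q := act 7 n12107
theorem D17612 : act 7 n12107 = n17612 := rfl
theorem F76355 : act 4 n17612 = n12305 := d32_1 D17612 (iv D12305) (iv F53507)
def n17613 : Q := act 8 n12107
theorem D17613 : act 8 n12107 = n17613 := rfl
theorem F76358 : act 4 n17613 = n12306 := d33_1 D17613 (iv D12306) (iv F53507)
def n17615 : Q := act 3 n12109
theorem D17615 : act 3 n12109 = n17615 := rfl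
def n17626 : Q := act 8 n12116
theorem D17626 : act 8 n12116 = n17626 := rfl
theorem F76401 : act 2 n17626 = n12130 := d22_1 D17626 (iv D12130) (iv F53535)
theorem F76402 : act 4 n17626 = n12319 := d33_1 D17626 (iv D12319) (iv F53536)
def n17636 : Q := act 9 n12122
theorem D17636 : act 9 n12122 = n17636 := rfl
theorem F76437 : act 3 n17636 = n12123 := d29_1 D17636 (iv D12123) D12122
theorem F76438 : act 5 n17636 = n12329 := d38_1 D17636 (iv D12329) (iv F53557)
theorem F76439 : act 6 n17636 = n12125 := d41_1 D17636 (iv D12125) (iv F53558)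
def n17639 : Q := act 8 n12125
theorem D17639 : act 8 n12125 = n17639 := rfl
def n17645 : Q := act 3 n12130
theorem D17645 : act 3 n12130 = n17645 := rfl
def n17653 : Q := act 8 n12135
theorem D17653 : act 8 n12135 = n17653 := rfl
def n17655 : Q := act 3 n12138
theorem D17655 : act 3 n12138 = n17655 := rfl
def n17657 : Q := act 2 n12139
theorem D17657 : act 2 n12139 = n17657 := rfl
theorem F76510 : act 3 n17657 = n12569 := d17_2 D12139 D17657 (iv D12569) (iv D8651) (iv F37731)
def n17660 : Q := act 2 n12141
theorem D17660 : act 2 n12141 = n17660 := rfl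
theorem F76519 : act 3 n17660 = n12571 := d17_2 D12141 D17660 (iv D12571) (iv D8653) (iv F37735)
def n17698 : Q := act 3 n12166
theorem D17698 : act 3 n12166 = n17698 := rfl
def n17724 : Q := act 3 n12184
theorem D17724 : act 3 n12184 = n17724 := rfl
theorem F76793 : act 6 n17724 = n12185 := d26_2 (iv F53806) D17724 (iv D12185)
def n17725 : Q := act 9 n12184
theorem D17725 : act 9 n12184 = n17725 := rfl
theorem F76796 : act 4 n17725 = n12188 := d34_1 D17725 (iv D12188) (iv F53805)
def n17727 : Q := act 9 n12185
theorem D17727 : act 9 n12185 = n17727 := rfl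
theorem F76804 : act 3 n17727 = n12186 := d29_1 D17727 (iv D12186) D12185
theorem F76806 : act 5 n17727 = n12223 := d38_1 D17727 (iv D12223) (iv F53808)
def n17732 : Q := act 3 n12190
theorem D17732 : act 3 n12190 = n17732 := rfl
theorem F76826 : act 1 n17732 = n12194 := d10_1 D17732 (iv D12194) (iv F53830)
def n17746 : Q := act 3 n12197
theorem D17746 : act 3 n12197 = n17746 := rfl
theorem F76883 : act 0 n17746 = n12213 := d2_1 D17746 (iv D12213) (iv F53856)
theorem F76884 : act 4 n17746 = n12242 := d24_2 (iv F53857) D17746 (iv D12242) F38009 (iv F37896)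
def n17757 : Q := act 8 n12204
theorem D17757 : act 8 n12204 = n17757 := rfl
theorem F76928 : act 2 n17757 = n12215 := d22_1 D17757 (iv D12215) (iv F53885)
def n17758 : Q := act 3 n12205
theorem D17758 : act 3 n12205 = n17758 := rfl
theorem F76932 : act 2 n17758 = n12254 := d17_1 D17758 (iv D12254) F38043 (iv F37941) (iv F53890)
def n17759 : Q := act 9 n12205
theorem D17759 : act 9 n12205 = n17759 := rfl
theorem F76936 : act 2 n17759 = n12216 := d23_1 D17759 (iv D12216) (iv F53890)
def n17761 : Q := act 9 n12206
theorem D17761 : act 9 n12206 = n17761 := rfl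
theorem F76946 : act 5 n17761 = n12209 := d38_1 D17761 (iv D12209) (iv F53894)
def n17766 : Q := act 8 n12210
theorem D17766 : act 8 n12210 = n17766 := rfl
theorem F76966 : act 5 n17766 = n12212 := d37_1 D17766 (iv D12212) D12210
def n17768 : Q := act 3 n12212
theorem D17768 : act 3 n12212 = n17768 := rfl
theorem F76973 : act 6 n17768 = n12213 := d26_2 (iv F53920) D17768 (iv D12213)
def n17769 : Q := act 9 n12212
theorem D17769 : act 9 n12212 = n17769 := rfl
theorem F76976 : act 4 n17769 = n12216 := d34_1 D17769 (iv D12216) (iv F53919)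
def n17771 : Q := act 9 n12213
theorem D17771 : act 9 n12213 = n17771 := rfl
theorem F76982 : act 1 n17771 = n12223 := d16_1 D17771 (iv D12223) (iv F53921)
def n17775 : Q := act 3 n12218
theorem D17775 : act 3 n12218 = n17775 := rfl
theorem F76998 : act 5 n17775 = n12220 := d25_2 (iv F53942) D17775 (iv D12220)
def n17776 : Q := act 9 n12218
theorem D17776 : act 9 n12218 = n17776 := rfl
def n17780 : Q := act 9 n12220
theorem D17780 : act 9 n12220 = n17780 := rfl
theorem F77016 : act 3 n17780 = n12221 := d29_1 D17780 (iv D12221) D12220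
theorem F77018 : act 6 n17780 = n12223 := d41_1 D17780 (iv D12223) (iv F53948)
def n17781 : Q := act 1 n12222
theorem D17781 : act 1 n12222 = n17781 := rfl
theorem F77020 : act 4 n17781 = n12277 := d11_2 (iv F53955) D17781 (iv D12277)
def n17782 : Q := act 9 n12222
theorem D17782 : act 9 n12222 = n17782 := rfl
theorem F77023 : act 2 n17782 = n12223 := d23_1 D17782 (iv D12223) D12222
theorem F77025 : act 4 n17782 = n12278 := d34_1 D17782 (iv D12278) (iv F53955)
def n17783 : Q := act 8 n12223
theorem D17783 : act 8 n12223 = n17783 := rfl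
theorem F77028 : act 4 n17783 = n12279 := d33_1 D17783 (iv D12279) (iv F53959)
def n17786 : Q := act 8 n12225
theorem D17786 : act 8 n12225 = n17786 := rfl
theorem F77041 : act 0 n17786 = n12581 := d7_1 D17786 (iv D12581) (iv F53966)
theorem F77042 : act 1 n17786 = n12232 := d15_1 D17786 (iv D12232) (iv F53967)
def n17788 : Q := act 8 n12226
theorem D17788 : act 8 n12226 = n17788 := rfl
def n17791 : Q := act 2 n12228
theorem D17791 : act 2 n12228 = n17791 := rfl
def n17799 : Q := act 3 n12232
theorem D17799 : act 3 n12232 = n17799 := rfl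
def n17800 : Q := act 9 n12232
theorem D17800 : act 9 n12232 = n17800 := rfl
theorem F77103 : act 2 n17800 = n12243 := d23_1 D17800 (iv D12243) (iv F53999)
theorem F77104 : act 4 n17800 = n12236 := d34_1 D17800 (iv D12236) (iv F54000)
theorem F77107 : act 8 n17800 = n12296 := d44_1 D17800 (iv D12296) (iv D8463) (iv F37987) D12232
def n17803 : Q := act 9 n12234
theorem D17803 : act 9 n12234 = n17803 := rfl
theorem F77116 : act 2 n17803 = n12245 := d23_1 D17803 (iv D12245) (iv F54009)
theorem F77118 : act 8 n17803 = n12299 := d44_1 D17803 (iv D12299) (iv D8465) (iv F37991) D12234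
def n17813 : Q := act 9 n12241
theorem D17813 : act 9 n12241 = n17813 := rfl
theorem F77153 : act 4 n17813 = n12245 := d34_1 D17813 (iv D12245) (iv F54037)
theorem F77155 : act 8 n17813 = n12309 := d44_1 D17813 (iv D12309) (iv D8472) (iv F38007) D12241
def n17814 : Q := act 2 n12242
theorem D17814 : act 2 n12242 = n17814 := rfl
theorem F77156 : act 0 n17814 = n12266 := d1_1 D17814 (iv D12266) (iv F54039)
def n17815 : Q := act 9 n12242
theorem D17815 : act 9 n12242 = n17815 := rfl
theorem F77160 : act 0 n17815 = n12267 := d8_1 D17815 (iv D12267) (iv F54039)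
theorem F77161 : act 3 n17815 = n12243 := d29_1 D17815 (iv D12243) D12242
def n17824 : Q := act 8 n12249
theorem D17824 : act 8 n12249 = n17824 := rfl
theorem F77203 : act 4 n17824 = n12253 := d33_1 D17824 (iv D12253) (iv F54070)
def n17825 : Q := act 3 n12250
theorem D17825 : act 3 n12250 = n17825 := rfl
theorem F77206 : act 1 n17825 = n12620 := d10_1 D17825 (iv D12620) (iv F54073)
def n17826 : Q := act 9 n12250
theorem D17826 : act 9 n12250 = n17826 := rfl
theorem F77208 : act 1 n17826 = n12621 := d16_1 D17826 (iv D12621) (iv F54073)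
theorem F77209 : act 2 n17826 = n12265 := d23_1 D17826 (iv D12265) (iv F54074)
theorem F77210 : act 4 n17826 = n12255 := d34_1 D17826 (iv D12255) (iv F54075)
def n17827 : Q := act 2 n12251
theorem D17827 : act 2 n12251 = n17827 := rfl
theorem F77213 : act 3 n17827 = n12266 := d17_2 D12251 D17827 (iv D12266) (iv D8444) (iv F38033)
def n17829 : Q := act 9 n12251
theorem D17829 : act 9 n12251 = n17829 := rfl
theorem F77219 : act 1 n17829 = n12624 := d16_1 D17829 (iv D12624) (iv F54077)
def n17830 : Q := act 3 n12253
theorem D17830 : act 3 n12253 = n17830 := rfl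
def n17831 : Q := act 9 n12253
theorem D17831 : act 9 n12253 = n17831 := rfl
theorem F77231 : act 8 n17831 = n12327 := d44_1 D17831 (iv D12327) (iv D8484) (iv F38041) D12253
def n17833 : Q := act 9 n12254
theorem D17833 : act 9 n12254 = n17833 := rfl
theorem F77236 : act 3 n17833 = n12255 := d29_1 D17833 (iv D12255) D12254
def n17836 : Q := act 8 n12257
theorem D17836 : act 8 n12257 = n17836 := rfl
theorem F77247 : act 5 n17836 = n12260 := d37_1 D17836 (iv D12260) (iv F54102)
def n17845 : Q := act 9 n12263
theorem D17845 : act 9 n12263 = n17845 := rfl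
theorem F77285 : act 8 n17845 = n12341 := d44_1 D17845 (iv D12341) (iv D8494) (iv F38069) D12263
def n17846 : Q := act 2 n12264
theorem D17846 : act 2 n12264 = n17846 := rfl
theorem F77286 : act 6 n17846 = n12266 := d20_2 (iv F54128) D17846 (iv D12266)
def n17847 : Q := act 9 n12264
theorem D17847 : act 9 n12264 = n17847 := rfl
theorem F77289 : act 3 n17847 = n12265 := d29_1 D17847 (iv D12265) D12264
theorem F77290 : act 6 n17847 = n12267 := d41_1 D17847 (iv D12267) (iv F54128)
def n17848 : Q := act 1 n12266
theorem D17848 : act 1 n12266 = n17848 := rfl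
theorem F77291 : act 2 n17848 = n12277 := d9_2 D12266 D17848 (iv D12277) (iv D8453) (iv F38073)
def n17849 : Q := act 9 n12266
theorem D17849 : act 9 n12266 = n17849 := rfl
def n17850 : Q := act 8 n12267
theorem D17850 : act 8 n12267 = n17850 := rfl
theorem F77298 : act 1 n17850 = n12279 := d15_1 D17850 (iv D12279) (iv F54137)
def n17855 : Q := act 4 n12271
theorem D17855 : act 4 n12271 = n17855 := rfl
def n17856 : Q := act 9 n12271
theorem D17856 : act 9 n12271 = n17856 := rfl
theorem F77320 : act 3 n17856 = n12272 := d29_1 D17856 (iv D12272) D12271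
theorem F77321 : act 5 n17856 = n12276 := d38_1 D17856 (iv D12276) (iv F54153)
def n17859 : Q := act 1 n12275
theorem D17859 : act 1 n12275 = n17859 := rfl
theorem F77330 : act 3 n17859 = n12653 := d10_2 (iv F54168) D17859 (iv D12653)
theorem F77331 : act 6 n17859 = n12277 := d13_2 (iv F54169) D17859 (iv D12277)
def n17860 : Q := act 9 n12275
theorem D17860 : act 9 n12275 = n17860 := rfl
theorem F77334 : act 3 n17860 = n12654 := d29_1 D17860 (iv D12654) (iv F54168)
theorem F77335 : act 6 n17860 = n12278 := d41_1 D17860 (iv D12278) (iv F54169)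
def n17861 : Q := act 8 n12276
theorem D17861 : act 8 n12276 = n17861 := rfl
theorem F77337 : act 6 n17861 = n12279 := d40_1 D17861 (iv D12279) (iv F54172)
def n17863 : Q := act 9 n12277
theorem D17863 : act 9 n12277 = n17863 := rfl
theorem F77344 : act 3 n17863 = n12656 := d29_1 D17863 (iv D12656) (iv F54173)
def n17864 : Q := act 8 n12278
theorem D17864 : act 8 n12278 = n17864 := rfl
def n17875 : Q := act 9 n12284
theorem D17875 : act 9 n12284 = n17875 := rfl
def n17884 : Q := act 5 n12290
theorem D17884 : act 5 n12290 = n17884 := rfl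
theorem F77436 : act 3 n17884 = n12292 := d25_1 D17884 (iv D12292) (iv F54229)
def n17887 : Q := act 3 n12291
theorem D17887 : act 3 n12291 = n17887 := rfl
theorem F77450 : act 8 n17887 = n12295 := d28_2 D12291 D17887 (iv D12295) (iv D8463) D8461
def n17890 : Q := act 8 n12292
theorem D17890 : act 8 n12292 = n17890 := rfl
theorem F77461 : act 5 n17890 = n12294 := d37_1 D17890 (iv D12294) D12292
def n17892 : Q := act 3 n12294
theorem D17892 : act 3 n12294 = n17892 := rfl
theorem F77469 : act 6 n17892 = n12295 := d26_2 (iv F54246) D17892 (iv D12295)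
def n17893 : Q := act 9 n12294
theorem D17893 : act 9 n12294 = n17893 := rfl
theorem F77471 : act 2 n17893 = n12309 := d23_1 D17893 (iv D12309) (iv F54244)
theorem F77472 : act 4 n17893 = n12299 := d34_1 D17893 (iv D12299) (iv F54245)
def n17894 : Q := act 2 n12295
theorem D17894 : act 2 n12295 = n17894 := rfl
def n17896 : Q := act 9 n12295
theorem D17896 : act 9 n12295 = n17896 := rfl
theorem F77482 : act 3 n17896 = n12296 := d29_1 D17896 (iv D12296) D12295
def n17898 : Q := act 9 n12297
theorem D17898 : act 9 n12297 = n17898 := rfl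
theorem F77491 : act 2 n17898 = n12312 := d23_1 D17898 (iv D12312) (iv F54256)
def n17899 : Q := act 4 n12298
theorem D17899 : act 4 n12298 = n17899 := rfl
def n17900 : Q := act 9 n12298
theorem D17900 : act 9 n12298 = n17900 := rfl
theorem F77500 : act 3 n17900 = n12299 := d29_1 D17900 (iv D12299) D12298
def n17909 : Q := act 3 n12306
theorem D17909 : act 3 n12306 = n17909 := rfl
theorem F77538 : act 5 n17909 = n12308 := d25_2 (iv F54293) D17909 (iv D12308)
def n17912 : Q := act 9 n12307
theorem D17912 : act 9 n12307 = n17912 := rfl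
theorem F77550 : act 4 n17912 = n12312 := d34_1 D17912 (iv D12312) (iv F54296)
def n17913 : Q := act 2 n12308
theorem D17913 : act 2 n12308 = n17913 := rfl
theorem F77555 : act 6 n17913 = n12310 := d20_2 (iv F54301) D17913 (iv D12310)
def n17914 : Q := act 9 n12308
theorem D17914 : act 9 n12308 = n17914 := rfl
theorem F77558 : act 3 n17914 = n12309 := d29_1 D17914 (iv D12309) D12308
def n17915 : Q := act 1 n12310
theorem D17915 : act 1 n12310 = n17915 := rfl
def n17916 : Q := act 9 n12310
theorem D17916 : act 9 n12310 = n17916 := rfl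
theorem F77567 : act 2 n17916 = n12311 := d23_1 D17916 (iv D12311) D12310
def n17917 : Q := act 8 n12311
theorem D17917 : act 8 n12311 = n17917 := rfl
def n17931 : Q := act 3 n12320
theorem D17931 : act 3 n12320 = n17931 := rfl
def n17932 : Q := act 9 n12320
theorem D17932 : act 9 n12320 = n17932 := rfl
theorem F77633 : act 4 n17932 = n12327 := d34_1 D17932 (iv D12327) (iv F54351)
def n17933 : Q := act 2 n12321
theorem D17933 : act 2 n12321 = n17933 := rfl
theorem F77637 : act 3 n17933 = n12342 := d17_2 D12321 D17933 (iv D12342) (iv D8495) (iv F38216)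
def n17934 : Q := act 4 n12321
theorem D17934 : act 4 n12321 = n17934 := rfl
theorem F77640 : act 3 n17934 = n12328 := d24_1 D17934 (iv D12328) (iv D8485) (iv F38217) D12321
def n17936 : Q := act 4 n12323
theorem D17936 : act 4 n12323 = n17936 := rfl
theorem F77646 : act 2 n17936 = n12324 := d18_1 D17936 (iv D12324) D12323
def n17937 : Q := act 9 n12323
theorem D17937 : act 9 n12323 = n17937 := rfl
theorem F77651 : act 3 n17937 = n12344 := d29_1 D17937 (iv D12344) (iv F54361)
def n17939 : Q := act 9 n12324
theorem D17939 : act 9 n12324 = n17939 := rfl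
theorem F77659 : act 3 n17939 = n12331 := d29_1 D17939 (iv D12331) (iv F54365)
def n17941 : Q := act 4 n12326
theorem D17941 : act 4 n12326 = n17941 := rfl
def n17942 : Q := act 9 n12326
theorem D17942 : act 9 n12326 = n17942 := rfl
theorem F77672 : act 3 n17942 = n12327 := d29_1 D17942 (iv D12327) D12326
def n17944 : Q := act 9 n12328
theorem D17944 : act 9 n12328 = n17944 := rfl
theorem F77680 : act 4 n17944 = n12329 := d34_1 D17944 (iv D12329) D12328
def n17945 : Q := act 8 n12329
theorem D17945 : act 8 n12329 = n17945 := rfl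
def n17948 : Q := act 8 n12331
theorem D17948 : act 8 n12331 = n17948 := rfl
theorem F77697 : act 4 n17948 = n12332 := d33_1 D17948 (iv D12332) (iv F54395)
def n17961 : Q := act 9 n12342
theorem D17961 : act 9 n12342 = n17961 := rfl
theorem F77752 : act 2 n17961 = n12343 := d23_1 D17961 (iv D12343) D12342
def n17973 : Q := act 8 n12353
theorem D17973 : act 8 n12353 = n17973 := rfl
theorem F77805 : act 7 n17973 = n12446 := d42_1 D17973 (iv D12446) (iv F54487)
def n17974 : Q := act 3 n12354
theorem D17974 : act 3 n12354 = n17974 := rfl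
theorem F77806 : act 1 n17974 = n12358 := d10_1 D17974 (iv D12358) (iv F54489)
theorem F77808 : act 7 n17974 = n12447 := d27_2 (iv F54492) D17974 (iv D12447)
def n17979 : Q := act 7 n12356
theorem D17979 : act 7 n12356 = n17979 := rfl
theorem F77830 : act 0 n17979 = n12368 := d6_1 D17979 (iv D12368) (iv F54498)
theorem F77835 : act 9 n17979 = n12397 := d43_2 (iv F54502) D17979 (iv D12397)
def n17980 : Q := act 8 n12356
theorem D17980 : act 8 n12356 = n17980 := rfl
theorem F77836 : act 0 n17980 = n12369 := d7_1 D17980 (iv D12369) (iv F54498)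
theorem F77837 : act 2 n17980 = n12363 := d22_1 D17980 (iv D12363) (iv F54499)
def n17981 : Q := act 3 n12357
theorem D17981 : act 3 n12357 = n17981 := rfl
theorem F77840 : act 0 n17981 = n12370 := d2_1 D17981 (iv D12370) (iv F54503)
theorem F77843 : act 7 n17981 = n12454 := d27_2 (iv F54506) D17981 (iv D12454)
def n17982 : Q := act 9 n12357
theorem D17982 : act 9 n12357 = n17982 := rfl
theorem F77846 : act 2 n17982 = n12364 := d23_1 D17982 (iv D12364) (iv F54504)
theorem F77849 : act 8 n17982 = n12400 := d44_1 D17982 (iv D12400) (iv D8537) (iv F38333) D12357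
def n17983 : Q := act 4 n12358
theorem D17983 : act 4 n12358 = n17983 := rfl
def n17984 : Q := act 9 n12358
theorem D17984 : act 9 n12358 = n17984 := rfl
theorem F77858 : act 3 n17984 = n12359 := d29_1 D17984 (iv D12359) D12358
def n17987 : Q := act 8 n12360
theorem D17987 : act 8 n12360 = n17987 := rfl
theorem F77872 : act 4 n17987 = n12363 := d33_1 D17987 (iv D12363) (iv F54520)
def n17988 : Q := act 3 n12361
theorem D17988 : act 3 n12361 = n17988 := rfl
theorem F77877 : act 7 n17988 = n12461 := d27_2 (iv F54525) D17988 (iv D12461)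
def n17989 : Q := act 9 n12361
theorem D17989 : act 9 n12361 = n17989 := rfl
theorem F77883 : act 8 n17989 = n12407 := d44_1 D17989 (iv D12407) (iv D8541) (iv F38343) D12361
def n17990 : Q := act 8 n12362
theorem D17990 : act 8 n12362 = n17990 := rfl
theorem F77884 : act 0 n17990 = n12379 := d7_1 D17990 (iv D12379) (iv F54526)
theorem F77888 : act 7 n17990 = n12363 := d42_1 D17990 (iv D12363) D12362
def n17991 : Q := act 9 n12363
theorem D17991 : act 9 n12363 = n17991 := rfl
def n17997 : Q := act 3 n12367
theorem D17997 : act 3 n12367 = n17997 := rfl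
def n18001 : Q := act 9 n12369
theorem D18001 : act 9 n12369 = n18001 := rfl
theorem F77928 : act 2 n18001 = n12380 := d23_1 D18001 (iv D12380) (iv F54557)
def n18002 : Q := act 4 n12370
theorem D18002 : act 4 n12370 = n18002 := rfl
def n18003 : Q := act 9 n12370
theorem D18003 : act 9 n12370 = n18003 := rfl
theorem F77936 : act 3 n18003 = n12371 := d29_1 D18003 (iv D12371) D12370
theorem F77938 : act 7 n18003 = n12476 := d43_1 D18003 (iv D12476) (iv F54562)
def n18004 : Q := act 5 n12372
theorem D18004 : act 5 n12372 = n18004 := rfl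
def n18005 : Q := act 9 n12372
theorem D18005 : act 9 n12372 = n18005 := rfl
theorem F77945 : act 4 n18005 = n12373 := d34_1 D18005 (iv D12373) D12372
def n18006 : Q := act 8 n12373
theorem D18006 : act 8 n12373 = n18006 := rfl
theorem F77949 : act 3 n18006 = n12424 := d28_1 D18006 (iv D12424) F38511 (iv F38384) (iv F54574)
theorem F77951 : act 7 n18006 = n12479 := d42_1 D18006 (iv D12479) (iv F54576)
def n18011 : Q := act 9 n12376
theorem D18011 : act 9 n12376 = n18011 := rfl
theorem F77971 : act 4 n18011 = n12380 := d34_1 D18011 (iv D12380) (iv F54588)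
def n18012 : Q := act 2 n12377
theorem D18012 : act 2 n12377 = n18012 := rfl
theorem F77974 : act 4 n18012 = n18012 := d18_2 F54591 D18012 (iv D18012)
def n18013 : Q := act 9 n12377
theorem D18013 : act 9 n12377 = n18013 := rfl
theorem F77979 : act 3 n18013 = n12378 := d29_1 D18013 (iv D12378) D12377
theorem F77982 : act 7 n18013 = n12486 := d43_1 D18013 (iv D12486) (iv F54593)
def n18014 : Q := act 9 n12379
theorem D18014 : act 9 n12379 = n18014 := rfl
theorem F77987 : act 7 n18014 = n12380 := d43_1 D18014 (iv D12380) (iv F54604)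
def n18025 : Q := act 8 n12387
theorem D18025 : act 8 n12387 = n18025 := rfl
theorem F78026 : act 3 n18025 = n12443 := d28_1 D18025 (iv D12443) F38561 (iv F38424) (iv F54630)
theorem F78029 : act 7 n18025 = n12498 := d42_1 D18025 (iv D12498) (iv F54633)
def n18043 : Q := act 8 n12397
theorem D18043 : act 8 n12397 = n18043 := rfl
theorem F78098 : act 2 n18043 = n12408 := d22_1 D18043 (iv D12408) (iv F54670)
def n18047 : Q := act 9 n12399
theorem D18047 : act 9 n12399 = n18047 := rfl
theorem F78117 : act 3 n18047 = n12400 := d29_1 D18047 (iv D12400) D12399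
def n18052 : Q := act 8 n12403
theorem D18052 : act 8 n12403 = n18052 := rfl
theorem F78140 : act 0 n18052 = n12426 := d7_1 D18052 (iv D12426) (iv F54698)
theorem F78142 : act 5 n18052 = n12405 := d37_1 D18052 (iv D12405) D12403
def n18054 : Q := act 3 n12405
theorem D18054 : act 3 n12405 = n18054 := rfl
theorem F78148 : act 0 n18054 = n12428 := d2_1 D18054 (iv D12428) (iv F54706)
theorem F78149 : act 4 n18054 = n12853 := d24_2 (iv F54707) D18054 (iv D12853) F39707 (iv F38474)
def n18056 : Q := act 2 n12406
theorem D18056 : act 2 n12406 = n18056 := rfl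
theorem F78155 : act 0 n18056 = n12430 := d1_1 D18056 (iv D12430) (iv F54709)
theorem F78156 : act 4 n18056 = n12855 := d18_2 (iv F54710) D18056 (iv D12855)
def n18057 : Q := act 9 n12406
theorem D18057 : act 9 n12406 = n18057 := rfl
theorem F78161 : act 3 n18057 = n12407 := d29_1 D18057 (iv D12407) D12406
theorem F78162 : act 4 n18057 = n12856 := d34_1 D18057 (iv D12856) (iv F54710)
theorem F78164 : act 7 n18057 = n12530 := d43_1 D18057 (iv D12530) (iv F54712)
def n18078 : Q := act 8 n12421
theorem D18078 : act 8 n12421 = n18078 := rfl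
def n18081 : Q := act 8 n12423
theorem D18081 : act 8 n12423 = n18081 := rfl
theorem F78245 : act 2 n18081 = n12880 := d22_1 D18081 (iv D12880) (iv F54771)
theorem F78246 : act 4 n18081 = n12424 := d33_1 D18081 (iv D12424) (iv F54773)
def n18084 : Q := act 3 n12426
theorem D18084 : act 3 n12426 = n18084 := rfl
theorem F78259 : act 1 n18084 = n12435 := d10_1 D18084 (iv D12435) (iv F54784)
theorem F78260 : act 5 n18084 = n12428 := d25_2 (iv F54786) D18084 (iv D12428)
def n18086 : Q := act 3 n12427
theorem D18086 : act 3 n12427 = n18086 := rfl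
theorem F78267 : act 1 n18086 = n12437 := d10_1 D18086 (iv D12437) (iv F54788)
theorem F78268 : act 4 n18086 = n12884 := d24_2 (iv F54789) D18086 (iv D12884) F39805 (iv F38535)
def n18090 : Q := act 1 n12430
theorem D18090 : act 1 n12430 = n18090 := rfl
theorem F78283 : act 2 n18090 = n12441 := d9_2 D12430 D18090 (iv D12441) (iv D8566) (iv F38525)
def n18092 : Q := act 8 n12431
theorem D18092 : act 8 n12431 = n18092 := rfl
theorem F78293 : act 4 n18092 = n12890 := d33_1 D18092 (iv D12890) (iv F54805)
theorem F78295 : act 7 n18092 = n12565 := d42_1 D18092 (iv D12565) (iv F54807)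
def n18096 : Q := act 2 n12435
theorem D18096 : act 2 n12435 = n18096 := rfl
theorem F78307 : act 5 n18096 = n12439 := d19_2 (iv F54820) D18096 (iv D12439)
def n18097 : Q := act 4 n12435
theorem D18097 : act 4 n12435 = n18097 := rfl
theorem F78311 : act 5 n18097 = n12894 := d30_2 (iv F54820) D18097 (iv D12894) F39832 (iv F38552)
def n18099 : Q := act 2 n12437
theorem D18099 : act 2 n12437 = n18099 := rfl
theorem F78318 : act 6 n18099 = n12571 := d20_2 (iv F54827) D18099 (iv D12571)
theorem F78319 : act 7 n18099 = n12439 := d21_2 (iv F54828) D18099 (iv D12439)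
def n18100 : Q := act 9 n12437
theorem D18100 : act 9 n12437 = n18100 := rfl
theorem F78324 : act 7 n18100 = n12440 := d43_1 D18100 (iv D12440) (iv F54828)
def n18102 : Q := act 9 n12439
theorem D18102 : act 9 n12439 = n18102 := rfl
theorem F78329 : act 4 n18102 = n12899 := d34_1 D18102 (iv D12899) (iv F54833)
def n18103 : Q := act 8 n12440
theorem D18103 : act 8 n12440 = n18103 := rfl
theorem F78331 : act 4 n18103 = n12900 := d33_1 D18103 (iv D12900) (iv F54837)
def n18106 : Q := act 8 n12442
theorem D18106 : act 8 n12442 = n18106 := rfl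
theorem F78343 : act 4 n18106 = n12903 := d33_1 D18106 (iv D12903) (iv F54844)
theorem F78345 : act 7 n18106 = n12578 := d42_1 D18106 (iv D12578) (iv F54846)
def n18109 : Q := act 8 n12444
theorem D18109 : act 8 n12444 = n18109 := rfl
theorem F78355 : act 4 n18109 = n12446 := d33_1 D18109 (iv D12446) D12444
def n18111 : Q := act 8 n12445
theorem D18111 : act 8 n12445 = n18111 := rfl
theorem F78362 : act 5 n18111 = n12583 := d37_1 D18111 (iv D12583) (iv F54856)
theorem F78363 : act 6 n18111 = n12446 := d40_1 D18111 (iv D12446) D12445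
def n18112 : Q := act 3 n12446
theorem D18112 : act 3 n12446 = n18112 := rfl
def n18113 : Q := act 9 n12446
theorem D18113 : act 9 n12446 = n18113 := rfl
def n18114 : Q := act 2 n12447
theorem D18114 : act 2 n12447 = n18114 := rfl
def n18124 : Q := act 8 n12452
theorem D18124 : act 8 n12452 = n18124 := rfl
theorem F78409 : act 0 n18124 = n12472 := d7_1 D18124 (iv D12472) (iv F54880)
theorem F78410 : act 2 n18124 = n12463 := d22_1 D18124 (iv D12463) (iv F54881)
def n18125 : Q := act 3 n12453
theorem D18125 : act 3 n12453 = n18125 := rfl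
theorem F78415 : act 5 n18125 = n12597 := d25_2 (iv F54887) D18125 (iv D12597)
theorem F78416 : act 6 n18125 = n12454 := d26_2 (iv F54888) D18125 (iv D12454)
def n18128 : Q := act 9 n12454
theorem D18128 : act 9 n12454 = n18128 := rfl
theorem F78428 : act 3 n18128 = n12455 := d29_1 D18128 (iv D12455) D12454
def n18135 : Q := act 3 n12460
theorem D18135 : act 3 n12460 = n18135 := rfl
theorem F78458 : act 6 n18135 = n12461 := d26_2 (iv F54917) D18135 (iv D12461)
def n18136 : Q := act 9 n12460
theorem D18136 : act 9 n12460 = n18136 := rfl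
theorem F78462 : act 6 n18136 = n12462 := d41_1 D18136 (iv D12462) (iv F54917)
def n18137 : Q := act 2 n12461
theorem D18137 : act 2 n12461 = n18137 := rfl
def n18138 : Q := act 9 n12461
theorem D18138 : act 9 n12461 = n18138 := rfl
theorem F78469 : act 3 n18138 = n12462 := d29_1 D18138 (iv D12462) D12461
def n18139 : Q := act 9 n12463
theorem D18139 : act 9 n12463 = n18139 := rfl
theorem F78474 : act 5 n18139 = n12611 := d38_1 D18139 (iv D12611) (iv F54928)
def n18154 : Q := act 9 n12472
theorem D18154 : act 9 n12472 = n18154 := rfl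
theorem F78519 : act 2 n18154 = n12487 := d23_1 D18154 (iv D12487) (iv F54957)
def n18155 : Q := act 4 n12473
theorem D18155 : act 4 n12473 = n18155 := rfl
theorem F78524 : act 6 n18155 = n12475 := d31_2 (iv F54962) D18155 (iv D12475)
def n18156 : Q := act 9 n12473
theorem D18156 : act 9 n12473 = n18156 := rfl
theorem F78527 : act 3 n18156 = n12474 := d29_1 D18156 (iv D12474) D12473
theorem F78528 : act 5 n18156 = n12628 := d38_1 D18156 (iv D12628) (iv F54961)
theorem F78529 : act 6 n18156 = n12476 := d41_1 D18156 (iv D12476) (iv F54962)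
def n18158 : Q := act 9 n12475
theorem D18158 : act 9 n12475 = n18158 := rfl
def n18159 : Q := act 8 n12476
theorem D18159 : act 8 n12476 = n18159 := rfl
def n18170 : Q := act 9 n12483
theorem D18170 : act 9 n12483 = n18170 := rfl
theorem F78580 : act 3 n18170 = n12484 := d29_1 D18170 (iv D12484) D12483
theorem F78582 : act 6 n18170 = n12486 := d41_1 D18170 (iv D12486) (iv F54998)
def n18173 : Q := act 8 n12486
theorem D18173 : act 8 n12486 = n18173 := rfl
def n18179 : Q := act 9 n12490
theorem D18179 : act 9 n12490 = n18179 := rfl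
theorem F78612 : act 3 n18179 = n12491 := d29_1 D18179 (iv D12491) D12490
theorem F78613 : act 5 n18179 = n12495 := d38_1 D18179 (iv D12495) (iv F55023)
def n18184 : Q := act 8 n12495
theorem D18184 : act 8 n12495 = n18184 := rfl
theorem F78629 : act 6 n18184 = n12498 := d40_1 D18184 (iv D12498) (iv F55041)
def n18188 : Q := act 2 n12499
theorem D18188 : act 2 n12499 = n18188 := rfl
def n18191 : Q := act 5 n12500
theorem D18191 : act 5 n12500 = n18191 := rfl
theorem F78651 : act 4 n18191 = n12660 := d30_1 D18191 (iv D12660) F39094 (iv F38703) (iv F55056)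
def n18192 : Q := act 7 n12500
theorem D18192 : act 7 n12500 = n18192 := rfl
theorem F78654 : act 4 n18192 = n12502 := d32_1 D18192 (iv D12502) (iv F55056)
def n18193 : Q := act 8 n12500
theorem D18193 : act 8 n12500 = n18193 := rfl
theorem F78656 : act 4 n18193 = n12503 := d33_1 D18193 (iv D12503) (iv F55056)
def n18195 : Q := act 9 n12501
theorem D18195 : act 9 n12501 = n18195 := rfl
def n18198 : Q := act 9 n12503
theorem D18198 : act 9 n12503 = n18198 := rfl
def n18216 : Q := act 9 n12513
theorem D18216 : act 9 n12513 = n18216 := rfl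
theorem F78735 : act 6 n18216 = n12515 := d41_1 D18216 (iv D12515) (iv F55099)
def n18220 : Q := act 3 n12516
theorem D18220 : act 3 n12516 = n18220 := rfl
theorem F78745 : act 2 n18220 = n12932 := d17_1 D18220 (iv D12932) F39936 (iv F38765) (iv F55107)
def n18232 : Q := act 3 n12525
theorem D18232 : act 3 n12525 = n18232 := rfl
theorem F78797 : act 5 n18232 = n12527 := d25_2 (iv F55145) D18232 (iv D12527)
def n18233 : Q := act 9 n12525
theorem D18233 : act 9 n12525 = n18233 := rfl
def n18237 : Q := act 9 n12527
theorem D18237 : act 9 n12527 = n18237 := rfl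
theorem F78816 : act 3 n18237 = n12528 := d29_1 D18237 (iv D12528) D12527
theorem F78818 : act 6 n18237 = n12530 := d41_1 D18237 (iv D12530) (iv F55152)
def n18240 : Q := act 8 n12530
theorem D18240 : act 8 n12530 = n18240 := rfl
def n18281 : Q := act 9 n12557
theorem D18281 : act 9 n12557 = n18281 := rfl
theorem F78948 : act 3 n18281 = n12558 := d29_1 D18281 (iv D12558) D12557
theorem F78950 : act 5 n18281 = n12562 := d38_1 D18281 (iv D12562) (iv F55245)
def n18286 : Q := act 8 n12562
theorem D18286 : act 8 n12562 = n18286 := rfl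
theorem F78968 : act 6 n18286 = n12565 := d40_1 D18286 (iv D12565) (iv F55265)
def n18292 : Q := act 2 n12567
theorem D18292 : act 2 n12567 = n18292 := rfl
theorem F78990 : act 5 n18292 = n12571 := d19_2 (iv F55281) D18292 (iv D12571)
def n18293 : Q := act 9 n12567
theorem D18293 : act 9 n12567 = n18293 := rfl
theorem F78995 : act 5 n18293 = n12572 := d38_1 D18293 (iv D12572) (iv F55281)
def n18295 : Q := act 9 n12569
theorem D18295 : act 9 n12569 = n18295 := rfl
theorem F79003 : act 5 n18295 = n12574 := d38_1 D18295 (iv D12574) (iv F55288)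
def n18296 : Q := act 8 n12570
theorem D18296 : act 8 n12570 = n18296 := rfl
theorem F79006 : act 5 n18296 = n12575 := d37_1 D18296 (iv D12575) (iv F55293)
def n18298 : Q := act 9 n12571
theorem D18298 : act 9 n12571 = n18298 := rfl
def n18299 : Q := act 8 n12572
theorem D18299 : act 8 n12572 = n18299 := rfl
def n18302 : Q := act 8 n12574
theorem D18302 : act 8 n12574 = n18302 := rfl
theorem F79026 : act 6 n18302 = n12578 := d40_1 D18302 (iv D12578) (iv F55306)
def n18306 : Q := act 2 n12579
theorem D18306 : act 2 n12579 = n18306 := rfl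
theorem F79037 : act 1 n18306 = n12736 := d9_1 D18306 (iv D12736) F39303 (iv F38895) (iv F55320)
def n18308 : Q := act 8 n12579
theorem D18308 : act 8 n12579 = n18308 := rfl
def n18311 : Q := act 8 n12580
theorem D18311 : act 8 n12580 = n18311 := rfl
theorem F79058 : act 4 n18311 = n12583 := d33_1 D18311 (iv D12583) (iv F55326)
def n18312 : Q := act 3 n12581
theorem D18312 : act 3 n12581 = n18312 := rfl
def n18313 : Q := act 9 n12581
theorem D18313 : act 9 n12581 = n18313 := rfl
def n18316 : Q := act 9 n12583
theorem D18316 : act 9 n12583 = n18316 := rfl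
def n18326 : Q := act 7 n12589
theorem D18326 : act 7 n12589 = n18326 := rfl
theorem F79113 : act 2 n18326 = n12750 := d21_1 D18326 (iv D12750) (iv F55357)
theorem F79114 : act 3 n18326 = n12592 := d27_1 D18326 (iv D12592) (iv F55358)
def n18327 : Q := act 8 n12589
theorem D18327 : act 8 n12589 = n18327 := rfl
theorem F79119 : act 2 n18327 = n12751 := d22_1 D18327 (iv D12751) (iv F55357)
def n18328 : Q := act 3 n12590
theorem D18328 : act 3 n12590 = n18328 := rfl
theorem F79125 : act 8 n18328 = n12594 := d28_2 D12590 D18328 (iv D12594) (iv D8667) D8665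
def n18333 : Q := act 3 n12593
theorem D18333 : act 3 n12593 = n18333 := rfl
theorem F79145 : act 0 n18333 = n12620 := d2_1 D18333 (iv D12620) (iv F55375)
def n18334 : Q := act 9 n12593
theorem D18334 : act 9 n12593 = n18334 := rfl
theorem F79147 : act 0 n18334 = n12621 := d8_1 D18334 (iv D12621) (iv F55375)
theorem F79149 : act 4 n18334 = n12598 := d34_1 D18334 (iv D12598) (iv F55377)
def n18337 : Q := act 9 n12594
theorem D18337 : act 9 n12594 = n18337 := rfl
theorem F79159 : act 0 n18337 = n12624 := d8_1 D18337 (iv D12624) (iv F55379)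
def n18339 : Q := act 9 n12596
theorem D18339 : act 9 n12596 = n18339 := rfl
theorem F79169 : act 2 n18339 = n12611 := d23_1 D18339 (iv D12611) (iv F55389)
def n18341 : Q := act 9 n12597
theorem D18341 : act 9 n12597 = n18341 := rfl
theorem F79179 : act 3 n18341 = n12598 := d29_1 D18341 (iv D12598) D12597
def n18354 : Q := act 2 n12607
theorem D18354 : act 2 n12607 = n18354 := rfl
theorem F79236 : act 0 n18354 = n12641 := d1_1 D18354 (iv D12641) (iv F55435)
theorem F79239 : act 8 n18354 = n12768 := d22_2 (iv F55438) D18354 (iv D12768)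
def n18355 : Q := act 9 n12607
theorem D18355 : act 9 n12607 = n18355 := rfl
theorem F79240 : act 0 n18355 = n12642 := d8_1 D18355 (iv D12642) (iv F55435)
theorem F79241 : act 3 n18355 = n12608 := d29_1 D18355 (iv D12608) D12607
def n18357 : Q := act 9 n12609
theorem D18357 : act 9 n12609 = n18357 := rfl
theorem F79249 : act 0 n18357 = n12644 := d8_1 D18357 (iv D12644) (iv F55443)
def n18362 : Q := act 3 n12614
theorem D18362 : act 3 n12614 = n18362 := rfl
theorem F79271 : act 8 n18362 = n12620 := d28_2 D12614 D18362 (iv D12620) (iv D8685) (iv F38967)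
def n18375 : Q := act 9 n12620
theorem D18375 : act 9 n12620 = n18375 := rfl
def n18386 : Q := act 8 n12628
theorem D18386 : act 8 n12628 = n18386 := rfl
def n18397 : Q := act 2 n12637
theorem D18397 : act 2 n12637 = n18397 := rfl
theorem F79386 : act 5 n18397 = n12641 := d19_2 (iv F55548) D18397 (iv D12641)
theorem F79388 : act 8 n18397 = n12794 := d22_2 (iv F55550) D18397 (iv D12794)
def n18399 : Q := act 9 n12637
theorem D18399 : act 9 n12637 = n18399 := rfl
theorem F79395 : act 5 n18399 = n12642 := d38_1 D18399 (iv D12642) (iv F55548)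
def n18400 : Q := act 2 n12639
theorem D18400 : act 2 n12639 = n18400 := rfl
theorem F79400 : act 7 n18400 = n12641 := d21_2 (iv F55558) D18400 (iv D12641)
theorem F79401 : act 8 n18400 = n12796 := d22_2 (iv F55559) D18400 (iv D12796)
def n18401 : Q := act 9 n12639
theorem D18401 : act 9 n12639 = n18401 := rfl
theorem F79406 : act 7 n18401 = n12642 := d43_1 D18401 (iv D12642) (iv F55558)
def n18402 : Q := act 1 n12641
theorem D18402 : act 1 n12641 = n18402 := rfl
theorem F79408 : act 2 n18402 = n12653 := d9_2 D12641 D18402 (iv D12653) (iv D8710) (iv F39030)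
def n18403 : Q := act 9 n12641
theorem D18403 : act 9 n12641 = n18403 := rfl
def n18405 : Q := act 9 n12643
theorem D18405 : act 9 n12643 = n18405 := rfl
theorem F79421 : act 1 n18405 = n12644 := d16_1 D18405 (iv D12644) D12643
theorem F79422 : act 2 n18405 = n12656 := d23_1 D18405 (iv D12656) (iv F55573)
def n18412 : Q := act 4 n12648
theorem D18412 : act 4 n12648 = n18412 := rfl
theorem F79448 : act 2 n18412 = n12649 := d18_1 D18412 (iv D12649) D12648
def n18413 : Q := act 9 n12648
theorem D18413 : act 9 n12648 = n18413 := rfl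
def n18414 : Q := act 9 n12649
theorem D18414 : act 9 n12649 = n18414 := rfl
theorem F79456 : act 4 n18414 = n12650 := d34_1 D18414 (iv D12650) D12649
def n18418 : Q := act 9 n12653
theorem D18418 : act 9 n12653 = n18418 := rfl
def n18420 : Q := act 6 n12657
theorem D18420 : act 6 n12657 = n18420 := rfl
theorem F79481 : act 1 n18420 = n12806 := d13_1 D18420 (iv D12806) (iv F55627)
theorem F79482 : act 2 n18420 = n12658 := d20_1 D18420 (iv D12658) D12657
def n18422 : Q := act 5 n12658
theorem D18422 : act 5 n12658 = n18422 := rfl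
theorem F79490 : act 3 n18422 = n12660 := d25_1 D18422 (iv D12660) (iv F55632)
def n18427 : Q := act 7 n12660
theorem D18427 : act 7 n12660 = n18427 := rfl
def n18428 : Q := act 8 n12660
theorem D18428 : act 8 n12660 = n18428 := rfl
theorem F79510 : act 5 n18428 = n12662 := d37_1 D18428 (iv D12662) D12660
def n18431 : Q := act 9 n12662
theorem D18431 : act 9 n12662 = n18431 := rfl
def n18526 : Q := act 6 n12736
theorem D18526 : act 6 n12736 = n18526 := rfl
theorem F79883 : act 2 n18526 = n12737 := d20_1 D18526 (iv D12737) D12736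
theorem F79885 : act 9 n18526 = n12806 := d41_2 (iv F55924) D18526 (iv D12806)
def n18527 : Q := act 8 n12736
theorem D18527 : act 8 n12736 = n18527 := rfl
def n18529 : Q := act 7 n12737
theorem D18529 : act 7 n12737 = n18529 := rfl
theorem F79897 : act 1 n18529 = n12750 := d14_1 D18529 (iv D12750) (iv F55926)
theorem F79898 : act 3 n18529 = n12740 := d27_1 D18529 (iv D12740) (iv F55927)
theorem F79901 : act 9 n18529 = n12809 := d43_2 (iv F55929) D18529 (iv D12809)
def n18530 : Q := act 8 n12737
theorem D18530 : act 8 n12737 = n18530 := rfl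
theorem F79903 : act 1 n18530 = n12751 := d15_1 D18530 (iv D12751) (iv F55926)
def n18533 : Q := act 7 n12739
theorem D18533 : act 7 n12739 = n18533 := rfl
theorem F79920 : act 5 n18533 = n12740 := d36_1 D18533 (iv D12740) D12739
def n18534 : Q := act 8 n12739
theorem D18534 : act 8 n12739 = n18534 := rfl
def n18535 : Q := act 8 n12740
theorem D18535 : act 8 n12740 = n18535 := rfl
theorem F79930 : act 4 n18535 = n12743 := d33_1 D18535 (iv D12743) (iv F55942)
def n18560 : Q := act 2 n12757
theorem D18560 : act 2 n12757 = n18560 := rfl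
theorem F80052 : act 3 n18560 = n12768 := d17_2 D12757 D18560 (iv D12768) (iv D8793) (iv F39367)
def n18594 : Q := act 2 n12781
theorem D18594 : act 2 n12781 = n18594 := rfl
theorem F80204 : act 3 n18594 = n12794 := d17_2 D12781 D18594 (iv D12794) (iv D8812) (iv F39448)
def n18596 : Q := act 2 n12782
theorem D18596 : act 2 n12782 = n18596 := rfl
theorem F80212 : act 3 n18596 = n12796 := d17_2 D12782 D18596 (iv D12796) (iv D8813) (iv F39454)
def n18597 : Q := act 4 n12782
theorem D18597 : act 4 n12782 = n18597 := rfl
theorem F80217 : act 3 n18597 = n12788 := d24_1 D18597 (iv D12788) (iv D8806) (iv F39455) D12782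
def n18623 : Q := act 5 n12806
theorem D18623 : act 5 n12806 = n18623 := rfl
def n18624 : Q := act 7 n12806
theorem D18624 : act 7 n12806 = n18624 := rfl
def n18625 : Q := act 8 n12806
theorem D18625 : act 8 n12806 = n18625 := rfl
def n18649 : Q := act 5 n12826
theorem D18649 : act 5 n12826 = n18649 := rfl
theorem F80455 : act 6 n18649 = n13041 := d35_2 D12826 D18649 (iv D13041) (iv D8993) (iv F39630)
def n18655 : Q := act 3 n12829
theorem D18655 : act 3 n12829 = n18655 := rfl
def n18675 : Q := act 2 n12840
theorem D18675 : act 2 n12840 = n18675 := rfl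
theorem F80579 : act 3 n18675 = n12855 := d17_2 D12840 D18675 (iv D12855) (iv D8857) (iv F39664)
def n18678 : Q := act 3 n12842
theorem D18678 : act 3 n12842 = n18678 := rfl
def n18689 : Q := act 3 n12851
theorem D18689 : act 3 n12851 = n18689 := rfl
theorem F80638 : act 5 n18689 = n12853 := d25_2 (iv F56461) D18689 (iv D12853)
theorem F80639 : act 6 n18689 = n13073 := d26_2 (iv F56462) D18689 (iv D13073)
def n18694 : Q := act 9 n12853
theorem D18694 : act 9 n12853 = n18694 := rfl
def n18697 : Q := act 8 n12856
theorem D18697 : act 8 n12856 = n18697 := rfl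
theorem F80670 : act 5 n18697 = n13079 := d37_1 D18697 (iv D13079) (iv F56480)
def n18708 : Q := act 3 n12864
theorem D18708 : act 3 n12864 = n18708 := rfl
theorem F80721 : act 5 n18708 = n12866 := d25_2 (iv F56521) D18708 (iv D12866)
theorem F80722 : act 6 n18708 = n13087 := d26_2 (iv F56522) D18708 (iv D13087)
def n18736 : Q := act 4 n12882
theorem D18736 : act 4 n12882 = n18736 := rfl
theorem F80834 : act 6 n18736 = n13109 := d31_2 (iv F56595) D18736 (iv D13109)
def n18737 : Q := act 9 n12882
theorem D18737 : act 9 n12882 = n18737 := rfl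
theorem F80838 : act 5 n18737 = n12887 := d38_1 D18737 (iv D12887) (iv F56594)
theorem F80839 : act 6 n18737 = n13110 := d41_1 D18737 (iv D13110) (iv F56595)
def n18739 : Q := act 9 n12884
theorem D18739 : act 9 n12884 = n18739 := rfl
theorem F80846 : act 7 n18739 = n12887 := d43_1 D18739 (iv D12887) (iv F56604)
def n18742 : Q := act 8 n12887
theorem D18742 : act 8 n12887 = n18742 := rfl
def n18750 : Q := act 4 n12893
theorem D18750 : act 4 n12893 = n18750 := rfl
theorem F80886 : act 6 n18750 = n13118 := d31_2 (iv F56640) D18750 (iv D13118)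
def n18751 : Q := act 9 n12893
theorem D18751 : act 9 n12893 = n18751 := rfl
theorem F80890 : act 5 n18751 = n12899 := d38_1 D18751 (iv D12899) (iv F56639)
theorem F80891 : act 6 n18751 = n13119 := d41_1 D18751 (iv D13119) (iv F56640)
def n18752 : Q := act 9 n12894
theorem D18752 : act 9 n12894 = n18752 := rfl
theorem F80894 : act 6 n18752 = n13120 := d41_1 D18752 (iv D13120) (iv F56643)
def n18753 : Q := act 8 n12895
theorem D18753 : act 8 n12895 = n18753 := rfl
theorem F80896 : act 5 n18753 = n12900 := d37_1 D18753 (iv D12900) (iv F56646)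
theorem F80897 : act 6 n18753 = n13121 := d40_1 D18753 (iv D13121) (iv F56647)
def n18756 : Q := act 8 n12897
theorem D18756 : act 8 n12897 = n18756 := rfl
theorem F80908 : act 6 n18756 = n12988 := d40_1 D18756 (iv D12988) (iv F56653)
theorem F80909 : act 7 n18756 = n12900 := d42_1 D18756 (iv D12900) (iv F56654)
def n18759 : Q := act 8 n12899
theorem D18759 : act 8 n12899 = n18759 := rfl
def n18771 : Q := act 9 n12908
theorem D18771 : act 9 n12908 = n18771 := rfl
theorem F80977 : act 6 n18771 = n12910 := d41_1 D18771 (iv D12910) (iv F56700)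
def n18874 : Q := act 8 n12979
theorem D18874 : act 8 n12979 = n18874 := rfl
def n19002 : Q := act 4 n13073
theorem D19002 : act 4 n13073 = n19002 := rfl
theorem F81914 : act 0 n19002 = n13109 := d3_1 D19002 (iv D13109) (iv F57373)
def n19003 : Q := act 9 n13073
theorem D19003 : act 9 n13073 = n19003 := rfl
theorem F81921 : act 5 n19003 = n13076 := d38_1 D19003 (iv D13076) (iv F57374)
def n19006 : Q := act 8 n13076
theorem D19006 : act 8 n13076 = n19006 := rfl
theorem F81935 : act 6 n19006 = n13079 := d40_1 D19006 (iv D13079) (iv F57390)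
def n19010 : Q := act 8 n13080
theorem D19010 : act 8 n13080 = n19010 := rfl
theorem F81952 : act 4 n19010 = n13081 := d33_1 D19010 (iv D13081) D13080
theorem F81953 : act 5 n19010 = n13278 := d37_1 D19010 (iv D13278) (iv F57407)
def n19011 : Q := act 3 n13081
theorem D19011 : act 3 n13081 = n19011 := rfl
theorem F81958 : act 8 n19011 = n13087 := d28_2 D13081 D19011 (iv D13087) (iv D9023) (iv F40388)
def n19054 : Q := act 9 n13109
theorem D19054 : act 9 n13109 = n19054 := rfl
theorem F82127 : act 1 n19054 = n13120 := d16_1 D19054 (iv D13120) (iv F57526)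
theorem F82129 : act 4 n19054 = n13110 := d34_1 D19054 (iv D13110) D13109
def n19055 : Q := act 8 n13110
theorem D19055 : act 8 n13110 = n19055 := rfl
theorem F82134 : act 5 n19055 = n13113 := d37_1 D19055 (iv D13113) (iv F57533)
def n19066 : Q := act 9 n13118
theorem D19066 : act 9 n13118 = n19066 := rfl
theorem F82180 : act 2 n19066 = n13120 := d23_1 D19066 (iv D13120) (iv F57566)
theorem F82181 : act 4 n19066 = n13119 := d34_1 D19066 (iv D13119) D13118
def n19067 : Q := act 8 n13119
theorem D19067 : act 8 n13119 = n19067 := rfl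
theorem F82185 : act 5 n19067 = n13124 := d37_1 D19067 (iv D13124) (iv F57572)
def n19068 : Q := act 8 n13120
theorem D19068 : act 8 n13120 = n19068 := rfl
theorem F82188 : act 4 n19068 = n13121 := d33_1 D19068 (iv D13121) (iv F57575)
def n19256 : Q := act 4 n13250
theorem D19256 : act 4 n13250 = n19256 := rfl
theorem F83005 : act 2 n19256 = n13251 := d18_1 D19256 (iv D13251) D13250
def n19282 : Q := act 4 n13269
theorem D19282 : act 4 n13269 = n19282 := rfl
theorem F83118 : act 2 n19282 = n13270 := d18_1 D19282 (iv D13270) D13269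
def n19283 : Q := act 9 n13269
theorem D19283 : act 9 n13269 = n19283 := rfl
theorem F83124 : act 2 n19283 = n13271 := d23_1 D19283 (iv D13271) D13269
def n19284 : Q := act 9 n13270
theorem D19284 : act 9 n13270 = n19284 := rfl
theorem F83128 : act 0 n19284 = n13322 := d8_1 D19284 (iv D13322) (iv F58230)
theorem F83129 : act 1 n19284 = n19284 := d16_1 D19284 (iv D19284) F58231
theorem F83130 : act 3 n19284 = n19284 := d29_1 D19284 (iv D19284) F58232
theorem F83131 : act 4 n19284 = n13271 := d34_1 D19284 (iv D13271) D13270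
def n19320 : Q := act 4 n13293
theorem D19320 : act 4 n13293 = n19320 := rfl
theorem F83295 : act 1 n19320 = n13294 := d11_1 D19320 (iv D13294) D13293
def n19359 : Q := act 8 n13321
theorem D19359 : act 8 n13321 = n19359 := rfl
theorem F83463 : act 2 n19359 = n13323 := d22_1 D19359 (iv D13323) (iv F58460)
def n19360 : Q := act 8 n13322
theorem D19360 : act 8 n13322 = n19360 := rfl
theorem F83469 : act 4 n19360 = n13323 := d33_1 D19360 (iv D13323) (iv F58466)
theorem F83470 : act 5 n19360 = n19360 := d37_1 D19360 (iv D19360) F58467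
def n19369 : Q := act 3 n13331
theorem D19369 : act 3 n13331 = n19369 := rfl
theorem F83515 : act 1 n19369 = n13333 := d10_1 D19369 (iv D13333) (iv F58512)
def n19370 : Q := act 9 n13331
theorem D19370 : act 9 n13331 = n19370 := rfl
theorem F83520 : act 1 n19370 = n13334 := d16_1 D19370 (iv D13334) (iv F58512)
def n19371 : Q := act 8 n13332
theorem D19371 : act 8 n13332 = n19371 := rfl
theorem F83525 : act 1 n19371 = n13335 := d15_1 D19371 (iv D13335) (iv F58517)
def n19372 : Q := act 8 n13333
theorem D19372 : act 8 n13333 = n19372 := rfl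
theorem F83530 : act 0 n19372 = n19372 := d7_1 D19372 (iv D19372) F58522
theorem F83531 : act 2 n19372 = n19372 := d22_1 D19372 (iv D19372) F58523
theorem F83532 : act 3 n19372 = n19372 := d28_1 D19372 (iv D19372) (iv D13333) F41184 D13333
theorem F83533 : act 4 n19372 = n19372 := d33_1 D19372 (iv D19372) F58524
theorem F83534 : act 5 n19372 = n19372 := d37_1 D19372 (iv D19372) F58525
theorem F83535 : act 6 n19372 = n19372 := d40_1 D19372 (iv D19372) F58526
theorem F83536 : act 7 n19372 = n19372 := d42_1 D19372 (iv D19372) F58527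
def n19373 : Q := act 9 n13333
theorem D19373 : act 9 n13333 = n19373 := rfl
theorem F83539 : act 3 n19373 = n13334 := d29_1 D19373 (iv D13334) D13333
def n19374 : Q := act 8 n13334
theorem D19374 : act 8 n13334 = n19374 := rfl
theorem F83546 : act 4 n19374 = n13335 := d33_1 D19374 (iv D13335) (iv F58530)
theorem F83547 : act 5 n19374 = n19374 := d37_1 D19374 (iv D19374) F58531
def n19375 : Q := act 3 n13335
theorem D19375 : act 3 n13335 = n19375 := rfl
theorem F83551 : act 0 n19375 = n19375 := d2_1 D19375 (iv D19375) F58534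
theorem F83552 : act 2 n19375 = n19375 := d17_1 D19375 (iv D19375) F58535 F41198 (iv F58535)
theorem F83553 : act 5 n19375 = n13339 := d25_2 (iv F58536) D19375 (iv D13339)
theorem F83556 : act 8 n19375 = n19375 := d28_2 D13335 D19375 (iv D19375) (iv D13335) F41187
def n19378 : Q := act 3 n13338
theorem D19378 : act 3 n13338 = n19378 := rfl
theorem F83571 : act 1 n19378 = n13339 := d10_1 D19378 (iv D13339) (iv F58552)
def n19379 : Q := act 4 n13339
theorem D19379 : act 4 n13339 = n19379 := rfl
theorem F83576 : act 0 n19379 = n19379 := d3_1 D19379 (iv D19379) F58557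
theorem F83577 : act 2 n19379 = n19379 := d18_1 D19379 (iv D19379) F58558
theorem F83578 : act 3 n19379 = n19379 := d24_1 D19379 (iv D19379) (iv D13339) F41216 D13339
theorem F83581 : act 8 n19379 = n19379 := d33_2 F58561 D19379 (iv D19379)
def n19551 : Q := act 1 n13463
theorem D19551 : act 1 n13463 = n19551 := rfl
theorem F84325 : act 5 n19551 = n13465 := d12_2 (iv F59103) D19551 (iv D13465)
def n19552 : Q := act 4 n13463
theorem D19552 : act 4 n13463 = n19552 := rfl
theorem F84331 : act 2 n19552 = n13464 := d18_1 D19552 (iv D13464) D13463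
def n19553 : Q := act 5 n13464
theorem D19553 : act 5 n13464 = n19553 := rfl
theorem F84339 : act 4 n19553 = n13467 := d30_1 D19553 (iv D13467) (iv D9294) (iv F41617) D13464
def n19554 : Q := act 0 n13465
theorem D19554 : act 0 n13465 = n19554 := rfl
theorem F84346 : act 6 n19554 = n13468 := d5_2 (iv F59117) D19554 (iv D13468)
def n19555 : Q := act 4 n13465
theorem D19555 : act 4 n13465 = n19555 := rfl
theorem F84350 : act 1 n19555 = n13466 := d11_1 D19555 (iv D13466) D13465
theorem F84352 : act 6 n19555 = n13469 := d31_2 (iv F59117) D19555 (iv D13469)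
def n19556 : Q := act 3 n13466
theorem D19556 : act 3 n13466 = n19556 := rfl
theorem F84357 : act 2 n19556 = n13482 := d17_1 D19556 (iv D13482) F41690 (iv F41630) (iv F59122)
theorem F84359 : act 6 n19556 = n13470 := d26_2 (iv F59123) D19556 (iv D13470)
def n19557 : Q := act 5 n13466
theorem D19557 : act 5 n13466 = n19557 := rfl
theorem F84363 : act 2 n19557 = n13467 := d19_1 D19557 (iv D13467) (iv F59122)
def n19558 : Q := act 6 n13467
theorem D19558 : act 6 n13467 = n19558 := rfl
theorem F84369 : act 3 n19558 = n13484 := d26_1 D19558 (iv D13484) (iv F59129)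
theorem F84370 : act 5 n19558 = n13472 := d35_1 D19558 (iv D13472) (iv D9297) (iv F41631) D13467
def n19559 : Q := act 4 n13468
theorem D19559 : act 4 n13468 = n19559 := rfl
theorem F84373 : act 0 n19559 = n13469 := d3_1 D19559 (iv D13469) D13468
theorem F84376 : act 7 n19559 = n13473 := d32_2 (iv F59137) D19559 (iv D13473)
def n19560 : Q := act 3 n13469
theorem D19560 : act 3 n13469 = n19560 := rfl
theorem F84379 : act 1 n19560 = n13470 := d10_1 D19560 (iv D13470) (iv F59140)
theorem F84381 : act 7 n19560 = n13474 := d27_2 (iv F59142) D19560 (iv D13474)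
def n19561 : Q := act 5 n13469
theorem D19561 : act 5 n13469 = n19561 := rfl
theorem F84383 : act 1 n19561 = n13471 := d12_1 D19561 (iv D13471) (iv F59140)
theorem F84386 : act 7 n19561 = n13475 := d36_2 (iv F59142) D19561 (iv D13475)
def n19562 : Q := act 5 n13470
theorem D19562 : act 5 n13470 = n19562 := rfl
theorem F84390 : act 2 n19562 = n13488 := d19_1 D19562 (iv D13488) (iv F59146)
theorem F84392 : act 7 n19562 = n13476 := d36_2 (iv F59148) D19562 (iv D13476)
def n19563 : Q := act 8 n13470
theorem D19563 : act 8 n13470 = n19563 := rfl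
theorem F84395 : act 2 n19563 = n13489 := d22_1 D19563 (iv D13489) (iv F59146)
def n19564 : Q := act 6 n13471
theorem D19564 : act 6 n13471 = n19564 := rfl
theorem F84400 : act 2 n19564 = n13472 := d20_1 D19564 (iv D13472) (iv F59151)
def n19565 : Q := act 7 n13472
theorem D19565 : act 7 n13472 = n19565 := rfl
theorem F84406 : act 3 n19565 = n13491 := d27_1 D19565 (iv D13491) (iv F59158)
theorem F84408 : act 6 n19565 = n13479 := d39_1 D19565 (iv D13479) (iv D9302) (iv F41650) D13472
def n19566 : Q := act 3 n13473
theorem D19566 : act 3 n13473 = n19566 := rfl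
theorem F84411 : act 0 n19566 = n13474 := d2_1 D19566 (iv D13474) (iv F59162)
def n19567 : Q := act 5 n13473
theorem D19567 : act 5 n13473 = n19567 := rfl
theorem F84416 : act 0 n19567 = n13475 := d4_1 D19567 (iv D13475) (iv F59162)
def n19569 : Q := act 5 n13474
theorem D19569 : act 5 n13474 = n19569 := rfl
theorem F84427 : act 1 n19569 = n13476 := d12_1 D19569 (iv D13476) (iv F59168)
theorem F84428 : act 3 n19569 = n13475 := d25_1 D19569 (iv D13475) D13474
def n19571 : Q := act 6 n13475
theorem D19571 : act 6 n13475 = n19571 := rfl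
theorem F84434 : act 1 n19571 = n13478 := d13_1 D19571 (iv D13478) (iv F59172)
def n19572 : Q := act 4 n13476
theorem D19572 : act 4 n13476 = n19572 := rfl
theorem F84441 : act 2 n19572 = n13498 := d18_1 D19572 (iv D13498) (iv F59178)
def n19573 : Q := act 6 n13476
theorem D19573 : act 6 n13476 = n19573 := rfl
theorem F84446 : act 2 n19573 = n13499 := d20_1 D19573 (iv D13499) (iv F59178)
theorem F84447 : act 3 n19573 = n13478 := d26_1 D19573 (iv D13478) (iv F59179)
def n19574 : Q := act 8 n13476
theorem D19574 : act 8 n13476 = n19574 := rfl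
theorem F84451 : act 2 n19574 = n13500 := d22_1 D19574 (iv D13500) (iv F59178)
def n19576 : Q := act 7 n13478
theorem D19576 : act 7 n13478 = n19576 := rfl
theorem F84461 : act 2 n19576 = n13479 := d21_1 D19576 (iv D13479) (iv F59187)
def n19577 : Q := act 4 n13480
theorem D19577 : act 4 n13480 = n19577 := rfl
theorem F84469 : act 6 n19577 = n13485 := d31_2 (iv F59203) D19577 (iv D13485)
theorem F84471 : act 8 n19577 = n13560 := d33_2 (iv F59205) D19577 (iv D13560)
def n19578 : Q := act 3 n13481
theorem D19578 : act 3 n13481 = n19578 := rfl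
theorem F84475 : act 6 n19578 = n13486 := d26_2 (iv F59209) D19578 (iv D13486)
def n19579 : Q := act 5 n13481
theorem D19579 : act 5 n13481 = n19579 := rfl
theorem F84482 : act 8 n19579 = n13562 := d37_2 (iv F59211) D19579 (iv D13562)
def n19580 : Q := act 5 n13482
theorem D19580 : act 5 n13482 = n19580 := rfl
theorem F84485 : act 3 n19580 = n13483 := d25_1 D19580 (iv D13483) D13482
def n19581 : Q := act 8 n13482
theorem D19581 : act 8 n13482 = n19581 := rfl
theorem F84489 : act 3 n19581 = n13564 := d28_1 D19581 (iv D13564) (iv D9357) (iv F41693) D13482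
theorem F84491 : act 6 n19581 = n13489 := d40_1 D19581 (iv D13489) (iv F59215)
def n19582 : Q := act 6 n13483
theorem D19582 : act 6 n13483 = n19582 := rfl
theorem F84496 : act 5 n19582 = n13490 := d35_1 D19582 (iv D13490) (iv D9309) (iv F41691) D13483
theorem F84497 : act 8 n19582 = n13565 := d40_2 (iv F59222) D19582 (iv D13565)
def n19583 : Q := act 7 n13484
theorem D19583 : act 7 n13484 = n19583 := rfl
theorem F84502 : act 5 n19583 = n13491 := d36_1 D19583 (iv D13491) (iv F59227)
theorem F84504 : act 8 n19583 = n13566 := d42_2 (iv F59228) D19583 (iv D13566)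
def n19584 : Q := act 3 n13485
theorem D19584 : act 3 n13485 = n19584 := rfl
theorem F84509 : act 7 n19584 = n13492 := d27_2 (iv F59233) D19584 (iv D13492)
def n19585 : Q := act 5 n13485
theorem D19585 : act 5 n13485 = n19585 := rfl
theorem F84514 : act 4 n19585 = n13504 := d30_1 D19585 (iv D13504) (iv D9318) (iv F41704) D13485
theorem F84515 : act 7 n19585 = n13493 := d36_2 (iv F59233) D19585 (iv D13493)
theorem F84516 : act 8 n19585 = n13575 := d37_2 (iv F59234) D19585 (iv D13575)
def n19586 : Q := act 2 n13486
theorem D19586 : act 2 n13486 = n19586 := rfl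
theorem F84520 : act 7 n19586 = n13494 := d21_2 (iv F59238) D19586 (iv D13494)
def n19587 : Q := act 5 n13486
theorem D19587 : act 5 n13486 = n19587 := rfl
theorem F84523 : act 3 n19587 = n13487 := d25_1 D19587 (iv D13487) D13486
theorem F84524 : act 7 n19587 = n13495 := d36_2 (iv F59238) D19587 (iv D13495)
def n19588 : Q := act 8 n13486
theorem D19588 : act 8 n13486 = n19588 := rfl
theorem F84527 : act 3 n19588 = n13578 := d28_1 D19588 (iv D13578) (iv D9366) (iv F41711) D13486
def n19589 : Q := act 6 n13487
theorem D19589 : act 6 n13487 = n19589 := rfl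
theorem F84532 : act 4 n19589 = n13508 := d31_1 D19589 (iv D13508) (iv F59242)
theorem F84533 : act 8 n19589 = n13579 := d40_2 (iv F59244) D19589 (iv D13579)
def n19590 : Q := act 4 n13488
theorem D19590 : act 4 n13488 = n19590 := rfl
theorem F84536 : act 3 n19590 = n13509 := d24_1 D19590 (iv D13509) F41781 (iv F41719) (iv F59247)
theorem F84538 : act 7 n19590 = n13498 := d32_2 (iv F59248) D19590 (iv D13498)
def n19591 : Q := act 6 n13488
theorem D19591 : act 6 n13488 = n19591 := rfl
theorem F84541 : act 3 n19591 = n13490 := d26_1 D19591 (iv D13490) (iv F59247)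
def n19592 : Q := act 8 n13488
theorem D19592 : act 8 n13488 = n19592 := rfl
theorem F84544 : act 3 n19592 = n13582 := d28_1 D19592 (iv D13582) F42017 (iv F41721) (iv F59247)
theorem F84546 : act 7 n19592 = n13500 := d42_1 D19592 (iv D13500) (iv F59248)
def n19593 : Q := act 9 n13489
theorem D19593 : act 9 n13489 = n19593 := rfl
def n19594 : Q := act 7 n13490
theorem D19594 : act 7 n13490 = n19594 := rfl
theorem F84554 : act 4 n19594 = n13513 := d32_1 D19594 (iv D13513) (iv F59256)
theorem F84555 : act 6 n19594 = n13502 := d39_1 D19594 (iv D13502) (iv D9316) (iv F41720) D13490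
theorem F84556 : act 8 n19594 = n13584 := d42_2 (iv F59257) D19594 (iv D13584)
def n19596 : Q := act 5 n13492
theorem D19596 : act 5 n13492 = n19596 := rfl
theorem F84565 : act 3 n19596 = n13493 := d25_1 D19596 (iv D13493) D13492
def n19597 : Q := act 8 n13492
theorem D19597 : act 8 n13492 = n19597 := rfl
theorem F84569 : act 3 n19597 = n13598 := d28_1 D19597 (iv D13598) (iv D9379) (iv F41732) D13492
def n19598 : Q := act 6 n13493
theorem D19598 : act 6 n13493 = n19598 := rfl
theorem F84575 : act 4 n19598 = n13517 := d31_1 D19598 (iv D13517) (iv F59273)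
theorem F84577 : act 8 n19598 = n13599 := d40_2 (iv F59274) D19598 (iv D13599)
def n19599 : Q := act 5 n13494
theorem D19599 : act 5 n13494 = n19599 := rfl
theorem F84579 : act 2 n19599 = n13495 := d19_1 D19599 (iv D13495) D13494
def n19601 : Q := act 4 n13495
theorem D19601 : act 4 n13495 = n19601 := rfl
theorem F84586 : act 3 n19601 = n13520 := d24_1 D19601 (iv D13520) F41818 (iv F41740) (iv F59281)
def n19602 : Q := act 6 n13495
theorem D19602 : act 6 n13495 = n19602 := rfl
theorem F84590 : act 3 n19602 = n13497 := d26_1 D19602 (iv D13497) (iv F59281)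
def n19603 : Q := act 8 n13495
theorem D19603 : act 8 n13495 = n19603 := rfl
theorem F84594 : act 3 n19603 = n13604 := d28_1 D19603 (iv D13604) F42081 (iv F41741) (iv F59281)
def n19605 : Q := act 7 n13497
theorem D19605 : act 7 n13497 = n19605 := rfl
theorem F84603 : act 4 n19605 = n13524 := d32_1 D19605 (iv D13524) (iv F59289)
theorem F84605 : act 8 n19605 = n13606 := d42_2 (iv F59291) D19605 (iv D13606)
def n19606 : Q := act 6 n13498
theorem D19606 : act 6 n13498 = n19606 := rfl
theorem F84608 : act 3 n19606 = n13525 := d26_1 D19606 (iv D13525) (iv F59294)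
theorem F84609 : act 4 n19606 = n13499 := d31_1 D19606 (iv D13499) D13498
def n19607 : Q := act 8 n13498
theorem D19607 : act 8 n13498 = n19607 := rfl
def n19608 : Q := act 7 n13499
theorem D19608 : act 7 n13499 = n19608 := rfl
theorem F84615 : act 3 n19608 = n13502 := d27_1 D19608 (iv D13502) (iv F59298)
def n19609 : Q := act 8 n13499
theorem D19609 : act 8 n13499 = n19609 := rfl
theorem F84619 : act 3 n19609 = n13610 := d28_1 D19609 (iv D13610) F42095 (iv F41754) (iv F59298)
def n19610 : Q := act 9 n13500
theorem D19610 : act 9 n13500 = n19610 := rfl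
def n19611 : Q := act 2 n13503
theorem D19611 : act 2 n13503 = n19611 := rfl
theorem F84626 : act 0 n19611 = n13505 := d1_1 D19611 (iv D13505) (iv F59315)
theorem F84630 : act 7 n19611 = n13514 := d21_2 (iv F59319) D19611 (iv D13514)
def n19612 : Q := act 5 n13503
theorem D19612 : act 5 n13503 = n19612 := rfl
theorem F84634 : act 3 n19612 = n13504 := d25_1 D19612 (iv D13504) D13503
theorem F84635 : act 7 n19612 = n13515 := d36_2 (iv F59319) D19612 (iv D13515)
def n19613 : Q := act 8 n13503
theorem D19613 : act 8 n13503 = n19613 := rfl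
theorem F84637 : act 0 n19613 = n13507 := d7_1 D19613 (iv D13507) (iv F59315)
theorem F84638 : act 1 n19613 = n19613 := d15_1 D19613 (iv D19613) F59316
theorem F84639 : act 3 n19613 = n13625 := d28_1 D19613 (iv D13625) (iv D9397) (iv F41767) D13503
theorem F84640 : act 4 n19613 = n19613 := d33_1 D19613 (iv D19613) F59317
theorem F84641 : act 6 n19613 = n19613 := d40_1 D19613 (iv D19613) F59318
theorem F84642 : act 7 n19613 = n13516 := d42_1 D19613 (iv D13516) (iv F59319)
def n19614 : Q := act 6 n13504
theorem D19614 : act 6 n13504 = n19614 := rfl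
theorem F84647 : act 8 n19614 = n13626 := d40_2 (iv F59325) D19614 (iv D13626)
def n19615 : Q := act 5 n13505
theorem D19615 : act 5 n13505 = n19615 := rfl
theorem F84650 : act 2 n19615 = n13506 := d19_1 D19615 (iv D13506) D13505
theorem F84652 : act 7 n19615 = n13518 := d36_2 (iv F59331) D19615 (iv D13518)
def n19616 : Q := act 8 n13505
theorem D19616 : act 8 n13505 = n19616 := rfl
theorem F84654 : act 1 n19616 = n19616 := d15_1 D19616 (iv D19616) F59327
theorem F84655 : act 2 n19616 = n13507 := d22_1 D19616 (iv D13507) D13505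
theorem F84656 : act 4 n19616 = n19616 := d33_1 D19616 (iv D19616) F59329
theorem F84657 : act 6 n19616 = n19616 := d40_1 D19616 (iv D19616) F59330
theorem F84658 : act 7 n19616 = n13519 := d42_1 D19616 (iv D13519) (iv F59331)
def n19617 : Q := act 4 n13506
theorem D19617 : act 4 n13506 = n19617 := rfl
theorem F84661 : act 7 n19617 = n13520 := d32_2 (iv F59335) D19617 (iv D13520)
def n19618 : Q := act 6 n13506
theorem D19618 : act 6 n13506 = n19618 := rfl
theorem F84664 : act 3 n19618 = n13508 := d26_1 D19618 (iv D13508) (iv F59334)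
def n19619 : Q := act 8 n13506
theorem D19619 : act 8 n13506 = n19619 := rfl
theorem F84667 : act 1 n19619 = n13511 := d15_1 D19619 (iv D13511) (iv F59333)
theorem F84668 : act 3 n19619 = n13631 := d28_1 D19619 (iv D13631) F42163 (iv F41777) (iv F59334)
theorem F84669 : act 5 n19619 = n13507 := d37_1 D19619 (iv D13507) D13506
theorem F84670 : act 7 n19619 = n13522 := d42_1 D19619 (iv D13522) (iv F59335)
def n19620 : Q := act 9 n13507
theorem D19620 : act 9 n13507 = n19620 := rfl
theorem F84671 : act 1 n19620 = n13512 := d16_1 D19620 (iv D13512) (iv F59337)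
theorem F84672 : act 3 n19620 = n13632 := d29_1 D19620 (iv D13632) (iv F59338)
theorem F84673 : act 4 n19620 = n19620 := d34_1 D19620 (iv D19620) F59339
theorem F84674 : act 6 n19620 = n19620 := d41_1 D19620 (iv D19620) F59340
theorem F84675 : act 7 n19620 = n13523 := d43_1 D19620 (iv D13523) (iv F59341)
theorem F84676 : act 8 n19620 = n19620 := d44_1 D19620 (iv D19620) (iv D13507) F41773 D13507
def n19621 : Q := act 7 n13508
theorem D19621 : act 7 n13508 = n19621 := rfl
theorem F84680 : act 6 n19621 = n13524 := d39_1 D19621 (iv D13524) (iv D9330) (iv F41776) D13508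
theorem F84681 : act 8 n19621 = n13633 := d42_2 (iv F59345) D19621 (iv D13633)
def n19622 : Q := act 6 n13509
theorem D19622 : act 6 n13509 = n19622 := rfl
theorem F84685 : act 4 n19622 = n13510 := d31_1 D19622 (iv D13510) D13509
def n19623 : Q := act 8 n13509
theorem D19623 : act 8 n13509 = n19623 := rfl
theorem F84687 : act 0 n19623 = n19623 := d7_1 D19623 (iv D19623) F59347
theorem F84688 : act 2 n19623 = n19623 := d22_1 D19623 (iv D19623) F59348
theorem F84689 : act 4 n19623 = n13511 := d33_1 D19623 (iv D13511) D13509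
theorem F84690 : act 5 n19623 = n19623 := d37_1 D19623 (iv D19623) F59349
theorem F84691 : act 7 n19623 = n13526 := d42_1 D19623 (iv D13526) (iv F59350)
def n19624 : Q := act 7 n13510
theorem D19624 : act 7 n13510 = n19624 := rfl
theorem F84694 : act 3 n19624 = n13513 := d27_1 D19624 (iv D13513) (iv F59354)
theorem F84696 : act 6 n19624 = n13527 := d39_1 D19624 (iv D13527) (iv D9332) (iv F41782) D13510
def n19625 : Q := act 8 n13510
theorem D19625 : act 8 n13510 = n19625 := rfl
theorem F84698 : act 0 n19625 = n19625 := d7_1 D19625 (iv D19625) F59352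
theorem F84699 : act 2 n19625 = n19625 := d22_1 D19625 (iv D19625) F59353
theorem F84700 : act 3 n19625 = n13637 := d28_1 D19625 (iv D13637) F42178 (iv F41793) (iv F59354)
theorem F84701 : act 5 n19625 = n19625 := d37_1 D19625 (iv D19625) F59355
theorem F84702 : act 6 n19625 = n13511 := d40_1 D19625 (iv D13511) D13510
def n19626 : Q := act 9 n13511
theorem D19626 : act 9 n13511 = n19626 := rfl
theorem F84703 : act 0 n19626 = n19626 := d8_1 D19626 (iv D19626) F59357
theorem F84704 : act 2 n19626 = n19626 := d23_1 D19626 (iv D19626) F59358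
theorem F84705 : act 3 n19626 = n13638 := d29_1 D19626 (iv D13638) (iv F59359)
theorem F84706 : act 5 n19626 = n13512 := d38_1 D19626 (iv D13512) (iv F59360)
theorem F84707 : act 7 n19626 = n13529 := d43_1 D19626 (iv D13529) (iv F59361)
theorem F84708 : act 8 n19626 = n19626 := d44_1 D19626 (iv D19626) (iv D13511) F41783 D13511
def n19627 : Q := act 1 n13514
theorem D19627 : act 1 n13514 = n19627 := rfl
theorem F84713 : act 6 n19627 = n13530 := d13_2 (iv F59378) D19627 (iv D13530)
def n19629 : Q := act 8 n13514
theorem D19629 : act 8 n13514 = n19629 := rfl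
theorem F84719 : act 0 n19629 = n13519 := d7_1 D19629 (iv D13519) (iv F59375)
theorem F84720 : act 2 n19629 = n13516 := d22_1 D19629 (iv D13516) D13514
theorem F84721 : act 4 n19629 = n19629 := d33_1 D19629 (iv D19629) F59377
theorem F84722 : act 6 n19629 = n13532 := d40_1 D19629 (iv D13532) (iv F59378)
def n19630 : Q := act 4 n13515
theorem D19630 : act 4 n13515 = n19630 := rfl
def n19631 : Q := act 6 n13515
theorem D19631 : act 6 n13515 = n19631 := rfl
theorem F84729 : act 3 n19631 = n13517 := d26_1 D19631 (iv D13517) (iv F59382)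
theorem F84730 : act 5 n19631 = n13534 := d35_1 D19631 (iv D13534) (iv D9337) (iv F41805) D13515
def n19632 : Q := act 8 n13515
theorem D19632 : act 8 n13515 = n19632 := rfl
theorem F84732 : act 0 n19632 = n13522 := d7_1 D19632 (iv D13522) (iv F59380)
theorem F84733 : act 1 n19632 = n19632 := d15_1 D19632 (iv D19632) F59381
theorem F84734 : act 3 n19632 = n13660 := d28_1 D19632 (iv D13660) F42250 (iv F41810) (iv F59382)
theorem F84735 : act 5 n19632 = n13516 := d37_1 D19632 (iv D13516) D13515
def n19633 : Q := act 9 n13516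
theorem D19633 : act 9 n13516 = n19633 := rfl
theorem F84736 : act 0 n19633 = n13523 := d8_1 D19633 (iv D13523) (iv F59384)
theorem F84737 : act 1 n19633 = n19633 := d16_1 D19633 (iv D19633) F59385
theorem F84738 : act 3 n19633 = n13661 := d29_1 D19633 (iv D13661) (iv F59386)
theorem F84739 : act 4 n19633 = n19633 := d34_1 D19633 (iv D19633) F59387
theorem F84740 : act 6 n19633 = n13536 := d41_1 D19633 (iv D13536) (iv F59388)
theorem F84741 : act 8 n19633 = n19633 := d44_1 D19633 (iv D19633) (iv D13516) F41806 D13516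
def n19634 : Q := act 7 n13517
theorem D19634 : act 7 n13517 = n19634 := rfl
theorem F84745 : act 5 n19634 = n13537 := d36_1 D19634 (iv D13537) (iv F59392)
theorem F84746 : act 8 n19634 = n13662 := d42_2 (iv F59393) D19634 (iv D13662)
def n19635 : Q := act 4 n13518
theorem D19635 : act 4 n13518 = n19635 := rfl
def n19636 : Q := act 6 n13518
theorem D19636 : act 6 n13518 = n19636 := rfl
theorem F84753 : act 2 n19636 = n13521 := d20_1 D19636 (iv D13521) (iv F59396)
theorem F84755 : act 5 n19636 = n13539 := d35_1 D19636 (iv D13539) (iv D9340) (iv F41815) D13518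
def n19637 : Q := act 8 n13518
theorem D19637 : act 8 n13518 = n19637 := rfl
theorem F84757 : act 1 n19637 = n19637 := d15_1 D19637 (iv D19637) F59395
theorem F84758 : act 2 n19637 = n13522 := d22_1 D19637 (iv D13522) (iv F59396)
theorem F84759 : act 5 n19637 = n13519 := d37_1 D19637 (iv D13519) D13518
def n19638 : Q := act 3 n13519
theorem D19638 : act 3 n13519 = n19638 := rfl
theorem F84760 : act 1 n19638 = n19638 := d10_1 D19638 (iv D19638) F59399
theorem F84761 : act 2 n19638 = n13666 := d17_1 D19638 (iv D13666) F42263 (iv F41821) (iv F59400)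
theorem F84762 : act 6 n19638 = n13541 := d26_2 (iv F59402) D19638 (iv D13541)
theorem F84763 : act 8 n19638 = n19638 := d28_2 D13519 D19638 (iv D19638) (iv D13519) F41813
def n19639 : Q := act 9 n13519
theorem D19639 : act 9 n13519 = n19639 := rfl
theorem F84764 : act 1 n19639 = n19639 := d16_1 D19639 (iv D19639) F59399
theorem F84765 : act 2 n19639 = n13523 := d23_1 D19639 (iv D13523) (iv F59400)
theorem F84766 : act 4 n19639 = n19639 := d34_1 D19639 (iv D19639) F59401
theorem F84767 : act 6 n19639 = n13542 := d41_1 D19639 (iv D13542) (iv F59402)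
theorem F84768 : act 8 n19639 = n19639 := d44_1 D19639 (iv D19639) (iv D13519) F41816 D13519
def n19640 : Q := act 6 n13520
theorem D19640 : act 6 n13520 = n19640 := rfl
theorem F84770 : act 4 n19640 = n13521 := d31_1 D19640 (iv D13521) D13520
def n19641 : Q := act 8 n13520
theorem D19641 : act 8 n13520 = n19641 := rfl
theorem F84772 : act 1 n19641 = n13526 := d15_1 D19641 (iv D13526) (iv F59403)
theorem F84773 : act 4 n19641 = n13522 := d33_1 D19641 (iv D13522) D13520
theorem F84774 : act 5 n19641 = n19641 := d37_1 D19641 (iv D19641) F59404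
def n19642 : Q := act 7 n13521
theorem D19642 : act 7 n13521 = n19642 := rfl
theorem F84776 : act 3 n19642 = n13524 := d27_1 D19642 (iv D13524) (iv F59407)
theorem F84777 : act 5 n19642 = n13545 := d36_1 D19642 (iv D13545) (iv F59408)
def n19643 : Q := act 8 n13521
theorem D19643 : act 8 n13521 = n19643 := rfl
theorem F84779 : act 1 n19643 = n13528 := d15_1 D19643 (iv D13528) (iv F59406)
theorem F84780 : act 3 n19643 = n13671 := d28_1 D19643 (iv D13671) F42269 (iv F41827) (iv F59407)
theorem F84781 : act 5 n19643 = n13546 := d37_1 D19643 (iv D13546) (iv F59408)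
theorem F84782 : act 6 n19643 = n13522 := d40_1 D19643 (iv D13522) D13521
def n19644 : Q := act 9 n13522
theorem D19644 : act 9 n13522 = n19644 := rfl
theorem F84783 : act 1 n19644 = n13529 := d16_1 D19644 (iv D13529) (iv F59410)
theorem F84784 : act 3 n19644 = n13672 := d29_1 D19644 (iv D13672) (iv F59411)
theorem F84785 : act 5 n19644 = n13523 := d38_1 D19644 (iv D13523) (iv F59412)
theorem F84786 : act 8 n19644 = n19644 := d44_1 D19644 (iv D19644) (iv D13522) F41819 D13522
def n19645 : Q := act 5 n13525
theorem D19645 : act 5 n13525 = n19645 := rfl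
theorem F84789 : act 4 n19645 = n13548 := d30_1 D19645 (iv D13548) F41909 (iv F41836) (iv F59425)
def n19646 : Q := act 7 n13525
theorem D19646 : act 7 n13525 = n19646 := rfl
theorem F84794 : act 4 n19646 = n13527 := d32_1 D19646 (iv D13527) (iv F59425)
def n19647 : Q := act 8 n13525
theorem D19647 : act 8 n13525 = n19647 := rfl
theorem F84796 : act 0 n19647 = n19647 := d7_1 D19647 (iv D19647) F59423
theorem F84797 : act 2 n19647 = n19647 := d22_1 D19647 (iv D19647) F59424
theorem F84798 : act 4 n19647 = n13528 := d33_1 D19647 (iv D13528) (iv F59425)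
theorem F84799 : act 6 n19647 = n13526 := d40_1 D19647 (iv D13526) D13525
def n19648 : Q := act 3 n13526
theorem D19648 : act 3 n13526 = n19648 := rfl
theorem F84800 : act 0 n19648 = n19648 := d2_1 D19648 (iv D19648) F59427
theorem F84801 : act 4 n19648 = n13676 := d24_2 (iv F59429) D19648 (iv D13676) F42284 (iv F41840)
theorem F84802 : act 5 n19648 = n19648 := d25_2 F59430 D19648 (iv D19648)
def n19649 : Q := act 9 n13526
theorem D19649 : act 9 n13526 = n19649 := rfl
theorem F84803 : act 0 n19649 = n19649 := d8_1 D19649 (iv D19649) F59427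
theorem F84804 : act 2 n19649 = n19649 := d23_1 D19649 (iv D19649) F59428
theorem F84805 : act 4 n19649 = n13529 := d34_1 D19649 (iv D13529) (iv F59429)
theorem F84806 : act 5 n19649 = n19649 := d38_1 D19649 (iv D19649) F59430
theorem F84807 : act 8 n19649 = n19649 := d44_1 D19649 (iv D19649) (iv D13526) F41832 D13526
def n19650 : Q := act 8 n13527
theorem D19650 : act 8 n13527 = n19650 := rfl
theorem F84808 : act 0 n19650 = n19650 := d7_1 D19650 (iv D19650) F59431
theorem F84809 : act 2 n19650 = n19650 := d22_1 D19650 (iv D19650) F59432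
theorem F84810 : act 3 n19650 = n13678 := d28_1 D19650 (iv D13678) F42288 (iv F41851) (iv F59433)
theorem F84811 : act 5 n19650 = n13553 := d37_1 D19650 (iv D13553) (iv F59434)
theorem F84812 : act 7 n19650 = n13528 := d42_1 D19650 (iv D13528) D13527
def n19651 : Q := act 9 n13528
theorem D19651 : act 9 n13528 = n19651 := rfl
theorem F84813 : act 0 n19651 = n19651 := d8_1 D19651 (iv D19651) F59436
theorem F84814 : act 2 n19651 = n19651 := d23_1 D19651 (iv D19651) F59437
theorem F84815 : act 3 n19651 = n13679 := d29_1 D19651 (iv D13679) (iv F59438)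
theorem F84816 : act 5 n19651 = n13554 := d38_1 D19651 (iv D13554) (iv F59439)
theorem F84817 : act 6 n19651 = n13529 := d41_1 D19651 (iv D13529) (iv F59440)
theorem F84818 : act 8 n19651 = n19651 := d44_1 D19651 (iv D19651) (iv D13528) F41837 D13528
def n19652 : Q := act 5 n13530
theorem D19652 : act 5 n13530 = n19652 := rfl
theorem F84820 : act 1 n19652 = n13531 := d12_1 D19652 (iv D13531) D13530
def n19653 : Q := act 8 n13530
theorem D19653 : act 8 n13530 = n19653 := rfl
theorem F84825 : act 0 n19653 = n19653 := d7_1 D19653 (iv D19653) F59446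
theorem F84826 : act 1 n19653 = n13532 := d15_1 D19653 (iv D13532) D13530
theorem F84827 : act 2 n19653 = n19653 := d22_1 D19653 (iv D19653) F59447
theorem F84828 : act 4 n19653 = n19653 := d33_1 D19653 (iv D19653) F59449
theorem F84829 : act 7 n19653 = n19653 := d42_1 D19653 (iv D19653) F59450
def n19654 : Q := act 4 n13531
theorem D19654 : act 4 n13531 = n19654 := rfl
theorem F84831 : act 2 n19654 = n13533 := d18_1 D19654 (iv D13533) (iv F59453)
def n19655 : Q := act 6 n13531
theorem D19655 : act 6 n13531 = n19655 := rfl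
theorem F84836 : act 2 n19655 = n13534 := d20_1 D19655 (iv D13534) (iv F59453)
def n19656 : Q := act 8 n13531
theorem D19656 : act 8 n13531 = n19656 := rfl
theorem F84839 : act 0 n19656 = n13540 := d7_1 D19656 (iv D13540) (iv F59452)
theorem F84840 : act 2 n19656 = n13535 := d22_1 D19656 (iv D13535) (iv F59453)
theorem F84841 : act 5 n19656 = n13532 := d37_1 D19656 (iv D13532) D13531
theorem F84842 : act 7 n19656 = n19656 := d42_1 D19656 (iv D19656) F59455
def n19657 : Q := act 3 n13532
theorem D19657 : act 3 n13532 = n19657 := rfl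
theorem F84843 : act 0 n19657 = n13541 := d2_1 D19657 (iv D13541) (iv F59457)
theorem F84844 : act 2 n19657 = n13710 := d17_1 D19657 (iv D13710) F42385 (iv F41865) (iv F59458)
theorem F84845 : act 7 n19657 = n19657 := d27_2 F59460 D19657 (iv D19657)
theorem F84846 : act 8 n19657 = n19657 := d28_2 D13532 D19657 (iv D19657) (iv D13532) F41854
def n19658 : Q := act 9 n13532
theorem D19658 : act 9 n13532 = n19658 := rfl
theorem F84847 : act 0 n19658 = n13542 := d8_1 D19658 (iv D13542) (iv F59457)
theorem F84848 : act 2 n19658 = n13536 := d23_1 D19658 (iv D13536) (iv F59458)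
theorem F84849 : act 4 n19658 = n19658 := d34_1 D19658 (iv D19658) F59459
theorem F84850 : act 7 n19658 = n19658 := d43_1 D19658 (iv D19658) F59460
theorem F84851 : act 8 n19658 = n19658 := d44_1 D19658 (iv D19658) (iv D13532) F41857 D13532
def n19659 : Q := act 6 n13533
theorem D19659 : act 6 n13533 = n19659 := rfl
theorem F84855 : act 4 n19659 = n13534 := d31_1 D19659 (iv D13534) D13533
def n19660 : Q := act 8 n13533
theorem D19660 : act 8 n13533 = n19660 := rfl
theorem F84857 : act 0 n19660 = n13544 := d7_1 D19660 (iv D13544) (iv F59461)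
theorem F84858 : act 1 n19660 = n19660 := d15_1 D19660 (iv D19660) F59462
theorem F84859 : act 4 n19660 = n13535 := d33_1 D19660 (iv D13535) D13533
theorem F84860 : act 5 n19660 = n19660 := d37_1 D19660 (iv D19660) F59464
theorem F84861 : act 7 n19660 = n19660 := d42_1 D19660 (iv D19660) F59465
def n19661 : Q := act 7 n13534
theorem D19661 : act 7 n13534 = n19661 := rfl
theorem F84864 : act 3 n19661 = n13537 := d27_1 D19661 (iv D13537) (iv F59469)
def n19662 : Q := act 8 n13534
theorem D19662 : act 8 n13534 = n19662 := rfl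
theorem F84867 : act 0 n19662 = n13546 := d7_1 D19662 (iv D13546) (iv F59467)
theorem F84868 : act 1 n19662 = n19662 := d15_1 D19662 (iv D19662) F59468
theorem F84869 : act 3 n19662 = n13715 := d28_1 D19662 (iv D13715) F42395 (iv F41872) (iv F59469)
theorem F84870 : act 6 n19662 = n13535 := d40_1 D19662 (iv D13535) D13534
def n19663 : Q := act 9 n13535
theorem D19663 : act 9 n13535 = n19663 := rfl
theorem F84871 : act 0 n19663 = n13547 := d8_1 D19663 (iv D13547) (iv F59471)
theorem F84872 : act 1 n19663 = n19663 := d16_1 D19663 (iv D19663) F59472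
theorem F84873 : act 3 n19663 = n13716 := d29_1 D19663 (iv D13716) (iv F59473)
theorem F84874 : act 5 n19663 = n13536 := d38_1 D19663 (iv D13536) (iv F59474)
theorem F84875 : act 7 n19663 = n19663 := d43_1 D19663 (iv D19663) F59475
theorem F84876 : act 8 n19663 = n19663 := d44_1 D19663 (iv D19663) (iv D13535) F41862 D13535
def n19664 : Q := act 3 n13538
theorem D19664 : act 3 n13538 = n19664 := rfl
def n19665 : Q := act 6 n13538
theorem D19665 : act 6 n13538 = n19665 := rfl
theorem F84884 : act 2 n19665 = n13543 := d20_1 D19665 (iv D13543) (iv F59490)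
theorem F84885 : act 4 n19665 = n13539 := d31_1 D19665 (iv D13539) D13538
def n19666 : Q := act 8 n13538
theorem D19666 : act 8 n13538 = n19666 := rfl
theorem F84887 : act 1 n19666 = n19666 := d15_1 D19666 (iv D19666) F59489
theorem F84888 : act 2 n19666 = n13544 := d22_1 D19666 (iv D13544) (iv F59490)
theorem F84889 : act 4 n19666 = n13540 := d33_1 D19666 (iv D13540) D13538
theorem F84890 : act 5 n19666 = n19666 := d37_1 D19666 (iv D19666) F59491
theorem F84891 : act 7 n19666 = n19666 := d42_1 D19666 (iv D19666) F59492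
def n19667 : Q := act 7 n13539
theorem D19667 : act 7 n13539 = n19667 := rfl
theorem F84893 : act 2 n19667 = n13545 := d21_1 D19667 (iv D13545) (iv F59495)
def n19668 : Q := act 8 n13539
theorem D19668 : act 8 n13539 = n19668 := rfl
theorem F84897 : act 1 n19668 = n19668 := d15_1 D19668 (iv D19668) F59494
theorem F84898 : act 2 n19668 = n13546 := d22_1 D19668 (iv D13546) (iv F59495)
theorem F84899 : act 6 n19668 = n13540 := d40_1 D19668 (iv D13540) D13539
def n19669 : Q := act 3 n13540
theorem D19669 : act 3 n13540 = n19669 := rfl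
theorem F84900 : act 1 n19669 = n19669 := d10_1 D19669 (iv D19669) F59498
theorem F84901 : act 2 n19669 = n13722 := d17_1 D19669 (iv D13722) F42417 (iv F41892) (iv F59499)
theorem F84902 : act 5 n19669 = n13541 := d25_2 (iv F59500) D19669 (iv D13541)
theorem F84903 : act 7 n19669 = n19669 := d27_2 F59501 D19669 (iv D19669)
theorem F84904 : act 8 n19669 = n19669 := d28_2 D13540 D19669 (iv D19669) (iv D13540) F41876
def n19670 : Q := act 9 n13540
theorem D19670 : act 9 n13540 = n19670 := rfl
theorem F84905 : act 1 n19670 = n19670 := d16_1 D19670 (iv D19670) F59498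
theorem F84906 : act 2 n19670 = n13547 := d23_1 D19670 (iv D13547) (iv F59499)
theorem F84907 : act 5 n19670 = n13542 := d38_1 D19670 (iv D13542) (iv F59500)
theorem F84908 : act 7 n19670 = n19670 := d43_1 D19670 (iv D19670) F59501
theorem F84909 : act 8 n19670 = n19670 := d44_1 D19670 (iv D19670) (iv D13540) F41878 D13540
def n19671 : Q := act 4 n13541
theorem D19671 : act 4 n13541 = n19671 := rfl
theorem F84910 : act 1 n19671 = n19671 := d11_1 D19671 (iv D19671) F59502
theorem F84911 : act 2 n19671 = n13724 := d18_1 D19671 (iv D13724) (iv F59503)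
theorem F84912 : act 3 n19671 = n19671 := d24_1 D19671 (iv D19671) (iv D13541) F41881 D13541
theorem F84913 : act 7 n19671 = n19671 := d32_2 F59504 D19671 (iv D19671)
theorem F84914 : act 8 n19671 = n19671 := d33_2 F59505 D19671 (iv D19671)
def n19672 : Q := act 9 n13541
theorem D19672 : act 9 n13541 = n19672 := rfl
theorem F84915 : act 1 n19672 = n19672 := d16_1 D19672 (iv D19672) F59502
theorem F84916 : act 2 n19672 = n13725 := d23_1 D19672 (iv D13725) (iv F59503)
theorem F84917 : act 3 n19672 = n13542 := d29_1 D19672 (iv D13542) D13541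
theorem F84918 : act 7 n19672 = n19672 := d43_1 D19672 (iv D19672) F59504
def n19673 : Q := act 5 n13543
theorem D19673 : act 5 n13543 = n19673 := rfl
theorem F84919 : act 1 n19673 = n13548 := d12_1 D19673 (iv D13548) (iv F59511)
def n19674 : Q := act 7 n13543
theorem D19674 : act 7 n13543 = n19674 := rfl
theorem F84923 : act 1 n19674 = n13549 := d14_1 D19674 (iv D13549) (iv F59511)
theorem F84925 : act 4 n19674 = n13545 := d32_1 D19674 (iv D13545) (iv F59513)
def n19675 : Q := act 8 n13543
theorem D19675 : act 8 n13543 = n19675 := rfl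
theorem F84928 : act 1 n19675 = n13550 := d15_1 D19675 (iv D13550) (iv F59511)
theorem F84929 : act 4 n19675 = n13546 := d33_1 D19675 (iv D13546) (iv F59513)
theorem F84930 : act 6 n19675 = n13544 := d40_1 D19675 (iv D13544) D13543
def n19676 : Q := act 3 n13544
theorem D19676 : act 3 n13544 = n19676 := rfl
theorem F84931 : act 1 n19676 = n13551 := d10_1 D19676 (iv D13551) (iv F59515)
theorem F84932 : act 4 n19676 = n13729 := d24_2 (iv F59516) D19676 (iv D13729) F42431 (iv F41892)
theorem F84933 : act 5 n19676 = n19676 := d25_2 F59517 D19676 (iv D19676)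
theorem F84934 : act 7 n19676 = n19676 := d27_2 F59518 D19676 (iv D19676)
theorem F84935 : act 8 n19676 = n19676 := d28_2 D13544 D19676 (iv D19676) (iv D13544) F41884
def n19677 : Q := act 9 n13544
theorem D19677 : act 9 n13544 = n19677 := rfl
theorem F84936 : act 1 n19677 = n13552 := d16_1 D19677 (iv D13552) (iv F59515)
theorem F84937 : act 4 n19677 = n13547 := d34_1 D19677 (iv D13547) (iv F59516)
theorem F84938 : act 5 n19677 = n19677 := d38_1 D19677 (iv D19677) F59517
theorem F84939 : act 7 n19677 = n19677 := d43_1 D19677 (iv D19677) F59518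
theorem F84940 : act 8 n19677 = n19677 := d44_1 D19677 (iv D19677) (iv D13544) F41887 D13544
def n19678 : Q := act 8 n13545
theorem D19678 : act 8 n13545 = n19678 := rfl
theorem F84941 : act 1 n19678 = n13553 := d15_1 D19678 (iv D13553) (iv F59519)
theorem F84942 : act 3 n19678 = n13731 := d28_1 D19678 (iv D13731) F42435 (iv F41904) (iv F59520)
theorem F84943 : act 6 n19678 = n19678 := d40_1 D19678 (iv D19678) F59521
theorem F84944 : act 7 n19678 = n13546 := d42_1 D19678 (iv D13546) D13545
def n19679 : Q := act 9 n13546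
theorem D19679 : act 9 n13546 = n19679 := rfl
theorem F84945 : act 1 n19679 = n13554 := d16_1 D19679 (iv D13554) (iv F59523)
theorem F84946 : act 3 n19679 = n13732 := d29_1 D19679 (iv D13732) (iv F59524)
theorem F84947 : act 6 n19679 = n13547 := d41_1 D19679 (iv D13547) (iv F59525)
theorem F84948 : act 8 n19679 = n19679 := d44_1 D19679 (iv D19679) (iv D13546) F41890 D13546
def n19680 : Q := act 7 n13548
theorem D19680 : act 7 n13548 = n19680 := rfl
theorem F84952 : act 5 n19680 = n13549 := d36_1 D19680 (iv D13549) D13548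
def n19681 : Q := act 8 n13548
theorem D19681 : act 8 n13548 = n19681 := rfl
theorem F84954 : act 0 n19681 = n19681 := d7_1 D19681 (iv D19681) F59531
theorem F84955 : act 2 n19681 = n19681 := d22_1 D19681 (iv D19681) F59532
theorem F84956 : act 5 n19681 = n13550 := d37_1 D19681 (iv D13550) D13548
theorem F84957 : act 6 n19681 = n19681 := d40_1 D19681 (iv D19681) F59534
def n19682 : Q := act 8 n13549
theorem D19682 : act 8 n13549 = n19682 := rfl
theorem F84958 : act 0 n19682 = n19682 := d7_1 D19682 (iv D19682) F59536
theorem F84959 : act 2 n19682 = n19682 := d22_1 D19682 (iv D19682) F59537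
theorem F84960 : act 4 n19682 = n13553 := d33_1 D19682 (iv D13553) (iv F59539)
theorem F84961 : act 6 n19682 = n19682 := d40_1 D19682 (iv D19682) F59540
theorem F84962 : act 7 n19682 = n13550 := d42_1 D19682 (iv D13550) D13549
def n19683 : Q := act 3 n13550
theorem D19683 : act 3 n13550 = n19683 := rfl
theorem F84963 : act 0 n19683 = n19683 := d2_1 D19683 (iv D19683) F59542
theorem F84964 : act 4 n19683 = n13736 := d24_2 (iv F59544) D19683 (iv D13736) F42453 (iv F41923)
theorem F84965 : act 6 n19683 = n13551 := d26_2 (iv F59545) D19683 (iv D13551)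
theorem F84966 : act 8 n19683 = n19683 := d28_2 D13550 D19683 (iv D19683) (iv D13550) F41908
def n19684 : Q := act 9 n13550
theorem D19684 : act 9 n13550 = n19684 := rfl
theorem F84967 : act 0 n19684 = n19684 := d8_1 D19684 (iv D19684) F59542
theorem F84968 : act 2 n19684 = n19684 := d23_1 D19684 (iv D19684) F59543
theorem F84969 : act 4 n19684 = n13554 := d34_1 D19684 (iv D13554) (iv F59544)
theorem F84970 : act 6 n19684 = n13552 := d41_1 D19684 (iv D13552) (iv F59545)
theorem F84971 : act 8 n19684 = n19684 := d44_1 D19684 (iv D19684) (iv D13550) F41910 D13550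
def n19685 : Q := act 2 n13551
theorem D19685 : act 2 n13551 = n19685 := rfl
theorem F84972 : act 0 n19685 = n19685 := d1_1 D19685 (iv D19685) F59546
theorem F84973 : act 3 n19685 = n19685 := d17_2 D13551 D19685 (iv D19685) (iv D13551) F41912
theorem F84974 : act 4 n19685 = n13738 := d18_2 (iv F59547) D19685 (iv D13738)
theorem F84975 : act 5 n19685 = n19685 := d19_2 F59548 D19685 (iv D19685)
theorem F84976 : act 7 n19685 = n19685 := d21_2 F59549 D19685 (iv D19685)
theorem F84977 : act 8 n19685 = n19685 := d22_2 F59550 D19685 (iv D19685)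
def n19686 : Q := act 9 n13551
theorem D19686 : act 9 n13551 = n19686 := rfl
theorem F84978 : act 0 n19686 = n19686 := d8_1 D19686 (iv D19686) F59546
theorem F84979 : act 3 n19686 = n13552 := d29_1 D19686 (iv D13552) D13551
theorem F84980 : act 4 n19686 = n13739 := d34_1 D19686 (iv D13739) (iv F59547)
theorem F84981 : act 5 n19686 = n19686 := d38_1 D19686 (iv D19686) F59548
theorem F84982 : act 7 n19686 = n19686 := d43_1 D19686 (iv D19686) F59549
def n19687 : Q := act 9 n13553
theorem D19687 : act 9 n13553 = n19687 := rfl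
theorem F84983 : act 0 n19687 = n19687 := d8_1 D19687 (iv D19687) F59557
theorem F84984 : act 2 n19687 = n19687 := d23_1 D19687 (iv D19687) F59558
theorem F84985 : act 3 n19687 = n13740 := d29_1 D19687 (iv D13740) (iv F59559)
theorem F84986 : act 6 n19687 = n19687 := d41_1 D19687 (iv D19687) F59560
theorem F84987 : act 7 n19687 = n13554 := d43_1 D19687 (iv D13554) (iv F59561)
theorem F84988 : act 8 n19687 = n19687 := d44_1 D19687 (iv D19687) (iv D13553) F41920 D13553
def n19688 : Q := act 4 n13555
theorem D19688 : act 4 n13555 = n19688 := rfl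
theorem F84989 : act 0 n19688 = n13556 := d3_1 D19688 (iv D13556) D13555
theorem F84992 : act 6 n19688 = n13567 := d31_2 (iv F59571) D19688 (iv D13567)
theorem F84995 : act 9 n19688 = n13560 := d34_2 (iv F59574) D19688 (iv D13560)
def n19689 : Q := act 3 n13556
theorem D19689 : act 3 n13556 = n19689 := rfl
theorem F84996 : act 1 n19689 = n13557 := d10_1 D19689 (iv D13557) (iv F59575)
theorem F84997 : act 4 n19689 = n14187 := d24_2 D13556 D19689 (iv D14187) (iv D9775) (iv F41932)
theorem F84998 : act 6 n19689 = n13568 := d26_2 (iv F59577) D19689 (iv D13568)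
theorem F84999 : act 7 n19689 = n19689 := d27_2 F59578 D19689 (iv D19689)
theorem F85000 : act 9 n19689 = n13561 := d29_2 (iv F59580) D19689 (iv D13561)
def n19690 : Q := act 5 n13556
theorem D19690 : act 5 n13556 = n19690 := rfl
theorem F85001 : act 1 n19690 = n13558 := d12_1 D19690 (iv D13558) (iv F59575)
theorem F85002 : act 2 n19690 = n19690 := d19_1 D19690 (iv D19690) F59576
theorem F85003 : act 4 n19690 = n19690 := d30_1 D19690 (iv D19690) (iv D13556) F41933 D13556
theorem F85004 : act 7 n19690 = n19690 := d36_2 F59578 D19690 (iv D19690)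
theorem F85005 : act 8 n19690 = n19690 := d37_2 F59579 D19690 (iv D19690)
theorem F85006 : act 9 n19690 = n13562 := d38_2 (iv F59580) D19690 (iv D13562)
def n19691 : Q := act 5 n13557
theorem D19691 : act 5 n13557 = n19691 := rfl
theorem F85007 : act 0 n19691 = n19691 := d4_1 D19691 (iv D19691) F59581
theorem F85008 : act 2 n19691 = n19691 := d19_1 D19691 (iv D19691) F59582
theorem F85009 : act 3 n19691 = n13558 := d25_1 D19691 (iv D13558) D13557
theorem F85010 : act 7 n19691 = n19691 := d36_2 F59585 D19691 (iv D19691)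
theorem F85011 : act 9 n19691 = n13563 := d38_2 (iv F59586) D19691 (iv D13563)
def n19692 : Q := act 8 n13557
theorem D19692 : act 8 n13557 = n19692 := rfl
theorem F85012 : act 0 n19692 = n19692 := d7_1 D19692 (iv D19692) F59581
theorem F85013 : act 2 n19692 = n19692 := d22_1 D19692 (iv D19692) F59582
theorem F85014 : act 3 n19692 = n19692 := d28_1 D19692 (iv D19692) (iv D13557) F41942 D13557
theorem F85015 : act 4 n19692 = n14190 := d33_1 D19692 (iv D14190) (iv F59583)
theorem F85016 : act 6 n19692 = n13571 := d40_1 D19692 (iv D13571) (iv F59584)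
theorem F85017 : act 7 n19692 = n19692 := d42_1 D19692 (iv D19692) F59585
def n19693 : Q := act 6 n13558
theorem D19693 : act 6 n13558 = n19693 := rfl
theorem F85018 : act 0 n19693 = n19693 := d5_1 D19693 (iv D19693) F59587
theorem F85019 : act 2 n19693 = n13559 := d20_1 D19693 (iv D13559) (iv F59588)
theorem F85020 : act 4 n19693 = n19693 := d31_1 D19693 (iv D19693) F59589
theorem F85021 : act 5 n19693 = n13572 := d35_1 D19693 (iv D13572) (iv D9363) (iv F41940) D13558
theorem F85022 : act 8 n19693 = n19693 := d40_2 F59591 D19693 (iv D19693)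
theorem F85023 : act 9 n19693 = n13565 := d41_2 (iv F59592) D19693 (iv D13565)
def n19694 : Q := act 7 n13559
theorem D19694 : act 7 n13559 = n19694 := rfl
theorem F85024 : act 0 n19694 = n19694 := d6_1 D19694 (iv D19694) F59593
theorem F85025 : act 1 n19694 = n19694 := d14_1 D19694 (iv D19694) F59594
theorem F85026 : act 3 n19694 = n19694 := d27_1 D19694 (iv D19694) F59595
theorem F85027 : act 4 n19694 = n19694 := d32_1 D19694 (iv D19694) F59596
theorem F85028 : act 5 n19694 = n13573 := d36_1 D19694 (iv D13573) (iv F59597)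
theorem F85029 : act 6 n19694 = n19694 := d39_1 D19694 (iv D19694) (iv D13559) F41948 D13559
theorem F85030 : act 8 n19694 = n19694 := d42_2 F59598 D19694 (iv D19694)
theorem F85031 : act 9 n19694 = n13566 := d43_2 (iv F59599) D19694 (iv D13566)
def n19695 : Q := act 3 n13560
theorem D19695 : act 3 n13560 = n19695 := rfl
theorem F85032 : act 0 n19695 = n13561 := d2_1 D19695 (iv D13561) (iv F59600)
theorem F85033 : act 1 n19695 = n19695 := d10_1 D19695 (iv D19695) F59601
theorem F85034 : act 4 n19695 = n14193 := d24_2 D13560 D19695 (iv D14193) (iv D9779) (iv F41953)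
theorem F85035 : act 6 n19695 = n13574 := d26_2 (iv F59603) D19695 (iv D13574)
theorem F85036 : act 7 n19695 = n19695 := d27_2 F59604 D19695 (iv D19695)
def n19696 : Q := act 5 n13560
theorem D19696 : act 5 n13560 = n19696 := rfl
def n19697 : Q := act 2 n13561
theorem D19697 : act 2 n13561 = n19697 := rfl
theorem F85042 : act 1 n19697 = n19697 := d9_1 D19697 (iv D19697) F59605 F41962 (iv F59605)
theorem F85043 : act 3 n19697 = n19697 := d17_2 D13561 D19697 (iv D19697) (iv D13561) F41958
theorem F85044 : act 4 n19697 = n14195 := d18_2 (iv F59606) D19697 (iv D14195)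
theorem F85045 : act 6 n19697 = n13576 := d20_2 (iv F59607) D19697 (iv D13576)
theorem F85046 : act 7 n19697 = n19697 := d21_2 F59608 D19697 (iv D19697)
def n19698 : Q := act 5 n13561
theorem D19698 : act 5 n13561 = n19698 := rfl
theorem F85047 : act 1 n19698 = n13563 := d12_1 D19698 (iv D13563) (iv F59605)
theorem F85048 : act 3 n19698 = n13562 := d25_1 D19698 (iv D13562) D13561
theorem F85049 : act 7 n19698 = n19698 := d36_2 F59608 D19698 (iv D19698)
def n19699 : Q := act 8 n13561
theorem D19699 : act 8 n13561 = n19699 := rfl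
theorem F85050 : act 1 n19699 = n13564 := d15_1 D19699 (iv D13564) (iv F59605)
theorem F85051 : act 4 n19699 = n14197 := d33_1 D19699 (iv D14197) (iv F59606)
theorem F85052 : act 6 n19699 = n13578 := d40_1 D19699 (iv D13578) (iv F59607)
theorem F85053 : act 7 n19699 = n19699 := d42_1 D19699 (iv D19699) F59608
def n19700 : Q := act 6 n13562
theorem D19700 : act 6 n13562 = n19700 := rfl
theorem F85057 : act 5 n19700 = n13579 := d35_1 D19700 (iv D13579) (iv D9367) (iv F41959) D13562
def n19701 : Q := act 4 n13563
theorem D19701 : act 4 n13563 = n19701 := rfl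
theorem F85061 : act 5 n19701 = n14199 := d30_2 D13563 D19701 (iv D14199) (iv D9782) (iv F41963)
def n19702 : Q := act 6 n13563
theorem D19702 : act 6 n13563 = n19702 := rfl
theorem F85065 : act 3 n19702 = n13565 := d26_1 D19702 (iv D13565) (iv F59615)
theorem F85066 : act 5 n19702 = n13581 := d35_1 D19702 (iv D13581) (iv D9368) (iv F41964) D13563
def n19703 : Q := act 8 n13563
theorem D19703 : act 8 n13563 = n19703 := rfl
def n19704 : Q := act 9 n13564
theorem D19704 : act 9 n13564 = n19704 := rfl
theorem F85074 : act 6 n19704 = n13583 := d41_1 D19704 (iv D13583) (iv F59620)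
def n19705 : Q := act 7 n13565
theorem D19705 : act 7 n13565 = n19705 := rfl
theorem F85079 : act 5 n19705 = n13584 := d36_1 D19705 (iv D13584) (iv F59625)
def n19706 : Q := act 3 n13567
theorem D19706 : act 3 n13567 = n19706 := rfl
theorem F85081 : act 0 n19706 = n13568 := d2_1 D19706 (iv D13568) (iv F59632)
theorem F85083 : act 4 n19706 = n14216 := d24_2 D13567 D19706 (iv D14216) (iv D9794) (iv F41977)
theorem F85085 : act 9 n19706 = n13574 := d29_2 (iv F59637) D19706 (iv D13574)
def n19707 : Q := act 5 n13567
theorem D19707 : act 5 n13567 = n19707 := rfl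
theorem F85086 : act 0 n19707 = n13569 := d4_1 D19707 (iv D13569) (iv F59632)
theorem F85089 : act 4 n19707 = n13613 := d30_1 D19707 (iv D13613) (iv D9390) (iv F41978) D13567
theorem F85092 : act 9 n19707 = n13575 := d38_2 (iv F59637) D19707 (iv D13575)
def n19708 : Q := act 2 n13568
theorem D19708 : act 2 n13568 = n19708 := rfl
theorem F85093 : act 1 n19708 = n19708 := d9_1 D19708 (iv D19708) F59638 F41988 (iv F59638)
theorem F85094 : act 3 n19708 = n19708 := d17_2 D13568 D19708 (iv D19708) (iv D13568) F41983
theorem F85095 : act 4 n19708 = n14218 := d18_2 (iv F59639) D19708 (iv D14218)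
theorem F85096 : act 7 n19708 = n13587 := d21_2 (iv F59640) D19708 (iv D13587)
theorem F85097 : act 9 n19708 = n13576 := d23_2 (iv F59641) D19708 (iv D13576)
def n19709 : Q := act 5 n13568
theorem D19709 : act 5 n13568 = n19709 := rfl
theorem F85098 : act 1 n19709 = n13570 := d12_1 D19709 (iv D13570) (iv F59638)
theorem F85099 : act 3 n19709 = n13569 := d25_1 D19709 (iv D13569) D13568
theorem F85100 : act 7 n19709 = n13588 := d36_2 (iv F59640) D19709 (iv D13588)
theorem F85101 : act 9 n19709 = n13577 := d38_2 (iv F59641) D19709 (iv D13577)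
def n19710 : Q := act 8 n13568
theorem D19710 : act 8 n13568 = n19710 := rfl
theorem F85102 : act 1 n19710 = n13571 := d15_1 D19710 (iv D13571) (iv F59638)
theorem F85103 : act 3 n19710 = n19710 := d28_1 D19710 (iv D19710) (iv D13568) F41985 D13568
theorem F85104 : act 4 n19710 = n14220 := d33_1 D19710 (iv D14220) (iv F59639)
theorem F85105 : act 7 n19710 = n13589 := d42_1 D19710 (iv D13589) (iv F59640)
def n19711 : Q := act 6 n13569
theorem D19711 : act 6 n13569 = n19711 := rfl
theorem F85106 : act 1 n19711 = n13572 := d13_1 D19711 (iv D13572) (iv F59642)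
theorem F85107 : act 2 n19711 = n19711 := d20_1 D19711 (iv D19711) F59643
theorem F85108 : act 4 n19711 = n13617 := d31_1 D19711 (iv D13617) (iv F59644)
theorem F85109 : act 8 n19711 = n19711 := d40_2 F59646 D19711 (iv D19711)
theorem F85110 : act 9 n19711 = n13579 := d41_2 (iv F59647) D19711 (iv D13579)
def n19712 : Q := act 4 n13570
theorem D19712 : act 4 n13570 = n19712 := rfl
theorem F85111 : act 0 n19712 = n19712 := d3_1 D19712 (iv D19712) F59648
theorem F85112 : act 2 n19712 = n19712 := d18_1 D19712 (iv D19712) F59649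
theorem F85113 : act 3 n19712 = n13618 := d24_1 D19712 (iv D13618) F42127 (iv F41994) (iv F59650)
theorem F85114 : act 5 n19712 = n14222 := d30_2 D13570 D19712 (iv D14222) (iv D9797) (iv F41989)
theorem F85115 : act 7 n19712 = n13591 := d32_2 (iv F59651) D19712 (iv D13591)
theorem F85116 : act 9 n19712 = n13580 := d34_2 (iv F59652) D19712 (iv D13580)
def n19713 : Q := act 6 n13570
theorem D19713 : act 6 n13570 = n19713 := rfl
theorem F85117 : act 0 n19713 = n19713 := d5_1 D19713 (iv D19713) F59648
theorem F85118 : act 2 n19713 = n19713 := d20_1 D19713 (iv D19713) F59649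
theorem F85119 : act 3 n19713 = n13572 := d26_1 D19713 (iv D13572) (iv F59650)
theorem F85120 : act 9 n19713 = n13581 := d41_2 (iv F59652) D19713 (iv D13581)
def n19714 : Q := act 8 n13570
theorem D19714 : act 8 n13570 = n19714 := rfl
theorem F85121 : act 0 n19714 = n19714 := d7_1 D19714 (iv D19714) F59648
theorem F85122 : act 2 n19714 = n19714 := d22_1 D19714 (iv D19714) F59649
theorem F85123 : act 3 n19714 = n19714 := d28_1 D19714 (iv D19714) F59650 F41996 (iv F59650)
theorem F85124 : act 5 n19714 = n13571 := d37_1 D19714 (iv D13571) D13570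
theorem F85125 : act 7 n19714 = n13593 := d42_1 D19714 (iv D13593) (iv F59651)
def n19715 : Q := act 9 n13571
theorem D19715 : act 9 n13571 = n19715 := rfl
theorem F85126 : act 0 n19715 = n19715 := d8_1 D19715 (iv D19715) F59653
theorem F85127 : act 2 n19715 = n19715 := d23_1 D19715 (iv D19715) F59654
theorem F85128 : act 3 n19715 = n19715 := d29_1 D19715 (iv D19715) F59655
theorem F85129 : act 4 n19715 = n14225 := d34_1 D19715 (iv D14225) (iv F59656)
theorem F85130 : act 7 n19715 = n13594 := d43_1 D19715 (iv D13594) (iv F59657)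
theorem F85131 : act 8 n19715 = n13583 := d44_1 D19715 (iv D13583) (iv D9369) (iv F41991) D13571
def n19716 : Q := act 7 n13572
theorem D19716 : act 7 n13572 = n19716 := rfl
theorem F85132 : act 0 n19716 = n19716 := d6_1 D19716 (iv D19716) F59658
theorem F85133 : act 2 n19716 = n13573 := d21_1 D19716 (iv D13573) (iv F59659)
theorem F85134 : act 4 n19716 = n13622 := d32_1 D19716 (iv D13622) (iv F59660)
theorem F85135 : act 6 n19716 = n13595 := d39_1 D19716 (iv D13595) (iv D9377) (iv F41995) D13572
theorem F85136 : act 8 n19716 = n19716 := d42_2 F59661 D19716 (iv D19716)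
theorem F85137 : act 9 n19716 = n13584 := d43_2 (iv F59662) D19716 (iv D13584)
def n19717 : Q := act 2 n13574
theorem D19717 : act 2 n13574 = n19717 := rfl
theorem F85138 : act 0 n19717 = n13576 := d1_1 D19717 (iv D13576) (iv F59670)
theorem F85140 : act 4 n19717 = n14227 := d18_2 (iv F59672) D19717 (iv D14227)
def n19718 : Q := act 5 n13574
theorem D19718 : act 5 n13574 = n19718 := rfl
theorem F85142 : act 0 n19718 = n13577 := d4_1 D19718 (iv D13577) (iv F59670)
theorem F85143 : act 1 n19718 = n19718 := d12_1 D19718 (iv D19718) F59671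
theorem F85144 : act 3 n19718 = n13575 := d25_1 D19718 (iv D13575) D13574
theorem F85145 : act 7 n19718 = n13597 := d36_2 (iv F59673) D19718 (iv D13597)
def n19719 : Q := act 8 n13574
theorem D19719 : act 8 n13574 = n19719 := rfl
theorem F85148 : act 4 n19719 = n14229 := d33_1 D19719 (iv D14229) (iv F59672)
def n19720 : Q := act 6 n13575
theorem D19720 : act 6 n13575 = n19720 := rfl
theorem F85153 : act 4 n19720 = n13626 := d31_1 D19720 (iv D13626) (iv F59677)
def n19721 : Q := act 5 n13576
theorem D19721 : act 5 n13576 = n19721 := rfl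
theorem F85154 : act 1 n19721 = n19721 := d12_1 D19721 (iv D19721) F59679
theorem F85155 : act 2 n19721 = n13577 := d19_1 D19721 (iv D13577) D13576
theorem F85156 : act 3 n19721 = n19721 := d25_1 D19721 (iv D19721) F59680
theorem F85157 : act 7 n19721 = n13600 := d36_2 (iv F59682) D19721 (iv D13600)
def n19723 : Q := act 4 n13577
theorem D19723 : act 4 n13577 = n19723 := rfl
theorem F85162 : act 1 n19723 = n13580 := d11_1 D19723 (iv D13580) (iv F59683)
theorem F85163 : act 3 n19723 = n13629 := d24_1 D19723 (iv D13629) F42163 (iv F42013) (iv F59684)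
theorem F85164 : act 5 n19723 = n14233 := d30_2 D13577 D19723 (iv D14233) (iv D9804) (iv F42009)
theorem F85165 : act 7 n19723 = n13602 := d32_2 (iv F59685) D19723 (iv D13602)
def n19724 : Q := act 6 n13577
theorem D19724 : act 6 n13577 = n19724 := rfl
theorem F85166 : act 1 n19724 = n13581 := d13_1 D19724 (iv D13581) (iv F59683)
theorem F85167 : act 3 n19724 = n13579 := d26_1 D19724 (iv D13579) (iv F59684)
def n19725 : Q := act 8 n13577
theorem D19725 : act 8 n13577 = n19725 := rfl
theorem F85168 : act 1 n19725 = n13582 := d15_1 D19725 (iv D13582) (iv F59683)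
theorem F85169 : act 5 n19725 = n13578 := d37_1 D19725 (iv D13578) D13577
theorem F85170 : act 7 n19725 = n13604 := d42_1 D19725 (iv D13604) (iv F59685)
def n19726 : Q := act 9 n13578
theorem D19726 : act 9 n13578 = n19726 := rfl
theorem F85172 : act 4 n19726 = n14236 := d34_1 D19726 (iv D14236) (iv F59687)
def n19727 : Q := act 7 n13579
theorem D19727 : act 7 n13579 = n19727 := rfl
theorem F85176 : act 4 n19727 = n13633 := d32_1 D19727 (iv D13633) (iv F59691)
theorem F85177 : act 6 n19727 = n13606 := d39_1 D19727 (iv D13606) (iv D9384) (iv F42014) D13579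
def n19728 : Q := act 6 n13580
theorem D19728 : act 6 n13580 = n19728 := rfl
theorem F85178 : act 0 n19728 = n19728 := d5_1 D19728 (iv D19728) F59692
theorem F85179 : act 2 n19728 = n19728 := d20_1 D19728 (iv D19728) F59693
theorem F85180 : act 3 n19728 = n13634 := d26_1 D19728 (iv D13634) (iv F59694)
theorem F85181 : act 4 n19728 = n13581 := d31_1 D19728 (iv D13581) D13580
def n19729 : Q := act 8 n13580
theorem D19729 : act 8 n13580 = n19729 := rfl
theorem F85182 : act 0 n19729 = n19729 := d7_1 D19729 (iv D19729) F59692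
theorem F85183 : act 2 n19729 = n19729 := d22_1 D19729 (iv D19729) F59693
theorem F85184 : act 4 n19729 = n13582 := d33_1 D19729 (iv D13582) D13580
theorem F85185 : act 5 n19729 = n14239 := d37_1 D19729 (iv D14239) (iv F59695)
theorem F85186 : act 7 n19729 = n13608 := d42_1 D19729 (iv D13608) (iv F59696)
def n19730 : Q := act 7 n13581
theorem D19730 : act 7 n13581 = n19730 := rfl
theorem F85189 : act 3 n19730 = n13584 := d27_1 D19730 (iv D13584) (iv F59699)
theorem F85190 : act 6 n19730 = n13609 := d39_1 D19730 (iv D13609) (iv D9386) (iv F42018) D13581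
def n19731 : Q := act 8 n13581
theorem D19731 : act 8 n13581 = n19731 := rfl
def n19732 : Q := act 9 n13582
theorem D19732 : act 9 n13582 = n19732 := rfl
theorem F85197 : act 7 n19732 = n13611 := d43_1 D19732 (iv D13611) (iv F59703)
def n19733 : Q := act 2 n13585
theorem D19733 : act 2 n13585 = n19733 := rfl
theorem F85198 : act 0 n19733 = n13587 := d1_1 D19733 (iv D13587) (iv F59712)
theorem F85200 : act 4 n19733 = n14261 := d18_2 (iv F59714) D19733 (iv D14261)
def n19734 : Q := act 5 n13585
theorem D19734 : act 5 n13585 = n19734 := rfl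
theorem F85203 : act 0 n19734 = n13588 := d4_1 D19734 (iv D13588) (iv F59712)
theorem F85206 : act 9 n19734 = n13597 := d38_2 (iv F59716) D19734 (iv D13597)
def n19735 : Q := act 8 n13585
theorem D19735 : act 8 n13585 = n19735 := rfl
theorem F85207 : act 0 n19735 = n13589 := d7_1 D19735 (iv D13589) (iv F59712)
def n19736 : Q := act 6 n13586
theorem D19736 : act 6 n13586 = n19736 := rfl
theorem F85212 : act 0 n19736 = n13590 := d5_1 D19736 (iv D13590) (iv F59717)
theorem F85218 : act 9 n19736 = n13599 := d41_2 (iv F59722) D19736 (iv D13599)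
def n19737 : Q := act 5 n13587
theorem D19737 : act 5 n13587 = n19737 := rfl
theorem F85219 : act 1 n19737 = n19737 := d12_1 D19737 (iv D19737) F59723
theorem F85220 : act 2 n19737 = n13588 := d19_1 D19737 (iv D13588) D13587
theorem F85221 : act 3 n19737 = n19737 := d25_1 D19737 (iv D19737) F59724
theorem F85222 : act 9 n19737 = n13600 := d38_2 (iv F59727) D19737 (iv D13600)
def n19738 : Q := act 8 n13587
theorem D19738 : act 8 n13587 = n19738 := rfl
theorem F85224 : act 2 n19738 = n13589 := d22_1 D19738 (iv D13589) D13587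
theorem F85225 : act 4 n19738 = n14266 := d33_1 D19738 (iv D14266) (iv F59725)
def n19739 : Q := act 4 n13588
theorem D19739 : act 4 n13588 = n19739 := rfl
theorem F85227 : act 1 n19739 = n13591 := d11_1 D19739 (iv D13591) (iv F59728)
theorem F85228 : act 3 n19739 = n13645 := d24_1 D19739 (iv D13645) F42209 (iv F42043) (iv F59729)
theorem F85229 : act 5 n19739 = n14267 := d30_2 D13588 D19739 (iv D14267) (iv D9827) (iv F42038)
theorem F85230 : act 9 n19739 = n13602 := d34_2 (iv F59730) D19739 (iv D13602)
def n19740 : Q := act 6 n13588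
theorem D19740 : act 6 n13588 = n19740 := rfl
theorem F85231 : act 1 n19740 = n13592 := d13_1 D19740 (iv D13592) (iv F59728)
theorem F85232 : act 3 n19740 = n13590 := d26_1 D19740 (iv D13590) (iv F59729)
theorem F85233 : act 5 n19740 = n19740 := d35_1 D19740 (iv D19740) (iv D13588) F42039 D13588
theorem F85234 : act 9 n19740 = n13603 := d41_2 (iv F59730) D19740 (iv D13603)
def n19741 : Q := act 8 n13588
theorem D19741 : act 8 n13588 = n19741 := rfl
theorem F85235 : act 1 n19741 = n13593 := d15_1 D19741 (iv D13593) (iv F59728)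
theorem F85236 : act 3 n19741 = n19741 := d28_1 D19741 (iv D19741) F59729 F42044 (iv F59729)
theorem F85237 : act 5 n19741 = n13589 := d37_1 D19741 (iv D13589) D13588
def n19742 : Q := act 9 n13589
theorem D19742 : act 9 n13589 = n19742 := rfl
theorem F85240 : act 4 n19742 = n14270 := d34_1 D19742 (iv D14270) (iv F59733)
theorem F85242 : act 8 n19742 = n13605 := d44_1 D19742 (iv D13605) (iv D9383) (iv F42040) D13589
def n19743 : Q := act 7 n13590
theorem D19743 : act 7 n13590 = n19743 := rfl
theorem F85243 : act 1 n19743 = n13595 := d14_1 D19743 (iv D13595) (iv F59735)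
theorem F85244 : act 2 n19743 = n19743 := d21_1 D19743 (iv D19743) F59736
theorem F85245 : act 4 n19743 = n13649 := d32_1 D19743 (iv D13649) (iv F59737)
theorem F85246 : act 5 n19743 = n19743 := d36_1 D19743 (iv D19743) F59738
theorem F85247 : act 8 n19743 = n19743 := d42_2 F59739 D19743 (iv D19743)
theorem F85248 : act 9 n19743 = n13606 := d43_2 (iv F59740) D19743 (iv D13606)
def n19744 : Q := act 6 n13591
theorem D19744 : act 6 n13591 = n19744 := rfl
theorem F85249 : act 0 n19744 = n19744 := d5_1 D19744 (iv D19744) F59741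
theorem F85250 : act 2 n19744 = n19744 := d20_1 D19744 (iv D19744) F59742
theorem F85251 : act 3 n19744 = n13650 := d26_1 D19744 (iv D13650) (iv F59743)
theorem F85252 : act 4 n19744 = n13592 := d31_1 D19744 (iv D13592) D13591
theorem F85253 : act 9 n19744 = n13607 := d41_2 (iv F59745) D19744 (iv D13607)
def n19745 : Q := act 8 n13591
theorem D19745 : act 8 n13591 = n19745 := rfl
theorem F85254 : act 0 n19745 = n19745 := d7_1 D19745 (iv D19745) F59741
theorem F85255 : act 2 n19745 = n19745 := d22_1 D19745 (iv D19745) F59742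
theorem F85256 : act 4 n19745 = n13593 := d33_1 D19745 (iv D13593) D13591
theorem F85257 : act 5 n19745 = n14273 := d37_1 D19745 (iv D14273) (iv F59744)
def n19746 : Q := act 7 n13592
theorem D19746 : act 7 n13592 = n19746 := rfl
theorem F85258 : act 0 n19746 = n19746 := d6_1 D19746 (iv D19746) F59746
theorem F85259 : act 2 n19746 = n19746 := d21_1 D19746 (iv D19746) F59747
theorem F85260 : act 3 n19746 = n13595 := d27_1 D19746 (iv D13595) (iv F59748)
theorem F85261 : act 5 n19746 = n19746 := d36_1 D19746 (iv D19746) F59749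
theorem F85262 : act 9 n19746 = n13609 := d43_2 (iv F59750) D19746 (iv D13609)
def n19747 : Q := act 8 n13592
theorem D19747 : act 8 n13592 = n19747 := rfl
theorem F85263 : act 0 n19747 = n19747 := d7_1 D19747 (iv D19747) F59746
theorem F85264 : act 2 n19747 = n19747 := d22_1 D19747 (iv D19747) F59747
theorem F85265 : act 3 n19747 = n19747 := d28_1 D19747 (iv D19747) F59748 F42059 (iv F59748)
theorem F85266 : act 5 n19747 = n19747 := d37_1 D19747 (iv D19747) F59749
theorem F85267 : act 6 n19747 = n13593 := d40_1 D19747 (iv D13593) D13592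
def n19748 : Q := act 9 n13593
theorem D19748 : act 9 n13593 = n19748 := rfl
theorem F85268 : act 0 n19748 = n19748 := d8_1 D19748 (iv D19748) F59751
theorem F85269 : act 2 n19748 = n19748 := d23_1 D19748 (iv D19748) F59752
theorem F85270 : act 3 n19748 = n19748 := d29_1 D19748 (iv D19748) F59753
theorem F85271 : act 5 n19748 = n13594 := d38_1 D19748 (iv D13594) (iv F59754)
theorem F85272 : act 8 n19748 = n13611 := d44_1 D19748 (iv D13611) (iv D9387) (iv F42049) D13593
def n19750 : Q := act 5 n13596
theorem D19750 : act 5 n13596 = n19750 := rfl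
theorem F85278 : act 0 n19750 = n13600 := d4_1 D19750 (iv D13600) (iv F59767)
theorem F85279 : act 2 n19750 = n13597 := d19_1 D19750 (iv D13597) D13596
def n19752 : Q := act 4 n13597
theorem D19752 : act 4 n13597 = n19752 := rfl
theorem F85285 : act 0 n19752 = n13602 := d3_1 D19752 (iv D13602) (iv F59771)
theorem F85286 : act 1 n19752 = n19752 := d11_1 D19752 (iv D19752) F59772
theorem F85287 : act 3 n19752 = n13658 := d24_1 D19752 (iv D13658) F42250 (iv F42075) (iv F59773)
theorem F85288 : act 5 n19752 = n14280 := d30_2 D13597 D19752 (iv D14280) (iv D9836) (iv F42070)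
def n19753 : Q := act 6 n13597
theorem D19753 : act 6 n13597 = n19753 := rfl
theorem F85289 : act 0 n19753 = n13603 := d5_1 D19753 (iv D13603) (iv F59771)
theorem F85290 : act 1 n19753 = n19753 := d13_1 D19753 (iv D19753) F59772
theorem F85291 : act 3 n19753 = n13599 := d26_1 D19753 (iv D13599) (iv F59773)
theorem F85292 : act 5 n19753 = n19753 := d35_1 D19753 (iv D19753) (iv D13597) F42071 D13597
def n19754 : Q := act 8 n13597
theorem D19754 : act 8 n13597 = n19754 := rfl
def n19755 : Q := act 9 n13598
theorem D19755 : act 9 n13598 = n19755 := rfl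
def n19756 : Q := act 7 n13599
theorem D19756 : act 7 n13599 = n19756 := rfl
theorem F85303 : act 4 n19756 = n13662 := d32_1 D19756 (iv D13662) (iv F59781)
def n19757 : Q := act 4 n13600
theorem D19757 : act 4 n13600 = n19757 := rfl
theorem F85305 : act 1 n19757 = n19757 := d11_1 D19757 (iv D19757) F59783
theorem F85306 : act 2 n19757 = n13602 := d18_1 D19757 (iv D13602) (iv F59784)
theorem F85307 : act 5 n19757 = n14285 := d30_2 D13600 D19757 (iv D14285) (iv D9839) (iv F42078)
def n19758 : Q := act 6 n13600
theorem D19758 : act 6 n13600 = n19758 := rfl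
theorem F85308 : act 1 n19758 = n19758 := d13_1 D19758 (iv D19758) F59783
theorem F85309 : act 2 n19758 = n13603 := d20_1 D19758 (iv D13603) (iv F59784)
theorem F85310 : act 3 n19758 = n19758 := d26_1 D19758 (iv D19758) F59785
theorem F85311 : act 5 n19758 = n19758 := d35_1 D19758 (iv D19758) (iv D13600) F42079 D13600
def n19759 : Q := act 8 n13600
theorem D19759 : act 8 n13600 = n19759 := rfl
theorem F85313 : act 2 n19759 = n13604 := d22_1 D19759 (iv D13604) (iv F59784)
def n19762 : Q := act 6 n13602
theorem D19762 : act 6 n13602 = n19762 := rfl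
theorem F85322 : act 1 n19762 = n13607 := d13_1 D19762 (iv D13607) (iv F59790)
theorem F85323 : act 3 n19762 = n13668 := d26_1 D19762 (iv D13668) (iv F59791)
theorem F85324 : act 4 n19762 = n13603 := d31_1 D19762 (iv D13603) D13602
def n19763 : Q := act 8 n13602
theorem D19763 : act 8 n13602 = n19763 := rfl
theorem F85325 : act 1 n19763 = n13608 := d15_1 D19763 (iv D13608) (iv F59790)
theorem F85326 : act 4 n19763 = n13604 := d33_1 D19763 (iv D13604) D13602
theorem F85327 : act 5 n19763 = n14291 := d37_1 D19763 (iv D14291) (iv F59792)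
def n19764 : Q := act 7 n13603
theorem D19764 : act 7 n13603 = n19764 := rfl
theorem F85328 : act 1 n19764 = n13609 := d14_1 D19764 (iv D13609) (iv F59793)
theorem F85329 : act 3 n19764 = n13606 := d27_1 D19764 (iv D13606) (iv F59794)
theorem F85330 : act 5 n19764 = n19764 := d36_1 D19764 (iv D19764) F59795
def n19765 : Q := act 8 n13603
theorem D19765 : act 8 n13603 = n19765 := rfl
theorem F85331 : act 1 n19765 = n13610 := d15_1 D19765 (iv D13610) (iv F59793)
theorem F85332 : act 5 n19765 = n19765 := d37_1 D19765 (iv D19765) F59795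
theorem F85333 : act 6 n19765 = n13604 := d40_1 D19765 (iv D13604) D13603
def n19766 : Q := act 9 n13604
theorem D19766 : act 9 n13604 = n19766 := rfl
def n19767 : Q := act 5 n13607
theorem D19767 : act 5 n13607 = n19767 := rfl
theorem F85336 : act 0 n19767 = n19767 := d4_1 D19767 (iv D19767) F59805
theorem F85337 : act 2 n19767 = n19767 := d19_1 D19767 (iv D19767) F59806
theorem F85338 : act 3 n19767 = n13673 := d25_1 D19767 (iv D13673) (iv F59807)
theorem F85339 : act 4 n19767 = n19767 := d30_1 D19767 (iv D19767) F59808 F42096 (iv F59808)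
theorem F85340 : act 6 n19767 = n14295 := d35_2 D13607 D19767 (iv D14295) (iv D9846) (iv F42092)
def n19768 : Q := act 7 n13607
theorem D19768 : act 7 n13607 = n19768 := rfl
theorem F85341 : act 0 n19768 = n19768 := d6_1 D19768 (iv D19768) F59805
theorem F85342 : act 2 n19768 = n19768 := d21_1 D19768 (iv D19768) F59806
theorem F85343 : act 3 n19768 = n13674 := d27_1 D19768 (iv D13674) (iv F59807)
theorem F85344 : act 4 n19768 = n13609 := d32_1 D19768 (iv D13609) (iv F59808)
def n19769 : Q := act 8 n13607
theorem D19769 : act 8 n13607 = n19769 := rfl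
theorem F85345 : act 0 n19769 = n19769 := d7_1 D19769 (iv D19769) F59805
theorem F85346 : act 2 n19769 = n19769 := d22_1 D19769 (iv D19769) F59806
theorem F85347 : act 4 n19769 = n13610 := d33_1 D19769 (iv D13610) (iv F59808)
theorem F85348 : act 6 n19769 = n13608 := d40_1 D19769 (iv D13608) D13607
def n19770 : Q := act 3 n13608
theorem D19770 : act 3 n13608 = n19770 := rfl
theorem F85349 : act 0 n19770 = n19770 := d2_1 D19770 (iv D19770) F59809
theorem F85350 : act 5 n19770 = n14298 := d25_2 (iv F59812) D19770 (iv D14298)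
theorem F85351 : act 8 n19770 = n13676 := d28_2 D13608 D19770 (iv D13676) (iv D9431) (iv F42091)
def n19771 : Q := act 9 n13608
theorem D19771 : act 9 n13608 = n19771 := rfl
theorem F85352 : act 0 n19771 = n19771 := d8_1 D19771 (iv D19771) F59809
theorem F85353 : act 2 n19771 = n19771 := d23_1 D19771 (iv D19771) F59810
theorem F85354 : act 4 n19771 = n13611 := d34_1 D19771 (iv D13611) (iv F59811)
theorem F85355 : act 5 n19771 = n14299 := d38_1 D19771 (iv D14299) (iv F59812)
def n19772 : Q := act 8 n13609
theorem D19772 : act 8 n13609 = n19772 := rfl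
def n19773 : Q := act 9 n13610
theorem D19773 : act 9 n13610 = n19773 := rfl
def n19774 : Q := act 2 n13612
theorem D19774 : act 2 n13612 = n19774 := rfl
theorem F85364 : act 0 n19774 = n13614 := d1_1 D19774 (iv D13614) (iv F59824)
theorem F85366 : act 4 n19774 = n14313 := d18_2 (iv F59826) D19774 (iv D14313)
theorem F85368 : act 7 n19774 = n13639 := d21_2 (iv F59828) D19774 (iv D13639)
theorem F85369 : act 9 n19774 = n13623 := d23_2 (iv F59829) D19774 (iv D13623)
def n19775 : Q := act 5 n13612
theorem D19775 : act 5 n13612 = n19775 := rfl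
theorem F85370 : act 0 n19775 = n13615 := d4_1 D19775 (iv D13615) (iv F59824)
theorem F85373 : act 7 n19775 = n13640 := d36_2 (iv F59828) D19775 (iv D13640)
theorem F85374 : act 9 n19775 = n13624 := d38_2 (iv F59829) D19775 (iv D13624)
def n19776 : Q := act 8 n13612
theorem D19776 : act 8 n13612 = n19776 := rfl
theorem F85375 : act 0 n19776 = n13616 := d7_1 D19776 (iv D13616) (iv F59824)
theorem F85378 : act 4 n19776 = n14315 := d33_1 D19776 (iv D14315) (iv F59826)
def n19777 : Q := act 6 n13613
theorem D19777 : act 6 n13613 = n19777 := rfl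
theorem F85381 : act 0 n19777 = n13617 := d5_1 D19777 (iv D13617) (iv F59830)
theorem F85386 : act 9 n19777 = n13626 := d41_2 (iv F59835) D19777 (iv D13626)
def n19778 : Q := act 5 n13614
theorem D19778 : act 5 n13614 = n19778 := rfl
theorem F85387 : act 1 n19778 = n13756 := d12_1 D19778 (iv D13756) (iv F59836)
theorem F85388 : act 2 n19778 = n13615 := d19_1 D19778 (iv D13615) D13614
theorem F85389 : act 3 n19778 = n19778 := d25_1 D19778 (iv D19778) F59837
theorem F85390 : act 7 n19778 = n13643 := d36_2 (iv F59840) D19778 (iv D13643)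
theorem F85391 : act 9 n19778 = n13627 := d38_2 (iv F59841) D19778 (iv D13627)
def n19779 : Q := act 8 n13614
theorem D19779 : act 8 n13614 = n19779 := rfl
theorem F85392 : act 1 n19779 = n13757 := d15_1 D19779 (iv D13757) (iv F59836)
theorem F85393 : act 2 n19779 = n13616 := d22_1 D19779 (iv D13616) D13614
theorem F85394 : act 4 n19779 = n14318 := d33_1 D19779 (iv D14318) (iv F59838)
theorem F85395 : act 6 n19779 = n19779 := d40_1 D19779 (iv D19779) F59839
theorem F85396 : act 7 n19779 = n13644 := d42_1 D19779 (iv D13644) (iv F59840)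
def n19780 : Q := act 4 n13615
theorem D19780 : act 4 n13615 = n19780 := rfl
theorem F85397 : act 1 n19780 = n13618 := d11_1 D19780 (iv D13618) (iv F59842)
theorem F85398 : act 5 n19780 = n14319 := d30_2 D13615 D19780 (iv D14319) (iv D9861) (iv F42116)
theorem F85399 : act 7 n19780 = n13645 := d32_2 (iv F59844) D19780 (iv D13645)
theorem F85400 : act 9 n19780 = n13629 := d34_2 (iv F59845) D19780 (iv D13629)
def n19781 : Q := act 6 n13615
theorem D19781 : act 6 n13615 = n19781 := rfl
theorem F85401 : act 1 n19781 = n13619 := d13_1 D19781 (iv D13619) (iv F59842)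
theorem F85402 : act 3 n19781 = n13617 := d26_1 D19781 (iv D13617) (iv F59843)
theorem F85403 : act 5 n19781 = n19781 := d35_1 D19781 (iv D19781) (iv D13615) F42117 D13615
theorem F85404 : act 9 n19781 = n13630 := d41_2 (iv F59845) D19781 (iv D13630)
def n19782 : Q := act 8 n13615
theorem D19782 : act 8 n13615 = n19782 := rfl
theorem F85405 : act 1 n19782 = n13620 := d15_1 D19782 (iv D13620) (iv F59842)
theorem F85406 : act 3 n19782 = n19782 := d28_1 D19782 (iv D19782) F59843 F42123 (iv F59843)
theorem F85407 : act 5 n19782 = n13616 := d37_1 D19782 (iv D13616) D13615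
theorem F85408 : act 7 n19782 = n13647 := d42_1 D19782 (iv D13647) (iv F59844)
def n19783 : Q := act 9 n13616
theorem D19783 : act 9 n13616 = n19783 := rfl
theorem F85409 : act 1 n19783 = n13621 := d16_1 D19783 (iv D13621) (iv F59846)
theorem F85410 : act 3 n19783 = n19783 := d29_1 D19783 (iv D19783) F59847
theorem F85411 : act 4 n19783 = n14322 := d34_1 D19783 (iv D14322) (iv F59848)
theorem F85412 : act 6 n19783 = n19783 := d41_1 D19783 (iv D19783) F59849
theorem F85413 : act 7 n19783 = n13648 := d43_1 D19783 (iv D13648) (iv F59850)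
theorem F85414 : act 8 n19783 = n13632 := d44_1 D19783 (iv D13632) (iv D9401) (iv F42119) D13616
def n19784 : Q := act 7 n13617
theorem D19784 : act 7 n13617 = n19784 := rfl
theorem F85415 : act 1 n19784 = n13622 := d14_1 D19784 (iv D13622) (iv F59851)
theorem F85416 : act 2 n19784 = n19784 := d21_1 D19784 (iv D19784) F59852
theorem F85417 : act 5 n19784 = n19784 := d36_1 D19784 (iv D19784) F59853
theorem F85418 : act 6 n19784 = n13649 := d39_1 D19784 (iv D13649) (iv D9413) (iv F42122) D13617
theorem F85419 : act 8 n19784 = n19784 := d42_2 F59854 D19784 (iv D19784)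
theorem F85420 : act 9 n19784 = n13633 := d43_2 (iv F59855) D19784 (iv D13633)
def n19785 : Q := act 6 n13618
theorem D19785 : act 6 n13618 = n19785 := rfl
theorem F85421 : act 0 n19785 = n19785 := d5_1 D19785 (iv D19785) F59856
theorem F85422 : act 2 n19785 = n13763 := d20_1 D19785 (iv D13763) (iv F59857)
theorem F85423 : act 4 n19785 = n13619 := d31_1 D19785 (iv D13619) D13618
theorem F85424 : act 9 n19785 = n13634 := d41_2 (iv F59860) D19785 (iv D13634)
def n19786 : Q := act 8 n13618
theorem D19786 : act 8 n13618 = n19786 := rfl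
theorem F85425 : act 0 n19786 = n19786 := d7_1 D19786 (iv D19786) F59856
theorem F85426 : act 2 n19786 = n13764 := d22_1 D19786 (iv D13764) (iv F59857)
theorem F85427 : act 4 n19786 = n13620 := d33_1 D19786 (iv D13620) D13618
theorem F85428 : act 5 n19786 = n14325 := d37_1 D19786 (iv D14325) (iv F59858)
theorem F85429 : act 7 n19786 = n13651 := d42_1 D19786 (iv D13651) (iv F59859)
def n19787 : Q := act 7 n13619
theorem D19787 : act 7 n13619 = n19787 := rfl
theorem F85430 : act 0 n19787 = n19787 := d6_1 D19787 (iv D19787) F59861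
theorem F85431 : act 2 n19787 = n13765 := d21_1 D19787 (iv D13765) (iv F59862)
theorem F85432 : act 3 n19787 = n13622 := d27_1 D19787 (iv D13622) (iv F59863)
theorem F85433 : act 5 n19787 = n19787 := d36_1 D19787 (iv D19787) F59864
theorem F85434 : act 6 n19787 = n13652 := d39_1 D19787 (iv D13652) (iv D9415) (iv F42128) D13619
theorem F85435 : act 9 n19787 = n13636 := d43_2 (iv F59865) D19787 (iv D13636)
def n19788 : Q := act 8 n13619
theorem D19788 : act 8 n13619 = n19788 := rfl
theorem F85436 : act 0 n19788 = n19788 := d7_1 D19788 (iv D19788) F59861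
theorem F85437 : act 2 n19788 = n13766 := d22_1 D19788 (iv D13766) (iv F59862)
theorem F85438 : act 3 n19788 = n19788 := d28_1 D19788 (iv D19788) F59863 F42139 (iv F59863)
theorem F85439 : act 5 n19788 = n19788 := d37_1 D19788 (iv D19788) F59864
theorem F85440 : act 6 n19788 = n13620 := d40_1 D19788 (iv D13620) D13619
def n19789 : Q := act 9 n13620
theorem D19789 : act 9 n13620 = n19789 := rfl
theorem F85441 : act 0 n19789 = n19789 := d8_1 D19789 (iv D19789) F59866
theorem F85442 : act 2 n19789 = n13767 := d23_1 D19789 (iv D13767) (iv F59867)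
theorem F85443 : act 3 n19789 = n19789 := d29_1 D19789 (iv D19789) F59868
theorem F85444 : act 5 n19789 = n13621 := d38_1 D19789 (iv D13621) (iv F59869)
theorem F85445 : act 7 n19789 = n13654 := d43_1 D19789 (iv D13654) (iv F59870)
theorem F85446 : act 8 n19789 = n13638 := d44_1 D19789 (iv D13638) (iv D9405) (iv F42129) D13620
def n19790 : Q := act 1 n13623
theorem D19790 : act 1 n13623 = n19790 := rfl
theorem F85447 : act 0 n19790 = n13768 := d0_1 D19790 (iv D13768) F42567 (iv F42157) (iv F59884)
theorem F85448 : act 2 n19790 = n19790 := d9_2 D13623 D19790 (iv D19790) (iv D13623) F42149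
theorem F85449 : act 3 n19790 = n19790 := d10_2 F59885 D19790 (iv D19790)
theorem F85450 : act 4 n19790 = n14329 := d11_2 (iv F59886) D19790 (iv D14329)
theorem F85451 : act 6 n19790 = n19790 := d13_2 F59887 D19790 (iv D19790)
theorem F85452 : act 7 n19790 = n13655 := d14_2 (iv F59888) D19790 (iv D13655)
def n19791 : Q := act 5 n13623
theorem D19791 : act 5 n13623 = n19791 := rfl
theorem F85453 : act 0 n19791 = n13627 := d4_1 D19791 (iv D13627) (iv F59884)
theorem F85454 : act 2 n19791 = n13624 := d19_1 D19791 (iv D13624) D13623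
theorem F85455 : act 3 n19791 = n19791 := d25_1 D19791 (iv D19791) F59885
theorem F85456 : act 7 n19791 = n13656 := d36_2 (iv F59888) D19791 (iv D13656)
def n19792 : Q := act 8 n13623
theorem D19792 : act 8 n13623 = n19792 := rfl
theorem F85457 : act 0 n19792 = n13628 := d7_1 D19792 (iv D13628) (iv F59884)
theorem F85458 : act 2 n19792 = n13625 := d22_1 D19792 (iv D13625) D13623
theorem F85459 : act 4 n19792 = n14331 := d33_1 D19792 (iv D14331) (iv F59886)
theorem F85460 : act 6 n19792 = n19792 := d40_1 D19792 (iv D19792) F59887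
theorem F85461 : act 7 n19792 = n13657 := d42_1 D19792 (iv D13657) (iv F59888)
def n19793 : Q := act 4 n13624
theorem D19793 : act 4 n13624 = n19793 := rfl
theorem F85462 : act 0 n19793 = n13629 := d3_1 D19793 (iv D13629) (iv F59889)
theorem F85463 : act 1 n19793 = n19793 := d11_1 D19793 (iv D19793) F59890
theorem F85464 : act 5 n19793 = n14332 := d30_2 D13624 D19793 (iv D14332) (iv D9870) (iv F42150)
theorem F85465 : act 7 n19793 = n13658 := d32_2 (iv F59892) D19793 (iv D13658)
def n19794 : Q := act 6 n13624
theorem D19794 : act 6 n13624 = n19794 := rfl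
theorem F85466 : act 0 n19794 = n13630 := d5_1 D19794 (iv D13630) (iv F59889)
theorem F85467 : act 1 n19794 = n19794 := d13_1 D19794 (iv D19794) F59890
theorem F85468 : act 3 n19794 = n13626 := d26_1 D19794 (iv D13626) (iv F59891)
theorem F85469 : act 5 n19794 = n19794 := d35_1 D19794 (iv D19794) (iv D13624) F42151 D13624
def n19795 : Q := act 8 n13624
theorem D19795 : act 8 n13624 = n19795 := rfl
theorem F85470 : act 0 n19795 = n13631 := d7_1 D19795 (iv D13631) (iv F59889)
theorem F85471 : act 1 n19795 = n19795 := d15_1 D19795 (iv D19795) F59890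
theorem F85472 : act 5 n19795 = n13625 := d37_1 D19795 (iv D13625) D13624
theorem F85473 : act 7 n19795 = n13660 := d42_1 D19795 (iv D13660) (iv F59892)
def n19796 : Q := act 9 n13625
theorem D19796 : act 9 n13625 = n19796 := rfl
theorem F85474 : act 0 n19796 = n13632 := d8_1 D19796 (iv D13632) (iv F59893)
theorem F85475 : act 1 n19796 = n19796 := d16_1 D19796 (iv D19796) F59894
theorem F85476 : act 4 n19796 = n14335 := d34_1 D19796 (iv D14335) (iv F59895)
theorem F85477 : act 6 n19796 = n19796 := d41_1 D19796 (iv D19796) F59896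
theorem F85478 : act 7 n19796 = n13661 := d43_1 D19796 (iv D13661) (iv F59897)
def n19797 : Q := act 7 n13626
theorem D19797 : act 7 n13626 = n19797 := rfl
theorem F85483 : act 6 n19797 = n13662 := d39_1 D19797 (iv D13662) (iv D9422) (iv F42156) D13626
def n19798 : Q := act 4 n13627
theorem D19798 : act 4 n13627 = n19798 := rfl
theorem F85484 : act 1 n19798 = n13776 := d11_1 D19798 (iv D13776) (iv F59902)
theorem F85485 : act 2 n19798 = n13629 := d18_1 D19798 (iv D13629) (iv F59903)
theorem F85486 : act 5 n19798 = n14337 := d30_2 D13627 D19798 (iv D14337) (iv D9873) (iv F42159)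
theorem F85487 : act 7 n19798 = n13663 := d32_2 (iv F59905) D19798 (iv D13663)
def n19799 : Q := act 6 n13627
theorem D19799 : act 6 n13627 = n19799 := rfl
theorem F85488 : act 1 n19799 = n13777 := d13_1 D19799 (iv D13777) (iv F59902)
theorem F85489 : act 2 n19799 = n13630 := d20_1 D19799 (iv D13630) (iv F59903)
theorem F85490 : act 3 n19799 = n19799 := d26_1 D19799 (iv D19799) F59904
theorem F85491 : act 5 n19799 = n19799 := d35_1 D19799 (iv D19799) (iv D13627) F42160 D13627
def n19800 : Q := act 8 n13627
theorem D19800 : act 8 n13627 = n19800 := rfl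
theorem F85492 : act 1 n19800 = n13778 := d15_1 D19800 (iv D13778) (iv F59902)
theorem F85493 : act 2 n19800 = n13631 := d22_1 D19800 (iv D13631) (iv F59903)
theorem F85494 : act 5 n19800 = n13628 := d37_1 D19800 (iv D13628) D13627
theorem F85495 : act 7 n19800 = n13665 := d42_1 D19800 (iv D13665) (iv F59905)
def n19801 : Q := act 3 n13628
theorem D19801 : act 3 n13628 = n19801 := rfl
theorem F85496 : act 1 n19801 = n13779 := d10_1 D19801 (iv D13779) (iv F59906)
theorem F85497 : act 6 n19801 = n19801 := d26_2 F59909 D19801 (iv D19801)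
theorem F85498 : act 7 n19801 = n13666 := d27_2 (iv F59910) D19801 (iv D13666)
theorem F85499 : act 8 n19801 = n19801 := d28_2 D13628 D19801 (iv D19801) (iv D13628) F42158
def n19802 : Q := act 9 n13628
theorem D19802 : act 9 n13628 = n19802 := rfl
theorem F85500 : act 1 n19802 = n13780 := d16_1 D19802 (iv D13780) (iv F59906)
theorem F85501 : act 2 n19802 = n13632 := d23_1 D19802 (iv D13632) (iv F59907)
theorem F85502 : act 4 n19802 = n14341 := d34_1 D19802 (iv D14341) (iv F59908)
theorem F85503 : act 6 n19802 = n19802 := d41_1 D19802 (iv D19802) F59909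
theorem F85504 : act 7 n19802 = n13667 := d43_1 D19802 (iv D13667) (iv F59910)
def n19803 : Q := act 6 n13629
theorem D19803 : act 6 n13629 = n19803 := rfl
theorem F85505 : act 1 n19803 = n13634 := d13_1 D19803 (iv D13634) (iv F59911)
theorem F85506 : act 4 n19803 = n13630 := d31_1 D19803 (iv D13630) D13629
def n19804 : Q := act 8 n13629
theorem D19804 : act 8 n13629 = n19804 := rfl
theorem F85507 : act 1 n19804 = n13635 := d15_1 D19804 (iv D13635) (iv F59911)
theorem F85508 : act 4 n19804 = n13631 := d33_1 D19804 (iv D13631) D13629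
theorem F85509 : act 5 n19804 = n14343 := d37_1 D19804 (iv D14343) (iv F59912)
theorem F85510 : act 7 n19804 = n13669 := d42_1 D19804 (iv D13669) (iv F59913)
def n19805 : Q := act 7 n13630
theorem D19805 : act 7 n13630 = n19805 := rfl
theorem F85511 : act 1 n19805 = n13636 := d14_1 D19805 (iv D13636) (iv F59914)
theorem F85512 : act 3 n19805 = n13633 := d27_1 D19805 (iv D13633) (iv F59915)
theorem F85513 : act 5 n19805 = n19805 := d36_1 D19805 (iv D19805) F59916
theorem F85514 : act 6 n19805 = n13670 := d39_1 D19805 (iv D13670) (iv D9426) (iv F42164) D13630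
def n19806 : Q := act 8 n13630
theorem D19806 : act 8 n13630 = n19806 := rfl
theorem F85515 : act 1 n19806 = n13637 := d15_1 D19806 (iv D13637) (iv F59914)
theorem F85516 : act 5 n19806 = n19806 := d37_1 D19806 (iv D19806) F59916
theorem F85517 : act 6 n19806 = n13631 := d40_1 D19806 (iv D13631) D13630
def n19807 : Q := act 9 n13631
theorem D19807 : act 9 n13631 = n19807 := rfl
theorem F85518 : act 1 n19807 = n13638 := d16_1 D19807 (iv D13638) (iv F59917)
theorem F85519 : act 5 n19807 = n13632 := d38_1 D19807 (iv D13632) (iv F59918)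
theorem F85520 : act 7 n19807 = n13672 := d43_1 D19807 (iv D13672) (iv F59919)
def n19808 : Q := act 5 n13634
theorem D19808 : act 5 n13634 = n19808 := rfl
theorem F85521 : act 0 n19808 = n19808 := d4_1 D19808 (iv D19808) F59928
theorem F85522 : act 2 n19808 = n13786 := d19_1 D19808 (iv D13786) (iv F59929)
theorem F85523 : act 4 n19808 = n19808 := d30_1 D19808 (iv D19808) F59930 F42179 (iv F59930)
theorem F85524 : act 6 n19808 = n14347 := d35_2 D13634 D19808 (iv D14347) (iv D9880) (iv F42174)
def n19809 : Q := act 7 n13634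
theorem D19809 : act 7 n13634 = n19809 := rfl
theorem F85525 : act 0 n19809 = n19809 := d6_1 D19809 (iv D19809) F59928
theorem F85526 : act 2 n19809 = n13787 := d21_1 D19809 (iv D13787) (iv F59929)
theorem F85527 : act 4 n19809 = n13636 := d32_1 D19809 (iv D13636) (iv F59930)
theorem F85528 : act 6 n19809 = n13674 := d39_1 D19809 (iv D13674) (iv D9430) (iv F42175) D13634
def n19810 : Q := act 8 n13634
theorem D19810 : act 8 n13634 = n19810 := rfl
theorem F85529 : act 0 n19810 = n19810 := d7_1 D19810 (iv D19810) F59928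
theorem F85530 : act 2 n19810 = n13788 := d22_1 D19810 (iv D13788) (iv F59929)
theorem F85531 : act 4 n19810 = n13637 := d33_1 D19810 (iv D13637) (iv F59930)
theorem F85532 : act 6 n19810 = n13635 := d40_1 D19810 (iv D13635) D13634
def n19811 : Q := act 3 n13635
theorem D19811 : act 3 n13635 = n19811 := rfl
theorem F85533 : act 0 n19811 = n19811 := d2_1 D19811 (iv D19811) F59931
theorem F85534 : act 5 n19811 = n14350 := d25_2 (iv F59934) D19811 (iv D14350)
theorem F85535 : act 7 n19811 = n13676 := d27_2 (iv F59935) D19811 (iv D13676)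
def n19812 : Q := act 9 n13635
theorem D19812 : act 9 n13635 = n19812 := rfl
theorem F85536 : act 0 n19812 = n19812 := d8_1 D19812 (iv D19812) F59931
theorem F85537 : act 2 n19812 = n13790 := d23_1 D19812 (iv D13790) (iv F59932)
theorem F85538 : act 4 n19812 = n13638 := d34_1 D19812 (iv D13638) (iv F59933)
theorem F85539 : act 5 n19812 = n14351 := d38_1 D19812 (iv D14351) (iv F59934)
theorem F85540 : act 7 n19812 = n13677 := d43_1 D19812 (iv D13677) (iv F59935)
def n19813 : Q := act 8 n13636
theorem D19813 : act 8 n13636 = n19813 := rfl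
theorem F85541 : act 0 n19813 = n19813 := d7_1 D19813 (iv D19813) F59936
theorem F85542 : act 2 n19813 = n13791 := d22_1 D19813 (iv D13791) (iv F59937)
theorem F85543 : act 5 n19813 = n19813 := d37_1 D19813 (iv D19813) F59939
theorem F85544 : act 6 n19813 = n13678 := d40_1 D19813 (iv D13678) (iv F59940)
theorem F85545 : act 7 n19813 = n13637 := d42_1 D19813 (iv D13637) D13636
def n19814 : Q := act 9 n13637
theorem D19814 : act 9 n13637 = n19814 := rfl
theorem F85546 : act 0 n19814 = n19814 := d8_1 D19814 (iv D19814) F59941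
theorem F85547 : act 2 n19814 = n13792 := d23_1 D19814 (iv D13792) (iv F59942)
theorem F85548 : act 5 n19814 = n19814 := d38_1 D19814 (iv D19814) F59943
theorem F85549 : act 6 n19814 = n13638 := d41_1 D19814 (iv D13638) (iv F59944)
def n19815 : Q := act 1 n13639
theorem D19815 : act 1 n13639 = n19815 := rfl
theorem F85550 : act 0 n19815 = n13809 := d0_1 D19815 (iv D13809) F42691 (iv F42203) (iv F59949)
theorem F85553 : act 4 n19815 = n14370 := d11_2 (iv F59951) D19815 (iv D14370)
theorem F85555 : act 9 n19815 = n13655 := d16_2 (iv F59953) D19815 (iv D13655)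
def n19816 : Q := act 5 n13639
theorem D19816 : act 5 n13639 = n19816 := rfl
theorem F85556 : act 0 n19816 = n13643 := d4_1 D19816 (iv D13643) (iv F59949)
theorem F85559 : act 9 n19816 = n13656 := d38_2 (iv F59953) D19816 (iv D13656)
def n19817 : Q := act 8 n13639
theorem D19817 : act 8 n13639 = n19817 := rfl
theorem F85560 : act 0 n19817 = n13644 := d7_1 D19817 (iv D13644) (iv F59949)
theorem F85562 : act 4 n19817 = n14372 := d33_1 D19817 (iv D14372) (iv F59951)
def n19818 : Q := act 4 n13640
theorem D19818 : act 4 n13640 = n19818 := rfl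
theorem F85564 : act 0 n19818 = n13645 := d3_1 D19818 (iv D13645) (iv F59954)
theorem F85566 : act 5 n19818 = n14373 := d30_2 D13640 D19818 (iv D14373) (iv D9897) (iv F42195)
theorem F85567 : act 9 n19818 = n13658 := d34_2 (iv F59957) D19818 (iv D13658)
def n19819 : Q := act 6 n13640
theorem D19819 : act 6 n13640 = n19819 := rfl
theorem F85568 : act 0 n19819 = n13646 := d5_1 D19819 (iv D13646) (iv F59954)
theorem F85572 : act 9 n19819 = n13659 := d41_2 (iv F59957) D19819 (iv D13659)
def n19820 : Q := act 8 n13640
theorem D19820 : act 8 n13640 = n19820 := rfl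
theorem F85573 : act 0 n19820 = n13647 := d7_1 D19820 (iv D13647) (iv F59954)
theorem F85576 : act 5 n19820 = n13641 := d37_1 D19820 (iv D13641) D13640
def n19821 : Q := act 9 n13641
theorem D19821 : act 9 n13641 = n19821 := rfl
theorem F85577 : act 0 n19821 = n13648 := d8_1 D19821 (iv D13648) (iv F59958)
theorem F85582 : act 8 n19821 = n13661 := d44_1 D19821 (iv D13661) (iv D9421) (iv F42197) D13641
def n19822 : Q := act 7 n13642
theorem D19822 : act 7 n13642 = n19822 := rfl
theorem F85583 : act 0 n19822 = n13649 := d6_1 D19822 (iv D13649) (iv F59963)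
theorem F85588 : act 9 n19822 = n13662 := d43_2 (iv F59968) D19822 (iv D13662)
def n19823 : Q := act 4 n13643
theorem D19823 : act 4 n13643 = n19823 := rfl
theorem F85589 : act 1 n19823 = n13817 := d11_1 D19823 (iv D13817) (iv F59969)
theorem F85590 : act 2 n19823 = n13645 := d18_1 D19823 (iv D13645) (iv F59970)
theorem F85591 : act 5 n19823 = n14378 := d30_2 D13643 D19823 (iv D14378) (iv D9900) (iv F42205)
theorem F85592 : act 9 n19823 = n13663 := d34_2 (iv F59972) D19823 (iv D13663)
def n19824 : Q := act 6 n13643
theorem D19824 : act 6 n13643 = n19824 := rfl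
theorem F85593 : act 1 n19824 = n13818 := d13_1 D19824 (iv D13818) (iv F59969)
theorem F85594 : act 2 n19824 = n13646 := d20_1 D19824 (iv D13646) (iv F59970)
theorem F85595 : act 3 n19824 = n19824 := d26_1 D19824 (iv D19824) F59971
theorem F85596 : act 5 n19824 = n13689 := d35_1 D19824 (iv D13689) (iv D9439) (iv F42206) D13643
theorem F85597 : act 9 n19824 = n13664 := d41_2 (iv F59972) D19824 (iv D13664)
def n19825 : Q := act 8 n13643
theorem D19825 : act 8 n13643 = n19825 := rfl
theorem F85598 : act 1 n19825 = n13819 := d15_1 D19825 (iv D13819) (iv F59969)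
theorem F85599 : act 2 n19825 = n13647 := d22_1 D19825 (iv D13647) (iv F59970)
theorem F85600 : act 5 n19825 = n13644 := d37_1 D19825 (iv D13644) D13643
def n19826 : Q := act 3 n13644
theorem D19826 : act 3 n13644 = n19826 := rfl
theorem F85601 : act 1 n19826 = n13820 := d10_1 D19826 (iv D13820) (iv F59973)
theorem F85602 : act 2 n19826 = n19826 := d17_1 D19826 (iv D19826) F59974 F42212 (iv F59974)
theorem F85603 : act 6 n19826 = n13691 := d26_2 (iv F59976) D19826 (iv D13691)
theorem F85604 : act 8 n19826 = n19826 := d28_2 D13644 D19826 (iv D19826) (iv D13644) F42204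
def n19827 : Q := act 9 n13644
theorem D19827 : act 9 n13644 = n19827 := rfl
theorem F85605 : act 1 n19827 = n13821 := d16_1 D19827 (iv D13821) (iv F59973)
theorem F85606 : act 2 n19827 = n13648 := d23_1 D19827 (iv D13648) (iv F59974)
theorem F85607 : act 4 n19827 = n14382 := d34_1 D19827 (iv D14382) (iv F59975)
theorem F85608 : act 6 n19827 = n13692 := d41_1 D19827 (iv D13692) (iv F59976)
theorem F85609 : act 8 n19827 = n13667 := d44_1 D19827 (iv D13667) (iv D9424) (iv F42207) D13644
def n19828 : Q := act 6 n13645
theorem D19828 : act 6 n13645 = n19828 := rfl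
theorem F85610 : act 1 n19828 = n13650 := d13_1 D19828 (iv D13650) (iv F59977)
theorem F85611 : act 4 n19828 = n13646 := d31_1 D19828 (iv D13646) D13645
theorem F85612 : act 9 n19828 = n13668 := d41_2 (iv F59979) D19828 (iv D13668)
def n19829 : Q := act 8 n13645
theorem D19829 : act 8 n13645 = n19829 := rfl
theorem F85613 : act 1 n19829 = n13651 := d15_1 D19829 (iv D13651) (iv F59977)
theorem F85614 : act 4 n19829 = n13647 := d33_1 D19829 (iv D13647) D13645
theorem F85615 : act 5 n19829 = n14384 := d37_1 D19829 (iv D14384) (iv F59978)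
def n19830 : Q := act 7 n13646
theorem D19830 : act 7 n13646 = n19830 := rfl
theorem F85616 : act 1 n19830 = n13652 := d14_1 D19830 (iv D13652) (iv F59980)
theorem F85617 : act 3 n19830 = n13649 := d27_1 D19830 (iv D13649) (iv F59981)
theorem F85618 : act 5 n19830 = n13695 := d36_1 D19830 (iv D13695) (iv F59982)
theorem F85619 : act 9 n19830 = n13670 := d43_2 (iv F59983) D19830 (iv D13670)
def n19831 : Q := act 8 n13646
theorem D19831 : act 8 n13646 = n19831 := rfl
theorem F85620 : act 1 n19831 = n13653 := d15_1 D19831 (iv D13653) (iv F59980)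
theorem F85621 : act 3 n19831 = n19831 := d28_1 D19831 (iv D19831) F59981 F42218 (iv F59981)
theorem F85622 : act 5 n19831 = n13696 := d37_1 D19831 (iv D13696) (iv F59982)
theorem F85623 : act 6 n19831 = n13647 := d40_1 D19831 (iv D13647) D13646
def n19832 : Q := act 9 n13647
theorem D19832 : act 9 n13647 = n19832 := rfl
theorem F85624 : act 1 n19832 = n13654 := d16_1 D19832 (iv D13654) (iv F59984)
theorem F85625 : act 3 n19832 = n19832 := d29_1 D19832 (iv D19832) F59985
theorem F85626 : act 5 n19832 = n13648 := d38_1 D19832 (iv D13648) (iv F59986)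
theorem F85627 : act 8 n19832 = n13672 := d44_1 D19832 (iv D13672) (iv D9427) (iv F42210) D13647
def n19833 : Q := act 5 n13650
theorem D19833 : act 5 n13650 = n19833 := rfl
theorem F85628 : act 0 n19833 = n19833 := d4_1 D19833 (iv D19833) F59997
theorem F85629 : act 2 n19833 = n13827 := d19_1 D19833 (iv D13827) (iv F59998)
theorem F85630 : act 4 n19833 = n13698 := d30_1 D19833 (iv D13698) F42353 (iv F42227) (iv F59999)
theorem F85631 : act 6 n19833 = n14388 := d35_2 D13650 D19833 (iv D14388) (iv D9907) (iv F42222)
theorem F85632 : act 9 n19833 = n13673 := d38_2 (iv F60000) D19833 (iv D13673)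
def n19834 : Q := act 7 n13650
theorem D19834 : act 7 n13650 = n19834 := rfl
theorem F85633 : act 0 n19834 = n19834 := d6_1 D19834 (iv D19834) F59997
theorem F85634 : act 2 n19834 = n13828 := d21_1 D19834 (iv D13828) (iv F59998)
theorem F85635 : act 4 n19834 = n13652 := d32_1 D19834 (iv D13652) (iv F59999)
theorem F85636 : act 9 n19834 = n13674 := d43_2 (iv F60000) D19834 (iv D13674)
def n19835 : Q := act 8 n13650
theorem D19835 : act 8 n13650 = n19835 := rfl
theorem F85637 : act 0 n19835 = n19835 := d7_1 D19835 (iv D19835) F59997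
theorem F85638 : act 2 n19835 = n13829 := d22_1 D19835 (iv D13829) (iv F59998)
theorem F85639 : act 4 n19835 = n13653 := d33_1 D19835 (iv D13653) (iv F59999)
theorem F85640 : act 6 n19835 = n13651 := d40_1 D19835 (iv D13651) D13650
def n19836 : Q := act 3 n13651
theorem D19836 : act 3 n13651 = n19836 := rfl
theorem F85641 : act 0 n19836 = n19836 := d2_1 D19836 (iv D19836) F60001
theorem F85642 : act 4 n19836 = n19836 := d24_2 (iv F60003) D19836 (iv D19836) F60003 F42231
theorem F85643 : act 5 n19836 = n14391 := d25_2 (iv F60004) D19836 (iv D14391)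
def n19837 : Q := act 9 n13651
theorem D19837 : act 9 n13651 = n19837 := rfl
theorem F85644 : act 0 n19837 = n19837 := d8_1 D19837 (iv D19837) F60001
theorem F85645 : act 2 n19837 = n13831 := d23_1 D19837 (iv D13831) (iv F60002)
theorem F85646 : act 4 n19837 = n13654 := d34_1 D19837 (iv D13654) (iv F60003)
theorem F85647 : act 5 n19837 = n14392 := d38_1 D19837 (iv D14392) (iv F60004)
theorem F85648 : act 8 n19837 = n13677 := d44_1 D19837 (iv D13677) (iv D9431) (iv F42223) D13651
def n19838 : Q := act 8 n13652
theorem D19838 : act 8 n13652 = n19838 := rfl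
theorem F85649 : act 0 n19838 = n19838 := d7_1 D19838 (iv D19838) F60005
theorem F85650 : act 2 n19838 = n13832 := d22_1 D19838 (iv D13832) (iv F60006)
theorem F85651 : act 3 n19838 = n19838 := d28_1 D19838 (iv D19838) F60007 F42242 (iv F60007)
theorem F85652 : act 5 n19838 = n13703 := d37_1 D19838 (iv D13703) (iv F60008)
theorem F85653 : act 7 n19838 = n13653 := d42_1 D19838 (iv D13653) D13652
def n19839 : Q := act 9 n13653
theorem D19839 : act 9 n13653 = n19839 := rfl
theorem F85654 : act 0 n19839 = n19839 := d8_1 D19839 (iv D19839) F60010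
theorem F85655 : act 2 n19839 = n13833 := d23_1 D19839 (iv D13833) (iv F60011)
theorem F85656 : act 3 n19839 = n19839 := d29_1 D19839 (iv D19839) F60012
theorem F85657 : act 5 n19839 = n13704 := d38_1 D19839 (iv D13704) (iv F60013)
theorem F85658 : act 6 n19839 = n13654 := d41_1 D19839 (iv D13654) (iv F60014)
theorem F85659 : act 8 n19839 = n13679 := d44_1 D19839 (iv D13679) (iv D9433) (iv F42228) D13653
def n19840 : Q := act 5 n13655
theorem D19840 : act 5 n13655 = n19840 := rfl
theorem F85660 : act 0 n19840 = n13834 := d4_1 D19840 (iv D13834) (iv F60020)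
theorem F85661 : act 1 n19840 = n13656 := d12_1 D19840 (iv D13656) D13655
theorem F85662 : act 2 n19840 = n19840 := d19_1 D19840 (iv D19840) F60021
theorem F85663 : act 3 n19840 = n19840 := d25_1 D19840 (iv D19840) F60022
def n19841 : Q := act 8 n13655
theorem D19841 : act 8 n13655 = n19841 := rfl
theorem F85664 : act 0 n19841 = n13835 := d7_1 D19841 (iv D13835) (iv F60020)
theorem F85665 : act 1 n19841 = n13657 := d15_1 D19841 (iv D13657) D13655
theorem F85666 : act 2 n19841 = n19841 := d22_1 D19841 (iv D19841) F60021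
theorem F85667 : act 4 n19841 = n14396 := d33_1 D19841 (iv D14396) (iv F60023)
theorem F85668 : act 6 n19841 = n13706 := d40_1 D19841 (iv D13706) (iv F60024)
def n19842 : Q := act 4 n13656
theorem D19842 : act 4 n13656 = n19842 := rfl
theorem F85669 : act 0 n19842 = n13663 := d3_1 D19842 (iv D13663) (iv F60025)
theorem F85670 : act 2 n19842 = n13658 := d18_1 D19842 (iv D13658) (iv F60026)
theorem F85671 : act 5 n19842 = n14397 := d30_2 D13656 D19842 (iv D14397) (iv D9913) (iv F42246)
def n19843 : Q := act 6 n13656
theorem D19843 : act 6 n13656 = n19843 := rfl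
theorem F85672 : act 0 n19843 = n13664 := d5_1 D19843 (iv D13664) (iv F60025)
theorem F85673 : act 2 n19843 = n13659 := d20_1 D19843 (iv D13659) (iv F60026)
theorem F85674 : act 3 n19843 = n19843 := d26_1 D19843 (iv D19843) F60027
theorem F85675 : act 5 n19843 = n13708 := d35_1 D19843 (iv D13708) (iv D9452) (iv F42247) D13656
def n19844 : Q := act 8 n13656
theorem D19844 : act 8 n13656 = n19844 := rfl
theorem F85676 : act 0 n19844 = n13665 := d7_1 D19844 (iv D13665) (iv F60025)
theorem F85677 : act 2 n19844 = n13660 := d22_1 D19844 (iv D13660) (iv F60026)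
theorem F85678 : act 5 n19844 = n13657 := d37_1 D19844 (iv D13657) D13656
def n19845 : Q := act 3 n13657
theorem D19845 : act 3 n13657 = n19845 := rfl
theorem F85679 : act 0 n19845 = n13666 := d2_1 D19845 (iv D13666) (iv F60028)
theorem F85680 : act 6 n19845 = n13710 := d26_2 (iv F60031) D19845 (iv D13710)
theorem F85681 : act 8 n19845 = n19845 := d28_2 D13657 D19845 (iv D19845) (iv D13657) F42245
def n19846 : Q := act 9 n13657
theorem D19846 : act 9 n13657 = n19846 := rfl
theorem F85682 : act 0 n19846 = n13667 := d8_1 D19846 (iv D13667) (iv F60028)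
theorem F85683 : act 2 n19846 = n13661 := d23_1 D19846 (iv D13661) (iv F60029)
theorem F85684 : act 4 n19846 = n14401 := d34_1 D19846 (iv D14401) (iv F60030)
theorem F85685 : act 6 n19846 = n13711 := d41_1 D19846 (iv D13711) (iv F60031)
def n19847 : Q := act 6 n13658
theorem D19847 : act 6 n13658 = n19847 := rfl
theorem F85686 : act 0 n19847 = n13668 := d5_1 D19847 (iv D13668) (iv F60032)
theorem F85687 : act 1 n19847 = n19847 := d13_1 D19847 (iv D19847) F60033
theorem F85688 : act 4 n19847 = n13659 := d31_1 D19847 (iv D13659) D13658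
def n19848 : Q := act 8 n13658
theorem D19848 : act 8 n13658 = n19848 := rfl
theorem F85689 : act 0 n19848 = n13669 := d7_1 D19848 (iv D13669) (iv F60032)
theorem F85690 : act 1 n19848 = n19848 := d15_1 D19848 (iv D19848) F60033
theorem F85691 : act 4 n19848 = n13660 := d33_1 D19848 (iv D13660) D13658
theorem F85692 : act 5 n19848 = n14403 := d37_1 D19848 (iv D14403) (iv F60034)
def n19849 : Q := act 7 n13659
theorem D19849 : act 7 n13659 = n19849 := rfl
theorem F85693 : act 0 n19849 = n13670 := d6_1 D19849 (iv D13670) (iv F60035)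
theorem F85694 : act 1 n19849 = n19849 := d14_1 D19849 (iv D19849) F60036
theorem F85695 : act 3 n19849 = n13662 := d27_1 D19849 (iv D13662) (iv F60037)
theorem F85696 : act 5 n19849 = n13714 := d36_1 D19849 (iv D13714) (iv F60038)
def n19850 : Q := act 8 n13659
theorem D19850 : act 8 n13659 = n19850 := rfl
theorem F85697 : act 0 n19850 = n13671 := d7_1 D19850 (iv D13671) (iv F60035)
theorem F85698 : act 1 n19850 = n19850 := d15_1 D19850 (iv D19850) F60036
theorem F85699 : act 5 n19850 = n13715 := d37_1 D19850 (iv D13715) (iv F60038)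
theorem F85700 : act 6 n19850 = n13660 := d40_1 D19850 (iv D13660) D13659
def n19851 : Q := act 9 n13660
theorem D19851 : act 9 n13660 = n19851 := rfl
theorem F85701 : act 0 n19851 = n13672 := d8_1 D19851 (iv D13672) (iv F60039)
theorem F85702 : act 1 n19851 = n19851 := d16_1 D19851 (iv D19851) F60040
theorem F85703 : act 5 n19851 = n13661 := d38_1 D19851 (iv D13661) (iv F60041)
def n19852 : Q := act 3 n13663
theorem D19852 : act 3 n13663 = n19852 := rfl
theorem F85704 : act 1 n19852 = n13846 := d10_1 D19852 (iv D13846) (iv F60050)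
theorem F85705 : act 4 n19852 = n19852 := d24_2 D13663 D19852 (iv D19852) (iv D13663) F42261
theorem F85706 : act 5 n19852 = n14407 := d25_2 (iv F60052) D19852 (iv D14407)
def n19853 : Q := act 6 n13663
theorem D19853 : act 6 n13663 = n19853 := rfl
theorem F85707 : act 1 n19853 = n13847 := d13_1 D19853 (iv D13847) (iv F60050)
theorem F85708 : act 2 n19853 = n13668 := d20_1 D19853 (iv D13668) (iv F60051)
theorem F85709 : act 4 n19853 = n13664 := d31_1 D19853 (iv D13664) D13663
def n19854 : Q := act 8 n13663
theorem D19854 : act 8 n13663 = n19854 := rfl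
theorem F85710 : act 1 n19854 = n13848 := d15_1 D19854 (iv D13848) (iv F60050)
theorem F85711 : act 2 n19854 = n13669 := d22_1 D19854 (iv D13669) (iv F60051)
theorem F85712 : act 4 n19854 = n13665 := d33_1 D19854 (iv D13665) D13663
theorem F85713 : act 5 n19854 = n14409 := d37_1 D19854 (iv D14409) (iv F60052)
def n19855 : Q := act 7 n13664
theorem D19855 : act 7 n13664 = n19855 := rfl
theorem F85714 : act 1 n19855 = n13849 := d14_1 D19855 (iv D13849) (iv F60053)
theorem F85715 : act 2 n19855 = n13670 := d21_1 D19855 (iv D13670) (iv F60054)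
theorem F85716 : act 3 n19855 = n19855 := d27_1 D19855 (iv D19855) F60055
theorem F85717 : act 5 n19855 = n13720 := d36_1 D19855 (iv D13720) (iv F60056)
def n19856 : Q := act 8 n13664
theorem D19856 : act 8 n13664 = n19856 := rfl
theorem F85718 : act 1 n19856 = n13850 := d15_1 D19856 (iv D13850) (iv F60053)
theorem F85719 : act 2 n19856 = n13671 := d22_1 D19856 (iv D13671) (iv F60054)
theorem F85720 : act 5 n19856 = n13721 := d37_1 D19856 (iv D13721) (iv F60056)
theorem F85721 : act 6 n19856 = n13665 := d40_1 D19856 (iv D13665) D13664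
def n19857 : Q := act 3 n13665
theorem D19857 : act 3 n13665 = n19857 := rfl
theorem F85722 : act 1 n19857 = n13851 := d10_1 D19857 (iv D13851) (iv F60057)
theorem F85723 : act 5 n19857 = n13666 := d25_2 (iv F60059) D19857 (iv D13666)
theorem F85724 : act 8 n19857 = n19857 := d28_2 D13665 D19857 (iv D19857) (iv D13665) F42261
def n19858 : Q := act 9 n13665
theorem D19858 : act 9 n13665 = n19858 := rfl
theorem F85725 : act 1 n19858 = n13852 := d16_1 D19858 (iv D13852) (iv F60057)
theorem F85726 : act 2 n19858 = n13672 := d23_1 D19858 (iv D13672) (iv F60058)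
theorem F85727 : act 5 n19858 = n13667 := d38_1 D19858 (iv D13667) (iv F60059)
def n19859 : Q := act 4 n13666
theorem D19859 : act 4 n13666 = n19859 := rfl
theorem F85728 : act 1 n19859 = n13853 := d11_1 D19859 (iv D13853) (iv F60060)
theorem F85729 : act 3 n19859 = n14414 := d24_1 D19859 (iv D14414) (iv D9923) (iv F42264) D13666
theorem F85730 : act 6 n19859 = n13724 := d31_2 (iv F60061) D19859 (iv D13724)
theorem F85731 : act 8 n19859 = n19859 := d33_2 F60062 D19859 (iv D19859)
def n19860 : Q := act 9 n13666
theorem D19860 : act 9 n13666 = n19860 := rfl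
theorem F85732 : act 1 n19860 = n13854 := d16_1 D19860 (iv D13854) (iv F60060)
theorem F85733 : act 3 n19860 = n13667 := d29_1 D19860 (iv D13667) D13666
theorem F85734 : act 6 n19860 = n13725 := d41_1 D19860 (iv D13725) (iv F60061)
def n19861 : Q := act 5 n13668
theorem D19861 : act 5 n13668 = n19861 := rfl
theorem F85735 : act 1 n19861 = n13673 := d12_1 D19861 (iv D13673) (iv F60067)
theorem F85736 : act 4 n19861 = n13726 := d30_1 D19861 (iv D13726) F42429 (iv F42270) (iv F60068)
theorem F85737 : act 6 n19861 = n14416 := d35_2 D13668 D19861 (iv D14416) (iv D9925) (iv F42267)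
def n19862 : Q := act 7 n13668
theorem D19862 : act 7 n13668 = n19862 := rfl
theorem F85738 : act 1 n19862 = n13674 := d14_1 D19862 (iv D13674) (iv F60067)
theorem F85739 : act 4 n19862 = n13670 := d32_1 D19862 (iv D13670) (iv F60068)
def n19863 : Q := act 8 n13668
theorem D19863 : act 8 n13668 = n19863 := rfl
theorem F85740 : act 1 n19863 = n13675 := d15_1 D19863 (iv D13675) (iv F60067)
theorem F85741 : act 4 n19863 = n13671 := d33_1 D19863 (iv D13671) (iv F60068)
theorem F85742 : act 6 n19863 = n13669 := d40_1 D19863 (iv D13669) D13668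
def n19864 : Q := act 3 n13669
theorem D19864 : act 3 n13669 = n19864 := rfl
theorem F85743 : act 1 n19864 = n13676 := d10_1 D19864 (iv D13676) (iv F60069)
theorem F85744 : act 5 n19864 = n14419 := d25_2 (iv F60071) D19864 (iv D14419)
def n19865 : Q := act 9 n13669
theorem D19865 : act 9 n13669 = n19865 := rfl
theorem F85745 : act 1 n19865 = n13677 := d16_1 D19865 (iv D13677) (iv F60069)
theorem F85746 : act 4 n19865 = n13672 := d34_1 D19865 (iv D13672) (iv F60070)
theorem F85747 : act 5 n19865 = n14420 := d38_1 D19865 (iv D14420) (iv F60071)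
def n19866 : Q := act 8 n13670
theorem D19866 : act 8 n13670 = n19866 := rfl
theorem F85748 : act 1 n19866 = n13678 := d15_1 D19866 (iv D13678) (iv F60072)
theorem F85749 : act 5 n19866 = n13731 := d37_1 D19866 (iv D13731) (iv F60074)
theorem F85750 : act 7 n19866 = n13671 := d42_1 D19866 (iv D13671) D13670
def n19867 : Q := act 9 n13671
theorem D19867 : act 9 n13671 = n19867 := rfl
theorem F85751 : act 1 n19867 = n13679 := d16_1 D19867 (iv D13679) (iv F60075)
theorem F85752 : act 5 n19867 = n13732 := d38_1 D19867 (iv D13732) (iv F60076)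
theorem F85753 : act 6 n19867 = n13672 := d41_1 D19867 (iv D13672) (iv F60077)
def n19868 : Q := act 7 n13673
theorem D19868 : act 7 n13673 = n19868 := rfl
theorem F85754 : act 0 n19868 = n19868 := d6_1 D19868 (iv D19868) F60080
theorem F85755 : act 2 n19868 = n13862 := d21_1 D19868 (iv D13862) (iv F60081)
theorem F85756 : act 4 n19868 = n13733 := d32_1 D19868 (iv D13733) (iv F60082)
theorem F85757 : act 5 n19868 = n13674 := d36_1 D19868 (iv D13674) D13673
def n19869 : Q := act 8 n13673
theorem D19869 : act 8 n13673 = n19869 := rfl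
theorem F85758 : act 0 n19869 = n19869 := d7_1 D19869 (iv D19869) F60080
theorem F85759 : act 2 n19869 = n13863 := d22_1 D19869 (iv D13863) (iv F60081)
theorem F85760 : act 4 n19869 = n13734 := d33_1 D19869 (iv D13734) (iv F60082)
theorem F85761 : act 5 n19869 = n13675 := d37_1 D19869 (iv D13675) D13673
theorem F85762 : act 6 n19869 = n14424 := d40_1 D19869 (iv D14424) (iv F60083)
def n19870 : Q := act 8 n13674
theorem D19870 : act 8 n13674 = n19870 := rfl
theorem F85763 : act 0 n19870 = n19870 := d7_1 D19870 (iv D19870) F60084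
theorem F85764 : act 2 n19870 = n13864 := d22_1 D19870 (iv D13864) (iv F60085)
theorem F85765 : act 4 n19870 = n13678 := d33_1 D19870 (iv D13678) (iv F60086)
theorem F85766 : act 7 n19870 = n13675 := d42_1 D19870 (iv D13675) D13674
def n19871 : Q := act 3 n13675
theorem D19871 : act 3 n13675 = n19871 := rfl
theorem F85767 : act 0 n19871 = n19871 := d2_1 D19871 (iv D19871) F60087
theorem F85768 : act 6 n19871 = n13676 := d26_2 (iv F60090) D19871 (iv D13676)
def n19872 : Q := act 9 n13675
theorem D19872 : act 9 n13675 = n19872 := rfl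
theorem F85769 : act 0 n19872 = n19872 := d8_1 D19872 (iv D19872) F60087
theorem F85770 : act 2 n19872 = n13866 := d23_1 D19872 (iv D13866) (iv F60088)
theorem F85771 : act 4 n19872 = n13679 := d34_1 D19872 (iv D13679) (iv F60089)
theorem F85772 : act 6 n19872 = n13677 := d41_1 D19872 (iv D13677) (iv F60090)
def n19873 : Q := act 2 n13676
theorem D19873 : act 2 n13676 = n19873 := rfl
theorem F85773 : act 0 n19873 = n19873 := d1_1 D19873 (iv D19873) F60091
theorem F85774 : act 3 n19873 = n13867 := d17_2 D13676 D19873 (iv D13867) (iv D9558) (iv F42283)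
theorem F85775 : act 5 n19873 = n14428 := d19_2 (iv F60092) D19873 (iv D14428)
def n19874 : Q := act 9 n13676
theorem D19874 : act 9 n13676 = n19874 := rfl
theorem F85776 : act 0 n19874 = n19874 := d8_1 D19874 (iv D19874) F60091
theorem F85777 : act 3 n19874 = n13677 := d29_1 D19874 (iv D13677) D13676
theorem F85778 : act 5 n19874 = n14429 := d38_1 D19874 (iv D14429) (iv F60092)
def n19875 : Q := act 9 n13678
theorem D19875 : act 9 n13678 = n19875 := rfl
theorem F85779 : act 0 n19875 = n19875 := d8_1 D19875 (iv D19875) F60097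
theorem F85780 : act 2 n19875 = n13869 := d23_1 D19875 (iv D13869) (iv F60098)
theorem F85781 : act 5 n19875 = n13740 := d38_1 D19875 (iv D13740) (iv F60099)
theorem F85782 : act 7 n19875 = n13679 := d43_1 D19875 (iv D13679) (iv F60100)
def n19876 : Q := act 5 n13680
theorem D19876 : act 5 n13680 = n19876 := rfl
theorem F85783 : act 0 n19876 = n13895 := d4_1 D19876 (iv D13895) (iv F60105)
theorem F85788 : act 9 n19876 = n13705 := d38_2 (iv F60110) D19876 (iv D13705)
def n19877 : Q := act 8 n13680
theorem D19877 : act 8 n13680 = n19877 := rfl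
theorem F85789 : act 0 n19877 = n13896 := d7_1 D19877 (iv D13896) (iv F60105)
theorem F85792 : act 4 n19877 = n14457 := d33_1 D19877 (iv D14457) (iv F60108)
def n19878 : Q := act 4 n13681
theorem D19878 : act 4 n13681 = n19878 := rfl
theorem F85794 : act 0 n19878 = n13688 := d3_1 D19878 (iv D13688) (iv F60111)
theorem F85796 : act 5 n19878 = n14458 := d30_2 D13681 D19878 (iv D14458) (iv D9954) (iv F42299)
theorem F85798 : act 9 n19878 = n13707 := d34_2 (iv F60115) D19878 (iv D13707)
def n19879 : Q := act 6 n13681
theorem D19879 : act 6 n13681 = n19879 := rfl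
theorem F85799 : act 0 n19879 = n13689 := d5_1 D19879 (iv D13689) (iv F60111)
theorem F85802 : act 9 n19879 = n13708 := d41_2 (iv F60115) D19879 (iv D13708)
def n19880 : Q := act 8 n13681
theorem D19880 : act 8 n13681 = n19880 := rfl
theorem F85803 : act 0 n19880 = n13690 := d7_1 D19880 (iv D13690) (iv F60111)
theorem F85805 : act 5 n19880 = n13682 := d37_1 D19880 (iv D13682) D13681
def n19881 : Q := act 3 n13682
theorem D19881 : act 3 n13682 = n19881 := rfl
theorem F85807 : act 0 n19881 = n13691 := d2_1 D19881 (iv D13691) (iv F60116)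
def n19882 : Q := act 9 n13682
theorem D19882 : act 9 n13682 = n19882 := rfl
theorem F85811 : act 0 n19882 = n13692 := d8_1 D19882 (iv D13692) (iv F60116)
theorem F85815 : act 8 n19882 = n13711 := d44_1 D19882 (iv D13711) (iv D9453) (iv F42301) D13682
def n19883 : Q := act 6 n13683
theorem D19883 : act 6 n13683 = n19883 := rfl
theorem F85816 : act 0 n19883 = n13693 := d5_1 D19883 (iv D13693) (iv F60120)
theorem F85820 : act 9 n19883 = n13712 := d41_2 (iv F60125) D19883 (iv D13712)
def n19884 : Q := act 8 n13683
theorem D19884 : act 8 n13683 = n19884 := rfl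
theorem F85821 : act 0 n19884 = n13694 := d7_1 D19884 (iv D13694) (iv F60120)
theorem F85824 : act 5 n19884 = n14464 := d37_1 D19884 (iv D14464) (iv F60123)
def n19885 : Q := act 7 n13684
theorem D19885 : act 7 n13684 = n19885 := rfl
theorem F85826 : act 0 n19885 = n13695 := d6_1 D19885 (iv D13695) (iv F60126)
theorem F85830 : act 9 n19885 = n13714 := d43_2 (iv F60129) D19885 (iv D13714)
def n19886 : Q := act 8 n13684
theorem D19886 : act 8 n13684 = n19886 := rfl
theorem F85831 : act 0 n19886 = n13696 := d7_1 D19886 (iv D13696) (iv F60126)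
theorem F85834 : act 6 n19886 = n13685 := d40_1 D19886 (iv D13685) D13684
def n19887 : Q := act 9 n13685
theorem D19887 : act 9 n13685 = n19887 := rfl
theorem F85835 : act 0 n19887 = n13697 := d8_1 D19887 (iv D13697) (iv F60130)
theorem F85840 : act 8 n19887 = n13716 := d44_1 D19887 (iv D13716) (iv D9456) (iv F42306) D13685
def n19888 : Q := act 3 n13688
theorem D19888 : act 3 n13688 = n19888 := rfl
theorem F85841 : act 1 n19888 = n13907 := d10_1 D19888 (iv D13907) (iv F60148)
theorem F85842 : act 2 n19888 = n19888 := d17_1 D19888 (iv D19888) F60149 F42328 (iv F60149)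
theorem F85843 : act 4 n19888 = n19888 := d24_2 D13688 D19888 (iv D19888) (iv D13688) F42320
theorem F85844 : act 5 n19888 = n14468 := d25_2 (iv F60150) D19888 (iv D14468)
theorem F85845 : act 7 n19888 = n19888 := d27_2 F60151 D19888 (iv D19888)
theorem F85846 : act 9 n19888 = n13717 := d29_2 (iv F60152) D19888 (iv D13717)
def n19889 : Q := act 6 n13688
theorem D19889 : act 6 n13688 = n19889 := rfl
theorem F85847 : act 1 n19889 = n13908 := d13_1 D19889 (iv D13908) (iv F60148)
theorem F85848 : act 2 n19889 = n13693 := d20_1 D19889 (iv D13693) (iv F60149)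
theorem F85849 : act 4 n19889 = n13689 := d31_1 D19889 (iv D13689) D13688
theorem F85850 : act 9 n19889 = n13718 := d41_2 (iv F60152) D19889 (iv D13718)
def n19890 : Q := act 8 n13688
theorem D19890 : act 8 n13688 = n19890 := rfl
theorem F85851 : act 1 n19890 = n13909 := d15_1 D19890 (iv D13909) (iv F60148)
theorem F85852 : act 2 n19890 = n13694 := d22_1 D19890 (iv D13694) (iv F60149)
theorem F85853 : act 4 n19890 = n13690 := d33_1 D19890 (iv D13690) D13688
theorem F85854 : act 5 n19890 = n14470 := d37_1 D19890 (iv D14470) (iv F60150)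
theorem F85855 : act 7 n19890 = n19890 := d42_1 D19890 (iv D19890) F60151
def n19891 : Q := act 7 n13689
theorem D19891 : act 7 n13689 = n19891 := rfl
theorem F85856 : act 1 n19891 = n13910 := d14_1 D19891 (iv D13910) (iv F60153)
theorem F85857 : act 2 n19891 = n13695 := d21_1 D19891 (iv D13695) (iv F60154)
theorem F85858 : act 3 n19891 = n19891 := d27_1 D19891 (iv D19891) F60155
theorem F85859 : act 6 n19891 = n19891 := d39_1 D19891 (iv D19891) (iv D13689) F42321 D13689
theorem F85860 : act 9 n19891 = n13720 := d43_2 (iv F60156) D19891 (iv D13720)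
def n19892 : Q := act 8 n13689
theorem D19892 : act 8 n13689 = n19892 := rfl
theorem F85861 : act 1 n19892 = n13911 := d15_1 D19892 (iv D13911) (iv F60153)
theorem F85862 : act 2 n19892 = n13696 := d22_1 D19892 (iv D13696) (iv F60154)
theorem F85863 : act 6 n19892 = n13690 := d40_1 D19892 (iv D13690) D13689
def n19893 : Q := act 3 n13690
theorem D19893 : act 3 n13690 = n19893 := rfl
theorem F85864 : act 1 n19893 = n13912 := d10_1 D19893 (iv D13912) (iv F60157)
theorem F85865 : act 2 n19893 = n19893 := d17_1 D19893 (iv D19893) F60158 F42336 (iv F60158)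
theorem F85866 : act 5 n19893 = n13691 := d25_2 (iv F60159) D19893 (iv D13691)
theorem F85867 : act 7 n19893 = n19893 := d27_2 F60160 D19893 (iv D19893)
theorem F85868 : act 8 n19893 = n19893 := d28_2 D13690 D19893 (iv D19893) (iv D13690) F42320
def n19894 : Q := act 9 n13690
theorem D19894 : act 9 n13690 = n19894 := rfl
theorem F85869 : act 1 n19894 = n13913 := d16_1 D19894 (iv D13913) (iv F60157)
theorem F85870 : act 2 n19894 = n13697 := d23_1 D19894 (iv D13697) (iv F60158)
theorem F85871 : act 5 n19894 = n13692 := d38_1 D19894 (iv D13692) (iv F60159)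
theorem F85872 : act 7 n19894 = n19894 := d43_1 D19894 (iv D19894) F60160
theorem F85873 : act 8 n19894 = n13723 := d44_1 D19894 (iv D13723) (iv D9461) (iv F42322) D13690
def n19895 : Q := act 4 n13691
theorem D19895 : act 4 n13691 = n19895 := rfl
theorem F85874 : act 1 n19895 = n13914 := d11_1 D19895 (iv D13914) (iv F60161)
theorem F85876 : act 3 n19895 = n14475 := d24_1 D19895 (iv D14475) (iv D9964) (iv F42325) D13691
def n19896 : Q := act 9 n13691
theorem D19896 : act 9 n13691 = n19896 := rfl
theorem F85879 : act 1 n19896 = n13915 := d16_1 D19896 (iv D13915) (iv F60161)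
theorem F85880 : act 2 n19896 = n19896 := d23_1 D19896 (iv D19896) F60162
theorem F85881 : act 3 n19896 = n13692 := d29_1 D19896 (iv D13692) D13691
theorem F85882 : act 7 n19896 = n19896 := d43_1 D19896 (iv D19896) F60163
def n19897 : Q := act 5 n13693
theorem D19897 : act 5 n13693 = n19897 := rfl
theorem F85883 : act 1 n19897 = n13698 := d12_1 D19897 (iv D13698) (iv F60170)
theorem F85884 : act 3 n19897 = n19897 := d25_1 D19897 (iv D19897) F60171
theorem F85885 : act 6 n19897 = n14477 := d35_2 D13693 D19897 (iv D14477) (iv D9966) (iv F42329)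
theorem F85886 : act 9 n19897 = n13726 := d38_2 (iv F60173) D19897 (iv D13726)
def n19898 : Q := act 7 n13693
theorem D19898 : act 7 n13693 = n19898 := rfl
theorem F85887 : act 1 n19898 = n13699 := d14_1 D19898 (iv D13699) (iv F60170)
theorem F85888 : act 3 n19898 = n19898 := d27_1 D19898 (iv D19898) F60171
theorem F85889 : act 4 n19898 = n13695 := d32_1 D19898 (iv D13695) (iv F60172)
theorem F85890 : act 6 n19898 = n19898 := d39_1 D19898 (iv D19898) (iv D13693) F42330 D13693
theorem F85891 : act 9 n19898 = n13727 := d43_2 (iv F60173) D19898 (iv D13727)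
def n19899 : Q := act 8 n13693
theorem D19899 : act 8 n13693 = n19899 := rfl
theorem F85892 : act 1 n19899 = n13700 := d15_1 D19899 (iv D13700) (iv F60170)
theorem F85893 : act 4 n19899 = n13696 := d33_1 D19899 (iv D13696) (iv F60172)
theorem F85894 : act 6 n19899 = n13694 := d40_1 D19899 (iv D13694) D13693
def n19900 : Q := act 3 n13694
theorem D19900 : act 3 n13694 = n19900 := rfl
theorem F85895 : act 1 n19900 = n13701 := d10_1 D19900 (iv D13701) (iv F60174)
theorem F85896 : act 4 n19900 = n19900 := d24_2 (iv F60175) D19900 (iv D19900) F60175 F42336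
theorem F85897 : act 5 n19900 = n14480 := d25_2 (iv F60176) D19900 (iv D14480)
theorem F85898 : act 7 n19900 = n19900 := d27_2 F60177 D19900 (iv D19900)
theorem F85899 : act 8 n19900 = n19900 := d28_2 D13694 D19900 (iv D19900) (iv D13694) F42328
def n19901 : Q := act 9 n13694
theorem D19901 : act 9 n13694 = n19901 := rfl
theorem F85900 : act 1 n19901 = n13702 := d16_1 D19901 (iv D13702) (iv F60174)
theorem F85901 : act 4 n19901 = n13697 := d34_1 D19901 (iv D13697) (iv F60175)
theorem F85902 : act 5 n19901 = n14481 := d38_1 D19901 (iv D14481) (iv F60176)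
theorem F85903 : act 7 n19901 = n19901 := d43_1 D19901 (iv D19901) F60177
theorem F85904 : act 8 n19901 = n13730 := d44_1 D19901 (iv D13730) (iv D9465) (iv F42331) D13694
def n19902 : Q := act 8 n13695
theorem D19902 : act 8 n13695 = n19902 := rfl
theorem F85905 : act 1 n19902 = n13703 := d15_1 D19902 (iv D13703) (iv F60178)
theorem F85906 : act 3 n19902 = n19902 := d28_1 D19902 (iv D19902) F60179 F42348 (iv F60179)
theorem F85907 : act 6 n19902 = n19902 := d40_1 D19902 (iv D19902) F60180
theorem F85908 : act 7 n19902 = n13696 := d42_1 D19902 (iv D13696) D13695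
def n19903 : Q := act 9 n13696
theorem D19903 : act 9 n13696 = n19903 := rfl
theorem F85909 : act 1 n19903 = n13704 := d16_1 D19903 (iv D13704) (iv F60182)
theorem F85910 : act 3 n19903 = n19903 := d29_1 D19903 (iv D19903) F60183
theorem F85911 : act 6 n19903 = n13697 := d41_1 D19903 (iv D13697) (iv F60184)
theorem F85912 : act 8 n19903 = n13732 := d44_1 D19903 (iv D13732) (iv D9467) (iv F42334) D13696
def n19904 : Q := act 7 n13698
theorem D19904 : act 7 n13698 = n19904 := rfl
theorem F85913 : act 0 n19904 = n19904 := d6_1 D19904 (iv D19904) F60190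
theorem F85914 : act 2 n19904 = n13923 := d21_1 D19904 (iv D13923) (iv F60191)
theorem F85915 : act 3 n19904 = n19904 := d27_1 D19904 (iv D19904) F60192
theorem F85916 : act 5 n19904 = n13699 := d36_1 D19904 (iv D13699) D13698
theorem F85917 : act 9 n19904 = n13733 := d43_2 (iv F60194) D19904 (iv D13733)
def n19905 : Q := act 8 n13698
theorem D19905 : act 8 n13698 = n19905 := rfl
theorem F85918 : act 0 n19905 = n19905 := d7_1 D19905 (iv D19905) F60190
theorem F85919 : act 2 n19905 = n13924 := d22_1 D19905 (iv D13924) (iv F60191)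
theorem F85920 : act 5 n19905 = n13700 := d37_1 D19905 (iv D13700) D13698
theorem F85921 : act 6 n19905 = n14485 := d40_1 D19905 (iv D14485) (iv F60193)
def n19906 : Q := act 8 n13699
theorem D19906 : act 8 n13699 = n19906 := rfl
theorem F85922 : act 0 n19906 = n19906 := d7_1 D19906 (iv D19906) F60195
theorem F85923 : act 2 n19906 = n13925 := d22_1 D19906 (iv D13925) (iv F60196)
theorem F85924 : act 4 n19906 = n13703 := d33_1 D19906 (iv D13703) (iv F60198)
theorem F85925 : act 6 n19906 = n19906 := d40_1 D19906 (iv D19906) F60199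
theorem F85926 : act 7 n19906 = n13700 := d42_1 D19906 (iv D13700) D13699
def n19907 : Q := act 3 n13700
theorem D19907 : act 3 n13700 = n19907 := rfl
theorem F85927 : act 0 n19907 = n19907 := d2_1 D19907 (iv D19907) F60201
theorem F85928 : act 4 n19907 = n19907 := d24_2 (iv F60203) D19907 (iv D19907) F60203 F42367
theorem F85929 : act 6 n19907 = n13701 := d26_2 (iv F60204) D19907 (iv D13701)
theorem F85930 : act 8 n19907 = n19907 := d28_2 D13700 D19907 (iv D19907) (iv D13700) F42352
def n19908 : Q := act 9 n13700
theorem D19908 : act 9 n13700 = n19908 := rfl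
theorem F85931 : act 0 n19908 = n19908 := d8_1 D19908 (iv D19908) F60201
theorem F85932 : act 2 n19908 = n13927 := d23_1 D19908 (iv D13927) (iv F60202)
theorem F85933 : act 4 n19908 = n13704 := d34_1 D19908 (iv D13704) (iv F60203)
theorem F85934 : act 6 n19908 = n13702 := d41_1 D19908 (iv D13702) (iv F60204)
theorem F85935 : act 8 n19908 = n13737 := d44_1 D19908 (iv D13737) (iv D9471) (iv F42354) D13700
def n19909 : Q := act 2 n13701
theorem D19909 : act 2 n13701 = n19909 := rfl
theorem F85936 : act 0 n19909 = n19909 := d1_1 D19909 (iv D19909) F60205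
theorem F85937 : act 3 n19909 = n13928 := d17_2 D13701 D19909 (iv D13928) (iv D9599) (iv F42356)
theorem F85938 : act 4 n19909 = n19909 := d18_2 F60206 D19909 (iv D19909)
theorem F85939 : act 5 n19909 = n14489 := d19_2 (iv F60207) D19909 (iv D14489)
theorem F85940 : act 7 n19909 = n19909 := d21_2 F60208 D19909 (iv D19909)
theorem F85941 : act 8 n19909 = n19909 := d22_2 F60209 D19909 (iv D19909)
def n19910 : Q := act 9 n13701
theorem D19910 : act 9 n13701 = n19910 := rfl
theorem F85942 : act 0 n19910 = n19910 := d8_1 D19910 (iv D19910) F60205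
theorem F85943 : act 3 n19910 = n13702 := d29_1 D19910 (iv D13702) D13701
theorem F85944 : act 4 n19910 = n19910 := d34_1 D19910 (iv D19910) F60206
theorem F85945 : act 5 n19910 = n14490 := d38_1 D19910 (iv D14490) (iv F60207)
theorem F85946 : act 7 n19910 = n19910 := d43_1 D19910 (iv D19910) F60208
def n19911 : Q := act 9 n13703
theorem D19911 : act 9 n13703 = n19911 := rfl
theorem F85947 : act 0 n19911 = n19911 := d8_1 D19911 (iv D19911) F60216
theorem F85948 : act 2 n19911 = n13930 := d23_1 D19911 (iv D13930) (iv F60217)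
theorem F85949 : act 3 n19911 = n19911 := d29_1 D19911 (iv D19911) F60218
theorem F85950 : act 6 n19911 = n19911 := d41_1 D19911 (iv D19911) F60219
theorem F85951 : act 7 n19911 = n13704 := d43_1 D19911 (iv D13704) (iv F60220)
theorem F85952 : act 8 n19911 = n13740 := d44_1 D19911 (iv D13740) (iv D9474) (iv F42364) D13703
def n19912 : Q := act 4 n13705
theorem D19912 : act 4 n13705 = n19912 := rfl
theorem F85953 : act 0 n19912 = n13931 := d3_1 D19912 (iv D13931) (iv F60226)
theorem F85954 : act 1 n19912 = n13707 := d11_1 D19912 (iv D13707) (iv F60227)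
theorem F85955 : act 2 n19912 = n19912 := d18_1 D19912 (iv D19912) F60228
theorem F85956 : act 5 n19912 = n14492 := d30_2 D13705 D19912 (iv D14492) (iv D9978) (iv F42378)
theorem F85957 : act 7 n19912 = n19912 := d32_2 F60230 D19912 (iv D19912)
def n19913 : Q := act 6 n13705
theorem D19913 : act 6 n13705 = n19913 := rfl
theorem F85958 : act 0 n19913 = n13932 := d5_1 D19913 (iv D13932) (iv F60226)
theorem F85959 : act 1 n19913 = n13708 := d13_1 D19913 (iv D13708) (iv F60227)
theorem F85960 : act 2 n19913 = n19913 := d20_1 D19913 (iv D19913) F60228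
theorem F85961 : act 3 n19913 = n19913 := d26_1 D19913 (iv D19913) F60229
def n19914 : Q := act 8 n13705
theorem D19914 : act 8 n13705 = n19914 := rfl
theorem F85962 : act 0 n19914 = n13933 := d7_1 D19914 (iv D13933) (iv F60226)
theorem F85963 : act 1 n19914 = n13709 := d15_1 D19914 (iv D13709) (iv F60227)
theorem F85964 : act 2 n19914 = n19914 := d22_1 D19914 (iv D19914) F60228
theorem F85965 : act 5 n19914 = n13706 := d37_1 D19914 (iv D13706) D13705
theorem F85966 : act 7 n19914 = n19914 := d42_1 D19914 (iv D19914) F60230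
def n19915 : Q := act 3 n13706
theorem D19915 : act 3 n13706 = n19915 := rfl
theorem F85967 : act 0 n19915 = n13934 := d2_1 D19915 (iv D13934) (iv F60231)
theorem F85968 : act 1 n19915 = n13710 := d10_1 D19915 (iv D13710) (iv F60232)
theorem F85969 : act 7 n19915 = n19915 := d27_2 F60235 D19915 (iv D19915)
theorem F85970 : act 8 n19915 = n19915 := d28_2 D13706 D19915 (iv D19915) (iv D13706) F42377
def n19916 : Q := act 9 n13706
theorem D19916 : act 9 n13706 = n19916 := rfl
theorem F85971 : act 0 n19916 = n13935 := d8_1 D19916 (iv D13935) (iv F60231)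
theorem F85972 : act 1 n19916 = n13711 := d16_1 D19916 (iv D13711) (iv F60232)
theorem F85973 : act 2 n19916 = n19916 := d23_1 D19916 (iv D19916) F60233
theorem F85974 : act 4 n19916 = n14496 := d34_1 D19916 (iv D14496) (iv F60234)
theorem F85975 : act 7 n19916 = n19916 := d43_1 D19916 (iv D19916) F60235
def n19917 : Q := act 3 n13707
theorem D19917 : act 3 n13707 = n19917 := rfl
theorem F85976 : act 0 n19917 = n13717 := d2_1 D19917 (iv D13717) (iv F60236)
theorem F85977 : act 2 n19917 = n19917 := d17_1 D19917 (iv D19917) F60237 F42390 (iv F60237)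
theorem F85978 : act 4 n19917 = n19917 := d24_2 D13707 D19917 (iv D19917) (iv D13707) F42382
theorem F85979 : act 5 n19917 = n14497 := d25_2 (iv F60238) D19917 (iv D14497)
theorem F85980 : act 7 n19917 = n19917 := d27_2 F60239 D19917 (iv D19917)
def n19918 : Q := act 6 n13707
theorem D19918 : act 6 n13707 = n19918 := rfl
theorem F85981 : act 0 n19918 = n13718 := d5_1 D19918 (iv D13718) (iv F60236)
theorem F85982 : act 2 n19918 = n13712 := d20_1 D19918 (iv D13712) (iv F60237)
theorem F85983 : act 4 n19918 = n13708 := d31_1 D19918 (iv D13708) D13707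
def n19919 : Q := act 8 n13707
theorem D19919 : act 8 n13707 = n19919 := rfl
theorem F85984 : act 0 n19919 = n13719 := d7_1 D19919 (iv D13719) (iv F60236)
theorem F85985 : act 2 n19919 = n13713 := d22_1 D19919 (iv D13713) (iv F60237)
theorem F85986 : act 4 n19919 = n13709 := d33_1 D19919 (iv D13709) D13707
theorem F85987 : act 5 n19919 = n14499 := d37_1 D19919 (iv D14499) (iv F60238)
theorem F85988 : act 7 n19919 = n19919 := d42_1 D19919 (iv D19919) F60239
def n19920 : Q := act 7 n13708
theorem D19920 : act 7 n13708 = n19920 := rfl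
theorem F85989 : act 0 n19920 = n13720 := d6_1 D19920 (iv D13720) (iv F60240)
theorem F85990 : act 2 n19920 = n13714 := d21_1 D19920 (iv D13714) (iv F60241)
theorem F85991 : act 3 n19920 = n19920 := d27_1 D19920 (iv D19920) F60242
theorem F85992 : act 6 n19920 = n19920 := d39_1 D19920 (iv D19920) (iv D13708) F42383 D13708
def n19921 : Q := act 8 n13708
theorem D19921 : act 8 n13708 = n19921 := rfl
theorem F85993 : act 0 n19921 = n13721 := d7_1 D19921 (iv D13721) (iv F60240)
theorem F85994 : act 2 n19921 = n13715 := d22_1 D19921 (iv D13715) (iv F60241)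
theorem F85995 : act 6 n19921 = n13709 := d40_1 D19921 (iv D13709) D13708
def n19922 : Q := act 3 n13709
theorem D19922 : act 3 n13709 = n19922 := rfl
theorem F85996 : act 0 n19922 = n13722 := d2_1 D19922 (iv D13722) (iv F60243)
theorem F85997 : act 5 n19922 = n13710 := d25_2 (iv F60245) D19922 (iv D13710)
theorem F85998 : act 7 n19922 = n19922 := d27_2 F60246 D19922 (iv D19922)
theorem F85999 : act 8 n19922 = n19922 := d28_2 D13709 D19922 (iv D19922) (iv D13709) F42382
def n19923 : Q := act 9 n13709
theorem D19923 : act 9 n13709 = n19923 := rfl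
theorem F86000 : act 0 n19923 = n13723 := d8_1 D19923 (iv D13723) (iv F60243)
theorem F86001 : act 2 n19923 = n13716 := d23_1 D19923 (iv D13716) (iv F60244)
theorem F86002 : act 5 n19923 = n13711 := d38_1 D19923 (iv D13711) (iv F60245)
theorem F86003 : act 7 n19923 = n19923 := d43_1 D19923 (iv D19923) F60246
def n19924 : Q := act 4 n13710
theorem D19924 : act 4 n13710 = n19924 := rfl
theorem F86004 : act 0 n19924 = n13724 := d3_1 D19924 (iv D13724) (iv F60247)
theorem F86006 : act 7 n19924 = n19924 := d32_2 F60248 D19924 (iv D19924)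
theorem F86007 : act 8 n19924 = n19924 := d33_2 F60249 D19924 (iv D19924)
def n19925 : Q := act 9 n13710
theorem D19925 : act 9 n13710 = n19925 := rfl
theorem F86008 : act 0 n19925 = n13725 := d8_1 D19925 (iv D13725) (iv F60247)
theorem F86009 : act 3 n19925 = n13711 := d29_1 D19925 (iv D13711) D13710
theorem F86010 : act 7 n19925 = n19925 := d43_1 D19925 (iv D19925) F60248
def n19926 : Q := act 5 n13712
theorem D19926 : act 5 n13712 = n19926 := rfl
theorem F86011 : act 0 n19926 = n13726 := d4_1 D19926 (iv D13726) (iv F60254)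
theorem F86012 : act 1 n19926 = n19926 := d12_1 D19926 (iv D19926) F60255
theorem F86013 : act 3 n19926 = n19926 := d25_1 D19926 (iv D19926) F60256
theorem F86014 : act 6 n19926 = n14506 := d35_2 D13712 D19926 (iv D14506) (iv D9985) (iv F42391)
def n19927 : Q := act 7 n13712
theorem D19927 : act 7 n13712 = n19927 := rfl
theorem F86015 : act 0 n19927 = n13727 := d6_1 D19927 (iv D13727) (iv F60254)
theorem F86016 : act 1 n19927 = n19927 := d14_1 D19927 (iv D19927) F60255
theorem F86017 : act 3 n19927 = n19927 := d27_1 D19927 (iv D19927) F60256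
theorem F86018 : act 4 n19927 = n13714 := d32_1 D19927 (iv D13714) (iv F60257)
theorem F86019 : act 6 n19927 = n19927 := d39_1 D19927 (iv D19927) (iv D13712) F42392 D13712
def n19928 : Q := act 8 n13712
theorem D19928 : act 8 n13712 = n19928 := rfl
theorem F86020 : act 0 n19928 = n13728 := d7_1 D19928 (iv D13728) (iv F60254)
theorem F86021 : act 1 n19928 = n19928 := d15_1 D19928 (iv D19928) F60255
theorem F86022 : act 4 n19928 = n13715 := d33_1 D19928 (iv D13715) (iv F60257)
theorem F86023 : act 6 n19928 = n13713 := d40_1 D19928 (iv D13713) D13712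
def n19929 : Q := act 3 n13713
theorem D19929 : act 3 n13713 = n19929 := rfl
theorem F86024 : act 0 n19929 = n13729 := d2_1 D19929 (iv D13729) (iv F60258)
theorem F86025 : act 1 n19929 = n19929 := d10_1 D19929 (iv D19929) F60259
theorem F86026 : act 5 n19929 = n14509 := d25_2 (iv F60261) D19929 (iv D14509)
theorem F86027 : act 7 n19929 = n19929 := d27_2 F60262 D19929 (iv D19929)
theorem F86028 : act 8 n19929 = n19929 := d28_2 D13713 D19929 (iv D19929) (iv D13713) F42390
def n19930 : Q := act 9 n13713
theorem D19930 : act 9 n13713 = n19930 := rfl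
theorem F86029 : act 0 n19930 = n13730 := d8_1 D19930 (iv D13730) (iv F60258)
theorem F86030 : act 1 n19930 = n19930 := d16_1 D19930 (iv D19930) F60259
theorem F86031 : act 4 n19930 = n13716 := d34_1 D19930 (iv D13716) (iv F60260)
theorem F86032 : act 5 n19930 = n14510 := d38_1 D19930 (iv D14510) (iv F60261)
theorem F86033 : act 7 n19930 = n19930 := d43_1 D19930 (iv D19930) F60262
def n19931 : Q := act 8 n13714
theorem D19931 : act 8 n13714 = n19931 := rfl
theorem F86034 : act 0 n19931 = n13731 := d7_1 D19931 (iv D13731) (iv F60263)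
theorem F86035 : act 1 n19931 = n19931 := d15_1 D19931 (iv D19931) F60264
theorem F86036 : act 6 n19931 = n19931 := d40_1 D19931 (iv D19931) F60266
theorem F86037 : act 7 n19931 = n13715 := d42_1 D19931 (iv D13715) D13714
def n19932 : Q := act 9 n13715
theorem D19932 : act 9 n13715 = n19932 := rfl
theorem F86038 : act 0 n19932 = n13732 := d8_1 D19932 (iv D13732) (iv F60267)
theorem F86039 : act 1 n19932 = n19932 := d16_1 D19932 (iv D19932) F60268
theorem F86040 : act 6 n19932 = n13716 := d41_1 D19932 (iv D13716) (iv F60269)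
def n19933 : Q := act 6 n13717
theorem D19933 : act 6 n13717 = n19933 := rfl
theorem F86041 : act 1 n19933 = n13952 := d13_1 D19933 (iv D13952) (iv F60274)
theorem F86042 : act 2 n19933 = n19933 := d20_1 D19933 (iv D19933) F60275
theorem F86043 : act 3 n19933 = n13718 := d26_1 D19933 (iv D13718) D13717
theorem F86044 : act 4 n19933 = n19933 := d31_1 D19933 (iv D19933) F60276
def n19934 : Q := act 8 n13717
theorem D19934 : act 8 n13717 = n19934 := rfl
theorem F86045 : act 1 n19934 = n13953 := d15_1 D19934 (iv D13953) (iv F60274)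
theorem F86046 : act 2 n19934 = n19934 := d22_1 D19934 (iv D19934) F60275
theorem F86047 : act 4 n19934 = n19934 := d33_1 D19934 (iv D19934) F60276
theorem F86048 : act 5 n19934 = n14514 := d37_1 D19934 (iv D14514) (iv F60277)
theorem F86049 : act 7 n19934 = n19934 := d42_1 D19934 (iv D19934) F60278
def n19935 : Q := act 5 n13718
theorem D19935 : act 5 n13718 = n19935 := rfl
theorem F86050 : act 1 n19935 = n13954 := d12_1 D19935 (iv D13954) (iv F60279)
theorem F86051 : act 2 n19935 = n13726 := d19_1 D19935 (iv D13726) (iv F60280)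
theorem F86052 : act 6 n19935 = n14515 := d35_2 D13718 D19935 (iv D14515) (iv D9991) (iv F42411)
def n19936 : Q := act 7 n13718
theorem D19936 : act 7 n13718 = n19936 := rfl
theorem F86053 : act 1 n19936 = n13955 := d14_1 D19936 (iv D13955) (iv F60279)
theorem F86054 : act 2 n19936 = n13727 := d21_1 D19936 (iv D13727) (iv F60280)
theorem F86055 : act 4 n19936 = n13720 := d32_1 D19936 (iv D13720) (iv F60281)
theorem F86056 : act 6 n19936 = n19936 := d39_1 D19936 (iv D19936) (iv D13718) F42412 D13718
def n19937 : Q := act 8 n13718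
theorem D19937 : act 8 n13718 = n19937 := rfl
theorem F86057 : act 1 n19937 = n13956 := d15_1 D19937 (iv D13956) (iv F60279)
theorem F86058 : act 2 n19937 = n13728 := d22_1 D19937 (iv D13728) (iv F60280)
theorem F86059 : act 4 n19937 = n13721 := d33_1 D19937 (iv D13721) (iv F60281)
theorem F86060 : act 6 n19937 = n13719 := d40_1 D19937 (iv D13719) D13718
def n19938 : Q := act 3 n13719
theorem D19938 : act 3 n13719 = n19938 := rfl
theorem F86061 : act 1 n19938 = n13957 := d10_1 D19938 (iv D13957) (iv F60282)
theorem F86062 : act 5 n19938 = n14518 := d25_2 (iv F60285) D19938 (iv D14518)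
theorem F86063 : act 7 n19938 = n19938 := d27_2 F60286 D19938 (iv D19938)
def n19939 : Q := act 9 n13719
theorem D19939 : act 9 n13719 = n19939 := rfl
theorem F86064 : act 1 n19939 = n13958 := d16_1 D19939 (iv D13958) (iv F60282)
theorem F86065 : act 2 n19939 = n13730 := d23_1 D19939 (iv D13730) (iv F60283)
theorem F86066 : act 4 n19939 = n13723 := d34_1 D19939 (iv D13723) (iv F60284)
theorem F86067 : act 5 n19939 = n14519 := d38_1 D19939 (iv D14519) (iv F60285)
theorem F86068 : act 7 n19939 = n19939 := d43_1 D19939 (iv D19939) F60286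
def n19940 : Q := act 8 n13720
theorem D19940 : act 8 n13720 = n19940 := rfl
theorem F86069 : act 1 n19940 = n13959 := d15_1 D19940 (iv D13959) (iv F60287)
theorem F86070 : act 2 n19940 = n13731 := d22_1 D19940 (iv D13731) (iv F60288)
theorem F86071 : act 6 n19940 = n19940 := d40_1 D19940 (iv D19940) F60290
theorem F86072 : act 7 n19940 = n13721 := d42_1 D19940 (iv D13721) D13720
def n19941 : Q := act 3 n13721
theorem D19941 : act 3 n13721 = n19941 := rfl
theorem F86073 : act 1 n19941 = n13960 := d10_1 D19941 (iv D13960) (iv F60291)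
theorem F86074 : act 6 n19941 = n13722 := d26_2 (iv F60293) D19941 (iv D13722)
theorem F86075 : act 8 n19941 = n19941 := d28_2 D13721 D19941 (iv D19941) (iv D13721) F42415
def n19942 : Q := act 9 n13721
theorem D19942 : act 9 n13721 = n19942 := rfl
theorem F86076 : act 1 n19942 = n13961 := d16_1 D19942 (iv D13961) (iv F60291)
theorem F86077 : act 2 n19942 = n13732 := d23_1 D19942 (iv D13732) (iv F60292)
theorem F86078 : act 6 n19942 = n13723 := d41_1 D19942 (iv D13723) (iv F60293)
def n19943 : Q := act 4 n13722
theorem D19943 : act 4 n13722 = n19943 := rfl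
theorem F86079 : act 1 n19943 = n13962 := d11_1 D19943 (iv D13962) (iv F60294)
theorem F86080 : act 7 n19943 = n19943 := d32_2 F60296 D19943 (iv D19943)
theorem F86081 : act 8 n19943 = n19943 := d33_2 F60297 D19943 (iv D19943)
def n19944 : Q := act 9 n13722
theorem D19944 : act 9 n13722 = n19944 := rfl
theorem F86082 : act 1 n19944 = n13963 := d16_1 D19944 (iv D13963) (iv F60294)
theorem F86083 : act 3 n19944 = n13723 := d29_1 D19944 (iv D13723) D13722
theorem F86084 : act 5 n19944 = n13725 := d38_1 D19944 (iv D13725) (iv F60295)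
theorem F86085 : act 7 n19944 = n19944 := d43_1 D19944 (iv D19944) F60296
def n19945 : Q := act 5 n13724
theorem D19945 : act 5 n13724 = n19945 := rfl
theorem F86086 : act 1 n19945 = n13964 := d12_1 D19945 (iv D13964) (iv F60302)
theorem F86087 : act 3 n19945 = n14525 := d25_1 D19945 (iv D14525) (iv F60303)
theorem F86088 : act 7 n19945 = n19945 := d36_2 F60304 D19945 (iv D19945)
theorem F86089 : act 8 n19945 = n19945 := d37_2 F60305 D19945 (iv D19945)
def n19946 : Q := act 9 n13724
theorem D19946 : act 9 n13724 = n19946 := rfl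
theorem F86090 : act 1 n19946 = n13965 := d16_1 D19946 (iv D13965) (iv F60302)
theorem F86091 : act 3 n19946 = n14526 := d29_1 D19946 (iv D14526) (iv F60303)
theorem F86092 : act 4 n19946 = n13725 := d34_1 D19946 (iv D13725) D13724
theorem F86093 : act 7 n19946 = n19946 := d43_1 D19946 (iv D19946) F60304
def n19947 : Q := act 8 n13725
theorem D19947 : act 8 n13725 = n19947 := rfl
theorem F86094 : act 1 n19947 = n13966 := d15_1 D19947 (iv D13966) (iv F60306)
theorem F86095 : act 7 n19947 = n19947 := d42_1 D19947 (iv D19947) F60308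
theorem F86096 : act 9 n19947 = n19947 := d44_2 D13725 D19947 (iv D19947) (iv D13725) F42422
def n19948 : Q := act 7 n13726
theorem D19948 : act 7 n13726 = n19948 := rfl
theorem F86097 : act 1 n19948 = n13733 := d14_1 D19948 (iv D13733) (iv F60309)
theorem F86098 : act 3 n19948 = n19948 := d27_1 D19948 (iv D19948) F60310
theorem F86099 : act 5 n19948 = n13727 := d36_1 D19948 (iv D13727) D13726
def n19949 : Q := act 8 n13726
theorem D19949 : act 8 n13726 = n19949 := rfl
theorem F86100 : act 1 n19949 = n13734 := d15_1 D19949 (iv D13734) (iv F60309)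
theorem F86101 : act 5 n19949 = n13728 := d37_1 D19949 (iv D13728) D13726
theorem F86102 : act 6 n19949 = n14529 := d40_1 D19949 (iv D14529) (iv F60311)
def n19950 : Q := act 8 n13727
theorem D19950 : act 8 n13727 = n19950 := rfl
theorem F86103 : act 1 n19950 = n13735 := d15_1 D19950 (iv D13735) (iv F60312)
theorem F86104 : act 4 n19950 = n13731 := d33_1 D19950 (iv D13731) (iv F60314)
theorem F86105 : act 6 n19950 = n19950 := d40_1 D19950 (iv D19950) F60315
theorem F86106 : act 7 n19950 = n13728 := d42_1 D19950 (iv D13728) D13727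
def n19951 : Q := act 3 n13728
theorem D19951 : act 3 n13728 = n19951 := rfl
theorem F86107 : act 1 n19951 = n13736 := d10_1 D19951 (iv D13736) (iv F60316)
theorem F86108 : act 6 n19951 = n13729 := d26_2 (iv F60318) D19951 (iv D13729)
theorem F86109 : act 8 n19951 = n19951 := d28_2 D13728 D19951 (iv D19951) (iv D13728) F42428
def n19952 : Q := act 9 n13728
theorem D19952 : act 9 n13728 = n19952 := rfl
theorem F86110 : act 1 n19952 = n13737 := d16_1 D19952 (iv D13737) (iv F60316)
theorem F86111 : act 4 n19952 = n13732 := d34_1 D19952 (iv D13732) (iv F60317)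
theorem F86112 : act 6 n19952 = n13730 := d41_1 D19952 (iv D13730) (iv F60318)
def n19953 : Q := act 2 n13729
theorem D19953 : act 2 n13729 = n19953 := rfl
theorem F86113 : act 5 n19953 = n14533 := d19_2 (iv F60320) D19953 (iv D14533)
theorem F86114 : act 7 n19953 = n19953 := d21_2 F60321 D19953 (iv D19953)
theorem F86115 : act 8 n19953 = n19953 := d22_2 F60322 D19953 (iv D19953)
def n19954 : Q := act 9 n13729
theorem D19954 : act 9 n13729 = n19954 := rfl
theorem F86116 : act 1 n19954 = n13739 := d16_1 D19954 (iv D13739) (iv F60319)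
theorem F86117 : act 3 n19954 = n13730 := d29_1 D19954 (iv D13730) D13729
theorem F86118 : act 5 n19954 = n14534 := d38_1 D19954 (iv D14534) (iv F60320)
theorem F86119 : act 7 n19954 = n19954 := d43_1 D19954 (iv D19954) F60321
def n19955 : Q := act 9 n13731
theorem D19955 : act 9 n13731 = n19955 := rfl
theorem F86120 : act 1 n19955 = n13740 := d16_1 D19955 (iv D13740) (iv F60327)
theorem F86121 : act 6 n19955 = n19955 := d41_1 D19955 (iv D19955) F60328
theorem F86122 : act 7 n19955 = n13732 := d43_1 D19955 (iv D13732) (iv F60329)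
def n19956 : Q := act 6 n13733
theorem D19956 : act 6 n13733 = n19956 := rfl
theorem F86123 : act 0 n19956 = n19956 := d5_1 D19956 (iv D19956) F60332
theorem F86124 : act 2 n19956 = n13975 := d20_1 D19956 (iv D13975) (iv F60333)
theorem F86125 : act 3 n19956 = n19956 := d26_1 D19956 (iv D19956) F60334
theorem F86126 : act 5 n19956 = n19956 := d35_1 D19956 (iv D19956) F60335 F42450 (iv F60335)
theorem F86127 : act 7 n19956 = n14536 := d39_2 D13733 D19956 (iv D14536) (iv D10006) (iv F42445)
def n19957 : Q := act 8 n13733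
theorem D19957 : act 8 n13733 = n19957 := rfl
theorem F86128 : act 0 n19957 = n19957 := d7_1 D19957 (iv D19957) F60332
theorem F86129 : act 2 n19957 = n13976 := d22_1 D19957 (iv D13976) (iv F60333)
theorem F86130 : act 5 n19957 = n13735 := d37_1 D19957 (iv D13735) (iv F60335)
theorem F86131 : act 7 n19957 = n13734 := d42_1 D19957 (iv D13734) D13733
def n19958 : Q := act 3 n13734
theorem D19958 : act 3 n13734 = n19958 := rfl
theorem F86132 : act 0 n19958 = n19958 := d2_1 D19958 (iv D19958) F60336
theorem F86133 : act 5 n19958 = n13736 := d25_2 (iv F60338) D19958 (iv D13736)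
theorem F86134 : act 6 n19958 = n14538 := d26_2 (iv F60339) D19958 (iv D14538)
theorem F86135 : act 8 n19958 = n19958 := d28_2 D13734 D19958 (iv D19958) (iv D13734) F42444
def n19959 : Q := act 9 n13734
theorem D19959 : act 9 n13734 = n19959 := rfl
theorem F86136 : act 0 n19959 = n19959 := d8_1 D19959 (iv D19959) F60336
theorem F86137 : act 2 n19959 = n13978 := d23_1 D19959 (iv D13978) (iv F60337)
theorem F86138 : act 5 n19959 = n13737 := d38_1 D19959 (iv D13737) (iv F60338)
theorem F86139 : act 6 n19959 = n14539 := d41_1 D19959 (iv D14539) (iv F60339)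
def n19960 : Q := act 3 n13735
theorem D19960 : act 3 n13735 = n19960 := rfl
theorem F86140 : act 0 n19960 = n19960 := d2_1 D19960 (iv D19960) F60340
theorem F86141 : act 6 n19960 = n19960 := d26_2 F60343 D19960 (iv D19960)
theorem F86142 : act 7 n19960 = n13736 := d27_2 (iv F60344) D19960 (iv D13736)
theorem F86143 : act 8 n19960 = n19960 := d28_2 D13735 D19960 (iv D19960) (iv D13735) F42448
def n19961 : Q := act 9 n13735
theorem D19961 : act 9 n13735 = n19961 := rfl
theorem F86144 : act 0 n19961 = n19961 := d8_1 D19961 (iv D19961) F60340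
theorem F86145 : act 2 n19961 = n13980 := d23_1 D19961 (iv D13980) (iv F60341)
theorem F86146 : act 4 n19961 = n13740 := d34_1 D19961 (iv D13740) (iv F60342)
theorem F86147 : act 6 n19961 = n19961 := d41_1 D19961 (iv D19961) F60343
theorem F86148 : act 7 n19961 = n13737 := d43_1 D19961 (iv D13737) (iv F60344)
def n19962 : Q := act 2 n13736
theorem D19962 : act 2 n13736 = n19962 := rfl
theorem F86149 : act 0 n19962 = n19962 := d1_1 D19962 (iv D19962) F60345
theorem F86150 : act 3 n19962 = n13981 := d17_2 D13736 D19962 (iv D13981) (iv D9634) (iv F42452)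
theorem F86151 : act 6 n19962 = n13738 := d20_2 (iv F60346) D19962 (iv D13738)
theorem F86152 : act 8 n19962 = n19962 := d22_2 F60347 D19962 (iv D19962)
def n19963 : Q := act 9 n13736
theorem D19963 : act 9 n13736 = n19963 := rfl
theorem F86153 : act 0 n19963 = n19963 := d8_1 D19963 (iv D19963) F60345
theorem F86154 : act 3 n19963 = n13737 := d29_1 D19963 (iv D13737) D13736
theorem F86155 : act 6 n19963 = n13739 := d41_1 D19963 (iv D13739) (iv F60346)
def n19964 : Q := act 1 n13738
theorem D19964 : act 1 n13738 = n19964 := rfl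
theorem F86156 : act 3 n19964 = n13983 := d10_2 (iv F60353) D19964 (iv D13983)
theorem F86157 : act 5 n19964 = n14544 := d12_2 (iv F60354) D19964 (iv D14544)
theorem F86158 : act 7 n19964 = n19964 := d14_2 F60355 D19964 (iv D19964)
theorem F86159 : act 8 n19964 = n19964 := d15_2 F60356 D19964 (iv D19964)
def n19965 : Q := act 9 n13738
theorem D19965 : act 9 n13738 = n19965 := rfl
theorem F86160 : act 0 n19965 = n19965 := d8_1 D19965 (iv D19965) F60352
theorem F86161 : act 2 n19965 = n13739 := d23_1 D19965 (iv D13739) D13738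
theorem F86162 : act 3 n19965 = n13984 := d29_1 D19965 (iv D13984) (iv F60353)
theorem F86163 : act 5 n19965 = n14545 := d38_1 D19965 (iv D14545) (iv F60354)
theorem F86164 : act 7 n19965 = n19965 := d43_1 D19965 (iv D19965) F60355
def n19966 : Q := act 8 n13739
theorem D19966 : act 8 n13739 = n19966 := rfl
theorem F86165 : act 0 n19966 = n19966 := d7_1 D19966 (iv D19966) F60357
theorem F86166 : act 5 n19966 = n14546 := d37_1 D19966 (iv D14546) (iv F60359)
theorem F86167 : act 7 n19966 = n19966 := d42_1 D19966 (iv D19966) F60360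
theorem F86168 : act 9 n19966 = n19966 := d44_2 D13739 D19966 (iv D19966) (iv D13739) F42458
def n19967 : Q := act 2 n13741
theorem D19967 : act 2 n13741 = n19967 := rfl
theorem F86169 : act 0 n19967 = n13743 := d1_1 D19967 (iv D13743) (iv F60365)
theorem F86170 : act 3 n19967 = n19967 := d17_2 D13741 D19967 (iv D19967) (iv D13741) F42473
theorem F86171 : act 4 n19967 = n19967 := d18_2 F60367 D19967 (iv D19967)
theorem F86172 : act 6 n19967 = n19967 := d20_2 F60368 D19967 (iv D19967)
theorem F86173 : act 7 n19967 = n13793 := d21_2 (iv F60369) D19967 (iv D13793)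
theorem F86174 : act 9 n19967 = n19967 := d23_2 F60370 D19967 (iv D19967)
def n19968 : Q := act 5 n13741
theorem D19968 : act 5 n13741 = n19968 := rfl
theorem F86175 : act 0 n19968 = n13744 := d4_1 D19968 (iv D13744) (iv F60365)
theorem F86176 : act 1 n19968 = n19968 := d12_1 D19968 (iv D19968) F60366
theorem F86177 : act 3 n19968 = n13742 := d25_1 D19968 (iv D13742) D13741
theorem F86178 : act 7 n19968 = n13794 := d36_2 (iv F60369) D19968 (iv D13794)
theorem F86179 : act 9 n19968 = n19968 := d38_2 F60370 D19968 (iv D19968)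
def n19969 : Q := act 8 n13741
theorem D19969 : act 8 n13741 = n19969 := rfl
theorem F86180 : act 0 n19969 = n13745 := d7_1 D19969 (iv D13745) (iv F60365)
theorem F86181 : act 1 n19969 = n19969 := d15_1 D19969 (iv D19969) F60366
theorem F86182 : act 3 n19969 = n13754 := d28_1 D19969 (iv D13754) (iv D9483) (iv F42476) D13741
theorem F86183 : act 4 n19969 = n19969 := d33_1 D19969 (iv D19969) F60367
theorem F86184 : act 6 n19969 = n19969 := d40_1 D19969 (iv D19969) F60368
theorem F86185 : act 7 n19969 = n13795 := d42_1 D19969 (iv D13795) (iv F60369)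
def n19970 : Q := act 6 n13742
theorem D19970 : act 6 n13742 = n19970 := rfl
theorem F86186 : act 0 n19970 = n13746 := d5_1 D19970 (iv D13746) (iv F60371)
theorem F86187 : act 1 n19970 = n19970 := d13_1 D19970 (iv D19970) F60372
theorem F86188 : act 2 n19970 = n19970 := d20_1 D19970 (iv D19970) F60373
theorem F86189 : act 4 n19970 = n19970 := d31_1 D19970 (iv D19970) F60374
theorem F86190 : act 5 n19970 = n19970 := d35_1 D19970 (iv D19970) (iv D13742) F42474 D13742
theorem F86191 : act 8 n19970 = n13755 := d40_2 (iv F60376) D19970 (iv D13755)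
theorem F86192 : act 9 n19970 = n19970 := d41_2 F60377 D19970 (iv D19970)
def n19971 : Q := act 5 n13743
theorem D19971 : act 5 n13743 = n19971 := rfl
theorem F86193 : act 1 n19971 = n19971 := d12_1 D19971 (iv D19971) F60378
theorem F86194 : act 2 n19971 = n13744 := d19_1 D19971 (iv D13744) D13743
theorem F86195 : act 3 n19971 = n19971 := d25_1 D19971 (iv D19971) F60379
theorem F86196 : act 7 n19971 = n13797 := d36_2 (iv F60382) D19971 (iv D13797)
theorem F86197 : act 9 n19971 = n19971 := d38_2 F60383 D19971 (iv D19971)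
def n19972 : Q := act 8 n13743
theorem D19972 : act 8 n13743 = n19972 := rfl
theorem F86198 : act 1 n19972 = n19972 := d15_1 D19972 (iv D19972) F60378
theorem F86199 : act 2 n19972 = n13745 := d22_1 D19972 (iv D13745) D13743
theorem F86200 : act 4 n19972 = n19972 := d33_1 D19972 (iv D19972) F60380
theorem F86201 : act 6 n19972 = n19972 := d40_1 D19972 (iv D19972) F60381
theorem F86202 : act 7 n19972 = n13798 := d42_1 D19972 (iv D13798) (iv F60382)
def n19973 : Q := act 4 n13744
theorem D19973 : act 4 n13744 = n19973 := rfl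
theorem F86203 : act 1 n19973 = n13747 := d11_1 D19973 (iv D13747) (iv F60384)
theorem F86204 : act 3 n19973 = n19973 := d24_1 D19973 (iv D19973) F60385 F42485 (iv F60385)
theorem F86205 : act 5 n19973 = n19973 := d30_2 D13744 D19973 (iv D19973) (iv D13744) F42479
theorem F86206 : act 7 n19973 = n13799 := d32_2 (iv F60386) D19973 (iv D13799)
theorem F86207 : act 9 n19973 = n19973 := d34_2 F60387 D19973 (iv D19973)
def n19974 : Q := act 6 n13744
theorem D19974 : act 6 n13744 = n19974 := rfl
theorem F86208 : act 1 n19974 = n13748 := d13_1 D19974 (iv D13748) (iv F60384)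
theorem F86209 : act 3 n19974 = n13746 := d26_1 D19974 (iv D13746) (iv F60385)
theorem F86210 : act 5 n19974 = n19974 := d35_1 D19974 (iv D19974) (iv D13744) F42480 D13744
theorem F86211 : act 9 n19974 = n19974 := d41_2 F60387 D19974 (iv D19974)
def n19975 : Q := act 8 n13744
theorem D19975 : act 8 n13744 = n19975 := rfl
theorem F86212 : act 1 n19975 = n13749 := d15_1 D19975 (iv D13749) (iv F60384)
theorem F86213 : act 3 n19975 = n13760 := d28_1 D19975 (iv D13760) F42532 (iv F42487) (iv F60385)
theorem F86214 : act 5 n19975 = n13745 := d37_1 D19975 (iv D13745) D13744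
theorem F86215 : act 7 n19975 = n13801 := d42_1 D19975 (iv D13801) (iv F60386)
def n19976 : Q := act 9 n13745
theorem D19976 : act 9 n13745 = n19976 := rfl
theorem F86216 : act 1 n19976 = n13750 := d16_1 D19976 (iv D13750) (iv F60388)
theorem F86217 : act 3 n19976 = n13761 := d29_1 D19976 (iv D13761) (iv F60389)
theorem F86218 : act 4 n19976 = n19976 := d34_1 D19976 (iv D19976) F60390
theorem F86219 : act 6 n19976 = n19976 := d41_1 D19976 (iv D19976) F60391
theorem F86220 : act 7 n19976 = n13802 := d43_1 D19976 (iv D13802) (iv F60392)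
theorem F86221 : act 8 n19976 = n19976 := d44_1 D19976 (iv D19976) (iv D13745) F42482 D13745
def n19977 : Q := act 7 n13746
theorem D19977 : act 7 n13746 = n19977 := rfl
theorem F86222 : act 1 n19977 = n13751 := d14_1 D19977 (iv D13751) (iv F60393)
theorem F86223 : act 2 n19977 = n19977 := d21_1 D19977 (iv D19977) F60394
theorem F86224 : act 4 n19977 = n19977 := d32_1 D19977 (iv D19977) F60395
theorem F86225 : act 5 n19977 = n19977 := d36_1 D19977 (iv D19977) F60396
theorem F86226 : act 6 n19977 = n13803 := d39_1 D19977 (iv D13803) (iv D9515) (iv F42486) D13746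
theorem F86227 : act 8 n19977 = n13762 := d42_2 (iv F60397) D19977 (iv D13762)
theorem F86228 : act 9 n19977 = n19977 := d43_2 F60398 D19977 (iv D19977)
def n19978 : Q := act 6 n13747
theorem D19978 : act 6 n13747 = n19978 := rfl
theorem F86229 : act 0 n19978 = n19978 := d5_1 D19978 (iv D19978) F60399
theorem F86230 : act 2 n19978 = n19978 := d20_1 D19978 (iv D19978) F60400
theorem F86231 : act 3 n19978 = n19978 := d26_1 D19978 (iv D19978) F60401
theorem F86232 : act 4 n19978 = n13748 := d31_1 D19978 (iv D13748) D13747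
theorem F86233 : act 9 n19978 = n19978 := d41_2 F60404 D19978 (iv D19978)
def n19979 : Q := act 8 n13747
theorem D19979 : act 8 n13747 = n19979 := rfl
theorem F86234 : act 0 n19979 = n19979 := d7_1 D19979 (iv D19979) F60399
theorem F86235 : act 2 n19979 = n19979 := d22_1 D19979 (iv D19979) F60400
theorem F86236 : act 4 n19979 = n13749 := d33_1 D19979 (iv D13749) D13747
theorem F86237 : act 5 n19979 = n19979 := d37_1 D19979 (iv D19979) F60402
theorem F86238 : act 7 n19979 = n13805 := d42_1 D19979 (iv D13805) (iv F60403)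
def n19980 : Q := act 7 n13748
theorem D19980 : act 7 n13748 = n19980 := rfl
theorem F86239 : act 0 n19980 = n19980 := d6_1 D19980 (iv D19980) F60405
theorem F86240 : act 2 n19980 = n19980 := d21_1 D19980 (iv D19980) F60406
theorem F86241 : act 3 n19980 = n13751 := d27_1 D19980 (iv D13751) (iv F60407)
theorem F86242 : act 5 n19980 = n19980 := d36_1 D19980 (iv D19980) F60408
theorem F86243 : act 6 n19980 = n13806 := d39_1 D19980 (iv D13806) (iv D9517) (iv F42492) D13748
theorem F86244 : act 9 n19980 = n19980 := d43_2 F60409 D19980 (iv D19980)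
def n19981 : Q := act 8 n13748
theorem D19981 : act 8 n13748 = n19981 := rfl
theorem F86245 : act 0 n19981 = n19981 := d7_1 D19981 (iv D19981) F60405
theorem F86246 : act 2 n19981 = n19981 := d22_1 D19981 (iv D19981) F60406
theorem F86247 : act 3 n19981 = n13766 := d28_1 D19981 (iv D13766) F42550 (iv F42504) (iv F60407)
theorem F86248 : act 5 n19981 = n19981 := d37_1 D19981 (iv D19981) F60408
theorem F86249 : act 6 n19981 = n13749 := d40_1 D19981 (iv D13749) D13748
def n19982 : Q := act 9 n13749
theorem D19982 : act 9 n13749 = n19982 := rfl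
theorem F86250 : act 0 n19982 = n19982 := d8_1 D19982 (iv D19982) F60410
theorem F86251 : act 2 n19982 = n19982 := d23_1 D19982 (iv D19982) F60411
theorem F86252 : act 3 n19982 = n13767 := d29_1 D19982 (iv D13767) (iv F60412)
theorem F86253 : act 5 n19982 = n13750 := d38_1 D19982 (iv D13750) (iv F60413)
theorem F86254 : act 7 n19982 = n13808 := d43_1 D19982 (iv D13808) (iv F60414)
theorem F86255 : act 8 n19982 = n19982 := d44_1 D19982 (iv D19982) (iv D13749) F42493 D13749
def n19983 : Q := act 1 n13752
theorem D19983 : act 1 n13752 = n19983 := rfl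
theorem F86256 : act 2 n19983 = n19983 := d9_2 D13752 D19983 (iv D19983) (iv D13752) F42515
theorem F86257 : act 3 n19983 = n19983 := d10_2 F60430 D19983 (iv D19983)
theorem F86258 : act 4 n19983 = n14547 := d11_2 (iv F60431) D19983 (iv D14547)
theorem F86259 : act 6 n19983 = n19983 := d13_2 F60432 D19983 (iv D19983)
theorem F86260 : act 7 n19983 = n13809 := d14_2 (iv F60433) D19983 (iv D13809)
theorem F86261 : act 9 n19983 = n13768 := d16_2 (iv F60434) D19983 (iv D13768)
def n19984 : Q := act 5 n13752
theorem D19984 : act 5 n13752 = n19984 := rfl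
theorem F86262 : act 0 n19984 = n13756 := d4_1 D19984 (iv D13756) (iv F60429)
theorem F86263 : act 2 n19984 = n13753 := d19_1 D19984 (iv D13753) D13752
theorem F86264 : act 3 n19984 = n19984 := d25_1 D19984 (iv D19984) F60430
theorem F86265 : act 7 n19984 = n13810 := d36_2 (iv F60433) D19984 (iv D13810)
theorem F86266 : act 9 n19984 = n13769 := d38_2 (iv F60434) D19984 (iv D13769)
def n19985 : Q := act 8 n13752
theorem D19985 : act 8 n13752 = n19985 := rfl
theorem F86267 : act 0 n19985 = n13757 := d7_1 D19985 (iv D13757) (iv F60429)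
theorem F86268 : act 2 n19985 = n13754 := d22_1 D19985 (iv D13754) D13752
theorem F86269 : act 4 n19985 = n14549 := d33_1 D19985 (iv D14549) (iv F60431)
theorem F86270 : act 6 n19985 = n19985 := d40_1 D19985 (iv D19985) F60432
theorem F86271 : act 7 n19985 = n13811 := d42_1 D19985 (iv D13811) (iv F60433)
def n19986 : Q := act 4 n13753
theorem D19986 : act 4 n13753 = n19986 := rfl
theorem F86272 : act 0 n19986 = n13758 := d3_1 D19986 (iv D13758) (iv F60435)
theorem F86273 : act 1 n19986 = n19986 := d11_1 D19986 (iv D19986) F60436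
theorem F86274 : act 3 n19986 = n19986 := d24_1 D19986 (iv D19986) F60437 F42523 (iv F60437)
theorem F86275 : act 5 n19986 = n14550 := d30_2 D13753 D19986 (iv D14550) (iv D10015) (iv F42516)
theorem F86276 : act 7 n19986 = n13812 := d32_2 (iv F60438) D19986 (iv D13812)
theorem F86277 : act 9 n19986 = n13771 := d34_2 (iv F60439) D19986 (iv D13771)
def n19987 : Q := act 6 n13753
theorem D19987 : act 6 n13753 = n19987 := rfl
theorem F86278 : act 0 n19987 = n13759 := d5_1 D19987 (iv D13759) (iv F60435)
theorem F86279 : act 1 n19987 = n19987 := d13_1 D19987 (iv D19987) F60436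
theorem F86280 : act 3 n19987 = n13755 := d26_1 D19987 (iv D13755) (iv F60437)
theorem F86281 : act 5 n19987 = n19987 := d35_1 D19987 (iv D19987) (iv D13753) F42517 D13753
theorem F86282 : act 9 n19987 = n13772 := d41_2 (iv F60439) D19987 (iv D13772)
def n19988 : Q := act 8 n13753
theorem D19988 : act 8 n13753 = n19988 := rfl
theorem F86283 : act 0 n19988 = n13760 := d7_1 D19988 (iv D13760) (iv F60435)
theorem F86284 : act 1 n19988 = n19988 := d15_1 D19988 (iv D19988) F60436
theorem F86285 : act 5 n19988 = n13754 := d37_1 D19988 (iv D13754) D13753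
theorem F86286 : act 7 n19988 = n13814 := d42_1 D19988 (iv D13814) (iv F60438)
def n19989 : Q := act 9 n13754
theorem D19989 : act 9 n13754 = n19989 := rfl
theorem F86287 : act 0 n19989 = n13761 := d8_1 D19989 (iv D13761) (iv F60440)
theorem F86288 : act 1 n19989 = n19989 := d16_1 D19989 (iv D19989) F60441
theorem F86289 : act 4 n19989 = n14553 := d34_1 D19989 (iv D14553) (iv F60442)
theorem F86290 : act 6 n19989 = n19989 := d41_1 D19989 (iv D19989) F60443
theorem F86291 : act 7 n19989 = n13815 := d43_1 D19989 (iv D13815) (iv F60444)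
theorem F86292 : act 8 n19989 = n13774 := d44_1 D19989 (iv D13774) (iv D9496) (iv F42519) D13754
def n19990 : Q := act 7 n13755
theorem D19990 : act 7 n13755 = n19990 := rfl
theorem F86293 : act 0 n19990 = n13762 := d6_1 D19990 (iv D13762) (iv F60445)
theorem F86294 : act 1 n19990 = n19990 := d14_1 D19990 (iv D19990) F60446
theorem F86295 : act 2 n19990 = n19990 := d21_1 D19990 (iv D19990) F60447
theorem F86296 : act 4 n19990 = n19990 := d32_1 D19990 (iv D19990) F60448
theorem F86297 : act 5 n19990 = n19990 := d36_1 D19990 (iv D19990) F60449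
theorem F86298 : act 6 n19990 = n13816 := d39_1 D19990 (iv D13816) (iv D9524) (iv F42524) D13755
theorem F86299 : act 9 n19990 = n13775 := d43_2 (iv F60450) D19990 (iv D13775)
def n19991 : Q := act 4 n13756
theorem D19991 : act 4 n13756 = n19991 := rfl
theorem F86300 : act 2 n19991 = n13758 := d18_1 D19991 (iv D13758) (iv F60451)
theorem F86301 : act 5 n19991 = n14555 := d30_2 D13756 D19991 (iv D14555) (iv D10018) (iv F42527)
theorem F86302 : act 7 n19991 = n13817 := d32_2 (iv F60453) D19991 (iv D13817)
theorem F86303 : act 9 n19991 = n13776 := d34_2 (iv F60454) D19991 (iv D13776)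
def n19992 : Q := act 6 n13756
theorem D19992 : act 6 n13756 = n19992 := rfl
theorem F86304 : act 2 n19992 = n13759 := d20_1 D19992 (iv D13759) (iv F60451)
theorem F86305 : act 3 n19992 = n19992 := d26_1 D19992 (iv D19992) F60452
theorem F86306 : act 5 n19992 = n19992 := d35_1 D19992 (iv D19992) (iv D13756) F42528 D13756
theorem F86307 : act 9 n19992 = n13777 := d41_2 (iv F60454) D19992 (iv D13777)
def n19993 : Q := act 8 n13756
theorem D19993 : act 8 n13756 = n19993 := rfl
theorem F86308 : act 2 n19993 = n13760 := d22_1 D19993 (iv D13760) (iv F60451)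
theorem F86309 : act 5 n19993 = n13757 := d37_1 D19993 (iv D13757) D13756
theorem F86310 : act 7 n19993 = n13819 := d42_1 D19993 (iv D13819) (iv F60453)
def n19994 : Q := act 3 n13757
theorem D19994 : act 3 n13757 = n19994 := rfl
theorem F86311 : act 6 n19994 = n19994 := d26_2 F60457 D19994 (iv D19994)
theorem F86312 : act 7 n19994 = n13820 := d27_2 (iv F60458) D19994 (iv D13820)
theorem F86313 : act 8 n19994 = n19994 := d28_2 D13757 D19994 (iv D19994) (iv D13757) F42526
def n19995 : Q := act 9 n13757
theorem D19995 : act 9 n13757 = n19995 := rfl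
theorem F86314 : act 2 n19995 = n13761 := d23_1 D19995 (iv D13761) (iv F60455)
theorem F86315 : act 4 n19995 = n14559 := d34_1 D19995 (iv D14559) (iv F60456)
theorem F86316 : act 6 n19995 = n19995 := d41_1 D19995 (iv D19995) F60457
theorem F86317 : act 7 n19995 = n13821 := d43_1 D19995 (iv D13821) (iv F60458)
theorem F86318 : act 8 n19995 = n13780 := d44_1 D19995 (iv D13780) (iv D9499) (iv F42530) D13757
def n19996 : Q := act 6 n13758
theorem D19996 : act 6 n13758 = n19996 := rfl
theorem F86319 : act 1 n19996 = n13763 := d13_1 D19996 (iv D13763) (iv F60459)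
theorem F86320 : act 3 n19996 = n19996 := d26_1 D19996 (iv D19996) F60460
theorem F86321 : act 4 n19996 = n13759 := d31_1 D19996 (iv D13759) D13758
theorem F86322 : act 9 n19996 = n13781 := d41_2 (iv F60463) D19996 (iv D13781)
def n19997 : Q := act 8 n13758
theorem D19997 : act 8 n13758 = n19997 := rfl
theorem F86323 : act 1 n19997 = n13764 := d15_1 D19997 (iv D13764) (iv F60459)
theorem F86324 : act 4 n19997 = n13760 := d33_1 D19997 (iv D13760) D13758
theorem F86325 : act 5 n19997 = n14561 := d37_1 D19997 (iv D14561) (iv F60461)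
theorem F86326 : act 7 n19997 = n13823 := d42_1 D19997 (iv D13823) (iv F60462)
def n19998 : Q := act 7 n13759
theorem D19998 : act 7 n13759 = n19998 := rfl
theorem F86327 : act 1 n19998 = n13765 := d14_1 D19998 (iv D13765) (iv F60464)
theorem F86328 : act 3 n19998 = n13762 := d27_1 D19998 (iv D13762) (iv F60465)
theorem F86329 : act 5 n19998 = n19998 := d36_1 D19998 (iv D19998) F60466
theorem F86330 : act 6 n19998 = n13824 := d39_1 D19998 (iv D13824) (iv D9528) (iv F42533) D13759
theorem F86331 : act 9 n19998 = n13783 := d43_2 (iv F60467) D19998 (iv D13783)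
def n19999 : Q := act 8 n13759
theorem D19999 : act 8 n13759 = n19999 := rfl
theorem F86332 : act 1 n19999 = n13766 := d15_1 D19999 (iv D13766) (iv F60464)
theorem F86333 : act 5 n19999 = n19999 := d37_1 D19999 (iv D19999) F60466
theorem F86334 : act 6 n19999 = n13760 := d40_1 D19999 (iv D13760) D13759
def n20000 : Q := act 9 n13760
theorem D20000 : act 9 n13760 = n20000 := rfl
theorem F86335 : act 1 n20000 = n13767 := d16_1 D20000 (iv D13767) (iv F60468)
theorem F86336 : act 5 n20000 = n13761 := d38_1 D20000 (iv D13761) (iv F60469)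
theorem F86337 : act 7 n20000 = n13826 := d43_1 D20000 (iv D13826) (iv F60470)
theorem F86338 : act 8 n20000 = n13785 := d44_1 D20000 (iv D13785) (iv D9502) (iv F42534) D13760
def n20001 : Q := act 5 n13763
theorem D20001 : act 5 n13763 = n20001 := rfl
theorem F86339 : act 0 n20001 = n20001 := d4_1 D20001 (iv D20001) F60482
theorem F86340 : act 3 n20001 = n20001 := d25_1 D20001 (iv D20001) F60483
theorem F86341 : act 4 n20001 = n20001 := d30_1 D20001 (iv D20001) F60484 F42551 (iv F60484)
theorem F86342 : act 6 n20001 = n14565 := d35_2 D13763 D20001 (iv D14565) (iv D10025) (iv F42546)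
theorem F86343 : act 9 n20001 = n13786 := d38_2 (iv F60485) D20001 (iv D13786)
def n20002 : Q := act 7 n13763
theorem D20002 : act 7 n13763 = n20002 := rfl
theorem F86344 : act 0 n20002 = n20002 := d6_1 D20002 (iv D20002) F60482
theorem F86345 : act 3 n20002 = n20002 := d27_1 D20002 (iv D20002) F60483
theorem F86346 : act 4 n20002 = n13765 := d32_1 D20002 (iv D13765) (iv F60484)
theorem F86347 : act 6 n20002 = n13828 := d39_1 D20002 (iv D13828) (iv D9532) (iv F42547) D13763
theorem F86348 : act 9 n20002 = n13787 := d43_2 (iv F60485) D20002 (iv D13787)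
def n20003 : Q := act 8 n13763
theorem D20003 : act 8 n13763 = n20003 := rfl
theorem F86349 : act 0 n20003 = n20003 := d7_1 D20003 (iv D20003) F60482
theorem F86350 : act 4 n20003 = n13766 := d33_1 D20003 (iv D13766) (iv F60484)
theorem F86351 : act 6 n20003 = n13764 := d40_1 D20003 (iv D13764) D13763
def n20004 : Q := act 3 n13764
theorem D20004 : act 3 n13764 = n20004 := rfl
theorem F86352 : act 0 n20004 = n20004 := d2_1 D20004 (iv D20004) F60486
theorem F86353 : act 5 n20004 = n14568 := d25_2 (iv F60488) D20004 (iv D14568)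
theorem F86354 : act 7 n20004 = n13830 := d27_2 (iv F60489) D20004 (iv D13830)
theorem F86355 : act 8 n20004 = n20004 := d28_2 D13764 D20004 (iv D20004) (iv D13764) F42545
def n20005 : Q := act 9 n13764
theorem D20005 : act 9 n13764 = n20005 := rfl
theorem F86356 : act 0 n20005 = n20005 := d8_1 D20005 (iv D20005) F60486
theorem F86357 : act 4 n20005 = n13767 := d34_1 D20005 (iv D13767) (iv F60487)
theorem F86358 : act 5 n20005 = n14569 := d38_1 D20005 (iv D14569) (iv F60488)
theorem F86359 : act 7 n20005 = n13831 := d43_1 D20005 (iv D13831) (iv F60489)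
theorem F86360 : act 8 n20005 = n13790 := d44_1 D20005 (iv D13790) (iv D9506) (iv F42548) D13764
def n20006 : Q := act 8 n13765
theorem D20006 : act 8 n13765 = n20006 := rfl
theorem F86361 : act 0 n20006 = n20006 := d7_1 D20006 (iv D20006) F60490
theorem F86362 : act 5 n20006 = n20006 := d37_1 D20006 (iv D20006) F60492
theorem F86363 : act 6 n20006 = n13832 := d40_1 D20006 (iv D13832) (iv F60493)
theorem F86364 : act 7 n20006 = n13766 := d42_1 D20006 (iv D13766) D13765
def n20007 : Q := act 9 n13766
theorem D20007 : act 9 n13766 = n20007 := rfl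
theorem F86365 : act 0 n20007 = n20007 := d8_1 D20007 (iv D20007) F60495
theorem F86366 : act 5 n20007 = n20007 := d38_1 D20007 (iv D20007) F60496
theorem F86367 : act 6 n20007 = n13767 := d41_1 D20007 (iv D13767) (iv F60497)
theorem F86368 : act 8 n20007 = n13792 := d44_1 D20007 (iv D13792) (iv D9508) (iv F42552) D13766
def n20008 : Q := act 5 n13768
theorem D20008 : act 5 n13768 = n20008 := rfl
theorem F86369 : act 1 n20008 = n13769 := d12_1 D20008 (iv D13769) D13768
theorem F86370 : act 2 n20008 = n20008 := d19_1 D20008 (iv D20008) F60502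
theorem F86371 : act 3 n20008 = n20008 := d25_1 D20008 (iv D20008) F60503
theorem F86372 : act 7 n20008 = n13834 := d36_2 (iv F60506) D20008 (iv D13834)
def n20009 : Q := act 8 n13768
theorem D20009 : act 8 n13768 = n20009 := rfl
theorem F86373 : act 1 n20009 = n13770 := d15_1 D20009 (iv D13770) D13768
theorem F86374 : act 2 n20009 = n20009 := d22_1 D20009 (iv D20009) F60502
theorem F86376 : act 6 n20009 = n20009 := d40_1 D20009 (iv D20009) F60505
theorem F86377 : act 7 n20009 = n13835 := d42_1 D20009 (iv D13835) (iv F60506)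
def n20010 : Q := act 4 n13769
theorem D20010 : act 4 n13769 = n20010 := rfl
theorem F86378 : act 0 n20010 = n13776 := d3_1 D20010 (iv D13776) (iv F60507)
theorem F86379 : act 2 n20010 = n13771 := d18_1 D20010 (iv D13771) (iv F60508)
theorem F86380 : act 5 n20010 = n14574 := d30_2 D13769 D20010 (iv D14574) (iv D10031) (iv F42569)
theorem F86381 : act 7 n20010 = n13836 := d32_2 (iv F60510) D20010 (iv D13836)
def n20011 : Q := act 6 n13769
theorem D20011 : act 6 n13769 = n20011 := rfl
theorem F86382 : act 0 n20011 = n13777 := d5_1 D20011 (iv D13777) (iv F60507)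
theorem F86383 : act 2 n20011 = n13772 := d20_1 D20011 (iv D13772) (iv F60508)
theorem F86384 : act 3 n20011 = n20011 := d26_1 D20011 (iv D20011) F60509
theorem F86385 : act 5 n20011 = n20011 := d35_1 D20011 (iv D20011) (iv D13769) F42570 D13769
def n20012 : Q := act 8 n13769
theorem D20012 : act 8 n13769 = n20012 := rfl
theorem F86386 : act 0 n20012 = n13778 := d7_1 D20012 (iv D13778) (iv F60507)
theorem F86387 : act 2 n20012 = n13773 := d22_1 D20012 (iv D13773) (iv F60508)
theorem F86388 : act 5 n20012 = n13770 := d37_1 D20012 (iv D13770) D13769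
theorem F86389 : act 7 n20012 = n13838 := d42_1 D20012 (iv D13838) (iv F60510)
def n20013 : Q := act 3 n13770
theorem D20013 : act 3 n13770 = n20013 := rfl
theorem F86390 : act 0 n20013 = n13779 := d2_1 D20013 (iv D13779) (iv F60511)
theorem F86391 : act 2 n20013 = n20013 := d17_1 D20013 (iv D20013) F60512 F42578 (iv F60512)
theorem F86392 : act 6 n20013 = n20013 := d26_2 F60514 D20013 (iv D20013)
theorem F86393 : act 7 n20013 = n13839 := d27_2 (iv F60515) D20013 (iv D13839)
theorem F86394 : act 8 n20013 = n20013 := d28_2 D13770 D20013 (iv D20013) (iv D13770) F42568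
def n20014 : Q := act 9 n13770
theorem D20014 : act 9 n13770 = n20014 := rfl
theorem F86395 : act 0 n20014 = n13780 := d8_1 D20014 (iv D13780) (iv F60511)
theorem F86396 : act 2 n20014 = n13774 := d23_1 D20014 (iv D13774) (iv F60512)
theorem F86397 : act 4 n20014 = n14578 := d34_1 D20014 (iv D14578) (iv F60513)
theorem F86398 : act 6 n20014 = n20014 := d41_1 D20014 (iv D20014) F60514
theorem F86399 : act 7 n20014 = n13840 := d43_1 D20014 (iv D13840) (iv F60515)
def n20015 : Q := act 6 n13771
theorem D20015 : act 6 n13771 = n20015 := rfl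
theorem F86400 : act 0 n20015 = n13781 := d5_1 D20015 (iv D13781) (iv F60516)
theorem F86401 : act 1 n20015 = n20015 := d13_1 D20015 (iv D20015) F60517
theorem F86402 : act 3 n20015 = n20015 := d26_1 D20015 (iv D20015) F60518
theorem F86403 : act 4 n20015 = n13772 := d31_1 D20015 (iv D13772) D13771
def n20016 : Q := act 8 n13771
theorem D20016 : act 8 n13771 = n20016 := rfl
theorem F86404 : act 0 n20016 = n13782 := d7_1 D20016 (iv D13782) (iv F60516)
theorem F86405 : act 1 n20016 = n20016 := d15_1 D20016 (iv D20016) F60517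
theorem F86406 : act 4 n20016 = n13773 := d33_1 D20016 (iv D13773) D13771
theorem F86407 : act 5 n20016 = n14580 := d37_1 D20016 (iv D14580) (iv F60519)
theorem F86408 : act 7 n20016 = n13842 := d42_1 D20016 (iv D13842) (iv F60520)
def n20017 : Q := act 7 n13772
theorem D20017 : act 7 n13772 = n20017 := rfl
theorem F86409 : act 0 n20017 = n13783 := d6_1 D20017 (iv D13783) (iv F60521)
theorem F86410 : act 1 n20017 = n20017 := d14_1 D20017 (iv D20017) F60522
theorem F86411 : act 3 n20017 = n13775 := d27_1 D20017 (iv D13775) (iv F60523)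
theorem F86412 : act 5 n20017 = n20017 := d36_1 D20017 (iv D20017) F60524
theorem F86413 : act 6 n20017 = n13843 := d39_1 D20017 (iv D13843) (iv D9541) (iv F42575) D13772
def n20018 : Q := act 8 n13772
theorem D20018 : act 8 n13772 = n20018 := rfl
theorem F86414 : act 0 n20018 = n13784 := d7_1 D20018 (iv D13784) (iv F60521)
theorem F86415 : act 1 n20018 = n20018 := d15_1 D20018 (iv D20018) F60522
theorem F86416 : act 3 n20018 = n20018 := d28_1 D20018 (iv D20018) F60523 F42587 (iv F60523)
theorem F86417 : act 5 n20018 = n20018 := d37_1 D20018 (iv D20018) F60524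
theorem F86418 : act 6 n20018 = n13773 := d40_1 D20018 (iv D13773) D13772
def n20019 : Q := act 9 n13773
theorem D20019 : act 9 n13773 = n20019 := rfl
theorem F86419 : act 0 n20019 = n13785 := d8_1 D20019 (iv D13785) (iv F60525)
theorem F86420 : act 1 n20019 = n20019 := d16_1 D20019 (iv D20019) F60526
theorem F86421 : act 3 n20019 = n20019 := d29_1 D20019 (iv D20019) F60527
theorem F86422 : act 5 n20019 = n13774 := d38_1 D20019 (iv D13774) (iv F60528)
theorem F86423 : act 7 n20019 = n13845 := d43_1 D20019 (iv D13845) (iv F60529)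
def n20020 : Q := act 3 n13776
theorem D20020 : act 3 n13776 = n20020 := rfl
theorem F86424 : act 2 n20020 = n20020 := d17_1 D20020 (iv D20020) F60543 F42596 (iv F60543)
theorem F86425 : act 4 n20020 = n20020 := d24_2 D13776 D20020 (iv D20020) (iv D13776) F42589
theorem F86426 : act 5 n20020 = n14584 := d25_2 (iv F60544) D20020 (iv D14584)
theorem F86427 : act 7 n20020 = n13846 := d27_2 (iv F60545) D20020 (iv D13846)
def n20021 : Q := act 6 n13776
theorem D20021 : act 6 n13776 = n20021 := rfl
theorem F86428 : act 2 n20021 = n13781 := d20_1 D20021 (iv D13781) (iv F60543)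
theorem F86429 : act 4 n20021 = n13777 := d31_1 D20021 (iv D13777) D13776
def n20022 : Q := act 8 n13776
theorem D20022 : act 8 n13776 = n20022 := rfl
theorem F86430 : act 2 n20022 = n13782 := d22_1 D20022 (iv D13782) (iv F60543)
theorem F86431 : act 4 n20022 = n13778 := d33_1 D20022 (iv D13778) D13776
theorem F86432 : act 5 n20022 = n14586 := d37_1 D20022 (iv D14586) (iv F60544)
theorem F86433 : act 7 n20022 = n13848 := d42_1 D20022 (iv D13848) (iv F60545)
def n20023 : Q := act 7 n13777
theorem D20023 : act 7 n13777 = n20023 := rfl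
theorem F86434 : act 2 n20023 = n13783 := d21_1 D20023 (iv D13783) (iv F60546)
theorem F86435 : act 3 n20023 = n20023 := d27_1 D20023 (iv D20023) F60547
theorem F86436 : act 5 n20023 = n20023 := d36_1 D20023 (iv D20023) F60548
theorem F86437 : act 6 n20023 = n13849 := d39_1 D20023 (iv D13849) (iv D9546) (iv F42590) D13777
def n20024 : Q := act 8 n13777
theorem D20024 : act 8 n13777 = n20024 := rfl
theorem F86438 : act 2 n20024 = n13784 := d22_1 D20024 (iv D13784) (iv F60546)
theorem F86439 : act 5 n20024 = n20024 := d37_1 D20024 (iv D20024) F60548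
theorem F86440 : act 6 n20024 = n13778 := d40_1 D20024 (iv D13778) D13777
def n20025 : Q := act 3 n13778
theorem D20025 : act 3 n13778 = n20025 := rfl
theorem F86441 : act 2 n20025 = n20025 := d17_1 D20025 (iv D20025) F60549 F42603 (iv F60549)
theorem F86442 : act 5 n20025 = n13779 := d25_2 (iv F60550) D20025 (iv D13779)
theorem F86443 : act 7 n20025 = n13851 := d27_2 (iv F60551) D20025 (iv D13851)
theorem F86444 : act 8 n20025 = n20025 := d28_2 D13778 D20025 (iv D20025) (iv D13778) F42589
def n20026 : Q := act 9 n13778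
theorem D20026 : act 9 n13778 = n20026 := rfl
theorem F86445 : act 2 n20026 = n13785 := d23_1 D20026 (iv D13785) (iv F60549)
theorem F86446 : act 5 n20026 = n13780 := d38_1 D20026 (iv D13780) (iv F60550)
theorem F86447 : act 7 n20026 = n13852 := d43_1 D20026 (iv D13852) (iv F60551)
def n20027 : Q := act 4 n13779
theorem D20027 : act 4 n13779 = n20027 := rfl
theorem F86448 : act 2 n20027 = n20027 := d18_1 D20027 (iv D20027) F60552
theorem F86449 : act 3 n20027 = n14591 := d24_1 D20027 (iv D14591) (iv D10041) (iv F42592) D13779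
theorem F86450 : act 6 n20027 = n20027 := d31_2 F60553 D20027 (iv D20027)
theorem F86451 : act 7 n20027 = n13853 := d32_2 (iv F60554) D20027 (iv D13853)
theorem F86452 : act 8 n20027 = n20027 := d33_2 F60555 D20027 (iv D20027)
def n20028 : Q := act 9 n13779
theorem D20028 : act 9 n13779 = n20028 := rfl
theorem F86453 : act 2 n20028 = n20028 := d23_1 D20028 (iv D20028) F60552
theorem F86454 : act 3 n20028 = n13780 := d29_1 D20028 (iv D13780) D13779
theorem F86455 : act 6 n20028 = n20028 := d41_1 D20028 (iv D20028) F60553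
theorem F86456 : act 7 n20028 = n13854 := d43_1 D20028 (iv D13854) (iv F60554)
def n20029 : Q := act 5 n13781
theorem D20029 : act 5 n13781 = n20029 := rfl
theorem F86457 : act 1 n20029 = n13786 := d12_1 D20029 (iv D13786) (iv F60560)
theorem F86458 : act 3 n20029 = n20029 := d25_1 D20029 (iv D20029) F60561
theorem F86459 : act 4 n20029 = n20029 := d30_1 D20029 (iv D20029) F60562 F42601 (iv F60562)
theorem F86460 : act 6 n20029 = n14593 := d35_2 D13781 D20029 (iv D14593) (iv D10043) (iv F42597)
def n20030 : Q := act 7 n13781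
theorem D20030 : act 7 n13781 = n20030 := rfl
theorem F86461 : act 1 n20030 = n13787 := d14_1 D20030 (iv D13787) (iv F60560)
theorem F86462 : act 3 n20030 = n20030 := d27_1 D20030 (iv D20030) F60561
theorem F86463 : act 4 n20030 = n13783 := d32_1 D20030 (iv D13783) (iv F60562)
theorem F86464 : act 6 n20030 = n13856 := d39_1 D20030 (iv D13856) (iv D9550) (iv F42598) D13781
def n20031 : Q := act 8 n13781
theorem D20031 : act 8 n13781 = n20031 := rfl
theorem F86465 : act 1 n20031 = n13788 := d15_1 D20031 (iv D13788) (iv F60560)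
theorem F86466 : act 4 n20031 = n13784 := d33_1 D20031 (iv D13784) (iv F60562)
theorem F86467 : act 6 n20031 = n13782 := d40_1 D20031 (iv D13782) D13781
def n20032 : Q := act 3 n13782
theorem D20032 : act 3 n13782 = n20032 := rfl
theorem F86468 : act 1 n20032 = n13789 := d10_1 D20032 (iv D13789) (iv F60563)
theorem F86469 : act 4 n20032 = n20032 := d24_2 (iv F60564) D20032 (iv D20032) F60564 F42603
theorem F86470 : act 5 n20032 = n14596 := d25_2 (iv F60565) D20032 (iv D14596)
theorem F86471 : act 7 n20032 = n13858 := d27_2 (iv F60566) D20032 (iv D13858)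
theorem F86472 : act 8 n20032 = n20032 := d28_2 D13782 D20032 (iv D20032) (iv D13782) F42596
def n20033 : Q := act 9 n13782
theorem D20033 : act 9 n13782 = n20033 := rfl
theorem F86473 : act 1 n20033 = n13790 := d16_1 D20033 (iv D13790) (iv F60563)
theorem F86474 : act 4 n20033 = n13785 := d34_1 D20033 (iv D13785) (iv F60564)
theorem F86475 : act 5 n20033 = n14597 := d38_1 D20033 (iv D14597) (iv F60565)
theorem F86476 : act 7 n20033 = n13859 := d43_1 D20033 (iv D13859) (iv F60566)
def n20034 : Q := act 8 n13783
theorem D20034 : act 8 n13783 = n20034 := rfl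
theorem F86477 : act 1 n20034 = n13791 := d15_1 D20034 (iv D13791) (iv F60567)
theorem F86478 : act 3 n20034 = n20034 := d28_1 D20034 (iv D20034) F60568 F42616 (iv F60568)
theorem F86479 : act 5 n20034 = n20034 := d37_1 D20034 (iv D20034) F60569
theorem F86480 : act 6 n20034 = n13860 := d40_1 D20034 (iv D13860) (iv F60570)
theorem F86481 : act 7 n20034 = n13784 := d42_1 D20034 (iv D13784) D13783
def n20035 : Q := act 9 n13784
theorem D20035 : act 9 n13784 = n20035 := rfl
theorem F86482 : act 1 n20035 = n13792 := d16_1 D20035 (iv D13792) (iv F60571)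
theorem F86483 : act 3 n20035 = n20035 := d29_1 D20035 (iv D20035) F60572
theorem F86484 : act 5 n20035 = n20035 := d38_1 D20035 (iv D20035) F60573
theorem F86485 : act 6 n20035 = n13785 := d41_1 D20035 (iv D13785) (iv F60574)
def n20036 : Q := act 7 n13786
theorem D20036 : act 7 n13786 = n20036 := rfl
theorem F86486 : act 0 n20036 = n20036 := d6_1 D20036 (iv D20036) F60579
theorem F86487 : act 3 n20036 = n20036 := d27_1 D20036 (iv D20036) F60580
theorem F86488 : act 4 n20036 = n20036 := d32_1 D20036 (iv D20036) F60581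
theorem F86489 : act 5 n20036 = n13787 := d36_1 D20036 (iv D13787) D13786
def n20037 : Q := act 8 n13786
theorem D20037 : act 8 n13786 = n20037 := rfl
theorem F86490 : act 0 n20037 = n20037 := d7_1 D20037 (iv D20037) F60579
theorem F86491 : act 4 n20037 = n20037 := d33_1 D20037 (iv D20037) F60581
theorem F86492 : act 5 n20037 = n13788 := d37_1 D20037 (iv D13788) D13786
theorem F86493 : act 6 n20037 = n14601 := d40_1 D20037 (iv D14601) (iv F60582)
def n20038 : Q := act 8 n13787
theorem D20038 : act 8 n13787 = n20038 := rfl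
theorem F86494 : act 0 n20038 = n20038 := d7_1 D20038 (iv D20038) F60583
theorem F86495 : act 4 n20038 = n13791 := d33_1 D20038 (iv D13791) (iv F60585)
theorem F86496 : act 6 n20038 = n13864 := d40_1 D20038 (iv D13864) (iv F60586)
theorem F86497 : act 7 n20038 = n13788 := d42_1 D20038 (iv D13788) D13787
def n20039 : Q := act 3 n13788
theorem D20039 : act 3 n13788 = n20039 := rfl
theorem F86498 : act 0 n20039 = n20039 := d2_1 D20039 (iv D20039) F60587
theorem F86499 : act 4 n20039 = n20039 := d24_2 (iv F60588) D20039 (iv D20039) F60588 F42629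
theorem F86500 : act 6 n20039 = n13789 := d26_2 (iv F60589) D20039 (iv D13789)
theorem F86501 : act 8 n20039 = n20039 := d28_2 D13788 D20039 (iv D20039) (iv D13788) F42618
def n20040 : Q := act 9 n13788
theorem D20040 : act 9 n13788 = n20040 := rfl
theorem F86502 : act 0 n20040 = n20040 := d8_1 D20040 (iv D20040) F60587
theorem F86503 : act 4 n20040 = n13792 := d34_1 D20040 (iv D13792) (iv F60588)
theorem F86504 : act 6 n20040 = n13790 := d41_1 D20040 (iv D13790) (iv F60589)
def n20041 : Q := act 2 n13789
theorem D20041 : act 2 n13789 = n20041 := rfl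
theorem F86505 : act 0 n20041 = n20041 := d1_1 D20041 (iv D20041) F60590
theorem F86506 : act 4 n20041 = n20041 := d18_2 F60591 D20041 (iv D20041)
theorem F86507 : act 5 n20041 = n14605 := d19_2 (iv F60592) D20041 (iv D14605)
theorem F86508 : act 7 n20041 = n13867 := d21_2 (iv F60593) D20041 (iv D13867)
theorem F86509 : act 8 n20041 = n20041 := d22_2 F60594 D20041 (iv D20041)
def n20042 : Q := act 9 n13789
theorem D20042 : act 9 n13789 = n20042 := rfl
theorem F86510 : act 0 n20042 = n20042 := d8_1 D20042 (iv D20042) F60590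
theorem F86511 : act 3 n20042 = n13790 := d29_1 D20042 (iv D13790) D13789
theorem F86512 : act 4 n20042 = n20042 := d34_1 D20042 (iv D20042) F60591
theorem F86513 : act 5 n20042 = n14606 := d38_1 D20042 (iv D14606) (iv F60592)
theorem F86514 : act 7 n20042 = n13868 := d43_1 D20042 (iv D13868) (iv F60593)
def n20043 : Q := act 9 n13791
theorem D20043 : act 9 n13791 = n20043 := rfl
theorem F86515 : act 0 n20043 = n20043 := d8_1 D20043 (iv D20043) F60599
theorem F86516 : act 3 n20043 = n20043 := d29_1 D20043 (iv D20043) F60600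
theorem F86517 : act 5 n20043 = n20043 := d38_1 D20043 (iv D20043) F60601
theorem F86518 : act 6 n20043 = n13869 := d41_1 D20043 (iv D13869) (iv F60602)
theorem F86519 : act 7 n20043 = n13792 := d43_1 D20043 (iv D13792) (iv F60603)
def n20044 : Q := act 1 n13793
theorem D20044 : act 1 n13793 = n20044 := rfl
theorem F86520 : act 0 n20044 = n20044 := d0_1 D20044 (iv D20044) F60608 F42647 (iv F60608)
theorem F86521 : act 2 n20044 = n20044 := d9_2 D13793 D20044 (iv D20044) (iv D13793) F42637
theorem F86522 : act 3 n20044 = n20044 := d10_2 F60609 D20044 (iv D20044)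
theorem F86523 : act 4 n20044 = n20044 := d11_2 F60610 D20044 (iv D20044)
theorem F86524 : act 6 n20044 = n13870 := d13_2 (iv F60611) D20044 (iv D13870)
theorem F86525 : act 9 n20044 = n20044 := d16_2 F60612 D20044 (iv D20044)
def n20045 : Q := act 5 n13793
theorem D20045 : act 5 n13793 = n20045 := rfl
theorem F86526 : act 0 n20045 = n13797 := d4_1 D20045 (iv D13797) (iv F60608)
theorem F86527 : act 2 n20045 = n13794 := d19_1 D20045 (iv D13794) D13793
theorem F86528 : act 3 n20045 = n20045 := d25_1 D20045 (iv D20045) F60609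
theorem F86529 : act 9 n20045 = n20045 := d38_2 F60612 D20045 (iv D20045)
def n20046 : Q := act 8 n13793
theorem D20046 : act 8 n13793 = n20046 := rfl
theorem F86530 : act 0 n20046 = n13798 := d7_1 D20046 (iv D13798) (iv F60608)
theorem F86531 : act 2 n20046 = n13795 := d22_1 D20046 (iv D13795) D13793
theorem F86532 : act 4 n20046 = n20046 := d33_1 D20046 (iv D20046) F60610
theorem F86533 : act 6 n20046 = n13872 := d40_1 D20046 (iv D13872) (iv F60611)
def n20047 : Q := act 4 n13794
theorem D20047 : act 4 n13794 = n20047 := rfl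
theorem F86534 : act 0 n20047 = n13799 := d3_1 D20047 (iv D13799) (iv F60613)
theorem F86535 : act 1 n20047 = n20047 := d11_1 D20047 (iv D20047) F60614
theorem F86536 : act 3 n20047 = n20047 := d24_1 D20047 (iv D20047) F60615 F42644 (iv F60615)
theorem F86537 : act 5 n20047 = n20047 := d30_2 D13794 D20047 (iv D20047) (iv D13794) F42638
theorem F86538 : act 9 n20047 = n20047 := d34_2 F60616 D20047 (iv D20047)
def n20048 : Q := act 6 n13794
theorem D20048 : act 6 n13794 = n20048 := rfl
theorem F86539 : act 0 n20048 = n13800 := d5_1 D20048 (iv D13800) (iv F60613)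
theorem F86540 : act 1 n20048 = n20048 := d13_1 D20048 (iv D20048) F60614
theorem F86541 : act 3 n20048 = n13796 := d26_1 D20048 (iv D13796) (iv F60615)
theorem F86542 : act 5 n20048 = n13874 := d35_1 D20048 (iv D13874) (iv D9563) (iv F42639) D13794
theorem F86543 : act 9 n20048 = n20048 := d41_2 F60616 D20048 (iv D20048)
def n20049 : Q := act 8 n13794
theorem D20049 : act 8 n13794 = n20049 := rfl
theorem F86544 : act 0 n20049 = n13801 := d7_1 D20049 (iv D13801) (iv F60613)
theorem F86545 : act 1 n20049 = n20049 := d15_1 D20049 (iv D20049) F60614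
theorem F86546 : act 3 n20049 = n13814 := d28_1 D20049 (iv D13814) F42698 (iv F42645) (iv F60615)
theorem F86547 : act 5 n20049 = n13795 := d37_1 D20049 (iv D13795) D13794
def n20050 : Q := act 9 n13795
theorem D20050 : act 9 n13795 = n20050 := rfl
theorem F86548 : act 0 n20050 = n13802 := d8_1 D20050 (iv D13802) (iv F60617)
theorem F86549 : act 1 n20050 = n20050 := d16_1 D20050 (iv D20050) F60618
theorem F86550 : act 3 n20050 = n13815 := d29_1 D20050 (iv D13815) (iv F60619)
theorem F86551 : act 4 n20050 = n20050 := d34_1 D20050 (iv D20050) F60620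
theorem F86552 : act 6 n20050 = n13876 := d41_1 D20050 (iv D13876) (iv F60621)
theorem F86553 : act 8 n20050 = n20050 := d44_1 D20050 (iv D20050) (iv D13795) F42640 D13795
def n20051 : Q := act 7 n13796
theorem D20051 : act 7 n13796 = n20051 := rfl
theorem F86554 : act 0 n20051 = n13803 := d6_1 D20051 (iv D13803) (iv F60622)
theorem F86555 : act 1 n20051 = n20051 := d14_1 D20051 (iv D20051) F60623
theorem F86556 : act 2 n20051 = n20051 := d21_1 D20051 (iv D20051) F60624
theorem F86557 : act 4 n20051 = n20051 := d32_1 D20051 (iv D20051) F60625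
theorem F86558 : act 5 n20051 = n13877 := d36_1 D20051 (iv D13877) (iv F60626)
theorem F86559 : act 8 n20051 = n13816 := d42_2 (iv F60627) D20051 (iv D13816)
theorem F86560 : act 9 n20051 = n20051 := d43_2 F60628 D20051 (iv D20051)
def n20052 : Q := act 4 n13797
theorem D20052 : act 4 n13797 = n20052 := rfl
theorem F86561 : act 1 n20052 = n20052 := d11_1 D20052 (iv D20052) F60629
theorem F86562 : act 2 n20052 = n13799 := d18_1 D20052 (iv D13799) (iv F60630)
theorem F86563 : act 5 n20052 = n20052 := d30_2 D13797 D20052 (iv D20052) (iv D13797) F42649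
theorem F86564 : act 9 n20052 = n20052 := d34_2 F60632 D20052 (iv D20052)
def n20053 : Q := act 6 n13797
theorem D20053 : act 6 n13797 = n20053 := rfl
theorem F86565 : act 1 n20053 = n20053 := d13_1 D20053 (iv D20053) F60629
theorem F86566 : act 2 n20053 = n13800 := d20_1 D20053 (iv D13800) (iv F60630)
theorem F86567 : act 3 n20053 = n20053 := d26_1 D20053 (iv D20053) F60631
theorem F86568 : act 5 n20053 = n13879 := d35_1 D20053 (iv D13879) (iv D9566) (iv F42650) D13797
theorem F86569 : act 9 n20053 = n20053 := d41_2 F60632 D20053 (iv D20053)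
def n20054 : Q := act 8 n13797
theorem D20054 : act 8 n13797 = n20054 := rfl
theorem F86570 : act 1 n20054 = n20054 := d15_1 D20054 (iv D20054) F60629
theorem F86571 : act 2 n20054 = n13801 := d22_1 D20054 (iv D13801) (iv F60630)
theorem F86572 : act 5 n20054 = n13798 := d37_1 D20054 (iv D13798) D13797
def n20055 : Q := act 3 n13798
theorem D20055 : act 3 n13798 = n20055 := rfl
theorem F86573 : act 1 n20055 = n20055 := d10_1 D20055 (iv D20055) F60633
theorem F86574 : act 2 n20055 = n13820 := d17_1 D20055 (iv D13820) F42713 (iv F42656) (iv F60634)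
theorem F86575 : act 6 n20055 = n13881 := d26_2 (iv F60636) D20055 (iv D13881)
theorem F86576 : act 8 n20055 = n20055 := d28_2 D13798 D20055 (iv D20055) (iv D13798) F42648
def n20056 : Q := act 9 n13798
theorem D20056 : act 9 n13798 = n20056 := rfl
theorem F86577 : act 1 n20056 = n20056 := d16_1 D20056 (iv D20056) F60633
theorem F86578 : act 2 n20056 = n13802 := d23_1 D20056 (iv D13802) (iv F60634)
theorem F86579 : act 4 n20056 = n20056 := d34_1 D20056 (iv D20056) F60635
theorem F86580 : act 6 n20056 = n13882 := d41_1 D20056 (iv D13882) (iv F60636)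
theorem F86581 : act 8 n20056 = n20056 := d44_1 D20056 (iv D20056) (iv D13798) F42651 D13798
def n20057 : Q := act 6 n13799
theorem D20057 : act 6 n13799 = n20057 := rfl
theorem F86582 : act 1 n20057 = n13804 := d13_1 D20057 (iv D13804) (iv F60637)
theorem F86583 : act 3 n20057 = n20057 := d26_1 D20057 (iv D20057) F60638
theorem F86584 : act 4 n20057 = n13800 := d31_1 D20057 (iv D13800) D13799
theorem F86585 : act 9 n20057 = n20057 := d41_2 F60640 D20057 (iv D20057)
def n20058 : Q := act 8 n13799
theorem D20058 : act 8 n13799 = n20058 := rfl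
theorem F86586 : act 1 n20058 = n13805 := d15_1 D20058 (iv D13805) (iv F60637)
theorem F86587 : act 4 n20058 = n13801 := d33_1 D20058 (iv D13801) D13799
theorem F86588 : act 5 n20058 = n20058 := d37_1 D20058 (iv D20058) F60639
def n20059 : Q := act 7 n13800
theorem D20059 : act 7 n13800 = n20059 := rfl
theorem F86589 : act 1 n20059 = n13806 := d14_1 D20059 (iv D13806) (iv F60641)
theorem F86590 : act 3 n20059 = n13803 := d27_1 D20059 (iv D13803) (iv F60642)
theorem F86591 : act 5 n20059 = n13885 := d36_1 D20059 (iv D13885) (iv F60643)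
theorem F86592 : act 9 n20059 = n20059 := d43_2 F60644 D20059 (iv D20059)
def n20060 : Q := act 8 n13800
theorem D20060 : act 8 n13800 = n20060 := rfl
theorem F86593 : act 1 n20060 = n13807 := d15_1 D20060 (iv D13807) (iv F60641)
theorem F86594 : act 3 n20060 = n13825 := d28_1 D20060 (iv D13825) F42721 (iv F42663) (iv F60642)
theorem F86595 : act 5 n20060 = n13886 := d37_1 D20060 (iv D13886) (iv F60643)
theorem F86596 : act 6 n20060 = n13801 := d40_1 D20060 (iv D13801) D13800
def n20061 : Q := act 9 n13801
theorem D20061 : act 9 n13801 = n20061 := rfl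
theorem F86597 : act 1 n20061 = n13808 := d16_1 D20061 (iv D13808) (iv F60645)
theorem F86598 : act 3 n20061 = n13826 := d29_1 D20061 (iv D13826) (iv F60646)
theorem F86599 : act 5 n20061 = n13802 := d38_1 D20061 (iv D13802) (iv F60647)
theorem F86600 : act 8 n20061 = n20061 := d44_1 D20061 (iv D20061) (iv D13801) F42654 D13801
def n20062 : Q := act 5 n13804
theorem D20062 : act 5 n13804 = n20062 := rfl
theorem F86601 : act 0 n20062 = n20062 := d4_1 D20062 (iv D20062) F60659
theorem F86602 : act 2 n20062 = n20062 := d19_1 D20062 (iv D20062) F60660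
theorem F86603 : act 3 n20062 = n20062 := d25_1 D20062 (iv D20062) F60661
theorem F86604 : act 4 n20062 = n13888 := d30_1 D20062 (iv D13888) F42896 (iv F42673) (iv F60662)
theorem F86605 : act 6 n20062 = n20062 := d35_2 D13804 D20062 (iv D20062) (iv D13804) F42668
theorem F86606 : act 9 n20062 = n20062 := d38_2 F60663 D20062 (iv D20062)
def n20063 : Q := act 7 n13804
theorem D20063 : act 7 n13804 = n20063 := rfl
theorem F86607 : act 0 n20063 = n20063 := d6_1 D20063 (iv D20063) F60659
theorem F86608 : act 2 n20063 = n20063 := d21_1 D20063 (iv D20063) F60660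
theorem F86609 : act 3 n20063 = n20063 := d27_1 D20063 (iv D20063) F60661
theorem F86610 : act 4 n20063 = n13806 := d32_1 D20063 (iv D13806) (iv F60662)
theorem F86611 : act 9 n20063 = n20063 := d43_2 F60663 D20063 (iv D20063)
def n20064 : Q := act 8 n13804
theorem D20064 : act 8 n13804 = n20064 := rfl
theorem F86612 : act 0 n20064 = n20064 := d7_1 D20064 (iv D20064) F60659
theorem F86613 : act 2 n20064 = n20064 := d22_1 D20064 (iv D20064) F60660
theorem F86614 : act 4 n20064 = n13807 := d33_1 D20064 (iv D13807) (iv F60662)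
theorem F86615 : act 6 n20064 = n13805 := d40_1 D20064 (iv D13805) D13804
def n20065 : Q := act 3 n13805
theorem D20065 : act 3 n13805 = n20065 := rfl
theorem F86616 : act 0 n20065 = n20065 := d2_1 D20065 (iv D20065) F60664
theorem F86617 : act 4 n20065 = n13830 := d24_2 (iv F60666) D20065 (iv D13830) F42740 (iv F42677)
theorem F86618 : act 5 n20065 = n20065 := d25_2 F60667 D20065 (iv D20065)
theorem F86619 : act 8 n20065 = n20065 := d28_2 D13805 D20065 (iv D20065) (iv D13805) F42667
def n20066 : Q := act 9 n13805
theorem D20066 : act 9 n13805 = n20066 := rfl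
theorem F86620 : act 0 n20066 = n20066 := d8_1 D20066 (iv D20066) F60664
theorem F86621 : act 2 n20066 = n20066 := d23_1 D20066 (iv D20066) F60665
theorem F86622 : act 4 n20066 = n13808 := d34_1 D20066 (iv D13808) (iv F60666)
theorem F86623 : act 5 n20066 = n20066 := d38_1 D20066 (iv D20066) F60667
theorem F86624 : act 8 n20066 = n20066 := d44_1 D20066 (iv D20066) (iv D13805) F42669 D13805
def n20067 : Q := act 8 n13806
theorem D20067 : act 8 n13806 = n20067 := rfl
theorem F86625 : act 0 n20067 = n20067 := d7_1 D20067 (iv D20067) F60668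
theorem F86626 : act 2 n20067 = n20067 := d22_1 D20067 (iv D20067) F60669
theorem F86627 : act 3 n20067 = n13832 := d28_1 D20067 (iv D13832) F42743 (iv F42689) (iv F60670)
theorem F86628 : act 5 n20067 = n13893 := d37_1 D20067 (iv D13893) (iv F60671)
theorem F86629 : act 7 n20067 = n13807 := d42_1 D20067 (iv D13807) D13806
def n20068 : Q := act 9 n13807
theorem D20068 : act 9 n13807 = n20068 := rfl
theorem F86630 : act 0 n20068 = n20068 := d8_1 D20068 (iv D20068) F60673
theorem F86631 : act 2 n20068 = n20068 := d23_1 D20068 (iv D20068) F60674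
theorem F86632 : act 3 n20068 = n13833 := d29_1 D20068 (iv D13833) (iv F60675)
theorem F86633 : act 5 n20068 = n13894 := d38_1 D20068 (iv D13894) (iv F60676)
theorem F86634 : act 6 n20068 = n13808 := d41_1 D20068 (iv D13808) (iv F60677)
theorem F86635 : act 8 n20068 = n20068 := d44_1 D20068 (iv D20068) (iv D13807) F42674 D13807
def n20069 : Q := act 5 n13809
theorem D20069 : act 5 n13809 = n20069 := rfl
theorem F86636 : act 1 n20069 = n13810 := d12_1 D20069 (iv D13810) D13809
theorem F86637 : act 2 n20069 = n20069 := d19_1 D20069 (iv D20069) F60683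
theorem F86638 : act 3 n20069 = n20069 := d25_1 D20069 (iv D20069) F60684
theorem F86639 : act 9 n20069 = n13834 := d38_2 (iv F60687) D20069 (iv D13834)
def n20070 : Q := act 8 n13809
theorem D20070 : act 8 n13809 = n20070 := rfl
theorem F86640 : act 1 n20070 = n13811 := d15_1 D20070 (iv D13811) D13809
theorem F86641 : act 2 n20070 = n20070 := d22_1 D20070 (iv D20070) F60683
theorem F86642 : act 4 n20070 = n14609 := d33_1 D20070 (iv D14609) (iv F60685)
theorem F86643 : act 6 n20070 = n13896 := d40_1 D20070 (iv D13896) (iv F60686)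
def n20071 : Q := act 4 n13810
theorem D20071 : act 4 n13810 = n20071 := rfl
theorem F86644 : act 0 n20071 = n13817 := d3_1 D20071 (iv D13817) (iv F60688)
theorem F86645 : act 2 n20071 = n13812 := d18_1 D20071 (iv D13812) (iv F60689)
theorem F86646 : act 5 n20071 = n14610 := d30_2 D13810 D20071 (iv D14610) (iv D10056) (iv F42693)
theorem F86647 : act 9 n20071 = n13836 := d34_2 (iv F60691) D20071 (iv D13836)
def n20072 : Q := act 6 n13810
theorem D20072 : act 6 n13810 = n20072 := rfl
theorem F86648 : act 0 n20072 = n13818 := d5_1 D20072 (iv D13818) (iv F60688)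
theorem F86649 : act 2 n20072 = n13813 := d20_1 D20072 (iv D13813) (iv F60689)
theorem F86650 : act 3 n20072 = n20072 := d26_1 D20072 (iv D20072) F60690
theorem F86651 : act 5 n20072 = n13898 := d35_1 D20072 (iv D13898) (iv D9579) (iv F42694) D13810
theorem F86652 : act 9 n20072 = n13837 := d41_2 (iv F60691) D20072 (iv D13837)
def n20073 : Q := act 8 n13810
theorem D20073 : act 8 n13810 = n20073 := rfl
theorem F86653 : act 0 n20073 = n13819 := d7_1 D20073 (iv D13819) (iv F60688)
theorem F86654 : act 2 n20073 = n13814 := d22_1 D20073 (iv D13814) (iv F60689)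
theorem F86655 : act 5 n20073 = n13811 := d37_1 D20073 (iv D13811) D13810
def n20074 : Q := act 3 n13811
theorem D20074 : act 3 n13811 = n20074 := rfl
theorem F86656 : act 0 n20074 = n13820 := d2_1 D20074 (iv D13820) (iv F60692)
theorem F86657 : act 6 n20074 = n13900 := d26_2 (iv F60695) D20074 (iv D13900)
theorem F86658 : act 8 n20074 = n20074 := d28_2 D13811 D20074 (iv D20074) (iv D13811) F42692
def n20075 : Q := act 9 n13811
theorem D20075 : act 9 n13811 = n20075 := rfl
theorem F86659 : act 0 n20075 = n13821 := d8_1 D20075 (iv D13821) (iv F60692)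
theorem F86660 : act 2 n20075 = n13815 := d23_1 D20075 (iv D13815) (iv F60693)
theorem F86661 : act 4 n20075 = n14614 := d34_1 D20075 (iv D14614) (iv F60694)
theorem F86662 : act 6 n20075 = n13901 := d41_1 D20075 (iv D13901) (iv F60695)
theorem F86663 : act 8 n20075 = n13840 := d44_1 D20075 (iv D13840) (iv D9539) (iv F42695) D13811
def n20076 : Q := act 6 n13812
theorem D20076 : act 6 n13812 = n20076 := rfl
theorem F86664 : act 0 n20076 = n13822 := d5_1 D20076 (iv D13822) (iv F60696)
theorem F86665 : act 1 n20076 = n20076 := d13_1 D20076 (iv D20076) F60697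
theorem F86666 : act 3 n20076 = n20076 := d26_1 D20076 (iv D20076) F60698
theorem F86667 : act 4 n20076 = n13813 := d31_1 D20076 (iv D13813) D13812
theorem F86668 : act 9 n20076 = n13841 := d41_2 (iv F60700) D20076 (iv D13841)
def n20077 : Q := act 8 n13812
theorem D20077 : act 8 n13812 = n20077 := rfl
theorem F86669 : act 0 n20077 = n13823 := d7_1 D20077 (iv D13823) (iv F60696)
theorem F86670 : act 1 n20077 = n20077 := d15_1 D20077 (iv D20077) F60697
theorem F86671 : act 4 n20077 = n13814 := d33_1 D20077 (iv D13814) D13812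
theorem F86672 : act 5 n20077 = n14616 := d37_1 D20077 (iv D14616) (iv F60699)
def n20078 : Q := act 7 n13813
theorem D20078 : act 7 n13813 = n20078 := rfl
theorem F86673 : act 0 n20078 = n13824 := d6_1 D20078 (iv D13824) (iv F60701)
theorem F86674 : act 1 n20078 = n20078 := d14_1 D20078 (iv D20078) F60702
theorem F86675 : act 3 n20078 = n13816 := d27_1 D20078 (iv D13816) (iv F60703)
theorem F86676 : act 5 n20078 = n13904 := d36_1 D20078 (iv D13904) (iv F60704)
theorem F86677 : act 9 n20078 = n13843 := d43_2 (iv F60705) D20078 (iv D13843)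
def n20079 : Q := act 8 n13813
theorem D20079 : act 8 n13813 = n20079 := rfl
theorem F86678 : act 0 n20079 = n13825 := d7_1 D20079 (iv D13825) (iv F60701)
theorem F86679 : act 1 n20079 = n20079 := d15_1 D20079 (iv D20079) F60702
theorem F86680 : act 5 n20079 = n13905 := d37_1 D20079 (iv D13905) (iv F60704)
theorem F86681 : act 6 n20079 = n13814 := d40_1 D20079 (iv D13814) D13813
def n20080 : Q := act 9 n13814
theorem D20080 : act 9 n13814 = n20080 := rfl
theorem F86682 : act 0 n20080 = n13826 := d8_1 D20080 (iv D13826) (iv F60706)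
theorem F86683 : act 1 n20080 = n20080 := d16_1 D20080 (iv D20080) F60707
theorem F86684 : act 5 n20080 = n13815 := d38_1 D20080 (iv D13815) (iv F60708)
theorem F86685 : act 8 n20080 = n13845 := d44_1 D20080 (iv D13845) (iv D9542) (iv F42699) D13814
def n20081 : Q := act 3 n13817
theorem D20081 : act 3 n13817 = n20081 := rfl
theorem F86686 : act 2 n20081 = n20081 := d17_1 D20081 (iv D20081) F60720 F42717 (iv F60720)
theorem F86687 : act 4 n20081 = n20081 := d24_2 D13817 D20081 (iv D20081) (iv D13817) F42711
theorem F86688 : act 5 n20081 = n14620 := d25_2 (iv F60721) D20081 (iv D14620)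
theorem F86689 : act 9 n20081 = n13846 := d29_2 (iv F60722) D20081 (iv D13846)
def n20082 : Q := act 6 n13817
theorem D20082 : act 6 n13817 = n20082 := rfl
theorem F86690 : act 2 n20082 = n13822 := d20_1 D20082 (iv D13822) (iv F60720)
theorem F86691 : act 4 n20082 = n13818 := d31_1 D20082 (iv D13818) D13817
theorem F86692 : act 9 n20082 = n13847 := d41_2 (iv F60722) D20082 (iv D13847)
def n20083 : Q := act 8 n13817
theorem D20083 : act 8 n13817 = n20083 := rfl
theorem F86693 : act 2 n20083 = n13823 := d22_1 D20083 (iv D13823) (iv F60720)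
theorem F86694 : act 4 n20083 = n13819 := d33_1 D20083 (iv D13819) D13817
theorem F86695 : act 5 n20083 = n14622 := d37_1 D20083 (iv D14622) (iv F60721)
def n20084 : Q := act 7 n13818
theorem D20084 : act 7 n13818 = n20084 := rfl
theorem F86696 : act 2 n20084 = n13824 := d21_1 D20084 (iv D13824) (iv F60723)
theorem F86697 : act 3 n20084 = n20084 := d27_1 D20084 (iv D20084) F60724
theorem F86698 : act 5 n20084 = n13910 := d36_1 D20084 (iv D13910) (iv F60725)
theorem F86699 : act 9 n20084 = n13849 := d43_2 (iv F60726) D20084 (iv D13849)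
def n20085 : Q := act 8 n13818
theorem D20085 : act 8 n13818 = n20085 := rfl
theorem F86700 : act 2 n20085 = n13825 := d22_1 D20085 (iv D13825) (iv F60723)
theorem F86701 : act 5 n20085 = n13911 := d37_1 D20085 (iv D13911) (iv F60725)
theorem F86702 : act 6 n20085 = n13819 := d40_1 D20085 (iv D13819) D13818
def n20086 : Q := act 3 n13819
theorem D20086 : act 3 n13819 = n20086 := rfl
theorem F86703 : act 5 n20086 = n13820 := d25_2 (iv F60728) D20086 (iv D13820)
theorem F86704 : act 8 n20086 = n20086 := d28_2 D13819 D20086 (iv D20086) (iv D13819) F42711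
def n20087 : Q := act 9 n13819
theorem D20087 : act 9 n13819 = n20087 := rfl
theorem F86705 : act 2 n20087 = n13826 := d23_1 D20087 (iv D13826) (iv F60727)
theorem F86706 : act 5 n20087 = n13821 := d38_1 D20087 (iv D13821) (iv F60728)
theorem F86707 : act 8 n20087 = n13852 := d44_1 D20087 (iv D13852) (iv D9547) (iv F42712) D13819
def n20088 : Q := act 4 n13820
theorem D20088 : act 4 n13820 = n20088 := rfl
theorem F86708 : act 3 n20088 = n14627 := d24_1 D20088 (iv D14627) (iv D10066) (iv F42714) D13820
theorem F86709 : act 6 n20088 = n13914 := d31_2 (iv F60729) D20088 (iv D13914)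
theorem F86710 : act 8 n20088 = n20088 := d33_2 F60730 D20088 (iv D20088)
def n20089 : Q := act 9 n13820
theorem D20089 : act 9 n13820 = n20089 := rfl
theorem F86711 : act 3 n20089 = n13821 := d29_1 D20089 (iv D13821) D13820
theorem F86712 : act 6 n20089 = n13915 := d41_1 D20089 (iv D13915) (iv F60729)
def n20090 : Q := act 5 n13822
theorem D20090 : act 5 n13822 = n20090 := rfl
theorem F86713 : act 1 n20090 = n13827 := d12_1 D20090 (iv D13827) (iv F60735)
theorem F86714 : act 3 n20090 = n20090 := d25_1 D20090 (iv D20090) F60736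
theorem F86715 : act 4 n20090 = n13916 := d30_1 D20090 (iv D13916) F42975 (iv F42722) (iv F60737)
theorem F86716 : act 6 n20090 = n14629 := d35_2 D13822 D20090 (iv D14629) (iv D10068) (iv F42718)
theorem F86717 : act 9 n20090 = n13855 := d38_2 (iv F60738) D20090 (iv D13855)
def n20091 : Q := act 7 n13822
theorem D20091 : act 7 n13822 = n20091 := rfl
theorem F86718 : act 1 n20091 = n13828 := d14_1 D20091 (iv D13828) (iv F60735)
theorem F86719 : act 3 n20091 = n20091 := d27_1 D20091 (iv D20091) F60736
theorem F86720 : act 4 n20091 = n13824 := d32_1 D20091 (iv D13824) (iv F60737)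
theorem F86721 : act 9 n20091 = n13856 := d43_2 (iv F60738) D20091 (iv D13856)
def n20092 : Q := act 8 n13822
theorem D20092 : act 8 n13822 = n20092 := rfl
theorem F86722 : act 1 n20092 = n13829 := d15_1 D20092 (iv D13829) (iv F60735)
theorem F86723 : act 4 n20092 = n13825 := d33_1 D20092 (iv D13825) (iv F60737)
theorem F86724 : act 6 n20092 = n13823 := d40_1 D20092 (iv D13823) D13822
def n20093 : Q := act 3 n13823
theorem D20093 : act 3 n13823 = n20093 := rfl
theorem F86725 : act 1 n20093 = n13830 := d10_1 D20093 (iv D13830) (iv F60739)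
theorem F86726 : act 5 n20093 = n14632 := d25_2 (iv F60741) D20093 (iv D14632)
theorem F86727 : act 8 n20093 = n20093 := d28_2 D13823 D20093 (iv D20093) (iv D13823) F42717
def n20094 : Q := act 9 n13823
theorem D20094 : act 9 n13823 = n20094 := rfl
theorem F86728 : act 1 n20094 = n13831 := d16_1 D20094 (iv D13831) (iv F60739)
theorem F86729 : act 4 n20094 = n13826 := d34_1 D20094 (iv D13826) (iv F60740)
theorem F86730 : act 5 n20094 = n14633 := d38_1 D20094 (iv D14633) (iv F60741)
theorem F86731 : act 8 n20094 = n13859 := d44_1 D20094 (iv D13859) (iv D9551) (iv F42719) D13823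
def n20095 : Q := act 8 n13824
theorem D20095 : act 8 n13824 = n20095 := rfl
theorem F86732 : act 1 n20095 = n13832 := d15_1 D20095 (iv D13832) (iv F60742)
theorem F86733 : act 5 n20095 = n13921 := d37_1 D20095 (iv D13921) (iv F60744)
theorem F86734 : act 7 n20095 = n13825 := d42_1 D20095 (iv D13825) D13824
def n20096 : Q := act 9 n13825
theorem D20096 : act 9 n13825 = n20096 := rfl
theorem F86735 : act 1 n20096 = n13833 := d16_1 D20096 (iv D13833) (iv F60746)
theorem F86736 : act 5 n20096 = n13922 := d38_1 D20096 (iv D13922) (iv F60747)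
theorem F86737 : act 6 n20096 = n13826 := d41_1 D20096 (iv D13826) (iv F60748)
theorem F86738 : act 8 n20096 = n13861 := d44_1 D20096 (iv D13861) (iv D9553) (iv F42723) D13825
def n20097 : Q := act 7 n13827
theorem D20097 : act 7 n13827 = n20097 := rfl
theorem F86739 : act 0 n20097 = n20097 := d6_1 D20097 (iv D20097) F60752
theorem F86740 : act 3 n20097 = n20097 := d27_1 D20097 (iv D20097) F60753
theorem F86741 : act 4 n20097 = n13923 := d32_1 D20097 (iv D13923) (iv F60754)
theorem F86742 : act 5 n20097 = n13828 := d36_1 D20097 (iv D13828) D13827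
theorem F86743 : act 9 n20097 = n13862 := d43_2 (iv F60756) D20097 (iv D13862)
def n20098 : Q := act 8 n13827
theorem D20098 : act 8 n13827 = n20098 := rfl
theorem F86744 : act 0 n20098 = n20098 := d7_1 D20098 (iv D20098) F60752
theorem F86745 : act 4 n20098 = n13924 := d33_1 D20098 (iv D13924) (iv F60754)
theorem F86746 : act 5 n20098 = n13829 := d37_1 D20098 (iv D13829) D13827
theorem F86747 : act 6 n20098 = n14637 := d40_1 D20098 (iv D14637) (iv F60755)
def n20099 : Q := act 8 n13828
theorem D20099 : act 8 n13828 = n20099 := rfl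
theorem F86748 : act 0 n20099 = n20099 := d7_1 D20099 (iv D20099) F60757
theorem F86749 : act 4 n20099 = n13832 := d33_1 D20099 (iv D13832) (iv F60759)
theorem F86750 : act 7 n20099 = n13829 := d42_1 D20099 (iv D13829) D13828
def n20100 : Q := act 3 n13829
theorem D20100 : act 3 n13829 = n20100 := rfl
theorem F86751 : act 0 n20100 = n20100 := d2_1 D20100 (iv D20100) F60761
theorem F86752 : act 6 n20100 = n13830 := d26_2 (iv F60763) D20100 (iv D13830)
theorem F86753 : act 8 n20100 = n20100 := d28_2 D13829 D20100 (iv D20100) (iv D13829) F42736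
def n20101 : Q := act 9 n13829
theorem D20101 : act 9 n13829 = n20101 := rfl
theorem F86754 : act 0 n20101 = n20101 := d8_1 D20101 (iv D20101) F60761
theorem F86755 : act 4 n20101 = n13833 := d34_1 D20101 (iv D13833) (iv F60762)
theorem F86756 : act 6 n20101 = n13831 := d41_1 D20101 (iv D13831) (iv F60763)
theorem F86757 : act 8 n20101 = n13866 := d44_1 D20101 (iv D13866) (iv D9557) (iv F42738) D13829
def n20102 : Q := act 2 n13830
theorem D20102 : act 2 n13830 = n20102 := rfl
theorem F86758 : act 0 n20102 = n20102 := d1_1 D20102 (iv D20102) F60764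
theorem F86759 : act 5 n20102 = n14641 := d19_2 (iv F60765) D20102 (iv D14641)
theorem F86760 : act 8 n20102 = n20102 := d22_2 F60766 D20102 (iv D20102)
def n20103 : Q := act 9 n13830
theorem D20103 : act 9 n13830 = n20103 := rfl
theorem F86761 : act 0 n20103 = n20103 := d8_1 D20103 (iv D20103) F60764
theorem F86762 : act 3 n20103 = n13831 := d29_1 D20103 (iv D13831) D13830
theorem F86763 : act 5 n20103 = n14642 := d38_1 D20103 (iv D14642) (iv F60765)
def n20104 : Q := act 9 n13832
theorem D20104 : act 9 n13832 = n20104 := rfl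
theorem F86764 : act 0 n20104 = n20104 := d8_1 D20104 (iv D20104) F60771
theorem F86765 : act 5 n20104 = n13930 := d38_1 D20104 (iv D13930) (iv F60772)
theorem F86766 : act 7 n20104 = n13833 := d43_1 D20104 (iv D13833) (iv F60773)
theorem F86767 : act 8 n20104 = n13869 := d44_1 D20104 (iv D13869) (iv D9560) (iv F42745) D13832
def n20105 : Q := act 4 n13834
theorem D20105 : act 4 n13834 = n20105 := rfl
theorem F86768 : act 1 n20105 = n13836 := d11_1 D20105 (iv D13836) (iv F60778)
theorem F86769 : act 2 n20105 = n20105 := d18_1 D20105 (iv D20105) F60779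
theorem F86770 : act 5 n20105 = n14644 := d30_2 D13834 D20105 (iv D14644) (iv D10080) (iv F42754)
def n20106 : Q := act 6 n13834
theorem D20106 : act 6 n13834 = n20106 := rfl
theorem F86771 : act 1 n20106 = n13837 := d13_1 D20106 (iv D13837) (iv F60778)
theorem F86772 : act 2 n20106 = n20106 := d20_1 D20106 (iv D20106) F60779
theorem F86773 : act 3 n20106 = n20106 := d26_1 D20106 (iv D20106) F60780
theorem F86774 : act 5 n20106 = n13932 := d35_1 D20106 (iv D13932) (iv D9603) (iv F42755) D13834
def n20107 : Q := act 8 n13834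
theorem D20107 : act 8 n13834 = n20107 := rfl
theorem F86775 : act 1 n20107 = n13838 := d15_1 D20107 (iv D13838) (iv F60778)
theorem F86776 : act 2 n20107 = n20107 := d22_1 D20107 (iv D20107) F60779
theorem F86777 : act 5 n20107 = n13835 := d37_1 D20107 (iv D13835) D13834
def n20108 : Q := act 3 n13835
theorem D20108 : act 3 n13835 = n20108 := rfl
theorem F86778 : act 1 n20108 = n13839 := d10_1 D20108 (iv D13839) (iv F60781)
def n20109 : Q := act 9 n13835
theorem D20109 : act 9 n13835 = n20109 := rfl
theorem F86781 : act 1 n20109 = n13840 := d16_1 D20109 (iv D13840) (iv F60781)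
theorem F86782 : act 2 n20109 = n20109 := d23_1 D20109 (iv D20109) F60782
theorem F86784 : act 6 n20109 = n13935 := d41_1 D20109 (iv D13935) (iv F60784)
def n20110 : Q := act 3 n13836
theorem D20110 : act 3 n13836 = n20110 := rfl
theorem F86785 : act 0 n20110 = n13846 := d2_1 D20110 (iv D13846) (iv F60785)
theorem F86786 : act 2 n20110 = n20110 := d17_1 D20110 (iv D20110) F60786 F42765 (iv F60786)
theorem F86787 : act 4 n20110 = n20110 := d24_2 D13836 D20110 (iv D20110) (iv D13836) F42758
theorem F86788 : act 5 n20110 = n14649 := d25_2 (iv F60787) D20110 (iv D14649)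
def n20111 : Q := act 6 n13836
theorem D20111 : act 6 n13836 = n20111 := rfl
theorem F86789 : act 0 n20111 = n13847 := d5_1 D20111 (iv D13847) (iv F60785)
theorem F86790 : act 2 n20111 = n13841 := d20_1 D20111 (iv D13841) (iv F60786)
theorem F86791 : act 4 n20111 = n13837 := d31_1 D20111 (iv D13837) D13836
def n20112 : Q := act 8 n13836
theorem D20112 : act 8 n13836 = n20112 := rfl
theorem F86792 : act 0 n20112 = n13848 := d7_1 D20112 (iv D13848) (iv F60785)
theorem F86793 : act 2 n20112 = n13842 := d22_1 D20112 (iv D13842) (iv F60786)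
theorem F86794 : act 4 n20112 = n13838 := d33_1 D20112 (iv D13838) D13836
theorem F86795 : act 5 n20112 = n14651 := d37_1 D20112 (iv D14651) (iv F60787)
def n20113 : Q := act 7 n13837
theorem D20113 : act 7 n13837 = n20113 := rfl
theorem F86796 : act 0 n20113 = n13849 := d6_1 D20113 (iv D13849) (iv F60788)
theorem F86797 : act 2 n20113 = n13843 := d21_1 D20113 (iv D13843) (iv F60789)
theorem F86798 : act 3 n20113 = n20113 := d27_1 D20113 (iv D20113) F60790
theorem F86799 : act 5 n20113 = n13939 := d36_1 D20113 (iv D13939) (iv F60791)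
def n20114 : Q := act 8 n13837
theorem D20114 : act 8 n13837 = n20114 := rfl
theorem F86800 : act 0 n20114 = n13850 := d7_1 D20114 (iv D13850) (iv F60788)
theorem F86801 : act 2 n20114 = n13844 := d22_1 D20114 (iv D13844) (iv F60789)
theorem F86802 : act 5 n20114 = n13940 := d37_1 D20114 (iv D13940) (iv F60791)
theorem F86803 : act 6 n20114 = n13838 := d40_1 D20114 (iv D13838) D13837
def n20115 : Q := act 3 n13838
theorem D20115 : act 3 n13838 = n20115 := rfl
theorem F86804 : act 0 n20115 = n13851 := d2_1 D20115 (iv D13851) (iv F60792)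
theorem F86805 : act 2 n20115 = n20115 := d17_1 D20115 (iv D20115) F60793 F42773 (iv F60793)
theorem F86806 : act 5 n20115 = n13839 := d25_2 (iv F60794) D20115 (iv D13839)
theorem F86807 : act 8 n20115 = n20115 := d28_2 D13838 D20115 (iv D20115) (iv D13838) F42758
def n20116 : Q := act 9 n13838
theorem D20116 : act 9 n13838 = n20116 := rfl
theorem F86808 : act 0 n20116 = n13852 := d8_1 D20116 (iv D13852) (iv F60792)
theorem F86809 : act 2 n20116 = n13845 := d23_1 D20116 (iv D13845) (iv F60793)
theorem F86810 : act 5 n20116 = n13840 := d38_1 D20116 (iv D13840) (iv F60794)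
def n20117 : Q := act 4 n13839
theorem D20117 : act 4 n13839 = n20117 := rfl
theorem F86811 : act 0 n20117 = n13853 := d3_1 D20117 (iv D13853) (iv F60795)
theorem F86813 : act 3 n20117 = n14656 := d24_1 D20117 (iv D14656) (iv D10085) (iv F42761) D13839
def n20118 : Q := act 9 n13839
theorem D20118 : act 9 n13839 = n20118 := rfl
theorem F86816 : act 0 n20118 = n13854 := d8_1 D20118 (iv D13854) (iv F60795)
theorem F86817 : act 2 n20118 = n20118 := d23_1 D20118 (iv D20118) F60796
theorem F86818 : act 3 n20118 = n13840 := d29_1 D20118 (iv D13840) D13839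
theorem F86819 : act 6 n20118 = n13944 := d41_1 D20118 (iv D13944) (iv F60797)
def n20119 : Q := act 5 n13841
theorem D20119 : act 5 n13841 = n20119 := rfl
theorem F86820 : act 0 n20119 = n13855 := d4_1 D20119 (iv D13855) (iv F60803)
theorem F86821 : act 1 n20119 = n20119 := d12_1 D20119 (iv D20119) F60804
theorem F86822 : act 3 n20119 = n20119 := d25_1 D20119 (iv D20119) F60805
theorem F86823 : act 4 n20119 = n13945 := d30_1 D20119 (iv D13945) F43048 (iv F42770) (iv F60806)
theorem F86824 : act 6 n20119 = n14658 := d35_2 D13841 D20119 (iv D14658) (iv D10087) (iv F42766)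
def n20120 : Q := act 7 n13841
theorem D20120 : act 7 n13841 = n20120 := rfl
theorem F86825 : act 0 n20120 = n13856 := d6_1 D20120 (iv D13856) (iv F60803)
theorem F86826 : act 1 n20120 = n20120 := d14_1 D20120 (iv D20120) F60804
theorem F86827 : act 3 n20120 = n20120 := d27_1 D20120 (iv D20120) F60805
theorem F86828 : act 4 n20120 = n13843 := d32_1 D20120 (iv D13843) (iv F60806)
def n20121 : Q := act 8 n13841
theorem D20121 : act 8 n13841 = n20121 := rfl
theorem F86829 : act 0 n20121 = n13857 := d7_1 D20121 (iv D13857) (iv F60803)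
theorem F86830 : act 1 n20121 = n20121 := d15_1 D20121 (iv D20121) F60804
theorem F86831 : act 4 n20121 = n13844 := d33_1 D20121 (iv D13844) (iv F60806)
theorem F86832 : act 6 n20121 = n13842 := d40_1 D20121 (iv D13842) D13841
def n20122 : Q := act 3 n13842
theorem D20122 : act 3 n13842 = n20122 := rfl
theorem F86833 : act 0 n20122 = n13858 := d2_1 D20122 (iv D13858) (iv F60807)
theorem F86834 : act 1 n20122 = n20122 := d10_1 D20122 (iv D20122) F60808
theorem F86835 : act 4 n20122 = n20122 := d24_2 (iv F60809) D20122 (iv D20122) F60809 F42773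
theorem F86836 : act 5 n20122 = n14661 := d25_2 (iv F60810) D20122 (iv D14661)
theorem F86837 : act 8 n20122 = n20122 := d28_2 D13842 D20122 (iv D20122) (iv D13842) F42765
def n20123 : Q := act 9 n13842
theorem D20123 : act 9 n13842 = n20123 := rfl
theorem F86838 : act 0 n20123 = n13859 := d8_1 D20123 (iv D13859) (iv F60807)
theorem F86839 : act 1 n20123 = n20123 := d16_1 D20123 (iv D20123) F60808
theorem F86840 : act 4 n20123 = n13845 := d34_1 D20123 (iv D13845) (iv F60809)
theorem F86841 : act 5 n20123 = n14662 := d38_1 D20123 (iv D14662) (iv F60810)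
def n20124 : Q := act 8 n13843
theorem D20124 : act 8 n13843 = n20124 := rfl
theorem F86842 : act 0 n20124 = n13860 := d7_1 D20124 (iv D13860) (iv F60811)
theorem F86843 : act 1 n20124 = n20124 := d15_1 D20124 (iv D20124) F60812
theorem F86844 : act 3 n20124 = n20124 := d28_1 D20124 (iv D20124) F60813 F42785 (iv F60813)
theorem F86845 : act 5 n20124 = n13950 := d37_1 D20124 (iv D13950) (iv F60814)
theorem F86846 : act 7 n20124 = n13844 := d42_1 D20124 (iv D13844) D13843
def n20125 : Q := act 9 n13844
theorem D20125 : act 9 n13844 = n20125 := rfl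
theorem F86847 : act 0 n20125 = n13861 := d8_1 D20125 (iv D13861) (iv F60815)
theorem F86848 : act 1 n20125 = n20125 := d16_1 D20125 (iv D20125) F60816
theorem F86849 : act 3 n20125 = n20125 := d29_1 D20125 (iv D20125) F60817
theorem F86850 : act 5 n20125 = n13951 := d38_1 D20125 (iv D13951) (iv F60818)
theorem F86851 : act 6 n20125 = n13845 := d41_1 D20125 (iv D13845) (iv F60819)
def n20126 : Q := act 6 n13846
theorem D20126 : act 6 n13846 = n20126 := rfl
theorem F86852 : act 2 n20126 = n20126 := d20_1 D20126 (iv D20126) F60824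
theorem F86853 : act 3 n20126 = n13847 := d26_1 D20126 (iv D13847) D13846
theorem F86854 : act 4 n20126 = n20126 := d31_1 D20126 (iv D20126) F60825
def n20127 : Q := act 8 n13846
theorem D20127 : act 8 n13846 = n20127 := rfl
theorem F86855 : act 2 n20127 = n20127 := d22_1 D20127 (iv D20127) F60824
theorem F86856 : act 4 n20127 = n20127 := d33_1 D20127 (iv D20127) F60825
theorem F86857 : act 5 n20127 = n14666 := d37_1 D20127 (iv D14666) (iv F60826)
def n20128 : Q := act 5 n13847
theorem D20128 : act 5 n13847 = n20128 := rfl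
theorem F86858 : act 2 n20128 = n13855 := d19_1 D20128 (iv D13855) (iv F60827)
theorem F86859 : act 4 n20128 = n13954 := d30_1 D20128 (iv D13954) F43072 (iv F42790) (iv F60828)
theorem F86860 : act 6 n20128 = n14667 := d35_2 D13847 D20128 (iv D14667) (iv D10093) (iv F42787)
def n20129 : Q := act 7 n13847
theorem D20129 : act 7 n13847 = n20129 := rfl
theorem F86861 : act 2 n20129 = n13856 := d21_1 D20129 (iv D13856) (iv F60827)
theorem F86862 : act 4 n20129 = n13849 := d32_1 D20129 (iv D13849) (iv F60828)
def n20130 : Q := act 8 n13847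
theorem D20130 : act 8 n13847 = n20130 := rfl
theorem F86863 : act 2 n20130 = n13857 := d22_1 D20130 (iv D13857) (iv F60827)
theorem F86864 : act 4 n20130 = n13850 := d33_1 D20130 (iv D13850) (iv F60828)
theorem F86865 : act 6 n20130 = n13848 := d40_1 D20130 (iv D13848) D13847
def n20131 : Q := act 3 n13848
theorem D20131 : act 3 n13848 = n20131 := rfl
theorem F86866 : act 5 n20131 = n14670 := d25_2 (iv F60831) D20131 (iv D14670)
def n20132 : Q := act 9 n13848
theorem D20132 : act 9 n13848 = n20132 := rfl
theorem F86867 : act 2 n20132 = n13859 := d23_1 D20132 (iv D13859) (iv F60829)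
theorem F86868 : act 4 n20132 = n13852 := d34_1 D20132 (iv D13852) (iv F60830)
theorem F86869 : act 5 n20132 = n14671 := d38_1 D20132 (iv D14671) (iv F60831)
def n20133 : Q := act 8 n13849
theorem D20133 : act 8 n13849 = n20133 := rfl
theorem F86870 : act 2 n20133 = n13860 := d22_1 D20133 (iv D13860) (iv F60832)
theorem F86871 : act 5 n20133 = n13959 := d37_1 D20133 (iv D13959) (iv F60834)
theorem F86872 : act 7 n20133 = n13850 := d42_1 D20133 (iv D13850) D13849
def n20134 : Q := act 3 n13850
theorem D20134 : act 3 n13850 = n20134 := rfl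
theorem F86873 : act 2 n20134 = n20134 := d17_1 D20134 (iv D20134) F60835 F42809 (iv F60835)
theorem F86874 : act 5 n20134 = n13960 := d25_2 (iv F60836) D20134 (iv D13960)
theorem F86875 : act 6 n20134 = n13851 := d26_2 (iv F60837) D20134 (iv D13851)
theorem F86876 : act 8 n20134 = n20134 := d28_2 D13850 D20134 (iv D20134) (iv D13850) F42789
def n20135 : Q := act 9 n13850
theorem D20135 : act 9 n13850 = n20135 := rfl
theorem F86877 : act 2 n20135 = n13861 := d23_1 D20135 (iv D13861) (iv F60835)
theorem F86878 : act 5 n20135 = n13961 := d38_1 D20135 (iv D13961) (iv F60836)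
theorem F86879 : act 6 n20135 = n13852 := d41_1 D20135 (iv D13852) (iv F60837)
def n20136 : Q := act 4 n13851
theorem D20136 : act 4 n13851 = n20136 := rfl
theorem F86880 : act 2 n20136 = n20136 := d18_1 D20136 (iv D20136) F60838
theorem F86881 : act 8 n20136 = n20136 := d33_2 F60840 D20136 (iv D20136)
def n20137 : Q := act 9 n13851
theorem D20137 : act 9 n13851 = n20137 := rfl
theorem F86882 : act 2 n20137 = n20137 := d23_1 D20137 (iv D20137) F60838
theorem F86883 : act 3 n20137 = n13852 := d29_1 D20137 (iv D13852) D13851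
theorem F86884 : act 5 n20137 = n13854 := d38_1 D20137 (iv D13854) (iv F60839)
def n20138 : Q := act 5 n13853
theorem D20138 : act 5 n13853 = n20138 := rfl
theorem F86885 : act 2 n20138 = n20138 := d19_1 D20138 (iv D20138) F60843
theorem F86886 : act 3 n20138 = n14677 := d25_1 D20138 (iv D14677) (iv F60844)
theorem F86887 : act 8 n20138 = n20138 := d37_2 F60846 D20138 (iv D20138)
def n20139 : Q := act 9 n13853
theorem D20139 : act 9 n13853 = n20139 := rfl
theorem F86888 : act 2 n20139 = n20139 := d23_1 D20139 (iv D20139) F60843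
theorem F86889 : act 3 n20139 = n14678 := d29_1 D20139 (iv D14678) (iv F60844)
theorem F86890 : act 4 n20139 = n13854 := d34_1 D20139 (iv D13854) D13853
theorem F86891 : act 6 n20139 = n13965 := d41_1 D20139 (iv D13965) (iv F60845)
def n20140 : Q := act 8 n13854
theorem D20140 : act 8 n13854 = n20140 := rfl
theorem F86892 : act 2 n20140 = n20140 := d22_1 D20140 (iv D20140) F60847
theorem F86893 : act 6 n20140 = n13966 := d40_1 D20140 (iv D13966) (iv F60849)
theorem F86894 : act 9 n20140 = n20140 := d44_2 D13854 D20140 (iv D20140) (iv D13854) F42795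
def n20141 : Q := act 7 n13855
theorem D20141 : act 7 n13855 = n20141 := rfl
theorem F86895 : act 1 n20141 = n13862 := d14_1 D20141 (iv D13862) (iv F60850)
theorem F86896 : act 3 n20141 = n20141 := d27_1 D20141 (iv D20141) F60851
theorem F86897 : act 4 n20141 = n13967 := d32_1 D20141 (iv D13967) (iv F60852)
theorem F86898 : act 5 n20141 = n13856 := d36_1 D20141 (iv D13856) D13855
def n20142 : Q := act 8 n13855
theorem D20142 : act 8 n13855 = n20142 := rfl
theorem F86899 : act 1 n20142 = n13863 := d15_1 D20142 (iv D13863) (iv F60850)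
theorem F86900 : act 4 n20142 = n13968 := d33_1 D20142 (iv D13968) (iv F60852)
theorem F86901 : act 5 n20142 = n13857 := d37_1 D20142 (iv D13857) D13855
theorem F86902 : act 6 n20142 = n14681 := d40_1 D20142 (iv D14681) (iv F60853)
def n20143 : Q := act 8 n13856
theorem D20143 : act 8 n13856 = n20143 := rfl
theorem F86903 : act 1 n20143 = n13864 := d15_1 D20143 (iv D13864) (iv F60854)
theorem F86904 : act 4 n20143 = n13860 := d33_1 D20143 (iv D13860) (iv F60856)
theorem F86905 : act 7 n20143 = n13857 := d42_1 D20143 (iv D13857) D13856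
def n20144 : Q := act 3 n13857
theorem D20144 : act 3 n13857 = n20144 := rfl
theorem F86906 : act 1 n20144 = n13865 := d10_1 D20144 (iv D13865) (iv F60857)
theorem F86907 : act 4 n20144 = n20144 := d24_2 (iv F60858) D20144 (iv D20144) F60858 F42809
theorem F86908 : act 6 n20144 = n13858 := d26_2 (iv F60859) D20144 (iv D13858)
theorem F86909 : act 8 n20144 = n20144 := d28_2 D13857 D20144 (iv D20144) (iv D13857) F42800
def n20145 : Q := act 9 n13857
theorem D20145 : act 9 n13857 = n20145 := rfl
theorem F86910 : act 1 n20145 = n13866 := d16_1 D20145 (iv D13866) (iv F60857)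
theorem F86911 : act 4 n20145 = n13861 := d34_1 D20145 (iv D13861) (iv F60858)
theorem F86912 : act 6 n20145 = n13859 := d41_1 D20145 (iv D13859) (iv F60859)
def n20146 : Q := act 2 n13858
theorem D20146 : act 2 n13858 = n20146 := rfl
theorem F86913 : act 4 n20146 = n20146 := d18_2 F60861 D20146 (iv D20146)
theorem F86914 : act 5 n20146 = n14685 := d19_2 (iv F60862) D20146 (iv D14685)
theorem F86915 : act 8 n20146 = n20146 := d22_2 F60863 D20146 (iv D20146)
def n20147 : Q := act 9 n13858
theorem D20147 : act 9 n13858 = n20147 := rfl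
theorem F86916 : act 1 n20147 = n13868 := d16_1 D20147 (iv D13868) (iv F60860)
theorem F86917 : act 3 n20147 = n13859 := d29_1 D20147 (iv D13859) D13858
theorem F86918 : act 4 n20147 = n20147 := d34_1 D20147 (iv D20147) F60861
theorem F86919 : act 5 n20147 = n14686 := d38_1 D20147 (iv D14686) (iv F60862)
def n20148 : Q := act 9 n13860
theorem D20148 : act 9 n13860 = n20148 := rfl
theorem F86920 : act 1 n20148 = n13869 := d16_1 D20148 (iv D13869) (iv F60867)
theorem F86921 : act 3 n20148 = n20148 := d29_1 D20148 (iv D20148) F60868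
theorem F86922 : act 5 n20148 = n13974 := d38_1 D20148 (iv D13974) (iv F60869)
theorem F86923 : act 7 n20148 = n13861 := d43_1 D20148 (iv D13861) (iv F60870)
def n20149 : Q := act 6 n13862
theorem D20149 : act 6 n13862 = n20149 := rfl
theorem F86924 : act 0 n20149 = n20149 := d5_1 D20149 (iv D20149) F60875
theorem F86925 : act 3 n20149 = n20149 := d26_1 D20149 (iv D20149) F60876
theorem F86926 : act 4 n20149 = n13975 := d31_1 D20149 (iv D13975) (iv F60877)
theorem F86927 : act 7 n20149 = n14688 := d39_2 D13862 D20149 (iv D14688) (iv D10108) (iv F42818)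
def n20150 : Q := act 8 n13862
theorem D20150 : act 8 n13862 = n20150 := rfl
theorem F86928 : act 0 n20150 = n20150 := d7_1 D20150 (iv D20150) F60875
theorem F86929 : act 4 n20150 = n13976 := d33_1 D20150 (iv D13976) (iv F60877)
theorem F86930 : act 5 n20150 = n13864 := d37_1 D20150 (iv D13864) (iv F60878)
theorem F86931 : act 7 n20150 = n13863 := d42_1 D20150 (iv D13863) D13862
def n20151 : Q := act 3 n13863
theorem D20151 : act 3 n13863 = n20151 := rfl
theorem F86932 : act 0 n20151 = n20151 := d2_1 D20151 (iv D20151) F60879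
theorem F86933 : act 5 n20151 = n13865 := d25_2 (iv F60881) D20151 (iv D13865)
theorem F86934 : act 6 n20151 = n14690 := d26_2 (iv F60882) D20151 (iv D14690)
theorem F86935 : act 8 n20151 = n20151 := d28_2 D13863 D20151 (iv D20151) (iv D13863) F42816
def n20152 : Q := act 9 n13863
theorem D20152 : act 9 n13863 = n20152 := rfl
theorem F86936 : act 0 n20152 = n20152 := d8_1 D20152 (iv D20152) F60879
theorem F86937 : act 4 n20152 = n13978 := d34_1 D20152 (iv D13978) (iv F60880)
theorem F86938 : act 5 n20152 = n13866 := d38_1 D20152 (iv D13866) (iv F60881)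
theorem F86939 : act 6 n20152 = n14691 := d41_1 D20152 (iv D14691) (iv F60882)
def n20153 : Q := act 3 n13864
theorem D20153 : act 3 n13864 = n20153 := rfl
theorem F86940 : act 0 n20153 = n20153 := d2_1 D20153 (iv D20153) F60883
theorem F86941 : act 4 n20153 = n20153 := d24_2 (iv F60884) D20153 (iv D20153) F60884 F42833
theorem F86942 : act 7 n20153 = n13865 := d27_2 (iv F60885) D20153 (iv D13865)
theorem F86943 : act 8 n20153 = n20153 := d28_2 D13864 D20153 (iv D20153) (iv D13864) F42820
def n20154 : Q := act 9 n13864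
theorem D20154 : act 9 n13864 = n20154 := rfl
theorem F86944 : act 0 n20154 = n20154 := d8_1 D20154 (iv D20154) F60883
theorem F86945 : act 4 n20154 = n13869 := d34_1 D20154 (iv D13869) (iv F60884)
theorem F86946 : act 7 n20154 = n13866 := d43_1 D20154 (iv D13866) (iv F60885)
def n20155 : Q := act 2 n13865
theorem D20155 : act 2 n13865 = n20155 := rfl
theorem F86947 : act 0 n20155 = n20155 := d1_1 D20155 (iv D20155) F60886
theorem F86948 : act 4 n20155 = n20155 := d18_2 F60887 D20155 (iv D20155)
theorem F86949 : act 6 n20155 = n13867 := d20_2 (iv F60888) D20155 (iv D13867)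
theorem F86950 : act 8 n20155 = n20155 := d22_2 F60889 D20155 (iv D20155)
def n20156 : Q := act 9 n13865
theorem D20156 : act 9 n13865 = n20156 := rfl
theorem F86951 : act 0 n20156 = n20156 := d8_1 D20156 (iv D20156) F60886
theorem F86952 : act 3 n20156 = n13866 := d29_1 D20156 (iv D13866) D13865
theorem F86953 : act 4 n20156 = n20156 := d34_1 D20156 (iv D20156) F60887
theorem F86954 : act 6 n20156 = n13868 := d41_1 D20156 (iv D13868) (iv F60888)
def n20157 : Q := act 1 n13867
theorem D20157 : act 1 n13867 = n20157 := rfl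
theorem F86955 : act 4 n20157 = n20157 := d11_2 F60894 D20157 (iv D20157)
theorem F86956 : act 5 n20157 = n14696 := d12_2 (iv F60895) D20157 (iv D14696)
theorem F86957 : act 8 n20157 = n20157 := d15_2 F60896 D20157 (iv D20157)
def n20158 : Q := act 9 n13867
theorem D20158 : act 9 n13867 = n20158 := rfl
theorem F86958 : act 0 n20158 = n20158 := d8_1 D20158 (iv D20158) F60893
theorem F86959 : act 2 n20158 = n13868 := d23_1 D20158 (iv D13868) D13867
theorem F86960 : act 4 n20158 = n20158 := d34_1 D20158 (iv D20158) F60894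
theorem F86961 : act 5 n20158 = n14697 := d38_1 D20158 (iv D14697) (iv F60895)
def n20159 : Q := act 8 n13868
theorem D20159 : act 8 n13868 = n20159 := rfl
theorem F86962 : act 0 n20159 = n20159 := d7_1 D20159 (iv D20159) F60897
theorem F86963 : act 4 n20159 = n20159 := d33_1 D20159 (iv D20159) F60899
theorem F86964 : act 5 n20159 = n14698 := d37_1 D20159 (iv D14698) (iv F60900)
theorem F86965 : act 9 n20159 = n20159 := d44_2 D13868 D20159 (iv D20159) (iv D13868) F42828
def n20160 : Q := act 5 n13870
theorem D20160 : act 5 n13870 = n20160 := rfl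
theorem F86966 : act 0 n20160 = n20160 := d4_1 D20160 (iv D20160) F60905
theorem F86967 : act 1 n20160 = n13871 := d12_1 D20160 (iv D13871) D13870
theorem F86968 : act 2 n20160 = n20160 := d19_1 D20160 (iv D20160) F60906
theorem F86969 : act 3 n20160 = n20160 := d25_1 D20160 (iv D20160) F60907
theorem F86970 : act 7 n20160 = n20160 := d36_2 F60909 D20160 (iv D20160)
theorem F86971 : act 9 n20160 = n20160 := d38_2 F60910 D20160 (iv D20160)
def n20161 : Q := act 8 n13870
theorem D20161 : act 8 n13870 = n20161 := rfl
theorem F86972 : act 0 n20161 = n20161 := d7_1 D20161 (iv D20161) F60905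
theorem F86973 : act 1 n20161 = n13872 := d15_1 D20161 (iv D13872) D13870
theorem F86974 : act 2 n20161 = n20161 := d22_1 D20161 (iv D20161) F60906
theorem F86975 : act 4 n20161 = n20161 := d33_1 D20161 (iv D20161) F60908
theorem F86976 : act 7 n20161 = n20161 := d42_1 D20161 (iv D20161) F60909
def n20162 : Q := act 4 n13871
theorem D20162 : act 4 n13871 = n20162 := rfl
theorem F86977 : act 0 n20162 = n13878 := d3_1 D20162 (iv D13878) (iv F60911)
theorem F86978 : act 2 n20162 = n13873 := d18_1 D20162 (iv D13873) (iv F60912)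
def n20163 : Q := act 6 n13871
theorem D20163 : act 6 n13871 = n20163 := rfl
theorem F86982 : act 0 n20163 = n13879 := d5_1 D20163 (iv D13879) (iv F60911)
theorem F86983 : act 2 n20163 = n13874 := d20_1 D20163 (iv D13874) (iv F60912)
theorem F86984 : act 3 n20163 = n20163 := d26_1 D20163 (iv D20163) F60913
theorem F86985 : act 9 n20163 = n20163 := d41_2 F60915 D20163 (iv D20163)
def n20164 : Q := act 8 n13871
theorem D20164 : act 8 n13871 = n20164 := rfl
theorem F86986 : act 0 n20164 = n13880 := d7_1 D20164 (iv D13880) (iv F60911)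
theorem F86987 : act 2 n20164 = n13875 := d22_1 D20164 (iv D13875) (iv F60912)
theorem F86988 : act 5 n20164 = n13872 := d37_1 D20164 (iv D13872) D13871
theorem F86989 : act 7 n20164 = n20164 := d42_1 D20164 (iv D20164) F60914
def n20165 : Q := act 3 n13872
theorem D20165 : act 3 n13872 = n20165 := rfl
theorem F86990 : act 0 n20165 = n13881 := d2_1 D20165 (iv D13881) (iv F60916)
theorem F86991 : act 2 n20165 = n13900 := d17_1 D20165 (iv D13900) F42929 (iv F42852) (iv F60917)
theorem F86992 : act 7 n20165 = n20165 := d27_2 F60919 D20165 (iv D20165)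
theorem F86993 : act 8 n20165 = n20165 := d28_2 D13872 D20165 (iv D20165) (iv D13872) F42841
def n20166 : Q := act 9 n13872
theorem D20166 : act 9 n13872 = n20166 := rfl
theorem F86994 : act 0 n20166 = n13882 := d8_1 D20166 (iv D13882) (iv F60916)
theorem F86995 : act 2 n20166 = n13876 := d23_1 D20166 (iv D13876) (iv F60917)
theorem F86996 : act 4 n20166 = n20166 := d34_1 D20166 (iv D20166) F60918
theorem F86997 : act 7 n20166 = n20166 := d43_1 D20166 (iv D20166) F60919
theorem F86998 : act 8 n20166 = n20166 := d44_1 D20166 (iv D20166) (iv D13872) F42844 D13872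
def n20167 : Q := act 6 n13873
theorem D20167 : act 6 n13873 = n20167 := rfl
theorem F87001 : act 3 n20167 = n14018 := d26_1 D20167 (iv D14018) (iv F60922)
theorem F87002 : act 4 n20167 = n13874 := d31_1 D20167 (iv D13874) D13873
def n20168 : Q := act 8 n13873
theorem D20168 : act 8 n13873 = n20168 := rfl
def n20169 : Q := act 7 n13874
theorem D20169 : act 7 n13874 = n20169 := rfl
theorem F87009 : act 0 n20169 = n13885 := d6_1 D20169 (iv D13885) (iv F60926)
theorem F87010 : act 1 n20169 = n20169 := d14_1 D20169 (iv D20169) F60927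
theorem F87011 : act 3 n20169 = n13877 := d27_1 D20169 (iv D13877) (iv F60928)
theorem F87012 : act 6 n20169 = n20169 := d39_1 D20169 (iv D20169) (iv D13874) F42848 D13874
theorem F87013 : act 9 n20169 = n20169 := d43_2 F60929 D20169 (iv D20169)
def n20170 : Q := act 8 n13874
theorem D20170 : act 8 n13874 = n20170 := rfl
theorem F87014 : act 0 n20170 = n13886 := d7_1 D20170 (iv D13886) (iv F60926)
theorem F87015 : act 1 n20170 = n20170 := d15_1 D20170 (iv D20170) F60927
theorem F87016 : act 3 n20170 = n13905 := d28_1 D20170 (iv D13905) F42940 (iv F42859) (iv F60928)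
theorem F87017 : act 6 n20170 = n13875 := d40_1 D20170 (iv D13875) D13874
def n20171 : Q := act 9 n13875
theorem D20171 : act 9 n13875 = n20171 := rfl
theorem F87018 : act 0 n20171 = n13887 := d8_1 D20171 (iv D13887) (iv F60930)
theorem F87019 : act 1 n20171 = n20171 := d16_1 D20171 (iv D20171) F60931
theorem F87020 : act 3 n20171 = n13906 := d29_1 D20171 (iv D13906) (iv F60932)
theorem F87021 : act 5 n20171 = n13876 := d38_1 D20171 (iv D13876) (iv F60933)
theorem F87022 : act 7 n20171 = n20171 := d43_1 D20171 (iv D20171) F60934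
theorem F87023 : act 8 n20171 = n20171 := d44_1 D20171 (iv D20171) (iv D13875) F42849 D13875
def n20172 : Q := act 3 n13878
theorem D20172 : act 3 n13878 = n20172 := rfl
theorem F87025 : act 2 n20172 = n14023 := d17_1 D20172 (iv D14023) F43285 (iv F42871) (iv F60949)
def n20173 : Q := act 6 n13878
theorem D20173 : act 6 n13878 = n20173 := rfl
theorem F87030 : act 1 n20173 = n20173 := d13_1 D20173 (iv D20173) F60948
theorem F87031 : act 2 n20173 = n13883 := d20_1 D20173 (iv D13883) (iv F60949)
theorem F87032 : act 4 n20173 = n13879 := d31_1 D20173 (iv D13879) D13878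
theorem F87033 : act 9 n20173 = n20173 := d41_2 F60952 D20173 (iv D20173)
def n20174 : Q := act 8 n13878
theorem D20174 : act 8 n13878 = n20174 := rfl
theorem F87034 : act 1 n20174 = n20174 := d15_1 D20174 (iv D20174) F60948
theorem F87035 : act 2 n20174 = n13884 := d22_1 D20174 (iv D13884) (iv F60949)
theorem F87036 : act 4 n20174 = n13880 := d33_1 D20174 (iv D13880) D13878
theorem F87037 : act 5 n20174 = n20174 := d37_1 D20174 (iv D20174) F60950
theorem F87038 : act 7 n20174 = n20174 := d42_1 D20174 (iv D20174) F60951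
def n20175 : Q := act 7 n13879
theorem D20175 : act 7 n13879 = n20175 := rfl
theorem F87039 : act 1 n20175 = n20175 := d14_1 D20175 (iv D20175) F60953
theorem F87040 : act 2 n20175 = n13885 := d21_1 D20175 (iv D13885) (iv F60954)
theorem F87041 : act 3 n20175 = n20175 := d27_1 D20175 (iv D20175) F60955
theorem F87042 : act 6 n20175 = n20175 := d39_1 D20175 (iv D20175) (iv D13879) F42864 D13879
theorem F87043 : act 9 n20175 = n20175 := d43_2 F60956 D20175 (iv D20175)
def n20176 : Q := act 8 n13879
theorem D20176 : act 8 n13879 = n20176 := rfl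
theorem F87044 : act 1 n20176 = n20176 := d15_1 D20176 (iv D20176) F60953
theorem F87045 : act 2 n20176 = n13886 := d22_1 D20176 (iv D13886) (iv F60954)
theorem F87046 : act 6 n20176 = n13880 := d40_1 D20176 (iv D13880) D13879
def n20177 : Q := act 3 n13880
theorem D20177 : act 3 n13880 = n20177 := rfl
theorem F87047 : act 1 n20177 = n20177 := d10_1 D20177 (iv D20177) F60957
theorem F87048 : act 2 n20177 = n13912 := d17_1 D20177 (iv D13912) F42964 (iv F42879) (iv F60958)
theorem F87049 : act 5 n20177 = n13881 := d25_2 (iv F60959) D20177 (iv D13881)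
theorem F87050 : act 7 n20177 = n20177 := d27_2 F60960 D20177 (iv D20177)
theorem F87051 : act 8 n20177 = n20177 := d28_2 D13880 D20177 (iv D20177) (iv D13880) F42863
def n20178 : Q := act 9 n13880
theorem D20178 : act 9 n13880 = n20178 := rfl
theorem F87052 : act 1 n20178 = n20178 := d16_1 D20178 (iv D20178) F60957
theorem F87053 : act 2 n20178 = n13887 := d23_1 D20178 (iv D13887) (iv F60958)
theorem F87054 : act 5 n20178 = n13882 := d38_1 D20178 (iv D13882) (iv F60959)
theorem F87055 : act 7 n20178 = n20178 := d43_1 D20178 (iv D20178) F60960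
theorem F87056 : act 8 n20178 = n20178 := d44_1 D20178 (iv D20178) (iv D13880) F42865 D13880
def n20179 : Q := act 4 n13881
theorem D20179 : act 4 n13881 = n20179 := rfl
theorem F87057 : act 1 n20179 = n20179 := d11_1 D20179 (iv D20179) F60961
theorem F87058 : act 2 n20179 = n13914 := d18_1 D20179 (iv D13914) (iv F60962)
theorem F87059 : act 3 n20179 = n20179 := d24_1 D20179 (iv D20179) (iv D13881) F42868 D13881
theorem F87060 : act 7 n20179 = n20179 := d32_2 F60963 D20179 (iv D20179)
theorem F87061 : act 8 n20179 = n20179 := d33_2 F60964 D20179 (iv D20179)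
def n20180 : Q := act 9 n13881
theorem D20180 : act 9 n13881 = n20180 := rfl
theorem F87062 : act 1 n20180 = n20180 := d16_1 D20180 (iv D20180) F60961
theorem F87063 : act 2 n20180 = n13915 := d23_1 D20180 (iv D13915) (iv F60962)
theorem F87064 : act 3 n20180 = n13882 := d29_1 D20180 (iv D13882) D13881
theorem F87065 : act 7 n20180 = n20180 := d43_1 D20180 (iv D20180) F60963
def n20181 : Q := act 5 n13883
theorem D20181 : act 5 n13883 = n20181 := rfl
theorem F87066 : act 1 n20181 = n13888 := d12_1 D20181 (iv D13888) (iv F60970)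
theorem F87067 : act 3 n20181 = n14032 := d25_1 D20181 (iv D14032) (iv F60971)
theorem F87068 : act 6 n20181 = n20181 := d35_2 D13883 D20181 (iv D20181) (iv D13883) F42872
theorem F87069 : act 9 n20181 = n20181 := d38_2 F60973 D20181 (iv D20181)
def n20182 : Q := act 7 n13883
theorem D20182 : act 7 n13883 = n20182 := rfl
theorem F87070 : act 1 n20182 = n13889 := d14_1 D20182 (iv D13889) (iv F60970)
theorem F87071 : act 3 n20182 = n14033 := d27_1 D20182 (iv D14033) (iv F60971)
theorem F87072 : act 4 n20182 = n13885 := d32_1 D20182 (iv D13885) (iv F60972)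
theorem F87073 : act 6 n20182 = n20182 := d39_1 D20182 (iv D20182) (iv D13883) F42873 D13883
theorem F87074 : act 9 n20182 = n20182 := d43_2 F60973 D20182 (iv D20182)
def n20183 : Q := act 8 n13883
theorem D20183 : act 8 n13883 = n20183 := rfl
theorem F87075 : act 1 n20183 = n13890 := d15_1 D20183 (iv D13890) (iv F60970)
theorem F87076 : act 4 n20183 = n13886 := d33_1 D20183 (iv D13886) (iv F60972)
theorem F87077 : act 6 n20183 = n13884 := d40_1 D20183 (iv D13884) D13883
def n20184 : Q := act 3 n13884
theorem D20184 : act 3 n13884 = n20184 := rfl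
theorem F87078 : act 1 n20184 = n13891 := d10_1 D20184 (iv D13891) (iv F60974)
theorem F87082 : act 8 n20184 = n14035 := d28_2 D13884 D20184 (iv D14035) (iv D9669) (iv F42871)
def n20185 : Q := act 9 n13884
theorem D20185 : act 9 n13884 = n20185 := rfl
theorem F87083 : act 1 n20185 = n13892 := d16_1 D20185 (iv D13892) (iv F60974)
theorem F87084 : act 4 n20185 = n13887 := d34_1 D20185 (iv D13887) (iv F60975)
theorem F87085 : act 5 n20185 = n20185 := d38_1 D20185 (iv D20185) F60976
theorem F87086 : act 7 n20185 = n20185 := d43_1 D20185 (iv D20185) F60977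
theorem F87087 : act 8 n20185 = n20185 := d44_1 D20185 (iv D20185) (iv D13884) F42874 D13884
def n20186 : Q := act 8 n13885
theorem D20186 : act 8 n13885 = n20186 := rfl
theorem F87088 : act 1 n20186 = n13893 := d15_1 D20186 (iv D13893) (iv F60978)
theorem F87089 : act 3 n20186 = n13921 := d28_1 D20186 (iv D13921) F42982 (iv F42891) (iv F60979)
theorem F87090 : act 6 n20186 = n20186 := d40_1 D20186 (iv D20186) F60980
theorem F87091 : act 7 n20186 = n13886 := d42_1 D20186 (iv D13886) D13885
def n20187 : Q := act 9 n13886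
theorem D20187 : act 9 n13886 = n20187 := rfl
theorem F87092 : act 1 n20187 = n13894 := d16_1 D20187 (iv D13894) (iv F60982)
theorem F87093 : act 3 n20187 = n13922 := d29_1 D20187 (iv D13922) (iv F60983)
theorem F87094 : act 6 n20187 = n13887 := d41_1 D20187 (iv D13887) (iv F60984)
theorem F87095 : act 8 n20187 = n20187 := d44_1 D20187 (iv D20187) (iv D13886) F42877 D13886
def n20188 : Q := act 7 n13888
theorem D20188 : act 7 n13888 = n20188 := rfl
theorem F87096 : act 0 n20188 = n20188 := d6_1 D20188 (iv D20188) F60990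
theorem F87097 : act 2 n20188 = n20188 := d21_1 D20188 (iv D20188) F60991
theorem F87098 : act 3 n20188 = n14039 := d27_1 D20188 (iv D14039) (iv F60992)
theorem F87099 : act 5 n20188 = n13889 := d36_1 D20188 (iv D13889) D13888
theorem F87100 : act 9 n20188 = n20188 := d43_2 F60994 D20188 (iv D20188)
def n20189 : Q := act 8 n13888
theorem D20189 : act 8 n13888 = n20189 := rfl
theorem F87101 : act 0 n20189 = n20189 := d7_1 D20189 (iv D20189) F60990
theorem F87102 : act 2 n20189 = n20189 := d22_1 D20189 (iv D20189) F60991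
theorem F87103 : act 5 n20189 = n13890 := d37_1 D20189 (iv D13890) D13888
theorem F87104 : act 6 n20189 = n20189 := d40_1 D20189 (iv D20189) F60993
def n20190 : Q := act 8 n13889
theorem D20190 : act 8 n13889 = n20190 := rfl
theorem F87105 : act 0 n20190 = n20190 := d7_1 D20190 (iv D20190) F60995
theorem F87106 : act 2 n20190 = n20190 := d22_1 D20190 (iv D20190) F60996
theorem F87107 : act 4 n20190 = n13893 := d33_1 D20190 (iv D13893) (iv F60998)
theorem F87108 : act 6 n20190 = n20190 := d40_1 D20190 (iv D20190) F60999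
theorem F87109 : act 7 n20190 = n13890 := d42_1 D20190 (iv D13890) D13889
def n20191 : Q := act 3 n13890
theorem D20191 : act 3 n13890 = n20191 := rfl
theorem F87110 : act 0 n20191 = n20191 := d2_1 D20191 (iv D20191) F61001
theorem F87111 : act 4 n20191 = n13926 := d24_2 (iv F61003) D20191 (iv D13926) F43001 (iv F42910)
theorem F87112 : act 6 n20191 = n13891 := d26_2 (iv F61004) D20191 (iv D13891)
theorem F87113 : act 8 n20191 = n14042 := d28_2 D13890 D20191 (iv D14042) (iv D9675) (iv F42895)
def n20192 : Q := act 9 n13890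
theorem D20192 : act 9 n13890 = n20192 := rfl
theorem F87114 : act 0 n20192 = n20192 := d8_1 D20192 (iv D20192) F61001
theorem F87115 : act 2 n20192 = n20192 := d23_1 D20192 (iv D20192) F61002
theorem F87116 : act 4 n20192 = n13894 := d34_1 D20192 (iv D13894) (iv F61003)
theorem F87117 : act 6 n20192 = n13892 := d41_1 D20192 (iv D13892) (iv F61004)
theorem F87118 : act 8 n20192 = n20192 := d44_1 D20192 (iv D20192) (iv D13890) F42897 D13890
def n20193 : Q := act 2 n13891
theorem D20193 : act 2 n13891 = n20193 := rfl
theorem F87119 : act 0 n20193 = n20193 := d1_1 D20193 (iv D20193) F61005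
theorem F87120 : act 3 n20193 = n20193 := d17_2 D13891 D20193 (iv D20193) (iv D13891) F42899
theorem F87121 : act 4 n20193 = n13928 := d18_2 (iv F61006) D20193 (iv D13928)
theorem F87122 : act 5 n20193 = n20193 := d19_2 F61007 D20193 (iv D20193)
theorem F87123 : act 7 n20193 = n20193 := d21_2 F61008 D20193 (iv D20193)
theorem F87124 : act 8 n20193 = n14044 := d22_2 (iv F61009) D20193 (iv D14044)
def n20194 : Q := act 9 n13891
theorem D20194 : act 9 n13891 = n20194 := rfl
theorem F87125 : act 0 n20194 = n20194 := d8_1 D20194 (iv D20194) F61005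
theorem F87126 : act 3 n20194 = n13892 := d29_1 D20194 (iv D13892) D13891
theorem F87127 : act 4 n20194 = n13929 := d34_1 D20194 (iv D13929) (iv F61006)
theorem F87128 : act 5 n20194 = n20194 := d38_1 D20194 (iv D20194) F61007
theorem F87129 : act 7 n20194 = n20194 := d43_1 D20194 (iv D20194) F61008
def n20195 : Q := act 9 n13893
theorem D20195 : act 9 n13893 = n20195 := rfl
theorem F87130 : act 0 n20195 = n20195 := d8_1 D20195 (iv D20195) F61016
theorem F87131 : act 2 n20195 = n20195 := d23_1 D20195 (iv D20195) F61017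
theorem F87132 : act 3 n20195 = n13930 := d29_1 D20195 (iv D13930) (iv F61018)
theorem F87133 : act 6 n20195 = n20195 := d41_1 D20195 (iv D20195) F61019
theorem F87134 : act 7 n20195 = n13894 := d43_1 D20195 (iv D13894) (iv F61020)
theorem F87135 : act 8 n20195 = n20195 := d44_1 D20195 (iv D20195) (iv D13893) F42907 D13893
def n20196 : Q := act 4 n13895
theorem D20196 : act 4 n13895 = n20196 := rfl
theorem F87136 : act 1 n20196 = n13897 := d11_1 D20196 (iv D13897) (iv F61026)
theorem F87137 : act 2 n20196 = n20196 := d18_1 D20196 (iv D20196) F61027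
theorem F87138 : act 5 n20196 = n14699 := d30_2 D13895 D20196 (iv D14699) (iv D10116) (iv F42920)
theorem F87139 : act 7 n20196 = n20196 := d32_2 F61029 D20196 (iv D20196)
theorem F87140 : act 9 n20196 = n13931 := d34_2 (iv F61030) D20196 (iv D13931)
def n20197 : Q := act 6 n13895
theorem D20197 : act 6 n13895 = n20197 := rfl
theorem F87141 : act 1 n20197 = n13898 := d13_1 D20197 (iv D13898) (iv F61026)
theorem F87142 : act 2 n20197 = n20197 := d20_1 D20197 (iv D20197) F61027
theorem F87143 : act 3 n20197 = n20197 := d26_1 D20197 (iv D20197) F61028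
theorem F87144 : act 9 n20197 = n13932 := d41_2 (iv F61030) D20197 (iv D13932)
def n20198 : Q := act 8 n13895
theorem D20198 : act 8 n13895 = n20198 := rfl
theorem F87145 : act 1 n20198 = n13899 := d15_1 D20198 (iv D13899) (iv F61026)
theorem F87146 : act 2 n20198 = n20198 := d22_1 D20198 (iv D20198) F61027
theorem F87147 : act 5 n20198 = n13896 := d37_1 D20198 (iv D13896) D13895
theorem F87148 : act 7 n20198 = n20198 := d42_1 D20198 (iv D20198) F61029
def n20199 : Q := act 3 n13896
theorem D20199 : act 3 n13896 = n20199 := rfl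
theorem F87149 : act 1 n20199 = n13900 := d10_1 D20199 (iv D13900) (iv F61031)
def n20200 : Q := act 9 n13896
theorem D20200 : act 9 n13896 = n20200 := rfl
theorem F87152 : act 1 n20200 = n13901 := d16_1 D20200 (iv D13901) (iv F61031)
theorem F87153 : act 2 n20200 = n20200 := d23_1 D20200 (iv D20200) F61032
theorem F87155 : act 7 n20200 = n20200 := d43_1 D20200 (iv D20200) F61034
theorem F87156 : act 8 n20200 = n13935 := d44_1 D20200 (iv D13935) (iv D9604) (iv F42922) D13896
def n20201 : Q := act 3 n13897
theorem D20201 : act 3 n13897 = n20201 := rfl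
theorem F87157 : act 0 n20201 = n13907 := d2_1 D20201 (iv D13907) (iv F61035)
theorem F87158 : act 2 n20201 = n14052 := d17_1 D20201 (iv D14052) F43369 (iv F42934) (iv F61036)
theorem F87160 : act 5 n20201 = n14704 := d25_2 (iv F61037) D20201 (iv D14704)
def n20202 : Q := act 6 n13897
theorem D20202 : act 6 n13897 = n20202 := rfl
theorem F87163 : act 0 n20202 = n13908 := d5_1 D20202 (iv D13908) (iv F61035)
theorem F87164 : act 2 n20202 = n13902 := d20_1 D20202 (iv D13902) (iv F61036)
theorem F87165 : act 4 n20202 = n13898 := d31_1 D20202 (iv D13898) D13897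
theorem F87166 : act 9 n20202 = n13937 := d41_2 (iv F61039) D20202 (iv D13937)
def n20203 : Q := act 8 n13897
theorem D20203 : act 8 n13897 = n20203 := rfl
theorem F87167 : act 0 n20203 = n13909 := d7_1 D20203 (iv D13909) (iv F61035)
theorem F87168 : act 2 n20203 = n13903 := d22_1 D20203 (iv D13903) (iv F61036)
theorem F87169 : act 4 n20203 = n13899 := d33_1 D20203 (iv D13899) D13897
theorem F87170 : act 5 n20203 = n14706 := d37_1 D20203 (iv D14706) (iv F61037)
theorem F87171 : act 7 n20203 = n20203 := d42_1 D20203 (iv D20203) F61038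
def n20204 : Q := act 7 n13898
theorem D20204 : act 7 n13898 = n20204 := rfl
theorem F87172 : act 0 n20204 = n13910 := d6_1 D20204 (iv D13910) (iv F61040)
theorem F87173 : act 2 n20204 = n13904 := d21_1 D20204 (iv D13904) (iv F61041)
theorem F87174 : act 3 n20204 = n20204 := d27_1 D20204 (iv D20204) F61042
theorem F87175 : act 6 n20204 = n20204 := d39_1 D20204 (iv D20204) (iv D13898) F42926 D13898
theorem F87176 : act 9 n20204 = n13939 := d43_2 (iv F61043) D20204 (iv D13939)
def n20205 : Q := act 8 n13898
theorem D20205 : act 8 n13898 = n20205 := rfl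
theorem F87177 : act 0 n20205 = n13911 := d7_1 D20205 (iv D13911) (iv F61040)
theorem F87178 : act 2 n20205 = n13905 := d22_1 D20205 (iv D13905) (iv F61041)
theorem F87179 : act 6 n20205 = n13899 := d40_1 D20205 (iv D13899) D13898
def n20206 : Q := act 3 n13899
theorem D20206 : act 3 n13899 = n20206 := rfl
theorem F87180 : act 0 n20206 = n13912 := d2_1 D20206 (iv D13912) (iv F61044)
theorem F87181 : act 5 n20206 = n13900 := d25_2 (iv F61046) D20206 (iv D13900)
theorem F87182 : act 7 n20206 = n20206 := d27_2 F61047 D20206 (iv D20206)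
theorem F87183 : act 8 n20206 = n20206 := d28_2 D13899 D20206 (iv D20206) (iv D13899) F42925
def n20207 : Q := act 9 n13899
theorem D20207 : act 9 n13899 = n20207 := rfl
theorem F87184 : act 0 n20207 = n13913 := d8_1 D20207 (iv D13913) (iv F61044)
theorem F87185 : act 2 n20207 = n13906 := d23_1 D20207 (iv D13906) (iv F61045)
theorem F87186 : act 5 n20207 = n13901 := d38_1 D20207 (iv D13901) (iv F61046)
theorem F87187 : act 7 n20207 = n20207 := d43_1 D20207 (iv D20207) F61047
theorem F87188 : act 8 n20207 = n13942 := d44_1 D20207 (iv D13942) (iv D9607) (iv F42927) D13899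
def n20208 : Q := act 4 n13900
theorem D20208 : act 4 n13900 = n20208 := rfl
theorem F87190 : act 3 n20208 = n14711 := d24_1 D20208 (iv D14711) (iv D10121) (iv F42930) D13900
def n20209 : Q := act 9 n13900
theorem D20209 : act 9 n13900 = n20209 := rfl
theorem F87193 : act 0 n20209 = n13915 := d8_1 D20209 (iv D13915) (iv F61048)
theorem F87194 : act 3 n20209 = n13901 := d29_1 D20209 (iv D13901) D13900
theorem F87195 : act 7 n20209 = n20209 := d43_1 D20209 (iv D20209) F61049
def n20210 : Q := act 5 n13902
theorem D20210 : act 5 n13902 = n20210 := rfl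
theorem F87196 : act 0 n20210 = n13916 := d4_1 D20210 (iv D13916) (iv F61056)
theorem F87197 : act 1 n20210 = n20210 := d12_1 D20210 (iv D20210) F61057
theorem F87198 : act 3 n20210 = n14061 := d25_1 D20210 (iv D14061) (iv F61058)
theorem F87199 : act 6 n20210 = n14713 := d35_2 D13902 D20210 (iv D14713) (iv D10123) (iv F42935)
theorem F87200 : act 9 n20210 = n13945 := d38_2 (iv F61060) D20210 (iv D13945)
def n20211 : Q := act 7 n13902
theorem D20211 : act 7 n13902 = n20211 := rfl
theorem F87201 : act 0 n20211 = n13917 := d6_1 D20211 (iv D13917) (iv F61056)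
theorem F87202 : act 1 n20211 = n20211 := d14_1 D20211 (iv D20211) F61057
theorem F87203 : act 3 n20211 = n14062 := d27_1 D20211 (iv D14062) (iv F61058)
theorem F87204 : act 4 n20211 = n13904 := d32_1 D20211 (iv D13904) (iv F61059)
theorem F87205 : act 6 n20211 = n20211 := d39_1 D20211 (iv D20211) (iv D13902) F42936 D13902
theorem F87206 : act 9 n20211 = n13946 := d43_2 (iv F61060) D20211 (iv D13946)
def n20212 : Q := act 8 n13902
theorem D20212 : act 8 n13902 = n20212 := rfl
theorem F87207 : act 0 n20212 = n13918 := d7_1 D20212 (iv D13918) (iv F61056)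
theorem F87208 : act 1 n20212 = n20212 := d15_1 D20212 (iv D20212) F61057
theorem F87209 : act 4 n20212 = n13905 := d33_1 D20212 (iv D13905) (iv F61059)
theorem F87210 : act 6 n20212 = n13903 := d40_1 D20212 (iv D13903) D13902
def n20214 : Q := act 9 n13903
theorem D20214 : act 9 n13903 = n20214 := rfl
theorem F87216 : act 0 n20214 = n13920 := d8_1 D20214 (iv D13920) (iv F61061)
theorem F87217 : act 1 n20214 = n20214 := d16_1 D20214 (iv D20214) F61062
theorem F87218 : act 4 n20214 = n13906 := d34_1 D20214 (iv D13906) (iv F61063)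
theorem F87219 : act 5 n20214 = n14717 := d38_1 D20214 (iv D14717) (iv F61064)
theorem F87220 : act 7 n20214 = n20214 := d43_1 D20214 (iv D20214) F61065
theorem F87221 : act 8 n20214 = n13949 := d44_1 D20214 (iv D13949) (iv D9611) (iv F42937) D13903
def n20215 : Q := act 8 n13904
theorem D20215 : act 8 n13904 = n20215 := rfl
theorem F87222 : act 0 n20215 = n13921 := d7_1 D20215 (iv D13921) (iv F61066)
theorem F87223 : act 1 n20215 = n20215 := d15_1 D20215 (iv D20215) F61067
theorem F87224 : act 6 n20215 = n20215 := d40_1 D20215 (iv D20215) F61069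
theorem F87225 : act 7 n20215 = n13905 := d42_1 D20215 (iv D13905) D13904
def n20216 : Q := act 9 n13905
theorem D20216 : act 9 n13905 = n20216 := rfl
theorem F87226 : act 0 n20216 = n13922 := d8_1 D20216 (iv D13922) (iv F61071)
theorem F87227 : act 1 n20216 = n20216 := d16_1 D20216 (iv D20216) F61072
theorem F87228 : act 6 n20216 = n13906 := d41_1 D20216 (iv D13906) (iv F61073)
theorem F87229 : act 8 n20216 = n13951 := d44_1 D20216 (iv D13951) (iv D9613) (iv F42941) D13905
def n20217 : Q := act 6 n13907
theorem D20217 : act 6 n13907 = n20217 := rfl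
theorem F87230 : act 2 n20217 = n14068 := d20_1 D20217 (iv D14068) (iv F61079)
theorem F87231 : act 3 n20217 = n13908 := d26_1 D20217 (iv D13908) D13907
theorem F87232 : act 4 n20217 = n20217 := d31_1 D20217 (iv D20217) F61080
theorem F87233 : act 9 n20217 = n13952 := d41_2 (iv F61083) D20217 (iv D13952)
def n20218 : Q := act 8 n13907
theorem D20218 : act 8 n13907 = n20218 := rfl
theorem F87234 : act 2 n20218 = n14069 := d22_1 D20218 (iv D14069) (iv F61079)
theorem F87235 : act 4 n20218 = n20218 := d33_1 D20218 (iv D20218) F61080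
theorem F87236 : act 5 n20218 = n14721 := d37_1 D20218 (iv D14721) (iv F61081)
theorem F87237 : act 7 n20218 = n20218 := d42_1 D20218 (iv D20218) F61082
def n20219 : Q := act 5 n13908
theorem D20219 : act 5 n13908 = n20219 := rfl
theorem F87238 : act 2 n20219 = n13916 := d19_1 D20219 (iv D13916) (iv F61084)
theorem F87239 : act 6 n20219 = n14722 := d35_2 D13908 D20219 (iv D14722) (iv D10129) (iv F42958)
theorem F87240 : act 9 n20219 = n13954 := d38_2 (iv F61086) D20219 (iv D13954)
def n20220 : Q := act 7 n13908
theorem D20220 : act 7 n13908 = n20220 := rfl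
theorem F87241 : act 2 n20220 = n13917 := d21_1 D20220 (iv D13917) (iv F61084)
theorem F87242 : act 4 n20220 = n13910 := d32_1 D20220 (iv D13910) (iv F61085)
theorem F87243 : act 6 n20220 = n20220 := d39_1 D20220 (iv D20220) (iv D13908) F42959 D13908
theorem F87244 : act 9 n20220 = n13955 := d43_2 (iv F61086) D20220 (iv D13955)
def n20221 : Q := act 8 n13908
theorem D20221 : act 8 n13908 = n20221 := rfl
theorem F87245 : act 2 n20221 = n13918 := d22_1 D20221 (iv D13918) (iv F61084)
theorem F87246 : act 4 n20221 = n13911 := d33_1 D20221 (iv D13911) (iv F61085)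
theorem F87247 : act 6 n20221 = n13909 := d40_1 D20221 (iv D13909) D13908
def n20222 : Q := act 3 n13909
theorem D20222 : act 3 n13909 = n20222 := rfl
theorem F87248 : act 5 n20222 = n14725 := d25_2 (iv F61089) D20222 (iv D14725)
theorem F87249 : act 7 n20222 = n20222 := d27_2 F61090 D20222 (iv D20222)
def n20223 : Q := act 9 n13909
theorem D20223 : act 9 n13909 = n20223 := rfl
theorem F87250 : act 2 n20223 = n13920 := d23_1 D20223 (iv D13920) (iv F61087)
theorem F87251 : act 4 n20223 = n13913 := d34_1 D20223 (iv D13913) (iv F61088)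
theorem F87252 : act 5 n20223 = n14726 := d38_1 D20223 (iv D14726) (iv F61089)
theorem F87253 : act 7 n20223 = n20223 := d43_1 D20223 (iv D20223) F61090
theorem F87254 : act 8 n20223 = n13958 := d44_1 D20223 (iv D13958) (iv D9617) (iv F42960) D13909
def n20224 : Q := act 8 n13910
theorem D20224 : act 8 n13910 = n20224 := rfl
theorem F87255 : act 2 n20224 = n13921 := d22_1 D20224 (iv D13921) (iv F61091)
theorem F87256 : act 6 n20224 = n20224 := d40_1 D20224 (iv D20224) F61093
theorem F87257 : act 7 n20224 = n13911 := d42_1 D20224 (iv D13911) D13910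
def n20225 : Q := act 3 n13911
theorem D20225 : act 3 n13911 = n20225 := rfl
theorem F87258 : act 6 n20225 = n13912 := d26_2 (iv F61096) D20225 (iv D13912)
theorem F87259 : act 8 n20225 = n20225 := d28_2 D13911 D20225 (iv D20225) (iv D13911) F42962
def n20226 : Q := act 9 n13911
theorem D20226 : act 9 n13911 = n20226 := rfl
theorem F87260 : act 2 n20226 = n13922 := d23_1 D20226 (iv D13922) (iv F61095)
theorem F87261 : act 6 n20226 = n13913 := d41_1 D20226 (iv D13913) (iv F61096)
theorem F87262 : act 8 n20226 = n13961 := d44_1 D20226 (iv D13961) (iv D9619) (iv F42963) D13911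
def n20227 : Q := act 4 n13912
theorem D20227 : act 4 n13912 = n20227 := rfl
theorem F87263 : act 7 n20227 = n20227 := d32_2 F61098 D20227 (iv D20227)
theorem F87264 : act 8 n20227 = n20227 := d33_2 F61099 D20227 (iv D20227)
def n20228 : Q := act 9 n13912
theorem D20228 : act 9 n13912 = n20228 := rfl
theorem F87265 : act 3 n20228 = n13913 := d29_1 D20228 (iv D13913) D13912
theorem F87266 : act 5 n20228 = n13915 := d38_1 D20228 (iv D13915) (iv F61097)
theorem F87267 : act 7 n20228 = n20228 := d43_1 D20228 (iv D20228) F61098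
def n20229 : Q := act 5 n13914
theorem D20229 : act 5 n13914 = n20229 := rfl
theorem F87268 : act 3 n20229 = n14732 := d25_1 D20229 (iv D14732) (iv F61104)
theorem F87269 : act 7 n20229 = n20229 := d36_2 F61105 D20229 (iv D20229)
theorem F87270 : act 8 n20229 = n20229 := d37_2 F61106 D20229 (iv D20229)
def n20230 : Q := act 9 n13914
theorem D20230 : act 9 n13914 = n20230 := rfl
theorem F87271 : act 3 n20230 = n14733 := d29_1 D20230 (iv D14733) (iv F61104)
theorem F87272 : act 4 n20230 = n13915 := d34_1 D20230 (iv D13915) D13914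
theorem F87273 : act 7 n20230 = n20230 := d43_1 D20230 (iv D20230) F61105
def n20231 : Q := act 8 n13915
theorem D20231 : act 8 n13915 = n20231 := rfl
theorem F87274 : act 3 n20231 = n13966 := d28_1 D20231 (iv D13966) F43094 (iv F42972) (iv F61107)
theorem F87275 : act 7 n20231 = n20231 := d42_1 D20231 (iv D20231) F61108
theorem F87276 : act 9 n20231 = n20231 := d44_2 D13915 D20231 (iv D20231) (iv D13915) F42968
def n20232 : Q := act 7 n13916
theorem D20232 : act 7 n13916 = n20232 := rfl
theorem F87277 : act 1 n20232 = n13923 := d14_1 D20232 (iv D13923) (iv F61109)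
theorem F87278 : act 3 n20232 = n14083 := d27_1 D20232 (iv D14083) (iv F61110)
theorem F87279 : act 5 n20232 = n13917 := d36_1 D20232 (iv D13917) D13916
theorem F87280 : act 9 n20232 = n13967 := d43_2 (iv F61112) D20232 (iv D13967)
def n20233 : Q := act 8 n13916
theorem D20233 : act 8 n13916 = n20233 := rfl
theorem F87281 : act 1 n20233 = n13924 := d15_1 D20233 (iv D13924) (iv F61109)
theorem F87282 : act 5 n20233 = n13918 := d37_1 D20233 (iv D13918) D13916
theorem F87283 : act 6 n20233 = n14736 := d40_1 D20233 (iv D14736) (iv F61111)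
def n20234 : Q := act 8 n13917
theorem D20234 : act 8 n13917 = n20234 := rfl
theorem F87284 : act 1 n20234 = n13925 := d15_1 D20234 (iv D13925) (iv F61113)
theorem F87285 : act 4 n20234 = n13921 := d33_1 D20234 (iv D13921) (iv F61115)
theorem F87286 : act 6 n20234 = n20234 := d40_1 D20234 (iv D20234) F61116
theorem F87287 : act 7 n20234 = n13918 := d42_1 D20234 (iv D13918) D13917
def n20235 : Q := act 3 n13918
theorem D20235 : act 3 n13918 = n20235 := rfl
theorem F87288 : act 1 n20235 = n13926 := d10_1 D20235 (iv D13926) (iv F61118)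
theorem F87289 : act 6 n20235 = n13919 := d26_2 (iv F61120) D20235 (iv D13919)
theorem F87290 : act 8 n20235 = n14086 := d28_2 D13918 D20235 (iv D14086) (iv D9703) (iv F42974)
def n20236 : Q := act 9 n13918
theorem D20236 : act 9 n13918 = n20236 := rfl
theorem F87291 : act 1 n20236 = n13927 := d16_1 D20236 (iv D13927) (iv F61118)
theorem F87292 : act 4 n20236 = n13922 := d34_1 D20236 (iv D13922) (iv F61119)
theorem F87293 : act 6 n20236 = n13920 := d41_1 D20236 (iv D13920) (iv F61120)
theorem F87294 : act 8 n20236 = n13971 := d44_1 D20236 (iv D13971) (iv D9626) (iv F42976) D13918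
def n20237 : Q := act 2 n13919
theorem D20237 : act 2 n13919 = n20237 := rfl
theorem F87295 : act 5 n20237 = n14740 := d19_2 (iv F61122) D20237 (iv D14740)
theorem F87296 : act 7 n20237 = n20237 := d21_2 F61123 D20237 (iv D20237)
theorem F87297 : act 8 n20237 = n14088 := d22_2 (iv F61124) D20237 (iv D14088)
def n20238 : Q := act 9 n13919
theorem D20238 : act 9 n13919 = n20238 := rfl
theorem F87298 : act 1 n20238 = n13929 := d16_1 D20238 (iv D13929) (iv F61121)
theorem F87299 : act 3 n20238 = n13920 := d29_1 D20238 (iv D13920) D13919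
theorem F87300 : act 5 n20238 = n14741 := d38_1 D20238 (iv D14741) (iv F61122)
theorem F87301 : act 7 n20238 = n20238 := d43_1 D20238 (iv D20238) F61123
def n20239 : Q := act 9 n13921
theorem D20239 : act 9 n13921 = n20239 := rfl
theorem F87302 : act 1 n20239 = n13930 := d16_1 D20239 (iv D13930) (iv F61130)
theorem F87303 : act 6 n20239 = n20239 := d41_1 D20239 (iv D20239) F61131
theorem F87304 : act 7 n20239 = n13922 := d43_1 D20239 (iv D13922) (iv F61132)
theorem F87305 : act 8 n20239 = n13974 := d44_1 D20239 (iv D13974) (iv D9629) (iv F42984) D13921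
def n20240 : Q := act 6 n13923
theorem D20240 : act 6 n13923 = n20240 := rfl
theorem F87306 : act 0 n20240 = n20240 := d5_1 D20240 (iv D20240) F61136
theorem F87307 : act 3 n20240 = n14091 := d26_1 D20240 (iv D14091) (iv F61137)
theorem F87308 : act 5 n20240 = n20240 := d35_1 D20240 (iv D20240) F61138 F42998 (iv F61138)
theorem F87309 : act 7 n20240 = n14743 := d39_2 D13923 D20240 (iv D14743) (iv D10144) (iv F42993)
theorem F87310 : act 9 n20240 = n13975 := d41_2 (iv F61139) D20240 (iv D13975)
def n20241 : Q := act 8 n13923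
theorem D20241 : act 8 n13923 = n20241 := rfl
theorem F87311 : act 0 n20241 = n20241 := d7_1 D20241 (iv D20241) F61136
theorem F87312 : act 5 n20241 = n13925 := d37_1 D20241 (iv D13925) (iv F61138)
theorem F87313 : act 7 n20241 = n13924 := d42_1 D20241 (iv D13924) D13923
def n20242 : Q := act 3 n13924
theorem D20242 : act 3 n13924 = n20242 := rfl
theorem F87314 : act 0 n20242 = n20242 := d2_1 D20242 (iv D20242) F61140
theorem F87315 : act 5 n20242 = n13926 := d25_2 (iv F61141) D20242 (iv D13926)
theorem F87316 : act 6 n20242 = n14745 := d26_2 (iv F61142) D20242 (iv D14745)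
theorem F87317 : act 8 n20242 = n14093 := d28_2 D13924 D20242 (iv D14093) (iv D9709) (iv F42992)
def n20243 : Q := act 9 n13924
theorem D20243 : act 9 n13924 = n20243 := rfl
theorem F87318 : act 0 n20243 = n20243 := d8_1 D20243 (iv D20243) F61140
theorem F87319 : act 5 n20243 = n13927 := d38_1 D20243 (iv D13927) (iv F61141)
theorem F87320 : act 6 n20243 = n14746 := d41_1 D20243 (iv D14746) (iv F61142)
theorem F87321 : act 8 n20243 = n13978 := d44_1 D20243 (iv D13978) (iv D9632) (iv F42994) D13924
def n20244 : Q := act 3 n13925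
theorem D20244 : act 3 n13925 = n20244 := rfl
theorem F87322 : act 0 n20244 = n20244 := d2_1 D20244 (iv D20244) F61143
theorem F87323 : act 6 n20244 = n20244 := d26_2 F61145 D20244 (iv D20244)
theorem F87324 : act 7 n20244 = n13926 := d27_2 (iv F61146) D20244 (iv D13926)
theorem F87325 : act 8 n20244 = n14095 := d28_2 D13925 D20244 (iv D14095) (iv D9710) (iv F42996)
def n20245 : Q := act 9 n13925
theorem D20245 : act 9 n13925 = n20245 := rfl
theorem F87326 : act 0 n20245 = n20245 := d8_1 D20245 (iv D20245) F61143
theorem F87327 : act 4 n20245 = n13930 := d34_1 D20245 (iv D13930) (iv F61144)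
theorem F87328 : act 6 n20245 = n20245 := d41_1 D20245 (iv D20245) F61145
theorem F87329 : act 7 n20245 = n13927 := d43_1 D20245 (iv D13927) (iv F61146)
theorem F87330 : act 8 n20245 = n13980 := d44_1 D20245 (iv D13980) (iv D9633) (iv F42999) D13925
def n20246 : Q := act 2 n13926
theorem D20246 : act 2 n13926 = n20246 := rfl
theorem F87331 : act 0 n20246 = n20246 := d1_1 D20246 (iv D20246) F61147
theorem F87332 : act 6 n20246 = n13928 := d20_2 (iv F61148) D20246 (iv D13928)
theorem F87333 : act 8 n20246 = n14097 := d22_2 (iv F61149) D20246 (iv D14097)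
def n20247 : Q := act 9 n13926
theorem D20247 : act 9 n13926 = n20247 := rfl
theorem F87334 : act 0 n20247 = n20247 := d8_1 D20247 (iv D20247) F61147
theorem F87335 : act 3 n20247 = n13927 := d29_1 D20247 (iv D13927) D13926
theorem F87336 : act 6 n20247 = n13929 := d41_1 D20247 (iv D13929) (iv F61148)
def n20248 : Q := act 1 n13928
theorem D20248 : act 1 n13928 = n20248 := rfl
theorem F87337 : act 5 n20248 = n14751 := d12_2 (iv F61155) D20248 (iv D14751)
theorem F87338 : act 7 n20248 = n20248 := d14_2 F61156 D20248 (iv D20248)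
theorem F87339 : act 8 n20248 = n14099 := d15_2 (iv F61157) D20248 (iv D14099)
def n20249 : Q := act 9 n13928
theorem D20249 : act 9 n13928 = n20249 := rfl
theorem F87340 : act 0 n20249 = n20249 := d8_1 D20249 (iv D20249) F61154
theorem F87341 : act 2 n20249 = n13929 := d23_1 D20249 (iv D13929) D13928
theorem F87342 : act 5 n20249 = n14752 := d38_1 D20249 (iv D14752) (iv F61155)
theorem F87343 : act 7 n20249 = n20249 := d43_1 D20249 (iv D20249) F61156
def n20250 : Q := act 8 n13929
theorem D20250 : act 8 n13929 = n20250 := rfl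
theorem F87344 : act 0 n20250 = n20250 := d7_1 D20250 (iv D20250) F61158
theorem F87345 : act 3 n20250 = n13985 := d28_1 D20250 (iv D13985) F43145 (iv F43011) (iv F61159)
theorem F87346 : act 5 n20250 = n14753 := d37_1 D20250 (iv D14753) (iv F61160)
theorem F87347 : act 7 n20250 = n20250 := d42_1 D20250 (iv D20250) F61161
theorem F87348 : act 9 n20250 = n14101 := d44_2 D13929 D20250 (iv D14101) (iv D9714) (iv F43006)
def n20251 : Q := act 3 n13931
theorem D20251 : act 3 n13931 = n20251 := rfl
theorem F87349 : act 1 n20251 = n13936 := d10_1 D20251 (iv D13936) (iv F61166)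
theorem F87350 : act 4 n20251 = n20251 := d24_2 D13931 D20251 (iv D20251) (iv D13931) F43020
theorem F87351 : act 5 n20251 = n14754 := d25_2 (iv F61168) D20251 (iv D14754)
theorem F87352 : act 7 n20251 = n20251 := d27_2 F61169 D20251 (iv D20251)
def n20252 : Q := act 6 n13931
theorem D20252 : act 6 n13931 = n20252 := rfl
theorem F87353 : act 1 n20252 = n13937 := d13_1 D20252 (iv D13937) (iv F61166)
theorem F87354 : act 2 n20252 = n20252 := d20_1 D20252 (iv D20252) F61167
theorem F87355 : act 4 n20252 = n13932 := d31_1 D20252 (iv D13932) D13931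
def n20253 : Q := act 8 n13931
theorem D20253 : act 8 n13931 = n20253 := rfl
theorem F87356 : act 1 n20253 = n13938 := d15_1 D20253 (iv D13938) (iv F61166)
theorem F87357 : act 2 n20253 = n20253 := d22_1 D20253 (iv D20253) F61167
theorem F87358 : act 4 n20253 = n13933 := d33_1 D20253 (iv D13933) D13931
theorem F87360 : act 7 n20253 = n20253 := d42_1 D20253 (iv D20253) F61169
def n20254 : Q := act 7 n13932
theorem D20254 : act 7 n13932 = n20254 := rfl
theorem F87361 : act 1 n20254 = n13939 := d14_1 D20254 (iv D13939) (iv F61170)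
theorem F87362 : act 2 n20254 = n20254 := d21_1 D20254 (iv D20254) F61171
theorem F87363 : act 3 n20254 = n20254 := d27_1 D20254 (iv D20254) F61172
theorem F87364 : act 6 n20254 = n20254 := d39_1 D20254 (iv D20254) (iv D13932) F43021 D13932
def n20255 : Q := act 8 n13932
theorem D20255 : act 8 n13932 = n20255 := rfl
theorem F87365 : act 1 n20255 = n13940 := d15_1 D20255 (iv D13940) (iv F61170)
theorem F87366 : act 2 n20255 = n20255 := d22_1 D20255 (iv D20255) F61171
theorem F87367 : act 6 n20255 = n13933 := d40_1 D20255 (iv D13933) D13932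
def n20256 : Q := act 3 n13933
theorem D20256 : act 3 n13933 = n20256 := rfl
theorem F87368 : act 1 n20256 = n13941 := d10_1 D20256 (iv D13941) (iv F61173)
theorem F87369 : act 5 n20256 = n13934 := d25_2 (iv F61175) D20256 (iv D13934)
def n20257 : Q := act 9 n13933
theorem D20257 : act 9 n13933 = n20257 := rfl
theorem F87372 : act 1 n20257 = n13942 := d16_1 D20257 (iv D13942) (iv F61173)
theorem F87373 : act 2 n20257 = n20257 := d23_1 D20257 (iv D20257) F61174
theorem F87374 : act 5 n20257 = n13935 := d38_1 D20257 (iv D13935) (iv F61175)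
theorem F87375 : act 7 n20257 = n20257 := d43_1 D20257 (iv D20257) F61176
def n20258 : Q := act 2 n13934
theorem D20258 : act 2 n13934 = n20258 := rfl
def n20260 : Q := act 9 n13934
theorem D20260 : act 9 n13934 = n20260 := rfl
theorem F87385 : act 3 n20260 = n13935 := d29_1 D20260 (iv D13935) D13934
def n20261 : Q := act 6 n13936
theorem D20261 : act 6 n13936 = n20261 := rfl
theorem F87387 : act 0 n20261 = n13952 := d5_1 D20261 (iv D13952) (iv F61184)
theorem F87388 : act 2 n20261 = n14111 := d20_1 D20261 (iv D14111) (iv F61185)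
theorem F87389 : act 3 n20261 = n13937 := d26_1 D20261 (iv D13937) D13936
theorem F87390 : act 4 n20261 = n20261 := d31_1 D20261 (iv D20261) F61186
def n20262 : Q := act 8 n13936
theorem D20262 : act 8 n13936 = n20262 := rfl
theorem F87391 : act 0 n20262 = n13953 := d7_1 D20262 (iv D13953) (iv F61184)
theorem F87392 : act 2 n20262 = n14112 := d22_1 D20262 (iv D14112) (iv F61185)
theorem F87393 : act 4 n20262 = n20262 := d33_1 D20262 (iv D20262) F61186
theorem F87394 : act 5 n20262 = n14765 := d37_1 D20262 (iv D14765) (iv F61187)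
theorem F87395 : act 7 n20262 = n20262 := d42_1 D20262 (iv D20262) F61188
def n20263 : Q := act 5 n13937
theorem D20263 : act 5 n13937 = n20263 := rfl
theorem F87396 : act 0 n20263 = n13954 := d4_1 D20263 (iv D13954) (iv F61189)
theorem F87397 : act 2 n20263 = n13945 := d19_1 D20263 (iv D13945) (iv F61190)
theorem F87398 : act 6 n20263 = n14766 := d35_2 D13937 D20263 (iv D14766) (iv D10158) (iv F43028)
def n20264 : Q := act 7 n13937
theorem D20264 : act 7 n13937 = n20264 := rfl
theorem F87399 : act 0 n20264 = n13955 := d6_1 D20264 (iv D13955) (iv F61189)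
theorem F87400 : act 2 n20264 = n13946 := d21_1 D20264 (iv D13946) (iv F61190)
theorem F87401 : act 4 n20264 = n13939 := d32_1 D20264 (iv D13939) (iv F61191)
theorem F87402 : act 6 n20264 = n20264 := d39_1 D20264 (iv D20264) (iv D13937) F43029 D13937
def n20265 : Q := act 8 n13937
theorem D20265 : act 8 n13937 = n20265 := rfl
theorem F87403 : act 0 n20265 = n13956 := d7_1 D20265 (iv D13956) (iv F61189)
theorem F87404 : act 2 n20265 = n13947 := d22_1 D20265 (iv D13947) (iv F61190)
theorem F87405 : act 4 n20265 = n13940 := d33_1 D20265 (iv D13940) (iv F61191)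
theorem F87406 : act 6 n20265 = n13938 := d40_1 D20265 (iv D13938) D13937
def n20266 : Q := act 3 n13938
theorem D20266 : act 3 n13938 = n20266 := rfl
theorem F87407 : act 0 n20266 = n13957 := d2_1 D20266 (iv D13957) (iv F61192)
theorem F87408 : act 5 n20266 = n14769 := d25_2 (iv F61195) D20266 (iv D14769)
theorem F87409 : act 7 n20266 = n20266 := d27_2 F61196 D20266 (iv D20266)
def n20267 : Q := act 9 n13938
theorem D20267 : act 9 n13938 = n20267 := rfl
theorem F87410 : act 0 n20267 = n13958 := d8_1 D20267 (iv D13958) (iv F61192)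
theorem F87411 : act 2 n20267 = n13949 := d23_1 D20267 (iv D13949) (iv F61193)
theorem F87412 : act 4 n20267 = n13942 := d34_1 D20267 (iv D13942) (iv F61194)
theorem F87413 : act 5 n20267 = n14770 := d38_1 D20267 (iv D14770) (iv F61195)
theorem F87414 : act 7 n20267 = n20267 := d43_1 D20267 (iv D20267) F61196
def n20268 : Q := act 8 n13939
theorem D20268 : act 8 n13939 = n20268 := rfl
theorem F87415 : act 0 n20268 = n13959 := d7_1 D20268 (iv D13959) (iv F61197)
theorem F87416 : act 2 n20268 = n13950 := d22_1 D20268 (iv D13950) (iv F61198)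
theorem F87417 : act 6 n20268 = n20268 := d40_1 D20268 (iv D20268) F61200
theorem F87418 : act 7 n20268 = n13940 := d42_1 D20268 (iv D13940) D13939
def n20269 : Q := act 3 n13940
theorem D20269 : act 3 n13940 = n20269 := rfl
theorem F87419 : act 0 n20269 = n13960 := d2_1 D20269 (iv D13960) (iv F61201)
theorem F87420 : act 2 n20269 = n20269 := d17_1 D20269 (iv D20269) F61202 F43060 (iv F61202)
theorem F87421 : act 6 n20269 = n13941 := d26_2 (iv F61203) D20269 (iv D13941)
theorem F87422 : act 8 n20269 = n20269 := d28_2 D13940 D20269 (iv D20269) (iv D13940) F43032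
def n20270 : Q := act 9 n13940
theorem D20270 : act 9 n13940 = n20270 := rfl
theorem F87423 : act 0 n20270 = n13961 := d8_1 D20270 (iv D13961) (iv F61201)
theorem F87424 : act 2 n20270 = n13951 := d23_1 D20270 (iv D13951) (iv F61202)
theorem F87425 : act 6 n20270 = n13942 := d41_1 D20270 (iv D13942) (iv F61203)
def n20271 : Q := act 4 n13941
theorem D20271 : act 4 n13941 = n20271 := rfl
theorem F87426 : act 0 n20271 = n13962 := d3_1 D20271 (iv D13962) (iv F61204)
theorem F87427 : act 2 n20271 = n20271 := d18_1 D20271 (iv D20271) F61205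
theorem F87428 : act 7 n20271 = n20271 := d32_2 F61207 D20271 (iv D20271)
theorem F87429 : act 8 n20271 = n20271 := d33_2 F61208 D20271 (iv D20271)
def n20272 : Q := act 9 n13941
theorem D20272 : act 9 n13941 = n20272 := rfl
theorem F87430 : act 0 n20272 = n13963 := d8_1 D20272 (iv D13963) (iv F61204)
theorem F87431 : act 2 n20272 = n20272 := d23_1 D20272 (iv D20272) F61205
theorem F87432 : act 3 n20272 = n13942 := d29_1 D20272 (iv D13942) D13941
theorem F87433 : act 5 n20272 = n13944 := d38_1 D20272 (iv D13944) (iv F61206)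
theorem F87434 : act 7 n20272 = n20272 := d43_1 D20272 (iv D20272) F61207
def n20273 : Q := act 5 n13943
theorem D20273 : act 5 n13943 = n20273 := rfl
theorem F87435 : act 0 n20273 = n13964 := d4_1 D20273 (iv D13964) (iv F61213)
theorem F87437 : act 3 n20273 = n14776 := d25_1 D20273 (iv D14776) (iv F61215)
def n20275 : Q := act 8 n13944
theorem D20275 : act 8 n13944 = n20275 := rfl
theorem F87445 : act 0 n20275 = n13966 := d7_1 D20275 (iv D13966) (iv F61218)
theorem F87446 : act 2 n20275 = n20275 := d22_1 D20275 (iv D20275) F61219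
theorem F87447 : act 7 n20275 = n20275 := d42_1 D20275 (iv D20275) F61221
theorem F87448 : act 9 n20275 = n20275 := d44_2 D13944 D20275 (iv D20275) (iv D13944) F43040
def n20276 : Q := act 7 n13945
theorem D20276 : act 7 n13945 = n20276 := rfl
theorem F87449 : act 0 n20276 = n13967 := d6_1 D20276 (iv D13967) (iv F61222)
theorem F87450 : act 1 n20276 = n20276 := d14_1 D20276 (iv D20276) F61223
theorem F87451 : act 3 n20276 = n14124 := d27_1 D20276 (iv D14124) (iv F61224)
theorem F87452 : act 5 n20276 = n13946 := d36_1 D20276 (iv D13946) D13945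
def n20277 : Q := act 8 n13945
theorem D20277 : act 8 n13945 = n20277 := rfl
theorem F87453 : act 0 n20277 = n13968 := d7_1 D20277 (iv D13968) (iv F61222)
theorem F87454 : act 1 n20277 = n20277 := d15_1 D20277 (iv D20277) F61223
theorem F87455 : act 5 n20277 = n13947 := d37_1 D20277 (iv D13947) D13945
theorem F87456 : act 6 n20277 = n14780 := d40_1 D20277 (iv D14780) (iv F61225)
def n20278 : Q := act 8 n13946
theorem D20278 : act 8 n13946 = n20278 := rfl
theorem F87457 : act 0 n20278 = n13969 := d7_1 D20278 (iv D13969) (iv F61226)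
theorem F87458 : act 1 n20278 = n20278 := d15_1 D20278 (iv D20278) F61227
theorem F87459 : act 4 n20278 = n13950 := d33_1 D20278 (iv D13950) (iv F61229)
theorem F87460 : act 6 n20278 = n20278 := d40_1 D20278 (iv D20278) F61230
theorem F87461 : act 7 n20278 = n13947 := d42_1 D20278 (iv D13947) D13946
def n20279 : Q := act 3 n13947
theorem D20279 : act 3 n13947 = n20279 := rfl
theorem F87462 : act 0 n20279 = n13970 := d2_1 D20279 (iv D13970) (iv F61231)
theorem F87463 : act 1 n20279 = n20279 := d10_1 D20279 (iv D20279) F61232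
theorem F87464 : act 4 n20279 = n20279 := d24_2 (iv F61233) D20279 (iv D20279) F61233 F43060
theorem F87465 : act 6 n20279 = n13948 := d26_2 (iv F61234) D20279 (iv D13948)
theorem F87466 : act 8 n20279 = n14127 := d28_2 D13947 D20279 (iv D14127) (iv D9731) (iv F43047)
def n20280 : Q := act 9 n13947
theorem D20280 : act 9 n13947 = n20280 := rfl
theorem F87467 : act 0 n20280 = n13971 := d8_1 D20280 (iv D13971) (iv F61231)
theorem F87468 : act 1 n20280 = n20280 := d16_1 D20280 (iv D20280) F61232
theorem F87469 : act 4 n20280 = n13951 := d34_1 D20280 (iv D13951) (iv F61233)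
theorem F87470 : act 6 n20280 = n13949 := d41_1 D20280 (iv D13949) (iv F61234)
def n20281 : Q := act 2 n13948
theorem D20281 : act 2 n13948 = n20281 := rfl
theorem F87471 : act 0 n20281 = n13972 := d1_1 D20281 (iv D13972) (iv F61235)
theorem F87472 : act 4 n20281 = n20281 := d18_2 F61237 D20281 (iv D20281)
theorem F87473 : act 5 n20281 = n14784 := d19_2 (iv F61238) D20281 (iv D14784)
theorem F87474 : act 7 n20281 = n20281 := d21_2 F61239 D20281 (iv D20281)
theorem F87475 : act 8 n20281 = n14129 := d22_2 (iv F61240) D20281 (iv D14129)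
def n20282 : Q := act 9 n13948
theorem D20282 : act 9 n13948 = n20282 := rfl
theorem F87476 : act 0 n20282 = n13973 := d8_1 D20282 (iv D13973) (iv F61235)
theorem F87477 : act 1 n20282 = n20282 := d16_1 D20282 (iv D20282) F61236
theorem F87478 : act 3 n20282 = n13949 := d29_1 D20282 (iv D13949) D13948
theorem F87479 : act 4 n20282 = n20282 := d34_1 D20282 (iv D20282) F61237
theorem F87480 : act 5 n20282 = n14785 := d38_1 D20282 (iv D14785) (iv F61238)
theorem F87481 : act 7 n20282 = n20282 := d43_1 D20282 (iv D20282) F61239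
def n20283 : Q := act 9 n13950
theorem D20283 : act 9 n13950 = n20283 := rfl
theorem F87482 : act 0 n20283 = n13974 := d8_1 D20283 (iv D13974) (iv F61246)
theorem F87483 : act 1 n20283 = n20283 := d16_1 D20283 (iv D20283) F61247
theorem F87484 : act 3 n20283 = n20283 := d29_1 D20283 (iv D20283) F61248
theorem F87485 : act 6 n20283 = n20283 := d41_1 D20283 (iv D20283) F61249
theorem F87486 : act 7 n20283 = n13951 := d43_1 D20283 (iv D13951) (iv F61250)
def n20284 : Q := act 5 n13952
theorem D20284 : act 5 n13952 = n20284 := rfl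
theorem F87487 : act 2 n20284 = n14132 := d19_1 D20284 (iv D14132) (iv F61255)
theorem F87488 : act 3 n20284 = n13954 := d25_1 D20284 (iv D13954) (iv F61256)
theorem F87489 : act 6 n20284 = n14787 := d35_2 D13952 D20284 (iv D14787) (iv D10173) (iv F43069)
def n20285 : Q := act 7 n13952
theorem D20285 : act 7 n13952 = n20285 := rfl
theorem F87490 : act 2 n20285 = n14133 := d21_1 D20285 (iv D14133) (iv F61255)
theorem F87491 : act 3 n20285 = n13955 := d27_1 D20285 (iv D13955) (iv F61256)
theorem F87492 : act 4 n20285 = n20285 := d32_1 D20285 (iv D20285) F61257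
theorem F87493 : act 6 n20285 = n20285 := d39_1 D20285 (iv D20285) (iv D13952) F43070 D13952
def n20286 : Q := act 8 n13952
theorem D20286 : act 8 n13952 = n20286 := rfl
theorem F87494 : act 2 n20286 = n14134 := d22_1 D20286 (iv D14134) (iv F61255)
theorem F87495 : act 4 n20286 = n20286 := d33_1 D20286 (iv D20286) F61257
theorem F87496 : act 6 n20286 = n13953 := d40_1 D20286 (iv D13953) D13952
def n20287 : Q := act 3 n13953
theorem D20287 : act 3 n13953 = n20287 := rfl
theorem F87497 : act 5 n20287 = n14790 := d25_2 (iv F61260) D20287 (iv D14790)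
theorem F87498 : act 7 n20287 = n20287 := d27_2 F61261 D20287 (iv D20287)
theorem F87499 : act 8 n20287 = n13957 := d28_2 D13953 D20287 (iv D13957) (iv D9617) D9615
def n20288 : Q := act 9 n13953
theorem D20288 : act 9 n13953 = n20288 := rfl
theorem F87500 : act 2 n20288 = n14136 := d23_1 D20288 (iv D14136) (iv F61258)
theorem F87501 : act 4 n20288 = n20288 := d34_1 D20288 (iv D20288) F61259
theorem F87502 : act 5 n20288 = n14791 := d38_1 D20288 (iv D14791) (iv F61260)
theorem F87503 : act 7 n20288 = n20288 := d43_1 D20288 (iv D20288) F61261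
def n20289 : Q := act 7 n13954
theorem D20289 : act 7 n13954 = n20289 := rfl
theorem F87504 : act 2 n20289 = n13967 := d21_1 D20289 (iv D13967) (iv F61262)
theorem F87505 : act 5 n20289 = n13955 := d36_1 D20289 (iv D13955) D13954
def n20290 : Q := act 8 n13954
theorem D20290 : act 8 n13954 = n20290 := rfl
theorem F87506 : act 2 n20290 = n13968 := d22_1 D20290 (iv D13968) (iv F61262)
theorem F87507 : act 5 n20290 = n13956 := d37_1 D20290 (iv D13956) D13954
theorem F87508 : act 6 n20290 = n14793 := d40_1 D20290 (iv D14793) (iv F61263)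
def n20291 : Q := act 8 n13955
theorem D20291 : act 8 n13955 = n20291 := rfl
theorem F87509 : act 2 n20291 = n13969 := d22_1 D20291 (iv D13969) (iv F61264)
theorem F87510 : act 4 n20291 = n13959 := d33_1 D20291 (iv D13959) (iv F61265)
theorem F87511 : act 6 n20291 = n20291 := d40_1 D20291 (iv D20291) F61266
theorem F87512 : act 7 n20291 = n13956 := d42_1 D20291 (iv D13956) D13955
def n20292 : Q := act 3 n13956
theorem D20292 : act 3 n13956 = n20292 := rfl
theorem F87513 : act 6 n20292 = n13957 := d26_2 (iv F61269) D20292 (iv D13957)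
def n20293 : Q := act 9 n13956
theorem D20293 : act 9 n13956 = n20293 := rfl
theorem F87514 : act 2 n20293 = n13971 := d23_1 D20293 (iv D13971) (iv F61267)
theorem F87515 : act 4 n20293 = n13961 := d34_1 D20293 (iv D13961) (iv F61268)
theorem F87516 : act 6 n20293 = n13958 := d41_1 D20293 (iv D13958) (iv F61269)
def n20294 : Q := act 2 n13957
theorem D20294 : act 2 n13957 = n20294 := rfl
theorem F87517 : act 3 n20294 = n13972 := d17_2 D13957 D20294 (iv D13972) (iv D9627) (iv F43073)
theorem F87518 : act 5 n20294 = n14797 := d19_2 (iv F61270) D20294 (iv D14797)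
theorem F87519 : act 7 n20294 = n20294 := d21_2 F61271 D20294 (iv D20294)
def n20295 : Q := act 4 n13957
theorem D20295 : act 4 n13957 = n20295 := rfl
theorem F87520 : act 3 n20295 = n13962 := d24_1 D20295 (iv D13962) (iv D9620) (iv F43074) D13957
theorem F87521 : act 7 n20295 = n20295 := d32_2 F61271 D20295 (iv D20295)
def n20296 : Q := act 9 n13957
theorem D20296 : act 9 n13957 = n20296 := rfl
theorem F87522 : act 3 n20296 = n13958 := d29_1 D20296 (iv D13958) D13957
theorem F87523 : act 5 n20296 = n14799 := d38_1 D20296 (iv D14799) (iv F61270)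
theorem F87524 : act 7 n20296 = n20296 := d43_1 D20296 (iv D20296) F61271
def n20297 : Q := act 3 n13959
theorem D20297 : act 3 n13959 = n20297 := rfl
theorem F87525 : act 2 n20297 = n20297 := d17_1 D20297 (iv D20297) F61276 F43116 (iv F61276)
theorem F87526 : act 6 n20297 = n20297 := d26_2 F61277 D20297 (iv D20297)
theorem F87527 : act 7 n20297 = n13960 := d27_2 (iv F61278) D20297 (iv D13960)
theorem F87528 : act 8 n20297 = n20297 := d28_2 D13959 D20297 (iv D20297) (iv D13959) F43078
def n20298 : Q := act 9 n13959
theorem D20298 : act 9 n13959 = n20298 := rfl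
theorem F87529 : act 2 n20298 = n13974 := d23_1 D20298 (iv D13974) (iv F61276)
theorem F87530 : act 6 n20298 = n20298 := d41_1 D20298 (iv D20298) F61277
theorem F87531 : act 7 n20298 = n13961 := d43_1 D20298 (iv D13961) (iv F61278)
def n20299 : Q := act 4 n13960
theorem D20299 : act 4 n13960 = n20299 := rfl
theorem F87532 : act 2 n20299 = n20299 := d18_1 D20299 (iv D20299) F61279
theorem F87533 : act 6 n20299 = n13962 := d31_2 (iv F61280) D20299 (iv D13962)
theorem F87534 : act 8 n20299 = n20299 := d33_2 F61281 D20299 (iv D20299)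
def n20300 : Q := act 9 n13960
theorem D20300 : act 9 n13960 = n20300 := rfl
theorem F87535 : act 2 n20300 = n20300 := d23_1 D20300 (iv D20300) F61279
theorem F87536 : act 3 n20300 = n13961 := d29_1 D20300 (iv D13961) D13960
theorem F87537 : act 6 n20300 = n13963 := d41_1 D20300 (iv D13963) (iv F61280)
def n20301 : Q := act 5 n13962
theorem D20301 : act 5 n13962 = n20301 := rfl
theorem F87538 : act 2 n20301 = n20301 := d19_1 D20301 (iv D20301) F61284
theorem F87539 : act 4 n20301 = n13964 := d30_1 D20301 (iv D13964) (iv D9622) (iv F43083) D13962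
theorem F87540 : act 7 n20301 = n20301 := d36_2 F61285 D20301 (iv D20301)
theorem F87541 : act 8 n20301 = n20301 := d37_2 F61286 D20301 (iv D20301)
def n20302 : Q := act 9 n13962
theorem D20302 : act 9 n13962 = n20302 := rfl
theorem F87542 : act 2 n20302 = n20302 := d23_1 D20302 (iv D20302) F61284
theorem F87543 : act 4 n20302 = n13963 := d34_1 D20302 (iv D13963) D13962
theorem F87544 : act 7 n20302 = n20302 := d43_1 D20302 (iv D20302) F61285
def n20303 : Q := act 8 n13963
theorem D20303 : act 8 n13963 = n20303 := rfl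
theorem F87545 : act 2 n20303 = n20303 := d22_1 D20303 (iv D20303) F61287
theorem F87546 : act 5 n20303 = n13966 := d37_1 D20303 (iv D13966) (iv F61289)
theorem F87547 : act 7 n20303 = n20303 := d42_1 D20303 (iv D20303) F61290
theorem F87548 : act 9 n20303 = n20303 := d44_2 D13963 D20303 (iv D20303) (iv D13963) F43085
def n20304 : Q := act 6 n13964
theorem D20304 : act 6 n13964 = n20304 := rfl
theorem F87549 : act 2 n20304 = n20304 := d20_1 D20304 (iv D20304) F61291
theorem F87550 : act 3 n20304 = n14807 := d26_1 D20304 (iv D14807) (iv F61292)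
theorem F87551 : act 8 n20304 = n20304 := d40_2 F61294 D20304 (iv D20304)
def n20305 : Q := act 9 n13964
theorem D20305 : act 9 n13964 = n20305 := rfl
theorem F87552 : act 2 n20305 = n20305 := d23_1 D20305 (iv D20305) F61291
theorem F87553 : act 3 n20305 = n14808 := d29_1 D20305 (iv D14808) (iv F61292)
theorem F87554 : act 5 n20305 = n13965 := d38_1 D20305 (iv D13965) D13964
theorem F87555 : act 7 n20305 = n20305 := d43_1 D20305 (iv D20305) F61293
def n20306 : Q := act 8 n13965
theorem D20306 : act 8 n13965 = n20306 := rfl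
theorem F87556 : act 2 n20306 = n20306 := d22_1 D20306 (iv D20306) F61295
theorem F87557 : act 4 n20306 = n13966 := d33_1 D20306 (iv D13966) (iv F61297)
theorem F87558 : act 7 n20306 = n20306 := d42_1 D20306 (iv D20306) F61298
theorem F87559 : act 9 n20306 = n20306 := d44_2 D13965 D20306 (iv D20306) (iv D13965) F43092
def n20307 : Q := act 6 n13967
theorem D20307 : act 6 n13967 = n20307 := rfl
theorem F87560 : act 1 n20307 = n13975 := d13_1 D20307 (iv D13975) (iv F61302)
theorem F87561 : act 3 n20307 = n14151 := d26_1 D20307 (iv D14151) (iv F61303)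
theorem F87562 : act 5 n20307 = n20307 := d35_1 D20307 (iv D20307) F61304 F43102 (iv F61304)
theorem F87563 : act 7 n20307 = n14810 := d39_2 D13967 D20307 (iv D14810) (iv D10188) (iv F43098)
def n20308 : Q := act 8 n13967
theorem D20308 : act 8 n13967 = n20308 := rfl
theorem F87564 : act 1 n20308 = n13976 := d15_1 D20308 (iv D13976) (iv F61302)
theorem F87565 : act 5 n20308 = n13969 := d37_1 D20308 (iv D13969) (iv F61304)
theorem F87566 : act 7 n20308 = n13968 := d42_1 D20308 (iv D13968) D13967
def n20309 : Q := act 3 n13968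
theorem D20309 : act 3 n13968 = n20309 := rfl
theorem F87567 : act 1 n20309 = n13977 := d10_1 D20309 (iv D13977) (iv F61305)
theorem F87568 : act 5 n20309 = n13970 := d25_2 (iv F61306) D20309 (iv D13970)
theorem F87569 : act 6 n20309 = n14812 := d26_2 (iv F61307) D20309 (iv D14812)
theorem F87570 : act 8 n20309 = n14153 := d28_2 D13968 D20309 (iv D14153) (iv D9750) (iv F43097)
def n20310 : Q := act 9 n13968
theorem D20310 : act 9 n13968 = n20310 := rfl
theorem F87571 : act 1 n20310 = n13978 := d16_1 D20310 (iv D13978) (iv F61305)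
theorem F87572 : act 5 n20310 = n13971 := d38_1 D20310 (iv D13971) (iv F61306)
theorem F87573 : act 6 n20310 = n14813 := d41_1 D20310 (iv D14813) (iv F61307)
def n20311 : Q := act 3 n13969
theorem D20311 : act 3 n13969 = n20311 := rfl
theorem F87574 : act 1 n20311 = n13979 := d10_1 D20311 (iv D13979) (iv F61308)
theorem F87575 : act 4 n20311 = n20311 := d24_2 (iv F61309) D20311 (iv D20311) F61309 F43116
theorem F87576 : act 6 n20311 = n20311 := d26_2 F61310 D20311 (iv D20311)
theorem F87577 : act 7 n20311 = n13970 := d27_2 (iv F61311) D20311 (iv D13970)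
theorem F87578 : act 8 n20311 = n14155 := d28_2 D13969 D20311 (iv D14155) (iv D9751) (iv F43100)
def n20312 : Q := act 9 n13969
theorem D20312 : act 9 n13969 = n20312 := rfl
theorem F87579 : act 1 n20312 = n13980 := d16_1 D20312 (iv D13980) (iv F61308)
theorem F87580 : act 4 n20312 = n13974 := d34_1 D20312 (iv D13974) (iv F61309)
theorem F87581 : act 6 n20312 = n20312 := d41_1 D20312 (iv D20312) F61310
theorem F87582 : act 7 n20312 = n13971 := d43_1 D20312 (iv D13971) (iv F61311)
def n20313 : Q := act 2 n13970
theorem D20313 : act 2 n13970 = n20313 := rfl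
theorem F87583 : act 4 n20313 = n20313 := d18_2 F61313 D20313 (iv D20313)
theorem F87584 : act 6 n20313 = n13972 := d20_2 (iv F61314) D20313 (iv D13972)
theorem F87585 : act 8 n20313 = n14157 := d22_2 (iv F61315) D20313 (iv D14157)
def n20314 : Q := act 9 n13970
theorem D20314 : act 9 n13970 = n20314 := rfl
theorem F87586 : act 1 n20314 = n13982 := d16_1 D20314 (iv D13982) (iv F61312)
theorem F87587 : act 3 n20314 = n13971 := d29_1 D20314 (iv D13971) D13970
theorem F87588 : act 4 n20314 = n20314 := d34_1 D20314 (iv D20314) F61313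
theorem F87589 : act 6 n20314 = n13973 := d41_1 D20314 (iv D13973) (iv F61314)
def n20315 : Q := act 1 n13972
theorem D20315 : act 1 n13972 = n20315 := rfl
theorem F87590 : act 2 n20315 = n13983 := d9_2 D13972 D20315 (iv D13983) (iv D9636) (iv F43106)
theorem F87591 : act 4 n20315 = n20315 := d11_2 F61319 D20315 (iv D20315)
theorem F87592 : act 5 n20315 = n14818 := d12_2 (iv F61320) D20315 (iv D14818)
theorem F87593 : act 7 n20315 = n20315 := d14_2 F61321 D20315 (iv D20315)
theorem F87594 : act 8 n20315 = n14159 := d15_2 (iv F61322) D20315 (iv D14159)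
def n20316 : Q := act 9 n13972
theorem D20316 : act 9 n13972 = n20316 := rfl
theorem F87595 : act 2 n20316 = n13973 := d23_1 D20316 (iv D13973) D13972
theorem F87596 : act 4 n20316 = n20316 := d34_1 D20316 (iv D20316) F61319
theorem F87597 : act 5 n20316 = n14819 := d38_1 D20316 (iv D14819) (iv F61320)
theorem F87598 : act 7 n20316 = n20316 := d43_1 D20316 (iv D20316) F61321
def n20317 : Q := act 8 n13973
theorem D20317 : act 8 n13973 = n20317 := rfl
theorem F87599 : act 1 n20317 = n13985 := d15_1 D20317 (iv D13985) (iv F61323)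
theorem F87600 : act 4 n20317 = n20317 := d33_1 D20317 (iv D20317) F61325
theorem F87601 : act 5 n20317 = n14820 := d37_1 D20317 (iv D14820) (iv F61326)
theorem F87602 : act 7 n20317 = n20317 := d42_1 D20317 (iv D20317) F61327
theorem F87603 : act 9 n20317 = n14161 := d44_2 D13973 D20317 (iv D14161) (iv D9755) (iv F43110)
def n20318 : Q := act 8 n13975
theorem D20318 : act 8 n13975 = n20318 := rfl
theorem F87604 : act 0 n20318 = n20318 := d7_1 D20318 (iv D20318) F61332
theorem F87605 : act 5 n20318 = n20318 := d37_1 D20318 (iv D20318) F61334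
theorem F87606 : act 6 n20318 = n13976 := d40_1 D20318 (iv D13976) D13975
theorem F87607 : act 7 n20318 = n14821 := d42_1 D20318 (iv D14821) (iv F61335)
def n20319 : Q := act 3 n13976
theorem D20319 : act 3 n13976 = n20319 := rfl
theorem F87608 : act 0 n20319 = n20319 := d2_1 D20319 (iv D20319) F61336
theorem F87609 : act 5 n20319 = n13979 := d25_2 (iv F61337) D20319 (iv D13979)
theorem F87610 : act 7 n20319 = n13977 := d27_2 (iv F61338) D20319 (iv D13977)
theorem F87611 : act 8 n20319 = n14163 := d28_2 D13976 D20319 (iv D14163) (iv D9758) (iv F43123)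
def n20320 : Q := act 9 n13976
theorem D20320 : act 9 n13976 = n20320 := rfl
theorem F87612 : act 0 n20320 = n20320 := d8_1 D20320 (iv D20320) F61336
theorem F87613 : act 5 n20320 = n13980 := d38_1 D20320 (iv D13980) (iv F61337)
theorem F87614 : act 7 n20320 = n13978 := d43_1 D20320 (iv D13978) (iv F61338)
def n20321 : Q := act 2 n13977
theorem D20321 : act 2 n13977 = n20321 := rfl
theorem F87615 : act 0 n20321 = n20321 := d1_1 D20321 (iv D20321) F61339
theorem F87616 : act 5 n20321 = n13981 := d19_2 (iv F61340) D20321 (iv D13981)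
theorem F87617 : act 6 n20321 = n14824 := d20_2 (iv F61341) D20321 (iv D14824)
theorem F87618 : act 8 n20321 = n14165 := d22_2 (iv F61342) D20321 (iv D14165)
def n20322 : Q := act 4 n13977
theorem D20322 : act 4 n13977 = n20322 := rfl
theorem F87619 : act 0 n20322 = n20322 := d3_1 D20322 (iv D20322) F61339
theorem F87620 : act 5 n20322 = n20322 := d30_2 (iv F61340) D20322 (iv D20322) F61340 F43133
theorem F87621 : act 6 n20322 = n14825 := d31_2 (iv F61341) D20322 (iv D14825)
theorem F87622 : act 8 n20322 = n14166 := d33_2 (iv F61342) D20322 (iv D14166)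
def n20323 : Q := act 9 n13977
theorem D20323 : act 9 n13977 = n20323 := rfl
theorem F87623 : act 0 n20323 = n20323 := d8_1 D20323 (iv D20323) F61339
theorem F87624 : act 3 n20323 = n13978 := d29_1 D20323 (iv D13978) D13977
theorem F87625 : act 5 n20323 = n13982 := d38_1 D20323 (iv D13982) (iv F61340)
theorem F87626 : act 6 n20323 = n14826 := d41_1 D20323 (iv D14826) (iv F61341)
def n20324 : Q := act 2 n13979
theorem D20324 : act 2 n13979 = n20324 := rfl
theorem F87627 : act 0 n20324 = n20324 := d1_1 D20324 (iv D20324) F61346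
theorem F87628 : act 4 n20324 = n20324 := d18_2 F61347 D20324 (iv D20324)
theorem F87629 : act 6 n20324 = n20324 := d20_2 F61348 D20324 (iv D20324)
theorem F87630 : act 7 n20324 = n13981 := d21_2 (iv F61349) D20324 (iv D13981)
theorem F87631 : act 8 n20324 = n14168 := d22_2 (iv F61350) D20324 (iv D14168)
def n20325 : Q := act 9 n13979
theorem D20325 : act 9 n13979 = n20325 := rfl
theorem F87632 : act 0 n20325 = n20325 := d8_1 D20325 (iv D20325) F61346
theorem F87633 : act 3 n20325 = n13980 := d29_1 D20325 (iv D13980) D13979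
theorem F87634 : act 4 n20325 = n20325 := d34_1 D20325 (iv D20325) F61347
theorem F87635 : act 6 n20325 = n20325 := d41_1 D20325 (iv D20325) F61348
theorem F87636 : act 7 n20325 = n13982 := d43_1 D20325 (iv D13982) (iv F61349)
def n20326 : Q := act 1 n13981
theorem D20326 : act 1 n13981 = n20326 := rfl
theorem F87637 : act 4 n20326 = n20326 := d11_2 F61356 D20326 (iv D20326)
theorem F87638 : act 6 n20326 = n13983 := d13_2 (iv F61357) D20326 (iv D13983)
theorem F87639 : act 8 n20326 = n14170 := d15_2 (iv F61358) D20326 (iv D14170)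
def n20327 : Q := act 9 n13981
theorem D20327 : act 9 n13981 = n20327 := rfl
theorem F87640 : act 0 n20327 = n20327 := d8_1 D20327 (iv D20327) F61355
theorem F87641 : act 2 n20327 = n13982 := d23_1 D20327 (iv D13982) D13981
theorem F87642 : act 4 n20327 = n20327 := d34_1 D20327 (iv D20327) F61356
theorem F87643 : act 6 n20327 = n13984 := d41_1 D20327 (iv D13984) (iv F61357)
def n20328 : Q := act 8 n13982
theorem D20328 : act 8 n13982 = n20328 := rfl
theorem F87644 : act 0 n20328 = n20328 := d7_1 D20328 (iv D20328) F61359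
theorem F87645 : act 4 n20328 = n20328 := d33_1 D20328 (iv D20328) F61361
theorem F87646 : act 6 n20328 = n13985 := d40_1 D20328 (iv D13985) (iv F61362)
theorem F87647 : act 9 n20328 = n14172 := d44_2 D13982 D20328 (iv D14172) (iv D9764) (iv F43135)
def n20329 : Q := act 0 n13983
theorem D20329 : act 0 n13983 = n20329 := rfl
theorem F87648 : act 1 n20329 = n20329 := d0_2 D13983 D20329 (iv D20329) (iv D13983) F43139
theorem F87649 : act 4 n20329 = n20329 := d3_2 F61363 D20329 (iv D20329)
theorem F87650 : act 5 n20329 = n14832 := d4_2 (iv F61364) D20329 (iv D14832)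
theorem F87651 : act 7 n20329 = n20329 := d6_2 F61365 D20329 (iv D20329)
theorem F87652 : act 8 n20329 = n14173 := d7_2 (iv F61366) D20329 (iv D14173)
def n20330 : Q := act 9 n13983
theorem D20330 : act 9 n13983 = n20330 := rfl
theorem F87653 : act 1 n20330 = n13984 := d16_1 D20330 (iv D13984) D13983
theorem F87654 : act 4 n20330 = n20330 := d34_1 D20330 (iv D20330) F61363
theorem F87655 : act 5 n20330 = n14833 := d38_1 D20330 (iv D14833) (iv F61364)
theorem F87656 : act 7 n20330 = n20330 := d43_1 D20330 (iv D20330) F61365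
def n20331 : Q := act 8 n13984
theorem D20331 : act 8 n13984 = n20331 := rfl
theorem F87657 : act 0 n20331 = n20331 := d7_1 D20331 (iv D20331) F61367
theorem F87658 : act 2 n20331 = n13985 := d22_1 D20331 (iv D13985) (iv F61368)
theorem F87659 : act 4 n20331 = n20331 := d33_1 D20331 (iv D20331) F61369
theorem F87660 : act 5 n20331 = n14834 := d37_1 D20331 (iv D14834) (iv F61370)
theorem F87661 : act 7 n20331 = n20331 := d42_1 D20331 (iv D20331) F61371
theorem F87662 : act 9 n20331 = n14175 := d44_2 D13984 D20331 (iv D14175) (iv D9766) (iv F43143)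
def n20332 : Q := act 5 n13986
theorem D20332 : act 5 n13986 = n20332 := rfl
theorem F87663 : act 0 n20332 = n14011 := d4_1 D20332 (iv D14011) (iv F61377)
theorem F87664 : act 1 n20332 = n13987 := d12_1 D20332 (iv D13987) D13986
def n20334 : Q := act 4 n13987
theorem D20334 : act 4 n13987 = n20334 := rfl
theorem F87676 : act 2 n20334 = n13989 := d18_1 D20334 (iv D13989) (iv F61385)
def n20335 : Q := act 6 n13987
theorem D20335 : act 6 n13987 = n20335 := rfl
theorem F87683 : act 5 n20335 = n20335 := d35_1 D20335 (iv D20335) (iv D13987) F43156 D13987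
def n20337 : Q := act 3 n13988
theorem D20337 : act 3 n13988 = n20337 := rfl
def n20339 : Q := act 6 n13989
theorem D20339 : act 6 n13989 = n20339 := rfl
def n20340 : Q := act 8 n13989
theorem D20340 : act 8 n13989 = n20340 := rfl
def n20345 : Q := act 6 n13994
theorem D20345 : act 6 n13994 = n20345 := rfl
theorem F87734 : act 2 n20345 = n13999 := d20_1 D20345 (iv D13999) (iv F61426)
theorem F87735 : act 4 n20345 = n13995 := d31_1 D20345 (iv D13995) D13994
def n20346 : Q := act 8 n13994
theorem D20346 : act 8 n13994 = n20346 := rfl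
theorem F87738 : act 2 n20346 = n14000 := d22_1 D20346 (iv D14000) (iv F61426)
def n20348 : Q := act 8 n13995
theorem D20348 : act 8 n13995 = n20348 := rfl
theorem F87749 : act 2 n20348 = n14002 := d22_1 D20348 (iv D14002) (iv F61431)
theorem F87750 : act 5 n20348 = n20348 := d37_1 D20348 (iv D20348) F61433
def n20349 : Q := act 3 n13996
theorem D20349 : act 3 n13996 = n20349 := rfl
def n20351 : Q := act 4 n13997
theorem D20351 : act 4 n13997 = n20351 := rfl
theorem F87765 : act 6 n20351 = n20351 := d31_2 F61441 D20351 (iv D20351)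
def n20353 : Q := act 5 n13999
theorem D20353 : act 5 n13999 = n20353 := rfl
theorem F87773 : act 1 n20353 = n14004 := d12_1 D20353 (iv D14004) (iv F61450)
def n20354 : Q := act 7 n13999
theorem D20354 : act 7 n13999 = n20354 := rfl
theorem F87780 : act 4 n20354 = n14001 := d32_1 D20354 (iv D14001) (iv F61452)
def n20355 : Q := act 8 n13999
theorem D20355 : act 8 n13999 = n20355 := rfl
def n20358 : Q := act 8 n14001
theorem D20358 : act 8 n14001 = n20358 := rfl
def n20360 : Q := act 7 n14004
theorem D20360 : act 7 n14004 = n20360 := rfl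
theorem F87807 : act 2 n20360 = n14039 := d21_1 D20360 (iv D14039) (iv F61473)
theorem F87810 : act 5 n20360 = n14005 := d36_1 D20360 (iv D14005) D14004
def n20361 : Q := act 8 n14004
theorem D20361 : act 8 n14004 = n20361 := rfl
theorem F87813 : act 2 n20361 = n14040 := d22_1 D20361 (iv D14040) (iv F61473)
theorem F87815 : act 5 n20361 = n14006 := d37_1 D20361 (iv D14006) D14004
def n20362 : Q := act 8 n14005
theorem D20362 : act 8 n14005 = n20362 := rfl
theorem F87818 : act 2 n20362 = n14041 := d22_1 D20362 (iv D14041) (iv F61479)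
theorem F87821 : act 7 n20362 = n14006 := d42_1 D20362 (iv D14006) D14005
def n20363 : Q := act 3 n14006
theorem D20363 : act 3 n14006 = n20363 := rfl
theorem F87824 : act 6 n20363 = n14007 := d26_2 (iv F61487) D20363 (iv D14007)
def n20364 : Q := act 9 n14006
theorem D20364 : act 9 n14006 = n20364 := rfl
def n20365 : Q := act 2 n14007
theorem D20365 : act 2 n14007 = n20365 := rfl
def n20366 : Q := act 9 n14007
theorem D20366 : act 9 n14007 = n20366 := rfl
def n20368 : Q := act 4 n14011
theorem D20368 : act 4 n14011 = n20368 := rfl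
def n20369 : Q := act 6 n14011
theorem D20369 : act 6 n14011 = n20369 := rfl
theorem F87854 : act 1 n20369 = n14014 := d13_1 D20369 (iv D14014) (iv F61511)
def n20373 : Q := act 3 n14013
theorem D20373 : act 3 n14013 = n20373 := rfl
def n20374 : Q := act 6 n14013
theorem D20374 : act 6 n14013 = n20374 := rfl
theorem F87878 : act 0 n20374 = n14024 := d5_1 D20374 (iv D14024) (iv F61521)
theorem F87879 : act 2 n20374 = n14018 := d20_1 D20374 (iv D14018) (iv F61522)
def n20375 : Q := act 8 n14013
theorem D20375 : act 8 n14013 = n20375 := rfl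
theorem F87883 : act 2 n20375 = n14019 := d22_1 D20375 (iv D14019) (iv F61522)
def n20376 : Q := act 7 n14014
theorem D20376 : act 7 n14014 = n20376 := rfl
theorem F87887 : act 0 n20376 = n14026 := d6_1 D20376 (iv D14026) (iv F61526)
theorem F87888 : act 2 n20376 = n14020 := d21_1 D20376 (iv D14020) (iv F61527)
def n20377 : Q := act 8 n14014
theorem D20377 : act 8 n14014 = n20377 := rfl
theorem F87894 : act 2 n20377 = n14021 := d22_1 D20377 (iv D14021) (iv F61527)
theorem F87895 : act 5 n20377 = n20377 := d37_1 D20377 (iv D20377) F61529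
theorem F87896 : act 6 n20377 = n14015 := d40_1 D20377 (iv D14015) D14014
def n20378 : Q := act 3 n14015
theorem D20378 : act 3 n14015 = n20378 := rfl
theorem F87898 : act 2 n20378 = n14057 := d17_1 D20378 (iv D14057) F43379 (iv F43268) (iv F61532)
def n20382 : Q := act 5 n14018
theorem D20382 : act 5 n14018 = n20382 := rfl
def n20383 : Q := act 7 n14018
theorem D20383 : act 7 n14018 = n20383 := rfl
theorem F87923 : act 0 n20383 = n14033 := d6_1 D20383 (iv D14033) (iv F61546)
theorem F87925 : act 4 n20383 = n14020 := d32_1 D20383 (iv D14020) (iv F61548)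
def n20384 : Q := act 8 n14018
theorem D20384 : act 8 n14018 = n20384 := rfl
theorem F87930 : act 4 n20384 = n14021 := d33_1 D20384 (iv D14021) (iv F61548)
def n20385 : Q := act 3 n14019
theorem D20385 : act 3 n14019 = n20385 := rfl
theorem F87934 : act 4 n20385 = n14064 := d24_2 (iv F61552) D20385 (iv D14064) F43398 (iv F43268)
def n20386 : Q := act 9 n14019
theorem D20386 : act 9 n14019 = n20386 := rfl
def n20387 : Q := act 8 n14020
theorem D20387 : act 8 n14020 = n20387 := rfl
theorem F87945 : act 3 n20387 = n14066 := d28_1 D20387 (iv D14066) F43403 (iv F43283) (iv F61557)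
def n20389 : Q := act 6 n14023
theorem D20389 : act 6 n14023 = n20389 := rfl
def n20390 : Q := act 8 n14023
theorem D20390 : act 8 n14023 = n20390 := rfl
def n20391 : Q := act 5 n14024
theorem D20391 : act 5 n14024 = n20391 := rfl
theorem F87961 : act 2 n20391 = n14032 := d19_1 D20391 (iv D14032) (iv F61576)
def n20392 : Q := act 7 n14024
theorem D20392 : act 7 n14024 = n20392 := rfl
def n20393 : Q := act 8 n14024
theorem D20393 : act 8 n14024 = n20393 := rfl
theorem F87969 : act 2 n20393 = n14034 := d22_1 D20393 (iv D14034) (iv F61576)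
def n20394 : Q := act 3 n14025
theorem D20394 : act 3 n14025 = n20394 := rfl
def n20396 : Q := act 8 n14026
theorem D20396 : act 8 n14026 = n20396 := rfl
theorem F87979 : act 2 n20396 = n14037 := d22_1 D20396 (iv D14037) (iv F61583)
theorem F87982 : act 7 n20396 = n14027 := d42_1 D20396 (iv D14027) D14026
def n20397 : Q := act 3 n14027
theorem D20397 : act 3 n14027 = n20397 := rfl
theorem F87984 : act 5 n20397 = n20397 := d25_2 F61589 D20397 (iv D20397)
theorem F87985 : act 6 n20397 = n14028 := d26_2 (iv F61590) D20397 (iv D14028)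
def n20398 : Q := act 9 n14027
theorem D20398 : act 9 n14027 = n20398 := rfl
def n20399 : Q := act 4 n14028
theorem D20399 : act 4 n14028 = n20399 := rfl
def n20404 : Q := act 7 n14032
theorem D20404 : act 7 n14032 = n20404 := rfl
theorem F88012 : act 1 n20404 = n14039 := d14_1 D20404 (iv D14039) (iv F61608)
theorem F88014 : act 5 n20404 = n14033 := d36_1 D20404 (iv D14033) D14032
def n20405 : Q := act 8 n14032
theorem D20405 : act 8 n14032 = n20405 := rfl
theorem F88016 : act 1 n20405 = n14040 := d15_1 D20405 (iv D14040) (iv F61608)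
theorem F88018 : act 5 n20405 = n14034 := d37_1 D20405 (iv D14034) D14032
def n20406 : Q := act 8 n14033
theorem D20406 : act 8 n14033 = n20406 := rfl
theorem F88020 : act 1 n20406 = n14041 := d15_1 D20406 (iv D14041) (iv F61612)
theorem F88021 : act 4 n20406 = n14037 := d33_1 D20406 (iv D14037) (iv F61613)
theorem F88023 : act 7 n20406 = n14034 := d42_1 D20406 (iv D14034) D14033
def n20407 : Q := act 3 n14034
theorem D20407 : act 3 n14034 = n20407 := rfl
theorem F88024 : act 1 n20407 = n14042 := d10_1 D20407 (iv D14042) (iv F61616)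
theorem F88026 : act 6 n20407 = n14035 := d26_2 (iv F61618) D20407 (iv D14035)
def n20408 : Q := act 9 n14034
theorem D20408 : act 9 n14034 = n20408 := rfl
def n20409 : Q := act 2 n14035
theorem D20409 : act 2 n14035 = n20409 := rfl
theorem F88031 : act 4 n20409 = n14088 := d18_2 (iv F61620) D20409 (iv D14088)
def n20410 : Q := act 9 n14035
theorem D20410 : act 9 n14035 = n20410 := rfl
theorem F88034 : act 1 n20410 = n14045 := d16_1 D20410 (iv D14045) (iv F61619)
def n20411 : Q := act 9 n14037
theorem D20411 : act 9 n14037 = n20411 := rfl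
theorem F88039 : act 1 n20411 = n14046 := d16_1 D20411 (iv D14046) (iv F61628)
def n20412 : Q := act 6 n14039
theorem D20412 : act 6 n14039 = n20412 := rfl
def n20413 : Q := act 8 n14039
theorem D20413 : act 8 n14039 = n20413 := rfl
theorem F88052 : act 5 n20413 = n14041 := d37_1 D20413 (iv D14041) (iv F61640)
def n20414 : Q := act 3 n14040
theorem D20414 : act 3 n14040 = n20414 := rfl
theorem F88054 : act 0 n20414 = n20414 := d2_1 D20414 (iv D20414) F61642
theorem F88055 : act 5 n20414 = n14042 := d25_2 (iv F61644) D20414 (iv D14042)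
theorem F88056 : act 6 n20414 = n20414 := d26_2 F61645 D20414 (iv D20414)
def n20415 : Q := act 9 n14040
theorem D20415 : act 9 n14040 = n20415 := rfl
def n20416 : Q := act 3 n14041
theorem D20416 : act 3 n14041 = n20416 := rfl
theorem F88062 : act 0 n20416 = n20416 := d2_1 D20416 (iv D20416) F61646
theorem F88063 : act 4 n20416 = n14095 := d24_2 (iv F61647) D20416 (iv D14095) F43497 (iv F43347)
theorem F88064 : act 6 n20416 = n20416 := d26_2 F61648 D20416 (iv D20416)
theorem F88065 : act 7 n20416 = n14042 := d27_2 (iv F61649) D20416 (iv D14042)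
def n20417 : Q := act 9 n14041
theorem D20417 : act 9 n14041 = n20417 := rfl
theorem F88069 : act 7 n20417 = n14043 := d43_1 D20417 (iv D14043) (iv F61649)
def n20418 : Q := act 2 n14042
theorem D20418 : act 2 n14042 = n20418 := rfl
theorem F88071 : act 0 n20418 = n20418 := d1_1 D20418 (iv D20418) F61650
theorem F88072 : act 4 n20418 = n14097 := d18_2 (iv F61651) D20418 (iv D14097)
theorem F88073 : act 6 n20418 = n14044 := d20_2 (iv F61652) D20418 (iv D14044)
def n20419 : Q := act 9 n14042
theorem D20419 : act 9 n14042 = n20419 := rfl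
def n20420 : Q := act 1 n14044
theorem D20420 : act 1 n14044 = n20420 := rfl
theorem F88078 : act 4 n20420 = n14099 := d11_2 (iv F61658) D20420 (iv D14099)
theorem F88079 : act 5 n20420 = n20420 := d12_2 F61659 D20420 (iv D20420)
theorem F88080 : act 7 n20420 = n20420 := d14_2 F61660 D20420 (iv D20420)
def n20421 : Q := act 9 n14044
theorem D20421 : act 9 n14044 = n20421 := rfl
theorem F88082 : act 2 n20421 = n14045 := d23_1 D20421 (iv D14045) D14044
def n20422 : Q := act 8 n14045
theorem D20422 : act 8 n14045 = n20422 := rfl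
def n20425 : Q := act 8 n14047
theorem D20425 : act 8 n14047 = n20425 := rfl
theorem F88105 : act 4 n20425 = n14049 := d33_1 D20425 (iv D14049) D14047
theorem F88106 : act 5 n20425 = n14837 := d37_1 D20425 (iv D14837) (iv F61675)
def n20428 : Q := act 3 n14049
theorem D20428 : act 3 n14049 = n20428 := rfl
theorem F88121 : act 1 n20428 = n14057 := d10_1 D20428 (iv D14057) (iv F61685)
theorem F88122 : act 5 n20428 = n14050 := d25_2 (iv F61687) D20428 (iv D14050)
def n20431 : Q := act 4 n14050
theorem D20431 : act 4 n14050 = n20431 := rfl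
theorem F88138 : act 3 n20431 = n14843 := d24_1 D20431 (iv D14843) (iv D10210) (iv F43365) D14050
def n20433 : Q := act 6 n14052
theorem D20433 : act 6 n14052 = n20433 := rfl
theorem F88147 : act 0 n20433 = n14068 := d5_1 D20433 (iv D14068) (iv F61701)
theorem F88148 : act 3 n20433 = n14053 := d26_1 D20433 (iv D14053) D14052
theorem F88150 : act 9 n20433 = n14111 := d41_2 (iv F61705) D20433 (iv D14111)
def n20434 : Q := act 8 n14052
theorem D20434 : act 8 n14052 = n20434 := rfl
def n20435 : Q := act 5 n14053
theorem D20435 : act 5 n14053 = n20435 := rfl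
theorem F88159 : act 9 n20435 = n14113 := d38_2 (iv F61709) D20435 (iv D14113)
def n20436 : Q := act 7 n14053
theorem D20436 : act 7 n14053 = n20436 := rfl
theorem F88162 : act 4 n20436 = n14055 := d32_1 D20436 (iv D14055) (iv F61708)
theorem F88164 : act 9 n20436 = n14114 := d43_2 (iv F61709) D20436 (iv D14114)
def n20437 : Q := act 8 n14053
theorem D20437 : act 8 n14053 = n20437 := rfl
theorem F88166 : act 2 n20437 = n14063 := d22_1 D20437 (iv D14063) (iv F61707)
theorem F88167 : act 4 n20437 = n14056 := d33_1 D20437 (iv D14056) (iv F61708)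
theorem F88168 : act 6 n20437 = n14054 := d40_1 D20437 (iv D14054) D14053
def n20438 : Q := act 3 n14054
theorem D20438 : act 3 n14054 = n20438 := rfl
theorem F88170 : act 5 n20438 = n14850 := d25_2 (iv F61713) D20438 (iv D14850)
def n20439 : Q := act 9 n14054
theorem D20439 : act 9 n14054 = n20439 := rfl
theorem F88177 : act 8 n20439 = n14117 := d44_1 D20439 (iv D14117) (iv D9723) (iv F43372) D14054
def n20440 : Q := act 8 n14055
theorem D20440 : act 8 n14055 = n20440 := rfl
theorem F88178 : act 0 n20440 = n14075 := d7_1 D20440 (iv D14075) (iv F61715)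
theorem F88182 : act 7 n20440 = n14056 := d42_1 D20440 (iv D14056) D14055
def n20441 : Q := act 3 n14056
theorem D20441 : act 3 n14056 = n20441 := rfl
theorem F88185 : act 6 n20441 = n14057 := d26_2 (iv F61724) D20441 (iv D14057)
def n20442 : Q := act 9 n14056
theorem D20442 : act 9 n14056 = n20442 := rfl
theorem F88188 : act 2 n20442 = n14067 := d23_1 D20442 (iv D14067) (iv F61722)
theorem F88191 : act 8 n20442 = n14120 := d44_1 D20442 (iv D14120) (iv D9725) (iv F43377) D14056
def n20443 : Q := act 4 n14057
theorem D20443 : act 4 n14057 = n20443 := rfl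
def n20444 : Q := act 9 n14057
theorem D20444 : act 9 n14057 = n20444 := rfl
theorem F88196 : act 3 n20444 = n14058 := d29_1 D20444 (iv D14058) D14057
def n20445 : Q := act 5 n14059
theorem D20445 : act 5 n14059 = n20445 := rfl
theorem F88200 : act 3 n20445 = n14857 := d25_1 D20445 (iv D14857) (iv F61735)
def n20446 : Q := act 9 n14059
theorem D20446 : act 9 n14059 = n20446 := rfl
theorem F88205 : act 4 n20446 = n14060 := d34_1 D20446 (iv D14060) D14059
def n20448 : Q := act 7 n14061
theorem D20448 : act 7 n14061 = n20448 := rfl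
theorem F88213 : act 0 n20448 = n14083 := d6_1 D20448 (iv D14083) (iv F61743)
theorem F88214 : act 1 n20448 = n20448 := d14_1 D20448 (iv D20448) F61744
theorem F88215 : act 4 n20448 = n20448 := d32_1 D20448 (iv D20448) F61745
theorem F88216 : act 5 n20448 = n14062 := d36_1 D20448 (iv D14062) D14061
theorem F88217 : act 9 n20448 = n14124 := d43_2 (iv F61747) D20448 (iv D14124)
def n20449 : Q := act 8 n14061
theorem D20449 : act 8 n14061 = n20449 := rfl
theorem F88221 : act 5 n20449 = n14063 := d37_1 D20449 (iv D14063) D14061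
theorem F88222 : act 6 n20449 = n14860 := d40_1 D20449 (iv D14860) (iv F61746)
def n20450 : Q := act 8 n14062
theorem D20450 : act 8 n14062 = n20450 := rfl
theorem F88225 : act 4 n20450 = n14066 := d33_1 D20450 (iv D14066) (iv F61750)
def n20451 : Q := act 3 n14063
theorem D20451 : act 3 n14063 = n20451 := rfl
def n20453 : Q := act 2 n14064
theorem D20453 : act 2 n14064 = n20453 := rfl
def n20455 : Q := act 9 n14066
theorem D20455 : act 9 n14066 = n20455 := rfl
theorem F88249 : act 8 n20455 = n14131 := d44_1 D20455 (iv D14131) (iv D9734) (iv F43406) D14066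
def n20456 : Q := act 5 n14068
theorem D20456 : act 5 n14068 = n20456 := rfl
theorem F88250 : act 1 n20456 = n20456 := d12_1 D20456 (iv D20456) F61777
theorem F88251 : act 3 n20456 = n14070 := d25_1 D20456 (iv D14070) (iv F61778)
theorem F88252 : act 6 n20456 = n14867 := d35_2 D14068 D20456 (iv D14867) (iv D10228) (iv F43418)
theorem F88253 : act 9 n20456 = n14132 := d38_2 (iv F61780) D20456 (iv D14132)
def n20457 : Q := act 7 n14068
theorem D20457 : act 7 n14068 = n20457 := rfl
theorem F88254 : act 1 n20457 = n20457 := d14_1 D20457 (iv D20457) F61777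
theorem F88255 : act 3 n20457 = n14071 := d27_1 D20457 (iv D14071) (iv F61778)
theorem F88256 : act 4 n20457 = n20457 := d32_1 D20457 (iv D20457) F61779
theorem F88257 : act 6 n20457 = n20457 := d39_1 D20457 (iv D20457) (iv D14068) F43419 D14068
theorem F88258 : act 9 n20457 = n14133 := d43_2 (iv F61780) D20457 (iv D14133)
def n20458 : Q := act 8 n14068
theorem D20458 : act 8 n14068 = n20458 := rfl
theorem F88259 : act 1 n20458 = n20458 := d15_1 D20458 (iv D20458) F61777
theorem F88260 : act 4 n20458 = n20458 := d33_1 D20458 (iv D20458) F61779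
theorem F88261 : act 6 n20458 = n14069 := d40_1 D20458 (iv D14069) D14068
def n20459 : Q := act 3 n14069
theorem D20459 : act 3 n14069 = n20459 := rfl
theorem F88265 : act 8 n20459 = n14073 := d28_2 D14069 D20459 (iv D14073) (iv D9694) D9692
def n20460 : Q := act 9 n14069
theorem D20460 : act 9 n14069 = n20460 := rfl
theorem F88266 : act 1 n20460 = n20460 := d16_1 D20460 (iv D20460) F61781
theorem F88267 : act 4 n20460 = n20460 := d34_1 D20460 (iv D20460) F61782
theorem F88268 : act 5 n20460 = n14871 := d38_1 D20460 (iv D14871) (iv F61783)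
theorem F88269 : act 7 n20460 = n20460 := d43_1 D20460 (iv D20460) F61784
theorem F88270 : act 8 n20460 = n14136 := d44_1 D20460 (iv D14136) (iv D9737) (iv F43420) D14069
def n20461 : Q := act 7 n14070
theorem D20461 : act 7 n14070 = n20461 := rfl
theorem F88271 : act 1 n20461 = n20461 := d14_1 D20461 (iv D20461) F61785
theorem F88272 : act 2 n20461 = n14083 := d21_1 D20461 (iv D14083) (iv F61786)
theorem F88273 : act 4 n20461 = n20461 := d32_1 D20461 (iv D20461) F61787
theorem F88274 : act 5 n20461 = n14071 := d36_1 D20461 (iv D14071) D14070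
theorem F88275 : act 9 n20461 = n14137 := d43_2 (iv F61789) D20461 (iv D14137)
def n20462 : Q := act 8 n14070
theorem D20462 : act 8 n14070 = n20462 := rfl
theorem F88279 : act 5 n20462 = n14072 := d37_1 D20462 (iv D14072) D14070
theorem F88280 : act 6 n20462 = n14873 := d40_1 D20462 (iv D14873) (iv F61788)
def n20463 : Q := act 8 n14071
theorem D20463 : act 8 n14071 = n20463 := rfl
theorem F88283 : act 4 n20463 = n14075 := d33_1 D20463 (iv D14075) (iv F61792)
def n20464 : Q := act 3 n14072
theorem D20464 : act 3 n14072 = n20464 := rfl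
theorem F88287 : act 6 n20464 = n14073 := d26_2 (iv F61798) D20464 (iv D14073)
def n20465 : Q := act 9 n14072
theorem D20465 : act 9 n14072 = n20465 := rfl
theorem F88289 : act 2 n20465 = n14087 := d23_1 D20465 (iv D14087) (iv F61796)
theorem F88292 : act 8 n20465 = n14141 := d44_1 D20465 (iv D14141) (iv D9740) (iv F43424) D14072
def n20466 : Q := act 2 n14073
theorem D20466 : act 2 n14073 = n20466 := rfl
theorem F88293 : act 3 n20466 = n14088 := d17_2 D14073 D20466 (iv D14088) (iv D9704) (iv F43426)
theorem F88294 : act 5 n20466 = n14877 := d19_2 (iv F61800) D20466 (iv D14877)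
def n20467 : Q := act 4 n14073
theorem D20467 : act 4 n14073 = n20467 := rfl
theorem F88297 : act 3 n20467 = n14078 := d24_1 D20467 (iv D14078) (iv D9697) (iv F43427) D14073
def n20468 : Q := act 9 n14073
theorem D20468 : act 9 n14073 = n20468 := rfl
theorem F88300 : act 3 n20468 = n14074 := d29_1 D20468 (iv D14074) D14073
theorem F88301 : act 5 n20468 = n14879 := d38_1 D20468 (iv D14879) (iv F61800)
def n20469 : Q := act 3 n14075
theorem D20469 : act 3 n14075 = n20469 := rfl
theorem F88306 : act 7 n20469 = n14076 := d27_2 (iv F61812) D20469 (iv D14076)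
def n20470 : Q := act 9 n14075
theorem D20470 : act 9 n14075 = n20470 := rfl
theorem F88309 : act 2 n20470 = n14090 := d23_1 D20470 (iv D14090) (iv F61809)
theorem F88312 : act 7 n20470 = n14077 := d43_1 D20470 (iv D14077) (iv F61812)
theorem F88313 : act 8 n20470 = n14146 := d44_1 D20470 (iv D14146) (iv D9743) (iv F43435) D14075
def n20471 : Q := act 4 n14076
theorem D20471 : act 4 n14076 = n20471 := rfl
theorem F88315 : act 6 n20471 = n14078 := d31_2 (iv F61815) D20471 (iv D14078)
def n20473 : Q := act 5 n14078
theorem D20473 : act 5 n14078 = n20473 := rfl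
theorem F88322 : act 4 n20473 = n14080 := d30_1 D20473 (iv D14080) (iv D9699) (iv F43441) D14078
def n20474 : Q := act 9 n14078
theorem D20474 : act 9 n14078 = n20474 := rfl
theorem F88326 : act 4 n20474 = n14079 := d34_1 D20474 (iv D14079) D14078
def n20475 : Q := act 8 n14079
theorem D20475 : act 8 n14079 = n20475 := rfl
theorem F88329 : act 3 n20475 = n14150 := d28_1 D20475 (iv D14150) F43665 (iv F43448) (iv F61826)
def n20476 : Q := act 6 n14080
theorem D20476 : act 6 n14080 = n20476 := rfl
theorem F88334 : act 3 n20476 = n14886 := d26_1 D20476 (iv D14886) (iv F61830)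
def n20479 : Q := act 6 n14083
theorem D20479 : act 6 n14083 = n20479 := rfl
theorem F88347 : act 1 n20479 = n14091 := d13_1 D20479 (iv D14091) (iv F61843)
theorem F88348 : act 4 n20479 = n20479 := d31_1 D20479 (iv D20479) F61844
theorem F88349 : act 5 n20479 = n20479 := d35_1 D20479 (iv D20479) F61845 F43464 (iv F61845)
theorem F88350 : act 7 n20479 = n14888 := d39_2 D14083 D20479 (iv D14888) (iv D10242) (iv F43460)
theorem F88351 : act 9 n20479 = n14151 := d41_2 (iv F61846) D20479 (iv D14151)
def n20480 : Q := act 8 n14083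
theorem D20480 : act 8 n14083 = n20480 := rfl
theorem F88352 : act 1 n20480 = n14092 := d15_1 D20480 (iv D14092) (iv F61843)
theorem F88353 : act 4 n20480 = n20480 := d33_1 D20480 (iv D20480) F61844
theorem F88354 : act 5 n20480 = n14085 := d37_1 D20480 (iv D14085) (iv F61845)
theorem F88355 : act 7 n20480 = n14084 := d42_1 D20480 (iv D14084) D14083
def n20481 : Q := act 3 n14084
theorem D20481 : act 3 n14084 = n20481 := rfl
theorem F88356 : act 1 n20481 = n14093 := d10_1 D20481 (iv D14093) (iv F61847)
theorem F88357 : act 5 n20481 = n14086 := d25_2 (iv F61849) D20481 (iv D14086)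
theorem F88358 : act 6 n20481 = n14890 := d26_2 (iv F61850) D20481 (iv D14890)
def n20482 : Q := act 9 n14084
theorem D20482 : act 9 n14084 = n20482 := rfl
theorem F88359 : act 1 n20482 = n14094 := d16_1 D20482 (iv D14094) (iv F61847)
theorem F88361 : act 5 n20482 = n14087 := d38_1 D20482 (iv D14087) (iv F61849)
theorem F88363 : act 8 n20482 = n14154 := d44_1 D20482 (iv D14154) (iv D9750) (iv F43461) D14084
def n20483 : Q := act 3 n14085
theorem D20483 : act 3 n14085 = n20483 := rfl
theorem F88364 : act 1 n20483 = n14095 := d10_1 D20483 (iv D14095) (iv F61851)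
theorem F88365 : act 6 n20483 = n20483 := d26_2 F61853 D20483 (iv D20483)
theorem F88366 : act 7 n20483 = n14086 := d27_2 (iv F61854) D20483 (iv D14086)
def n20484 : Q := act 9 n14085
theorem D20484 : act 9 n14085 = n20484 := rfl
theorem F88368 : act 4 n20484 = n14090 := d34_1 D20484 (iv D14090) (iv F61852)
theorem F88371 : act 8 n20484 = n14156 := d44_1 D20484 (iv D14156) (iv D9751) (iv F43465) D14085
def n20485 : Q := act 2 n14086
theorem D20485 : act 2 n14086 = n20485 := rfl
theorem F88372 : act 6 n20485 = n14088 := d20_2 (iv F61856) D20485 (iv D14088)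
def n20486 : Q := act 9 n14086
theorem D20486 : act 9 n14086 = n20486 := rfl
theorem F88373 : act 1 n20486 = n14098 := d16_1 D20486 (iv D14098) (iv F61855)
theorem F88374 : act 3 n20486 = n14087 := d29_1 D20486 (iv D14087) D14086
def n20487 : Q := act 1 n14088
theorem D20487 : act 1 n14088 = n20487 := rfl
theorem F88376 : act 2 n20487 = n14099 := d9_2 D14088 D20487 (iv D14099) (iv D9713) (iv F43469)
theorem F88377 : act 5 n20487 = n14896 := d12_2 (iv F61861) D20487 (iv D14896)
theorem F88378 : act 7 n20487 = n20487 := d14_2 F61862 D20487 (iv D20487)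
def n20488 : Q := act 9 n14088
theorem D20488 : act 9 n14088 = n20488 := rfl
theorem F88379 : act 2 n20488 = n14089 := d23_1 D20488 (iv D14089) D14088
def n20489 : Q := act 8 n14089
theorem D20489 : act 8 n14089 = n20489 := rfl
theorem F88383 : act 3 n20489 = n14161 := d28_1 D20489 (iv D14161) F43695 (iv F43476) (iv F61864)
def n20490 : Q := act 8 n14091
theorem D20490 : act 8 n14091 = n20490 := rfl
theorem F88386 : act 0 n20490 = n20490 := d7_1 D20490 (iv D20490) F61872
theorem F88387 : act 2 n20490 = n20490 := d22_1 D20490 (iv D20490) F61873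
theorem F88388 : act 4 n20490 = n20490 := d33_1 D20490 (iv D20490) F61874
theorem F88389 : act 5 n20490 = n20490 := d37_1 D20490 (iv D20490) F61875
theorem F88390 : act 6 n20490 = n14092 := d40_1 D20490 (iv D14092) D14091
theorem F88391 : act 7 n20490 = n14899 := d42_1 D20490 (iv D14899) (iv F61876)
def n20491 : Q := act 3 n14092
theorem D20491 : act 3 n14092 = n20491 := rfl
theorem F88392 : act 0 n20491 = n20491 := d2_1 D20491 (iv D20491) F61878
theorem F88393 : act 5 n20491 = n14095 := d25_2 (iv F61881) D20491 (iv D14095)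
theorem F88394 : act 7 n20491 = n14093 := d27_2 (iv F61882) D20491 (iv D14093)
def n20492 : Q := act 9 n14092
theorem D20492 : act 9 n14092 = n20492 := rfl
theorem F88395 : act 0 n20492 = n20492 := d8_1 D20492 (iv D20492) F61878
theorem F88396 : act 2 n20492 = n20492 := d23_1 D20492 (iv D20492) F61879
theorem F88397 : act 4 n20492 = n20492 := d34_1 D20492 (iv D20492) F61880
theorem F88398 : act 5 n20492 = n14096 := d38_1 D20492 (iv D14096) (iv F61881)
theorem F88399 : act 7 n20492 = n14094 := d43_1 D20492 (iv D14094) (iv F61882)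
theorem F88400 : act 8 n20492 = n14164 := d44_1 D20492 (iv D14164) (iv D9758) (iv F43489) D14092
def n20493 : Q := act 2 n14093
theorem D20493 : act 2 n14093 = n20493 := rfl
theorem F88401 : act 0 n20493 = n20493 := d1_1 D20493 (iv D20493) F61883
theorem F88402 : act 3 n20493 = n20493 := d17_2 D14093 D20493 (iv D20493) (iv D14093) F43491
theorem F88403 : act 5 n20493 = n14097 := d19_2 (iv F61884) D20493 (iv D14097)
theorem F88404 : act 6 n20493 = n14902 := d20_2 (iv F61885) D20493 (iv D14902)
def n20494 : Q := act 4 n14093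
theorem D20494 : act 4 n14093 = n20494 := rfl
theorem F88405 : act 0 n20494 = n20494 := d3_1 D20494 (iv D20494) F61883
theorem F88406 : act 3 n20494 = n20494 := d24_1 D20494 (iv D20494) (iv D14093) F43492 D14093
theorem F88407 : act 6 n20494 = n14903 := d31_2 (iv F61885) D20494 (iv D14903)
def n20495 : Q := act 9 n14093
theorem D20495 : act 9 n14093 = n20495 := rfl
theorem F88408 : act 0 n20495 = n20495 := d8_1 D20495 (iv D20495) F61883
theorem F88409 : act 3 n20495 = n14094 := d29_1 D20495 (iv D14094) D14093
theorem F88410 : act 5 n20495 = n14098 := d38_1 D20495 (iv D14098) (iv F61884)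
theorem F88411 : act 6 n20495 = n14904 := d41_1 D20495 (iv D14904) (iv F61885)
def n20496 : Q := act 2 n14095
theorem D20496 : act 2 n14095 = n20496 := rfl
theorem F88412 : act 0 n20496 = n20496 := d1_1 D20496 (iv D20496) F61892
theorem F88413 : act 3 n20496 = n20496 := d17_2 D14095 D20496 (iv D20496) (iv D14095) F43496
theorem F88414 : act 6 n20496 = n20496 := d20_2 F61893 D20496 (iv D20496)
theorem F88415 : act 7 n20496 = n14097 := d21_2 (iv F61894) D20496 (iv D14097)
def n20497 : Q := act 9 n14095
theorem D20497 : act 9 n14095 = n20497 := rfl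
theorem F88416 : act 0 n20497 = n20497 := d8_1 D20497 (iv D20497) F61892
theorem F88417 : act 3 n20497 = n14096 := d29_1 D20497 (iv D14096) D14095
theorem F88418 : act 6 n20497 = n20497 := d41_1 D20497 (iv D20497) F61893
theorem F88419 : act 7 n20497 = n14098 := d43_1 D20497 (iv D14098) (iv F61894)
def n20498 : Q := act 1 n14097
theorem D20498 : act 1 n14097 = n20498 := rfl
theorem F88420 : act 3 n20498 = n20498 := d10_2 F61902 D20498 (iv D20498)
theorem F88421 : act 6 n20498 = n14099 := d13_2 (iv F61903) D20498 (iv D14099)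
def n20499 : Q := act 9 n14097
theorem D20499 : act 9 n14097 = n20499 := rfl
theorem F88422 : act 0 n20499 = n20499 := d8_1 D20499 (iv D20499) F61901
theorem F88423 : act 2 n20499 = n14098 := d23_1 D20499 (iv D14098) D14097
theorem F88424 : act 3 n20499 = n20499 := d29_1 D20499 (iv D20499) F61902
theorem F88425 : act 6 n20499 = n14100 := d41_1 D20499 (iv D14100) (iv F61903)
def n20500 : Q := act 8 n14098
theorem D20500 : act 8 n14098 = n20500 := rfl
theorem F88426 : act 0 n20500 = n20500 := d7_1 D20500 (iv D20500) F61904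
theorem F88427 : act 3 n20500 = n14172 := d28_1 D20500 (iv D14172) F43736 (iv F43506) (iv F61905)
theorem F88428 : act 6 n20500 = n14101 := d40_1 D20500 (iv D14101) (iv F61906)
def n20501 : Q := act 0 n14099
theorem D20501 : act 0 n14099 = n20501 := rfl
theorem F88429 : act 1 n20501 = n20501 := d0_2 D14099 D20501 (iv D20501) (iv D14099) F43507
theorem F88430 : act 3 n20501 = n20501 := d2_2 F61907 D20501 (iv D20501)
theorem F88431 : act 5 n20501 = n14910 := d4_2 (iv F61908) D20501 (iv D14910)
theorem F88432 : act 7 n20501 = n20501 := d6_2 F61909 D20501 (iv D20501)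
def n20502 : Q := act 9 n14099
theorem D20502 : act 9 n14099 = n20502 := rfl
theorem F88433 : act 1 n20502 = n14100 := d16_1 D20502 (iv D14100) D14099
theorem F88434 : act 3 n20502 = n20502 := d29_1 D20502 (iv D20502) F61907
theorem F88435 : act 5 n20502 = n14911 := d38_1 D20502 (iv D14911) (iv F61908)
theorem F88436 : act 7 n20502 = n20502 := d43_1 D20502 (iv D20502) F61909
def n20503 : Q := act 8 n14100
theorem D20503 : act 8 n14100 = n20503 := rfl
theorem F88437 : act 0 n20503 = n20503 := d7_1 D20503 (iv D20503) F61910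
theorem F88438 : act 2 n20503 = n14101 := d22_1 D20503 (iv D14101) (iv F61911)
theorem F88439 : act 5 n20503 = n14912 := d37_1 D20503 (iv D14912) (iv F61913)
theorem F88440 : act 7 n20503 = n20503 := d42_1 D20503 (iv D20503) F61914
def n20520 : Q := act 5 n14111
theorem D20520 : act 5 n14111 = n20520 := rfl
theorem F88525 : act 0 n20520 = n14132 := d4_1 D20520 (iv D14132) (iv F61968)
theorem F88526 : act 3 n20520 = n14113 := d25_1 D20520 (iv D14113) (iv F61969)
theorem F88527 : act 6 n20520 = n14923 := d35_2 D14111 D20520 (iv D14923) (iv D10267) (iv F43550)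
def n20521 : Q := act 7 n14111
theorem D20521 : act 7 n14111 = n20521 := rfl
theorem F88528 : act 0 n20521 = n14133 := d6_1 D20521 (iv D14133) (iv F61968)
theorem F88529 : act 3 n20521 = n14114 := d27_1 D20521 (iv D14114) (iv F61969)
theorem F88530 : act 4 n20521 = n20521 := d32_1 D20521 (iv D20521) F61970
theorem F88531 : act 6 n20521 = n20521 := d39_1 D20521 (iv D20521) (iv D14111) F43551 D14111
def n20522 : Q := act 8 n14111
theorem D20522 : act 8 n14111 = n20522 := rfl
theorem F88532 : act 0 n20522 = n14134 := d7_1 D20522 (iv D14134) (iv F61968)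
theorem F88533 : act 4 n20522 = n20522 := d33_1 D20522 (iv D20522) F61970
theorem F88534 : act 6 n20522 = n14112 := d40_1 D20522 (iv D14112) D14111
def n20523 : Q := act 3 n14112
theorem D20523 : act 3 n14112 = n20523 := rfl
theorem F88535 : act 0 n20523 = n14135 := d2_1 D20523 (iv D14135) (iv F61971)
theorem F88538 : act 8 n20523 = n14116 := d28_2 D14112 D20523 (iv D14116) (iv D9723) D9721
def n20524 : Q := act 9 n14112
theorem D20524 : act 9 n14112 = n20524 := rfl
theorem F88539 : act 0 n20524 = n14136 := d8_1 D20524 (iv D14136) (iv F61971)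
theorem F88540 : act 4 n20524 = n20524 := d34_1 D20524 (iv D20524) F61972
theorem F88541 : act 5 n20524 = n14927 := d38_1 D20524 (iv D14927) (iv F61973)
theorem F88542 : act 7 n20524 = n20524 := d43_1 D20524 (iv D20524) F61974
def n20525 : Q := act 7 n14113
theorem D20525 : act 7 n14113 = n20525 := rfl
theorem F88543 : act 0 n20525 = n14137 := d6_1 D20525 (iv D14137) (iv F61975)
theorem F88544 : act 2 n20525 = n14124 := d21_1 D20525 (iv D14124) (iv F61976)
theorem F88545 : act 4 n20525 = n20525 := d32_1 D20525 (iv D20525) F61977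
theorem F88546 : act 5 n20525 = n14114 := d36_1 D20525 (iv D14114) D14113
def n20526 : Q := act 8 n14113
theorem D20526 : act 8 n14113 = n20526 := rfl
def n20527 : Q := act 8 n14114
theorem D20527 : act 8 n14114 = n20527 := rfl
theorem F88552 : act 0 n20527 = n14139 := d7_1 D20527 (iv D14139) (iv F61979)
theorem F88553 : act 2 n20527 = n14126 := d22_1 D20527 (iv D14126) (iv F61980)
def n20528 : Q := act 3 n14115
theorem D20528 : act 3 n14115 = n20528 := rfl
def n20529 : Q := act 9 n14115
theorem D20529 : act 9 n14115 = n20529 := rfl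
def n20530 : Q := act 2 n14116
theorem D20530 : act 2 n14116 = n20530 := rfl
def n20532 : Q := act 9 n14116
theorem D20532 : act 9 n14116 = n20532 := rfl
theorem F88572 : act 3 n20532 = n14117 := d29_1 D20532 (iv D14117) D14116
def n20534 : Q := act 9 n14118
theorem D20534 : act 9 n14118 = n20534 := rfl
def n20539 : Q := act 6 n14124
theorem D20539 : act 6 n14124 = n20539 := rfl
theorem F88605 : act 0 n20539 = n14151 := d5_1 D20539 (iv D14151) (iv F62025)
theorem F88606 : act 1 n20539 = n20539 := d13_1 D20539 (iv D20539) F62026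
theorem F88607 : act 4 n20539 = n20539 := d31_1 D20539 (iv D20539) F62027
theorem F88608 : act 5 n20539 = n20539 := d35_1 D20539 (iv D20539) F62028 F43591 (iv F62028)
theorem F88609 : act 7 n20539 = n14936 := d39_2 D14124 D20539 (iv D14936) (iv D10276) (iv F43587)
def n20540 : Q := act 8 n14124
theorem D20540 : act 8 n14124 = n20540 := rfl
theorem F88610 : act 0 n20540 = n14152 := d7_1 D20540 (iv D14152) (iv F62025)
theorem F88611 : act 1 n20540 = n20540 := d15_1 D20540 (iv D20540) F62026
theorem F88612 : act 4 n20540 = n20540 := d33_1 D20540 (iv D20540) F62027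
theorem F88613 : act 5 n20540 = n14126 := d37_1 D20540 (iv D14126) (iv F62028)
theorem F88614 : act 7 n20540 = n14125 := d42_1 D20540 (iv D14125) D14124
def n20541 : Q := act 3 n14125
theorem D20541 : act 3 n14125 = n20541 := rfl
theorem F88615 : act 0 n20541 = n14153 := d2_1 D20541 (iv D14153) (iv F62029)
theorem F88616 : act 1 n20541 = n20541 := d10_1 D20541 (iv D20541) F62030
theorem F88617 : act 5 n20541 = n14127 := d25_2 (iv F62032) D20541 (iv D14127)
theorem F88618 : act 6 n20541 = n14938 := d26_2 (iv F62033) D20541 (iv D14938)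
def n20543 : Q := act 3 n14126
theorem D20543 : act 3 n14126 = n20543 := rfl
theorem F88624 : act 0 n20543 = n14155 := d2_1 D20543 (iv D14155) (iv F62034)
theorem F88625 : act 1 n20543 = n20543 := d10_1 D20543 (iv D20543) F62035
theorem F88626 : act 4 n20543 = n20543 := d24_2 (iv F62036) D20543 (iv D20543) F62036 F43608
theorem F88627 : act 6 n20543 = n20543 := d26_2 F62037 D20543 (iv D20543)
theorem F88628 : act 7 n20543 = n14127 := d27_2 (iv F62038) D20543 (iv D14127)
def n20544 : Q := act 9 n14126
theorem D20544 : act 9 n14126 = n20544 := rfl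
def n20545 : Q := act 2 n14127
theorem D20545 : act 2 n14127 = n20545 := rfl
theorem F88634 : act 0 n20545 = n14157 := d1_1 D20545 (iv D14157) (iv F62039)
theorem F88635 : act 4 n20545 = n20545 := d18_2 F62041 D20545 (iv D20545)
theorem F88636 : act 6 n20545 = n14129 := d20_2 (iv F62042) D20545 (iv D14129)
def n20547 : Q := act 1 n14129
theorem D20547 : act 1 n14129 = n20547 := rfl
theorem F88642 : act 2 n20547 = n20547 := d9_2 D14129 D20547 (iv D20547) (iv D14129) F43597
theorem F88643 : act 4 n20547 = n20547 := d11_2 F62048 D20547 (iv D20547)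
theorem F88644 : act 5 n20547 = n14944 := d12_2 (iv F62049) D20547 (iv D14944)
theorem F88645 : act 7 n20547 = n20547 := d14_2 F62050 D20547 (iv D20547)
def n20548 : Q := act 9 n14129
theorem D20548 : act 9 n14129 = n20548 := rfl
theorem F88646 : act 0 n20548 = n14160 := d8_1 D20548 (iv D14160) (iv F62047)
def n20550 : Q := act 4 n14132
theorem D20550 : act 4 n14132 = n20550 := rfl
theorem F88656 : act 1 n20550 = n20550 := d11_1 D20550 (iv D20550) F62063
theorem F88657 : act 3 n20550 = n20550 := d24_1 D20550 (iv D20550) F62064 F43626 (iv F62064)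
theorem F88658 : act 5 n20550 = n20550 := d30_2 D14132 D20550 (iv D20550) (iv D14132) F43619
theorem F88659 : act 6 n20550 = n14947 := d31_2 (iv F62065) D20550 (iv D14947)
def n20551 : Q := act 7 n14132
theorem D20551 : act 7 n14132 = n20551 := rfl
theorem F88660 : act 1 n20551 = n20551 := d14_1 D20551 (iv D20551) F62063
theorem F88661 : act 3 n20551 = n14137 := d27_1 D20551 (iv D14137) (iv F62064)
theorem F88662 : act 5 n20551 = n14133 := d36_1 D20551 (iv D14133) D14132
def n20552 : Q := act 8 n14132
theorem D20552 : act 8 n14132 = n20552 := rfl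
theorem F88663 : act 1 n20552 = n20552 := d15_1 D20552 (iv D20552) F62063
theorem F88664 : act 5 n20552 = n14134 := d37_1 D20552 (iv D14134) D14132
theorem F88665 : act 6 n20552 = n14949 := d40_1 D20552 (iv D14949) (iv F62065)
def n20553 : Q := act 8 n14133
theorem D20553 : act 8 n14133 = n20553 := rfl
theorem F88666 : act 1 n20553 = n20553 := d15_1 D20553 (iv D20553) F62066
theorem F88667 : act 4 n20553 = n20553 := d33_1 D20553 (iv D20553) F62068
theorem F88668 : act 6 n20553 = n20553 := d40_1 D20553 (iv D20553) F62069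
theorem F88669 : act 7 n20553 = n14134 := d42_1 D20553 (iv D14134) D14133
def n20554 : Q := act 3 n14134
theorem D20554 : act 3 n14134 = n20554 := rfl
theorem F88670 : act 1 n20554 = n20554 := d10_1 D20554 (iv D20554) F62070
theorem F88671 : act 6 n20554 = n14135 := d26_2 (iv F62072) D20554 (iv D14135)
theorem F88672 : act 8 n20554 = n14140 := d28_2 D14134 D20554 (iv D14140) (iv D9740) (iv F43618)
def n20555 : Q := act 9 n14134
theorem D20555 : act 9 n14134 = n20555 := rfl
theorem F88673 : act 1 n20555 = n20555 := d16_1 D20555 (iv D20555) F62070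
theorem F88674 : act 4 n20555 = n20555 := d34_1 D20555 (iv D20555) F62071
theorem F88675 : act 6 n20555 = n14136 := d41_1 D20555 (iv D14136) (iv F62072)
def n20556 : Q := act 2 n14135
theorem D20556 : act 2 n14135 = n20556 := rfl
theorem F88676 : act 5 n20556 = n14953 := d19_2 (iv F62074) D20556 (iv D14953)
theorem F88677 : act 7 n20556 = n20556 := d21_2 F62075 D20556 (iv D20556)
theorem F88678 : act 8 n20556 = n14142 := d22_2 (iv F62076) D20556 (iv D14142)
def n20557 : Q := act 4 n14135
theorem D20557 : act 4 n14135 = n20557 := rfl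
theorem F88683 : act 8 n20557 = n14143 := d33_2 (iv F62076) D20557 (iv D14143)
def n20558 : Q := act 9 n14135
theorem D20558 : act 9 n14135 = n20558 := rfl
theorem F88684 : act 1 n20558 = n20558 := d16_1 D20558 (iv D20558) F62073
theorem F88685 : act 3 n20558 = n14136 := d29_1 D20558 (iv D14136) D14135
theorem F88686 : act 5 n20558 = n14954 := d38_1 D20558 (iv D14954) (iv F62074)
theorem F88687 : act 7 n20558 = n20558 := d43_1 D20558 (iv D20558) F62075
def n20559 : Q := act 6 n14137
theorem D20559 : act 6 n14137 = n20559 := rfl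
theorem F88688 : act 1 n20559 = n20559 := d13_1 D20559 (iv D20559) F62081
theorem F88689 : act 2 n20559 = n14151 := d20_1 D20559 (iv D14151) (iv F62082)
theorem F88690 : act 4 n20559 = n20559 := d31_1 D20559 (iv D20559) F62083
theorem F88691 : act 5 n20559 = n20559 := d35_1 D20559 (iv D20559) F62084 F43631 (iv F62084)
theorem F88692 : act 7 n20559 = n14955 := d39_2 D14137 D20559 (iv D14955) (iv D10289) (iv F43627)
def n20560 : Q := act 8 n14137
theorem D20560 : act 8 n14137 = n20560 := rfl
theorem F88693 : act 1 n20560 = n20560 := d15_1 D20560 (iv D20560) F62081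
theorem F88694 : act 2 n20560 = n14152 := d22_1 D20560 (iv D14152) (iv F62082)
theorem F88695 : act 4 n20560 = n20560 := d33_1 D20560 (iv D20560) F62083
theorem F88696 : act 5 n20560 = n14139 := d37_1 D20560 (iv D14139) (iv F62084)
theorem F88697 : act 7 n20560 = n14138 := d42_1 D20560 (iv D14138) D14137
def n20561 : Q := act 3 n14138
theorem D20561 : act 3 n14138 = n20561 := rfl
theorem F88698 : act 1 n20561 = n20561 := d10_1 D20561 (iv D20561) F62085
theorem F88699 : act 5 n20561 = n14140 := d25_2 (iv F62088) D20561 (iv D14140)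
theorem F88700 : act 6 n20561 = n14957 := d26_2 (iv F62089) D20561 (iv D14957)
def n20562 : Q := act 9 n14138
theorem D20562 : act 9 n14138 = n20562 := rfl
def n20563 : Q := act 3 n14139
theorem D20563 : act 3 n14139 = n20563 := rfl
theorem F88706 : act 1 n20563 = n20563 := d10_1 D20563 (iv D20563) F62090
theorem F88707 : act 6 n20563 = n20563 := d26_2 F62093 D20563 (iv D20563)
theorem F88708 : act 7 n20563 = n14140 := d27_2 (iv F62094) D20563 (iv D14140)
def n20564 : Q := act 9 n14139
theorem D20564 : act 9 n14139 = n20564 := rfl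
def n20565 : Q := act 2 n14140
theorem D20565 : act 2 n14140 = n20565 := rfl
theorem F88714 : act 3 n20565 = n14157 := d17_2 D14140 D20565 (iv D14157) (iv D9752) (iv F43633)
theorem F88715 : act 6 n20565 = n14142 := d20_2 (iv F62096) D20565 (iv D14142)
def n20566 : Q := act 4 n14140
theorem D20566 : act 4 n14140 = n20566 := rfl
theorem F88718 : act 6 n20566 = n14143 := d31_2 (iv F62096) D20566 (iv D14143)
def n20567 : Q := act 9 n14140
theorem D20567 : act 9 n14140 = n20567 := rfl
theorem F88720 : act 3 n20567 = n14141 := d29_1 D20567 (iv D14141) D14140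
def n20568 : Q := act 1 n14142
theorem D20568 : act 1 n14142 = n20568 := rfl
theorem F88722 : act 2 n20568 = n20568 := d9_2 D14142 D20568 (iv D20568) (iv D14142) F43636
theorem F88723 : act 3 n20568 = n14159 := d10_2 (iv F62101) D20568 (iv D14159)
theorem F88724 : act 5 n20568 = n14963 := d12_2 (iv F62102) D20568 (iv D14963)
theorem F88725 : act 7 n20568 = n20568 := d14_2 F62103 D20568 (iv D20568)
def n20569 : Q := act 4 n14142
theorem D20569 : act 4 n14142 = n20569 := rfl
def n20570 : Q := act 9 n14142
theorem D20570 : act 9 n14142 = n20570 := rfl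
theorem F88730 : act 2 n20570 = n14144 := d23_1 D20570 (iv D14144) D14142
theorem F88731 : act 3 n20570 = n14160 := d29_1 D20570 (iv D14160) (iv F62101)
def n20571 : Q := act 9 n14143
theorem D20571 : act 9 n14143 = n20571 := rfl
theorem F88736 : act 4 n20571 = n14144 := d34_1 D20571 (iv D14144) D14143
def n20572 : Q := act 8 n14144
theorem D20572 : act 8 n14144 = n20572 := rfl
def n20574 : Q := act 9 n14145
theorem D20574 : act 9 n14145 = n20574 := rfl
theorem F88749 : act 3 n20574 = n14146 := d29_1 D20574 (iv D14146) D14145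
def n20579 : Q := act 8 n14151
theorem D20579 : act 8 n14151 = n20579 := rfl
theorem F88773 : act 1 n20579 = n14162 := d15_1 D20579 (iv D14162) (iv F62142)
theorem F88774 : act 4 n20579 = n20579 := d33_1 D20579 (iv D20579) F62143
theorem F88775 : act 5 n20579 = n20579 := d37_1 D20579 (iv D20579) F62144
theorem F88776 : act 6 n20579 = n14152 := d40_1 D20579 (iv D14152) D14151
theorem F88777 : act 7 n20579 = n14966 := d42_1 D20579 (iv D14966) (iv F62145)
def n20580 : Q := act 3 n14152
theorem D20580 : act 3 n14152 = n20580 := rfl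
theorem F88778 : act 1 n20580 = n14163 := d10_1 D20580 (iv D14163) (iv F62146)
theorem F88779 : act 5 n20580 = n14155 := d25_2 (iv F62148) D20580 (iv D14155)
theorem F88780 : act 7 n20580 = n14153 := d27_2 (iv F62149) D20580 (iv D14153)
def n20581 : Q := act 9 n14152
theorem D20581 : act 9 n14152 = n20581 := rfl
theorem F88781 : act 1 n20581 = n14164 := d16_1 D20581 (iv D14164) (iv F62146)
theorem F88782 : act 4 n20581 = n20581 := d34_1 D20581 (iv D20581) F62147
theorem F88783 : act 5 n20581 = n14156 := d38_1 D20581 (iv D14156) (iv F62148)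
theorem F88784 : act 7 n20581 = n14154 := d43_1 D20581 (iv D14154) (iv F62149)
def n20582 : Q := act 2 n14153
theorem D20582 : act 2 n14153 = n20582 := rfl
theorem F88785 : act 5 n20582 = n14157 := d19_2 (iv F62151) D20582 (iv D14157)
theorem F88786 : act 6 n20582 = n14969 := d20_2 (iv F62152) D20582 (iv D14969)
def n20583 : Q := act 4 n14153
theorem D20583 : act 4 n14153 = n20583 := rfl
theorem F88787 : act 1 n20583 = n14166 := d11_1 D20583 (iv D14166) (iv F62150)
theorem F88788 : act 3 n20583 = n20583 := d24_1 D20583 (iv D20583) (iv D14153) F43678 D14153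
theorem F88789 : act 5 n20583 = n20583 := d30_2 (iv F62151) D20583 (iv D20583) F62151 F43686
theorem F88790 : act 6 n20583 = n14970 := d31_2 (iv F62152) D20583 (iv D14970)
def n20584 : Q := act 9 n14153
theorem D20584 : act 9 n14153 = n20584 := rfl
theorem F88791 : act 1 n20584 = n14167 := d16_1 D20584 (iv D14167) (iv F62150)
theorem F88792 : act 3 n20584 = n14154 := d29_1 D20584 (iv D14154) D14153
theorem F88793 : act 5 n20584 = n14158 := d38_1 D20584 (iv D14158) (iv F62151)
theorem F88794 : act 6 n20584 = n14971 := d41_1 D20584 (iv D14971) (iv F62152)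
def n20585 : Q := act 2 n14155
theorem D20585 : act 2 n14155 = n20585 := rfl
theorem F88795 : act 4 n20585 = n20585 := d18_2 F62158 D20585 (iv D20585)
theorem F88796 : act 6 n20585 = n20585 := d20_2 F62159 D20585 (iv D20585)
theorem F88797 : act 7 n20585 = n14157 := d21_2 (iv F62160) D20585 (iv D14157)
def n20586 : Q := act 9 n14155
theorem D20586 : act 9 n14155 = n20586 := rfl
theorem F88798 : act 1 n20586 = n14169 := d16_1 D20586 (iv D14169) (iv F62157)
theorem F88799 : act 3 n20586 = n14156 := d29_1 D20586 (iv D14156) D14155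
theorem F88800 : act 4 n20586 = n20586 := d34_1 D20586 (iv D20586) F62158
theorem F88801 : act 6 n20586 = n20586 := d41_1 D20586 (iv D20586) F62159
theorem F88802 : act 7 n20586 = n14158 := d43_1 D20586 (iv D14158) (iv F62160)
def n20587 : Q := act 1 n14157
theorem D20587 : act 1 n14157 = n20587 := rfl
theorem F88803 : act 2 n20587 = n14170 := d9_2 D14157 D20587 (iv D14170) (iv D9763) (iv F43685)
theorem F88804 : act 4 n20587 = n20587 := d11_2 F62165 D20587 (iv D20587)
theorem F88805 : act 6 n20587 = n14159 := d13_2 (iv F62166) D20587 (iv D14159)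
def n20588 : Q := act 9 n14157
theorem D20588 : act 9 n14157 = n20588 := rfl
theorem F88806 : act 2 n20588 = n14158 := d23_1 D20588 (iv D14158) D14157
theorem F88807 : act 4 n20588 = n20588 := d34_1 D20588 (iv D20588) F62165
theorem F88808 : act 6 n20588 = n14160 := d41_1 D20588 (iv D14160) (iv F62166)
def n20589 : Q := act 8 n14158
theorem D20589 : act 8 n14158 = n20589 := rfl
theorem F88809 : act 1 n20589 = n14172 := d15_1 D20589 (iv D14172) (iv F62167)
theorem F88810 : act 4 n20589 = n20589 := d33_1 D20589 (iv D20589) F62169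
theorem F88811 : act 6 n20589 = n14161 := d40_1 D20589 (iv D14161) (iv F62170)
def n20590 : Q := act 0 n14159
theorem D20590 : act 0 n14159 = n20590 := rfl
theorem F88812 : act 2 n20590 = n14173 := d1_2 (iv F62171) D20590 (iv D14173)
theorem F88813 : act 4 n20590 = n20590 := d3_2 F62172 D20590 (iv D20590)
theorem F88814 : act 5 n20590 = n14977 := d4_2 (iv F62173) D20590 (iv D14977)
theorem F88815 : act 7 n20590 = n20590 := d6_2 F62174 D20590 (iv D20590)
def n20591 : Q := act 9 n14159
theorem D20591 : act 9 n14159 = n20591 := rfl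
theorem F88816 : act 1 n20591 = n14160 := d16_1 D20591 (iv D14160) D14159
theorem F88817 : act 2 n20591 = n14174 := d23_1 D20591 (iv D14174) (iv F62171)
theorem F88818 : act 4 n20591 = n20591 := d34_1 D20591 (iv D20591) F62172
theorem F88819 : act 5 n20591 = n14978 := d38_1 D20591 (iv D14978) (iv F62173)
theorem F88820 : act 7 n20591 = n20591 := d43_1 D20591 (iv D20591) F62174
def n20592 : Q := act 8 n14160
theorem D20592 : act 8 n14160 = n20592 := rfl
theorem F88821 : act 2 n20592 = n14161 := d22_1 D20592 (iv D14161) (iv F62175)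
theorem F88822 : act 4 n20592 = n20592 := d33_1 D20592 (iv D20592) F62176
theorem F88823 : act 5 n20592 = n14979 := d37_1 D20592 (iv D14979) (iv F62177)
theorem F88824 : act 7 n20592 = n20592 := d42_1 D20592 (iv D20592) F62178
def n20593 : Q := act 3 n14162
theorem D20593 : act 3 n14162 = n20593 := rfl
theorem F88825 : act 0 n20593 = n20593 := d2_1 D20593 (iv D20593) F62183
theorem F88826 : act 5 n20593 = n20593 := d25_2 F62186 D20593 (iv D20593)
theorem F88827 : act 6 n20593 = n14163 := d26_2 (iv F62187) D20593 (iv D14163)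
theorem F88828 : act 7 n20593 = n14980 := d27_2 (iv F62188) D20593 (iv D14980)
def n20594 : Q := act 9 n14162
theorem D20594 : act 9 n14162 = n20594 := rfl
theorem F88829 : act 0 n20594 = n20594 := d8_1 D20594 (iv D20594) F62183
theorem F88830 : act 2 n20594 = n20594 := d23_1 D20594 (iv D20594) F62184
theorem F88831 : act 4 n20594 = n20594 := d34_1 D20594 (iv D20594) F62185
theorem F88832 : act 5 n20594 = n20594 := d38_1 D20594 (iv D20594) F62186
theorem F88833 : act 6 n20594 = n14164 := d41_1 D20594 (iv D14164) (iv F62187)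
theorem F88834 : act 7 n20594 = n14981 := d43_1 D20594 (iv D14981) (iv F62188)
def n20595 : Q := act 2 n14163
theorem D20595 : act 2 n14163 = n20595 := rfl
theorem F88835 : act 0 n20595 = n20595 := d1_1 D20595 (iv D20595) F62189
theorem F88836 : act 3 n20595 = n20595 := d17_2 D14163 D20595 (iv D20595) (iv D14163) F43710
theorem F88837 : act 5 n20595 = n14168 := d19_2 (iv F62190) D20595 (iv D14168)
theorem F88838 : act 7 n20595 = n14165 := d21_2 (iv F62191) D20595 (iv D14165)
def n20596 : Q := act 4 n14163
theorem D20596 : act 4 n14163 = n20596 := rfl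
theorem F88839 : act 0 n20596 = n20596 := d3_1 D20596 (iv D20596) F62189
theorem F88840 : act 3 n20596 = n20596 := d24_1 D20596 (iv D20596) (iv D14163) F43711 D14163
theorem F88841 : act 5 n20596 = n20596 := d30_2 (iv F62190) D20596 (iv D20596) F62190 F43723
theorem F88842 : act 7 n20596 = n14166 := d32_2 (iv F62191) D20596 (iv D14166)
def n20597 : Q := act 9 n14163
theorem D20597 : act 9 n14163 = n20597 := rfl
theorem F88843 : act 0 n20597 = n20597 := d8_1 D20597 (iv D20597) F62189
theorem F88844 : act 3 n20597 = n14164 := d29_1 D20597 (iv D14164) D14163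
theorem F88845 : act 5 n20597 = n14169 := d38_1 D20597 (iv D14169) (iv F62190)
theorem F88846 : act 7 n20597 = n14167 := d43_1 D20597 (iv D14167) (iv F62191)
def n20598 : Q := act 1 n14165
theorem D20598 : act 1 n14165 = n20598 := rfl
theorem F88847 : act 3 n20598 = n20598 := d10_2 F62198 D20598 (iv D20598)
theorem F88848 : act 5 n20598 = n14170 := d12_2 (iv F62199) D20598 (iv D14170)
theorem F88849 : act 6 n20598 = n14985 := d13_2 (iv F62200) D20598 (iv D14985)
def n20599 : Q := act 4 n14165
theorem D20599 : act 4 n14165 = n20599 := rfl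
theorem F88850 : act 0 n20599 = n20599 := d3_1 D20599 (iv D20599) F62197
theorem F88851 : act 2 n20599 = n14166 := d18_1 D20599 (iv D14166) D14165
theorem F88852 : act 5 n20599 = n20599 := d30_2 (iv F62199) D20599 (iv D20599) F62199 F43733
theorem F88853 : act 6 n20599 = n14986 := d31_2 (iv F62200) D20599 (iv D14986)
def n20600 : Q := act 9 n14165
theorem D20600 : act 9 n14165 = n20600 := rfl
theorem F88854 : act 0 n20600 = n20600 := d8_1 D20600 (iv D20600) F62197
theorem F88855 : act 2 n20600 = n14167 := d23_1 D20600 (iv D14167) D14165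
theorem F88856 : act 3 n20600 = n20600 := d29_1 D20600 (iv D20600) F62198
theorem F88857 : act 5 n20600 = n14171 := d38_1 D20600 (iv D14171) (iv F62199)
theorem F88858 : act 6 n20600 = n14987 := d41_1 D20600 (iv D14987) (iv F62200)
def n20601 : Q := act 9 n14166
theorem D20601 : act 9 n14166 = n20601 := rfl
theorem F88859 : act 0 n20601 = n20601 := d8_1 D20601 (iv D20601) F62201
theorem F88860 : act 3 n20601 = n20601 := d29_1 D20601 (iv D20601) F62202
theorem F88861 : act 4 n20601 = n14167 := d34_1 D20601 (iv D14167) D14166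
theorem F88862 : act 5 n20601 = n20601 := d38_1 D20601 (iv D20601) F62203
theorem F88863 : act 6 n20601 = n14988 := d41_1 D20601 (iv D14988) (iv F62204)
def n20602 : Q := act 8 n14167
theorem D20602 : act 8 n14167 = n20602 := rfl
theorem F88864 : act 0 n20602 = n20602 := d7_1 D20602 (iv D20602) F62205
theorem F88865 : act 5 n20602 = n14172 := d37_1 D20602 (iv D14172) (iv F62207)
theorem F88866 : act 6 n20602 = n14989 := d40_1 D20602 (iv D14989) (iv F62208)
def n20603 : Q := act 1 n14168
theorem D20603 : act 1 n14168 = n20603 := rfl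
theorem F88867 : act 3 n20603 = n20603 := d10_2 F62210 D20603 (iv D20603)
theorem F88868 : act 4 n20603 = n20603 := d11_2 F62211 D20603 (iv D20603)
theorem F88869 : act 6 n20603 = n20603 := d13_2 F62212 D20603 (iv D20603)
theorem F88870 : act 7 n20603 = n14170 := d14_2 (iv F62213) D20603 (iv D14170)
def n20604 : Q := act 9 n14168
theorem D20604 : act 9 n14168 = n20604 := rfl
theorem F88871 : act 0 n20604 = n20604 := d8_1 D20604 (iv D20604) F62209
theorem F88872 : act 2 n20604 = n14169 := d23_1 D20604 (iv D14169) D14168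
theorem F88873 : act 3 n20604 = n20604 := d29_1 D20604 (iv D20604) F62210
theorem F88874 : act 4 n20604 = n20604 := d34_1 D20604 (iv D20604) F62211
theorem F88875 : act 6 n20604 = n20604 := d41_1 D20604 (iv D20604) F62212
theorem F88876 : act 7 n20604 = n14171 := d43_1 D20604 (iv D14171) (iv F62213)
def n20605 : Q := act 8 n14169
theorem D20605 : act 8 n14169 = n20605 := rfl
theorem F88877 : act 0 n20605 = n20605 := d7_1 D20605 (iv D20605) F62214
theorem F88878 : act 4 n20605 = n20605 := d33_1 D20605 (iv D20605) F62216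
theorem F88879 : act 6 n20605 = n20605 := d40_1 D20605 (iv D20605) F62217
theorem F88880 : act 7 n20605 = n14172 := d42_1 D20605 (iv D14172) (iv F62218)
def n20606 : Q := act 0 n14170
theorem D20606 : act 0 n14170 = n20606 := rfl
theorem F88881 : act 1 n20606 = n20606 := d0_2 D14170 D20606 (iv D20606) (iv D14170) F43731
theorem F88882 : act 3 n20606 = n20606 := d2_2 F62219 D20606 (iv D20606)
theorem F88883 : act 4 n20606 = n20606 := d3_2 F62220 D20606 (iv D20606)
theorem F88884 : act 6 n20606 = n14173 := d5_2 (iv F62221) D20606 (iv D14173)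
def n20607 : Q := act 9 n14170
theorem D20607 : act 9 n14170 = n20607 := rfl
theorem F88885 : act 1 n20607 = n14171 := d16_1 D20607 (iv D14171) D14170
theorem F88886 : act 3 n20607 = n20607 := d29_1 D20607 (iv D20607) F62219
theorem F88887 : act 4 n20607 = n20607 := d34_1 D20607 (iv D20607) F62220
theorem F88888 : act 6 n20607 = n14174 := d41_1 D20607 (iv D14174) (iv F62221)
def n20608 : Q := act 8 n14171
theorem D20608 : act 8 n14171 = n20608 := rfl
theorem F88889 : act 0 n20608 = n20608 := d7_1 D20608 (iv D20608) F62222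
theorem F88890 : act 2 n20608 = n14172 := d22_1 D20608 (iv D14172) (iv F62223)
theorem F88891 : act 4 n20608 = n20608 := d33_1 D20608 (iv D20608) F62225
theorem F88892 : act 6 n20608 = n14175 := d40_1 D20608 (iv D14175) (iv F62226)
def n20609 : Q := act 9 n14173
theorem D20609 : act 9 n14173 = n20609 := rfl
theorem F88893 : act 0 n20609 = n14174 := d8_1 D20609 (iv D14174) D14173
theorem F88894 : act 1 n20609 = n20609 := d16_1 D20609 (iv D20609) F62230
theorem F88895 : act 3 n20609 = n20609 := d29_1 D20609 (iv D20609) F62231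
theorem F88896 : act 4 n20609 = n20609 := d34_1 D20609 (iv D20609) F62232
theorem F88897 : act 5 n20609 = n14996 := d38_1 D20609 (iv D14996) (iv F62233)
theorem F88898 : act 7 n20609 = n20609 := d43_1 D20609 (iv D20609) F62234
def n20610 : Q := act 8 n14174
theorem D20610 : act 8 n14174 = n20610 := rfl
theorem F88899 : act 1 n20610 = n14175 := d15_1 D20610 (iv D14175) (iv F62235)
theorem F88900 : act 4 n20610 = n20610 := d33_1 D20610 (iv D20610) F62237
theorem F88901 : act 5 n20610 = n14997 := d37_1 D20610 (iv D14997) (iv F62238)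
theorem F88902 : act 7 n20610 = n20610 := d42_1 D20610 (iv D20610) F62239
def n20611 : Q := act 3 n14175
theorem D20611 : act 3 n14175 = n20611 := rfl
theorem F88903 : act 0 n20611 = n20611 := d2_1 D20611 (iv D20611) F62240
theorem F88904 : act 5 n20611 = n14998 := d25_2 (iv F62243) D20611 (iv D14998)
theorem F88905 : act 7 n20611 = n20611 := d27_2 F62244 D20611 (iv D20611)
theorem F88906 : act 8 n20611 = n20611 := d28_2 D14175 D20611 (iv D20611) (iv D14175) F43745
def n20614 : Q := act 5 n14177
theorem D20614 : act 5 n14177 = n20614 := rfl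
theorem F88921 : act 1 n20614 = n15350 := d12_1 D20614 (iv D15350) (iv F62253)
def n20619 : Q := act 6 n14180
theorem D20619 : act 6 n14180 = n20619 := rfl
theorem F88954 : act 5 n20619 = n14208 := d35_1 D20619 (iv D14208) (iv D9788) (iv F43769) D14180
def n20620 : Q := act 4 n14181
theorem D20620 : act 4 n14181 = n20620 := rfl
theorem F88957 : act 0 n20620 = n14182 := d3_1 D20620 (iv D14182) D14181
theorem F88960 : act 6 n20620 = n14209 := d31_2 (iv F62281) D20620 (iv D14209)
theorem F88962 : act 8 n20620 = n14186 := d33_2 (iv F62283) D20620 (iv D14186)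
def n20621 : Q := act 3 n14182
theorem D20621 : act 3 n14182 = n20621 := rfl
theorem F88964 : act 1 n20621 = n14183 := d10_1 D20621 (iv D14183) (iv F62285)
theorem F88966 : act 6 n20621 = n14210 := d26_2 (iv F62287) D20621 (iv D14210)
def n20622 : Q := act 5 n14182
theorem D20622 : act 5 n14182 = n20622 := rfl
theorem F88969 : act 1 n20622 = n14184 := d12_1 D20622 (iv D14184) (iv F62285)
theorem F88973 : act 8 n20622 = n14188 := d37_2 (iv F62289) D20622 (iv D14188)
def n20624 : Q := act 8 n14183
theorem D20624 : act 8 n14183 = n20624 := rfl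
theorem F88980 : act 3 n20624 = n14190 := d28_1 D20624 (iv D14190) (iv D9776) (iv F43784) D14183
def n20625 : Q := act 6 n14184
theorem D20625 : act 6 n14184 = n20625 := rfl
theorem F88987 : act 5 n20625 = n14214 := d35_1 D20625 (iv D14214) (iv D9792) (iv F43782) D14184
theorem F88988 : act 8 n20625 = n14191 := d40_2 (iv F62300) D20625 (iv D14191)
def n20626 : Q := act 7 n14185
theorem D20626 : act 7 n14185 = n20626 := rfl
theorem F88995 : act 8 n20626 = n14192 := d42_2 (iv F62306) D20626 (iv D14192)
def n20627 : Q := act 3 n14186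
theorem D20627 : act 3 n14186 = n20627 := rfl
theorem F88997 : act 0 n20627 = n14187 := d2_1 D20627 (iv D14187) (iv F62308)
theorem F88999 : act 6 n20627 = n14216 := d26_2 (iv F62311) D20627 (iv D14216)
theorem F89001 : act 9 n20627 = n14193 := d29_2 (iv F62313) D20627 (iv D14193)
def n20628 : Q := act 5 n14186
theorem D20628 : act 5 n14186 = n20628 := rfl
theorem F89002 : act 0 n20628 = n14188 := d4_1 D20628 (iv D14188) (iv F62308)
theorem F89007 : act 9 n20628 = n14194 := d38_2 (iv F62313) D20628 (iv D14194)
def n20629 : Q := act 2 n14187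
theorem D20629 : act 2 n14187 = n20629 := rfl
theorem F89008 : act 1 n20629 = n20629 := d9_1 D20629 (iv D20629) F62314 F43804 (iv F62314)
theorem F89010 : act 6 n20629 = n14218 := d20_2 (iv F62315) D20629 (iv D14218)
theorem F89011 : act 7 n20629 = n20629 := d21_2 F62316 D20629 (iv D20629)
theorem F89012 : act 9 n20629 = n14195 := d23_2 (iv F62317) D20629 (iv D14195)
def n20630 : Q := act 5 n14187
theorem D20630 : act 5 n14187 = n20630 := rfl
theorem F89014 : act 3 n20630 = n14188 := d25_1 D20630 (iv D14188) D14187
theorem F89016 : act 9 n20630 = n14196 := d38_2 (iv F62317) D20630 (iv D14196)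
def n20631 : Q := act 8 n14187
theorem D20631 : act 8 n14187 = n20631 := rfl
theorem F89018 : act 6 n20631 = n14220 := d40_1 D20631 (iv D14220) (iv F62315)
def n20632 : Q := act 6 n14188
theorem D20632 : act 6 n14188 = n20632 := rfl
theorem F89020 : act 1 n20632 = n14191 := d13_1 D20632 (iv D14191) (iv F62318)
theorem F89024 : act 9 n20632 = n14198 := d41_2 (iv F62322) D20632 (iv D14198)
def n20634 : Q := act 6 n14189
theorem D20634 : act 6 n14189 = n20634 := rfl
theorem F89032 : act 3 n20634 = n14191 := d26_1 D20634 (iv D14191) (iv F62325)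
theorem F89034 : act 9 n20634 = n14200 := d41_2 (iv F62327) D20634 (iv D14200)
def n20636 : Q := act 9 n14190
theorem D20636 : act 9 n14190 = n20636 := rfl
theorem F89041 : act 6 n20636 = n14225 := d41_1 D20636 (iv D14225) (iv F62330)
theorem F89043 : act 8 n20636 = n14202 := d44_1 D20636 (iv D14202) (iv D9783) (iv F43807) D14190
def n20637 : Q := act 7 n14191
theorem D20637 : act 7 n14191 = n20637 := rfl
theorem F89049 : act 9 n20637 = n14203 := d43_2 (iv F62336) D20637 (iv D14203)
def n20638 : Q := act 2 n14193
theorem D20638 : act 2 n14193 = n20638 := rfl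
theorem F89051 : act 3 n20638 = n15374 := d17_2 D14193 D20638 (iv D15374) (iv D10583) (iv F43821)
def n20639 : Q := act 5 n14193
theorem D20639 : act 5 n14193 = n20639 := rfl
theorem F89054 : act 0 n20639 = n14196 := d4_1 D20639 (iv D14196) (iv F62344)
theorem F89056 : act 3 n20639 = n14194 := d25_1 D20639 (iv D14194) D14193
def n20640 : Q := act 8 n14193
theorem D20640 : act 8 n14193 = n20640 := rfl
theorem F89058 : act 0 n20640 = n14197 := d7_1 D20640 (iv D14197) (iv F62344)
def n20641 : Q := act 6 n14194
theorem D20641 : act 6 n14194 = n20641 := rfl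
def n20642 : Q := act 5 n14195
theorem D20642 : act 5 n14195 = n20642 := rfl
theorem F89070 : act 2 n20642 = n14196 := d19_1 D20642 (iv D14196) D14195
theorem F89071 : act 3 n20642 = n15378 := d25_1 D20642 (iv D15378) (iv F62355)
def n20643 : Q := act 8 n14195
theorem D20643 : act 8 n14195 = n20643 := rfl
theorem F89074 : act 2 n20643 = n14197 := d22_1 D20643 (iv D14197) D14195
def n20644 : Q := act 4 n14196
theorem D20644 : act 4 n14196 = n20644 := rfl
theorem F89077 : act 1 n20644 = n14199 := d11_1 D20644 (iv D14199) (iv F62358)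
theorem F89078 : act 3 n20644 = n20644 := d24_1 D20644 (iv D20644) F62359 F43830 (iv F62359)
theorem F89079 : act 7 n20644 = n20644 := d32_2 F62360 D20644 (iv D20644)
def n20645 : Q := act 6 n14196
theorem D20645 : act 6 n14196 = n20645 := rfl
theorem F89080 : act 1 n20645 = n14200 := d13_1 D20645 (iv D14200) (iv F62358)
theorem F89082 : act 5 n20645 = n14234 := d35_1 D20645 (iv D14234) (iv D9804) (iv F43826) D14196
def n20646 : Q := act 8 n14196
theorem D20646 : act 8 n14196 = n20646 := rfl
theorem F89083 : act 1 n20646 = n14201 := d15_1 D20646 (iv D14201) (iv F62358)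
theorem F89084 : act 3 n20646 = n20646 := d28_1 D20646 (iv D20646) F62359 F43832 (iv F62359)
theorem F89085 : act 5 n20646 = n14197 := d37_1 D20646 (iv D14197) D14196
theorem F89086 : act 7 n20646 = n20646 := d42_1 D20646 (iv D20646) F62360
def n20647 : Q := act 9 n14197
theorem D20647 : act 9 n14197 = n20647 := rfl
theorem F89089 : act 6 n20647 = n14236 := d41_1 D20647 (iv D14236) (iv F62363)
def n20650 : Q := act 8 n14199
theorem D20650 : act 8 n14199 = n20650 := rfl
theorem F89103 : act 4 n20650 = n14201 := d33_1 D20650 (iv D14201) D14199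
def n20651 : Q := act 7 n14200
theorem D20651 : act 7 n14200 = n20651 := rfl
def n20656 : Q := act 5 n14205
theorem D20656 : act 5 n14205 = n20656 := rfl
theorem F89131 : act 2 n20656 = n15409 := d19_1 D20656 (iv D15409) (iv F62402)
def n20660 : Q := act 7 n14208
theorem D20660 : act 7 n14208 = n20660 := rfl
theorem F89155 : act 6 n20660 = n14249 := d39_1 D20660 (iv D14249) (iv D9816) (iv F43869) D14208
def n20662 : Q := act 5 n14209
theorem D20662 : act 5 n14209 = n20662 := rfl
theorem F89166 : act 4 n20662 = n14303 := d30_1 D20662 (iv D14303) (iv D9851) (iv F43875) D14209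
theorem F89167 : act 7 n20662 = n14251 := d36_2 (iv F62426) D20662 (iv D14251)
theorem F89168 : act 8 n20662 = n14217 := d37_2 (iv F62427) D20662 (iv D14217)
def n20664 : Q := act 5 n14210
theorem D20664 : act 5 n14210 = n20664 := rfl
theorem F89174 : act 1 n20664 = n14212 := d12_1 D20664 (iv D14212) (iv F62429)
theorem F89175 : act 3 n20664 = n14211 := d25_1 D20664 (iv D14211) D14210
theorem F89176 : act 7 n20664 = n14253 := d36_2 (iv F62431) D20664 (iv D14253)
def n20665 : Q := act 8 n14210
theorem D20665 : act 8 n14210 = n20665 := rfl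
theorem F89178 : act 1 n20665 = n14213 := d15_1 D20665 (iv D14213) (iv F62429)
theorem F89179 : act 3 n20665 = n14220 := d28_1 D20665 (iv D14220) (iv D9795) (iv F43882) D14210
def n20666 : Q := act 6 n14211
theorem D20666 : act 6 n14211 = n20666 := rfl
theorem F89182 : act 1 n20666 = n14214 := d13_1 D20666 (iv D14214) (iv F62433)
theorem F89184 : act 4 n20666 = n14307 := d31_1 D20666 (iv D14307) (iv F62435)
theorem F89185 : act 8 n20666 = n14221 := d40_2 (iv F62437) D20666 (iv D14221)
def n20667 : Q := act 4 n14212
theorem D20667 : act 4 n14212 = n20667 := rfl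
theorem F89190 : act 7 n20667 = n14256 := d32_2 (iv F62441) D20667 (iv D14256)
def n20668 : Q := act 6 n14212
theorem D20668 : act 6 n14212 = n20668 := rfl
theorem F89193 : act 3 n20668 = n14214 := d26_1 D20668 (iv D14214) (iv F62440)
def n20669 : Q := act 8 n14212
theorem D20669 : act 8 n14212 = n20669 := rfl
theorem F89196 : act 3 n20669 = n14224 := d28_1 D20669 (iv D14224) F43914 (iv F43892) (iv F62440)
def n20670 : Q := act 9 n14213
theorem D20670 : act 9 n14213 = n20670 := rfl
theorem F89202 : act 7 n20670 = n14259 := d43_1 D20670 (iv D14259) (iv F62446)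
def n20671 : Q := act 7 n14214
theorem D20671 : act 7 n14214 = n20671 := rfl
theorem F89207 : act 6 n20671 = n14260 := d39_1 D20671 (iv D14260) (iv D9822) (iv F43891) D14214
theorem F89208 : act 8 n20671 = n14226 := d42_2 (iv F62450) D20671 (iv D14226)
def n20672 : Q := act 2 n14216
theorem D20672 : act 2 n14216 = n20672 := rfl
theorem F89213 : act 9 n20672 = n14227 := d23_2 (iv F62461) D20672 (iv D14227)
def n20673 : Q := act 5 n14216
theorem D20673 : act 5 n14216 = n20673 := rfl
theorem F89214 : act 0 n20673 = n14219 := d4_1 D20673 (iv D14219) (iv F62458)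
theorem F89216 : act 3 n20673 = n14217 := d25_1 D20673 (iv D14217) D14216
theorem F89217 : act 7 n20673 = n14262 := d36_2 (iv F62460) D20673 (iv D14262)
theorem F89218 : act 9 n20673 = n14228 := d38_2 (iv F62461) D20673 (iv D14228)
def n20674 : Q := act 8 n14216
theorem D20674 : act 8 n14216 = n20674 := rfl
theorem F89219 : act 0 n20674 = n14220 := d7_1 D20674 (iv D14220) (iv F62458)
def n20675 : Q := act 6 n14217
theorem D20675 : act 6 n14217 = n20675 := rfl
theorem F89222 : act 0 n20675 = n14221 := d5_1 D20675 (iv D14221) (iv F62462)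
theorem F89226 : act 9 n20675 = n14230 := d41_2 (iv F62467) D20675 (iv D14230)
def n20676 : Q := act 5 n14218
theorem D20676 : act 5 n14218 = n20676 := rfl
theorem F89227 : act 1 n20676 = n20676 := d12_1 D20676 (iv D20676) F62468
theorem F89228 : act 2 n20676 = n14219 := d19_1 D20676 (iv D14219) D14218
theorem F89229 : act 3 n20676 = n15429 := d25_1 D20676 (iv D15429) (iv F62469)
theorem F89230 : act 7 n20676 = n14265 := d36_2 (iv F62470) D20676 (iv D14265)
theorem F89231 : act 9 n20676 = n14231 := d38_2 (iv F62471) D20676 (iv D14231)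
def n20677 : Q := act 8 n14218
theorem D20677 : act 8 n14218 = n20677 := rfl
theorem F89232 : act 1 n20677 = n20677 := d15_1 D20677 (iv D20677) F62468

end Cfsg.Agent.Helper17.Fi23TC
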