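import Cfsg.Agent.Helper17.Fi23TC.Facts5

set_option autoImplicit false
set_option linter.all false

noncomputable section

namespace Cfsg.Agent.Helper17.Fi23TC

theorem F89233 : act 2 n20677 = n14220 := d22_1 D20677 (iv D14220) D14218
theorem F89234 : act 7 n20677 = n14266 := d42_1 D20677 (iv D14266) (iv F62470)
def n20678 : Q := act 4 n14219
theorem D20678 : act 4 n14219 = n20678 := rfl
theorem F89235 : act 1 n20678 = n14222 := d11_1 D20678 (iv D14222) (iv F62472)
theorem F89236 : act 3 n20678 = n14319 := d24_1 D20678 (iv D14319) F44194 (iv F43909) (iv F62473)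
theorem F89237 : act 7 n20678 = n14267 := d32_2 (iv F62474) D20678 (iv D14267)
theorem F89238 : act 9 n20678 = n14233 := d34_2 (iv F62475) D20678 (iv D14233)
def n20679 : Q := act 6 n14219
theorem D20679 : act 6 n14219 = n20679 := rfl
theorem F89240 : act 3 n20679 = n14221 := d26_1 D20679 (iv D14221) (iv F62473)
theorem F89241 : act 9 n20679 = n14234 := d41_2 (iv F62475) D20679 (iv D14234)
def n20680 : Q := act 8 n14219
theorem D20680 : act 8 n14219 = n20680 := rfl
theorem F89244 : act 7 n20680 = n14269 := d42_1 D20680 (iv D14269) (iv F62474)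
def n20681 : Q := act 9 n14220
theorem D20681 : act 9 n14220 = n20681 := rfl
theorem F89245 : act 1 n20681 = n14225 := d16_1 D20681 (iv D14225) (iv F62476)
theorem F89246 : act 7 n20681 = n14270 := d43_1 D20681 (iv D14270) (iv F62477)
theorem F89247 : act 8 n20681 = n14236 := d44_1 D20681 (iv D14236) (iv D9805) (iv F43906) D14220
def n20682 : Q := act 7 n14221
theorem D20682 : act 7 n14221 = n20682 := rfl
theorem F89248 : act 1 n20682 = n14226 := d14_1 D20682 (iv D14226) (iv F62478)
def n20683 : Q := act 6 n14222
theorem D20683 : act 6 n14222 = n20683 := rfl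
theorem F89255 : act 3 n20683 = n14324 := d26_1 D20683 (iv D14324) (iv F62484)
theorem F89257 : act 9 n20683 = n14238 := d41_2 (iv F62486) D20683 (iv D14238)
def n20684 : Q := act 8 n14222
theorem D20684 : act 8 n14222 = n20684 := rfl
theorem F89260 : act 4 n20684 = n14224 := d33_1 D20684 (iv D14224) D14222
theorem F89261 : act 7 n20684 = n14273 := d42_1 D20684 (iv D14273) (iv F62485)
def n20685 : Q := act 7 n14223
theorem D20685 : act 7 n14223 = n20685 := rfl
theorem F89264 : act 3 n20685 = n14226 := d27_1 D20685 (iv D14226) (iv F62489)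
theorem F89266 : act 9 n20685 = n14240 := d43_2 (iv F62490) D20685 (iv D14240)
def n20686 : Q := act 8 n14223
theorem D20686 : act 8 n14223 = n20686 := rfl
def n20687 : Q := act 9 n14224
theorem D20687 : act 9 n14224 = n20687 := rfl
theorem F89273 : act 7 n20687 = n14276 := d43_1 D20687 (iv D14276) (iv F62494)
theorem F89274 : act 8 n20687 = n14242 := d44_1 D20687 (iv D14242) (iv D9809) (iv F43916) D14224
def n20689 : Q := act 5 n14227
theorem D20689 : act 5 n14227 = n20689 := rfl
theorem F89280 : act 2 n20689 = n14228 := d19_1 D20689 (iv D14228) D14227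
theorem F89281 : act 3 n20689 = n15442 := d25_1 D20689 (iv D15442) (iv F62505)
def n20691 : Q := act 4 n14228
theorem D20691 : act 4 n14228 = n20691 := rfl
theorem F89286 : act 0 n20691 = n14233 := d3_1 D20691 (iv D14233) (iv F62507)
theorem F89287 : act 1 n20691 = n20691 := d11_1 D20691 (iv D20691) F62508
theorem F89288 : act 3 n20691 = n14332 := d24_1 D20691 (iv D14332) F44233 (iv F43936) (iv F62509)
theorem F89289 : act 7 n20691 = n14280 := d32_2 (iv F62510) D20691 (iv D14280)
def n20692 : Q := act 6 n14228
theorem D20692 : act 6 n14228 = n20692 := rfl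
theorem F89290 : act 0 n20692 = n14234 := d5_1 D20692 (iv D14234) (iv F62507)
theorem F89292 : act 3 n20692 = n14230 := d26_1 D20692 (iv D14230) (iv F62509)
def n20693 : Q := act 8 n14228
theorem D20693 : act 8 n14228 = n20693 := rfl
theorem F89293 : act 0 n20693 = n14235 := d7_1 D20693 (iv D14235) (iv F62507)
def n20694 : Q := act 9 n14229
theorem D20694 : act 9 n14229 = n20694 := rfl
theorem F89298 : act 0 n20694 = n14236 := d8_1 D20694 (iv D14236) (iv F62511)
def n20695 : Q := act 7 n14230
theorem D20695 : act 7 n14230 = n20695 := rfl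
def n20696 : Q := act 4 n14231
theorem D20696 : act 4 n14231 = n20696 := rfl
theorem F89308 : act 1 n20696 = n20696 := d11_1 D20696 (iv D20696) F62520
theorem F89309 : act 2 n20696 = n14233 := d18_1 D20696 (iv D14233) (iv F62521)
theorem F89310 : act 7 n20696 = n14285 := d32_2 (iv F62523) D20696 (iv D14285)
def n20697 : Q := act 6 n14231
theorem D20697 : act 6 n14231 = n20697 := rfl
theorem F89312 : act 2 n20697 = n14234 := d20_1 D20697 (iv D14234) (iv F62521)
theorem F89313 : act 3 n20697 = n15450 := d26_1 D20697 (iv D15450) (iv F62522)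
def n20698 : Q := act 8 n14231
theorem D20698 : act 8 n14231 = n20698 := rfl
theorem F89315 : act 2 n20698 = n14235 := d22_1 D20698 (iv D14235) (iv F62521)
def n20699 : Q := act 3 n14232
theorem D20699 : act 3 n14232 = n20699 := rfl
theorem F89321 : act 8 n20699 = n15452 := d28_2 D14232 D20699 (iv D15452) (iv D10633) (iv F43940)
def n20701 : Q := act 6 n14233
theorem D20701 : act 6 n14233 = n20701 := rfl
theorem F89325 : act 1 n20701 = n14238 := d13_1 D20701 (iv D14238) (iv F62527)
theorem F89326 : act 3 n20701 = n14342 := d26_1 D20701 (iv D14342) (iv F62528)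
theorem F89327 : act 4 n20701 = n14234 := d31_1 D20701 (iv D14234) D14233
def n20702 : Q := act 8 n14233
theorem D20702 : act 8 n14233 = n20702 := rfl
theorem F89328 : act 1 n20702 = n14239 := d15_1 D20702 (iv D14239) (iv F62527)
theorem F89329 : act 4 n20702 = n14235 := d33_1 D20702 (iv D14235) D14233
theorem F89330 : act 7 n20702 = n14291 := d42_1 D20702 (iv D14291) (iv F62529)
def n20703 : Q := act 7 n14234
theorem D20703 : act 7 n14234 = n20703 := rfl
theorem F89331 : act 1 n20703 = n14240 := d14_1 D20703 (iv D14240) (iv F62530)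
theorem F89333 : act 6 n20703 = n14292 := d39_1 D20703 (iv D14292) (iv D9842) (iv F43944) D14234
def n20704 : Q := act 8 n14234
theorem D20704 : act 8 n14234 = n20704 := rfl
theorem F89334 : act 1 n20704 = n14241 := d15_1 D20704 (iv D14241) (iv F62530)
theorem F89335 : act 3 n20704 = n20704 := d28_1 D20704 (iv D20704) F62531 F43951 (iv F62531)
theorem F89336 : act 6 n20704 = n14235 := d40_1 D20704 (iv D14235) D14234
def n20705 : Q := act 9 n14235
theorem D20705 : act 9 n14235 = n20705 := rfl
theorem F89337 : act 1 n20705 = n14242 := d16_1 D20705 (iv D14242) (iv F62532)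
theorem F89338 : act 3 n20705 = n20705 := d29_1 D20705 (iv D20705) F62533
theorem F89339 : act 5 n20705 = n14236 := d38_1 D20705 (iv D14236) (iv F62534)
theorem F89340 : act 7 n20705 = n14294 := d43_1 D20705 (iv D14294) (iv F62535)
def n20706 : Q := act 5 n14238
theorem D20706 : act 5 n14238 = n20706 := rfl
theorem F89341 : act 0 n20706 = n20706 := d4_1 D20706 (iv D20706) F62544
theorem F89342 : act 2 n20706 = n20706 := d19_1 D20706 (iv D20706) F62545
theorem F89343 : act 3 n20706 = n14347 := d25_1 D20706 (iv D14347) (iv F62546)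
def n20707 : Q := act 7 n14238
theorem D20707 : act 7 n14238 = n20707 := rfl
theorem F89346 : act 3 n20707 = n14348 := d27_1 D20707 (iv D14348) (iv F62546)
theorem F89348 : act 6 n20707 = n14296 := d39_1 D20707 (iv D14296) (iv D9846) (iv F43955) D14238
def n20708 : Q := act 8 n14238
theorem D20708 : act 8 n14238 = n20708 := rfl
theorem F89349 : act 0 n20708 = n20708 := d7_1 D20708 (iv D20708) F62544
theorem F89350 : act 2 n20708 = n20708 := d22_1 D20708 (iv D20708) F62545
theorem F89351 : act 4 n20708 = n14241 := d33_1 D20708 (iv D14241) (iv F62547)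
theorem F89352 : act 6 n20708 = n14239 := d40_1 D20708 (iv D14239) D14238
def n20709 : Q := act 3 n14239
theorem D20709 : act 3 n14239 = n20709 := rfl
theorem F89353 : act 0 n20709 = n20709 := d2_1 D20709 (iv D20709) F62548
theorem F89354 : act 4 n20709 = n20709 := d24_2 (iv F62550) D20709 (iv D20709) F62550 F43961
theorem F89355 : act 7 n20709 = n14298 := d27_2 (iv F62551) D20709 (iv D14298)
theorem F89356 : act 8 n20709 = n14350 := d28_2 D14239 D20709 (iv D14350) (iv D9881) (iv F43954)
def n20710 : Q := act 9 n14239
theorem D20710 : act 9 n14239 = n20710 := rfl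
theorem F89359 : act 4 n20710 = n14242 := d34_1 D20710 (iv D14242) (iv F62550)
theorem F89360 : act 7 n20710 = n14299 := d43_1 D20710 (iv D14299) (iv F62551)
def n20711 : Q := act 8 n14240
theorem D20711 : act 8 n14240 = n20711 := rfl
theorem F89364 : act 6 n20711 = n14300 := d40_1 D20711 (iv D14300) (iv F62555)
def n20712 : Q := act 9 n14241
theorem D20712 : act 9 n14241 = n20712 := rfl
theorem F89369 : act 6 n20712 = n14242 := d41_1 D20712 (iv D14242) (iv F62559)
def n20715 : Q := act 2 n14244
theorem D20715 : act 2 n14244 = n20715 := rfl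
theorem F89382 : act 3 n20715 = n15494 := d17_2 D14244 D20715 (iv D15494) (iv D10662) (iv F43981)
def n20716 : Q := act 5 n14244
theorem D20716 : act 5 n14244 = n20716 := rfl
def n20719 : Q := act 4 n14246
theorem D20719 : act 4 n14246 = n20719 := rfl
theorem F89400 : act 2 n20719 = n14256 := d18_1 D20719 (iv D14256) (iv F62581)
def n20720 : Q := act 6 n14246
theorem D20720 : act 6 n14246 = n20720 := rfl
theorem F89406 : act 3 n20720 = n14248 := d26_1 D20720 (iv D14248) (iv F62582)
def n20722 : Q := act 9 n14247
theorem D20722 : act 9 n14247 = n20722 := rfl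
theorem F89414 : act 2 n20722 = n14259 := d23_1 D20722 (iv D14259) (iv F62585)
def n20727 : Q := act 6 n14251
theorem D20727 : act 6 n14251 = n20727 := rfl
theorem F89444 : act 8 n20727 = n14264 := d40_2 (iv F62611) D20727 (iv D14264)
def n20730 : Q := act 4 n14253
theorem D20730 : act 4 n14253 = n20730 := rfl
theorem F89452 : act 1 n20730 = n14256 := d11_1 D20730 (iv D14256) (iv F62617)
def n20731 : Q := act 6 n14253
theorem D20731 : act 6 n14253 = n20731 := rfl
theorem F89456 : act 1 n20731 = n14257 := d13_1 D20731 (iv D14257) (iv F62617)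
theorem F89457 : act 3 n20731 = n14255 := d26_1 D20731 (iv D14255) (iv F62618)
def n20732 : Q := act 8 n14253
theorem D20732 : act 8 n14253 = n20732 := rfl
theorem F89460 : act 1 n20732 = n14258 := d15_1 D20732 (iv D14258) (iv F62617)
theorem F89461 : act 3 n20732 = n14269 := d28_1 D20732 (iv D14269) F44050 (iv F44015) (iv F62618)
def n20733 : Q := act 9 n14254
theorem D20733 : act 9 n14254 = n20733 := rfl
theorem F89463 : act 1 n20733 = n14259 := d16_1 D20733 (iv D14259) (iv F62620)
theorem F89464 : act 3 n20733 = n14270 := d29_1 D20733 (iv D14270) (iv F62621)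
def n20734 : Q := act 7 n14255
theorem D20734 : act 7 n14255 = n20734 := rfl
theorem F89468 : act 1 n20734 = n14260 := d14_1 D20734 (iv D14260) (iv F62624)
theorem F89472 : act 8 n20734 = n14271 := d42_2 (iv F62628) D20734 (iv D14271)
def n20735 : Q := act 6 n14256
theorem D20735 : act 6 n14256 = n20735 := rfl
theorem F89475 : act 3 n20735 = n14365 := d26_1 D20735 (iv D14365) (iv F62631)
theorem F89476 : act 4 n20735 = n14257 := d31_1 D20735 (iv D14257) D14256
def n20736 : Q := act 8 n14256
theorem D20736 : act 8 n14256 = n20736 := rfl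
theorem F89479 : act 4 n20736 = n14258 := d33_1 D20736 (iv D14258) D14256
def n20737 : Q := act 7 n14257
theorem D20737 : act 7 n14257 = n20737 := rfl
theorem F89482 : act 3 n20737 = n14260 := d27_1 D20737 (iv D14260) (iv F62635)
def n20738 : Q := act 8 n14257
theorem D20738 : act 8 n14257 = n20738 := rfl
theorem F89486 : act 3 n20738 = n14275 := d28_1 D20738 (iv D14275) F44065 (iv F44028) (iv F62635)
def n20739 : Q := act 9 n14258
theorem D20739 : act 9 n14258 = n20739 := rfl
def n20740 : Q := act 1 n14261
theorem D20740 : act 1 n14261 = n20740 := rfl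
theorem F89497 : act 9 n20740 = n14277 := d16_2 (iv F62655) D20740 (iv D14277)
def n20741 : Q := act 5 n14261
theorem D20741 : act 5 n14261 = n20741 := rfl
theorem F89498 : act 0 n20741 = n14265 := d4_1 D20741 (iv D14265) (iv F62652)
theorem F89501 : act 9 n20741 = n14278 := d38_2 (iv F62655) D20741 (iv D14278)
def n20743 : Q := act 4 n14262
theorem D20743 : act 4 n14262 = n20743 := rfl
theorem F89505 : act 0 n20743 = n14267 := d3_1 D20743 (iv D14267) (iv F62656)
theorem F89508 : act 9 n20743 = n14280 := d34_2 (iv F62659) D20743 (iv D14280)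
def n20744 : Q := act 6 n14262
theorem D20744 : act 6 n14262 = n20744 := rfl
theorem F89509 : act 0 n20744 = n14268 := d5_1 D20744 (iv D14268) (iv F62656)
theorem F89511 : act 3 n20744 = n14264 := d26_1 D20744 (iv D14264) (iv F62658)
theorem F89513 : act 9 n20744 = n14281 := d41_2 (iv F62659) D20744 (iv D14281)
def n20745 : Q := act 8 n14262
theorem D20745 : act 8 n14262 = n20745 := rfl
theorem F89514 : act 0 n20745 = n14269 := d7_1 D20745 (iv D14269) (iv F62656)
def n20746 : Q := act 9 n14263
theorem D20746 : act 9 n14263 = n20746 := rfl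
theorem F89517 : act 0 n20746 = n14270 := d8_1 D20746 (iv D14270) (iv F62660)
theorem F89520 : act 8 n20746 = n14283 := d44_1 D20746 (iv D14283) (iv D9837) (iv F44039) D14263
def n20747 : Q := act 7 n14264
theorem D20747 : act 7 n14264 = n20747 := rfl
theorem F89521 : act 0 n20747 = n14271 := d6_1 D20747 (iv D14271) (iv F62663)
theorem F89526 : act 9 n20747 = n14284 := d43_2 (iv F62668) D20747 (iv D14284)
def n20748 : Q := act 4 n14265
theorem D20748 : act 4 n14265 = n20748 := rfl
theorem F89527 : act 1 n20748 = n20748 := d11_1 D20748 (iv D20748) F62669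
theorem F89528 : act 2 n20748 = n14267 := d18_1 D20748 (iv D14267) (iv F62670)
theorem F89529 : act 9 n20748 = n14285 := d34_2 (iv F62672) D20748 (iv D14285)
def n20749 : Q := act 6 n14265
theorem D20749 : act 6 n14265 = n20749 := rfl
theorem F89530 : act 1 n20749 = n20749 := d13_1 D20749 (iv D20749) F62669
theorem F89531 : act 2 n20749 = n14268 := d20_1 D20749 (iv D14268) (iv F62670)
theorem F89533 : act 5 n20749 = n20749 := d35_1 D20749 (iv D20749) (iv D14265) F44047 D14265
theorem F89534 : act 9 n20749 = n14286 := d41_2 (iv F62672) D20749 (iv D14286)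
def n20750 : Q := act 8 n14265
theorem D20750 : act 8 n14265 = n20750 := rfl
theorem F89535 : act 1 n20750 = n20750 := d15_1 D20750 (iv D20750) F62669
theorem F89536 : act 2 n20750 = n14269 := d22_1 D20750 (iv D14269) (iv F62670)
theorem F89537 : act 5 n20750 = n14266 := d37_1 D20750 (iv D14266) D14265
def n20751 : Q := act 3 n14266
theorem D20751 : act 3 n14266 = n20751 := rfl
theorem F89540 : act 8 n20751 = n15530 := d28_2 D14266 D20751 (iv D15530) (iv D10684) (iv F44046)
def n20753 : Q := act 6 n14267
theorem D20753 : act 6 n14267 = n20753 := rfl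
theorem F89545 : act 1 n20753 = n14272 := d13_1 D20753 (iv D14272) (iv F62676)
theorem F89546 : act 3 n20753 = n14383 := d26_1 D20753 (iv D14383) (iv F62677)
theorem F89547 : act 4 n20753 = n14268 := d31_1 D20753 (iv D14268) D14267
theorem F89548 : act 9 n20753 = n14290 := d41_2 (iv F62678) D20753 (iv D14290)
def n20754 : Q := act 8 n14267
theorem D20754 : act 8 n14267 = n20754 := rfl
theorem F89549 : act 1 n20754 = n14273 := d15_1 D20754 (iv D14273) (iv F62676)
theorem F89550 : act 4 n20754 = n14269 := d33_1 D20754 (iv D14269) D14267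
def n20755 : Q := act 7 n14268
theorem D20755 : act 7 n14268 = n20755 := rfl
theorem F89552 : act 3 n20755 = n14271 := d27_1 D20755 (iv D14271) (iv F62680)
theorem F89554 : act 9 n20755 = n14292 := d43_2 (iv F62682) D20755 (iv D14292)
def n20756 : Q := act 8 n14268
theorem D20756 : act 8 n14268 = n20756 := rfl
def n20757 : Q := act 9 n14269
theorem D20757 : act 9 n14269 = n20757 := rfl
theorem F89558 : act 1 n20757 = n14276 := d16_1 D20757 (iv D14276) (iv F62683)
theorem F89559 : act 5 n20757 = n14270 := d38_1 D20757 (iv D14270) (iv F62684)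
theorem F89560 : act 8 n20757 = n14294 := d44_1 D20757 (iv D14294) (iv D9843) (iv F44051) D14269
def n20758 : Q := act 5 n14272
theorem D20758 : act 5 n14272 = n20758 := rfl
theorem F89561 : act 0 n20758 = n20758 := d4_1 D20758 (iv D20758) F62693
theorem F89562 : act 2 n20758 = n20758 := d19_1 D20758 (iv D20758) F62694
theorem F89563 : act 3 n20758 = n14388 := d25_1 D20758 (iv D14388) (iv F62695)
theorem F89564 : act 4 n20758 = n20758 := d30_1 D20758 (iv D20758) F62696 F44066 (iv F62696)
theorem F89565 : act 9 n20758 = n14295 := d38_2 (iv F62697) D20758 (iv D14295)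
def n20759 : Q := act 7 n14272
theorem D20759 : act 7 n14272 = n20759 := rfl
theorem F89568 : act 3 n20759 = n14389 := d27_1 D20759 (iv D14389) (iv F62695)
theorem F89570 : act 9 n20759 = n14296 := d43_2 (iv F62697) D20759 (iv D14296)
def n20760 : Q := act 8 n14272
theorem D20760 : act 8 n14272 = n20760 := rfl
theorem F89573 : act 4 n20760 = n14275 := d33_1 D20760 (iv D14275) (iv F62696)
def n20761 : Q := act 3 n14273
theorem D20761 : act 3 n14273 = n20761 := rfl
theorem F89576 : act 8 n20761 = n14391 := d28_2 D14273 D20761 (iv D14391) (iv D9908) (iv F44061)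
def n20762 : Q := act 9 n14273
theorem D20762 : act 9 n14273 = n20762 := rfl
theorem F89577 : act 0 n20762 = n20762 := d8_1 D20762 (iv D20762) F62698
theorem F89578 : act 2 n20762 = n20762 := d23_1 D20762 (iv D20762) F62699
theorem F89579 : act 4 n20762 = n14276 := d34_1 D20762 (iv D14276) (iv F62700)
theorem F89580 : act 8 n20762 = n14299 := d44_1 D20762 (iv D14299) (iv D9847) (iv F44062) D14273
def n20763 : Q := act 8 n14274
theorem D20763 : act 8 n14274 = n20763 := rfl
def n20764 : Q := act 9 n14275
theorem D20764 : act 9 n14275 = n20764 := rfl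
theorem F89589 : act 8 n20764 = n14301 := d44_1 D20764 (iv D14301) (iv D9849) (iv F44067) D14275
def n20767 : Q := act 4 n14278
theorem D20767 : act 4 n14278 = n20767 := rfl
theorem F89598 : act 0 n20767 = n14285 := d3_1 D20767 (iv D14285) (iv F62718)
theorem F89599 : act 2 n20767 = n14280 := d18_1 D20767 (iv D14280) (iv F62719)
def n20768 : Q := act 6 n14278
theorem D20768 : act 6 n14278 = n20768 := rfl
theorem F89601 : act 2 n20768 = n14281 := d20_1 D20768 (iv D14281) (iv F62719)
theorem F89602 : act 3 n20768 = n15547 := d26_1 D20768 (iv D15547) (iv F62720)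
def n20769 : Q := act 8 n14278
theorem D20769 : act 8 n14278 = n20769 := rfl
theorem F89605 : act 2 n20769 = n14282 := d22_1 D20769 (iv D14282) (iv F62719)
def n20772 : Q := act 6 n14280
theorem D20772 : act 6 n14280 = n20772 := rfl
theorem F89614 : act 0 n20772 = n14290 := d5_1 D20772 (iv D14290) (iv F62724)
theorem F89615 : act 1 n20772 = n20772 := d13_1 D20772 (iv D20772) F62725
theorem F89616 : act 3 n20772 = n14402 := d26_1 D20772 (iv D14402) (iv F62726)
theorem F89617 : act 4 n20772 = n14281 := d31_1 D20772 (iv D14281) D14280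
def n20773 : Q := act 8 n14280
theorem D20773 : act 8 n14280 = n20773 := rfl
def n20774 : Q := act 7 n14281
theorem D20774 : act 7 n14281 = n20774 := rfl
theorem F89621 : act 0 n20774 = n14292 := d6_1 D20774 (iv D14292) (iv F62727)
theorem F89623 : act 3 n20774 = n14284 := d27_1 D20774 (iv D14284) (iv F62729)
def n20775 : Q := act 8 n14281
theorem D20775 : act 8 n14281 = n20775 := rfl
theorem F89625 : act 0 n20775 = n14293 := d7_1 D20775 (iv D14293) (iv F62727)
def n20776 : Q := act 9 n14282
theorem D20776 : act 9 n14282 = n20776 := rfl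
theorem F89630 : act 0 n20776 = n14294 := d8_1 D20776 (iv D14294) (iv F62731)
def n20777 : Q := act 3 n14285
theorem D20777 : act 3 n14285 = n20777 := rfl
theorem F89634 : act 1 n20777 = n20777 := d10_1 D20777 (iv D20777) F62745
theorem F89635 : act 2 n20777 = n14407 := d17_1 D20777 (iv D14407) F44432 (iv F44103) (iv F62746)
theorem F89636 : act 4 n20777 = n15556 := d24_2 D14285 D20777 (iv D15556) (iv D10703) (iv F44098)
def n20778 : Q := act 6 n14285
theorem D20778 : act 6 n14285 = n20778 := rfl
theorem F89637 : act 1 n20778 = n20778 := d13_1 D20778 (iv D20778) F62745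
theorem F89638 : act 2 n20778 = n14290 := d20_1 D20778 (iv D14290) (iv F62746)
theorem F89639 : act 4 n20778 = n14286 := d31_1 D20778 (iv D14286) D14285
def n20779 : Q := act 8 n14285
theorem D20779 : act 8 n14285 = n20779 := rfl
theorem F89642 : act 4 n20779 = n14287 := d33_1 D20779 (iv D14287) D14285
def n20780 : Q := act 7 n14286
theorem D20780 : act 7 n14286 = n20780 := rfl
theorem F89644 : act 2 n20780 = n14292 := d21_1 D20780 (iv D14292) (iv F62748)
theorem F89645 : act 3 n20780 = n15559 := d27_1 D20780 (iv D15559) (iv F62749)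
def n20781 : Q := act 8 n14286
theorem D20781 : act 8 n14286 = n20781 := rfl
theorem F89648 : act 2 n20781 = n14293 := d22_1 D20781 (iv D14293) (iv F62748)
def n20782 : Q := act 3 n14287
theorem D20782 : act 3 n14287 = n20782 := rfl
theorem F89654 : act 8 n20782 = n15561 := d28_2 D14287 D20782 (iv D15561) (iv D10705) (iv F44098)
def n20786 : Q := act 5 n14290
theorem D20786 : act 5 n14290 = n20786 := rfl
theorem F89666 : act 1 n20786 = n14295 := d12_1 D20786 (iv D14295) (iv F62761)
theorem F89667 : act 3 n20786 = n14416 := d25_1 D20786 (iv D14416) (iv F62762)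
theorem F89668 : act 4 n20786 = n20786 := d30_1 D20786 (iv D20786) F62763 F44106 (iv F62763)
def n20787 : Q := act 7 n14290
theorem D20787 : act 7 n14290 = n20787 := rfl
theorem F89669 : act 1 n20787 = n14296 := d14_1 D20787 (iv D14296) (iv F62761)
theorem F89670 : act 3 n20787 = n14417 := d27_1 D20787 (iv D14417) (iv F62762)
theorem F89671 : act 4 n20787 = n14292 := d32_1 D20787 (iv D14292) (iv F62763)
def n20788 : Q := act 8 n14290
theorem D20788 : act 8 n14290 = n20788 := rfl
theorem F89672 : act 1 n20788 = n14297 := d15_1 D20788 (iv D14297) (iv F62761)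
theorem F89673 : act 4 n20788 = n14293 := d33_1 D20788 (iv D14293) (iv F62763)
theorem F89674 : act 6 n20788 = n14291 := d40_1 D20788 (iv D14291) D14290
def n20789 : Q := act 3 n14291
theorem D20789 : act 3 n14291 = n20789 := rfl
theorem F89675 : act 1 n20789 = n14298 := d10_1 D20789 (iv D14298) (iv F62764)
theorem F89676 : act 4 n20789 = n20789 := d24_2 (iv F62765) D20789 (iv D20789) F62765 F44108
theorem F89677 : act 8 n20789 = n14419 := d28_2 D14291 D20789 (iv D14419) (iv D9926) (iv F44103)
def n20790 : Q := act 9 n14291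
theorem D20790 : act 9 n14291 = n20790 := rfl
theorem F89678 : act 1 n20790 = n14299 := d16_1 D20790 (iv D14299) (iv F62764)
theorem F89679 : act 4 n20790 = n14294 := d34_1 D20790 (iv D14294) (iv F62765)
def n20791 : Q := act 8 n14292
theorem D20791 : act 8 n14292 = n20791 := rfl
theorem F89680 : act 1 n20791 = n14300 := d15_1 D20791 (iv D14300) (iv F62766)
theorem F89681 : act 3 n20791 = n20791 := d28_1 D20791 (iv D20791) F62767 F44117 (iv F62767)
theorem F89682 : act 5 n20791 = n20791 := d37_1 D20791 (iv D20791) F62768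
theorem F89683 : act 7 n20791 = n14293 := d42_1 D20791 (iv D14293) D14292
def n20792 : Q := act 9 n14293
theorem D20792 : act 9 n14293 = n20792 := rfl
theorem F89684 : act 1 n20792 = n14301 := d16_1 D20792 (iv D14301) (iv F62769)
theorem F89685 : act 3 n20792 = n20792 := d29_1 D20792 (iv D20792) F62770
theorem F89686 : act 5 n20792 = n20792 := d38_1 D20792 (iv D20792) F62771
theorem F89687 : act 6 n20792 = n14294 := d41_1 D20792 (iv D14294) (iv F62772)
def n20793 : Q := act 7 n14295
theorem D20793 : act 7 n14295 = n20793 := rfl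
theorem F89688 : act 0 n20793 = n20793 := d6_1 D20793 (iv D20793) F62776
theorem F89689 : act 2 n20793 = n20793 := d21_1 D20793 (iv D20793) F62777
theorem F89690 : act 3 n20793 = n14423 := d27_1 D20793 (iv D14423) (iv F62778)
theorem F89691 : act 4 n20793 = n20793 := d32_1 D20793 (iv D20793) F62779
theorem F89692 : act 5 n20793 = n14296 := d36_1 D20793 (iv D14296) D14295
def n20794 : Q := act 8 n14295
theorem D20794 : act 8 n14295 = n20794 := rfl
theorem F89693 : act 0 n20794 = n20794 := d7_1 D20794 (iv D20794) F62776
theorem F89694 : act 2 n20794 = n20794 := d22_1 D20794 (iv D20794) F62777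
theorem F89695 : act 4 n20794 = n20794 := d33_1 D20794 (iv D20794) F62779
theorem F89696 : act 5 n20794 = n14297 := d37_1 D20794 (iv D14297) D14295
def n20795 : Q := act 8 n14296
theorem D20795 : act 8 n14296 = n20795 := rfl
theorem F89697 : act 0 n20795 = n20795 := d7_1 D20795 (iv D20795) F62780
theorem F89698 : act 2 n20795 = n20795 := d22_1 D20795 (iv D20795) F62781
theorem F89699 : act 4 n20795 = n14300 := d33_1 D20795 (iv D14300) (iv F62783)
theorem F89700 : act 7 n20795 = n14297 := d42_1 D20795 (iv D14297) D14296
def n20796 : Q := act 3 n14297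
theorem D20796 : act 3 n14297 = n20796 := rfl
theorem F89701 : act 0 n20796 = n20796 := d2_1 D20796 (iv D20796) F62784
theorem F89702 : act 4 n20796 = n20796 := d24_2 (iv F62786) D20796 (iv D20796) F62786 F44131
theorem F89703 : act 6 n20796 = n14298 := d26_2 (iv F62787) D20796 (iv D14298)
theorem F89704 : act 8 n20796 = n14426 := d28_2 D14297 D20796 (iv D14426) (iv D9932) (iv F44120)
def n20797 : Q := act 9 n14297
theorem D20797 : act 9 n14297 = n20797 := rfl
theorem F89705 : act 0 n20797 = n20797 := d8_1 D20797 (iv D20797) F62784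
theorem F89706 : act 2 n20797 = n20797 := d23_1 D20797 (iv D20797) F62785
theorem F89707 : act 4 n20797 = n14301 := d34_1 D20797 (iv D14301) (iv F62786)
theorem F89708 : act 6 n20797 = n14299 := d41_1 D20797 (iv D14299) (iv F62787)
def n20798 : Q := act 2 n14298
theorem D20798 : act 2 n14298 = n20798 := rfl
theorem F89709 : act 0 n20798 = n20798 := d1_1 D20798 (iv D20798) F62788
theorem F89710 : act 3 n20798 = n20798 := d17_2 D14298 D20798 (iv D20798) (iv D14298) F44123
theorem F89711 : act 4 n20798 = n20798 := d18_2 F62789 D20798 (iv D20798)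
theorem F89712 : act 8 n20798 = n14428 := d22_2 (iv F62790) D20798 (iv D14428)
def n20799 : Q := act 9 n14298
theorem D20799 : act 9 n14298 = n20799 := rfl
theorem F89713 : act 0 n20799 = n20799 := d8_1 D20799 (iv D20799) F62788
theorem F89714 : act 3 n20799 = n14299 := d29_1 D20799 (iv D14299) D14298
theorem F89715 : act 4 n20799 = n20799 := d34_1 D20799 (iv D20799) F62789
def n20800 : Q := act 9 n14300
theorem D20800 : act 9 n14300 = n20800 := rfl
theorem F89720 : act 7 n20800 = n14301 := d43_1 D20800 (iv D14301) (iv F62798)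
def n20804 : Q := act 6 n14303
theorem D20804 : act 6 n14303 = n20804 := rfl
theorem F89742 : act 8 n20804 = n14316 := d40_2 (iv F62814) D20804 (iv D14316)
def n20807 : Q := act 4 n14305
theorem D20807 : act 4 n14305 = n20807 := rfl
theorem F89754 : act 1 n20807 = n14308 := d11_1 D20807 (iv D14308) (iv F62822)
def n20808 : Q := act 6 n14305
theorem D20808 : act 6 n14305 = n20808 := rfl
theorem F89758 : act 1 n20808 = n14309 := d13_1 D20808 (iv D14309) (iv F62822)
theorem F89759 : act 3 n20808 = n14307 := d26_1 D20808 (iv D14307) (iv F62823)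
def n20809 : Q := act 8 n14305
theorem D20809 : act 8 n14305 = n20809 := rfl
theorem F89762 : act 1 n20809 = n14310 := d15_1 D20809 (iv D14310) (iv F62822)
theorem F89763 : act 3 n20809 = n14321 := d28_1 D20809 (iv D14321) F44194 (iv F44153) (iv F62823)
def n20810 : Q := act 9 n14306
theorem D20810 : act 9 n14306 = n20810 := rfl
theorem F89766 : act 1 n20810 = n14311 := d16_1 D20810 (iv D14311) (iv F62826)
theorem F89767 : act 3 n20810 = n14322 := d29_1 D20810 (iv D14322) (iv F62827)
def n20811 : Q := act 7 n14307
theorem D20811 : act 7 n14307 = n20811 := rfl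
theorem F89772 : act 1 n20811 = n14312 := d14_1 D20811 (iv D14312) (iv F62831)
theorem F89775 : act 6 n20811 = n14364 := d39_1 D20811 (iv D14364) (iv D9890) (iv F44152) D14307
theorem F89776 : act 8 n20811 = n14323 := d42_2 (iv F62834) D20811 (iv D14323)
def n20813 : Q := act 8 n14308
theorem D20813 : act 8 n14308 = n20813 := rfl
theorem F89784 : act 4 n20813 = n14310 := d33_1 D20813 (iv D14310) D14308
theorem F89786 : act 7 n20813 = n14366 := d42_1 D20813 (iv D14366) (iv F62839)
def n20814 : Q := act 7 n14309
theorem D20814 : act 7 n14309 = n20814 := rfl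
theorem F89791 : act 6 n20814 = n14367 := d39_1 D20814 (iv D14367) (iv D9892) (iv F44158) D14309
def n20815 : Q := act 8 n14309
theorem D20815 : act 8 n14309 = n20815 := rfl
def n20816 : Q := act 9 n14310
theorem D20816 : act 9 n14310 = n20816 := rfl
theorem F89798 : act 0 n20816 = n20816 := d8_1 D20816 (iv D20816) F62846
theorem F89799 : act 2 n20816 = n20816 := d23_1 D20816 (iv D20816) F62847
theorem F89800 : act 3 n20816 = n14328 := d29_1 D20816 (iv D14328) (iv F62848)
theorem F89801 : act 5 n20816 = n14311 := d38_1 D20816 (iv D14311) (iv F62849)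
theorem F89802 : act 7 n20816 = n14369 := d43_1 D20816 (iv D14369) (iv F62850)
theorem F89803 : act 8 n20816 = n20816 := d44_1 D20816 (iv D20816) (iv D14310) F44159 D14310
def n20817 : Q := act 1 n14313
theorem D20817 : act 1 n14313 = n20817 := rfl
theorem F89804 : act 0 n20817 = n14547 := d0_1 D20817 (iv D14547) F44805 (iv F44188) (iv F62864)
theorem F89806 : act 3 n20817 = n15607 := d10_2 (iv F62865) D20817 (iv D15607)
theorem F89808 : act 7 n20817 = n14370 := d14_2 (iv F62867) D20817 (iv D14370)
theorem F89809 : act 9 n20817 = n14329 := d16_2 (iv F62868) D20817 (iv D14329)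
def n20818 : Q := act 5 n14313
theorem D20818 : act 5 n14313 = n20818 := rfl
theorem F89810 : act 0 n20818 = n14317 := d4_1 D20818 (iv D14317) (iv F62864)
theorem F89811 : act 2 n20818 = n14314 := d19_1 D20818 (iv D14314) D14313
theorem F89812 : act 3 n20818 = n15608 := d25_1 D20818 (iv D15608) (iv F62865)
theorem F89813 : act 7 n20818 = n14371 := d36_2 (iv F62867) D20818 (iv D14371)
theorem F89814 : act 9 n20818 = n14330 := d38_2 (iv F62868) D20818 (iv D14330)
def n20819 : Q := act 8 n14313
theorem D20819 : act 8 n14313 = n20819 := rfl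
theorem F89815 : act 0 n20819 = n14318 := d7_1 D20819 (iv D14318) (iv F62864)
theorem F89816 : act 2 n20819 = n14315 := d22_1 D20819 (iv D14315) D14313
def n20820 : Q := act 4 n14314
theorem D20820 : act 4 n14314 = n20820 := rfl
theorem F89819 : act 0 n20820 = n14319 := d3_1 D20820 (iv D14319) (iv F62869)
theorem F89821 : act 7 n20820 = n14373 := d32_2 (iv F62872) D20820 (iv D14373)
theorem F89822 : act 9 n20820 = n14332 := d34_2 (iv F62873) D20820 (iv D14332)
def n20821 : Q := act 6 n14314
theorem D20821 : act 6 n14314 = n20821 := rfl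
theorem F89823 : act 0 n20821 = n14320 := d5_1 D20821 (iv D14320) (iv F62869)
theorem F89825 : act 3 n20821 = n14316 := d26_1 D20821 (iv D14316) (iv F62871)
theorem F89827 : act 9 n20821 = n14333 := d41_2 (iv F62873) D20821 (iv D14333)
def n20822 : Q := act 8 n14314
theorem D20822 : act 8 n14314 = n20822 := rfl
theorem F89828 : act 0 n20822 = n14321 := d7_1 D20822 (iv D14321) (iv F62869)
def n20823 : Q := act 9 n14315
theorem D20823 : act 9 n14315 = n20823 := rfl
theorem F89832 : act 0 n20823 = n14322 := d8_1 D20823 (iv D14322) (iv F62874)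
theorem F89836 : act 8 n20823 = n14335 := d44_1 D20823 (iv D14335) (iv D9871) (iv F44182) D14315
def n20824 : Q := act 7 n14316
theorem D20824 : act 7 n14316 = n20824 := rfl
theorem F89837 : act 0 n20824 = n14323 := d6_1 D20824 (iv D14323) (iv F62878)
theorem F89842 : act 9 n20824 = n14336 := d43_2 (iv F62882) D20824 (iv D14336)
def n20825 : Q := act 4 n14317
theorem D20825 : act 4 n14317 = n20825 := rfl
theorem F89843 : act 1 n20825 = n14555 := d11_1 D20825 (iv D14555) (iv F62883)
theorem F89844 : act 2 n20825 = n14319 := d18_1 D20825 (iv D14319) (iv F62884)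
theorem F89845 : act 7 n20825 = n14378 := d32_2 (iv F62886) D20825 (iv D14378)
theorem F89846 : act 9 n20825 = n14337 := d34_2 (iv F62887) D20825 (iv D14337)
def n20826 : Q := act 6 n14317
theorem D20826 : act 6 n14317 = n20826 := rfl
theorem F89847 : act 1 n20826 = n14556 := d13_1 D20826 (iv D14556) (iv F62883)
theorem F89848 : act 2 n20826 = n14320 := d20_1 D20826 (iv D14320) (iv F62884)
theorem F89849 : act 3 n20826 = n15616 := d26_1 D20826 (iv D15616) (iv F62885)
theorem F89850 : act 5 n20826 = n20826 := d35_1 D20826 (iv D20826) (iv D14317) F44190 D14317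
theorem F89851 : act 9 n20826 = n14338 := d41_2 (iv F62887) D20826 (iv D14338)
def n20827 : Q := act 8 n14317
theorem D20827 : act 8 n14317 = n20827 := rfl
theorem F89852 : act 1 n20827 = n14557 := d15_1 D20827 (iv D14557) (iv F62883)
theorem F89853 : act 2 n20827 = n14321 := d22_1 D20827 (iv D14321) (iv F62884)
theorem F89854 : act 5 n20827 = n14318 := d37_1 D20827 (iv D14318) D14317
theorem F89855 : act 7 n20827 = n14380 := d42_1 D20827 (iv D14380) (iv F62886)
def n20828 : Q := act 3 n14318
theorem D20828 : act 3 n14318 = n20828 := rfl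
theorem F89856 : act 1 n20828 = n14558 := d10_1 D20828 (iv D14558) (iv F62888)
theorem F89859 : act 8 n20828 = n15618 := d28_2 D14318 D20828 (iv D15618) (iv D10743) (iv F44189)
def n20829 : Q := act 9 n14318
theorem D20829 : act 9 n14318 = n20829 := rfl
theorem F89860 : act 1 n20829 = n14559 := d16_1 D20829 (iv D14559) (iv F62888)
theorem F89861 : act 2 n20829 = n14322 := d23_1 D20829 (iv D14322) (iv F62889)
theorem F89862 : act 6 n20829 = n20829 := d41_1 D20829 (iv D20829) F62890
theorem F89863 : act 7 n20829 = n14382 := d43_1 D20829 (iv D14382) (iv F62891)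
theorem F89864 : act 8 n20829 = n14341 := d44_1 D20829 (iv D14341) (iv D9874) (iv F44192) D14318
def n20830 : Q := act 6 n14319
theorem D20830 : act 6 n14319 = n20830 := rfl
theorem F89865 : act 1 n20830 = n14324 := d13_1 D20830 (iv D14324) (iv F62892)
theorem F89866 : act 4 n20830 = n14320 := d31_1 D20830 (iv D14320) D14319
theorem F89867 : act 9 n20830 = n14342 := d41_2 (iv F62894) D20830 (iv D14342)
def n20831 : Q := act 8 n14319
theorem D20831 : act 8 n14319 = n20831 := rfl
theorem F89868 : act 1 n20831 = n14325 := d15_1 D20831 (iv D14325) (iv F62892)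
theorem F89869 : act 4 n20831 = n14321 := d33_1 D20831 (iv D14321) D14319
theorem F89870 : act 7 n20831 = n14384 := d42_1 D20831 (iv D14384) (iv F62893)
def n20832 : Q := act 7 n14320
theorem D20832 : act 7 n14320 = n20832 := rfl
theorem F89871 : act 1 n20832 = n14326 := d14_1 D20832 (iv D14326) (iv F62895)
theorem F89872 : act 3 n20832 = n14323 := d27_1 D20832 (iv D14323) (iv F62896)
theorem F89873 : act 5 n20832 = n20832 := d36_1 D20832 (iv D20832) F62897
theorem F89874 : act 6 n20832 = n14385 := d39_1 D20832 (iv D14385) (iv D9903) (iv F44195) D14320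
theorem F89875 : act 9 n20832 = n14344 := d43_2 (iv F62898) D20832 (iv D14344)
def n20833 : Q := act 8 n14320
theorem D20833 : act 8 n14320 = n20833 := rfl
theorem F89876 : act 1 n20833 = n14327 := d15_1 D20833 (iv D14327) (iv F62895)
theorem F89877 : act 5 n20833 = n20833 := d37_1 D20833 (iv D20833) F62897
theorem F89878 : act 6 n20833 = n14321 := d40_1 D20833 (iv D14321) D14320
def n20834 : Q := act 9 n14321
theorem D20834 : act 9 n14321 = n20834 := rfl
theorem F89879 : act 1 n20834 = n14328 := d16_1 D20834 (iv D14328) (iv F62899)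
theorem F89880 : act 5 n20834 = n14322 := d38_1 D20834 (iv D14322) (iv F62900)
theorem F89881 : act 7 n20834 = n14387 := d43_1 D20834 (iv D14387) (iv F62901)
theorem F89882 : act 8 n20834 = n14346 := d44_1 D20834 (iv D14346) (iv D9877) (iv F44196) D14321
def n20835 : Q := act 5 n14324
theorem D20835 : act 5 n14324 = n20835 := rfl
theorem F89886 : act 9 n20835 = n14347 := d38_2 (iv F62914) D20835 (iv D14347)
def n20836 : Q := act 7 n14324
theorem D20836 : act 7 n14324 = n20836 := rfl
theorem F89889 : act 4 n20836 = n14326 := d32_1 D20836 (iv D14326) (iv F62913)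
theorem F89890 : act 6 n20836 = n14389 := d39_1 D20836 (iv D14389) (iv D9907) (iv F44206) D14324
theorem F89891 : act 9 n20836 = n14348 := d43_2 (iv F62914) D20836 (iv D14348)
def n20837 : Q := act 8 n14324
theorem D20837 : act 8 n14324 = n20837 := rfl
theorem F89894 : act 4 n20837 = n14327 := d33_1 D20837 (iv D14327) (iv F62913)
def n20838 : Q := act 3 n14325
theorem D20838 : act 3 n14325 = n20838 := rfl
theorem F89897 : act 7 n20838 = n14391 := d27_2 (iv F62918) D20838 (iv D14391)
def n20839 : Q := act 9 n14325
theorem D20839 : act 9 n14325 = n20839 := rfl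
theorem F89898 : act 0 n20839 = n20839 := d8_1 D20839 (iv D20839) F62915
theorem F89899 : act 2 n20839 = n14569 := d23_1 D20839 (iv D14569) (iv F62916)
theorem F89900 : act 4 n20839 = n14328 := d34_1 D20839 (iv D14328) (iv F62917)
theorem F89901 : act 7 n20839 = n14392 := d43_1 D20839 (iv D14392) (iv F62918)
theorem F89902 : act 8 n20839 = n14351 := d44_1 D20839 (iv D14351) (iv D9881) (iv F44207) D14325
def n20840 : Q := act 8 n14326
theorem D20840 : act 8 n14326 = n20840 := rfl
theorem F89906 : act 6 n20840 = n14393 := d40_1 D20840 (iv D14393) (iv F62923)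
theorem F89907 : act 7 n20840 = n14327 := d42_1 D20840 (iv D14327) D14326
def n20841 : Q := act 9 n14327
theorem D20841 : act 9 n14327 = n20841 := rfl
theorem F89908 : act 0 n20841 = n20841 := d8_1 D20841 (iv D20841) F62925
theorem F89909 : act 2 n20841 = n14571 := d23_1 D20841 (iv D14571) (iv F62926)
theorem F89910 : act 5 n20841 = n20841 := d38_1 D20841 (iv D20841) F62927
theorem F89911 : act 6 n20841 = n14328 := d41_1 D20841 (iv D14328) (iv F62928)
theorem F89912 : act 8 n20841 = n14353 := d44_1 D20841 (iv D14353) (iv D9883) (iv F44212) D14327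
def n20842 : Q := act 5 n14329
theorem D20842 : act 5 n14329 = n20842 := rfl
theorem F89913 : act 0 n20842 = n14572 := d4_1 D20842 (iv D14572) (iv F62934)
theorem F89914 : act 1 n20842 = n14330 := d12_1 D20842 (iv D14330) D14329
theorem F89915 : act 2 n20842 = n20842 := d19_1 D20842 (iv D20842) F62935
theorem F89916 : act 3 n20842 = n15632 := d25_1 D20842 (iv D15632) (iv F62936)
theorem F89917 : act 7 n20842 = n14395 := d36_2 (iv F62938) D20842 (iv D14395)
def n20843 : Q := act 8 n14329
theorem D20843 : act 8 n14329 = n20843 := rfl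
theorem F89918 : act 0 n20843 = n14573 := d7_1 D20843 (iv D14573) (iv F62934)
theorem F89919 : act 1 n20843 = n14331 := d15_1 D20843 (iv D14331) D14329
theorem F89920 : act 2 n20843 = n20843 := d22_1 D20843 (iv D20843) F62935
theorem F89921 : act 6 n20843 = n20843 := d40_1 D20843 (iv D20843) F62937
theorem F89922 : act 7 n20843 = n14396 := d42_1 D20843 (iv D14396) (iv F62938)
def n20844 : Q := act 4 n14330
theorem D20844 : act 4 n14330 = n20844 := rfl
theorem F89923 : act 0 n20844 = n14337 := d3_1 D20844 (iv D14337) (iv F62939)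
theorem F89924 : act 2 n20844 = n14332 := d18_1 D20844 (iv D14332) (iv F62940)
theorem F89925 : act 7 n20844 = n14397 := d32_2 (iv F62942) D20844 (iv D14397)
def n20845 : Q := act 6 n14330
theorem D20845 : act 6 n14330 = n20845 := rfl
theorem F89926 : act 0 n20845 = n14338 := d5_1 D20845 (iv D14338) (iv F62939)
theorem F89927 : act 2 n20845 = n14333 := d20_1 D20845 (iv D14333) (iv F62940)
theorem F89928 : act 3 n20845 = n15635 := d26_1 D20845 (iv D15635) (iv F62941)
theorem F89929 : act 5 n20845 = n20845 := d35_1 D20845 (iv D20845) (iv D14330) F44229 D14330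
def n20846 : Q := act 8 n14330
theorem D20846 : act 8 n14330 = n20846 := rfl
theorem F89930 : act 0 n20846 = n14339 := d7_1 D20846 (iv D14339) (iv F62939)
theorem F89931 : act 2 n20846 = n14334 := d22_1 D20846 (iv D14334) (iv F62940)
theorem F89932 : act 5 n20846 = n14331 := d37_1 D20846 (iv D14331) D14330
theorem F89933 : act 7 n20846 = n14399 := d42_1 D20846 (iv D14399) (iv F62942)
def n20847 : Q := act 3 n14331
theorem D20847 : act 3 n14331 = n20847 := rfl
theorem F89934 : act 0 n20847 = n14340 := d2_1 D20847 (iv D14340) (iv F62943)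
theorem F89935 : act 2 n20847 = n20847 := d17_1 D20847 (iv D20847) F62944 F44237 (iv F62944)
theorem F89936 : act 6 n20847 = n20847 := d26_2 F62945 D20847 (iv D20847)
theorem F89937 : act 7 n20847 = n14400 := d27_2 (iv F62946) D20847 (iv D14400)
theorem F89938 : act 8 n20847 = n15637 := d28_2 D14331 D20847 (iv D15637) (iv D10756) (iv F44228)
def n20848 : Q := act 9 n14331
theorem D20848 : act 9 n14331 = n20848 := rfl
theorem F89939 : act 0 n20848 = n14341 := d8_1 D20848 (iv D14341) (iv F62943)
theorem F89940 : act 2 n20848 = n14335 := d23_1 D20848 (iv D14335) (iv F62944)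
theorem F89941 : act 6 n20848 = n20848 := d41_1 D20848 (iv D20848) F62945
theorem F89942 : act 7 n20848 = n14401 := d43_1 D20848 (iv D14401) (iv F62946)
def n20849 : Q := act 6 n14332
theorem D20849 : act 6 n14332 = n20849 := rfl
theorem F89943 : act 0 n20849 = n14342 := d5_1 D20849 (iv D14342) (iv F62947)
theorem F89944 : act 1 n20849 = n20849 := d13_1 D20849 (iv D20849) F62948
theorem F89945 : act 4 n20849 = n14333 := d31_1 D20849 (iv D14333) D14332
def n20850 : Q := act 8 n14332
theorem D20850 : act 8 n14332 = n20850 := rfl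
theorem F89946 : act 0 n20850 = n14343 := d7_1 D20850 (iv D14343) (iv F62947)
theorem F89947 : act 1 n20850 = n20850 := d15_1 D20850 (iv D20850) F62948
theorem F89948 : act 4 n20850 = n14334 := d33_1 D20850 (iv D14334) D14332
theorem F89949 : act 7 n20850 = n14403 := d42_1 D20850 (iv D14403) (iv F62949)
def n20851 : Q := act 7 n14333
theorem D20851 : act 7 n14333 = n20851 := rfl
theorem F89950 : act 0 n20851 = n14344 := d6_1 D20851 (iv D14344) (iv F62950)
theorem F89951 : act 1 n20851 = n20851 := d14_1 D20851 (iv D20851) F62951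
theorem F89952 : act 3 n20851 = n14336 := d27_1 D20851 (iv D14336) (iv F62952)
theorem F89953 : act 5 n20851 = n20851 := d36_1 D20851 (iv D20851) F62953
theorem F89954 : act 6 n20851 = n14404 := d39_1 D20851 (iv D14404) (iv D9916) (iv F44234) D14333
def n20852 : Q := act 8 n14333
theorem D20852 : act 8 n14333 = n20852 := rfl
theorem F89955 : act 0 n20852 = n14345 := d7_1 D20852 (iv D14345) (iv F62950)
theorem F89956 : act 1 n20852 = n20852 := d15_1 D20852 (iv D20852) F62951
theorem F89957 : act 3 n20852 = n20852 := d28_1 D20852 (iv D20852) F62952 F44244 (iv F62952)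
theorem F89958 : act 5 n20852 = n20852 := d37_1 D20852 (iv D20852) F62953
theorem F89959 : act 6 n20852 = n14334 := d40_1 D20852 (iv D14334) D14333
def n20853 : Q := act 9 n14334
theorem D20853 : act 9 n14334 = n20853 := rfl
theorem F89960 : act 0 n20853 = n14346 := d8_1 D20853 (iv D14346) (iv F62954)
theorem F89961 : act 1 n20853 = n20853 := d16_1 D20853 (iv D20853) F62955
theorem F89962 : act 3 n20853 = n20853 := d29_1 D20853 (iv D20853) F62956
theorem F89963 : act 5 n20853 = n14335 := d38_1 D20853 (iv D14335) (iv F62957)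
theorem F89964 : act 7 n20853 = n14406 := d43_1 D20853 (iv D14406) (iv F62958)
def n20854 : Q := act 3 n14337
theorem D20854 : act 3 n14337 = n20854 := rfl
theorem F89965 : act 1 n20854 = n14584 := d10_1 D20854 (iv D14584) (iv F62970)
theorem F89966 : act 4 n20854 = n15644 := d24_2 D14337 D20854 (iv D15644) (iv D10762) (iv F44247)
theorem F89967 : act 7 n20854 = n14407 := d27_2 (iv F62972) D20854 (iv D14407)
def n20855 : Q := act 6 n14337
theorem D20855 : act 6 n14337 = n20855 := rfl
theorem F89968 : act 1 n20855 = n14585 := d13_1 D20855 (iv D14585) (iv F62970)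
theorem F89969 : act 2 n20855 = n14342 := d20_1 D20855 (iv D14342) (iv F62971)
theorem F89970 : act 4 n20855 = n14338 := d31_1 D20855 (iv D14338) D14337
def n20856 : Q := act 8 n14337
theorem D20856 : act 8 n14337 = n20856 := rfl
theorem F89971 : act 1 n20856 = n14586 := d15_1 D20856 (iv D14586) (iv F62970)
theorem F89972 : act 2 n20856 = n14343 := d22_1 D20856 (iv D14343) (iv F62971)
theorem F89973 : act 4 n20856 = n14339 := d33_1 D20856 (iv D14339) D14337
theorem F89974 : act 7 n20856 = n14409 := d42_1 D20856 (iv D14409) (iv F62972)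
def n20857 : Q := act 7 n14338
theorem D20857 : act 7 n14338 = n20857 := rfl
theorem F89975 : act 1 n20857 = n14587 := d14_1 D20857 (iv D14587) (iv F62973)
def n20858 : Q := act 8 n14338
theorem D20858 : act 8 n14338 = n20858 := rfl
theorem F89980 : act 1 n20858 = n14588 := d15_1 D20858 (iv D14588) (iv F62973)
theorem F89981 : act 2 n20858 = n14345 := d22_1 D20858 (iv D14345) (iv F62974)
theorem F89982 : act 5 n20858 = n20858 := d37_1 D20858 (iv D20858) F62976
theorem F89983 : act 6 n20858 = n14339 := d40_1 D20858 (iv D14339) D14338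
def n20859 : Q := act 3 n14339
theorem D20859 : act 3 n14339 = n20859 := rfl
theorem F89984 : act 1 n20859 = n14589 := d10_1 D20859 (iv D14589) (iv F62977)
theorem F89985 : act 2 n20859 = n20859 := d17_1 D20859 (iv D20859) F62978 F44259 (iv F62978)
theorem F89986 : act 5 n20859 = n14340 := d25_2 (iv F62979) D20859 (iv D14340)
theorem F89987 : act 7 n20859 = n14412 := d27_2 (iv F62980) D20859 (iv D14412)
theorem F89988 : act 8 n20859 = n15649 := d28_2 D14339 D20859 (iv D15649) (iv D10764) (iv F44247)
def n20860 : Q := act 9 n14339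
theorem D20860 : act 9 n14339 = n20860 := rfl
theorem F89989 : act 1 n20860 = n14590 := d16_1 D20860 (iv D14590) (iv F62977)
theorem F89990 : act 2 n20860 = n14346 := d23_1 D20860 (iv D14346) (iv F62978)
theorem F89991 : act 5 n20860 = n14341 := d38_1 D20860 (iv D14341) (iv F62979)
theorem F89992 : act 7 n20860 = n14413 := d43_1 D20860 (iv D14413) (iv F62980)
def n20861 : Q := act 4 n14340
theorem D20861 : act 4 n14340 = n20861 := rfl
theorem F89993 : act 1 n20861 = n14591 := d11_1 D20861 (iv D14591) (iv F62981)
theorem F89994 : act 2 n20861 = n20861 := d18_1 D20861 (iv D20861) F62982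
theorem F89995 : act 6 n20861 = n20861 := d31_2 F62983 D20861 (iv D20861)
theorem F89996 : act 7 n20861 = n14414 := d32_2 (iv F62984) D20861 (iv D14414)
theorem F89997 : act 8 n20861 = n15651 := d33_2 (iv F62985) D20861 (iv D15651)
def n20862 : Q := act 9 n14340
theorem D20862 : act 9 n14340 = n20862 := rfl
theorem F89998 : act 1 n20862 = n14592 := d16_1 D20862 (iv D14592) (iv F62981)
theorem F89999 : act 2 n20862 = n20862 := d23_1 D20862 (iv D20862) F62982
theorem F90000 : act 3 n20862 = n14341 := d29_1 D20862 (iv D14341) D14340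
theorem F90001 : act 6 n20862 = n20862 := d41_1 D20862 (iv D20862) F62983
theorem F90002 : act 7 n20862 = n14415 := d43_1 D20862 (iv D14415) (iv F62984)
def n20863 : Q := act 5 n14342
theorem D20863 : act 5 n14342 = n20863 := rfl
theorem F90003 : act 1 n20863 = n14347 := d12_1 D20863 (iv D14347) (iv F62990)
theorem F90004 : act 4 n20863 = n20863 := d30_1 D20863 (iv D20863) F62991 F44257 (iv F62991)
def n20864 : Q := act 7 n14342
theorem D20864 : act 7 n14342 = n20864 := rfl
theorem F90005 : act 1 n20864 = n14348 := d14_1 D20864 (iv D14348) (iv F62990)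
theorem F90006 : act 4 n20864 = n14344 := d32_1 D20864 (iv D14344) (iv F62991)
theorem F90007 : act 6 n20864 = n14417 := d39_1 D20864 (iv D14417) (iv D9925) (iv F44254) D14342
def n20865 : Q := act 8 n14342
theorem D20865 : act 8 n14342 = n20865 := rfl
theorem F90008 : act 1 n20865 = n14349 := d15_1 D20865 (iv D14349) (iv F62990)
theorem F90009 : act 4 n20865 = n14345 := d33_1 D20865 (iv D14345) (iv F62991)
theorem F90010 : act 6 n20865 = n14343 := d40_1 D20865 (iv D14343) D14342
def n20866 : Q := act 3 n14343
theorem D20866 : act 3 n14343 = n20866 := rfl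
theorem F90011 : act 1 n20866 = n14350 := d10_1 D20866 (iv D14350) (iv F62992)
theorem F90012 : act 4 n20866 = n20866 := d24_2 (iv F62993) D20866 (iv D20866) F62993 F44259
theorem F90013 : act 7 n20866 = n14419 := d27_2 (iv F62994) D20866 (iv D14419)
def n20867 : Q := act 9 n14343
theorem D20867 : act 9 n14343 = n20867 := rfl
theorem F90014 : act 1 n20867 = n14351 := d16_1 D20867 (iv D14351) (iv F62992)
theorem F90015 : act 4 n20867 = n14346 := d34_1 D20867 (iv D14346) (iv F62993)
theorem F90016 : act 7 n20867 = n14420 := d43_1 D20867 (iv D14420) (iv F62994)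
def n20868 : Q := act 8 n14344
theorem D20868 : act 8 n14344 = n20868 := rfl
theorem F90017 : act 1 n20868 = n14352 := d15_1 D20868 (iv D14352) (iv F62995)
theorem F90018 : act 3 n20868 = n20868 := d28_1 D20868 (iv D20868) F62996 F44270 (iv F62996)
theorem F90019 : act 5 n20868 = n20868 := d37_1 D20868 (iv D20868) F62997
theorem F90020 : act 6 n20868 = n14421 := d40_1 D20868 (iv D14421) (iv F62998)
theorem F90021 : act 7 n20868 = n14345 := d42_1 D20868 (iv D14345) D14344
def n20869 : Q := act 9 n14345
theorem D20869 : act 9 n14345 = n20869 := rfl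
theorem F90022 : act 1 n20869 = n14353 := d16_1 D20869 (iv D14353) (iv F62999)
theorem F90023 : act 3 n20869 = n20869 := d29_1 D20869 (iv D20869) F63000
theorem F90024 : act 5 n20869 = n20869 := d38_1 D20869 (iv D20869) F63001
theorem F90025 : act 6 n20869 = n14346 := d41_1 D20869 (iv D14346) (iv F63002)
def n20870 : Q := act 7 n14347
theorem D20870 : act 7 n14347 = n20870 := rfl
theorem F90027 : act 2 n20870 = n14600 := d21_1 D20870 (iv D14600) (iv F63008)
theorem F90029 : act 5 n20870 = n14348 := d36_1 D20870 (iv D14348) D14347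
def n20871 : Q := act 8 n14347
theorem D20871 : act 8 n14347 = n20871 := rfl
theorem F90030 : act 0 n20871 = n20871 := d7_1 D20871 (iv D20871) F63007
theorem F90031 : act 2 n20871 = n14601 := d22_1 D20871 (iv D14601) (iv F63008)
theorem F90032 : act 4 n20871 = n20871 := d33_1 D20871 (iv D20871) F63009
theorem F90033 : act 5 n20871 = n14349 := d37_1 D20871 (iv D14349) D14347
def n20872 : Q := act 8 n14348
theorem D20872 : act 8 n14348 = n20872 := rfl
theorem F90034 : act 0 n20872 = n20872 := d7_1 D20872 (iv D20872) F63010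
theorem F90035 : act 2 n20872 = n14602 := d22_1 D20872 (iv D14602) (iv F63011)
theorem F90036 : act 4 n20872 = n14352 := d33_1 D20872 (iv D14352) (iv F63012)
theorem F90037 : act 6 n20872 = n14425 := d40_1 D20872 (iv D14425) (iv F63013)
theorem F90038 : act 7 n20872 = n14349 := d42_1 D20872 (iv D14349) D14348
def n20873 : Q := act 3 n14349
theorem D20873 : act 3 n14349 = n20873 := rfl
theorem F90039 : act 0 n20873 = n20873 := d2_1 D20873 (iv D20873) F63014
theorem F90040 : act 4 n20873 = n20873 := d24_2 (iv F63016) D20873 (iv D20873) F63016 F44285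
theorem F90041 : act 6 n20873 = n14350 := d26_2 (iv F63017) D20873 (iv D14350)
def n20874 : Q := act 9 n14349
theorem D20874 : act 9 n14349 = n20874 := rfl
theorem F90042 : act 0 n20874 = n20874 := d8_1 D20874 (iv D20874) F63014
theorem F90043 : act 2 n20874 = n14604 := d23_1 D20874 (iv D14604) (iv F63015)
theorem F90044 : act 4 n20874 = n14353 := d34_1 D20874 (iv D14353) (iv F63016)
theorem F90045 : act 6 n20874 = n14351 := d41_1 D20874 (iv D14351) (iv F63017)
def n20875 : Q := act 2 n14350
theorem D20875 : act 2 n14350 = n20875 := rfl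
theorem F90046 : act 0 n20875 = n20875 := d1_1 D20875 (iv D20875) F63018
theorem F90047 : act 3 n20875 = n14605 := d17_2 D14350 D20875 (iv D14605) (iv D10051) (iv F44275)
theorem F90048 : act 4 n20875 = n20875 := d18_2 F63019 D20875 (iv D20875)
theorem F90049 : act 7 n20875 = n14428 := d21_2 (iv F63020) D20875 (iv D14428)
def n20876 : Q := act 9 n14350
theorem D20876 : act 9 n14350 = n20876 := rfl
theorem F90050 : act 0 n20876 = n20876 := d8_1 D20876 (iv D20876) F63018
theorem F90051 : act 3 n20876 = n14351 := d29_1 D20876 (iv D14351) D14350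
theorem F90052 : act 4 n20876 = n20876 := d34_1 D20876 (iv D20876) F63019
theorem F90053 : act 7 n20876 = n14429 := d43_1 D20876 (iv D14429) (iv F63020)
def n20877 : Q := act 9 n14352
theorem D20877 : act 9 n14352 = n20877 := rfl
theorem F90054 : act 0 n20877 = n20877 := d8_1 D20877 (iv D20877) F63025
theorem F90055 : act 2 n20877 = n14607 := d23_1 D20877 (iv D14607) (iv F63026)
theorem F90056 : act 3 n20877 = n20877 := d29_1 D20877 (iv D20877) F63027
theorem F90057 : act 5 n20877 = n20877 := d38_1 D20877 (iv D20877) F63028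
theorem F90058 : act 6 n20877 = n14430 := d41_1 D20877 (iv D14430) (iv F63029)
theorem F90059 : act 7 n20877 = n14353 := d43_1 D20877 (iv D14353) (iv F63030)
def n20885 : Q := act 7 n14357
theorem D20885 : act 7 n14357 = n20885 := rfl
theorem F90096 : act 5 n20885 = n14438 := d36_1 D20885 (iv D14438) (iv F63053)
theorem F90097 : act 8 n20885 = n14377 := d42_2 (iv F63054) D20885 (iv D14377)
def n20891 : Q := act 6 n14360
theorem D20891 : act 6 n14360 = n20891 := rfl
theorem F90120 : act 1 n20891 = n14365 := d13_1 D20891 (iv D14365) (iv F63064)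
theorem F90121 : act 4 n20891 = n14361 := d31_1 D20891 (iv D14361) D14360
def n20892 : Q := act 8 n14360
theorem D20892 : act 8 n14360 = n20892 := rfl
theorem F90123 : act 1 n20892 = n14366 := d15_1 D20892 (iv D14366) (iv F63064)
theorem F90124 : act 4 n20892 = n14362 := d33_1 D20892 (iv D14362) D14360
def n20893 : Q := act 7 n14361
theorem D20893 : act 7 n14361 = n20893 := rfl
theorem F90126 : act 1 n20893 = n14367 := d14_1 D20893 (iv D14367) (iv F63067)
theorem F90127 : act 3 n20893 = n14364 := d27_1 D20893 (iv D14364) (iv F63068)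
def n20894 : Q := act 8 n14361
theorem D20894 : act 8 n14361 = n20894 := rfl
theorem F90130 : act 1 n20894 = n14368 := d15_1 D20894 (iv D14368) (iv F63067)
theorem F90131 : act 3 n20894 = n14386 := d28_1 D20894 (iv D14386) F44370 (iv F44318) (iv F63068)
def n20895 : Q := act 9 n14362
theorem D20895 : act 9 n14362 = n20895 := rfl
theorem F90134 : act 1 n20895 = n14369 := d16_1 D20895 (iv D14369) (iv F63071)
theorem F90135 : act 3 n20895 = n14387 := d29_1 D20895 (iv D14387) (iv F63072)
def n20896 : Q := act 5 n14365
theorem D20896 : act 5 n14365 = n20896 := rfl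
theorem F90140 : act 4 n20896 = n14449 := d30_1 D20896 (iv D14449) F44542 (iv F44327) (iv F63086)
def n20897 : Q := act 7 n14365
theorem D20897 : act 7 n14365 = n20897 := rfl
theorem F90145 : act 4 n20897 = n14367 := d32_1 D20897 (iv D14367) (iv F63086)
def n20898 : Q := act 8 n14365
theorem D20898 : act 8 n14365 = n20898 := rfl
theorem F90149 : act 4 n20898 = n14368 := d33_1 D20898 (iv D14368) (iv F63086)
def n20899 : Q := act 3 n14366
theorem D20899 : act 3 n14366 = n20899 := rfl
theorem F90152 : act 4 n20899 = n14391 := d24_2 (iv F63090) D20899 (iv D14391) F44388 (iv F44331)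
def n20900 : Q := act 9 n14366
theorem D20900 : act 9 n14366 = n20900 := rfl
theorem F90154 : act 0 n20900 = n20900 := d8_1 D20900 (iv D20900) F63088
theorem F90155 : act 2 n20900 = n20900 := d23_1 D20900 (iv D20900) F63089
theorem F90156 : act 4 n20900 = n14369 := d34_1 D20900 (iv D14369) (iv F63090)
theorem F90157 : act 5 n20900 = n20900 := d38_1 D20900 (iv D20900) F63091
theorem F90158 : act 8 n20900 = n20900 := d44_1 D20900 (iv D20900) (iv D14366) F44323 D14366
def n20901 : Q := act 8 n14367
theorem D20901 : act 8 n14367 = n20901 := rfl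
theorem F90161 : act 3 n20901 = n14393 := d28_1 D20901 (iv D14393) F44391 (iv F44342) (iv F63094)
theorem F90162 : act 5 n20901 = n14454 := d37_1 D20901 (iv D14454) (iv F63095)
def n20902 : Q := act 9 n14368
theorem D20902 : act 9 n14368 = n20902 := rfl
theorem F90164 : act 0 n20902 = n20902 := d8_1 D20902 (iv D20902) F63097
theorem F90165 : act 2 n20902 = n20902 := d23_1 D20902 (iv D20902) F63098
theorem F90166 : act 3 n20902 = n14394 := d29_1 D20902 (iv D14394) (iv F63099)
theorem F90167 : act 5 n20902 = n14455 := d38_1 D20902 (iv D14455) (iv F63100)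
theorem F90168 : act 6 n20902 = n14369 := d41_1 D20902 (iv D14369) (iv F63101)
theorem F90169 : act 8 n20902 = n20902 := d44_1 D20902 (iv D20902) (iv D14368) F44328 D14368
def n20903 : Q := act 5 n14370
theorem D20903 : act 5 n14370 = n20903 := rfl
theorem F90170 : act 0 n20903 = n14608 := d4_1 D20903 (iv D14608) (iv F63107)
theorem F90171 : act 1 n20903 = n14371 := d12_1 D20903 (iv D14371) D14370
theorem F90173 : act 3 n20903 = n15709 := d25_1 D20903 (iv D15709) (iv F63109)
theorem F90174 : act 9 n20903 = n14395 := d38_2 (iv F63111) D20903 (iv D14395)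
def n20904 : Q := act 8 n14370
theorem D20904 : act 8 n14370 = n20904 := rfl
def n20905 : Q := act 4 n14371
theorem D20905 : act 4 n14371 = n20905 := rfl
theorem F90179 : act 0 n20905 = n14378 := d3_1 D20905 (iv D14378) (iv F63112)
theorem F90181 : act 9 n20905 = n14397 := d34_2 (iv F63115) D20905 (iv D14397)
def n20906 : Q := act 6 n14371
theorem D20906 : act 6 n14371 = n20906 := rfl
theorem F90182 : act 0 n20906 = n14379 := d5_1 D20906 (iv D14379) (iv F63112)
theorem F90183 : act 2 n20906 = n14374 := d20_1 D20906 (iv D14374) (iv F63113)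
theorem F90186 : act 9 n20906 = n14398 := d41_2 (iv F63115) D20906 (iv D14398)
def n20907 : Q := act 8 n14371
theorem D20907 : act 8 n14371 = n20907 := rfl
theorem F90187 : act 0 n20907 = n14380 := d7_1 D20907 (iv D14380) (iv F63112)
theorem F90188 : act 2 n20907 = n14375 := d22_1 D20907 (iv D14375) (iv F63113)
def n20908 : Q := act 3 n14372
theorem D20908 : act 3 n14372 = n20908 := rfl
theorem F90192 : act 8 n20908 = n15714 := d28_2 D14372 D20908 (iv D15714) (iv D10808) (iv F44345)
def n20909 : Q := act 9 n14372
theorem D20909 : act 9 n14372 = n20909 := rfl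
theorem F90193 : act 0 n20909 = n14382 := d8_1 D20909 (iv D14382) (iv F63116)
theorem F90196 : act 8 n20909 = n14401 := d44_1 D20909 (iv D14401) (iv D9914) (iv F44347) D14372
def n20910 : Q := act 6 n14373
theorem D20910 : act 6 n14373 = n20910 := rfl
theorem F90197 : act 0 n20910 = n14383 := d5_1 D20910 (iv D14383) (iv F63119)
theorem F90199 : act 4 n20910 = n14374 := d31_1 D20910 (iv D14374) D14373
theorem F90200 : act 9 n20910 = n14402 := d41_2 (iv F63121) D20910 (iv D14402)
def n20911 : Q := act 8 n14373
theorem D20911 : act 8 n14373 = n20911 := rfl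
theorem F90201 : act 0 n20911 = n14384 := d7_1 D20911 (iv D14384) (iv F63119)
theorem F90203 : act 4 n20911 = n14375 := d33_1 D20911 (iv D14375) D14373
def n20912 : Q := act 7 n14374
theorem D20912 : act 7 n14374 = n20912 := rfl
theorem F90204 : act 0 n20912 = n14385 := d6_1 D20912 (iv D14385) (iv F63122)
theorem F90206 : act 3 n20912 = n14377 := d27_1 D20912 (iv D14377) (iv F63124)
theorem F90207 : act 5 n20912 = n14465 := d36_1 D20912 (iv D14465) (iv F63125)
theorem F90208 : act 9 n20912 = n14404 := d43_2 (iv F63126) D20912 (iv D14404)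
def n20913 : Q := act 8 n14374
theorem D20913 : act 8 n14374 = n20913 := rfl
theorem F90209 : act 0 n20913 = n14386 := d7_1 D20913 (iv D14386) (iv F63122)
def n20914 : Q := act 9 n14375
theorem D20914 : act 9 n14375 = n20914 := rfl
theorem F90213 : act 0 n20914 = n14387 := d8_1 D20914 (iv D14387) (iv F63127)
theorem F90216 : act 8 n20914 = n14406 := d44_1 D20914 (iv D14406) (iv D9917) (iv F44351) D14375
def n20915 : Q := act 3 n14378
theorem D20915 : act 3 n14378 = n20915 := rfl
theorem F90217 : act 1 n20915 = n14620 := d10_1 D20915 (iv D14620) (iv F63139)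
theorem F90218 : act 4 n20915 = n15721 := d24_2 D14378 D20915 (iv D15721) (iv D10814) (iv F44362)
theorem F90219 : act 9 n20915 = n14407 := d29_2 (iv F63141) D20915 (iv D14407)
def n20916 : Q := act 6 n14378
theorem D20916 : act 6 n14378 = n20916 := rfl
theorem F90220 : act 1 n20916 = n14621 := d13_1 D20916 (iv D14621) (iv F63139)
theorem F90221 : act 2 n20916 = n14383 := d20_1 D20916 (iv D14383) (iv F63140)
theorem F90222 : act 4 n20916 = n14379 := d31_1 D20916 (iv D14379) D14378
theorem F90223 : act 9 n20916 = n14408 := d41_2 (iv F63141) D20916 (iv D14408)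
def n20917 : Q := act 8 n14378
theorem D20917 : act 8 n14378 = n20917 := rfl
theorem F90224 : act 1 n20917 = n14622 := d15_1 D20917 (iv D14622) (iv F63139)
theorem F90225 : act 2 n20917 = n14384 := d22_1 D20917 (iv D14384) (iv F63140)
theorem F90226 : act 4 n20917 = n14380 := d33_1 D20917 (iv D14380) D14378
def n20918 : Q := act 7 n14379
theorem D20918 : act 7 n14379 = n20918 := rfl
theorem F90227 : act 1 n20918 = n14623 := d14_1 D20918 (iv D14623) (iv F63142)
theorem F90228 : act 2 n20918 = n14385 := d21_1 D20918 (iv D14385) (iv F63143)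
theorem F90229 : act 3 n20918 = n15724 := d27_1 D20918 (iv D15724) (iv F63144)
theorem F90230 : act 5 n20918 = n14471 := d36_1 D20918 (iv D14471) (iv F63145)
theorem F90231 : act 9 n20918 = n14410 := d43_2 (iv F63146) D20918 (iv D14410)
def n20919 : Q := act 8 n14379
theorem D20919 : act 8 n14379 = n20919 := rfl
theorem F90232 : act 1 n20919 = n14624 := d15_1 D20919 (iv D14624) (iv F63142)
theorem F90233 : act 2 n20919 = n14386 := d22_1 D20919 (iv D14386) (iv F63143)
theorem F90234 : act 5 n20919 = n14472 := d37_1 D20919 (iv D14472) (iv F63145)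
theorem F90235 : act 6 n20919 = n14380 := d40_1 D20919 (iv D14380) D14379
def n20920 : Q := act 3 n14380
theorem D20920 : act 3 n14380 = n20920 := rfl
theorem F90236 : act 1 n20920 = n14625 := d10_1 D20920 (iv D14625) (iv F63147)
theorem F90238 : act 8 n20920 = n15726 := d28_2 D14380 D20920 (iv D15726) (iv D10816) (iv F44362)
def n20921 : Q := act 9 n14380
theorem D20921 : act 9 n14380 = n20921 := rfl
theorem F90239 : act 1 n20921 = n14626 := d16_1 D20921 (iv D14626) (iv F63147)
theorem F90240 : act 2 n20921 = n14387 := d23_1 D20921 (iv D14387) (iv F63148)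
theorem F90241 : act 5 n20921 = n14382 := d38_1 D20921 (iv D14382) (iv F63149)
theorem F90242 : act 8 n20921 = n14413 := d44_1 D20921 (iv D14413) (iv D9922) (iv F44363) D14380
def n20922 : Q := act 4 n14381
theorem D20922 : act 4 n14381 = n20922 := rfl
theorem F90245 : act 8 n20922 = n15728 := d33_2 (iv F63152) D20922 (iv D15728)
def n20923 : Q := act 9 n14381
theorem D20923 : act 9 n14381 = n20923 := rfl
theorem F90246 : act 1 n20923 = n14628 := d16_1 D20923 (iv D14628) (iv F63150)
theorem F90247 : act 3 n20923 = n14382 := d29_1 D20923 (iv D14382) D14381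
def n20924 : Q := act 5 n14383
theorem D20924 : act 5 n14383 = n20924 := rfl
theorem F90249 : act 1 n20924 = n14388 := d12_1 D20924 (iv D14388) (iv F63157)
theorem F90250 : act 4 n20924 = n14477 := d30_1 D20924 (iv D14477) F44621 (iv F44371) (iv F63158)
theorem F90251 : act 9 n20924 = n14416 := d38_2 (iv F63159) D20924 (iv D14416)
def n20925 : Q := act 7 n14383
theorem D20925 : act 7 n14383 = n20925 := rfl
theorem F90252 : act 1 n20925 = n14389 := d14_1 D20925 (iv D14389) (iv F63157)
theorem F90253 : act 4 n20925 = n14385 := d32_1 D20925 (iv D14385) (iv F63158)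
theorem F90254 : act 9 n20925 = n14417 := d43_2 (iv F63159) D20925 (iv D14417)
def n20926 : Q := act 8 n14383
theorem D20926 : act 8 n14383 = n20926 := rfl
theorem F90255 : act 1 n20926 = n14390 := d15_1 D20926 (iv D14390) (iv F63157)
theorem F90256 : act 4 n20926 = n14386 := d33_1 D20926 (iv D14386) (iv F63158)
theorem F90257 : act 6 n20926 = n14384 := d40_1 D20926 (iv D14384) D14383
def n20927 : Q := act 3 n14384
theorem D20927 : act 3 n14384 = n20927 := rfl
theorem F90258 : act 1 n20927 = n14391 := d10_1 D20927 (iv D14391) (iv F63160)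
def n20928 : Q := act 9 n14384
theorem D20928 : act 9 n14384 = n20928 := rfl
theorem F90259 : act 1 n20928 = n14392 := d16_1 D20928 (iv D14392) (iv F63160)
theorem F90260 : act 4 n20928 = n14387 := d34_1 D20928 (iv D14387) (iv F63161)
theorem F90261 : act 8 n20928 = n14420 := d44_1 D20928 (iv D14420) (iv D9926) (iv F44368) D14384
def n20929 : Q := act 8 n14385
theorem D20929 : act 8 n14385 = n20929 := rfl
theorem F90262 : act 1 n20929 = n14393 := d15_1 D20929 (iv D14393) (iv F63162)
theorem F90263 : act 5 n20929 = n14482 := d37_1 D20929 (iv D14482) (iv F63164)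
theorem F90264 : act 7 n20929 = n14386 := d42_1 D20929 (iv D14386) D14385
def n20930 : Q := act 9 n14386
theorem D20930 : act 9 n14386 = n20930 := rfl
theorem F90265 : act 1 n20930 = n14394 := d16_1 D20930 (iv D14394) (iv F63166)
theorem F90266 : act 5 n20930 = n14483 := d38_1 D20930 (iv D14483) (iv F63167)
theorem F90267 : act 6 n20930 = n14387 := d41_1 D20930 (iv D14387) (iv F63168)
theorem F90268 : act 8 n20930 = n14422 := d44_1 D20930 (iv D14422) (iv D9928) (iv F44372) D14386
def n20931 : Q := act 7 n14388
theorem D20931 : act 7 n14388 = n20931 := rfl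
theorem F90269 : act 0 n20931 = n20931 := d6_1 D20931 (iv D20931) F63172
theorem F90270 : act 2 n20931 = n14636 := d21_1 D20931 (iv D14636) (iv F63173)
theorem F90271 : act 4 n20931 = n14484 := d32_1 D20931 (iv D14484) (iv F63174)
theorem F90272 : act 5 n20931 = n14389 := d36_1 D20931 (iv D14389) D14388
theorem F90273 : act 9 n20931 = n14423 := d43_2 (iv F63175) D20931 (iv D14423)
def n20932 : Q := act 8 n14388
theorem D20932 : act 8 n14388 = n20932 := rfl
theorem F90274 : act 0 n20932 = n20932 := d7_1 D20932 (iv D20932) F63172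
theorem F90275 : act 2 n20932 = n14637 := d22_1 D20932 (iv D14637) (iv F63173)
theorem F90276 : act 4 n20932 = n14485 := d33_1 D20932 (iv D14485) (iv F63174)
theorem F90277 : act 5 n20932 = n14390 := d37_1 D20932 (iv D14390) D14388
def n20933 : Q := act 8 n14389
theorem D20933 : act 8 n14389 = n20933 := rfl
theorem F90279 : act 2 n20933 = n14638 := d22_1 D20933 (iv D14638) (iv F63177)
theorem F90280 : act 4 n20933 = n14393 := d33_1 D20933 (iv D14393) (iv F63178)
def n20934 : Q := act 3 n14390
theorem D20934 : act 3 n14390 = n20934 := rfl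
theorem F90283 : act 6 n20934 = n14391 := d26_2 (iv F63183) D20934 (iv D14391)
def n20935 : Q := act 9 n14390
theorem D20935 : act 9 n14390 = n20935 := rfl
theorem F90284 : act 0 n20935 = n20935 := d8_1 D20935 (iv D20935) F63180
theorem F90285 : act 2 n20935 = n14640 := d23_1 D20935 (iv D14640) (iv F63181)
theorem F90286 : act 4 n20935 = n14394 := d34_1 D20935 (iv D14394) (iv F63182)
theorem F90287 : act 6 n20935 = n14392 := d41_1 D20935 (iv D14392) (iv F63183)
theorem F90288 : act 8 n20935 = n14427 := d44_1 D20935 (iv D14427) (iv D9932) (iv F44385) D14390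
def n20936 : Q := act 2 n14391
theorem D20936 : act 2 n14391 = n20936 := rfl
theorem F90290 : act 3 n20936 = n14641 := d17_2 D14391 D20936 (iv D14641) (iv D10076) (iv F44387)
def n20937 : Q := act 9 n14391
theorem D20937 : act 9 n14391 = n20937 := rfl
theorem F90291 : act 0 n20937 = n20937 := d8_1 D20937 (iv D20937) F63184
theorem F90292 : act 3 n20937 = n14392 := d29_1 D20937 (iv D14392) D14391
def n20938 : Q := act 9 n14393
theorem D20938 : act 9 n14393 = n20938 := rfl
theorem F90293 : act 0 n20938 = n20938 := d8_1 D20938 (iv D20938) F63189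
theorem F90294 : act 2 n20938 = n14643 := d23_1 D20938 (iv D14643) (iv F63190)
theorem F90295 : act 5 n20938 = n14491 := d38_1 D20938 (iv D14491) (iv F63191)
theorem F90296 : act 7 n20938 = n14394 := d43_1 D20938 (iv D14394) (iv F63192)
theorem F90297 : act 8 n20938 = n14430 := d44_1 D20938 (iv D14430) (iv D9935) (iv F44393) D14393
def n20939 : Q := act 4 n14395
theorem D20939 : act 4 n14395 = n20939 := rfl
theorem F90298 : act 0 n20939 = n14644 := d3_1 D20939 (iv D14644) (iv F63198)
theorem F90299 : act 1 n20939 = n14397 := d11_1 D20939 (iv D14397) (iv F63199)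
theorem F90300 : act 2 n20939 = n20939 := d18_1 D20939 (iv D20939) F63200
def n20940 : Q := act 6 n14395
theorem D20940 : act 6 n14395 = n20940 := rfl
theorem F90301 : act 0 n20940 = n14645 := d5_1 D20940 (iv D14645) (iv F63198)
theorem F90302 : act 1 n20940 = n14398 := d13_1 D20940 (iv D14398) (iv F63199)
theorem F90303 : act 2 n20940 = n20940 := d20_1 D20940 (iv D20940) F63200
theorem F90304 : act 3 n20940 = n15746 := d26_1 D20940 (iv D15746) (iv F63201)
theorem F90305 : act 5 n20940 = n14493 := d35_1 D20940 (iv D14493) (iv D9978) (iv F44405) D14395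
def n20941 : Q := act 8 n14395
theorem D20941 : act 8 n14395 = n20941 := rfl
theorem F90306 : act 0 n20941 = n14646 := d7_1 D20941 (iv D14646) (iv F63198)
theorem F90307 : act 1 n20941 = n14399 := d15_1 D20941 (iv D14399) (iv F63199)
theorem F90308 : act 2 n20941 = n20941 := d22_1 D20941 (iv D20941) F63200
theorem F90309 : act 5 n20941 = n14396 := d37_1 D20941 (iv D14396) D14395
def n20942 : Q := act 3 n14396
theorem D20942 : act 3 n14396 = n20942 := rfl
theorem F90311 : act 1 n20942 = n14400 := d10_1 D20942 (iv D14400) (iv F63203)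
theorem F90313 : act 8 n20942 = n15748 := d28_2 D14396 D20942 (iv D15748) (iv D10832) (iv F44404)
def n20943 : Q := act 9 n14396
theorem D20943 : act 9 n14396 = n20943 := rfl
theorem F90314 : act 0 n20943 = n14648 := d8_1 D20943 (iv D14648) (iv F63202)
theorem F90315 : act 1 n20943 = n14401 := d16_1 D20943 (iv D14401) (iv F63203)
theorem F90316 : act 2 n20943 = n20943 := d23_1 D20943 (iv D20943) F63204
theorem F90317 : act 6 n20943 = n14496 := d41_1 D20943 (iv D14496) (iv F63205)
def n20944 : Q := act 3 n14397
theorem D20944 : act 3 n14397 = n20944 := rfl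
theorem F90318 : act 0 n20944 = n14407 := d2_1 D20944 (iv D14407) (iv F63206)
theorem F90319 : act 4 n20944 = n15750 := d24_2 D14397 D20944 (iv D15750) (iv D10833) (iv F44408)
def n20945 : Q := act 6 n14397
theorem D20945 : act 6 n14397 = n20945 := rfl
theorem F90320 : act 0 n20945 = n14408 := d5_1 D20945 (iv D14408) (iv F63206)
theorem F90321 : act 2 n20945 = n14402 := d20_1 D20945 (iv D14402) (iv F63207)
theorem F90322 : act 4 n20945 = n14398 := d31_1 D20945 (iv D14398) D14397
def n20946 : Q := act 8 n14397
theorem D20946 : act 8 n14397 = n20946 := rfl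
theorem F90323 : act 0 n20946 = n14409 := d7_1 D20946 (iv D14409) (iv F63206)
theorem F90324 : act 2 n20946 = n14403 := d22_1 D20946 (iv D14403) (iv F63207)
theorem F90325 : act 4 n20946 = n14399 := d33_1 D20946 (iv D14399) D14397
def n20947 : Q := act 7 n14398
theorem D20947 : act 7 n14398 = n20947 := rfl
theorem F90326 : act 0 n20947 = n14410 := d6_1 D20947 (iv D14410) (iv F63208)
theorem F90327 : act 2 n20947 = n14404 := d21_1 D20947 (iv D14404) (iv F63209)
theorem F90329 : act 5 n20947 = n14500 := d36_1 D20947 (iv D14500) (iv F63211)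
def n20948 : Q := act 8 n14398
theorem D20948 : act 8 n14398 = n20948 := rfl
theorem F90330 : act 0 n20948 = n14411 := d7_1 D20948 (iv D14411) (iv F63208)
theorem F90331 : act 2 n20948 = n14405 := d22_1 D20948 (iv D14405) (iv F63209)
theorem F90332 : act 5 n20948 = n14501 := d37_1 D20948 (iv D14501) (iv F63211)
theorem F90333 : act 6 n20948 = n14399 := d40_1 D20948 (iv D14399) D14398
def n20949 : Q := act 3 n14399
theorem D20949 : act 3 n14399 = n20949 := rfl
theorem F90334 : act 0 n20949 = n14412 := d2_1 D20949 (iv D14412) (iv F63212)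
theorem F90335 : act 2 n20949 = n20949 := d17_1 D20949 (iv D20949) F63213 F44420 (iv F63213)
theorem F90336 : act 5 n20949 = n14400 := d25_2 (iv F63214) D20949 (iv D14400)
theorem F90337 : act 8 n20949 = n15755 := d28_2 D14399 D20949 (iv D15755) (iv D10835) (iv F44408)
def n20950 : Q := act 9 n14399
theorem D20950 : act 9 n14399 = n20950 := rfl
theorem F90338 : act 0 n20950 = n14413 := d8_1 D20950 (iv D14413) (iv F63212)
theorem F90339 : act 2 n20950 = n14406 := d23_1 D20950 (iv D14406) (iv F63213)
theorem F90340 : act 5 n20950 = n14401 := d38_1 D20950 (iv D14401) (iv F63214)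
def n20951 : Q := act 4 n14400
theorem D20951 : act 4 n14400 = n20951 := rfl
theorem F90341 : act 0 n20951 = n14414 := d3_1 D20951 (iv D14414) (iv F63215)
theorem F90344 : act 8 n20951 = n15757 := d33_2 (iv F63218) D20951 (iv D15757)
def n20952 : Q := act 9 n14400
theorem D20952 : act 9 n14400 = n20952 := rfl
theorem F90345 : act 0 n20952 = n14415 := d8_1 D20952 (iv D14415) (iv F63215)
theorem F90346 : act 2 n20952 = n20952 := d23_1 D20952 (iv D20952) F63216
theorem F90347 : act 3 n20952 = n14401 := d29_1 D20952 (iv D14401) D14400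
theorem F90348 : act 6 n20952 = n14505 := d41_1 D20952 (iv D14505) (iv F63217)
def n20953 : Q := act 5 n14402
theorem D20953 : act 5 n14402 = n20953 := rfl
theorem F90349 : act 0 n20953 = n14416 := d4_1 D20953 (iv D14416) (iv F63222)
theorem F90350 : act 1 n20953 = n20953 := d12_1 D20953 (iv D20953) F63223
theorem F90351 : act 4 n20953 = n14506 := d30_1 D20953 (iv D14506) F44695 (iv F44417) (iv F63224)
def n20954 : Q := act 7 n14402
theorem D20954 : act 7 n14402 = n20954 := rfl
theorem F90352 : act 0 n20954 = n14417 := d6_1 D20954 (iv D14417) (iv F63222)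
theorem F90353 : act 1 n20954 = n20954 := d14_1 D20954 (iv D20954) F63223
theorem F90354 : act 4 n20954 = n14404 := d32_1 D20954 (iv D14404) (iv F63224)
def n20955 : Q := act 8 n14402
theorem D20955 : act 8 n14402 = n20955 := rfl
theorem F90355 : act 0 n20955 = n14418 := d7_1 D20955 (iv D14418) (iv F63222)
theorem F90356 : act 1 n20955 = n20955 := d15_1 D20955 (iv D20955) F63223
theorem F90357 : act 4 n20955 = n14405 := d33_1 D20955 (iv D14405) (iv F63224)
theorem F90358 : act 6 n20955 = n14403 := d40_1 D20955 (iv D14403) D14402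
def n20956 : Q := act 3 n14403
theorem D20956 : act 3 n14403 = n20956 := rfl
theorem F90359 : act 0 n20956 = n14419 := d2_1 D20956 (iv D14419) (iv F63225)
theorem F90360 : act 1 n20956 = n20956 := d10_1 D20956 (iv D20956) F63226
theorem F90361 : act 4 n20956 = n20956 := d24_2 (iv F63227) D20956 (iv D20956) F63227 F44420
def n20957 : Q := act 9 n14403
theorem D20957 : act 9 n14403 = n20957 := rfl
theorem F90362 : act 0 n20957 = n14420 := d8_1 D20957 (iv D14420) (iv F63225)
theorem F90363 : act 1 n20957 = n20957 := d16_1 D20957 (iv D20957) F63226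
theorem F90364 : act 4 n20957 = n14406 := d34_1 D20957 (iv D14406) (iv F63227)
def n20958 : Q := act 8 n14404
theorem D20958 : act 8 n14404 = n20958 := rfl
theorem F90365 : act 0 n20958 = n14421 := d7_1 D20958 (iv D14421) (iv F63228)
theorem F90366 : act 1 n20958 = n20958 := d15_1 D20958 (iv D20958) F63229
theorem F90367 : act 3 n20958 = n20958 := d28_1 D20958 (iv D20958) F63230 F44430 (iv F63230)
theorem F90368 : act 5 n20958 = n14511 := d37_1 D20958 (iv D14511) (iv F63231)
theorem F90369 : act 7 n20958 = n14405 := d42_1 D20958 (iv D14405) D14404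
def n20959 : Q := act 9 n14405
theorem D20959 : act 9 n14405 = n20959 := rfl
theorem F90370 : act 0 n20959 = n14422 := d8_1 D20959 (iv D14422) (iv F63232)
theorem F90371 : act 1 n20959 = n20959 := d16_1 D20959 (iv D20959) F63233
theorem F90372 : act 3 n20959 = n20959 := d29_1 D20959 (iv D20959) F63234
theorem F90373 : act 5 n20959 = n14512 := d38_1 D20959 (iv D14512) (iv F63235)
theorem F90374 : act 6 n20959 = n14406 := d41_1 D20959 (iv D14406) (iv F63236)
def n20960 : Q := act 6 n14407
theorem D20960 : act 6 n14407 = n20960 := rfl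
theorem F90375 : act 1 n20960 = n14665 := d13_1 D20960 (iv D14665) (iv F63241)
theorem F90376 : act 3 n20960 = n14408 := d26_1 D20960 (iv D14408) D14407
theorem F90377 : act 4 n20960 = n15766 := d31_1 D20960 (iv D15766) (iv F63242)
def n20961 : Q := act 8 n14407
theorem D20961 : act 8 n14407 = n20961 := rfl
theorem F90378 : act 1 n20961 = n14666 := d15_1 D20961 (iv D14666) (iv F63241)
theorem F90379 : act 4 n20961 = n15767 := d33_1 D20961 (iv D15767) (iv F63242)
def n20962 : Q := act 5 n14408
theorem D20962 : act 5 n14408 = n20962 := rfl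
theorem F90380 : act 1 n20962 = n14667 := d12_1 D20962 (iv D14667) (iv F63243)
theorem F90381 : act 2 n20962 = n14416 := d19_1 D20962 (iv D14416) (iv F63244)
theorem F90382 : act 4 n20962 = n14515 := d30_1 D20962 (iv D14515) F44719 (iv F44436) (iv F63245)
def n20963 : Q := act 7 n14408
theorem D20963 : act 7 n14408 = n20963 := rfl
theorem F90383 : act 1 n20963 = n14668 := d14_1 D20963 (iv D14668) (iv F63243)
theorem F90384 : act 2 n20963 = n14417 := d21_1 D20963 (iv D14417) (iv F63244)
theorem F90385 : act 4 n20963 = n14410 := d32_1 D20963 (iv D14410) (iv F63245)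
def n20964 : Q := act 8 n14408
theorem D20964 : act 8 n14408 = n20964 := rfl
theorem F90386 : act 1 n20964 = n14669 := d15_1 D20964 (iv D14669) (iv F63243)
theorem F90387 : act 2 n20964 = n14418 := d22_1 D20964 (iv D14418) (iv F63244)
theorem F90388 : act 4 n20964 = n14411 := d33_1 D20964 (iv D14411) (iv F63245)
theorem F90389 : act 6 n20964 = n14409 := d40_1 D20964 (iv D14409) D14408
def n20965 : Q := act 3 n14409
theorem D20965 : act 3 n14409 = n20965 := rfl
theorem F90390 : act 1 n20965 = n14670 := d10_1 D20965 (iv D14670) (iv F63246)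
def n20966 : Q := act 9 n14409
theorem D20966 : act 9 n14409 = n20966 := rfl
theorem F90391 : act 1 n20966 = n14671 := d16_1 D20966 (iv D14671) (iv F63246)
theorem F90392 : act 2 n20966 = n14420 := d23_1 D20966 (iv D14420) (iv F63247)
theorem F90393 : act 4 n20966 = n14413 := d34_1 D20966 (iv D14413) (iv F63248)
def n20967 : Q := act 8 n14410
theorem D20967 : act 8 n14410 = n20967 := rfl
theorem F90394 : act 1 n20967 = n14672 := d15_1 D20967 (iv D14672) (iv F63249)
theorem F90395 : act 2 n20967 = n14421 := d22_1 D20967 (iv D14421) (iv F63250)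
theorem F90396 : act 5 n20967 = n14520 := d37_1 D20967 (iv D14520) (iv F63252)
theorem F90397 : act 7 n20967 = n14411 := d42_1 D20967 (iv D14411) D14410
def n20968 : Q := act 3 n14411
theorem D20968 : act 3 n14411 = n20968 := rfl
theorem F90398 : act 1 n20968 = n14673 := d10_1 D20968 (iv D14673) (iv F63253)
theorem F90399 : act 2 n20968 = n20968 := d17_1 D20968 (iv D20968) F63254 F44455 (iv F63254)
theorem F90400 : act 5 n20968 = n14521 := d25_2 (iv F63255) D20968 (iv D14521)
theorem F90401 : act 6 n20968 = n14412 := d26_2 (iv F63256) D20968 (iv D14412)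
theorem F90402 : act 8 n20968 = n15774 := d28_2 D14411 D20968 (iv D15774) (iv D10847) (iv F44435)
def n20969 : Q := act 9 n14411
theorem D20969 : act 9 n14411 = n20969 := rfl
theorem F90403 : act 1 n20969 = n14674 := d16_1 D20969 (iv D14674) (iv F63253)
theorem F90404 : act 2 n20969 = n14422 := d23_1 D20969 (iv D14422) (iv F63254)
theorem F90405 : act 5 n20969 = n14522 := d38_1 D20969 (iv D14522) (iv F63255)
theorem F90406 : act 6 n20969 = n14413 := d41_1 D20969 (iv D14413) (iv F63256)
def n20970 : Q := act 4 n14412
theorem D20970 : act 4 n14412 = n20970 := rfl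
theorem F90407 : act 1 n20970 = n14675 := d11_1 D20970 (iv D14675) (iv F63257)
theorem F90408 : act 2 n20970 = n20970 := d18_1 D20970 (iv D20970) F63258
theorem F90409 : act 8 n20970 = n15776 := d33_2 (iv F63260) D20970 (iv D15776)
def n20971 : Q := act 9 n14412
theorem D20971 : act 9 n14412 = n20971 := rfl
theorem F90410 : act 1 n20971 = n14676 := d16_1 D20971 (iv D14676) (iv F63257)
theorem F90411 : act 2 n20971 = n20971 := d23_1 D20971 (iv D20971) F63258
theorem F90412 : act 3 n20971 = n14413 := d29_1 D20971 (iv D14413) D14412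
theorem F90413 : act 5 n20971 = n14415 := d38_1 D20971 (iv D14415) (iv F63259)
def n20972 : Q := act 5 n14414
theorem D20972 : act 5 n14414 = n20972 := rfl
theorem F90414 : act 1 n20972 = n14677 := d12_1 D20972 (iv D14677) (iv F63264)
theorem F90415 : act 2 n20972 = n20972 := d19_1 D20972 (iv D20972) F63265
theorem F90416 : act 8 n20972 = n15778 := d37_2 (iv F63267) D20972 (iv D15778)
def n20973 : Q := act 9 n14414
theorem D20973 : act 9 n14414 = n20973 := rfl
theorem F90417 : act 1 n20973 = n14678 := d16_1 D20973 (iv D14678) (iv F63264)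
theorem F90418 : act 2 n20973 = n20973 := d23_1 D20973 (iv D20973) F63265
theorem F90419 : act 4 n20973 = n14415 := d34_1 D20973 (iv D14415) D14414
theorem F90420 : act 6 n20973 = n14526 := d41_1 D20973 (iv D14526) (iv F63266)
def n20975 : Q := act 7 n14416
theorem D20975 : act 7 n14416 = n20975 := rfl
theorem F90425 : act 1 n20975 = n14423 := d14_1 D20975 (iv D14423) (iv F63272)
theorem F90426 : act 4 n20975 = n14528 := d32_1 D20975 (iv D14528) (iv F63273)
theorem F90427 : act 5 n20975 = n14417 := d36_1 D20975 (iv D14417) D14416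
def n20976 : Q := act 8 n14416
theorem D20976 : act 8 n14416 = n20976 := rfl
theorem F90428 : act 1 n20976 = n14424 := d15_1 D20976 (iv D14424) (iv F63272)
theorem F90429 : act 4 n20976 = n14529 := d33_1 D20976 (iv D14529) (iv F63273)
theorem F90430 : act 5 n20976 = n14418 := d37_1 D20976 (iv D14418) D14416
def n20977 : Q := act 8 n14417
theorem D20977 : act 8 n14417 = n20977 := rfl
theorem F90431 : act 1 n20977 = n14425 := d15_1 D20977 (iv D14425) (iv F63274)
theorem F90432 : act 4 n20977 = n14421 := d33_1 D20977 (iv D14421) (iv F63275)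
theorem F90433 : act 7 n20977 = n14418 := d42_1 D20977 (iv D14418) D14417
def n20978 : Q := act 3 n14418
theorem D20978 : act 3 n14418 = n20978 := rfl
theorem F90434 : act 1 n20978 = n14426 := d10_1 D20978 (iv D14426) (iv F63276)
theorem F90435 : act 4 n20978 = n20978 := d24_2 (iv F63277) D20978 (iv D20978) F63277 F44455
theorem F90436 : act 6 n20978 = n14419 := d26_2 (iv F63278) D20978 (iv D14419)
def n20979 : Q := act 9 n14418
theorem D20979 : act 9 n14418 = n20979 := rfl
theorem F90437 : act 1 n20979 = n14427 := d16_1 D20979 (iv D14427) (iv F63276)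
theorem F90438 : act 4 n20979 = n14422 := d34_1 D20979 (iv D14422) (iv F63277)
theorem F90439 : act 6 n20979 = n14420 := d41_1 D20979 (iv D14420) (iv F63278)
def n20980 : Q := act 2 n14419
theorem D20980 : act 2 n14419 = n20980 := rfl
theorem F90440 : act 4 n20980 = n20980 := d18_2 F63280 D20980 (iv D20980)
def n20981 : Q := act 9 n14419
theorem D20981 : act 9 n14419 = n20981 := rfl
theorem F90441 : act 1 n20981 = n14429 := d16_1 D20981 (iv D14429) (iv F63279)
theorem F90442 : act 3 n20981 = n14420 := d29_1 D20981 (iv D14420) D14419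
theorem F90443 : act 4 n20981 = n20981 := d34_1 D20981 (iv D20981) F63280
def n20982 : Q := act 9 n14421
theorem D20982 : act 9 n14421 = n20982 := rfl
theorem F90444 : act 1 n20982 = n14430 := d16_1 D20982 (iv D14430) (iv F63283)
theorem F90445 : act 3 n20982 = n20982 := d29_1 D20982 (iv D20982) F63284
theorem F90446 : act 5 n20982 = n14535 := d38_1 D20982 (iv D14535) (iv F63285)
theorem F90447 : act 7 n20982 = n14422 := d43_1 D20982 (iv D14422) (iv F63286)
def n20983 : Q := act 6 n14423
theorem D20983 : act 6 n14423 = n20983 := rfl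
theorem F90448 : act 0 n20983 = n20983 := d5_1 D20983 (iv D20983) F63291
theorem F90449 : act 2 n20983 = n14688 := d20_1 D20983 (iv D14688) (iv F63292)
theorem F90450 : act 4 n20983 = n14536 := d31_1 D20983 (iv D14536) (iv F63293)
def n20984 : Q := act 8 n14423
theorem D20984 : act 8 n14423 = n20984 := rfl
theorem F90451 : act 0 n20984 = n20984 := d7_1 D20984 (iv D20984) F63291
theorem F90452 : act 2 n20984 = n14689 := d22_1 D20984 (iv D14689) (iv F63292)
theorem F90453 : act 4 n20984 = n14537 := d33_1 D20984 (iv D14537) (iv F63293)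
theorem F90454 : act 5 n20984 = n14425 := d37_1 D20984 (iv D14425) (iv F63294)
theorem F90455 : act 7 n20984 = n14424 := d42_1 D20984 (iv D14424) D14423
def n20985 : Q := act 3 n14424
theorem D20985 : act 3 n14424 = n20985 := rfl
theorem F90456 : act 0 n20985 = n20985 := d2_1 D20985 (iv D20985) F63295
theorem F90457 : act 5 n20985 = n14426 := d25_2 (iv F63298) D20985 (iv D14426)
def n20986 : Q := act 9 n14424
theorem D20986 : act 9 n14424 = n20986 := rfl
theorem F90458 : act 0 n20986 = n20986 := d8_1 D20986 (iv D20986) F63295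
theorem F90459 : act 2 n20986 = n14691 := d23_1 D20986 (iv D14691) (iv F63296)
theorem F90460 : act 4 n20986 = n14539 := d34_1 D20986 (iv D14539) (iv F63297)
theorem F90461 : act 5 n20986 = n14427 := d38_1 D20986 (iv D14427) (iv F63298)
def n20987 : Q := act 3 n14425
theorem D20987 : act 3 n14425 = n20987 := rfl
theorem F90462 : act 0 n20987 = n20987 := d2_1 D20987 (iv D20987) F63299
theorem F90463 : act 4 n20987 = n20987 := d24_2 (iv F63301) D20987 (iv D20987) F63301 F44478
theorem F90464 : act 7 n20987 = n14426 := d27_2 (iv F63302) D20987 (iv D14426)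
def n20988 : Q := act 9 n14425
theorem D20988 : act 9 n14425 = n20988 := rfl
theorem F90465 : act 0 n20988 = n20988 := d8_1 D20988 (iv D20988) F63299
theorem F90466 : act 2 n20988 = n14693 := d23_1 D20988 (iv D14693) (iv F63300)
theorem F90467 : act 4 n20988 = n14430 := d34_1 D20988 (iv D14430) (iv F63301)
theorem F90468 : act 7 n20988 = n14427 := d43_1 D20988 (iv D14427) (iv F63302)
def n20989 : Q := act 2 n14426
theorem D20989 : act 2 n14426 = n20989 := rfl
theorem F90469 : act 0 n20989 = n20989 := d1_1 D20989 (iv D20989) F63303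
theorem F90470 : act 3 n20989 = n14694 := d17_2 D14426 D20989 (iv D14694) (iv D10111) (iv F44468)
theorem F90471 : act 4 n20989 = n20989 := d18_2 F63304 D20989 (iv D20989)
theorem F90472 : act 6 n20989 = n14428 := d20_2 (iv F63305) D20989 (iv D14428)
def n20990 : Q := act 9 n14426
theorem D20990 : act 9 n14426 = n20990 := rfl
theorem F90473 : act 0 n20990 = n20990 := d8_1 D20990 (iv D20990) F63303
theorem F90474 : act 3 n20990 = n14427 := d29_1 D20990 (iv D14427) D14426
theorem F90475 : act 4 n20990 = n20990 := d34_1 D20990 (iv D20990) F63304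
theorem F90476 : act 6 n20990 = n14429 := d41_1 D20990 (iv D14429) (iv F63305)
def n20991 : Q := act 1 n14428
theorem D20991 : act 1 n14428 = n20991 := rfl
theorem F90477 : act 3 n20991 = n14696 := d10_2 (iv F63311) D20991 (iv D14696)
theorem F90478 : act 4 n20991 = n20991 := d11_2 F63312 D20991 (iv D20991)
def n20992 : Q := act 9 n14428
theorem D20992 : act 9 n14428 = n20992 := rfl
theorem F90479 : act 0 n20992 = n20992 := d8_1 D20992 (iv D20992) F63310
theorem F90480 : act 2 n20992 = n14429 := d23_1 D20992 (iv D14429) D14428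
theorem F90481 : act 3 n20992 = n14697 := d29_1 D20992 (iv D14697) (iv F63311)
theorem F90482 : act 4 n20992 = n20992 := d34_1 D20992 (iv D20992) F63312
def n20993 : Q := act 8 n14429
theorem D20993 : act 8 n14429 = n20993 := rfl
theorem F90483 : act 0 n20993 = n20993 := d7_1 D20993 (iv D20993) F63313
theorem F90484 : act 4 n20993 = n20993 := d33_1 D20993 (iv D20993) F63315
def n21007 : Q := act 6 n14439
theorem D21007 : act 6 n14439 = n21007 := rfl
theorem F90551 : act 4 n21007 = n14440 := d31_1 D21007 (iv D14440) D14439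
def n21008 : Q := act 8 n14439
theorem D21008 : act 8 n14439 = n21008 := rfl
theorem F90555 : act 4 n21008 = n14441 := d33_1 D21008 (iv D14441) D14439
def n21009 : Q := act 7 n14440
theorem D21009 : act 7 n14440 = n21009 := rfl
theorem F90559 : act 2 n21009 = n14446 := d21_1 D21009 (iv D14446) (iv F63370)
def n21010 : Q := act 8 n14440
theorem D21010 : act 8 n14440 = n21010 := rfl
theorem F90564 : act 2 n21010 = n14447 := d22_1 D21010 (iv D14447) (iv F63370)
def n21011 : Q := act 3 n14441
theorem D21011 : act 3 n14441 = n21011 := rfl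
theorem F90570 : act 8 n21011 = n15842 := d28_2 D14441 D21011 (iv D15842) (iv D10893) (iv F44509)
def n21015 : Q := act 5 n14444
theorem D21015 : act 5 n14444 = n21015 := rfl
theorem F90585 : act 1 n21015 = n14449 := d12_1 D21015 (iv D14449) (iv F63386)
def n21016 : Q := act 7 n14444
theorem D21016 : act 7 n14444 = n21016 := rfl
theorem F90589 : act 1 n21016 = n14450 := d14_1 D21016 (iv D14450) (iv F63386)
theorem F90591 : act 4 n21016 = n14446 := d32_1 D21016 (iv D14446) (iv F63388)
def n21017 : Q := act 8 n14444
theorem D21017 : act 8 n14444 = n21017 := rfl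
theorem F90594 : act 1 n21017 = n14451 := d15_1 D21017 (iv D14451) (iv F63386)
theorem F90595 : act 4 n21017 = n14447 := d33_1 D21017 (iv D14447) (iv F63388)
def n21018 : Q := act 3 n14445
theorem D21018 : act 3 n14445 = n21018 := rfl
theorem F90597 : act 1 n21018 = n14452 := d10_1 D21018 (iv D14452) (iv F63390)
theorem F90598 : act 4 n21018 = n14480 := d24_2 (iv F63391) D21018 (iv D14480) F44624 (iv F44525)
def n21019 : Q := act 9 n14445
theorem D21019 : act 9 n14445 = n21019 := rfl
theorem F90602 : act 1 n21019 = n14453 := d16_1 D21019 (iv D14453) (iv F63390)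
theorem F90603 : act 4 n21019 = n14448 := d34_1 D21019 (iv D14448) (iv F63391)
def n21020 : Q := act 8 n14446
theorem D21020 : act 8 n14446 = n21020 := rfl
theorem F90607 : act 1 n21020 = n14454 := d15_1 D21020 (iv D14454) (iv F63394)
theorem F90608 : act 3 n21020 = n14482 := d28_1 D21020 (iv D14482) F44627 (iv F44537) (iv F63395)
def n21021 : Q := act 9 n14447
theorem D21021 : act 9 n14447 = n21021 := rfl
theorem F90611 : act 1 n21021 = n14455 := d16_1 D21021 (iv D14455) (iv F63398)
theorem F90612 : act 3 n21021 = n14483 := d29_1 D21021 (iv D14483) (iv F63399)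
def n21022 : Q := act 7 n14449
theorem D21022 : act 7 n14449 = n21022 := rfl
theorem F90618 : act 5 n21022 = n14450 := d36_1 D21022 (iv D14450) D14449
def n21023 : Q := act 8 n14449
theorem D21023 : act 8 n14449 = n21023 := rfl
theorem F90622 : act 5 n21023 = n14451 := d37_1 D21023 (iv D14451) D14449
def n21024 : Q := act 8 n14450
theorem D21024 : act 8 n14450 = n21024 := rfl
theorem F90626 : act 4 n21024 = n14454 := d33_1 D21024 (iv D14454) (iv F63414)
theorem F90628 : act 7 n21024 = n14451 := d42_1 D21024 (iv D14451) D14450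
def n21025 : Q := act 3 n14451
theorem D21025 : act 3 n14451 = n21025 := rfl
theorem F90629 : act 0 n21025 = n21025 := d2_1 D21025 (iv D21025) F63417
theorem F90630 : act 4 n21025 = n14487 := d24_2 (iv F63419) D21025 (iv D14487) F44648 (iv F44556)
theorem F90631 : act 6 n21025 = n14452 := d26_2 (iv F63420) D21025 (iv D14452)
theorem F90632 : act 8 n21025 = n21025 := d28_2 D14451 D21025 (iv D21025) (iv D14451) F44541
def n21026 : Q := act 9 n14451
theorem D21026 : act 9 n14451 = n21026 := rfl
theorem F90633 : act 0 n21026 = n21026 := d8_1 D21026 (iv D21026) F63417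
theorem F90634 : act 2 n21026 = n21026 := d23_1 D21026 (iv D21026) F63418
theorem F90635 : act 4 n21026 = n14455 := d34_1 D21026 (iv D14455) (iv F63419)
theorem F90636 : act 6 n21026 = n14453 := d41_1 D21026 (iv D14453) (iv F63420)
theorem F90637 : act 8 n21026 = n21026 := d44_1 D21026 (iv D21026) (iv D14451) F44543 D14451
def n21027 : Q := act 2 n14452
theorem D21027 : act 2 n14452 = n21027 := rfl
theorem F90638 : act 0 n21027 = n21027 := d1_1 D21027 (iv D21027) F63421
theorem F90639 : act 3 n21027 = n21027 := d17_2 D14452 D21027 (iv D21027) (iv D14452) F44545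
theorem F90640 : act 4 n21027 = n14489 := d18_2 (iv F63422) D21027 (iv D14489)
theorem F90641 : act 5 n21027 = n21027 := d19_2 F63423 D21027 (iv D21027)
theorem F90642 : act 7 n21027 = n21027 := d21_2 F63424 D21027 (iv D21027)
theorem F90643 : act 8 n21027 = n21027 := d22_2 F63425 D21027 (iv D21027)
def n21028 : Q := act 9 n14452
theorem D21028 : act 9 n14452 = n21028 := rfl
theorem F90644 : act 0 n21028 = n21028 := d8_1 D21028 (iv D21028) F63421
theorem F90645 : act 3 n21028 = n14453 := d29_1 D21028 (iv D14453) D14452
theorem F90646 : act 4 n21028 = n14490 := d34_1 D21028 (iv D14490) (iv F63422)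
theorem F90647 : act 5 n21028 = n21028 := d38_1 D21028 (iv D21028) F63423
theorem F90648 : act 7 n21028 = n21028 := d43_1 D21028 (iv D21028) F63424
def n21029 : Q := act 9 n14454
theorem D21029 : act 9 n14454 = n21029 := rfl
theorem F90649 : act 0 n21029 = n21029 := d8_1 D21029 (iv D21029) F63432
theorem F90650 : act 2 n21029 = n21029 := d23_1 D21029 (iv D21029) F63433
theorem F90651 : act 3 n21029 = n14491 := d29_1 D21029 (iv D14491) (iv F63434)
theorem F90652 : act 6 n21029 = n21029 := d41_1 D21029 (iv D21029) F63435
theorem F90653 : act 7 n21029 = n14455 := d43_1 D21029 (iv D14455) (iv F63436)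
theorem F90654 : act 8 n21029 = n21029 := d44_1 D21029 (iv D21029) (iv D14454) F44553 D14454
def n21030 : Q := act 4 n14456
theorem D21030 : act 4 n14456 = n21030 := rfl
theorem F90655 : act 0 n21030 = n14699 := d3_1 D21030 (iv D14699) (iv F63442)
theorem F90659 : act 9 n21030 = n14492 := d34_2 (iv F63447) D21030 (iv D14492)
def n21031 : Q := act 6 n14456
theorem D21031 : act 6 n14456 = n21031 := rfl
theorem F90660 : act 0 n21031 = n14700 := d5_1 D21031 (iv D14700) (iv F63442)
theorem F90661 : act 1 n21031 = n14459 := d13_1 D21031 (iv D14459) (iv F63443)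
theorem F90663 : act 3 n21031 = n15862 := d26_1 D21031 (iv D15862) (iv F63445)
theorem F90664 : act 9 n21031 = n14493 := d41_2 (iv F63447) D21031 (iv D14493)
def n21032 : Q := act 8 n14456
theorem D21032 : act 8 n14456 = n21032 := rfl
def n21033 : Q := act 3 n14457
theorem D21033 : act 3 n14457 = n21033 := rfl
theorem F90673 : act 8 n21033 = n15864 := d28_2 D14457 D21033 (iv D15864) (iv D10909) (iv F44566)
def n21034 : Q := act 9 n14457
theorem D21034 : act 9 n14457 = n21034 := rfl
theorem F90678 : act 8 n21034 = n14496 := d44_1 D21034 (iv D14496) (iv D9979) (iv F44568) D14457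
def n21035 : Q := act 3 n14458
theorem D21035 : act 3 n14458 = n21035 := rfl
theorem F90679 : act 0 n21035 = n14468 := d2_1 D21035 (iv D14468) (iv F63452)
theorem F90683 : act 9 n21035 = n14497 := d29_2 (iv F63455) D21035 (iv D14497)
def n21036 : Q := act 6 n14458
theorem D21036 : act 6 n14458 = n21036 := rfl
theorem F90684 : act 0 n21036 = n14469 := d5_1 D21036 (iv D14469) (iv F63452)
theorem F90686 : act 4 n21036 = n14459 := d31_1 D21036 (iv D14459) D14458
theorem F90687 : act 9 n21036 = n14498 := d41_2 (iv F63455) D21036 (iv D14498)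
def n21037 : Q := act 8 n14458
theorem D21037 : act 8 n14458 = n21037 := rfl
theorem F90688 : act 0 n21037 = n14470 := d7_1 D21037 (iv D14470) (iv F63452)
theorem F90689 : act 2 n21037 = n14464 := d22_1 D21037 (iv D14464) (iv F63453)
theorem F90690 : act 4 n21037 = n14460 := d33_1 D21037 (iv D14460) D14458
def n21038 : Q := act 7 n14459
theorem D21038 : act 7 n14459 = n21038 := rfl
theorem F90692 : act 0 n21038 = n14471 := d6_1 D21038 (iv D14471) (iv F63456)
theorem F90693 : act 2 n21038 = n14465 := d21_1 D21038 (iv D14465) (iv F63457)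
theorem F90696 : act 9 n21038 = n14500 := d43_2 (iv F63459) D21038 (iv D14500)
def n21039 : Q := act 8 n14459
theorem D21039 : act 8 n14459 = n21039 := rfl
theorem F90697 : act 0 n21039 = n14472 := d7_1 D21039 (iv D14472) (iv F63456)
def n21040 : Q := act 3 n14460
theorem D21040 : act 3 n14460 = n21040 := rfl
theorem F90703 : act 8 n21040 = n15871 := d28_2 D14460 D21040 (iv D15871) (iv D10912) (iv F44571)
def n21041 : Q := act 9 n14460
theorem D21041 : act 9 n14460 = n21041 := rfl
theorem F90704 : act 0 n21041 = n14474 := d8_1 D21041 (iv D14474) (iv F63460)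
theorem F90708 : act 8 n21041 = n14503 := d44_1 D21041 (iv D14503) (iv D9982) (iv F44573) D14460
def n21042 : Q := act 4 n14461
theorem D21042 : act 4 n14461 = n21042 := rfl
theorem F90711 : act 8 n21042 = n15873 := d33_2 (iv F63466) D21042 (iv D15873)
def n21044 : Q := act 5 n14463
theorem D21044 : act 5 n14463 = n21044 := rfl
theorem F90715 : act 0 n21044 = n14477 := d4_1 D21044 (iv D14477) (iv F63471)
theorem F90718 : act 9 n21044 = n14506 := d38_2 (iv F63475) D21044 (iv D14506)
def n21045 : Q := act 7 n14463
theorem D21045 : act 7 n14463 = n21045 := rfl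
theorem F90719 : act 0 n21045 = n14478 := d6_1 D21045 (iv D14478) (iv F63471)
theorem F90722 : act 4 n21045 = n14465 := d32_1 D21045 (iv D14465) (iv F63474)
theorem F90724 : act 9 n21045 = n14507 := d43_2 (iv F63475) D21045 (iv D14507)
def n21046 : Q := act 8 n14463
theorem D21046 : act 8 n14463 = n21046 := rfl
theorem F90725 : act 0 n21046 = n14479 := d7_1 D21046 (iv D14479) (iv F63471)
def n21047 : Q := act 3 n14464
theorem D21047 : act 3 n14464 = n21047 := rfl
theorem F90729 : act 0 n21047 = n14480 := d2_1 D21047 (iv D14480) (iv F63476)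
def n21048 : Q := act 9 n14464
theorem D21048 : act 9 n14464 = n21048 := rfl
theorem F90733 : act 0 n21048 = n14481 := d8_1 D21048 (iv D14481) (iv F63476)
theorem F90737 : act 8 n21048 = n14510 := d44_1 D21048 (iv D14510) (iv D9986) (iv F44581) D14464
def n21049 : Q := act 8 n14465
theorem D21049 : act 8 n14465 = n21049 := rfl
theorem F90738 : act 0 n21049 = n14482 := d7_1 D21049 (iv D14482) (iv F63480)
def n21050 : Q := act 9 n14466
theorem D21050 : act 9 n14466 = n21050 := rfl
theorem F90742 : act 0 n21050 = n14483 := d8_1 D21050 (iv D14483) (iv F63485)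
theorem F90745 : act 8 n21050 = n14512 := d44_1 D21050 (iv D14512) (iv D9988) (iv F44585) D14466
def n21051 : Q := act 6 n14468
theorem D21051 : act 6 n14468 = n21051 := rfl
theorem F90746 : act 1 n21051 = n14720 := d13_1 D21051 (iv D14720) (iv F63493)
theorem F90747 : act 2 n21051 = n21051 := d20_1 D21051 (iv D21051) F63494
theorem F90748 : act 3 n21051 = n14469 := d26_1 D21051 (iv D14469) D14468
theorem F90749 : act 4 n21051 = n15882 := d31_1 D21051 (iv D15882) (iv F63495)
theorem F90750 : act 9 n21051 = n14513 := d41_2 (iv F63497) D21051 (iv D14513)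
def n21052 : Q := act 8 n14468
theorem D21052 : act 8 n14468 = n21052 := rfl
theorem F90751 : act 1 n21052 = n14721 := d15_1 D21052 (iv D14721) (iv F63493)
theorem F90752 : act 2 n21052 = n21052 := d22_1 D21052 (iv D21052) F63494
theorem F90753 : act 4 n21052 = n15883 := d33_1 D21052 (iv D15883) (iv F63495)
theorem F90754 : act 7 n21052 = n21052 := d42_1 D21052 (iv D21052) F63496
def n21053 : Q := act 5 n14469
theorem D21053 : act 5 n14469 = n21053 := rfl
theorem F90755 : act 1 n21053 = n14722 := d12_1 D21053 (iv D14722) (iv F63498)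
theorem F90756 : act 2 n21053 = n14477 := d19_1 D21053 (iv D14477) (iv F63499)
theorem F90757 : act 9 n21053 = n14515 := d38_2 (iv F63501) D21053 (iv D14515)
def n21054 : Q := act 7 n14469
theorem D21054 : act 7 n14469 = n21054 := rfl
theorem F90758 : act 1 n21054 = n14723 := d14_1 D21054 (iv D14723) (iv F63498)
theorem F90759 : act 2 n21054 = n14478 := d21_1 D21054 (iv D14478) (iv F63499)
theorem F90760 : act 4 n21054 = n14471 := d32_1 D21054 (iv D14471) (iv F63500)
theorem F90761 : act 6 n21054 = n21054 := d39_1 D21054 (iv D21054) (iv D14469) F44602 D14469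
theorem F90762 : act 9 n21054 = n14516 := d43_2 (iv F63501) D21054 (iv D14516)
def n21055 : Q := act 8 n14469
theorem D21055 : act 8 n14469 = n21055 := rfl
theorem F90763 : act 1 n21055 = n14724 := d15_1 D21055 (iv D14724) (iv F63498)
theorem F90764 : act 2 n21055 = n14479 := d22_1 D21055 (iv D14479) (iv F63499)
theorem F90765 : act 4 n21055 = n14472 := d33_1 D21055 (iv D14472) (iv F63500)
theorem F90766 : act 6 n21055 = n14470 := d40_1 D21055 (iv D14470) D14469
def n21056 : Q := act 3 n14470
theorem D21056 : act 3 n14470 = n21056 := rfl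
theorem F90767 : act 1 n21056 = n14725 := d10_1 D21056 (iv D14725) (iv F63502)
theorem F90768 : act 7 n21056 = n21056 := d27_2 F63505 D21056 (iv D21056)
def n21057 : Q := act 9 n14470
theorem D21057 : act 9 n14470 = n21057 := rfl
theorem F90769 : act 1 n21057 = n14726 := d16_1 D21057 (iv D14726) (iv F63502)
theorem F90770 : act 2 n21057 = n14481 := d23_1 D21057 (iv D14481) (iv F63503)
theorem F90771 : act 4 n21057 = n14474 := d34_1 D21057 (iv D14474) (iv F63504)
theorem F90772 : act 7 n21057 = n21057 := d43_1 D21057 (iv D21057) F63505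
theorem F90773 : act 8 n21057 = n14519 := d44_1 D21057 (iv D14519) (iv D9992) (iv F44603) D14470
def n21058 : Q := act 8 n14471
theorem D21058 : act 8 n14471 = n21058 := rfl
theorem F90774 : act 1 n21058 = n14727 := d15_1 D21058 (iv D14727) (iv F63506)
theorem F90775 : act 2 n21058 = n14482 := d22_1 D21058 (iv D14482) (iv F63507)
theorem F90776 : act 6 n21058 = n21058 := d40_1 D21058 (iv D21058) F63509
theorem F90777 : act 7 n21058 = n14472 := d42_1 D21058 (iv D14472) D14471
def n21059 : Q := act 3 n14472
theorem D21059 : act 3 n14472 = n21059 := rfl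
theorem F90778 : act 1 n21059 = n14728 := d10_1 D21059 (iv D14728) (iv F63511)
def n21060 : Q := act 9 n14472
theorem D21060 : act 9 n14472 = n21060 := rfl
theorem F90781 : act 1 n21060 = n14729 := d16_1 D21060 (iv D14729) (iv F63511)
theorem F90782 : act 2 n21060 = n14483 := d23_1 D21060 (iv D14483) (iv F63512)
theorem F90783 : act 6 n21060 = n14474 := d41_1 D21060 (iv D14474) (iv F63513)
theorem F90784 : act 8 n21060 = n14522 := d44_1 D21060 (iv D14522) (iv D9994) (iv F44607) D14472
def n21061 : Q := act 4 n14473
theorem D21061 : act 4 n14473 = n21061 := rfl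
theorem F90785 : act 1 n21061 = n14730 := d11_1 D21061 (iv D14730) (iv F63514)
theorem F90787 : act 8 n21061 = n15892 := d33_2 (iv F63517) D21061 (iv D15892)
def n21062 : Q := act 9 n14473
theorem D21062 : act 9 n14473 = n21062 := rfl
theorem F90788 : act 1 n21062 = n14731 := d16_1 D21062 (iv D14731) (iv F63514)
theorem F90789 : act 3 n21062 = n14474 := d29_1 D21062 (iv D14474) D14473
def n21063 : Q := act 5 n14475
theorem D21063 : act 5 n14475 = n21063 := rfl
theorem F90794 : act 8 n21063 = n15894 := d37_2 (iv F63525) D21063 (iv D15894)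
def n21066 : Q := act 7 n14477
theorem D21066 : act 7 n14477 = n21066 := rfl
theorem F90802 : act 1 n21066 = n14484 := d14_1 D21066 (iv D14484) (iv F63529)
theorem F90803 : act 3 n21066 = n21066 := d27_1 D21066 (iv D21066) F63530
theorem F90804 : act 5 n21066 = n14478 := d36_1 D21066 (iv D14478) D14477
theorem F90805 : act 9 n21066 = n14528 := d43_2 (iv F63531) D21066 (iv D14528)
def n21067 : Q := act 8 n14477
theorem D21067 : act 8 n14477 = n21067 := rfl
theorem F90806 : act 1 n21067 = n14485 := d15_1 D21067 (iv D14485) (iv F63529)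
theorem F90807 : act 5 n21067 = n14479 := d37_1 D21067 (iv D14479) D14477
def n21068 : Q := act 8 n14478
theorem D21068 : act 8 n14478 = n21068 := rfl
theorem F90808 : act 1 n21068 = n14486 := d15_1 D21068 (iv D14486) (iv F63532)
theorem F90809 : act 4 n21068 = n14482 := d33_1 D21068 (iv D14482) (iv F63534)
theorem F90810 : act 6 n21068 = n21068 := d40_1 D21068 (iv D21068) F63535
theorem F90811 : act 7 n21068 = n14479 := d42_1 D21068 (iv D14479) D14478
def n21069 : Q := act 3 n14479
theorem D21069 : act 3 n14479 = n21069 := rfl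
theorem F90812 : act 1 n21069 = n14487 := d10_1 D21069 (iv D14487) (iv F63537)
theorem F90813 : act 6 n21069 = n14480 := d26_2 (iv F63539) D21069 (iv D14480)
theorem F90814 : act 8 n21069 = n21069 := d28_2 D14479 D21069 (iv D21069) (iv D14479) F44620
def n21070 : Q := act 9 n14479
theorem D21070 : act 9 n14479 = n21070 := rfl
theorem F90815 : act 1 n21070 = n14488 := d16_1 D21070 (iv D14488) (iv F63537)
theorem F90816 : act 4 n21070 = n14483 := d34_1 D21070 (iv D14483) (iv F63538)
theorem F90817 : act 6 n21070 = n14481 := d41_1 D21070 (iv D14481) (iv F63539)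
theorem F90818 : act 8 n21070 = n14532 := d44_1 D21070 (iv D14532) (iv D10001) (iv F44622) D14479
def n21071 : Q := act 2 n14480
theorem D21071 : act 2 n14480 = n21071 := rfl
theorem F90819 : act 7 n21071 = n21071 := d21_2 F63541 D21071 (iv D21071)
theorem F90820 : act 8 n21071 = n21071 := d22_2 F63542 D21071 (iv D21071)
def n21072 : Q := act 9 n14480
theorem D21072 : act 9 n14480 = n21072 := rfl
theorem F90821 : act 1 n21072 = n14490 := d16_1 D21072 (iv D14490) (iv F63540)
theorem F90822 : act 3 n21072 = n14481 := d29_1 D21072 (iv D14481) D14480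
theorem F90823 : act 7 n21072 = n21072 := d43_1 D21072 (iv D21072) F63541
def n21073 : Q := act 9 n14482
theorem D21073 : act 9 n14482 = n21073 := rfl
theorem F90824 : act 1 n21073 = n14491 := d16_1 D21073 (iv D14491) (iv F63547)
theorem F90825 : act 6 n21073 = n21073 := d41_1 D21073 (iv D21073) F63548
theorem F90826 : act 7 n21073 = n14483 := d43_1 D21073 (iv D14483) (iv F63549)
theorem F90827 : act 8 n21073 = n14535 := d44_1 D21073 (iv D14535) (iv D10004) (iv F44629) D14482
def n21074 : Q := act 6 n14484
theorem D21074 : act 6 n14484 = n21074 := rfl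
theorem F90828 : act 0 n21074 = n21074 := d5_1 D21074 (iv D21074) F63553
theorem F90829 : act 2 n21074 = n14743 := d20_1 D21074 (iv D14743) (iv F63554)
theorem F90830 : act 3 n21074 = n21074 := d26_1 D21074 (iv D21074) F63555
theorem F90831 : act 5 n21074 = n21074 := d35_1 D21074 (iv D21074) F63556 F44644 (iv F63556)
theorem F90832 : act 9 n21074 = n14536 := d41_2 (iv F63557) D21074 (iv D14536)
def n21075 : Q := act 8 n14484
theorem D21075 : act 8 n14484 = n21075 := rfl
theorem F90833 : act 0 n21075 = n21075 := d7_1 D21075 (iv D21075) F63553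
theorem F90834 : act 2 n21075 = n14744 := d22_1 D21075 (iv D14744) (iv F63554)
theorem F90835 : act 5 n21075 = n14486 := d37_1 D21075 (iv D14486) (iv F63556)
theorem F90836 : act 7 n21075 = n14485 := d42_1 D21075 (iv D14485) D14484
def n21076 : Q := act 3 n14485
theorem D21076 : act 3 n14485 = n21076 := rfl
theorem F90837 : act 0 n21076 = n21076 := d2_1 D21076 (iv D21076) F63558
theorem F90838 : act 5 n21076 = n14487 := d25_2 (iv F63560) D21076 (iv D14487)
theorem F90839 : act 8 n21076 = n21076 := d28_2 D14485 D21076 (iv D21076) (iv D14485) F44638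
def n21077 : Q := act 9 n14485
theorem D21077 : act 9 n14485 = n21077 := rfl
theorem F90840 : act 0 n21077 = n21077 := d8_1 D21077 (iv D21077) F63558
theorem F90841 : act 2 n21077 = n14746 := d23_1 D21077 (iv D14746) (iv F63559)
theorem F90842 : act 5 n21077 = n14488 := d38_1 D21077 (iv D14488) (iv F63560)
theorem F90843 : act 8 n21077 = n14539 := d44_1 D21077 (iv D14539) (iv D10007) (iv F44639) D14485
def n21078 : Q := act 3 n14486
theorem D21078 : act 3 n14486 = n21078 := rfl
theorem F90844 : act 0 n21078 = n21078 := d2_1 D21078 (iv D21078) F63561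
theorem F90845 : act 6 n21078 = n21078 := d26_2 F63564 D21078 (iv D21078)
theorem F90846 : act 7 n21078 = n14487 := d27_2 (iv F63565) D21078 (iv D14487)
theorem F90847 : act 8 n21078 = n21078 := d28_2 D14486 D21078 (iv D21078) (iv D14486) F44642
def n21079 : Q := act 9 n14486
theorem D21079 : act 9 n14486 = n21079 := rfl
theorem F90848 : act 0 n21079 = n21079 := d8_1 D21079 (iv D21079) F63561
theorem F90849 : act 2 n21079 = n14748 := d23_1 D21079 (iv D14748) (iv F63562)
theorem F90850 : act 4 n21079 = n14491 := d34_1 D21079 (iv D14491) (iv F63563)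
theorem F90851 : act 6 n21079 = n21079 := d41_1 D21079 (iv D21079) F63564
theorem F90852 : act 7 n21079 = n14488 := d43_1 D21079 (iv D14488) (iv F63565)
theorem F90853 : act 8 n21079 = n14541 := d44_1 D21079 (iv D14541) (iv D10008) (iv F44645) D14486
def n21080 : Q := act 2 n14487
theorem D21080 : act 2 n14487 = n21080 := rfl
theorem F90854 : act 0 n21080 = n21080 := d1_1 D21080 (iv D21080) F63566
theorem F90855 : act 3 n21080 = n14749 := d17_2 D14487 D21080 (iv D14749) (iv D10147) (iv F44647)
theorem F90856 : act 6 n21080 = n14489 := d20_2 (iv F63567) D21080 (iv D14489)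
theorem F90857 : act 8 n21080 = n21080 := d22_2 F63568 D21080 (iv D21080)
def n21081 : Q := act 9 n14487
theorem D21081 : act 9 n14487 = n21081 := rfl
theorem F90858 : act 0 n21081 = n21081 := d8_1 D21081 (iv D21081) F63566
theorem F90859 : act 3 n21081 = n14488 := d29_1 D21081 (iv D14488) D14487
theorem F90860 : act 6 n21081 = n14490 := d41_1 D21081 (iv D14490) (iv F63567)
def n21082 : Q := act 1 n14489
theorem D21082 : act 1 n14489 = n21082 := rfl
theorem F90861 : act 3 n21082 = n14751 := d10_2 (iv F63575) D21082 (iv D14751)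
theorem F90862 : act 7 n21082 = n21082 := d14_2 F63576 D21082 (iv D21082)
theorem F90863 : act 8 n21082 = n21082 := d15_2 F63577 D21082 (iv D21082)
def n21083 : Q := act 9 n14489
theorem D21083 : act 9 n14489 = n21083 := rfl
theorem F90864 : act 0 n21083 = n21083 := d8_1 D21083 (iv D21083) F63574
theorem F90865 : act 2 n21083 = n14490 := d23_1 D21083 (iv D14490) D14489
theorem F90866 : act 3 n21083 = n14752 := d29_1 D21083 (iv D14752) (iv F63575)
theorem F90867 : act 7 n21083 = n21083 := d43_1 D21083 (iv D21083) F63576
def n21084 : Q := act 8 n14490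
theorem D21084 : act 8 n14490 = n21084 := rfl
theorem F90868 : act 0 n21084 = n21084 := d7_1 D21084 (iv D21084) F63578
theorem F90869 : act 3 n21084 = n14546 := d28_1 D21084 (iv D14546) F44797 (iv F44657) (iv F63579)
theorem F90870 : act 7 n21084 = n21084 := d42_1 D21084 (iv D21084) F63580
theorem F90871 : act 9 n21084 = n21084 := d44_2 D14490 D21084 (iv D21084) (iv D14490) F44652
def n21085 : Q := act 3 n14492
theorem D21085 : act 3 n14492 = n21085 := rfl
theorem F90872 : act 0 n21085 = n14754 := d2_1 D21085 (iv D14754) (iv F63586)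
theorem F90873 : act 1 n21085 = n14497 := d10_1 D21085 (iv D14497) (iv F63587)
theorem F90874 : act 4 n21085 = n15916 := d24_2 D14492 D21085 (iv D15916) (iv D10944) (iv F44669)
theorem F90875 : act 7 n21085 = n21085 := d27_2 F63589 D21085 (iv D21085)
def n21086 : Q := act 6 n14492
theorem D21086 : act 6 n14492 = n21086 := rfl
theorem F90876 : act 0 n21086 = n14755 := d5_1 D21086 (iv D14755) (iv F63586)
theorem F90877 : act 1 n21086 = n14498 := d13_1 D21086 (iv D14498) (iv F63587)
theorem F90878 : act 2 n21086 = n21086 := d20_1 D21086 (iv D21086) F63588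
theorem F90879 : act 4 n21086 = n14493 := d31_1 D21086 (iv D14493) D14492
def n21087 : Q := act 8 n14492
theorem D21087 : act 8 n14492 = n21087 := rfl
theorem F90880 : act 0 n21087 = n14756 := d7_1 D21087 (iv D14756) (iv F63586)
theorem F90881 : act 1 n21087 = n14499 := d15_1 D21087 (iv D14499) (iv F63587)
theorem F90882 : act 2 n21087 = n21087 := d22_1 D21087 (iv D21087) F63588
theorem F90883 : act 4 n21087 = n14494 := d33_1 D21087 (iv D14494) D14492
theorem F90884 : act 7 n21087 = n21087 := d42_1 D21087 (iv D21087) F63589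
def n21088 : Q := act 7 n14493
theorem D21088 : act 7 n14493 = n21088 := rfl
theorem F90885 : act 0 n21088 = n14757 := d6_1 D21088 (iv D14757) (iv F63590)
theorem F90886 : act 1 n21088 = n14500 := d14_1 D21088 (iv D14500) (iv F63591)
theorem F90887 : act 2 n21088 = n21088 := d21_1 D21088 (iv D21088) F63592
theorem F90888 : act 3 n21088 = n15919 := d27_1 D21088 (iv D15919) (iv F63593)
theorem F90889 : act 6 n21088 = n21088 := d39_1 D21088 (iv D21088) (iv D14493) F44670 D14493
def n21089 : Q := act 8 n14493
theorem D21089 : act 8 n14493 = n21089 := rfl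
theorem F90890 : act 0 n21089 = n14758 := d7_1 D21089 (iv D14758) (iv F63590)
theorem F90891 : act 1 n21089 = n14501 := d15_1 D21089 (iv D14501) (iv F63591)
theorem F90892 : act 2 n21089 = n21089 := d22_1 D21089 (iv D21089) F63592
theorem F90893 : act 6 n21089 = n14494 := d40_1 D21089 (iv D14494) D14493
def n21090 : Q := act 3 n14494
theorem D21090 : act 3 n14494 = n21090 := rfl
theorem F90895 : act 1 n21090 = n14502 := d10_1 D21090 (iv D14502) (iv F63595)
theorem F90898 : act 8 n21090 = n15921 := d28_2 D14494 D21090 (iv D15921) (iv D10946) (iv F44669)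
def n21091 : Q := act 9 n14494
theorem D21091 : act 9 n14494 = n21091 := rfl
theorem F90899 : act 0 n21091 = n14760 := d8_1 D21091 (iv D14760) (iv F63594)
theorem F90900 : act 1 n21091 = n14503 := d16_1 D21091 (iv D14503) (iv F63595)
theorem F90901 : act 2 n21091 = n21091 := d23_1 D21091 (iv D21091) F63596
theorem F90902 : act 5 n21091 = n14496 := d38_1 D21091 (iv D14496) (iv F63597)
theorem F90903 : act 7 n21091 = n21091 := d43_1 D21091 (iv D21091) F63598
def n21093 : Q := act 4 n14495
theorem D21093 : act 4 n14495 = n21093 := rfl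
theorem F90912 : act 8 n21093 = n15924 := d33_2 (iv F63602) D21093 (iv D15924)
def n21094 : Q := act 9 n14495
theorem D21094 : act 9 n14495 = n21094 := rfl
theorem F90914 : act 1 n21094 = n14505 := d16_1 D21094 (iv D14505) (iv F63600)
theorem F90915 : act 3 n21094 = n14496 := d29_1 D21094 (iv D14496) D14495
def n21095 : Q := act 6 n14497
theorem D21095 : act 6 n14497 = n21095 := rfl
theorem F90917 : act 0 n21095 = n14513 := d5_1 D21095 (iv D14513) (iv F63607)
theorem F90918 : act 2 n21095 = n21095 := d20_1 D21095 (iv D21095) F63608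
theorem F90919 : act 3 n21095 = n14498 := d26_1 D21095 (iv D14498) D14497
theorem F90920 : act 4 n21095 = n15926 := d31_1 D21095 (iv D15926) (iv F63609)
def n21096 : Q := act 8 n14497
theorem D21096 : act 8 n14497 = n21096 := rfl
theorem F90921 : act 0 n21096 = n14514 := d7_1 D21096 (iv D14514) (iv F63607)
theorem F90922 : act 2 n21096 = n21096 := d22_1 D21096 (iv D21096) F63608
theorem F90923 : act 4 n21096 = n15927 := d33_1 D21096 (iv D15927) (iv F63609)
theorem F90924 : act 7 n21096 = n21096 := d42_1 D21096 (iv D21096) F63610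
def n21097 : Q := act 5 n14498
theorem D21097 : act 5 n14498 = n21097 := rfl
theorem F90925 : act 0 n21097 = n14515 := d4_1 D21097 (iv D14515) (iv F63611)
theorem F90926 : act 2 n21097 = n14506 := d19_1 D21097 (iv D14506) (iv F63612)
def n21098 : Q := act 7 n14498
theorem D21098 : act 7 n14498 = n21098 := rfl
theorem F90927 : act 0 n21098 = n14516 := d6_1 D21098 (iv D14516) (iv F63611)
theorem F90928 : act 2 n21098 = n14507 := d21_1 D21098 (iv D14507) (iv F63612)
theorem F90929 : act 4 n21098 = n14500 := d32_1 D21098 (iv D14500) (iv F63613)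
theorem F90930 : act 6 n21098 = n21098 := d39_1 D21098 (iv D21098) (iv D14498) F44677 D14498
def n21099 : Q := act 8 n14498
theorem D21099 : act 8 n14498 = n21099 := rfl
theorem F90931 : act 0 n21099 = n14517 := d7_1 D21099 (iv D14517) (iv F63611)
theorem F90932 : act 2 n21099 = n14508 := d22_1 D21099 (iv D14508) (iv F63612)
theorem F90933 : act 4 n21099 = n14501 := d33_1 D21099 (iv D14501) (iv F63613)
theorem F90934 : act 6 n21099 = n14499 := d40_1 D21099 (iv D14499) D14498
def n21100 : Q := act 3 n14499
theorem D21100 : act 3 n14499 = n21100 := rfl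
theorem F90935 : act 0 n21100 = n14518 := d2_1 D21100 (iv D14518) (iv F63614)
theorem F90936 : act 7 n21100 = n21100 := d27_2 F63617 D21100 (iv D21100)
def n21101 : Q := act 9 n14499
theorem D21101 : act 9 n14499 = n21101 := rfl
theorem F90937 : act 0 n21101 = n14519 := d8_1 D21101 (iv D14519) (iv F63614)
theorem F90938 : act 2 n21101 = n14510 := d23_1 D21101 (iv D14510) (iv F63615)
theorem F90939 : act 4 n21101 = n14503 := d34_1 D21101 (iv D14503) (iv F63616)
theorem F90940 : act 7 n21101 = n21101 := d43_1 D21101 (iv D21101) F63617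
def n21102 : Q := act 8 n14500
theorem D21102 : act 8 n14500 = n21102 := rfl
theorem F90941 : act 0 n21102 = n14520 := d7_1 D21102 (iv D14520) (iv F63618)
theorem F90942 : act 2 n21102 = n14511 := d22_1 D21102 (iv D14511) (iv F63619)
theorem F90943 : act 6 n21102 = n21102 := d40_1 D21102 (iv D21102) F63621
theorem F90944 : act 7 n21102 = n14501 := d42_1 D21102 (iv D14501) D14500
def n21103 : Q := act 3 n14501
theorem D21103 : act 3 n14501 = n21103 := rfl
theorem F90945 : act 0 n21103 = n14521 := d2_1 D21103 (iv D14521) (iv F63622)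
theorem F90946 : act 2 n21103 = n21103 := d17_1 D21103 (iv D21103) F63623 F44706 (iv F63623)
theorem F90947 : act 6 n21103 = n14502 := d26_2 (iv F63624) D21103 (iv D14502)
theorem F90948 : act 8 n21103 = n15934 := d28_2 D14501 D21103 (iv D15934) (iv D10953) (iv F44680)
def n21104 : Q := act 9 n14501
theorem D21104 : act 9 n14501 = n21104 := rfl
theorem F90949 : act 0 n21104 = n14522 := d8_1 D21104 (iv D14522) (iv F63622)
theorem F90950 : act 2 n21104 = n14512 := d23_1 D21104 (iv D14512) (iv F63623)
theorem F90951 : act 6 n21104 = n14503 := d41_1 D21104 (iv D14503) (iv F63624)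
def n21105 : Q := act 4 n14502
theorem D21105 : act 4 n14502 = n21105 := rfl
theorem F90952 : act 0 n21105 = n14523 := d3_1 D21105 (iv D14523) (iv F63625)
theorem F90953 : act 2 n21105 = n21105 := d18_1 D21105 (iv D21105) F63626
theorem F90954 : act 7 n21105 = n21105 := d32_2 F63628 D21105 (iv D21105)
theorem F90955 : act 8 n21105 = n15936 := d33_2 (iv F63629) D21105 (iv D15936)
def n21106 : Q := act 9 n14502
theorem D21106 : act 9 n14502 = n21106 := rfl
theorem F90956 : act 0 n21106 = n14524 := d8_1 D21106 (iv D14524) (iv F63625)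
theorem F90957 : act 2 n21106 = n21106 := d23_1 D21106 (iv D21106) F63626
theorem F90958 : act 3 n21106 = n14503 := d29_1 D21106 (iv D14503) D14502
theorem F90959 : act 5 n21106 = n14505 := d38_1 D21106 (iv D14505) (iv F63627)
theorem F90960 : act 7 n21106 = n21106 := d43_1 D21106 (iv D21106) F63628
def n21107 : Q := act 5 n14504
theorem D21107 : act 5 n14504 = n21107 := rfl
theorem F90961 : act 0 n21107 = n14525 := d4_1 D21107 (iv D14525) (iv F63634)
def n21108 : Q := act 9 n14504
theorem D21108 : act 9 n14504 = n21108 := rfl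
theorem F90967 : act 4 n21108 = n14505 := d34_1 D21108 (iv D14505) D14504
def n21109 : Q := act 8 n14505
theorem D21109 : act 8 n14505 = n21109 := rfl
theorem F90972 : act 9 n21109 = n15940 := d44_2 D14505 D21109 (iv D15940) (iv D10957) (iv F44688)
def n21110 : Q := act 7 n14506
theorem D21110 : act 7 n14506 = n21110 := rfl
theorem F90973 : act 0 n21110 = n14528 := d6_1 D21110 (iv D14528) (iv F63642)
theorem F90974 : act 1 n21110 = n21110 := d14_1 D21110 (iv D21110) F63643
theorem F90975 : act 3 n21110 = n21110 := d27_1 D21110 (iv D21110) F63644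
theorem F90976 : act 5 n21110 = n14507 := d36_1 D21110 (iv D14507) D14506
def n21111 : Q := act 8 n14506
theorem D21111 : act 8 n14506 = n21111 := rfl
theorem F90977 : act 0 n21111 = n14529 := d7_1 D21111 (iv D14529) (iv F63642)
theorem F90978 : act 1 n21111 = n21111 := d15_1 D21111 (iv D21111) F63643
theorem F90979 : act 5 n21111 = n14508 := d37_1 D21111 (iv D14508) D14506
def n21112 : Q := act 8 n14507
theorem D21112 : act 8 n14507 = n21112 := rfl
theorem F90980 : act 0 n21112 = n14530 := d7_1 D21112 (iv D14530) (iv F63645)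
theorem F90981 : act 1 n21112 = n21112 := d15_1 D21112 (iv D21112) F63646
theorem F90982 : act 4 n21112 = n14511 := d33_1 D21112 (iv D14511) (iv F63648)
theorem F90983 : act 6 n21112 = n21112 := d40_1 D21112 (iv D21112) F63649
theorem F90984 : act 7 n21112 = n14508 := d42_1 D21112 (iv D14508) D14507
def n21113 : Q := act 3 n14508
theorem D21113 : act 3 n14508 = n21113 := rfl
theorem F90985 : act 0 n21113 = n14531 := d2_1 D21113 (iv D14531) (iv F63650)
theorem F90986 : act 1 n21113 = n21113 := d10_1 D21113 (iv D21113) F63651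
theorem F90987 : act 4 n21113 = n21113 := d24_2 (iv F63652) D21113 (iv D21113) F63652 F44706
theorem F90988 : act 6 n21113 = n14509 := d26_2 (iv F63653) D21113 (iv D14509)
theorem F90989 : act 8 n21113 = n21113 := d28_2 D14508 D21113 (iv D21113) (iv D14508) F44694
def n21114 : Q := act 9 n14508
theorem D21114 : act 9 n14508 = n21114 := rfl
theorem F90990 : act 0 n21114 = n14532 := d8_1 D21114 (iv D14532) (iv F63650)
theorem F90991 : act 1 n21114 = n21114 := d16_1 D21114 (iv D21114) F63651
theorem F90992 : act 4 n21114 = n14512 := d34_1 D21114 (iv D14512) (iv F63652)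
theorem F90993 : act 6 n21114 = n14510 := d41_1 D21114 (iv D14510) (iv F63653)
def n21115 : Q := act 2 n14509
theorem D21115 : act 2 n14509 = n21115 := rfl
theorem F90994 : act 0 n21115 = n14533 := d1_1 D21115 (iv D14533) (iv F63654)
theorem F90995 : act 4 n21115 = n21115 := d18_2 F63656 D21115 (iv D21115)
theorem F90996 : act 7 n21115 = n21115 := d21_2 F63657 D21115 (iv D21115)
theorem F90997 : act 8 n21115 = n21115 := d22_2 F63658 D21115 (iv D21115)
def n21116 : Q := act 9 n14509
theorem D21116 : act 9 n14509 = n21116 := rfl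
theorem F90998 : act 0 n21116 = n14534 := d8_1 D21116 (iv D14534) (iv F63654)
theorem F90999 : act 1 n21116 = n21116 := d16_1 D21116 (iv D21116) F63655
theorem F91000 : act 3 n21116 = n14510 := d29_1 D21116 (iv D14510) D14509
theorem F91001 : act 4 n21116 = n21116 := d34_1 D21116 (iv D21116) F63656
theorem F91002 : act 7 n21116 = n21116 := d43_1 D21116 (iv D21116) F63657
def n21117 : Q := act 9 n14511
theorem D21117 : act 9 n14511 = n21117 := rfl
theorem F91003 : act 0 n21117 = n14535 := d8_1 D21117 (iv D14535) (iv F63663)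
theorem F91004 : act 1 n21117 = n21117 := d16_1 D21117 (iv D21117) F63664
theorem F91005 : act 3 n21117 = n21117 := d29_1 D21117 (iv D21117) F63665
theorem F91006 : act 6 n21117 = n21117 := d41_1 D21117 (iv D21117) F63666
theorem F91007 : act 7 n21117 = n14512 := d43_1 D21117 (iv D14512) (iv F63667)
def n21118 : Q := act 5 n14513
theorem D21118 : act 5 n14513 = n21118 := rfl
theorem F91008 : act 1 n21118 = n14787 := d12_1 D21118 (iv D14787) (iv F63672)
theorem F91009 : act 2 n21118 = n21118 := d19_1 D21118 (iv D21118) F63673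
theorem F91010 : act 3 n21118 = n14515 := d25_1 D21118 (iv D14515) (iv F63674)
def n21119 : Q := act 7 n14513
theorem D21119 : act 7 n14513 = n21119 := rfl
theorem F91011 : act 1 n21119 = n14788 := d14_1 D21119 (iv D14788) (iv F63672)
theorem F91012 : act 2 n21119 = n21119 := d21_1 D21119 (iv D21119) F63673
theorem F91013 : act 3 n21119 = n14516 := d27_1 D21119 (iv D14516) (iv F63674)
theorem F91014 : act 4 n21119 = n15950 := d32_1 D21119 (iv D15950) (iv F63675)
theorem F91015 : act 6 n21119 = n21119 := d39_1 D21119 (iv D21119) (iv D14513) F44716 D14513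
def n21120 : Q := act 8 n14513
theorem D21120 : act 8 n14513 = n21120 := rfl
theorem F91016 : act 1 n21120 = n14789 := d15_1 D21120 (iv D14789) (iv F63672)
theorem F91017 : act 2 n21120 = n21120 := d22_1 D21120 (iv D21120) F63673
theorem F91018 : act 4 n21120 = n15951 := d33_1 D21120 (iv D15951) (iv F63675)
theorem F91019 : act 6 n21120 = n14514 := d40_1 D21120 (iv D14514) D14513
def n21121 : Q := act 3 n14514
theorem D21121 : act 3 n14514 = n21121 := rfl
theorem F91020 : act 1 n21121 = n14790 := d10_1 D21121 (iv D14790) (iv F63676)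
theorem F91021 : act 7 n21121 = n21121 := d27_2 F63679 D21121 (iv D21121)
theorem F91022 : act 8 n21121 = n14518 := d28_2 D14514 D21121 (iv D14518) (iv D9992) D9990
def n21122 : Q := act 9 n14514
theorem D21122 : act 9 n14514 = n21122 := rfl
theorem F91023 : act 1 n21122 = n14791 := d16_1 D21122 (iv D14791) (iv F63676)
theorem F91024 : act 2 n21122 = n21122 := d23_1 D21122 (iv D21122) F63677
theorem F91025 : act 4 n21122 = n15953 := d34_1 D21122 (iv D15953) (iv F63678)
theorem F91026 : act 7 n21122 = n21122 := d43_1 D21122 (iv D21122) F63679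
def n21123 : Q := act 7 n14515
theorem D21123 : act 7 n14515 = n21123 := rfl
theorem F91027 : act 1 n21123 = n14792 := d14_1 D21123 (iv D14792) (iv F63680)
theorem F91028 : act 2 n21123 = n14528 := d21_1 D21123 (iv D14528) (iv F63681)
theorem F91029 : act 5 n21123 = n14516 := d36_1 D21123 (iv D14516) D14515
def n21124 : Q := act 8 n14515
theorem D21124 : act 8 n14515 = n21124 := rfl
theorem F91030 : act 1 n21124 = n14793 := d15_1 D21124 (iv D14793) (iv F63680)
theorem F91031 : act 2 n21124 = n14529 := d22_1 D21124 (iv D14529) (iv F63681)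
theorem F91032 : act 5 n21124 = n14517 := d37_1 D21124 (iv D14517) D14515
def n21125 : Q := act 8 n14516
theorem D21125 : act 8 n14516 = n21125 := rfl
theorem F91033 : act 1 n21125 = n14794 := d15_1 D21125 (iv D14794) (iv F63682)
theorem F91034 : act 2 n21125 = n14530 := d22_1 D21125 (iv D14530) (iv F63683)
theorem F91035 : act 4 n21125 = n14520 := d33_1 D21125 (iv D14520) (iv F63684)
theorem F91036 : act 6 n21125 = n21125 := d40_1 D21125 (iv D21125) F63685
theorem F91037 : act 7 n21125 = n14517 := d42_1 D21125 (iv D14517) D14516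
def n21126 : Q := act 3 n14517
theorem D21126 : act 3 n14517 = n21126 := rfl
theorem F91038 : act 1 n21126 = n14795 := d10_1 D21126 (iv D14795) (iv F63686)
theorem F91039 : act 6 n21126 = n14518 := d26_2 (iv F63689) D21126 (iv D14518)
def n21127 : Q := act 9 n14517
theorem D21127 : act 9 n14517 = n21127 := rfl
theorem F91040 : act 1 n21127 = n14796 := d16_1 D21127 (iv D14796) (iv F63686)
theorem F91041 : act 2 n21127 = n14532 := d23_1 D21127 (iv D14532) (iv F63687)
theorem F91042 : act 4 n21127 = n14522 := d34_1 D21127 (iv D14522) (iv F63688)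
theorem F91043 : act 6 n21127 = n14519 := d41_1 D21127 (iv D14519) (iv F63689)
def n21128 : Q := act 2 n14518
theorem D21128 : act 2 n14518 = n21128 := rfl
theorem F91044 : act 3 n21128 = n14533 := d17_2 D14518 D21128 (iv D14533) (iv D10002) (iv F44721)
theorem F91045 : act 7 n21128 = n21128 := d21_2 F63691 D21128 (iv D21128)
def n21129 : Q := act 4 n14518
theorem D21129 : act 4 n14518 = n21129 := rfl
theorem F91046 : act 1 n21129 = n14798 := d11_1 D21129 (iv D14798) (iv F63690)
theorem F91047 : act 3 n21129 = n14523 := d24_1 D21129 (iv D14523) (iv D9995) (iv F44722) D14518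
theorem F91048 : act 7 n21129 = n21129 := d32_2 F63691 D21129 (iv D21129)
def n21130 : Q := act 9 n14518
theorem D21130 : act 9 n14518 = n21130 := rfl
theorem F91049 : act 1 n21130 = n14799 := d16_1 D21130 (iv D14799) (iv F63690)
theorem F91050 : act 3 n21130 = n14519 := d29_1 D21130 (iv D14519) D14518
theorem F91051 : act 7 n21130 = n21130 := d43_1 D21130 (iv D21130) F63691
def n21131 : Q := act 3 n14520
theorem D21131 : act 3 n14520 = n21131 := rfl
theorem F91052 : act 1 n21131 = n14800 := d10_1 D21131 (iv D14800) (iv F63696)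
theorem F91053 : act 2 n21131 = n21131 := d17_1 D21131 (iv D21131) F63697 F44765 (iv F63697)
theorem F91054 : act 6 n21131 = n21131 := d26_2 F63698 D21131 (iv D21131)
theorem F91055 : act 7 n21131 = n14521 := d27_2 (iv F63699) D21131 (iv D14521)
theorem F91056 : act 8 n21131 = n15962 := d28_2 D14520 D21131 (iv D15962) (iv D10972) (iv F44726)
def n21132 : Q := act 9 n14520
theorem D21132 : act 9 n14520 = n21132 := rfl
theorem F91057 : act 1 n21132 = n14801 := d16_1 D21132 (iv D14801) (iv F63696)
theorem F91058 : act 2 n21132 = n14535 := d23_1 D21132 (iv D14535) (iv F63697)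
theorem F91059 : act 6 n21132 = n21132 := d41_1 D21132 (iv D21132) F63698
theorem F91060 : act 7 n21132 = n14522 := d43_1 D21132 (iv D14522) (iv F63699)
def n21133 : Q := act 4 n14521
theorem D21133 : act 4 n14521 = n21133 := rfl
theorem F91061 : act 1 n21133 = n14802 := d11_1 D21133 (iv D14802) (iv F63700)
theorem F91062 : act 2 n21133 = n21133 := d18_1 D21133 (iv D21133) F63701
theorem F91063 : act 6 n21133 = n14523 := d31_2 (iv F63702) D21133 (iv D14523)
theorem F91064 : act 8 n21133 = n15964 := d33_2 (iv F63703) D21133 (iv D15964)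
def n21134 : Q := act 9 n14521
theorem D21134 : act 9 n14521 = n21134 := rfl
theorem F91065 : act 1 n21134 = n14803 := d16_1 D21134 (iv D14803) (iv F63700)
theorem F91066 : act 2 n21134 = n21134 := d23_1 D21134 (iv D21134) F63701
theorem F91067 : act 3 n21134 = n14522 := d29_1 D21134 (iv D14522) D14521
theorem F91068 : act 6 n21134 = n14524 := d41_1 D21134 (iv D14524) (iv F63702)
def n21135 : Q := act 5 n14523
theorem D21135 : act 5 n14523 = n21135 := rfl
theorem F91069 : act 1 n21135 = n14804 := d12_1 D21135 (iv D14804) (iv F63707)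
theorem F91070 : act 2 n21135 = n21135 := d19_1 D21135 (iv D21135) F63708
theorem F91071 : act 4 n21135 = n14525 := d30_1 D21135 (iv D14525) (iv D9997) (iv F44733) D14523
theorem F91072 : act 7 n21135 = n21135 := d36_2 F63709 D21135 (iv D21135)
theorem F91073 : act 8 n21135 = n15966 := d37_2 (iv F63710) D21135 (iv D15966)
def n21136 : Q := act 9 n14523
theorem D21136 : act 9 n14523 = n21136 := rfl
theorem F91074 : act 1 n21136 = n14805 := d16_1 D21136 (iv D14805) (iv F63707)
theorem F91075 : act 2 n21136 = n21136 := d23_1 D21136 (iv D21136) F63708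
theorem F91076 : act 4 n21136 = n14524 := d34_1 D21136 (iv D14524) D14523
theorem F91077 : act 7 n21136 = n21136 := d43_1 D21136 (iv D21136) F63709
def n21138 : Q := act 6 n14525
theorem D21138 : act 6 n14525 = n21138 := rfl
theorem F91083 : act 1 n21138 = n14807 := d13_1 D21138 (iv D14807) (iv F63716)
theorem F91084 : act 2 n21138 = n21138 := d20_1 D21138 (iv D21138) F63717
theorem F91085 : act 8 n21138 = n15969 := d40_2 (iv F63719) D21138 (iv D15969)
def n21139 : Q := act 9 n14525
theorem D21139 : act 9 n14525 = n21139 := rfl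
theorem F91086 : act 1 n21139 = n14808 := d16_1 D21139 (iv D14808) (iv F63716)
theorem F91087 : act 2 n21139 = n21139 := d23_1 D21139 (iv D21139) F63717
theorem F91088 : act 5 n21139 = n14526 := d38_1 D21139 (iv D14526) D14525
theorem F91089 : act 7 n21139 = n21139 := d43_1 D21139 (iv D21139) F63718
def n21140 : Q := act 8 n14526
theorem D21140 : act 8 n14526 = n21140 := rfl
theorem F91094 : act 9 n21140 = n15971 := d44_2 D14526 D21140 (iv D15971) (iv D10978) (iv F44743)
def n21141 : Q := act 6 n14528
theorem D21141 : act 6 n14528 = n21141 := rfl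
theorem F91095 : act 1 n21141 = n14536 := d13_1 D21141 (iv D14536) (iv F63728)
theorem F91096 : act 3 n21141 = n21141 := d26_1 D21141 (iv D21141) F63729
theorem F91097 : act 5 n21141 = n21141 := d35_1 D21141 (iv D21141) F63730 F44753 (iv F63730)
def n21142 : Q := act 8 n14528
theorem D21142 : act 8 n14528 = n21142 := rfl
theorem F91098 : act 1 n21142 = n14537 := d15_1 D21142 (iv D14537) (iv F63728)
theorem F91099 : act 5 n21142 = n14530 := d37_1 D21142 (iv D14530) (iv F63730)
theorem F91100 : act 7 n21142 = n14529 := d42_1 D21142 (iv D14529) D14528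
def n21143 : Q := act 3 n14529
theorem D21143 : act 3 n14529 = n21143 := rfl
theorem F91101 : act 1 n21143 = n14538 := d10_1 D21143 (iv D14538) (iv F63731)
theorem F91102 : act 5 n21143 = n14531 := d25_2 (iv F63732) D21143 (iv D14531)
theorem F91103 : act 8 n21143 = n21143 := d28_2 D14529 D21143 (iv D21143) (iv D14529) F44749
def n21144 : Q := act 9 n14529
theorem D21144 : act 9 n14529 = n21144 := rfl
theorem F91104 : act 1 n21144 = n14539 := d16_1 D21144 (iv D14539) (iv F63731)
theorem F91105 : act 5 n21144 = n14532 := d38_1 D21144 (iv D14532) (iv F63732)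
def n21145 : Q := act 3 n14530
theorem D21145 : act 3 n14530 = n21145 := rfl
theorem F91106 : act 1 n21145 = n14540 := d10_1 D21145 (iv D14540) (iv F63733)
theorem F91107 : act 4 n21145 = n21145 := d24_2 (iv F63734) D21145 (iv D21145) F63734 F44765
theorem F91108 : act 6 n21145 = n21145 := d26_2 F63735 D21145 (iv D21145)
theorem F91109 : act 7 n21145 = n14531 := d27_2 (iv F63736) D21145 (iv D14531)
theorem F91110 : act 8 n21145 = n21145 := d28_2 D14530 D21145 (iv D21145) (iv D14530) F44751
def n21146 : Q := act 9 n14530
theorem D21146 : act 9 n14530 = n21146 := rfl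
theorem F91111 : act 1 n21146 = n14541 := d16_1 D21146 (iv D14541) (iv F63733)
theorem F91112 : act 4 n21146 = n14535 := d34_1 D21146 (iv D14535) (iv F63734)
theorem F91113 : act 6 n21146 = n21146 := d41_1 D21146 (iv D21146) F63735
theorem F91114 : act 7 n21146 = n14532 := d43_1 D21146 (iv D14532) (iv F63736)
def n21147 : Q := act 2 n14531
theorem D21147 : act 2 n14531 = n21147 := rfl
theorem F91115 : act 4 n21147 = n21147 := d18_2 F63738 D21147 (iv D21147)
theorem F91116 : act 6 n21147 = n14533 := d20_2 (iv F63739) D21147 (iv D14533)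
theorem F91117 : act 8 n21147 = n21147 := d22_2 F63740 D21147 (iv D21147)
def n21148 : Q := act 9 n14531
theorem D21148 : act 9 n14531 = n21148 := rfl
theorem F91118 : act 1 n21148 = n14543 := d16_1 D21148 (iv D14543) (iv F63737)
theorem F91119 : act 3 n21148 = n14532 := d29_1 D21148 (iv D14532) D14531
theorem F91120 : act 4 n21148 = n21148 := d34_1 D21148 (iv D21148) F63738
theorem F91121 : act 6 n21148 = n14534 := d41_1 D21148 (iv D14534) (iv F63739)
def n21149 : Q := act 1 n14533
theorem D21149 : act 1 n14533 = n21149 := rfl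
theorem F91122 : act 2 n21149 = n14544 := d9_2 D14533 D21149 (iv D14544) (iv D10011) (iv F44757)
theorem F91123 : act 4 n21149 = n21149 := d11_2 F63744 D21149 (iv D21149)
theorem F91124 : act 7 n21149 = n21149 := d14_2 F63745 D21149 (iv D21149)
theorem F91125 : act 8 n21149 = n21149 := d15_2 F63746 D21149 (iv D21149)
def n21150 : Q := act 9 n14533
theorem D21150 : act 9 n14533 = n21150 := rfl
theorem F91126 : act 2 n21150 = n14534 := d23_1 D21150 (iv D14534) D14533
theorem F91127 : act 4 n21150 = n21150 := d34_1 D21150 (iv D21150) F63744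
theorem F91128 : act 7 n21150 = n21150 := d43_1 D21150 (iv D21150) F63745
def n21151 : Q := act 8 n14534
theorem D21151 : act 8 n14534 = n21151 := rfl
theorem F91129 : act 1 n21151 = n14546 := d15_1 D21151 (iv D14546) (iv F63747)
theorem F91130 : act 4 n21151 = n21151 := d33_1 D21151 (iv D21151) F63749
theorem F91131 : act 7 n21151 = n21151 := d42_1 D21151 (iv D21151) F63750
theorem F91132 : act 9 n21151 = n21151 := d44_2 D14534 D21151 (iv D21151) (iv D14534) F44760
def n21152 : Q := act 8 n14536
theorem D21152 : act 8 n14536 = n21152 := rfl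
theorem F91133 : act 0 n21152 = n21152 := d7_1 D21152 (iv D21152) F63755
theorem F91134 : act 2 n21152 = n14821 := d22_1 D21152 (iv D14821) (iv F63756)
theorem F91135 : act 5 n21152 = n21152 := d37_1 D21152 (iv D21152) F63758
theorem F91136 : act 6 n21152 = n14537 := d40_1 D21152 (iv D14537) D14536
def n21153 : Q := act 3 n14537
theorem D21153 : act 3 n14537 = n21153 := rfl
theorem F91137 : act 0 n21153 = n21153 := d2_1 D21153 (iv D21153) F63759
theorem F91138 : act 5 n21153 = n14540 := d25_2 (iv F63761) D21153 (iv D14540)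
theorem F91139 : act 7 n21153 = n14538 := d27_2 (iv F63762) D21153 (iv D14538)
theorem F91140 : act 8 n21153 = n21153 := d28_2 D14537 D21153 (iv D21153) (iv D14537) F44773
def n21154 : Q := act 9 n14537
theorem D21154 : act 9 n14537 = n21154 := rfl
theorem F91141 : act 0 n21154 = n21154 := d8_1 D21154 (iv D21154) F63759
theorem F91142 : act 2 n21154 = n14823 := d23_1 D21154 (iv D14823) (iv F63760)
theorem F91143 : act 5 n21154 = n14541 := d38_1 D21154 (iv D14541) (iv F63761)
theorem F91144 : act 7 n21154 = n14539 := d43_1 D21154 (iv D14539) (iv F63762)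
def n21155 : Q := act 2 n14538
theorem D21155 : act 2 n14538 = n21155 := rfl
theorem F91145 : act 0 n21155 = n21155 := d1_1 D21155 (iv D21155) F63763
theorem F91146 : act 3 n21155 = n14824 := d17_2 D14538 D21155 (iv D14824) (iv D10198) (iv F44776)
theorem F91147 : act 5 n21155 = n14542 := d19_2 (iv F63764) D21155 (iv D14542)
theorem F91148 : act 8 n21155 = n21155 := d22_2 F63765 D21155 (iv D21155)
def n21156 : Q := act 4 n14538
theorem D21156 : act 4 n14538 = n21156 := rfl
theorem F91149 : act 0 n21156 = n21156 := d3_1 D21156 (iv D21156) F63763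
theorem F91150 : act 5 n21156 = n21156 := d30_2 (iv F63764) D21156 (iv D21156) F63764 F44784
theorem F91151 : act 8 n21156 = n21156 := d33_2 F63765 D21156 (iv D21156)
def n21157 : Q := act 9 n14538
theorem D21157 : act 9 n14538 = n21157 := rfl
theorem F91152 : act 0 n21157 = n21157 := d8_1 D21157 (iv D21157) F63763
theorem F91153 : act 3 n21157 = n14539 := d29_1 D21157 (iv D14539) D14538
theorem F91154 : act 5 n21157 = n14543 := d38_1 D21157 (iv D14543) (iv F63764)
def n21158 : Q := act 2 n14540
theorem D21158 : act 2 n14540 = n21158 := rfl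
theorem F91155 : act 0 n21158 = n21158 := d1_1 D21158 (iv D21158) F63769
theorem F91156 : act 3 n21158 = n14827 := d17_2 D14540 D21158 (iv D14827) (iv D10200) (iv F44779)
theorem F91157 : act 4 n21158 = n21158 := d18_2 F63770 D21158 (iv D21158)
theorem F91158 : act 6 n21158 = n21158 := d20_2 F63771 D21158 (iv D21158)
theorem F91159 : act 7 n21158 = n14542 := d21_2 (iv F63772) D21158 (iv D14542)
theorem F91160 : act 8 n21158 = n21158 := d22_2 F63773 D21158 (iv D21158)
def n21159 : Q := act 9 n14540
theorem D21159 : act 9 n14540 = n21159 := rfl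
theorem F91161 : act 0 n21159 = n21159 := d8_1 D21159 (iv D21159) F63769
theorem F91162 : act 3 n21159 = n14541 := d29_1 D21159 (iv D14541) D14540
theorem F91163 : act 4 n21159 = n21159 := d34_1 D21159 (iv D21159) F63770
theorem F91164 : act 6 n21159 = n21159 := d41_1 D21159 (iv D21159) F63771
theorem F91165 : act 7 n21159 = n14543 := d43_1 D21159 (iv D14543) (iv F63772)
def n21160 : Q := act 1 n14542
theorem D21160 : act 1 n14542 = n21160 := rfl
theorem F91166 : act 3 n21160 = n14829 := d10_2 (iv F63780) D21160 (iv D14829)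
theorem F91167 : act 4 n21160 = n21160 := d11_2 F63781 D21160 (iv D21160)
theorem F91168 : act 6 n21160 = n14544 := d13_2 (iv F63782) D21160 (iv D14544)
theorem F91169 : act 8 n21160 = n21160 := d15_2 F63783 D21160 (iv D21160)
def n21161 : Q := act 9 n14542
theorem D21161 : act 9 n14542 = n21161 := rfl
theorem F91170 : act 0 n21161 = n21161 := d8_1 D21161 (iv D21161) F63779
theorem F91171 : act 2 n21161 = n14543 := d23_1 D21161 (iv D14543) D14542
theorem F91172 : act 3 n21161 = n14830 := d29_1 D21161 (iv D14830) (iv F63780)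
theorem F91173 : act 4 n21161 = n21161 := d34_1 D21161 (iv D21161) F63781
theorem F91174 : act 6 n21161 = n14545 := d41_1 D21161 (iv D14545) (iv F63782)
def n21162 : Q := act 8 n14543
theorem D21162 : act 8 n14543 = n21162 := rfl
theorem F91175 : act 0 n21162 = n21162 := d7_1 D21162 (iv D21162) F63784
theorem F91176 : act 4 n21162 = n21162 := d33_1 D21162 (iv D21162) F63786
theorem F91177 : act 6 n21162 = n14546 := d40_1 D21162 (iv D14546) (iv F63787)
theorem F91178 : act 9 n21162 = n21162 := d44_2 D14543 D21162 (iv D21162) (iv D14543) F44786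
def n21163 : Q := act 0 n14544
theorem D21163 : act 0 n14544 = n21163 := rfl
theorem F91179 : act 1 n21163 = n21163 := d0_2 D14544 D21163 (iv D21163) (iv D14544) F44791
theorem F91180 : act 3 n21163 = n14832 := d2_2 (iv F63788) D21163 (iv D14832)
theorem F91181 : act 4 n21163 = n21163 := d3_2 F63789 D21163 (iv D21163)
theorem F91182 : act 7 n21163 = n21163 := d6_2 F63790 D21163 (iv D21163)
theorem F91183 : act 8 n21163 = n21163 := d7_2 F63791 D21163 (iv D21163)
def n21164 : Q := act 9 n14544
theorem D21164 : act 9 n14544 = n21164 := rfl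
theorem F91184 : act 1 n21164 = n14545 := d16_1 D21164 (iv D14545) D14544
theorem F91185 : act 3 n21164 = n14833 := d29_1 D21164 (iv D14833) (iv F63788)
theorem F91186 : act 4 n21164 = n21164 := d34_1 D21164 (iv D21164) F63789
theorem F91187 : act 7 n21164 = n21164 := d43_1 D21164 (iv D21164) F63790
def n21165 : Q := act 8 n14545
theorem D21165 : act 8 n14545 = n21165 := rfl
theorem F91188 : act 0 n21165 = n21165 := d7_1 D21165 (iv D21165) F63792
theorem F91189 : act 2 n21165 = n14546 := d22_1 D21165 (iv D14546) (iv F63793)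
theorem F91190 : act 4 n21165 = n21165 := d33_1 D21165 (iv D21165) F63795
theorem F91191 : act 7 n21165 = n21165 := d42_1 D21165 (iv D21165) F63796
theorem F91192 : act 9 n21165 = n21165 := d44_2 D14545 D21165 (iv D21165) (iv D14545) F44795
def n21166 : Q := act 5 n14547
theorem D21166 : act 5 n14547 = n21166 := rfl
theorem F91193 : act 1 n21166 = n14548 := d12_1 D21166 (iv D14548) D14547
theorem F91194 : act 2 n21166 = n21166 := d19_1 D21166 (iv D21166) F63801
theorem F91195 : act 3 n21166 = n15989 := d25_1 D21166 (iv D15989) (iv F63802)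
theorem F91196 : act 7 n21166 = n14608 := d36_2 (iv F63804) D21166 (iv D14608)
theorem F91197 : act 9 n21166 = n14572 := d38_2 (iv F63805) D21166 (iv D14572)
def n21167 : Q := act 8 n14547
theorem D21167 : act 8 n14547 = n21167 := rfl
def n21168 : Q := act 4 n14548
theorem D21168 : act 4 n14548 = n21168 := rfl
theorem F91202 : act 0 n21168 = n14555 := d3_1 D21168 (iv D14555) (iv F63806)
theorem F91203 : act 2 n21168 = n14550 := d18_1 D21168 (iv D14550) (iv F63807)
theorem F91204 : act 7 n21168 = n14610 := d32_2 (iv F63809) D21168 (iv D14610)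
theorem F91205 : act 9 n21168 = n14574 := d34_2 (iv F63810) D21168 (iv D14574)
def n21169 : Q := act 6 n14548
theorem D21169 : act 6 n14548 = n21169 := rfl
theorem F91206 : act 0 n21169 = n14556 := d5_1 D21169 (iv D14556) (iv F63806)
theorem F91207 : act 2 n21169 = n14551 := d20_1 D21169 (iv D14551) (iv F63807)
theorem F91208 : act 3 n21169 = n15992 := d26_1 D21169 (iv D15992) (iv F63808)
theorem F91209 : act 5 n21169 = n21169 := d35_1 D21169 (iv D21169) (iv D14548) F44807 D14548
theorem F91210 : act 9 n21169 = n14575 := d41_2 (iv F63810) D21169 (iv D14575)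
def n21170 : Q := act 8 n14548
theorem D21170 : act 8 n14548 = n21170 := rfl
theorem F91211 : act 0 n21170 = n14557 := d7_1 D21170 (iv D14557) (iv F63806)
theorem F91212 : act 2 n21170 = n14552 := d22_1 D21170 (iv D14552) (iv F63807)
theorem F91213 : act 5 n21170 = n14549 := d37_1 D21170 (iv D14549) D14548
theorem F91214 : act 7 n21170 = n14612 := d42_1 D21170 (iv D14612) (iv F63809)
def n21171 : Q := act 3 n14549
theorem D21171 : act 3 n14549 = n21171 := rfl
theorem F91215 : act 0 n21171 = n14558 := d2_1 D21171 (iv D14558) (iv F63811)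
theorem F91219 : act 8 n21171 = n15994 := d28_2 D14549 D21171 (iv D15994) (iv D10998) (iv F44806)
def n21172 : Q := act 9 n14549
theorem D21172 : act 9 n14549 = n21172 := rfl
theorem F91220 : act 0 n21172 = n14559 := d8_1 D21172 (iv D14559) (iv F63811)
theorem F91221 : act 2 n21172 = n14553 := d23_1 D21172 (iv D14553) (iv F63812)
theorem F91222 : act 6 n21172 = n21172 := d41_1 D21172 (iv D21172) F63813
theorem F91223 : act 7 n21172 = n14614 := d43_1 D21172 (iv D14614) (iv F63814)
theorem F91224 : act 8 n21172 = n14578 := d44_1 D21172 (iv D14578) (iv D10032) (iv F44809) D14549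
def n21173 : Q := act 6 n14550
theorem D21173 : act 6 n14550 = n21173 := rfl
theorem F91225 : act 0 n21173 = n14560 := d5_1 D21173 (iv D14560) (iv F63815)
theorem F91226 : act 1 n21173 = n21173 := d13_1 D21173 (iv D21173) F63816
theorem F91227 : act 3 n21173 = n21173 := d26_1 D21173 (iv D21173) F63817
theorem F91228 : act 4 n21173 = n14551 := d31_1 D21173 (iv D14551) D14550
theorem F91229 : act 9 n21173 = n14579 := d41_2 (iv F63819) D21173 (iv D14579)
def n21174 : Q := act 8 n14550
theorem D21174 : act 8 n14550 = n21174 := rfl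
theorem F91230 : act 0 n21174 = n14561 := d7_1 D21174 (iv D14561) (iv F63815)
theorem F91231 : act 1 n21174 = n21174 := d15_1 D21174 (iv D21174) F63816
theorem F91232 : act 4 n21174 = n14552 := d33_1 D21174 (iv D14552) D14550
theorem F91233 : act 7 n21174 = n14616 := d42_1 D21174 (iv D14616) (iv F63818)
def n21175 : Q := act 7 n14551
theorem D21175 : act 7 n14551 = n21175 := rfl
theorem F91234 : act 0 n21175 = n14562 := d6_1 D21175 (iv D14562) (iv F63820)
theorem F91235 : act 1 n21175 = n21175 := d14_1 D21175 (iv D21175) F63821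
theorem F91236 : act 3 n21175 = n14554 := d27_1 D21175 (iv D14554) (iv F63822)
theorem F91237 : act 5 n21175 = n21175 := d36_1 D21175 (iv D21175) F63823
theorem F91238 : act 6 n21175 = n14617 := d39_1 D21175 (iv D14617) (iv D10059) (iv F44813) D14551
theorem F91239 : act 9 n21175 = n14581 := d43_2 (iv F63824) D21175 (iv D14581)
def n21176 : Q := act 8 n14551
theorem D21176 : act 8 n14551 = n21176 := rfl
theorem F91240 : act 0 n21176 = n14563 := d7_1 D21176 (iv D14563) (iv F63820)
theorem F91241 : act 1 n21176 = n21176 := d15_1 D21176 (iv D21176) F63821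
theorem F91242 : act 3 n21176 = n21176 := d28_1 D21176 (iv D21176) F63822 F44825 (iv F63822)
theorem F91243 : act 5 n21176 = n21176 := d37_1 D21176 (iv D21176) F63823
theorem F91244 : act 6 n21176 = n14552 := d40_1 D21176 (iv D14552) D14551
def n21177 : Q := act 9 n14552
theorem D21177 : act 9 n14552 = n21177 := rfl
theorem F91245 : act 0 n21177 = n14564 := d8_1 D21177 (iv D14564) (iv F63825)
theorem F91246 : act 1 n21177 = n21177 := d16_1 D21177 (iv D21177) F63826
theorem F91247 : act 3 n21177 = n21177 := d29_1 D21177 (iv D21177) F63827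
theorem F91248 : act 5 n21177 = n14553 := d38_1 D21177 (iv D14553) (iv F63828)
theorem F91249 : act 7 n21177 = n14619 := d43_1 D21177 (iv D14619) (iv F63829)
theorem F91250 : act 8 n21177 = n14583 := d44_1 D21177 (iv D14583) (iv D10035) (iv F44814) D14552
def n21178 : Q := act 3 n14555
theorem D21178 : act 3 n14555 = n21178 := rfl
theorem F91251 : act 2 n21178 = n21178 := d17_1 D21178 (iv D21178) F63844 F44835 (iv F63844)
theorem F91252 : act 4 n21178 = n16001 := d24_2 D14555 D21178 (iv D16001) (iv D11004) (iv F44828)
theorem F91253 : act 7 n21178 = n14620 := d27_2 (iv F63845) D21178 (iv D14620)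
theorem F91254 : act 9 n21178 = n14584 := d29_2 (iv F63846) D21178 (iv D14584)
def n21179 : Q := act 6 n14555
theorem D21179 : act 6 n14555 = n21179 := rfl
theorem F91255 : act 2 n21179 = n14560 := d20_1 D21179 (iv D14560) (iv F63844)
theorem F91256 : act 4 n21179 = n14556 := d31_1 D21179 (iv D14556) D14555
theorem F91257 : act 9 n21179 = n14585 := d41_2 (iv F63846) D21179 (iv D14585)
def n21180 : Q := act 8 n14555
theorem D21180 : act 8 n14555 = n21180 := rfl
theorem F91258 : act 2 n21180 = n14561 := d22_1 D21180 (iv D14561) (iv F63844)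
theorem F91259 : act 4 n21180 = n14557 := d33_1 D21180 (iv D14557) D14555
theorem F91260 : act 7 n21180 = n14622 := d42_1 D21180 (iv D14622) (iv F63845)
def n21181 : Q := act 7 n14556
theorem D21181 : act 7 n14556 = n21181 := rfl
theorem F91261 : act 2 n21181 = n14562 := d21_1 D21181 (iv D14562) (iv F63847)
theorem F91263 : act 5 n21181 = n21181 := d36_1 D21181 (iv D21181) F63849
theorem F91264 : act 6 n21181 = n14623 := d39_1 D21181 (iv D14623) (iv D10064) (iv F44829) D14556
theorem F91265 : act 9 n21181 = n14587 := d43_2 (iv F63850) D21181 (iv D14587)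
def n21182 : Q := act 8 n14556
theorem D21182 : act 8 n14556 = n21182 := rfl
theorem F91266 : act 2 n21182 = n14563 := d22_1 D21182 (iv D14563) (iv F63847)
theorem F91267 : act 5 n21182 = n21182 := d37_1 D21182 (iv D21182) F63849
theorem F91268 : act 6 n21182 = n14557 := d40_1 D21182 (iv D14557) D14556
def n21183 : Q := act 3 n14557
theorem D21183 : act 3 n14557 = n21183 := rfl
theorem F91269 : act 2 n21183 = n21183 := d17_1 D21183 (iv D21183) F63851 F44843 (iv F63851)
theorem F91270 : act 5 n21183 = n14558 := d25_2 (iv F63852) D21183 (iv D14558)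
theorem F91271 : act 7 n21183 = n14625 := d27_2 (iv F63853) D21183 (iv D14625)
theorem F91272 : act 8 n21183 = n16006 := d28_2 D14557 D21183 (iv D16006) (iv D11006) (iv F44828)
def n21184 : Q := act 9 n14557
theorem D21184 : act 9 n14557 = n21184 := rfl
theorem F91273 : act 2 n21184 = n14564 := d23_1 D21184 (iv D14564) (iv F63851)
theorem F91274 : act 5 n21184 = n14559 := d38_1 D21184 (iv D14559) (iv F63852)
theorem F91275 : act 7 n21184 = n14626 := d43_1 D21184 (iv D14626) (iv F63853)
theorem F91276 : act 8 n21184 = n14590 := d44_1 D21184 (iv D14590) (iv D10040) (iv F44830) D14557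
def n21185 : Q := act 4 n14558
theorem D21185 : act 4 n14558 = n21185 := rfl
theorem F91280 : act 8 n21185 = n16008 := d33_2 (iv F63857) D21185 (iv D16008)
def n21186 : Q := act 9 n14558
theorem D21186 : act 9 n14558 = n21186 := rfl
theorem F91281 : act 2 n21186 = n21186 := d23_1 D21186 (iv D21186) F63854
theorem F91282 : act 3 n21186 = n14559 := d29_1 D21186 (iv D14559) D14558
theorem F91283 : act 6 n21186 = n21186 := d41_1 D21186 (iv D21186) F63855
theorem F91284 : act 7 n21186 = n14628 := d43_1 D21186 (iv D14628) (iv F63856)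
def n21187 : Q := act 5 n14560
theorem D21187 : act 5 n14560 = n21187 := rfl
theorem F91285 : act 1 n21187 = n14565 := d12_1 D21187 (iv D14565) (iv F63862)
theorem F91286 : act 3 n21187 = n21187 := d25_1 D21187 (iv D21187) F63863
theorem F91287 : act 4 n21187 = n21187 := d30_1 D21187 (iv D21187) F63864 F44840 (iv F63864)
theorem F91288 : act 9 n21187 = n14593 := d38_2 (iv F63865) D21187 (iv D14593)
def n21188 : Q := act 7 n14560
theorem D21188 : act 7 n14560 = n21188 := rfl
theorem F91289 : act 1 n21188 = n14566 := d14_1 D21188 (iv D14566) (iv F63862)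
theorem F91290 : act 3 n21188 = n21188 := d27_1 D21188 (iv D21188) F63863
theorem F91291 : act 4 n21188 = n14562 := d32_1 D21188 (iv D14562) (iv F63864)
theorem F91292 : act 6 n21188 = n14630 := d39_1 D21188 (iv D14630) (iv D10068) (iv F44836) D14560
theorem F91293 : act 9 n21188 = n14594 := d43_2 (iv F63865) D21188 (iv D14594)
def n21189 : Q := act 8 n14560
theorem D21189 : act 8 n14560 = n21189 := rfl
theorem F91294 : act 1 n21189 = n14567 := d15_1 D21189 (iv D14567) (iv F63862)
theorem F91295 : act 4 n21189 = n14563 := d33_1 D21189 (iv D14563) (iv F63864)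
theorem F91296 : act 6 n21189 = n14561 := d40_1 D21189 (iv D14561) D14560
def n21190 : Q := act 3 n14561
theorem D21190 : act 3 n14561 = n21190 := rfl
theorem F91297 : act 1 n21190 = n14568 := d10_1 D21190 (iv D14568) (iv F63866)
theorem F91298 : act 4 n21190 = n21190 := d24_2 (iv F63867) D21190 (iv D21190) F63867 F44843
theorem F91299 : act 7 n21190 = n14632 := d27_2 (iv F63868) D21190 (iv D14632)
theorem F91300 : act 8 n21190 = n21190 := d28_2 D14561 D21190 (iv D21190) (iv D14561) F44835
def n21191 : Q := act 9 n14561
theorem D21191 : act 9 n14561 = n21191 := rfl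
theorem F91301 : act 1 n21191 = n14569 := d16_1 D21191 (iv D14569) (iv F63866)
theorem F91302 : act 4 n21191 = n14564 := d34_1 D21191 (iv D14564) (iv F63867)
theorem F91303 : act 7 n21191 = n14633 := d43_1 D21191 (iv D14633) (iv F63868)
theorem F91304 : act 8 n21191 = n14597 := d44_1 D21191 (iv D14597) (iv D10044) (iv F44837) D14561
def n21192 : Q := act 8 n14562
theorem D21192 : act 8 n14562 = n21192 := rfl
theorem F91305 : act 1 n21192 = n14570 := d15_1 D21192 (iv D14570) (iv F63869)
theorem F91306 : act 3 n21192 = n21192 := d28_1 D21192 (iv D21192) F63870 F44856 (iv F63870)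
theorem F91307 : act 5 n21192 = n21192 := d37_1 D21192 (iv D21192) F63871
theorem F91308 : act 6 n21192 = n14634 := d40_1 D21192 (iv D14634) (iv F63872)
theorem F91309 : act 7 n21192 = n14563 := d42_1 D21192 (iv D14563) D14562
def n21193 : Q := act 9 n14563
theorem D21193 : act 9 n14563 = n21193 := rfl
theorem F91310 : act 1 n21193 = n14571 := d16_1 D21193 (iv D14571) (iv F63874)
theorem F91311 : act 3 n21193 = n21193 := d29_1 D21193 (iv D21193) F63875
theorem F91312 : act 5 n21193 = n21193 := d38_1 D21193 (iv D21193) F63876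
theorem F91313 : act 6 n21193 = n14564 := d41_1 D21193 (iv D14564) (iv F63877)
theorem F91314 : act 8 n21193 = n14599 := d44_1 D21193 (iv D14599) (iv D10046) (iv F44841) D14563
def n21194 : Q := act 7 n14565
theorem D21194 : act 7 n14565 = n21194 := rfl
theorem F91318 : act 5 n21194 = n14566 := d36_1 D21194 (iv D14566) D14565
theorem F91319 : act 9 n21194 = n14600 := d43_2 (iv F63886) D21194 (iv D14600)
def n21195 : Q := act 8 n14565
theorem D21195 : act 8 n14565 = n21195 := rfl
theorem F91322 : act 5 n21195 = n14567 := d37_1 D21195 (iv D14567) D14565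
def n21196 : Q := act 8 n14566
theorem D21196 : act 8 n14566 = n21196 := rfl
theorem F91324 : act 4 n21196 = n14570 := d33_1 D21196 (iv D14570) (iv F63889)
theorem F91325 : act 6 n21196 = n14638 := d40_1 D21196 (iv D14638) (iv F63890)
theorem F91326 : act 7 n21196 = n14567 := d42_1 D21196 (iv D14567) D14566
def n21197 : Q := act 3 n14567
theorem D21197 : act 3 n14567 = n21197 := rfl
theorem F91329 : act 6 n21197 = n14568 := d26_2 (iv F63894) D21197 (iv D14568)
def n21198 : Q := act 9 n14567
theorem D21198 : act 9 n14567 = n21198 := rfl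
theorem F91331 : act 0 n21198 = n21198 := d8_1 D21198 (iv D21198) F63892
theorem F91332 : act 4 n21198 = n14571 := d34_1 D21198 (iv D14571) (iv F63893)
theorem F91333 : act 6 n21198 = n14569 := d41_1 D21198 (iv D14569) (iv F63894)
theorem F91334 : act 8 n21198 = n14604 := d44_1 D21198 (iv D14604) (iv D10050) (iv F44861) D14567
def n21199 : Q := act 2 n14568
theorem D21199 : act 2 n14568 = n21199 := rfl
theorem F91337 : act 7 n21199 = n14641 := d21_2 (iv F63897) D21199 (iv D14641)
def n21200 : Q := act 9 n14568
theorem D21200 : act 9 n14568 = n21200 := rfl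
theorem F91339 : act 0 n21200 = n21200 := d8_1 D21200 (iv D21200) F63895
theorem F91340 : act 3 n21200 = n14569 := d29_1 D21200 (iv D14569) D14568
theorem F91341 : act 4 n21200 = n21200 := d34_1 D21200 (iv D21200) F63896
theorem F91342 : act 7 n21200 = n14642 := d43_1 D21200 (iv D14642) (iv F63897)
def n21201 : Q := act 9 n14570
theorem D21201 : act 9 n14570 = n21201 := rfl
theorem F91343 : act 0 n21201 = n21201 := d8_1 D21201 (iv D21201) F63903
theorem F91344 : act 3 n21201 = n21201 := d29_1 D21201 (iv D21201) F63904
theorem F91345 : act 5 n21201 = n21201 := d38_1 D21201 (iv D21201) F63905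
theorem F91346 : act 6 n21201 = n14643 := d41_1 D21201 (iv D14643) (iv F63906)
theorem F91347 : act 7 n21201 = n14571 := d43_1 D21201 (iv D14571) (iv F63907)
theorem F91348 : act 8 n21201 = n14607 := d44_1 D21201 (iv D14607) (iv D10053) (iv F44869) D14570
def n21202 : Q := act 4 n14572
theorem D21202 : act 4 n14572 = n21202 := rfl
theorem F91349 : act 1 n21202 = n14574 := d11_1 D21202 (iv D14574) (iv F63913)
theorem F91350 : act 2 n21202 = n21202 := d18_1 D21202 (iv D21202) F63914
theorem F91351 : act 7 n21202 = n14644 := d32_2 (iv F63916) D21202 (iv D14644)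
def n21203 : Q := act 6 n14572
theorem D21203 : act 6 n14572 = n21203 := rfl
theorem F91352 : act 1 n21203 = n14575 := d13_1 D21203 (iv D14575) (iv F63913)
theorem F91353 : act 2 n21203 = n21203 := d20_1 D21203 (iv D21203) F63914
theorem F91354 : act 3 n21203 = n16026 := d26_1 D21203 (iv D16026) (iv F63915)
theorem F91355 : act 5 n21203 = n21203 := d35_1 D21203 (iv D21203) (iv D14572) F44881 D14572
def n21204 : Q := act 8 n14572
theorem D21204 : act 8 n14572 = n21204 := rfl
def n21206 : Q := act 9 n14573
theorem D21206 : act 9 n14573 = n21206 := rfl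
def n21207 : Q := act 3 n14574
theorem D21207 : act 3 n14574 = n21207 := rfl
theorem F91368 : act 0 n21207 = n14584 := d2_1 D21207 (iv D14584) (iv F63921)
theorem F91369 : act 2 n21207 = n21207 := d17_1 D21207 (iv D21207) F63922 F44893 (iv F63922)
theorem F91370 : act 4 n21207 = n16030 := d24_2 D14574 D21207 (iv D16030) (iv D11023) (iv F44885)
theorem F91371 : act 7 n21207 = n14649 := d27_2 (iv F63923) D21207 (iv D14649)
def n21208 : Q := act 6 n14574
theorem D21208 : act 6 n14574 = n21208 := rfl
theorem F91372 : act 0 n21208 = n14585 := d5_1 D21208 (iv D14585) (iv F63921)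
theorem F91373 : act 2 n21208 = n14579 := d20_1 D21208 (iv D14579) (iv F63922)
theorem F91374 : act 4 n21208 = n14575 := d31_1 D21208 (iv D14575) D14574
def n21209 : Q := act 8 n14574
theorem D21209 : act 8 n14574 = n21209 := rfl
theorem F91375 : act 0 n21209 = n14586 := d7_1 D21209 (iv D14586) (iv F63921)
theorem F91376 : act 2 n21209 = n14580 := d22_1 D21209 (iv D14580) (iv F63922)
theorem F91377 : act 4 n21209 = n14576 := d33_1 D21209 (iv D14576) D14574
theorem F91378 : act 7 n21209 = n14651 := d42_1 D21209 (iv D14651) (iv F63923)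
def n21210 : Q := act 7 n14575
theorem D21210 : act 7 n14575 = n21210 := rfl
theorem F91379 : act 0 n21210 = n14587 := d6_1 D21210 (iv D14587) (iv F63924)
theorem F91380 : act 2 n21210 = n14581 := d21_1 D21210 (iv D14581) (iv F63925)
theorem F91381 : act 3 n21210 = n16033 := d27_1 D21210 (iv D16033) (iv F63926)
theorem F91382 : act 5 n21210 = n21210 := d36_1 D21210 (iv D21210) F63927
theorem F91383 : act 6 n21210 = n14652 := d39_1 D21210 (iv D14652) (iv D10083) (iv F44886) D14575
def n21211 : Q := act 8 n14575
theorem D21211 : act 8 n14575 = n21211 := rfl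
theorem F91384 : act 0 n21211 = n14588 := d7_1 D21211 (iv D14588) (iv F63924)
theorem F91385 : act 2 n21211 = n14582 := d22_1 D21211 (iv D14582) (iv F63925)
theorem F91386 : act 5 n21211 = n21211 := d37_1 D21211 (iv D21211) F63927
theorem F91387 : act 6 n21211 = n14576 := d40_1 D21211 (iv D14576) D14575
def n21212 : Q := act 3 n14576
theorem D21212 : act 3 n14576 = n21212 := rfl
theorem F91388 : act 0 n21212 = n14589 := d2_1 D21212 (iv D14589) (iv F63928)
theorem F91392 : act 8 n21212 = n16035 := d28_2 D14576 D21212 (iv D16035) (iv D11025) (iv F44885)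
def n21213 : Q := act 9 n14576
theorem D21213 : act 9 n14576 = n21213 := rfl
theorem F91393 : act 0 n21213 = n14590 := d8_1 D21213 (iv D14590) (iv F63928)
theorem F91394 : act 2 n21213 = n14583 := d23_1 D21213 (iv D14583) (iv F63929)
theorem F91395 : act 5 n21213 = n14578 := d38_1 D21213 (iv D14578) (iv F63930)
theorem F91396 : act 7 n21213 = n14655 := d43_1 D21213 (iv D14655) (iv F63931)
def n21214 : Q := act 4 n14577
theorem D21214 : act 4 n14577 = n21214 := rfl
theorem F91397 : act 0 n21214 = n14591 := d3_1 D21214 (iv D14591) (iv F63932)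
theorem F91401 : act 8 n21214 = n16037 := d33_2 (iv F63936) D21214 (iv D16037)
def n21216 : Q := act 5 n14579
theorem D21216 : act 5 n14579 = n21216 := rfl
theorem F91407 : act 0 n21216 = n14593 := d4_1 D21216 (iv D14593) (iv F63941)
theorem F91408 : act 1 n21216 = n21216 := d12_1 D21216 (iv D21216) F63942
theorem F91409 : act 3 n21216 = n21216 := d25_1 D21216 (iv D21216) F63943
theorem F91410 : act 4 n21216 = n21216 := d30_1 D21216 (iv D21216) F63944 F44898 (iv F63944)
def n21217 : Q := act 7 n14579
theorem D21217 : act 7 n14579 = n21217 := rfl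
theorem F91411 : act 0 n21217 = n14594 := d6_1 D21217 (iv D14594) (iv F63941)
theorem F91412 : act 1 n21217 = n21217 := d14_1 D21217 (iv D21217) F63942
theorem F91413 : act 3 n21217 = n21217 := d27_1 D21217 (iv D21217) F63943
theorem F91414 : act 4 n21217 = n14581 := d32_1 D21217 (iv D14581) (iv F63944)
theorem F91415 : act 6 n21217 = n14659 := d39_1 D21217 (iv D14659) (iv D10087) (iv F44894) D14579
def n21218 : Q := act 8 n14579
theorem D21218 : act 8 n14579 = n21218 := rfl
theorem F91416 : act 0 n21218 = n14595 := d7_1 D21218 (iv D14595) (iv F63941)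
theorem F91417 : act 1 n21218 = n21218 := d15_1 D21218 (iv D21218) F63942
theorem F91418 : act 4 n21218 = n14582 := d33_1 D21218 (iv D14582) (iv F63944)
theorem F91419 : act 6 n21218 = n14580 := d40_1 D21218 (iv D14580) D14579
def n21219 : Q := act 3 n14580
theorem D21219 : act 3 n14580 = n21219 := rfl
theorem F91420 : act 0 n21219 = n14596 := d2_1 D21219 (iv D14596) (iv F63945)
theorem F91421 : act 1 n21219 = n21219 := d10_1 D21219 (iv D21219) F63946
theorem F91422 : act 4 n21219 = n15016 := d24_2 (iv F63947) D21219 (iv D15016) F46037 (iv F44901)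
theorem F91423 : act 7 n21219 = n14661 := d27_2 (iv F63948) D21219 (iv D14661)
theorem F91424 : act 8 n21219 = n21219 := d28_2 D14580 D21219 (iv D21219) (iv D14580) F44893
def n21220 : Q := act 9 n14580
theorem D21220 : act 9 n14580 = n21220 := rfl
theorem F91425 : act 0 n21220 = n14597 := d8_1 D21220 (iv D14597) (iv F63945)
theorem F91426 : act 1 n21220 = n21220 := d16_1 D21220 (iv D21220) F63946
theorem F91427 : act 4 n21220 = n14583 := d34_1 D21220 (iv D14583) (iv F63947)
theorem F91428 : act 7 n21220 = n14662 := d43_1 D21220 (iv D14662) (iv F63948)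
def n21221 : Q := act 8 n14581
theorem D21221 : act 8 n14581 = n21221 := rfl
theorem F91429 : act 0 n21221 = n14598 := d7_1 D21221 (iv D14598) (iv F63949)
theorem F91430 : act 1 n21221 = n21221 := d15_1 D21221 (iv D21221) F63950
theorem F91431 : act 3 n21221 = n15018 := d28_1 D21221 (iv D15018) F46042 (iv F44915) (iv F63951)
theorem F91432 : act 5 n21221 = n21221 := d37_1 D21221 (iv D21221) F63952
theorem F91433 : act 6 n21221 = n14663 := d40_1 D21221 (iv D14663) (iv F63953)
theorem F91434 : act 7 n21221 = n14582 := d42_1 D21221 (iv D14582) D14581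
def n21222 : Q := act 9 n14582
theorem D21222 : act 9 n14582 = n21222 := rfl
theorem F91435 : act 0 n21222 = n14599 := d8_1 D21222 (iv D14599) (iv F63954)
theorem F91436 : act 1 n21222 = n21222 := d16_1 D21222 (iv D21222) F63955
theorem F91437 : act 3 n21222 = n15019 := d29_1 D21222 (iv D15019) (iv F63956)
theorem F91438 : act 5 n21222 = n21222 := d38_1 D21222 (iv D21222) F63957
theorem F91439 : act 6 n21222 = n14583 := d41_1 D21222 (iv D14583) (iv F63958)
def n21223 : Q := act 6 n14584
theorem D21223 : act 6 n14584 = n21223 := rfl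
theorem F91440 : act 2 n21223 = n21223 := d20_1 D21223 (iv D21223) F63964
theorem F91441 : act 3 n21223 = n14585 := d26_1 D21223 (iv D14585) D14584
theorem F91442 : act 4 n21223 = n16046 := d31_1 D21223 (iv D16046) (iv F63965)
def n21224 : Q := act 8 n14584
theorem D21224 : act 8 n14584 = n21224 := rfl
theorem F91443 : act 2 n21224 = n21224 := d22_1 D21224 (iv D21224) F63964
theorem F91444 : act 4 n21224 = n16047 := d33_1 D21224 (iv D16047) (iv F63965)
theorem F91445 : act 7 n21224 = n14666 := d42_1 D21224 (iv D14666) (iv F63966)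
def n21225 : Q := act 5 n14585
theorem D21225 : act 5 n14585 = n21225 := rfl
theorem F91446 : act 2 n21225 = n14593 := d19_1 D21225 (iv D14593) (iv F63967)
theorem F91447 : act 4 n21225 = n21225 := d30_1 D21225 (iv D21225) F63968 F44920 (iv F63968)
def n21226 : Q := act 7 n14585
theorem D21226 : act 7 n14585 = n21226 := rfl
theorem F91448 : act 2 n21226 = n14594 := d21_1 D21226 (iv D14594) (iv F63967)
theorem F91449 : act 4 n21226 = n14587 := d32_1 D21226 (iv D14587) (iv F63968)
theorem F91450 : act 6 n21226 = n14668 := d39_1 D21226 (iv D14668) (iv D10093) (iv F44917) D14585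
def n21227 : Q := act 8 n14585
theorem D21227 : act 8 n14585 = n21227 := rfl
theorem F91451 : act 2 n21227 = n14595 := d22_1 D21227 (iv D14595) (iv F63967)
theorem F91452 : act 4 n21227 = n14588 := d33_1 D21227 (iv D14588) (iv F63968)
theorem F91453 : act 6 n21227 = n14586 := d40_1 D21227 (iv D14586) D14585
def n21228 : Q := act 3 n14586
theorem D21228 : act 3 n14586 = n21228 := rfl
theorem F91454 : act 7 n21228 = n14670 := d27_2 (iv F63971) D21228 (iv D14670)
def n21229 : Q := act 9 n14586
theorem D21229 : act 9 n14586 = n21229 := rfl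
theorem F91455 : act 2 n21229 = n14597 := d23_1 D21229 (iv D14597) (iv F63969)
theorem F91456 : act 4 n21229 = n14590 := d34_1 D21229 (iv D14590) (iv F63970)
theorem F91457 : act 7 n21229 = n14671 := d43_1 D21229 (iv D14671) (iv F63971)
def n21230 : Q := act 8 n14587
theorem D21230 : act 8 n14587 = n21230 := rfl
theorem F91458 : act 2 n21230 = n14598 := d22_1 D21230 (iv D14598) (iv F63972)
theorem F91459 : act 5 n21230 = n21230 := d37_1 D21230 (iv D21230) F63974
theorem F91460 : act 6 n21230 = n14672 := d40_1 D21230 (iv D14672) (iv F63975)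
theorem F91461 : act 7 n21230 = n14588 := d42_1 D21230 (iv D14588) D14587
def n21231 : Q := act 3 n14588
theorem D21231 : act 3 n14588 = n21231 := rfl
theorem F91462 : act 2 n21231 = n15028 := d17_1 D21231 (iv D15028) F46077 (iv F44942) (iv F63976)
theorem F91463 : act 5 n21231 = n21231 := d25_2 F63977 D21231 (iv D21231)
theorem F91464 : act 6 n21231 = n14589 := d26_2 (iv F63978) D21231 (iv D14589)
theorem F91465 : act 8 n21231 = n16054 := d28_2 D14588 D21231 (iv D16054) (iv D11037) (iv F44919)
def n21232 : Q := act 9 n14588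
theorem D21232 : act 9 n14588 = n21232 := rfl
theorem F91466 : act 2 n21232 = n14599 := d23_1 D21232 (iv D14599) (iv F63976)
theorem F91467 : act 5 n21232 = n21232 := d38_1 D21232 (iv D21232) F63977
theorem F91468 : act 6 n21232 = n14590 := d41_1 D21232 (iv D14590) (iv F63978)
def n21233 : Q := act 4 n14589
theorem D21233 : act 4 n14589 = n21233 := rfl
theorem F91469 : act 2 n21233 = n15030 := d18_1 D21233 (iv D15030) (iv F63979)
theorem F91470 : act 7 n21233 = n14675 := d32_2 (iv F63981) D21233 (iv D14675)
theorem F91471 : act 8 n21233 = n16056 := d33_2 (iv F63982) D21233 (iv D16056)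
def n21234 : Q := act 9 n14589
theorem D21234 : act 9 n14589 = n21234 := rfl
theorem F91472 : act 2 n21234 = n15031 := d23_1 D21234 (iv D15031) (iv F63979)
theorem F91473 : act 3 n21234 = n14590 := d29_1 D21234 (iv D14590) D14589
theorem F91474 : act 5 n21234 = n14592 := d38_1 D21234 (iv D14592) (iv F63980)
theorem F91475 : act 7 n21234 = n14676 := d43_1 D21234 (iv D14676) (iv F63981)
def n21235 : Q := act 5 n14591
theorem D21235 : act 5 n14591 = n21235 := rfl
theorem F91476 : act 2 n21235 = n15032 := d19_1 D21235 (iv D15032) (iv F63986)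
theorem F91477 : act 7 n21235 = n14677 := d36_2 (iv F63988) D21235 (iv D14677)
theorem F91478 : act 8 n21235 = n16058 := d37_2 (iv F63989) D21235 (iv D16058)
def n21236 : Q := act 9 n14591
theorem D21236 : act 9 n14591 = n21236 := rfl
theorem F91479 : act 2 n21236 = n15033 := d23_1 D21236 (iv D15033) (iv F63986)
theorem F91480 : act 4 n21236 = n14592 := d34_1 D21236 (iv D14592) D14591
theorem F91481 : act 6 n21236 = n21236 := d41_1 D21236 (iv D21236) F63987
theorem F91482 : act 7 n21236 = n14678 := d43_1 D21236 (iv D14678) (iv F63988)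
def n21238 : Q := act 7 n14593
theorem D21238 : act 7 n14593 = n21238 := rfl
theorem F91487 : act 1 n21238 = n14600 := d14_1 D21238 (iv D14600) (iv F63994)
theorem F91488 : act 3 n21238 = n21238 := d27_1 D21238 (iv D21238) F63995
theorem F91489 : act 4 n21238 = n21238 := d32_1 D21238 (iv D21238) F63996
theorem F91490 : act 5 n21238 = n14594 := d36_1 D21238 (iv D14594) D14593
def n21239 : Q := act 8 n14593
theorem D21239 : act 8 n14593 = n21239 := rfl
theorem F91491 : act 1 n21239 = n14601 := d15_1 D21239 (iv D14601) (iv F63994)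
theorem F91492 : act 4 n21239 = n21239 := d33_1 D21239 (iv D21239) F63996
theorem F91493 : act 5 n21239 = n14595 := d37_1 D21239 (iv D14595) D14593
def n21240 : Q := act 8 n14594
theorem D21240 : act 8 n14594 = n21240 := rfl
theorem F91494 : act 1 n21240 = n14602 := d15_1 D21240 (iv D14602) (iv F63997)
theorem F91495 : act 4 n21240 = n14598 := d33_1 D21240 (iv D14598) (iv F63999)
theorem F91496 : act 6 n21240 = n14682 := d40_1 D21240 (iv D14682) (iv F64000)
theorem F91497 : act 7 n21240 = n14595 := d42_1 D21240 (iv D14595) D14594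
def n21241 : Q := act 3 n14595
theorem D21241 : act 3 n14595 = n21241 := rfl
theorem F91498 : act 1 n21241 = n14603 := d10_1 D21241 (iv D14603) (iv F64001)
theorem F91499 : act 4 n21241 = n15038 := d24_2 (iv F64002) D21241 (iv D15038) F46109 (iv F44942)
theorem F91500 : act 6 n21241 = n14596 := d26_2 (iv F64003) D21241 (iv D14596)
theorem F91501 : act 8 n21241 = n21241 := d28_2 D14595 D21241 (iv D21241) (iv D14595) F44932
def n21242 : Q := act 9 n14595
theorem D21242 : act 9 n14595 = n21242 := rfl
theorem F91502 : act 1 n21242 = n14604 := d16_1 D21242 (iv D14604) (iv F64001)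
theorem F91503 : act 4 n21242 = n14599 := d34_1 D21242 (iv D14599) (iv F64002)
theorem F91504 : act 6 n21242 = n14597 := d41_1 D21242 (iv D14597) (iv F64003)
def n21243 : Q := act 2 n14596
theorem D21243 : act 2 n14596 = n21243 := rfl
theorem F91505 : act 4 n21243 = n15040 := d18_2 (iv F64005) D21243 (iv D15040)
theorem F91506 : act 7 n21243 = n14685 := d21_2 (iv F64006) D21243 (iv D14685)
theorem F91507 : act 8 n21243 = n21243 := d22_2 F64007 D21243 (iv D21243)
def n21244 : Q := act 9 n14596
theorem D21244 : act 9 n14596 = n21244 := rfl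
theorem F91508 : act 1 n21244 = n14606 := d16_1 D21244 (iv D14606) (iv F64004)
theorem F91509 : act 3 n21244 = n14597 := d29_1 D21244 (iv D14597) D14596
theorem F91510 : act 4 n21244 = n15041 := d34_1 D21244 (iv D15041) (iv F64005)
theorem F91511 : act 7 n21244 = n14686 := d43_1 D21244 (iv D14686) (iv F64006)
def n21245 : Q := act 9 n14598
theorem D21245 : act 9 n14598 = n21245 := rfl
theorem F91512 : act 1 n21245 = n14607 := d16_1 D21245 (iv D14607) (iv F64011)
theorem F91513 : act 3 n21245 = n15042 := d29_1 D21245 (iv D15042) (iv F64012)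
theorem F91514 : act 5 n21245 = n21245 := d38_1 D21245 (iv D21245) F64013
theorem F91515 : act 6 n21245 = n14687 := d41_1 D21245 (iv D14687) (iv F64014)
theorem F91516 : act 7 n21245 = n14599 := d43_1 D21245 (iv D14599) (iv F64015)
def n21246 : Q := act 6 n14600
theorem D21246 : act 6 n14600 = n21246 := rfl
theorem F91517 : act 0 n21246 = n21246 := d5_1 D21246 (iv D21246) F64020
theorem F91518 : act 3 n21246 = n21246 := d26_1 D21246 (iv D21246) F64021
theorem F91519 : act 4 n21246 = n21246 := d31_1 D21246 (iv D21246) F64022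
theorem F91520 : act 5 n21246 = n14688 := d35_1 D21246 (iv D14688) F45159 (iv F44955) (iv F64023)
def n21247 : Q := act 8 n14600
theorem D21247 : act 8 n14600 = n21247 := rfl
theorem F91521 : act 0 n21247 = n21247 := d7_1 D21247 (iv D21247) F64020
theorem F91522 : act 4 n21247 = n21247 := d33_1 D21247 (iv D21247) F64022
theorem F91523 : act 5 n21247 = n14602 := d37_1 D21247 (iv D14602) (iv F64023)
theorem F91524 : act 7 n21247 = n14601 := d42_1 D21247 (iv D14601) D14600
def n21248 : Q := act 3 n14601
theorem D21248 : act 3 n14601 = n21248 := rfl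
theorem F91525 : act 0 n21248 = n21248 := d2_1 D21248 (iv D21248) F64024
theorem F91526 : act 5 n21248 = n14603 := d25_2 (iv F64026) D21248 (iv D14603)
theorem F91527 : act 8 n21248 = n21248 := d28_2 D14601 D21248 (iv D21248) (iv D14601) F44950
def n21249 : Q := act 9 n14601
theorem D21249 : act 9 n14601 = n21249 := rfl
theorem F91528 : act 0 n21249 = n21249 := d8_1 D21249 (iv D21249) F64024
theorem F91529 : act 4 n21249 = n21249 := d34_1 D21249 (iv D21249) F64025
theorem F91530 : act 5 n21249 = n14604 := d38_1 D21249 (iv D14604) (iv F64026)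
def n21250 : Q := act 3 n14602
theorem D21250 : act 3 n14602 = n21250 := rfl
theorem F91531 : act 0 n21250 = n21250 := d2_1 D21250 (iv D21250) F64027
theorem F91532 : act 4 n21250 = n15047 := d24_2 (iv F64028) D21250 (iv D15047) F46141 (iv F44967)
theorem F91533 : act 6 n21250 = n14692 := d26_2 (iv F64029) D21250 (iv D14692)
theorem F91534 : act 7 n21250 = n14603 := d27_2 (iv F64030) D21250 (iv D14603)
theorem F91535 : act 8 n21250 = n21250 := d28_2 D14602 D21250 (iv D21250) (iv D14602) F44953
def n21251 : Q := act 9 n14602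
theorem D21251 : act 9 n14602 = n21251 := rfl
theorem F91536 : act 0 n21251 = n21251 := d8_1 D21251 (iv D21251) F64027
theorem F91537 : act 4 n21251 = n14607 := d34_1 D21251 (iv D14607) (iv F64028)
theorem F91538 : act 6 n21251 = n14693 := d41_1 D21251 (iv D14693) (iv F64029)
theorem F91539 : act 7 n21251 = n14604 := d43_1 D21251 (iv D14604) (iv F64030)
def n21252 : Q := act 2 n14603
theorem D21252 : act 2 n14603 = n21252 := rfl
theorem F91540 : act 0 n21252 = n21252 := d1_1 D21252 (iv D21252) F64031
theorem F91541 : act 4 n21252 = n15049 := d18_2 (iv F64032) D21252 (iv D15049)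
theorem F91542 : act 6 n21252 = n14605 := d20_2 (iv F64033) D21252 (iv D14605)
theorem F91543 : act 8 n21252 = n21252 := d22_2 F64034 D21252 (iv D21252)
def n21253 : Q := act 9 n14603
theorem D21253 : act 9 n14603 = n21253 := rfl
theorem F91544 : act 0 n21253 = n21253 := d8_1 D21253 (iv D21253) F64031
theorem F91545 : act 3 n21253 = n14604 := d29_1 D21253 (iv D14604) D14603
theorem F91546 : act 4 n21253 = n15050 := d34_1 D21253 (iv D15050) (iv F64032)
theorem F91547 : act 6 n21253 = n14606 := d41_1 D21253 (iv D14606) (iv F64033)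
def n21254 : Q := act 1 n14605
theorem D21254 : act 1 n14605 = n21254 := rfl
theorem F91548 : act 4 n21254 = n15051 := d11_2 (iv F64039) D21254 (iv D15051)
theorem F91549 : act 7 n21254 = n14696 := d14_2 (iv F64040) D21254 (iv D14696)
theorem F91550 : act 8 n21254 = n21254 := d15_2 F64041 D21254 (iv D21254)
def n21255 : Q := act 9 n14605
theorem D21255 : act 9 n14605 = n21255 := rfl
theorem F91551 : act 0 n21255 = n21255 := d8_1 D21255 (iv D21255) F64038
theorem F91552 : act 2 n21255 = n14606 := d23_1 D21255 (iv D14606) D14605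
theorem F91553 : act 4 n21255 = n15052 := d34_1 D21255 (iv D15052) (iv F64039)
theorem F91554 : act 7 n21255 = n14697 := d43_1 D21255 (iv D14697) (iv F64040)
def n21256 : Q := act 8 n14606
theorem D21256 : act 8 n14606 = n21256 := rfl
theorem F91555 : act 0 n21256 = n21256 := d7_1 D21256 (iv D21256) F64042
theorem F91556 : act 4 n21256 = n15053 := d33_1 D21256 (iv D15053) (iv F64044)
theorem F91557 : act 7 n21256 = n14698 := d42_1 D21256 (iv D14698) (iv F64045)
theorem F91558 : act 9 n21256 = n21256 := d44_2 D14606 D21256 (iv D21256) (iv D14606) F44962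
def n21257 : Q := act 4 n14608
theorem D21257 : act 4 n14608 = n21257 := rfl
theorem F91559 : act 1 n21257 = n14610 := d11_1 D21257 (iv D14610) (iv F64051)
theorem F91560 : act 2 n21257 = n21257 := d18_1 D21257 (iv D21257) F64052
theorem F91561 : act 9 n21257 = n14644 := d34_2 (iv F64054) D21257 (iv D14644)
def n21258 : Q := act 6 n14608
theorem D21258 : act 6 n14608 = n21258 := rfl
theorem F91562 : act 1 n21258 = n14611 := d13_1 D21258 (iv D14611) (iv F64051)
theorem F91563 : act 2 n21258 = n21258 := d20_1 D21258 (iv D21258) F64052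
theorem F91564 : act 3 n21258 = n16081 := d26_1 D21258 (iv D16081) (iv F64053)
theorem F91565 : act 5 n21258 = n14700 := d35_1 D21258 (iv D14700) (iv D10116) (iv F44977) D14608
theorem F91566 : act 9 n21258 = n14645 := d41_2 (iv F64054) D21258 (iv D14645)
def n21259 : Q := act 8 n14608
theorem D21259 : act 8 n14608 = n21259 := rfl
def n21260 : Q := act 3 n14609
theorem D21260 : act 3 n14609 = n21260 := rfl
theorem F91572 : act 8 n21260 = n16083 := d28_2 D14609 D21260 (iv D16083) (iv D11058) (iv F44976)
def n21262 : Q := act 3 n14610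
theorem D21262 : act 3 n14610 = n21262 := rfl
theorem F91577 : act 0 n21262 = n14620 := d2_1 D21262 (iv D14620) (iv F64058)
theorem F91578 : act 2 n21262 = n21262 := d17_1 D21262 (iv D21262) F64059 F44988 (iv F64059)
theorem F91579 : act 4 n21262 = n16085 := d24_2 D14610 D21262 (iv D16085) (iv D11059) (iv F44981)
theorem F91580 : act 9 n21262 = n14649 := d29_2 (iv F64060) D21262 (iv D14649)
def n21263 : Q := act 6 n14610
theorem D21263 : act 6 n14610 = n21263 := rfl
theorem F91581 : act 0 n21263 = n14621 := d5_1 D21263 (iv D14621) (iv F64058)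
theorem F91582 : act 2 n21263 = n14615 := d20_1 D21263 (iv D14615) (iv F64059)
theorem F91583 : act 4 n21263 = n14611 := d31_1 D21263 (iv D14611) D14610
theorem F91584 : act 9 n21263 = n14650 := d41_2 (iv F64060) D21263 (iv D14650)
def n21264 : Q := act 8 n14610
theorem D21264 : act 8 n14610 = n21264 := rfl
theorem F91585 : act 0 n21264 = n14622 := d7_1 D21264 (iv D14622) (iv F64058)
theorem F91586 : act 2 n21264 = n14616 := d22_1 D21264 (iv D14616) (iv F64059)
theorem F91587 : act 4 n21264 = n14612 := d33_1 D21264 (iv D14612) D14610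
def n21265 : Q := act 7 n14611
theorem D21265 : act 7 n14611 = n21265 := rfl
theorem F91588 : act 0 n21265 = n14623 := d6_1 D21265 (iv D14623) (iv F64061)
theorem F91589 : act 2 n21265 = n14617 := d21_1 D21265 (iv D14617) (iv F64062)
theorem F91590 : act 3 n21265 = n16088 := d27_1 D21265 (iv D16088) (iv F64063)
theorem F91591 : act 5 n21265 = n14707 := d36_1 D21265 (iv D14707) (iv F64064)
theorem F91592 : act 9 n21265 = n14652 := d43_2 (iv F64065) D21265 (iv D14652)
def n21266 : Q := act 8 n14611
theorem D21266 : act 8 n14611 = n21266 := rfl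
theorem F91593 : act 0 n21266 = n14624 := d7_1 D21266 (iv D14624) (iv F64061)
theorem F91594 : act 2 n21266 = n14618 := d22_1 D21266 (iv D14618) (iv F64062)
theorem F91595 : act 5 n21266 = n14708 := d37_1 D21266 (iv D14708) (iv F64064)
theorem F91596 : act 6 n21266 = n14612 := d40_1 D21266 (iv D14612) D14611
def n21267 : Q := act 3 n14612
theorem D21267 : act 3 n14612 = n21267 := rfl
theorem F91600 : act 8 n21267 = n16090 := d28_2 D14612 D21267 (iv D16090) (iv D11061) (iv F44981)
def n21268 : Q := act 9 n14612
theorem D21268 : act 9 n14612 = n21268 := rfl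
theorem F91601 : act 0 n21268 = n14626 := d8_1 D21268 (iv D14626) (iv F64066)
theorem F91602 : act 2 n21268 = n14619 := d23_1 D21268 (iv D14619) (iv F64067)
theorem F91603 : act 5 n21268 = n14614 := d38_1 D21268 (iv D14614) (iv F64068)
theorem F91604 : act 8 n21268 = n14655 := d44_1 D21268 (iv D14655) (iv D10084) (iv F44982) D14612
def n21269 : Q := act 4 n14613
theorem D21269 : act 4 n14613 = n21269 := rfl
theorem F91608 : act 8 n21269 = n16092 := d33_2 (iv F64072) D21269 (iv D16092)
def n21271 : Q := act 5 n14615
theorem D21271 : act 5 n14615 = n21271 := rfl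
theorem F91613 : act 0 n21271 = n14629 := d4_1 D21271 (iv D14629) (iv F64077)
theorem F91614 : act 1 n21271 = n21271 := d12_1 D21271 (iv D21271) F64078
theorem F91615 : act 3 n21271 = n21271 := d25_1 D21271 (iv D21271) F64079
theorem F91616 : act 4 n21271 = n14713 := d30_1 D21271 (iv D14713) F45214 (iv F44993) (iv F64080)
theorem F91617 : act 9 n21271 = n14658 := d38_2 (iv F64081) D21271 (iv D14658)
def n21272 : Q := act 7 n14615
theorem D21272 : act 7 n14615 = n21272 := rfl
theorem F91618 : act 0 n21272 = n14630 := d6_1 D21272 (iv D14630) (iv F64077)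
theorem F91619 : act 1 n21272 = n21272 := d14_1 D21272 (iv D21272) F64078
theorem F91620 : act 3 n21272 = n21272 := d27_1 D21272 (iv D21272) F64079
theorem F91621 : act 4 n21272 = n14617 := d32_1 D21272 (iv D14617) (iv F64080)
theorem F91622 : act 9 n21272 = n14659 := d43_2 (iv F64081) D21272 (iv D14659)
def n21273 : Q := act 8 n14615
theorem D21273 : act 8 n14615 = n21273 := rfl
theorem F91623 : act 0 n21273 = n14631 := d7_1 D21273 (iv D14631) (iv F64077)
theorem F91624 : act 1 n21273 = n21273 := d15_1 D21273 (iv D21273) F64078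
theorem F91625 : act 4 n21273 = n14618 := d33_1 D21273 (iv D14618) (iv F64080)
theorem F91626 : act 6 n21273 = n14616 := d40_1 D21273 (iv D14616) D14615
def n21274 : Q := act 3 n14616
theorem D21274 : act 3 n14616 = n21274 := rfl
theorem F91627 : act 0 n21274 = n14632 := d2_1 D21274 (iv D14632) (iv F64082)
theorem F91628 : act 1 n21274 = n21274 := d10_1 D21274 (iv D21274) F64083
theorem F91629 : act 4 n21274 = n21274 := d24_2 (iv F64084) D21274 (iv D21274) F64084 F44997
theorem F91630 : act 8 n21274 = n21274 := d28_2 D14616 D21274 (iv D21274) (iv D14616) F44988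
def n21275 : Q := act 9 n14616
theorem D21275 : act 9 n14616 = n21275 := rfl
theorem F91631 : act 0 n21275 = n14633 := d8_1 D21275 (iv D14633) (iv F64082)
theorem F91632 : act 1 n21275 = n21275 := d16_1 D21275 (iv D21275) F64083
theorem F91633 : act 4 n21275 = n14619 := d34_1 D21275 (iv D14619) (iv F64084)
theorem F91634 : act 8 n21275 = n14662 := d44_1 D21275 (iv D14662) (iv D10088) (iv F44989) D14616
def n21276 : Q := act 8 n14617
theorem D21276 : act 8 n14617 = n21276 := rfl
theorem F91635 : act 0 n21276 = n14634 := d7_1 D21276 (iv D14634) (iv F64085)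
theorem F91636 : act 1 n21276 = n21276 := d15_1 D21276 (iv D21276) F64086
theorem F91637 : act 3 n21276 = n21276 := d28_1 D21276 (iv D21276) F64087 F45009 (iv F64087)
theorem F91638 : act 5 n21276 = n14718 := d37_1 D21276 (iv D14718) (iv F64088)
theorem F91639 : act 7 n21276 = n14618 := d42_1 D21276 (iv D14618) D14617
def n21277 : Q := act 9 n14618
theorem D21277 : act 9 n14618 = n21277 := rfl
theorem F91640 : act 0 n21277 = n14635 := d8_1 D21277 (iv D14635) (iv F64090)
theorem F91641 : act 1 n21277 = n21277 := d16_1 D21277 (iv D21277) F64091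
theorem F91642 : act 3 n21277 = n21277 := d29_1 D21277 (iv D21277) F64092
theorem F91643 : act 5 n21277 = n14719 := d38_1 D21277 (iv D14719) (iv F64093)
theorem F91644 : act 6 n21277 = n14619 := d41_1 D21277 (iv D14619) (iv F64094)
theorem F91645 : act 8 n21277 = n14664 := d44_1 D21277 (iv D14664) (iv D10090) (iv F44994) D14618
def n21278 : Q := act 6 n14620
theorem D21278 : act 6 n14620 = n21278 := rfl
theorem F91646 : act 2 n21278 = n21278 := d20_1 D21278 (iv D21278) F64100
theorem F91647 : act 3 n21278 = n14621 := d26_1 D21278 (iv D14621) D14620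
theorem F91648 : act 4 n21278 = n16101 := d31_1 D21278 (iv D16101) (iv F64101)
theorem F91649 : act 9 n21278 = n14665 := d41_2 (iv F64102) D21278 (iv D14665)
def n21279 : Q := act 8 n14620
theorem D21279 : act 8 n14620 = n21279 := rfl
theorem F91650 : act 2 n21279 = n21279 := d22_1 D21279 (iv D21279) F64100
theorem F91651 : act 4 n21279 = n16102 := d33_1 D21279 (iv D16102) (iv F64101)
def n21280 : Q := act 5 n14621
theorem D21280 : act 5 n14621 = n21280 := rfl
theorem F91652 : act 2 n21280 = n14629 := d19_1 D21280 (iv D14629) (iv F64103)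
theorem F91653 : act 4 n21280 = n14722 := d30_1 D21280 (iv D14722) F45240 (iv F45015) (iv F64104)
theorem F91654 : act 9 n21280 = n14667 := d38_2 (iv F64105) D21280 (iv D14667)
def n21281 : Q := act 7 n14621
theorem D21281 : act 7 n14621 = n21281 := rfl
theorem F91655 : act 2 n21281 = n14630 := d21_1 D21281 (iv D14630) (iv F64103)
theorem F91656 : act 4 n21281 = n14623 := d32_1 D21281 (iv D14623) (iv F64104)
theorem F91657 : act 9 n21281 = n14668 := d43_2 (iv F64105) D21281 (iv D14668)
def n21282 : Q := act 8 n14621
theorem D21282 : act 8 n14621 = n21282 := rfl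
theorem F91658 : act 2 n21282 = n14631 := d22_1 D21282 (iv D14631) (iv F64103)
theorem F91659 : act 4 n21282 = n14624 := d33_1 D21282 (iv D14624) (iv F64104)
theorem F91660 : act 6 n21282 = n14622 := d40_1 D21282 (iv D14622) D14621
def n21283 : Q := act 3 n14622
theorem D21283 : act 3 n14622 = n21283 := rfl
def n21284 : Q := act 9 n14622
theorem D21284 : act 9 n14622 = n21284 := rfl
theorem F91661 : act 2 n21284 = n14633 := d23_1 D21284 (iv D14633) (iv F64106)
theorem F91662 : act 4 n21284 = n14626 := d34_1 D21284 (iv D14626) (iv F64107)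
theorem F91663 : act 8 n21284 = n14671 := d44_1 D21284 (iv D14671) (iv D10094) (iv F45012) D14622
def n21285 : Q := act 8 n14623
theorem D21285 : act 8 n14623 = n21285 := rfl
theorem F91664 : act 2 n21285 = n14634 := d22_1 D21285 (iv D14634) (iv F64108)
theorem F91665 : act 5 n21285 = n14727 := d37_1 D21285 (iv D14727) (iv F64110)
theorem F91666 : act 7 n21285 = n14624 := d42_1 D21285 (iv D14624) D14623
def n21286 : Q := act 3 n14624
theorem D21286 : act 3 n14624 = n21286 := rfl
theorem F91667 : act 2 n21286 = n21286 := d17_1 D21286 (iv D21286) F64112 F45036 (iv F64112)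
theorem F91668 : act 5 n21286 = n14728 := d25_2 (iv F64113) D21286 (iv D14728)
theorem F91669 : act 6 n21286 = n14625 := d26_2 (iv F64114) D21286 (iv D14625)
theorem F91670 : act 8 n21286 = n16109 := d28_2 D14624 D21286 (iv D16109) (iv D11073) (iv F45014)
def n21287 : Q := act 9 n14624
theorem D21287 : act 9 n14624 = n21287 := rfl
theorem F91671 : act 2 n21287 = n14635 := d23_1 D21287 (iv D14635) (iv F64112)
theorem F91672 : act 5 n21287 = n14729 := d38_1 D21287 (iv D14729) (iv F64113)
theorem F91673 : act 6 n21287 = n14626 := d41_1 D21287 (iv D14626) (iv F64114)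
theorem F91674 : act 8 n21287 = n14674 := d44_1 D21287 (iv D14674) (iv D10096) (iv F45016) D14624
def n21288 : Q := act 4 n14625
theorem D21288 : act 4 n14625 = n21288 := rfl
theorem F91675 : act 2 n21288 = n21288 := d18_1 D21288 (iv D21288) F64115
theorem F91676 : act 8 n21288 = n16111 := d33_2 (iv F64117) D21288 (iv D16111)
def n21289 : Q := act 9 n14625
theorem D21289 : act 9 n14625 = n21289 := rfl
theorem F91677 : act 2 n21289 = n21289 := d23_1 D21289 (iv D21289) F64115
theorem F91678 : act 3 n21289 = n14626 := d29_1 D21289 (iv D14626) D14625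
theorem F91679 : act 5 n21289 = n14628 := d38_1 D21289 (iv D14628) (iv F64116)
def n21291 : Q := act 9 n14627
theorem D21291 : act 9 n14627 = n21291 := rfl
theorem F91683 : act 4 n21291 = n14628 := d34_1 D21291 (iv D14628) D14627
def n21292 : Q := act 8 n14628
theorem D21292 : act 8 n14628 = n21292 := rfl
theorem F91688 : act 9 n21292 = n16115 := d44_2 D14628 D21292 (iv D16115) (iv D11077) (iv F45021)
def n21293 : Q := act 7 n14629
theorem D21293 : act 7 n14629 = n21293 := rfl
theorem F91689 : act 1 n21293 = n14636 := d14_1 D21293 (iv D14636) (iv F64127)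
theorem F91690 : act 3 n21293 = n21293 := d27_1 D21293 (iv D21293) F64128
theorem F91691 : act 4 n21293 = n14735 := d32_1 D21293 (iv D14735) (iv F64129)
theorem F91692 : act 5 n21293 = n14630 := d36_1 D21293 (iv D14630) D14629
theorem F91693 : act 9 n21293 = n14680 := d43_2 (iv F64130) D21293 (iv D14680)
def n21294 : Q := act 8 n14629
theorem D21294 : act 8 n14629 = n21294 := rfl
theorem F91694 : act 1 n21294 = n14637 := d15_1 D21294 (iv D14637) (iv F64127)
theorem F91695 : act 4 n21294 = n14736 := d33_1 D21294 (iv D14736) (iv F64129)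
theorem F91696 : act 5 n21294 = n14631 := d37_1 D21294 (iv D14631) D14629
def n21295 : Q := act 8 n14630
theorem D21295 : act 8 n14630 = n21295 := rfl
theorem F91697 : act 1 n21295 = n14638 := d15_1 D21295 (iv D14638) (iv F64131)
theorem F91698 : act 4 n21295 = n14634 := d33_1 D21295 (iv D14634) (iv F64133)
theorem F91699 : act 7 n21295 = n14631 := d42_1 D21295 (iv D14631) D14630
def n21296 : Q := act 3 n14631
theorem D21296 : act 3 n14631 = n21296 := rfl
theorem F91700 : act 1 n21296 = n14639 := d10_1 D21296 (iv D14639) (iv F64135)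
theorem F91701 : act 4 n21296 = n21296 := d24_2 (iv F64136) D21296 (iv D21296) F64136 F45036
theorem F91702 : act 6 n21296 = n14632 := d26_2 (iv F64137) D21296 (iv D14632)
theorem F91703 : act 8 n21296 = n21296 := d28_2 D14631 D21296 (iv D21296) (iv D14631) F45026
def n21297 : Q := act 9 n14631
theorem D21297 : act 9 n14631 = n21297 := rfl
theorem F91704 : act 1 n21297 = n14640 := d16_1 D21297 (iv D14640) (iv F64135)
theorem F91705 : act 4 n21297 = n14635 := d34_1 D21297 (iv D14635) (iv F64136)
theorem F91706 : act 6 n21297 = n14633 := d41_1 D21297 (iv D14633) (iv F64137)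
theorem F91707 : act 8 n21297 = n14684 := d44_1 D21297 (iv D14684) (iv D10103) (iv F45028) D14631
def n21298 : Q := act 2 n14632
theorem D21298 : act 2 n14632 = n21298 := rfl
theorem F91708 : act 4 n21298 = n21298 := d18_2 F64139 D21298 (iv D21298)
theorem F91709 : act 8 n21298 = n21298 := d22_2 F64140 D21298 (iv D21298)
def n21299 : Q := act 9 n14632
theorem D21299 : act 9 n14632 = n21299 := rfl
theorem F91710 : act 1 n21299 = n14642 := d16_1 D21299 (iv D14642) (iv F64138)
theorem F91711 : act 3 n21299 = n14633 := d29_1 D21299 (iv D14633) D14632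
theorem F91712 : act 4 n21299 = n21299 := d34_1 D21299 (iv D21299) F64139
def n21300 : Q := act 9 n14634
theorem D21300 : act 9 n14634 = n21300 := rfl
theorem F91713 : act 1 n21300 = n14643 := d16_1 D21300 (iv D14643) (iv F64144)
theorem F91714 : act 3 n21300 = n21300 := d29_1 D21300 (iv D21300) F64145
theorem F91715 : act 5 n21300 = n14742 := d38_1 D21300 (iv D14742) (iv F64146)
theorem F91716 : act 7 n21300 = n14635 := d43_1 D21300 (iv D14635) (iv F64147)
theorem F91717 : act 8 n21300 = n14687 := d44_1 D21300 (iv D14687) (iv D10106) (iv F45034) D14634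
def n21301 : Q := act 6 n14636
theorem D21301 : act 6 n14636 = n21301 := rfl
theorem F91718 : act 0 n21301 = n21301 := d5_1 D21301 (iv D21301) F64153
theorem F91719 : act 3 n21301 = n21301 := d26_1 D21301 (iv D21301) F64154
theorem F91720 : act 4 n21301 = n14743 := d31_1 D21301 (iv D14743) (iv F64155)
theorem F91721 : act 9 n21301 = n14688 := d41_2 (iv F64157) D21301 (iv D14688)
def n21302 : Q := act 8 n14636
theorem D21302 : act 8 n14636 = n21302 := rfl
theorem F91722 : act 0 n21302 = n21302 := d7_1 D21302 (iv D21302) F64153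
theorem F91723 : act 4 n21302 = n14744 := d33_1 D21302 (iv D14744) (iv F64155)
theorem F91724 : act 5 n21302 = n14638 := d37_1 D21302 (iv D14638) (iv F64156)
theorem F91725 : act 7 n21302 = n14637 := d42_1 D21302 (iv D14637) D14636
def n21303 : Q := act 3 n14637
theorem D21303 : act 3 n14637 = n21303 := rfl
theorem F91726 : act 0 n21303 = n21303 := d2_1 D21303 (iv D21303) F64158
theorem F91727 : act 5 n21303 = n14639 := d25_2 (iv F64160) D21303 (iv D14639)
theorem F91728 : act 8 n21303 = n21303 := d28_2 D14637 D21303 (iv D21303) (iv D14637) F45044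
def n21304 : Q := act 9 n14637
theorem D21304 : act 9 n14637 = n21304 := rfl
theorem F91729 : act 0 n21304 = n21304 := d8_1 D21304 (iv D21304) F64158
theorem F91730 : act 4 n21304 = n14746 := d34_1 D21304 (iv D14746) (iv F64159)
theorem F91731 : act 5 n21304 = n14640 := d38_1 D21304 (iv D14640) (iv F64160)
theorem F91732 : act 8 n21304 = n14691 := d44_1 D21304 (iv D14691) (iv D10109) (iv F45046) D14637
def n21305 : Q := act 3 n14638
theorem D21305 : act 3 n14638 = n21305 := rfl
theorem F91735 : act 7 n21305 = n14639 := d27_2 (iv F64163) D21305 (iv D14639)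
def n21306 : Q := act 9 n14638
theorem D21306 : act 9 n14638 = n21306 := rfl
theorem F91737 : act 0 n21306 = n21306 := d8_1 D21306 (iv D21306) F64161
theorem F91738 : act 4 n21306 = n14643 := d34_1 D21306 (iv D14643) (iv F64162)
theorem F91739 : act 7 n21306 = n14640 := d43_1 D21306 (iv D14640) (iv F64163)
theorem F91740 : act 8 n21306 = n14693 := d44_1 D21306 (iv D14693) (iv D10110) (iv F45050) D14638
def n21307 : Q := act 2 n14639
theorem D21307 : act 2 n14639 = n21307 := rfl
theorem F91743 : act 6 n21307 = n14641 := d20_2 (iv F64166) D21307 (iv D14641)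
def n21308 : Q := act 9 n14639
theorem D21308 : act 9 n14639 = n21308 := rfl
theorem F91745 : act 0 n21308 = n21308 := d8_1 D21308 (iv D21308) F64164
theorem F91746 : act 3 n21308 = n14640 := d29_1 D21308 (iv D14640) D14639
theorem F91747 : act 4 n21308 = n21308 := d34_1 D21308 (iv D21308) F64165
theorem F91748 : act 6 n21308 = n14642 := d41_1 D21308 (iv D14642) (iv F64166)
def n21309 : Q := act 1 n14641
theorem D21309 : act 1 n14641 = n21309 := rfl
theorem F91749 : act 4 n21309 = n21309 := d11_2 F64173 D21309 (iv D21309)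
theorem F91750 : act 8 n21309 = n21309 := d15_2 F64174 D21309 (iv D21309)
def n21310 : Q := act 9 n14641
theorem D21310 : act 9 n14641 = n21310 := rfl
theorem F91751 : act 0 n21310 = n21310 := d8_1 D21310 (iv D21310) F64172
theorem F91752 : act 2 n21310 = n14642 := d23_1 D21310 (iv D14642) D14641
theorem F91753 : act 4 n21310 = n21310 := d34_1 D21310 (iv D21310) F64173
def n21311 : Q := act 8 n14642
theorem D21311 : act 8 n14642 = n21311 := rfl
theorem F91754 : act 0 n21311 = n21311 := d7_1 D21311 (iv D21311) F64175
theorem F91755 : act 3 n21311 = n14698 := d28_1 D21311 (iv D14698) F45177 (iv F45059) (iv F64176)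
theorem F91756 : act 4 n21311 = n21311 := d33_1 D21311 (iv D21311) F64177
theorem F91757 : act 9 n21311 = n21311 := d44_2 D14642 D21311 (iv D21311) (iv D14642) F45056
def n21312 : Q := act 3 n14644
theorem D21312 : act 3 n14644 = n21312 := rfl
theorem F91758 : act 1 n21312 = n14649 := d10_1 D21312 (iv D14649) (iv F64183)
theorem F91759 : act 4 n21312 = n16135 := d24_2 D14644 D21312 (iv D16135) (iv D11093) (iv F45071)
def n21313 : Q := act 6 n14644
theorem D21313 : act 6 n14644 = n21313 := rfl
theorem F91760 : act 1 n21313 = n14650 := d13_1 D21313 (iv D14650) (iv F64183)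
theorem F91761 : act 2 n21313 = n21313 := d20_1 D21313 (iv D21313) F64184
theorem F91762 : act 4 n21313 = n14645 := d31_1 D21313 (iv D14645) D14644
def n21314 : Q := act 8 n14644
theorem D21314 : act 8 n14644 = n21314 := rfl
theorem F91763 : act 1 n21314 = n14651 := d15_1 D21314 (iv D14651) (iv F64183)
def n21315 : Q := act 7 n14645
theorem D21315 : act 7 n14645 = n21315 := rfl
theorem F91766 : act 1 n21315 = n14652 := d14_1 D21315 (iv D14652) (iv F64185)
theorem F91767 : act 2 n21315 = n21315 := d21_1 D21315 (iv D21315) F64186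
theorem F91768 : act 3 n21315 = n16138 := d27_1 D21315 (iv D16138) (iv F64187)
theorem F91769 : act 5 n21315 = n14757 := d36_1 D21315 (iv D14757) (iv F64188)
def n21316 : Q := act 8 n14645
theorem D21316 : act 8 n14645 = n21316 := rfl
def n21318 : Q := act 9 n14646
theorem D21318 : act 9 n14646 = n21318 := rfl
def n21322 : Q := act 6 n14649
theorem D21322 : act 6 n14649 = n21322 := rfl
theorem F91790 : act 0 n21322 = n14665 := d5_1 D21322 (iv D14665) (iv F64198)
theorem F91791 : act 2 n21322 = n21322 := d20_1 D21322 (iv D21322) F64199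
theorem F91792 : act 3 n21322 = n14650 := d26_1 D21322 (iv D14650) D14649
theorem F91793 : act 4 n21322 = n16145 := d31_1 D21322 (iv D16145) (iv F64200)
def n21323 : Q := act 8 n14649
theorem D21323 : act 8 n14649 = n21323 := rfl
theorem F91794 : act 0 n21323 = n14666 := d7_1 D21323 (iv D14666) (iv F64198)
theorem F91795 : act 2 n21323 = n21323 := d22_1 D21323 (iv D21323) F64199
theorem F91796 : act 4 n21323 = n16146 := d33_1 D21323 (iv D16146) (iv F64200)
def n21324 : Q := act 5 n14650
theorem D21324 : act 5 n14650 = n21324 := rfl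
theorem F91797 : act 0 n21324 = n14667 := d4_1 D21324 (iv D14667) (iv F64201)
theorem F91798 : act 2 n21324 = n14658 := d19_1 D21324 (iv D14658) (iv F64202)
theorem F91799 : act 4 n21324 = n14766 := d30_1 D21324 (iv D14766) F45345 (iv F45080) (iv F64203)
def n21325 : Q := act 7 n14650
theorem D21325 : act 7 n14650 = n21325 := rfl
theorem F91800 : act 0 n21325 = n14668 := d6_1 D21325 (iv D14668) (iv F64201)
theorem F91801 : act 2 n21325 = n14659 := d21_1 D21325 (iv D14659) (iv F64202)
theorem F91802 : act 4 n21325 = n14652 := d32_1 D21325 (iv D14652) (iv F64203)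
def n21326 : Q := act 8 n14650
theorem D21326 : act 8 n14650 = n21326 := rfl
theorem F91803 : act 0 n21326 = n14669 := d7_1 D21326 (iv D14669) (iv F64201)
theorem F91804 : act 2 n21326 = n14660 := d22_1 D21326 (iv D14660) (iv F64202)
theorem F91805 : act 4 n21326 = n14653 := d33_1 D21326 (iv D14653) (iv F64203)
theorem F91806 : act 6 n21326 = n14651 := d40_1 D21326 (iv D14651) D14650
def n21327 : Q := act 3 n14651
theorem D21327 : act 3 n14651 = n21327 := rfl
theorem F91807 : act 0 n21327 = n14670 := d2_1 D21327 (iv D14670) (iv F64204)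
def n21328 : Q := act 9 n14651
theorem D21328 : act 9 n14651 = n21328 := rfl
theorem F91808 : act 0 n21328 = n14671 := d8_1 D21328 (iv D14671) (iv F64204)
theorem F91809 : act 2 n21328 = n14662 := d23_1 D21328 (iv D14662) (iv F64205)
theorem F91810 : act 4 n21328 = n14655 := d34_1 D21328 (iv D14655) (iv F64206)
def n21329 : Q := act 8 n14652
theorem D21329 : act 8 n14652 = n21329 := rfl
theorem F91811 : act 0 n21329 = n14672 := d7_1 D21329 (iv D14672) (iv F64207)
theorem F91812 : act 2 n21329 = n14663 := d22_1 D21329 (iv D14663) (iv F64208)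
theorem F91813 : act 5 n21329 = n14771 := d37_1 D21329 (iv D14771) (iv F64210)
theorem F91814 : act 7 n21329 = n14653 := d42_1 D21329 (iv D14653) D14652
def n21330 : Q := act 3 n14653
theorem D21330 : act 3 n14653 = n21330 := rfl
theorem F91815 : act 0 n21330 = n14673 := d2_1 D21330 (iv D14673) (iv F64211)
theorem F91817 : act 5 n21330 = n14772 := d25_2 (iv F64213) D21330 (iv D14772)
def n21331 : Q := act 9 n14653
theorem D21331 : act 9 n14653 = n21331 := rfl
theorem F91820 : act 0 n21331 = n14674 := d8_1 D21331 (iv D14674) (iv F64211)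
theorem F91821 : act 2 n21331 = n14664 := d23_1 D21331 (iv D14664) (iv F64212)
theorem F91822 : act 5 n21331 = n14773 := d38_1 D21331 (iv D14773) (iv F64213)
theorem F91823 : act 6 n21331 = n14655 := d41_1 D21331 (iv D14655) (iv F64214)
def n21332 : Q := act 4 n14654
theorem D21332 : act 4 n14654 = n21332 := rfl
theorem F91824 : act 0 n21332 = n14675 := d3_1 D21332 (iv D14675) (iv F64215)
theorem F91826 : act 8 n21332 = n16155 := d33_2 (iv F64218) D21332 (iv D16155)
def n21334 : Q := act 5 n14656
theorem D21334 : act 5 n14656 = n21334 := rfl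
theorem F91831 : act 0 n21334 = n14677 := d4_1 D21334 (iv D14677) (iv F64222)
theorem F91833 : act 8 n21334 = n16157 := d37_2 (iv F64225) D21334 (iv D16157)
def n21335 : Q := act 9 n14656
theorem D21335 : act 9 n14656 = n21335 := rfl
def n21337 : Q := act 7 n14658
theorem D21337 : act 7 n14658 = n21337 := rfl
theorem F91842 : act 0 n21337 = n14680 := d6_1 D21337 (iv D14680) (iv F64230)
theorem F91843 : act 1 n21337 = n21337 := d14_1 D21337 (iv D21337) F64231
theorem F91844 : act 3 n21337 = n21337 := d27_1 D21337 (iv D21337) F64232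
theorem F91845 : act 4 n21337 = n14779 := d32_1 D21337 (iv D14779) (iv F64233)
theorem F91846 : act 5 n21337 = n14659 := d36_1 D21337 (iv D14659) D14658
def n21338 : Q := act 8 n14658
theorem D21338 : act 8 n14658 = n21338 := rfl
theorem F91847 : act 0 n21338 = n14681 := d7_1 D21338 (iv D14681) (iv F64230)
theorem F91848 : act 1 n21338 = n21338 := d15_1 D21338 (iv D21338) F64231
theorem F91849 : act 4 n21338 = n14780 := d33_1 D21338 (iv D14780) (iv F64233)
theorem F91850 : act 5 n21338 = n14660 := d37_1 D21338 (iv D14660) D14658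
def n21339 : Q := act 8 n14659
theorem D21339 : act 8 n14659 = n21339 := rfl
theorem F91851 : act 0 n21339 = n14682 := d7_1 D21339 (iv D14682) (iv F64234)
theorem F91852 : act 1 n21339 = n21339 := d15_1 D21339 (iv D21339) F64235
theorem F91853 : act 4 n21339 = n14663 := d33_1 D21339 (iv D14663) (iv F64237)
theorem F91854 : act 7 n21339 = n14660 := d42_1 D21339 (iv D14660) D14659
def n21340 : Q := act 3 n14660
theorem D21340 : act 3 n14660 = n21340 := rfl
theorem F91855 : act 0 n21340 = n14683 := d2_1 D21340 (iv D14683) (iv F64238)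
theorem F91856 : act 1 n21340 = n21340 := d10_1 D21340 (iv D21340) F64239
theorem F91857 : act 4 n21340 = n15082 := d24_2 (iv F64240) D21340 (iv D15082) F46241 (iv F45104)
theorem F91858 : act 6 n21340 = n14661 := d26_2 (iv F64241) D21340 (iv D14661)
theorem F91859 : act 8 n21340 = n21340 := d28_2 D14660 D21340 (iv D21340) (iv D14660) F45093
def n21341 : Q := act 9 n14660
theorem D21341 : act 9 n14660 = n21341 := rfl
theorem F91860 : act 0 n21341 = n14684 := d8_1 D21341 (iv D14684) (iv F64238)
theorem F91861 : act 1 n21341 = n21341 := d16_1 D21341 (iv D21341) F64239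
theorem F91862 : act 4 n21341 = n14664 := d34_1 D21341 (iv D14664) (iv F64240)
theorem F91863 : act 6 n21341 = n14662 := d41_1 D21341 (iv D14662) (iv F64241)
def n21342 : Q := act 2 n14661
theorem D21342 : act 2 n14661 = n21342 := rfl
theorem F91864 : act 0 n21342 = n14685 := d1_1 D21342 (iv D14685) (iv F64242)
theorem F91865 : act 4 n21342 = n15084 := d18_2 (iv F64244) D21342 (iv D15084)
theorem F91866 : act 8 n21342 = n21342 := d22_2 F64245 D21342 (iv D21342)
def n21343 : Q := act 9 n14661
theorem D21343 : act 9 n14661 = n21343 := rfl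
theorem F91867 : act 0 n21343 = n14686 := d8_1 D21343 (iv D14686) (iv F64242)
theorem F91868 : act 1 n21343 = n21343 := d16_1 D21343 (iv D21343) F64243
theorem F91869 : act 3 n21343 = n14662 := d29_1 D21343 (iv D14662) D14661
theorem F91870 : act 4 n21343 = n15085 := d34_1 D21343 (iv D15085) (iv F64244)
def n21344 : Q := act 9 n14663
theorem D21344 : act 9 n14663 = n21344 := rfl
theorem F91871 : act 0 n21344 = n14687 := d8_1 D21344 (iv D14687) (iv F64249)
theorem F91872 : act 1 n21344 = n21344 := d16_1 D21344 (iv D21344) F64250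
theorem F91873 : act 3 n21344 = n15086 := d29_1 D21344 (iv D15086) (iv F64251)
theorem F91874 : act 5 n21344 = n14786 := d38_1 D21344 (iv D14786) (iv F64252)
theorem F91875 : act 7 n21344 = n14664 := d43_1 D21344 (iv D14664) (iv F64253)
def n21345 : Q := act 5 n14665
theorem D21345 : act 5 n14665 = n21345 := rfl
theorem F91876 : act 2 n21345 = n21345 := d19_1 D21345 (iv D21345) F64259
theorem F91877 : act 3 n21345 = n14667 := d25_1 D21345 (iv D14667) (iv F64260)
def n21346 : Q := act 7 n14665
theorem D21346 : act 7 n14665 = n21346 := rfl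
theorem F91878 : act 2 n21346 = n21346 := d21_1 D21346 (iv D21346) F64259
theorem F91879 : act 3 n21346 = n14668 := d27_1 D21346 (iv D14668) (iv F64260)
theorem F91880 : act 4 n21346 = n16169 := d32_1 D21346 (iv D16169) (iv F64261)
def n21347 : Q := act 8 n14665
theorem D21347 : act 8 n14665 = n21347 := rfl
theorem F91881 : act 2 n21347 = n21347 := d22_1 D21347 (iv D21347) F64259
theorem F91882 : act 4 n21347 = n16170 := d33_1 D21347 (iv D16170) (iv F64261)
theorem F91883 : act 6 n21347 = n14666 := d40_1 D21347 (iv D14666) D14665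
def n21348 : Q := act 3 n14666
theorem D21348 : act 3 n14666 = n21348 := rfl
theorem F91884 : act 8 n21348 = n14670 := d28_2 D14666 D21348 (iv D14670) (iv D10094) D10092
def n21349 : Q := act 9 n14666
theorem D21349 : act 9 n14666 = n21349 := rfl
theorem F91885 : act 2 n21349 = n21349 := d23_1 D21349 (iv D21349) F64262
theorem F91886 : act 4 n21349 = n16172 := d34_1 D21349 (iv D16172) (iv F64263)
def n21350 : Q := act 7 n14667
theorem D21350 : act 7 n14667 = n21350 := rfl
theorem F91887 : act 2 n21350 = n14680 := d21_1 D21350 (iv D14680) (iv F64264)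
theorem F91888 : act 4 n21350 = n14792 := d32_1 D21350 (iv D14792) (iv F64265)
theorem F91889 : act 5 n21350 = n14668 := d36_1 D21350 (iv D14668) D14667
def n21351 : Q := act 8 n14667
theorem D21351 : act 8 n14667 = n21351 := rfl
theorem F91890 : act 2 n21351 = n14681 := d22_1 D21351 (iv D14681) (iv F64264)
theorem F91891 : act 4 n21351 = n14793 := d33_1 D21351 (iv D14793) (iv F64265)
theorem F91892 : act 5 n21351 = n14669 := d37_1 D21351 (iv D14669) D14667
def n21352 : Q := act 8 n14668
theorem D21352 : act 8 n14668 = n21352 := rfl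
theorem F91893 : act 2 n21352 = n14682 := d22_1 D21352 (iv D14682) (iv F64266)
theorem F91894 : act 4 n21352 = n14672 := d33_1 D21352 (iv D14672) (iv F64267)
theorem F91895 : act 7 n21352 = n14669 := d42_1 D21352 (iv D14669) D14668
def n21353 : Q := act 3 n14669
theorem D21353 : act 3 n14669 = n21353 := rfl
theorem F91896 : act 6 n21353 = n14670 := d26_2 (iv F64270) D21353 (iv D14670)
def n21354 : Q := act 9 n14669
theorem D21354 : act 9 n14669 = n21354 := rfl
theorem F91897 : act 2 n21354 = n14684 := d23_1 D21354 (iv D14684) (iv F64268)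
theorem F91898 : act 4 n21354 = n14674 := d34_1 D21354 (iv D14674) (iv F64269)
theorem F91899 : act 6 n21354 = n14671 := d41_1 D21354 (iv D14671) (iv F64270)
def n21355 : Q := act 2 n14670
theorem D21355 : act 2 n14670 = n21355 := rfl
theorem F91900 : act 3 n21355 = n14685 := d17_2 D14670 D21355 (iv D14685) (iv D10104) (iv F45115)
def n21356 : Q := act 4 n14670
theorem D21356 : act 4 n14670 = n21356 := rfl
theorem F91901 : act 3 n21356 = n14675 := d24_1 D21356 (iv D14675) (iv D10097) (iv F45116) D14670
def n21357 : Q := act 9 n14670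
theorem D21357 : act 9 n14670 = n21357 := rfl
theorem F91902 : act 3 n21357 = n14671 := d29_1 D21357 (iv D14671) D14670
def n21358 : Q := act 3 n14672
theorem D21358 : act 3 n14672 = n21358 := rfl
theorem F91903 : act 2 n21358 = n15100 := d17_1 D21358 (iv D15100) F46291 (iv F45149) (iv F64273)
theorem F91904 : act 5 n21358 = n14800 := d25_2 (iv F64274) D21358 (iv D14800)
theorem F91905 : act 7 n21358 = n14673 := d27_2 (iv F64275) D21358 (iv D14673)
theorem F91906 : act 8 n21358 = n16181 := d28_2 D14672 D21358 (iv D16181) (iv D11121) (iv F45118)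
def n21359 : Q := act 9 n14672
theorem D21359 : act 9 n14672 = n21359 := rfl
theorem F91907 : act 2 n21359 = n14687 := d23_1 D21359 (iv D14687) (iv F64273)
theorem F91908 : act 5 n21359 = n14801 := d38_1 D21359 (iv D14801) (iv F64274)
theorem F91909 : act 7 n21359 = n14674 := d43_1 D21359 (iv D14674) (iv F64275)
def n21360 : Q := act 4 n14673
theorem D21360 : act 4 n14673 = n21360 := rfl
theorem F91910 : act 2 n21360 = n15102 := d18_1 D21360 (iv D15102) (iv F64276)
theorem F91911 : act 6 n21360 = n14675 := d31_2 (iv F64278) D21360 (iv D14675)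
theorem F91912 : act 8 n21360 = n16183 := d33_2 (iv F64279) D21360 (iv D16183)
def n21361 : Q := act 9 n14673
theorem D21361 : act 9 n14673 = n21361 := rfl
theorem F91913 : act 2 n21361 = n15103 := d23_1 D21361 (iv D15103) (iv F64276)
theorem F91914 : act 3 n21361 = n14674 := d29_1 D21361 (iv D14674) D14673
theorem F91915 : act 5 n21361 = n14803 := d38_1 D21361 (iv D14803) (iv F64277)
theorem F91916 : act 6 n21361 = n14676 := d41_1 D21361 (iv D14676) (iv F64278)
def n21362 : Q := act 5 n14675
theorem D21362 : act 5 n14675 = n21362 := rfl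
theorem F91917 : act 2 n21362 = n15104 := d19_1 D21362 (iv D15104) (iv F64283)
theorem F91918 : act 4 n21362 = n14677 := d30_1 D21362 (iv D14677) (iv D10099) (iv F45124) D14675
theorem F91919 : act 8 n21362 = n16185 := d37_2 (iv F64284) D21362 (iv D16185)
def n21363 : Q := act 9 n14675
theorem D21363 : act 9 n14675 = n21363 := rfl
theorem F91920 : act 2 n21363 = n15105 := d23_1 D21363 (iv D15105) (iv F64283)
theorem F91921 : act 4 n21363 = n14676 := d34_1 D21363 (iv D14676) D14675
def n21364 : Q := act 8 n14676
theorem D21364 : act 8 n14676 = n21364 := rfl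
theorem F91924 : act 9 n21364 = n16187 := d44_2 D14676 D21364 (iv D16187) (iv D11125) (iv F45125)
def n21365 : Q := act 6 n14677
theorem D21365 : act 6 n14677 = n21365 := rfl
theorem F91925 : act 2 n21365 = n15107 := d20_1 D21365 (iv D15107) (iv F64288)
theorem F91926 : act 5 n21365 = n14807 := d35_1 D21365 (iv D14807) (iv D10185) (iv F45129) D14677
theorem F91927 : act 8 n21365 = n16188 := d40_2 (iv F64289) D21365 (iv D16188)
def n21366 : Q := act 9 n14677
theorem D21366 : act 9 n14677 = n21366 := rfl
theorem F91928 : act 2 n21366 = n15108 := d23_1 D21366 (iv D15108) (iv F64288)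
theorem F91929 : act 5 n21366 = n14678 := d38_1 D21366 (iv D14678) D14677
def n21367 : Q := act 8 n14678
theorem D21367 : act 8 n14678 = n21367 := rfl
theorem F91933 : act 9 n21367 = n16190 := d44_2 D14678 D21367 (iv D16190) (iv D11127) (iv F45130)
def n21368 : Q := act 6 n14680
theorem D21368 : act 6 n14680 = n21368 := rfl
theorem F91934 : act 1 n21368 = n14688 := d13_1 D21368 (iv D14688) (iv F64296)
theorem F91935 : act 3 n21368 = n21368 := d26_1 D21368 (iv D21368) F64297
theorem F91936 : act 4 n21368 = n14810 := d31_1 D21368 (iv D14810) (iv F64298)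
def n21369 : Q := act 8 n14680
theorem D21369 : act 8 n14680 = n21369 := rfl
theorem F91937 : act 1 n21369 = n14689 := d15_1 D21369 (iv D14689) (iv F64296)
theorem F91938 : act 4 n21369 = n14811 := d33_1 D21369 (iv D14811) (iv F64298)
theorem F91939 : act 5 n21369 = n14682 := d37_1 D21369 (iv D14682) (iv F64299)
theorem F91940 : act 7 n21369 = n14681 := d42_1 D21369 (iv D14681) D14680
def n21370 : Q := act 3 n14681
theorem D21370 : act 3 n14681 = n21370 := rfl
theorem F91941 : act 1 n21370 = n14690 := d10_1 D21370 (iv D14690) (iv F64300)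
theorem F91942 : act 5 n21370 = n14683 := d25_2 (iv F64302) D21370 (iv D14683)
theorem F91943 : act 8 n21370 = n21370 := d28_2 D14681 D21370 (iv D21370) (iv D14681) F45135
def n21371 : Q := act 9 n14681
theorem D21371 : act 9 n14681 = n21371 := rfl
theorem F91944 : act 1 n21371 = n14691 := d16_1 D21371 (iv D14691) (iv F64300)
theorem F91945 : act 4 n21371 = n14813 := d34_1 D21371 (iv D14813) (iv F64301)
theorem F91946 : act 5 n21371 = n14684 := d38_1 D21371 (iv D14684) (iv F64302)
def n21372 : Q := act 3 n14682
theorem D21372 : act 3 n14682 = n21372 := rfl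
theorem F91947 : act 1 n21372 = n14692 := d10_1 D21372 (iv D14692) (iv F64303)
theorem F91948 : act 4 n21372 = n15114 := d24_2 (iv F64304) D21372 (iv D15114) F46329 (iv F45149)
theorem F91949 : act 7 n21372 = n14683 := d27_2 (iv F64305) D21372 (iv D14683)
theorem F91950 : act 8 n21372 = n21372 := d28_2 D14682 D21372 (iv D21372) (iv D14682) F45138
def n21373 : Q := act 9 n14682
theorem D21373 : act 9 n14682 = n21373 := rfl
theorem F91951 : act 1 n21373 = n14693 := d16_1 D21373 (iv D14693) (iv F64303)
theorem F91952 : act 4 n21373 = n14687 := d34_1 D21373 (iv D14687) (iv F64304)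
theorem F91953 : act 7 n21373 = n14684 := d43_1 D21373 (iv D14684) (iv F64305)
def n21374 : Q := act 2 n14683
theorem D21374 : act 2 n14683 = n21374 := rfl
theorem F91954 : act 4 n21374 = n15116 := d18_2 (iv F64307) D21374 (iv D15116)
theorem F91955 : act 6 n21374 = n14685 := d20_2 (iv F64308) D21374 (iv D14685)
theorem F91956 : act 8 n21374 = n21374 := d22_2 F64309 D21374 (iv D21374)
def n21375 : Q := act 9 n14683
theorem D21375 : act 9 n14683 = n21375 := rfl
theorem F91957 : act 1 n21375 = n14695 := d16_1 D21375 (iv D14695) (iv F64306)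
theorem F91958 : act 3 n21375 = n14684 := d29_1 D21375 (iv D14684) D14683
theorem F91959 : act 4 n21375 = n15117 := d34_1 D21375 (iv D15117) (iv F64307)
theorem F91960 : act 6 n21375 = n14686 := d41_1 D21375 (iv D14686) (iv F64308)
def n21376 : Q := act 1 n14685
theorem D21376 : act 1 n14685 = n21376 := rfl
theorem F91961 : act 2 n21376 = n14696 := d9_2 D14685 D21376 (iv D14696) (iv D10113) (iv F45143)
theorem F91962 : act 4 n21376 = n15118 := d11_2 (iv F64313) D21376 (iv D15118)
theorem F91963 : act 8 n21376 = n21376 := d15_2 F64314 D21376 (iv D21376)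
def n21377 : Q := act 9 n14685
theorem D21377 : act 9 n14685 = n21377 := rfl
theorem F91964 : act 2 n21377 = n14686 := d23_1 D21377 (iv D14686) D14685
theorem F91965 : act 4 n21377 = n15119 := d34_1 D21377 (iv D15119) (iv F64313)
def n21378 : Q := act 8 n14686
theorem D21378 : act 8 n14686 = n21378 := rfl
theorem F91966 : act 1 n21378 = n14698 := d15_1 D21378 (iv D14698) (iv F64315)
theorem F91967 : act 4 n21378 = n15120 := d33_1 D21378 (iv D15120) (iv F64317)
theorem F91968 : act 9 n21378 = n21378 := d44_2 D14686 D21378 (iv D21378) (iv D14686) F45145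
def n21379 : Q := act 8 n14688
theorem D21379 : act 8 n14688 = n21379 := rfl
theorem F91969 : act 0 n21379 = n21379 := d7_1 D21379 (iv D21379) F64322
theorem F91970 : act 4 n21379 = n14821 := d33_1 D21379 (iv D14821) (iv F64324)
theorem F91971 : act 6 n21379 = n14689 := d40_1 D21379 (iv D14689) D14688
def n21380 : Q := act 3 n14689
theorem D21380 : act 3 n14689 = n21380 := rfl
theorem F91972 : act 0 n21380 = n21380 := d2_1 D21380 (iv D21380) F64325
theorem F91973 : act 5 n21380 = n14692 := d25_2 (iv F64327) D21380 (iv D14692)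
theorem F91974 : act 7 n21380 = n14690 := d27_2 (iv F64328) D21380 (iv D14690)
theorem F91975 : act 8 n21380 = n21380 := d28_2 D14689 D21380 (iv D21380) (iv D14689) F45157
def n21381 : Q := act 9 n14689
theorem D21381 : act 9 n14689 = n21381 := rfl
theorem F91976 : act 0 n21381 = n21381 := d8_1 D21381 (iv D21381) F64325
theorem F91977 : act 4 n21381 = n14823 := d34_1 D21381 (iv D14823) (iv F64326)
theorem F91978 : act 5 n21381 = n14693 := d38_1 D21381 (iv D14693) (iv F64327)
theorem F91979 : act 7 n21381 = n14691 := d43_1 D21381 (iv D14691) (iv F64328)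
def n21382 : Q := act 2 n14690
theorem D21382 : act 2 n14690 = n21382 := rfl
theorem F91980 : act 0 n21382 = n21382 := d1_1 D21382 (iv D21382) F64329
theorem F91981 : act 5 n21382 = n14694 := d19_2 (iv F64330) D21382 (iv D14694)
theorem F91982 : act 8 n21382 = n21382 := d22_2 F64331 D21382 (iv D21382)
def n21383 : Q := act 4 n14690
theorem D21383 : act 4 n14690 = n21383 := rfl
theorem F91983 : act 0 n21383 = n21383 := d3_1 D21383 (iv D21383) F64329
theorem F91984 : act 3 n21383 = n14825 := d24_1 D21383 (iv D14825) (iv D10198) (iv F45161) D14690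
theorem F91985 : act 5 n21383 = n15125 := d30_2 (iv F64330) D21383 (iv D15125) F46359 (iv F45167)
theorem F91986 : act 8 n21383 = n21383 := d33_2 F64331 D21383 (iv D21383)
def n21384 : Q := act 9 n14690
theorem D21384 : act 9 n14690 = n21384 := rfl
theorem F91987 : act 0 n21384 = n21384 := d8_1 D21384 (iv D21384) F64329
theorem F91988 : act 3 n21384 = n14691 := d29_1 D21384 (iv D14691) D14690
theorem F91989 : act 5 n21384 = n14695 := d38_1 D21384 (iv D14695) (iv F64330)
def n21385 : Q := act 2 n14692
theorem D21385 : act 2 n14692 = n21385 := rfl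
theorem F91990 : act 0 n21385 = n21385 := d1_1 D21385 (iv D21385) F64335
theorem F91991 : act 4 n21385 = n15127 := d18_2 (iv F64336) D21385 (iv D15127)
theorem F91992 : act 7 n21385 = n14694 := d21_2 (iv F64337) D21385 (iv D14694)
theorem F91993 : act 8 n21385 = n21385 := d22_2 F64338 D21385 (iv D21385)
def n21386 : Q := act 9 n14692
theorem D21386 : act 9 n14692 = n21386 := rfl
theorem F91994 : act 0 n21386 = n21386 := d8_1 D21386 (iv D21386) F64335
theorem F91995 : act 3 n21386 = n14693 := d29_1 D21386 (iv D14693) D14692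
theorem F91996 : act 4 n21386 = n15128 := d34_1 D21386 (iv D15128) (iv F64336)
theorem F91997 : act 7 n21386 = n14695 := d43_1 D21386 (iv D14695) (iv F64337)
def n21387 : Q := act 1 n14694
theorem D21387 : act 1 n14694 = n21387 := rfl
theorem F91998 : act 4 n21387 = n15129 := d11_2 (iv F64343) D21387 (iv D15129)
theorem F91999 : act 6 n21387 = n14696 := d13_2 (iv F64344) D21387 (iv D14696)
theorem F92000 : act 8 n21387 = n21387 := d15_2 F64345 D21387 (iv D21387)
def n21388 : Q := act 9 n14694
theorem D21388 : act 9 n14694 = n21388 := rfl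
theorem F92001 : act 0 n21388 = n21388 := d8_1 D21388 (iv D21388) F64342
theorem F92002 : act 2 n21388 = n14695 := d23_1 D21388 (iv D14695) D14694
theorem F92003 : act 4 n21388 = n15130 := d34_1 D21388 (iv D15130) (iv F64343)
theorem F92004 : act 6 n21388 = n14697 := d41_1 D21388 (iv D14697) (iv F64344)
def n21389 : Q := act 8 n14695
theorem D21389 : act 8 n14695 = n21389 := rfl
theorem F92005 : act 0 n21389 = n21389 := d7_1 D21389 (iv D21389) F64346
theorem F92006 : act 4 n21389 = n15131 := d33_1 D21389 (iv D15131) (iv F64348)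
theorem F92007 : act 6 n21389 = n14698 := d40_1 D21389 (iv D14698) (iv F64349)
theorem F92008 : act 9 n21389 = n21389 := d44_2 D14695 D21389 (iv D21389) (iv D14695) F45169
def n21390 : Q := act 0 n14696
theorem D21390 : act 0 n14696 = n21390 := rfl
theorem F92009 : act 1 n21390 = n21390 := d0_2 D14696 D21390 (iv D21390) (iv D14696) F45173
theorem F92010 : act 4 n21390 = n15132 := d3_2 (iv F64350) D21390 (iv D15132)
theorem F92011 : act 8 n21390 = n21390 := d7_2 F64351 D21390 (iv D21390)
def n21391 : Q := act 9 n14696
theorem D21391 : act 9 n14696 = n21391 := rfl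
theorem F92012 : act 1 n21391 = n14697 := d16_1 D21391 (iv D14697) D14696
theorem F92013 : act 4 n21391 = n15133 := d34_1 D21391 (iv D15133) (iv F64350)
def n21392 : Q := act 8 n14697
theorem D21392 : act 8 n14697 = n21392 := rfl
theorem F92014 : act 0 n21392 = n21392 := d7_1 D21392 (iv D21392) F64352
theorem F92015 : act 2 n21392 = n14698 := d22_1 D21392 (iv D14698) (iv F64353)
theorem F92016 : act 4 n21392 = n15134 := d33_1 D21392 (iv D15134) (iv F64354)
theorem F92017 : act 9 n21392 = n21392 := d44_2 D14697 D21392 (iv D21392) (iv D14697) F45175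
def n21393 : Q := act 3 n14699
theorem D21393 : act 3 n14699 = n21393 := rfl
theorem F92018 : act 1 n21393 = n14704 := d10_1 D21393 (iv D14704) (iv F64358)
theorem F92019 : act 4 n21393 = n16215 := d24_2 D14699 D21393 (iv D16215) (iv D11148) (iv F45185)
theorem F92021 : act 9 n21393 = n14754 := d29_2 (iv F64361) D21393 (iv D14754)
def n21394 : Q := act 6 n14699
theorem D21394 : act 6 n14699 = n21394 := rfl
theorem F92022 : act 1 n21394 = n14705 := d13_1 D21394 (iv D14705) (iv F64358)
theorem F92023 : act 2 n21394 = n21394 := d20_1 D21394 (iv D21394) F64359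
theorem F92024 : act 4 n21394 = n14700 := d31_1 D21394 (iv D14700) D14699
theorem F92025 : act 9 n21394 = n14755 := d41_2 (iv F64361) D21394 (iv D14755)
def n21395 : Q := act 8 n14699
theorem D21395 : act 8 n14699 = n21395 := rfl
theorem F92026 : act 1 n21395 = n14706 := d15_1 D21395 (iv D14706) (iv F64358)
theorem F92028 : act 4 n21395 = n14701 := d33_1 D21395 (iv D14701) D14699
def n21396 : Q := act 7 n14700
theorem D21396 : act 7 n14700 = n21396 := rfl
theorem F92030 : act 1 n21396 = n14707 := d14_1 D21396 (iv D14707) (iv F64362)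
theorem F92031 : act 2 n21396 = n21396 := d21_1 D21396 (iv D21396) F64363
theorem F92032 : act 3 n21396 = n16218 := d27_1 D21396 (iv D16218) (iv F64364)
theorem F92033 : act 6 n21396 = n21396 := d39_1 D21396 (iv D21396) (iv D14700) F45186 D14700
theorem F92034 : act 9 n21396 = n14757 := d43_2 (iv F64365) D21396 (iv D14757)
def n21397 : Q := act 8 n14700
theorem D21397 : act 8 n14700 = n21397 := rfl
def n21398 : Q := act 3 n14701
theorem D21398 : act 3 n14701 = n21398 := rfl
theorem F92041 : act 8 n21398 = n16220 := d28_2 D14701 D21398 (iv D16220) (iv D11150) (iv F45185)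
def n21401 : Q := act 4 n14702
theorem D21401 : act 4 n14702 = n21401 := rfl
theorem F92053 : act 8 n21401 = n16223 := d33_2 (iv F64372) D21401 (iv D16223)
def n21403 : Q := act 6 n14704
theorem D21403 : act 6 n14704 = n21403 := rfl
theorem F92057 : act 0 n21403 = n14720 := d5_1 D21403 (iv D14720) (iv F64377)
theorem F92058 : act 2 n21403 = n14845 := d20_1 D21403 (iv D14845) (iv F64378)
theorem F92059 : act 3 n21403 = n14705 := d26_1 D21403 (iv D14705) D14704
theorem F92060 : act 4 n21403 = n16225 := d31_1 D21403 (iv D16225) (iv F64379)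
theorem F92061 : act 9 n21403 = n14764 := d41_2 (iv F64381) D21403 (iv D14764)
def n21404 : Q := act 8 n14704
theorem D21404 : act 8 n14704 = n21404 := rfl
theorem F92062 : act 0 n21404 = n14721 := d7_1 D21404 (iv D14721) (iv F64377)
theorem F92064 : act 4 n21404 = n16226 := d33_1 D21404 (iv D16226) (iv F64379)
def n21405 : Q := act 5 n14705
theorem D21405 : act 5 n14705 = n21405 := rfl
theorem F92066 : act 0 n21405 = n14722 := d4_1 D21405 (iv D14722) (iv F64382)
theorem F92067 : act 2 n21405 = n14713 := d19_1 D21405 (iv D14713) (iv F64383)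
theorem F92068 : act 9 n21405 = n14766 := d38_2 (iv F64385) D21405 (iv D14766)
def n21406 : Q := act 7 n14705
theorem D21406 : act 7 n14705 = n21406 := rfl
theorem F92069 : act 0 n21406 = n14723 := d6_1 D21406 (iv D14723) (iv F64382)
theorem F92070 : act 2 n21406 = n14714 := d21_1 D21406 (iv D14714) (iv F64383)
theorem F92071 : act 4 n21406 = n14707 := d32_1 D21406 (iv D14707) (iv F64384)
theorem F92072 : act 6 n21406 = n21406 := d39_1 D21406 (iv D21406) (iv D14705) F45193 D14705
theorem F92073 : act 9 n21406 = n14767 := d43_2 (iv F64385) D21406 (iv D14767)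
def n21407 : Q := act 8 n14705
theorem D21407 : act 8 n14705 = n21407 := rfl
theorem F92074 : act 0 n21407 = n14724 := d7_1 D21407 (iv D14724) (iv F64382)
theorem F92075 : act 2 n21407 = n14715 := d22_1 D21407 (iv D14715) (iv F64383)
theorem F92076 : act 4 n21407 = n14708 := d33_1 D21407 (iv D14708) (iv F64384)
theorem F92077 : act 6 n21407 = n14706 := d40_1 D21407 (iv D14706) D14705
def n21408 : Q := act 3 n14706
theorem D21408 : act 3 n14706 = n21408 := rfl
theorem F92078 : act 0 n21408 = n14725 := d2_1 D21408 (iv D14725) (iv F64386)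
theorem F92079 : act 7 n21408 = n21408 := d27_2 F64389 D21408 (iv D21408)
def n21409 : Q := act 9 n14706
theorem D21409 : act 9 n14706 = n21409 := rfl
theorem F92080 : act 0 n21409 = n14726 := d8_1 D21409 (iv D14726) (iv F64386)
theorem F92081 : act 2 n21409 = n14717 := d23_1 D21409 (iv D14717) (iv F64387)
theorem F92082 : act 4 n21409 = n14710 := d34_1 D21409 (iv D14710) (iv F64388)
theorem F92083 : act 7 n21409 = n21409 := d43_1 D21409 (iv D21409) F64389
theorem F92084 : act 8 n21409 = n14770 := d44_1 D21409 (iv D14770) (iv D10159) (iv F45194) D14706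
def n21410 : Q := act 8 n14707
theorem D21410 : act 8 n14707 = n21410 := rfl
theorem F92085 : act 0 n21410 = n14727 := d7_1 D21410 (iv D14727) (iv F64390)
theorem F92086 : act 2 n21410 = n14718 := d22_1 D21410 (iv D14718) (iv F64391)
theorem F92087 : act 6 n21410 = n21410 := d40_1 D21410 (iv D21410) F64393
theorem F92088 : act 7 n21410 = n14708 := d42_1 D21410 (iv D14708) D14707
def n21411 : Q := act 3 n14708
theorem D21411 : act 3 n14708 = n21411 := rfl
theorem F92092 : act 8 n21411 = n16233 := d28_2 D14708 D21411 (iv D16233) (iv D11157) (iv F45197)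
def n21412 : Q := act 9 n14708
theorem D21412 : act 9 n14708 = n21412 := rfl
theorem F92093 : act 0 n21412 = n14729 := d8_1 D21412 (iv D14729) (iv F64395)
theorem F92094 : act 2 n21412 = n14719 := d23_1 D21412 (iv D14719) (iv F64396)
theorem F92095 : act 6 n21412 = n14710 := d41_1 D21412 (iv D14710) (iv F64397)
theorem F92096 : act 8 n21412 = n14773 := d44_1 D21412 (iv D14773) (iv D10161) (iv F45198) D14708
def n21413 : Q := act 4 n14709
theorem D21413 : act 4 n14709 = n21413 := rfl
theorem F92100 : act 8 n21413 = n16235 := d33_2 (iv F64402) D21413 (iv D16235)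
def n21415 : Q := act 5 n14711
theorem D21415 : act 5 n14711 = n21415 := rfl
theorem F92109 : act 8 n21415 = n16237 := d37_2 (iv F64411) D21415 (iv D16237)
def n21418 : Q := act 7 n14713
theorem D21418 : act 7 n14713 = n21418 := rfl
theorem F92119 : act 0 n21418 = n14735 := d6_1 D21418 (iv D14735) (iv F64416)
theorem F92120 : act 1 n21418 = n21418 := d14_1 D21418 (iv D21418) F64417
theorem F92121 : act 3 n21418 = n14859 := d27_1 D21418 (iv D14859) (iv F64418)
theorem F92122 : act 5 n21418 = n14714 := d36_1 D21418 (iv D14714) D14713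
theorem F92123 : act 9 n21418 = n14779 := d43_2 (iv F64419) D21418 (iv D14779)
def n21419 : Q := act 8 n14713
theorem D21419 : act 8 n14713 = n21419 := rfl
theorem F92124 : act 0 n21419 = n14736 := d7_1 D21419 (iv D14736) (iv F64416)
theorem F92125 : act 1 n21419 = n21419 := d15_1 D21419 (iv D21419) F64417
theorem F92126 : act 5 n21419 = n14715 := d37_1 D21419 (iv D14715) D14713
def n21420 : Q := act 8 n14714
theorem D21420 : act 8 n14714 = n21420 := rfl
theorem F92127 : act 0 n21420 = n14737 := d7_1 D21420 (iv D14737) (iv F64420)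
theorem F92128 : act 1 n21420 = n21420 := d15_1 D21420 (iv D21420) F64421
theorem F92129 : act 4 n21420 = n14718 := d33_1 D21420 (iv D14718) (iv F64423)
theorem F92130 : act 6 n21420 = n21420 := d40_1 D21420 (iv D21420) F64424
theorem F92131 : act 7 n21420 = n14715 := d42_1 D21420 (iv D14715) D14714
def n21421 : Q := act 3 n14715
theorem D21421 : act 3 n14715 = n21421 := rfl
theorem F92132 : act 0 n21421 = n14738 := d2_1 D21421 (iv D14738) (iv F64426)
theorem F92136 : act 8 n21421 = n14862 := d28_2 D14715 D21421 (iv D14862) (iv D10223) (iv F45213)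
def n21422 : Q := act 9 n14715
theorem D21422 : act 9 n14715 = n21422 := rfl
theorem F92137 : act 0 n21422 = n14739 := d8_1 D21422 (iv D14739) (iv F64426)
theorem F92138 : act 1 n21422 = n21422 := d16_1 D21422 (iv D21422) F64427
theorem F92139 : act 4 n21422 = n14719 := d34_1 D21422 (iv D14719) (iv F64428)
theorem F92140 : act 6 n21422 = n14717 := d41_1 D21422 (iv D14717) (iv F64429)
theorem F92141 : act 8 n21422 = n14783 := d44_1 D21422 (iv D14783) (iv D10168) (iv F45215) D14715
def n21423 : Q := act 2 n14716
theorem D21423 : act 2 n14716 = n21423 := rfl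
theorem F92142 : act 0 n21423 = n14740 := d1_1 D21423 (iv D14740) (iv F64430)
theorem F92145 : act 8 n21423 = n14864 := d22_2 (iv F64434) D21423 (iv D14864)
def n21424 : Q := act 9 n14716
theorem D21424 : act 9 n14716 = n21424 := rfl
theorem F92146 : act 0 n21424 = n14741 := d8_1 D21424 (iv D14741) (iv F64430)
theorem F92148 : act 3 n21424 = n14717 := d29_1 D21424 (iv D14717) D14716
def n21425 : Q := act 9 n14718
theorem D21425 : act 9 n14718 = n21425 := rfl
theorem F92151 : act 0 n21425 = n14742 := d8_1 D21425 (iv D14742) (iv F64440)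
theorem F92152 : act 1 n21425 = n21425 := d16_1 D21425 (iv D21425) F64441
theorem F92153 : act 3 n21425 = n21425 := d29_1 D21425 (iv D21425) F64442
theorem F92154 : act 6 n21425 = n21425 := d41_1 D21425 (iv D21425) F64443
theorem F92155 : act 7 n21425 = n14719 := d43_1 D21425 (iv D14719) (iv F64444)
theorem F92156 : act 8 n21425 = n14786 := d44_1 D21425 (iv D14786) (iv D10171) (iv F45224) D14718
def n21426 : Q := act 5 n14720
theorem D21426 : act 5 n14720 = n21426 := rfl
theorem F92157 : act 2 n21426 = n14867 := d19_1 D21426 (iv D14867) (iv F64450)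
theorem F92158 : act 3 n21426 = n14722 := d25_1 D21426 (iv D14722) (iv F64451)
theorem F92159 : act 9 n21426 = n14787 := d38_2 (iv F64453) D21426 (iv D14787)
def n21427 : Q := act 7 n14720
theorem D21427 : act 7 n14720 = n21427 := rfl
theorem F92160 : act 2 n21427 = n14868 := d21_1 D21427 (iv D14868) (iv F64450)
theorem F92161 : act 3 n21427 = n14723 := d27_1 D21427 (iv D14723) (iv F64451)
theorem F92162 : act 4 n21427 = n16249 := d32_1 D21427 (iv D16249) (iv F64452)
theorem F92163 : act 6 n21427 = n21427 := d39_1 D21427 (iv D21427) (iv D14720) F45237 D14720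
theorem F92164 : act 9 n21427 = n14788 := d43_2 (iv F64453) D21427 (iv D14788)
def n21428 : Q := act 8 n14720
theorem D21428 : act 8 n14720 = n21428 := rfl
theorem F92165 : act 2 n21428 = n14869 := d22_1 D21428 (iv D14869) (iv F64450)
theorem F92166 : act 4 n21428 = n16250 := d33_1 D21428 (iv D16250) (iv F64452)
theorem F92167 : act 6 n21428 = n14721 := d40_1 D21428 (iv D14721) D14720
def n21429 : Q := act 3 n14721
theorem D21429 : act 3 n14721 = n21429 := rfl
theorem F92168 : act 7 n21429 = n21429 := d27_2 F64456 D21429 (iv D21429)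
theorem F92169 : act 8 n21429 = n14725 := d28_2 D14721 D21429 (iv D14725) (iv D10130) D10128
def n21430 : Q := act 9 n14721
theorem D21430 : act 9 n14721 = n21430 := rfl
theorem F92170 : act 2 n21430 = n14871 := d23_1 D21430 (iv D14871) (iv F64454)
theorem F92171 : act 4 n21430 = n16252 := d34_1 D21430 (iv D16252) (iv F64455)
theorem F92172 : act 7 n21430 = n21430 := d43_1 D21430 (iv D21430) F64456
theorem F92173 : act 8 n21430 = n14791 := d44_1 D21430 (iv D14791) (iv D10174) (iv F45238) D14721
def n21431 : Q := act 7 n14722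
theorem D21431 : act 7 n14722 = n21431 := rfl
theorem F92174 : act 2 n21431 = n14735 := d21_1 D21431 (iv D14735) (iv F64457)
theorem F92175 : act 5 n21431 = n14723 := d36_1 D21431 (iv D14723) D14722
theorem F92176 : act 9 n21431 = n14792 := d43_2 (iv F64458) D21431 (iv D14792)
def n21432 : Q := act 8 n14722
theorem D21432 : act 8 n14722 = n21432 := rfl
theorem F92177 : act 2 n21432 = n14736 := d22_1 D21432 (iv D14736) (iv F64457)
theorem F92178 : act 5 n21432 = n14724 := d37_1 D21432 (iv D14724) D14722
def n21433 : Q := act 8 n14723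
theorem D21433 : act 8 n14723 = n21433 := rfl
theorem F92179 : act 2 n21433 = n14737 := d22_1 D21433 (iv D14737) (iv F64459)
theorem F92180 : act 4 n21433 = n14727 := d33_1 D21433 (iv D14727) (iv F64460)
theorem F92181 : act 6 n21433 = n21433 := d40_1 D21433 (iv D21433) F64461
theorem F92182 : act 7 n21433 = n14724 := d42_1 D21433 (iv D14724) D14723
def n21434 : Q := act 3 n14724
theorem D21434 : act 3 n14724 = n21434 := rfl
theorem F92183 : act 6 n21434 = n14725 := d26_2 (iv F64465) D21434 (iv D14725)
def n21435 : Q := act 9 n14724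
theorem D21435 : act 9 n14724 = n21435 := rfl
theorem F92184 : act 2 n21435 = n14739 := d23_1 D21435 (iv D14739) (iv F64463)
theorem F92185 : act 4 n21435 = n14729 := d34_1 D21435 (iv D14729) (iv F64464)
theorem F92186 : act 6 n21435 = n14726 := d41_1 D21435 (iv D14726) (iv F64465)
theorem F92187 : act 8 n21435 = n14796 := d44_1 D21435 (iv D14796) (iv D10177) (iv F45241) D14724
def n21436 : Q := act 2 n14725
theorem D21436 : act 2 n14725 = n21436 := rfl
theorem F92188 : act 3 n21436 = n14740 := d17_2 D14725 D21436 (iv D14740) (iv D10140) (iv F45242)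
theorem F92189 : act 7 n21436 = n21436 := d21_2 F64466 D21436 (iv D21436)
def n21437 : Q := act 4 n14725
theorem D21437 : act 4 n14725 = n21437 := rfl
theorem F92190 : act 3 n21437 = n14730 := d24_1 D21437 (iv D14730) (iv D10133) (iv F45243) D14725
theorem F92191 : act 7 n21437 = n21437 := d32_2 F64466 D21437 (iv D21437)
def n21438 : Q := act 9 n14725
theorem D21438 : act 9 n14725 = n21438 := rfl
theorem F92192 : act 3 n21438 = n14726 := d29_1 D21438 (iv D14726) D14725
theorem F92193 : act 7 n21438 = n21438 := d43_1 D21438 (iv D21438) F64466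
def n21439 : Q := act 3 n14727
theorem D21439 : act 3 n14727 = n21439 := rfl
theorem F92194 : act 2 n21439 = n21439 := d17_1 D21439 (iv D21439) F64471 F45285 (iv F64471)
theorem F92195 : act 6 n21439 = n21439 := d26_2 F64472 D21439 (iv D21439)
theorem F92196 : act 7 n21439 = n14728 := d27_2 (iv F64473) D21439 (iv D14728)
theorem F92197 : act 8 n21439 = n16261 := d28_2 D14727 D21439 (iv D16261) (iv D11176) (iv F45246)
def n21440 : Q := act 9 n14727
theorem D21440 : act 9 n14727 = n21440 := rfl
theorem F92198 : act 2 n21440 = n14742 := d23_1 D21440 (iv D14742) (iv F64471)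
theorem F92199 : act 6 n21440 = n21440 := d41_1 D21440 (iv D21440) F64472
theorem F92200 : act 7 n21440 = n14729 := d43_1 D21440 (iv D14729) (iv F64473)
theorem F92201 : act 8 n21440 = n14801 := d44_1 D21440 (iv D14801) (iv D10180) (iv F45248) D14727
def n21441 : Q := act 4 n14728
theorem D21441 : act 4 n14728 = n21441 := rfl
theorem F92202 : act 2 n21441 = n21441 := d18_1 D21441 (iv D21441) F64474
theorem F92203 : act 6 n21441 = n14730 := d31_2 (iv F64475) D21441 (iv D14730)
theorem F92204 : act 8 n21441 = n16263 := d33_2 (iv F64476) D21441 (iv D16263)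
def n21442 : Q := act 9 n14728
theorem D21442 : act 9 n14728 = n21442 := rfl
theorem F92205 : act 2 n21442 = n21442 := d23_1 D21442 (iv D21442) F64474
theorem F92206 : act 3 n21442 = n14729 := d29_1 D21442 (iv D14729) D14728
theorem F92207 : act 6 n21442 = n14731 := d41_1 D21442 (iv D14731) (iv F64475)
def n21443 : Q := act 5 n14730
theorem D21443 : act 5 n14730 = n21443 := rfl
theorem F92209 : act 4 n21443 = n14732 := d30_1 D21443 (iv D14732) (iv D10135) (iv F45252) D14730
theorem F92211 : act 8 n21443 = n16265 := d37_2 (iv F64482) D21443 (iv D16265)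
def n21444 : Q := act 9 n14730
theorem D21444 : act 9 n14730 = n21444 := rfl
theorem F92212 : act 2 n21444 = n21444 := d23_1 D21444 (iv D21444) F64480
theorem F92213 : act 4 n21444 = n14731 := d34_1 D21444 (iv D14731) D14730
theorem F92214 : act 7 n21444 = n21444 := d43_1 D21444 (iv D21444) F64481
def n21447 : Q := act 9 n14732
theorem D21447 : act 9 n14732 = n21447 := rfl
theorem F92223 : act 5 n21447 = n14733 := d38_1 D21447 (iv D14733) D14732
def n21448 : Q := act 8 n14733
theorem D21448 : act 8 n14733 = n21448 := rfl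
theorem F92226 : act 4 n21448 = n14734 := d33_1 D21448 (iv D14734) (iv F64491)
theorem F92228 : act 9 n21448 = n16270 := d44_2 D14733 D21448 (iv D16270) (iv D11182) (iv F45261)
def n21449 : Q := act 6 n14735
theorem D21449 : act 6 n14735 = n21449 := rfl
theorem F92229 : act 1 n21449 = n14743 := d13_1 D21449 (iv D14743) (iv F64497)
theorem F92230 : act 3 n21449 = n14888 := d26_1 D21449 (iv D14888) (iv F64498)
theorem F92231 : act 5 n21449 = n21449 := d35_1 D21449 (iv D21449) F64499 F45271 (iv F64499)
theorem F92232 : act 9 n21449 = n14810 := d41_2 (iv F64500) D21449 (iv D14810)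
def n21450 : Q := act 8 n14735
theorem D21450 : act 8 n14735 = n21450 := rfl
theorem F92233 : act 1 n21450 = n14744 := d15_1 D21450 (iv D14744) (iv F64497)
theorem F92234 : act 5 n21450 = n14737 := d37_1 D21450 (iv D14737) (iv F64499)
theorem F92235 : act 7 n21450 = n14736 := d42_1 D21450 (iv D14736) D14735
def n21451 : Q := act 3 n14736
theorem D21451 : act 3 n14736 = n21451 := rfl
theorem F92236 : act 1 n21451 = n14745 := d10_1 D21451 (iv D14745) (iv F64501)
theorem F92237 : act 5 n21451 = n14738 := d25_2 (iv F64502) D21451 (iv D14738)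
theorem F92238 : act 8 n21451 = n14890 := d28_2 D14736 D21451 (iv D14890) (iv D10243) (iv F45266)
def n21452 : Q := act 9 n14736
theorem D21452 : act 9 n14736 = n21452 := rfl
theorem F92239 : act 1 n21452 = n14746 := d16_1 D21452 (iv D14746) (iv F64501)
theorem F92240 : act 5 n21452 = n14739 := d38_1 D21452 (iv D14739) (iv F64502)
theorem F92241 : act 8 n21452 = n14813 := d44_1 D21452 (iv D14813) (iv D10189) (iv F45267) D14736
def n21453 : Q := act 3 n14737
theorem D21453 : act 3 n14737 = n21453 := rfl
theorem F92242 : act 1 n21453 = n14747 := d10_1 D21453 (iv D14747) (iv F64503)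
theorem F92243 : act 4 n21453 = n21453 := d24_2 (iv F64504) D21453 (iv D21453) F64504 F45285
theorem F92244 : act 6 n21453 = n21453 := d26_2 F64505 D21453 (iv D21453)
theorem F92245 : act 7 n21453 = n14738 := d27_2 (iv F64506) D21453 (iv D14738)
theorem F92246 : act 8 n21453 = n14892 := d28_2 D14737 D21453 (iv D14892) (iv D10244) (iv F45269)
def n21454 : Q := act 9 n14737
theorem D21454 : act 9 n14737 = n21454 := rfl
theorem F92247 : act 1 n21454 = n14748 := d16_1 D21454 (iv D14748) (iv F64503)
theorem F92248 : act 4 n21454 = n14742 := d34_1 D21454 (iv D14742) (iv F64504)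
theorem F92249 : act 6 n21454 = n21454 := d41_1 D21454 (iv D21454) F64505
theorem F92250 : act 7 n21454 = n14739 := d43_1 D21454 (iv D14739) (iv F64506)
theorem F92251 : act 8 n21454 = n14815 := d44_1 D21454 (iv D14815) (iv D10190) (iv F45272) D14737
def n21455 : Q := act 2 n14738
theorem D21455 : act 2 n14738 = n21455 := rfl
theorem F92252 : act 4 n21455 = n21455 := d18_2 F64508 D21455 (iv D21455)
theorem F92253 : act 6 n21455 = n14740 := d20_2 (iv F64509) D21455 (iv D14740)
theorem F92254 : act 8 n21455 = n14894 := d22_2 (iv F64510) D21455 (iv D14894)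
def n21456 : Q := act 9 n14738
theorem D21456 : act 9 n14738 = n21456 := rfl
theorem F92255 : act 1 n21456 = n14750 := d16_1 D21456 (iv D14750) (iv F64507)
theorem F92256 : act 3 n21456 = n14739 := d29_1 D21456 (iv D14739) D14738
theorem F92257 : act 4 n21456 = n21456 := d34_1 D21456 (iv D21456) F64508
theorem F92258 : act 6 n21456 = n14741 := d41_1 D21456 (iv D14741) (iv F64509)
def n21457 : Q := act 1 n14740
theorem D21457 : act 1 n14740 = n21457 := rfl
theorem F92259 : act 2 n21457 = n14751 := d9_2 D14740 D21457 (iv D14751) (iv D10149) (iv F45276)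
theorem F92260 : act 4 n21457 = n21457 := d11_2 F64515 D21457 (iv D21457)
theorem F92261 : act 7 n21457 = n21457 := d14_2 F64516 D21457 (iv D21457)
theorem F92262 : act 8 n21457 = n14896 := d15_2 (iv F64517) D21457 (iv D14896)
def n21458 : Q := act 9 n14740
theorem D21458 : act 9 n14740 = n21458 := rfl
theorem F92263 : act 2 n21458 = n14741 := d23_1 D21458 (iv D14741) D14740
theorem F92264 : act 4 n21458 = n21458 := d34_1 D21458 (iv D21458) F64515
theorem F92265 : act 7 n21458 = n21458 := d43_1 D21458 (iv D21458) F64516
def n21459 : Q := act 8 n14741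
theorem D21459 : act 8 n14741 = n21459 := rfl
theorem F92266 : act 1 n21459 = n14753 := d15_1 D21459 (iv D14753) (iv F64518)
theorem F92267 : act 3 n21459 = n14820 := d28_1 D21459 (iv D14820) F45465 (iv F45283) (iv F64519)
def n21460 : Q := act 8 n14743
theorem D21460 : act 8 n14743 = n21460 := rfl
theorem F92271 : act 0 n21460 = n21460 := d7_1 D21460 (iv D21460) F64527
theorem F92272 : act 5 n21460 = n21460 := d37_1 D21460 (iv D21460) F64529
theorem F92273 : act 6 n21460 = n14744 := d40_1 D21460 (iv D14744) D14743
def n21461 : Q := act 3 n14744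
theorem D21461 : act 3 n14744 = n21461 := rfl
theorem F92274 : act 0 n21461 = n21461 := d2_1 D21461 (iv D21461) F64531
theorem F92275 : act 5 n21461 = n14747 := d25_2 (iv F64532) D21461 (iv D14747)
theorem F92276 : act 7 n21461 = n14745 := d27_2 (iv F64533) D21461 (iv D14745)
theorem F92277 : act 8 n21461 = n14900 := d28_2 D14744 D21461 (iv D14900) (iv D10251) (iv F45293)
def n21462 : Q := act 9 n14744
theorem D21462 : act 9 n14744 = n21462 := rfl
theorem F92278 : act 0 n21462 = n21462 := d8_1 D21462 (iv D21462) F64531
theorem F92279 : act 5 n21462 = n14748 := d38_1 D21462 (iv D14748) (iv F64532)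
theorem F92280 : act 7 n21462 = n14746 := d43_1 D21462 (iv D14746) (iv F64533)
theorem F92281 : act 8 n21462 = n14823 := d44_1 D21462 (iv D14823) (iv D10197) (iv F45295) D14744
def n21463 : Q := act 2 n14745
theorem D21463 : act 2 n14745 = n21463 := rfl
theorem F92282 : act 0 n21463 = n21463 := d1_1 D21463 (iv D21463) F64534
theorem F92283 : act 5 n21463 = n14749 := d19_2 (iv F64535) D21463 (iv D14749)
theorem F92284 : act 8 n21463 = n14902 := d22_2 (iv F64536) D21463 (iv D14902)
def n21464 : Q := act 4 n14745
theorem D21464 : act 4 n14745 = n21464 := rfl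
theorem F92285 : act 0 n21464 = n21464 := d3_1 D21464 (iv D21464) F64534
theorem F92286 : act 5 n21464 = n21464 := d30_2 (iv F64535) D21464 (iv D21464) F64535 F45303
theorem F92287 : act 8 n21464 = n14903 := d33_2 (iv F64536) D21464 (iv D14903)
def n21465 : Q := act 9 n14745
theorem D21465 : act 9 n14745 = n21465 := rfl
theorem F92288 : act 0 n21465 = n21465 := d8_1 D21465 (iv D21465) F64534
theorem F92289 : act 3 n21465 = n14746 := d29_1 D21465 (iv D14746) D14745
theorem F92290 : act 5 n21465 = n14750 := d38_1 D21465 (iv D14750) (iv F64535)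
def n21466 : Q := act 2 n14747
theorem D21466 : act 2 n14747 = n21466 := rfl
theorem F92291 : act 0 n21466 = n21466 := d1_1 D21466 (iv D21466) F64540
theorem F92292 : act 4 n21466 = n21466 := d18_2 F64541 D21466 (iv D21466)
theorem F92293 : act 6 n21466 = n21466 := d20_2 F64542 D21466 (iv D21466)
theorem F92294 : act 7 n21466 = n14749 := d21_2 (iv F64543) D21466 (iv D14749)
theorem F92295 : act 8 n21466 = n14905 := d22_2 (iv F64544) D21466 (iv D14905)
def n21467 : Q := act 9 n14747
theorem D21467 : act 9 n14747 = n21467 := rfl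
theorem F92296 : act 0 n21467 = n21467 := d8_1 D21467 (iv D21467) F64540
theorem F92297 : act 3 n21467 = n14748 := d29_1 D21467 (iv D14748) D14747
theorem F92298 : act 4 n21467 = n21467 := d34_1 D21467 (iv D21467) F64541
theorem F92299 : act 6 n21467 = n21467 := d41_1 D21467 (iv D21467) F64542
theorem F92300 : act 7 n21467 = n14750 := d43_1 D21467 (iv D14750) (iv F64543)
def n21468 : Q := act 1 n14749
theorem D21468 : act 1 n14749 = n21468 := rfl
theorem F92301 : act 4 n21468 = n21468 := d11_2 F64551 D21468 (iv D21468)
theorem F92302 : act 6 n21468 = n14751 := d13_2 (iv F64552) D21468 (iv D14751)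
theorem F92303 : act 8 n21468 = n14907 := d15_2 (iv F64553) D21468 (iv D14907)
def n21469 : Q := act 9 n14749
theorem D21469 : act 9 n14749 = n21469 := rfl
theorem F92304 : act 0 n21469 = n21469 := d8_1 D21469 (iv D21469) F64550
theorem F92305 : act 2 n21469 = n14750 := d23_1 D21469 (iv D14750) D14749
theorem F92306 : act 4 n21469 = n21469 := d34_1 D21469 (iv D21469) F64551
theorem F92307 : act 6 n21469 = n14752 := d41_1 D21469 (iv D14752) (iv F64552)
def n21470 : Q := act 8 n14750
theorem D21470 : act 8 n14750 = n21470 := rfl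
theorem F92308 : act 0 n21470 = n21470 := d7_1 D21470 (iv D21470) F64554
theorem F92309 : act 3 n21470 = n14831 := d28_1 D21470 (iv D14831) F45497 (iv F45309) (iv F64555)
theorem F92310 : act 4 n21470 = n21470 := d33_1 D21470 (iv D21470) F64556
theorem F92311 : act 6 n21470 = n14753 := d40_1 D21470 (iv D14753) (iv F64557)
theorem F92312 : act 9 n21470 = n14909 := d44_2 D14750 D21470 (iv D14909) (iv D10257) (iv F45305)
def n21471 : Q := act 0 n14751
theorem D21471 : act 0 n14751 = n21471 := rfl
theorem F92313 : act 1 n21471 = n21471 := d0_2 D14751 D21471 (iv D21471) (iv D14751) F45310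
theorem F92314 : act 4 n21471 = n21471 := d3_2 F64558 D21471 (iv D21471)
theorem F92315 : act 7 n21471 = n21471 := d6_2 F64559 D21471 (iv D21471)
theorem F92316 : act 8 n21471 = n14910 := d7_2 (iv F64560) D21471 (iv D14910)
def n21472 : Q := act 9 n14751
theorem D21472 : act 9 n14751 = n21472 := rfl
theorem F92317 : act 1 n21472 = n14752 := d16_1 D21472 (iv D14752) D14751
theorem F92318 : act 4 n21472 = n21472 := d34_1 D21472 (iv D21472) F64558
theorem F92319 : act 7 n21472 = n21472 := d43_1 D21472 (iv D21472) F64559
def n21473 : Q := act 8 n14752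
theorem D21473 : act 8 n14752 = n21473 := rfl
theorem F92320 : act 0 n21473 = n21473 := d7_1 D21473 (iv D21473) F64561
theorem F92321 : act 2 n21473 = n14753 := d22_1 D21473 (iv D14753) (iv F64562)
theorem F92322 : act 4 n21473 = n21473 := d33_1 D21473 (iv D21473) F64563
theorem F92323 : act 7 n21473 = n21473 := d42_1 D21473 (iv D21473) F64564
theorem F92324 : act 9 n21473 = n14912 := d44_2 D14752 D21473 (iv D14912) (iv D10259) (iv F45313)
def n21474 : Q := act 2 n14754
theorem D21474 : act 2 n14754 = n21474 := rfl
theorem F92325 : act 1 n21474 = n14913 := d9_1 D21474 (iv D14913) F45755 (iv F45340) (iv F64570)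
theorem F92327 : act 4 n21474 = n16293 := d18_2 (iv F64571) D21474 (iv D16293)
def n21475 : Q := act 6 n14754
theorem D21475 : act 6 n14754 = n21475 := rfl
theorem F92329 : act 1 n21475 = n14764 := d13_1 D21475 (iv D14764) (iv F64570)
theorem F92330 : act 3 n21475 = n14755 := d26_1 D21475 (iv D14755) D14754
theorem F92331 : act 4 n21475 = n16294 := d31_1 D21475 (iv D16294) (iv F64571)
def n21476 : Q := act 8 n14754
theorem D21476 : act 8 n14754 = n21476 := rfl
theorem F92332 : act 1 n21476 = n14765 := d15_1 D21476 (iv D14765) (iv F64570)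
theorem F92334 : act 7 n21476 = n21476 := d42_1 D21476 (iv D21476) F64572
def n21477 : Q := act 5 n14755
theorem D21477 : act 5 n14755 = n21477 := rfl
theorem F92335 : act 1 n21477 = n14766 := d12_1 D21477 (iv D14766) (iv F64573)
theorem F92336 : act 2 n21477 = n21477 := d19_1 D21477 (iv D21477) F64574
def n21478 : Q := act 7 n14755
theorem D21478 : act 7 n14755 = n21478 := rfl
theorem F92337 : act 1 n21478 = n14767 := d14_1 D21478 (iv D14767) (iv F64573)
theorem F92338 : act 2 n21478 = n21478 := d21_1 D21478 (iv D21478) F64574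
theorem F92339 : act 4 n21478 = n14757 := d32_1 D21478 (iv D14757) (iv F64575)
theorem F92340 : act 6 n21478 = n21478 := d39_1 D21478 (iv D21478) (iv D14755) F45325 D14755
def n21479 : Q := act 8 n14755
theorem D21479 : act 8 n14755 = n21479 := rfl
theorem F92341 : act 1 n21479 = n14768 := d15_1 D21479 (iv D14768) (iv F64573)
def n21480 : Q := act 3 n14756
theorem D21480 : act 3 n14756 = n21480 := rfl
theorem F92345 : act 1 n21480 = n14769 := d10_1 D21480 (iv D14769) (iv F64576)
def n21481 : Q := act 9 n14756
theorem D21481 : act 9 n14756 = n21481 := rfl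
def n21482 : Q := act 8 n14757
theorem D21482 : act 8 n14757 = n21482 := rfl
theorem F92351 : act 1 n21482 = n14771 := d15_1 D21482 (iv D14771) (iv F64580)
def n21484 : Q := act 9 n14758
theorem D21484 : act 9 n14758 = n21484 := rfl
def n21493 : Q := act 5 n14764
theorem D21493 : act 5 n14764 = n21493 := rfl
theorem F92390 : act 0 n21493 = n14787 := d4_1 D21493 (iv D14787) (iv F64605)
theorem F92391 : act 2 n21493 = n14923 := d19_1 D21493 (iv D14923) (iv F64606)
theorem F92392 : act 3 n21493 = n14766 := d25_1 D21493 (iv D14766) (iv F64607)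
def n21494 : Q := act 7 n14764
theorem D21494 : act 7 n14764 = n21494 := rfl
theorem F92393 : act 0 n21494 = n14788 := d6_1 D21494 (iv D14788) (iv F64605)
theorem F92394 : act 2 n21494 = n14924 := d21_1 D21494 (iv D14924) (iv F64606)
theorem F92395 : act 3 n21494 = n14767 := d27_1 D21494 (iv D14767) (iv F64607)
theorem F92396 : act 4 n21494 = n16313 := d32_1 D21494 (iv D16313) (iv F64608)
theorem F92397 : act 6 n21494 = n21494 := d39_1 D21494 (iv D21494) (iv D14764) F45342 D14764
def n21495 : Q := act 8 n14764
theorem D21495 : act 8 n14764 = n21495 := rfl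
theorem F92398 : act 0 n21495 = n14789 := d7_1 D21495 (iv D14789) (iv F64605)
theorem F92399 : act 2 n21495 = n14925 := d22_1 D21495 (iv D14925) (iv F64606)
theorem F92400 : act 4 n21495 = n16314 := d33_1 D21495 (iv D16314) (iv F64608)
theorem F92401 : act 6 n21495 = n14765 := d40_1 D21495 (iv D14765) D14764
def n21496 : Q := act 3 n14765
theorem D21496 : act 3 n14765 = n21496 := rfl
theorem F92402 : act 0 n21496 = n14790 := d2_1 D21496 (iv D14790) (iv F64609)
theorem F92403 : act 7 n21496 = n21496 := d27_2 F64612 D21496 (iv D21496)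
theorem F92404 : act 8 n21496 = n14769 := d28_2 D14765 D21496 (iv D14769) (iv D10159) D10157
def n21497 : Q := act 9 n14765
theorem D21497 : act 9 n14765 = n21497 := rfl
theorem F92405 : act 0 n21497 = n14791 := d8_1 D21497 (iv D14791) (iv F64609)
theorem F92406 : act 2 n21497 = n14927 := d23_1 D21497 (iv D14927) (iv F64610)
theorem F92407 : act 4 n21497 = n16316 := d34_1 D21497 (iv D16316) (iv F64611)
theorem F92408 : act 7 n21497 = n21497 := d43_1 D21497 (iv D21497) F64612
def n21498 : Q := act 7 n14766
theorem D21498 : act 7 n14766 = n21498 := rfl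
theorem F92409 : act 0 n21498 = n14792 := d6_1 D21498 (iv D14792) (iv F64613)
theorem F92410 : act 2 n21498 = n14779 := d21_1 D21498 (iv D14779) (iv F64614)
theorem F92411 : act 5 n21498 = n14767 := d36_1 D21498 (iv D14767) D14766
def n21499 : Q := act 8 n14766
theorem D21499 : act 8 n14766 = n21499 := rfl
theorem F92412 : act 0 n21499 = n14793 := d7_1 D21499 (iv D14793) (iv F64613)
theorem F92413 : act 2 n21499 = n14780 := d22_1 D21499 (iv D14780) (iv F64614)
theorem F92414 : act 5 n21499 = n14768 := d37_1 D21499 (iv D14768) D14766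
def n21500 : Q := act 8 n14767
theorem D21500 : act 8 n14767 = n21500 := rfl
theorem F92415 : act 0 n21500 = n14794 := d7_1 D21500 (iv D14794) (iv F64615)
theorem F92416 : act 2 n21500 = n14781 := d22_1 D21500 (iv D14781) (iv F64616)
theorem F92417 : act 4 n21500 = n14771 := d33_1 D21500 (iv D14771) (iv F64617)
theorem F92418 : act 6 n21500 = n21500 := d40_1 D21500 (iv D21500) F64618
theorem F92419 : act 7 n21500 = n14768 := d42_1 D21500 (iv D14768) D14767
def n21501 : Q := act 3 n14768
theorem D21501 : act 3 n14768 = n21501 := rfl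
theorem F92420 : act 0 n21501 = n14795 := d2_1 D21501 (iv D14795) (iv F64619)
theorem F92421 : act 6 n21501 = n14769 := d26_2 (iv F64622) D21501 (iv D14769)
def n21502 : Q := act 9 n14768
theorem D21502 : act 9 n14768 = n21502 := rfl
theorem F92422 : act 0 n21502 = n14796 := d8_1 D21502 (iv D14796) (iv F64619)
theorem F92423 : act 2 n21502 = n14783 := d23_1 D21502 (iv D14783) (iv F64620)
theorem F92424 : act 4 n21502 = n14773 := d34_1 D21502 (iv D14773) (iv F64621)
theorem F92425 : act 6 n21502 = n14770 := d41_1 D21502 (iv D14770) (iv F64622)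
def n21503 : Q := act 2 n14769
theorem D21503 : act 2 n14769 = n21503 := rfl
theorem F92426 : act 0 n21503 = n14797 := d1_1 D21503 (iv D14797) (iv F64623)
theorem F92427 : act 3 n21503 = n14784 := d17_2 D14769 D21503 (iv D14784) (iv D10169) (iv F45347)
theorem F92428 : act 7 n21503 = n21503 := d21_2 F64624 D21503 (iv D21503)
def n21504 : Q := act 4 n14769
theorem D21504 : act 4 n14769 = n21504 := rfl
theorem F92429 : act 0 n21504 = n14798 := d3_1 D21504 (iv D14798) (iv F64623)
theorem F92430 : act 3 n21504 = n14774 := d24_1 D21504 (iv D14774) (iv D10162) (iv F45348) D14769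
def n21505 : Q := act 9 n14769
theorem D21505 : act 9 n14769 = n21505 := rfl
theorem F92432 : act 0 n21505 = n14799 := d8_1 D21505 (iv D14799) (iv F64623)
theorem F92433 : act 3 n21505 = n14770 := d29_1 D21505 (iv D14770) D14769
theorem F92434 : act 7 n21505 = n21505 := d43_1 D21505 (iv D21505) F64624
def n21506 : Q := act 3 n14771
theorem D21506 : act 3 n14771 = n21506 := rfl
theorem F92435 : act 0 n21506 = n14800 := d2_1 D21506 (iv D14800) (iv F64629)
def n21507 : Q := act 9 n14771
theorem D21507 : act 9 n14771 = n21507 := rfl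
theorem F92440 : act 0 n21507 = n14801 := d8_1 D21507 (iv D14801) (iv F64629)
theorem F92441 : act 2 n21507 = n14786 := d23_1 D21507 (iv D14786) (iv F64630)
theorem F92442 : act 6 n21507 = n21507 := d41_1 D21507 (iv D21507) F64631
theorem F92443 : act 7 n21507 = n14773 := d43_1 D21507 (iv D14773) (iv F64632)
def n21508 : Q := act 4 n14772
theorem D21508 : act 4 n14772 = n21508 := rfl
theorem F92444 : act 0 n21508 = n14802 := d3_1 D21508 (iv D14802) (iv F64633)
def n21510 : Q := act 5 n14774
theorem D21510 : act 5 n14774 = n21510 := rfl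
theorem F92452 : act 0 n21510 = n14804 := d4_1 D21510 (iv D14804) (iv F64640)
theorem F92456 : act 8 n21510 = n16328 := d37_2 (iv F64643) D21510 (iv D16328)
def n21511 : Q := act 9 n14774
theorem D21511 : act 9 n14774 = n21511 := rfl
def n21513 : Q := act 6 n14776
theorem D21513 : act 6 n14776 = n21513 := rfl
theorem F92466 : act 0 n21513 = n14807 := d5_1 D21513 (iv D14807) (iv F64649)
theorem F92468 : act 8 n21513 = n16331 := d40_2 (iv F64652) D21513 (iv D16331)
def n21514 : Q := act 9 n14776
theorem D21514 : act 9 n14776 = n21514 := rfl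
def n21516 : Q := act 6 n14779
theorem D21516 : act 6 n14779 = n21516 := rfl
theorem F92478 : act 0 n21516 = n14810 := d5_1 D21516 (iv D14810) (iv F64661)
theorem F92479 : act 1 n21516 = n21516 := d13_1 D21516 (iv D21516) F64662
theorem F92480 : act 3 n21516 = n14936 := d26_1 D21516 (iv D14936) (iv F64663)
theorem F92481 : act 5 n21516 = n21516 := d35_1 D21516 (iv D21516) F64664 F45381 (iv F64664)
def n21517 : Q := act 8 n14779
theorem D21517 : act 8 n14779 = n21517 := rfl
theorem F92482 : act 0 n21517 = n14811 := d7_1 D21517 (iv D14811) (iv F64661)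
theorem F92483 : act 1 n21517 = n21517 := d15_1 D21517 (iv D21517) F64662
theorem F92484 : act 5 n21517 = n14781 := d37_1 D21517 (iv D14781) (iv F64664)
theorem F92485 : act 7 n21517 = n14780 := d42_1 D21517 (iv D14780) D14779
def n21518 : Q := act 3 n14780
theorem D21518 : act 3 n14780 = n21518 := rfl
theorem F92486 : act 0 n21518 = n14812 := d2_1 D21518 (iv D14812) (iv F64665)
theorem F92487 : act 1 n21518 = n21518 := d10_1 D21518 (iv D21518) F64666
theorem F92488 : act 5 n21518 = n14782 := d25_2 (iv F64667) D21518 (iv D14782)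
theorem F92489 : act 8 n21518 = n14938 := d28_2 D14780 D21518 (iv D14938) (iv D10277) (iv F45376)
def n21519 : Q := act 9 n14780
theorem D21519 : act 9 n14780 = n21519 := rfl
theorem F92490 : act 0 n21519 = n14813 := d8_1 D21519 (iv D14813) (iv F64665)
theorem F92491 : act 1 n21519 = n21519 := d16_1 D21519 (iv D21519) F64666
theorem F92492 : act 5 n21519 = n14783 := d38_1 D21519 (iv D14783) (iv F64667)
def n21520 : Q := act 3 n14781
theorem D21520 : act 3 n14781 = n21520 := rfl
theorem F92493 : act 0 n21520 = n14814 := d2_1 D21520 (iv D14814) (iv F64668)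
theorem F92494 : act 1 n21520 = n21520 := d10_1 D21520 (iv D21520) F64669
theorem F92495 : act 4 n21520 = n15173 := d24_2 (iv F64670) D21520 (iv D15173) F46506 (iv F45397)
theorem F92496 : act 6 n21520 = n21520 := d26_2 F64671 D21520 (iv D21520)
theorem F92497 : act 7 n21520 = n14782 := d27_2 (iv F64672) D21520 (iv D14782)
theorem F92498 : act 8 n21520 = n14940 := d28_2 D14781 D21520 (iv D14940) (iv D10278) (iv F45379)
def n21521 : Q := act 9 n14781
theorem D21521 : act 9 n14781 = n21521 := rfl
theorem F92499 : act 0 n21521 = n14815 := d8_1 D21521 (iv D14815) (iv F64668)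
theorem F92500 : act 1 n21521 = n21521 := d16_1 D21521 (iv D21521) F64669
theorem F92501 : act 4 n21521 = n14786 := d34_1 D21521 (iv D14786) (iv F64670)
theorem F92502 : act 6 n21521 = n21521 := d41_1 D21521 (iv D21521) F64671
theorem F92503 : act 7 n21521 = n14783 := d43_1 D21521 (iv D14783) (iv F64672)
def n21522 : Q := act 2 n14782
theorem D21522 : act 2 n14782 = n21522 := rfl
theorem F92504 : act 0 n21522 = n14816 := d1_1 D21522 (iv D14816) (iv F64673)
theorem F92505 : act 4 n21522 = n15175 := d18_2 (iv F64675) D21522 (iv D15175)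
theorem F92506 : act 6 n21522 = n14784 := d20_2 (iv F64676) D21522 (iv D14784)
theorem F92507 : act 8 n21522 = n14942 := d22_2 (iv F64677) D21522 (iv D14942)
def n21523 : Q := act 9 n14782
theorem D21523 : act 9 n14782 = n21523 := rfl
theorem F92508 : act 0 n21523 = n14817 := d8_1 D21523 (iv D14817) (iv F64673)
theorem F92509 : act 1 n21523 = n21523 := d16_1 D21523 (iv D21523) F64674
theorem F92510 : act 3 n21523 = n14783 := d29_1 D21523 (iv D14783) D14782
theorem F92511 : act 4 n21523 = n15176 := d34_1 D21523 (iv D15176) (iv F64675)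
theorem F92512 : act 6 n21523 = n14785 := d41_1 D21523 (iv D14785) (iv F64676)
def n21524 : Q := act 1 n14784
theorem D21524 : act 1 n14784 = n21524 := rfl
theorem F92513 : act 2 n21524 = n21524 := d9_2 D14784 D21524 (iv D21524) (iv D14784) F45387
theorem F92514 : act 4 n21524 = n15177 := d11_2 (iv F64683) D21524 (iv D15177)
theorem F92515 : act 7 n21524 = n21524 := d14_2 F64684 D21524 (iv D21524)
theorem F92516 : act 8 n21524 = n14944 := d15_2 (iv F64685) D21524 (iv D14944)
def n21525 : Q := act 9 n14784
theorem D21525 : act 9 n14784 = n21525 := rfl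
theorem F92517 : act 0 n21525 = n14819 := d8_1 D21525 (iv D14819) (iv F64682)
theorem F92518 : act 2 n21525 = n14785 := d23_1 D21525 (iv D14785) D14784
theorem F92519 : act 4 n21525 = n15178 := d34_1 D21525 (iv D15178) (iv F64683)
theorem F92520 : act 7 n21525 = n21525 := d43_1 D21525 (iv D21525) F64684
def n21526 : Q := act 8 n14785
theorem D21526 : act 8 n14785 = n21526 := rfl
theorem F92521 : act 0 n21526 = n14820 := d7_1 D21526 (iv D14820) (iv F64686)
def n21527 : Q := act 4 n14787
theorem D21527 : act 4 n14787 = n21527 := rfl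
theorem F92526 : act 2 n21527 = n14947 := d18_1 D21527 (iv D14947) (iv F64696)
theorem F92527 : act 5 n21527 = n16338 := d30_2 D14787 D21527 (iv D16338) (iv D11232) (iv F45406)
def n21528 : Q := act 7 n14787
theorem D21528 : act 7 n14787 = n21528 := rfl
theorem F92528 : act 2 n21528 = n14948 := d21_1 D21528 (iv D14948) (iv F64696)
theorem F92529 : act 3 n21528 = n14792 := d27_1 D21528 (iv D14792) (iv F64697)
theorem F92530 : act 5 n21528 = n14788 := d36_1 D21528 (iv D14788) D14787
def n21529 : Q := act 8 n14787
theorem D21529 : act 8 n14787 = n21529 := rfl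
theorem F92531 : act 2 n21529 = n14949 := d22_1 D21529 (iv D14949) (iv F64696)
theorem F92532 : act 5 n21529 = n14789 := d37_1 D21529 (iv D14789) D14787
def n21530 : Q := act 8 n14788
theorem D21530 : act 8 n14788 = n21530 := rfl
theorem F92533 : act 2 n21530 = n14950 := d22_1 D21530 (iv D14950) (iv F64698)
theorem F92534 : act 4 n21530 = n16341 := d33_1 D21530 (iv D16341) (iv F64700)
theorem F92535 : act 6 n21530 = n21530 := d40_1 D21530 (iv D21530) F64701
theorem F92536 : act 7 n21530 = n14789 := d42_1 D21530 (iv D14789) D14788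
def n21531 : Q := act 3 n14789
theorem D21531 : act 3 n14789 = n21531 := rfl
theorem F92537 : act 6 n21531 = n14790 := d26_2 (iv F64704) D21531 (iv D14790)
theorem F92538 : act 8 n21531 = n14795 := d28_2 D14789 D21531 (iv D14795) (iv D10177) (iv F45405)
def n21532 : Q := act 9 n14789
theorem D21532 : act 9 n14789 = n21532 := rfl
theorem F92539 : act 2 n21532 = n14952 := d23_1 D21532 (iv D14952) (iv F64702)
theorem F92540 : act 4 n21532 = n16343 := d34_1 D21532 (iv D16343) (iv F64703)
theorem F92541 : act 6 n21532 = n14791 := d41_1 D21532 (iv D14791) (iv F64704)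
def n21533 : Q := act 2 n14790
theorem D21533 : act 2 n14790 = n21533 := rfl
theorem F92542 : act 3 n21533 = n14953 := d17_2 D14790 D21533 (iv D14953) (iv D10287) (iv F45407)
theorem F92543 : act 7 n21533 = n21533 := d21_2 F64705 D21533 (iv D21533)
theorem F92544 : act 8 n21533 = n14797 := d22_2 (iv F64706) D21533 (iv D14797)
def n21534 : Q := act 4 n14790
theorem D21534 : act 4 n14790 = n21534 := rfl
theorem F92545 : act 3 n21534 = n16344 := d24_1 D21534 (iv D16344) (iv D11235) (iv F45408) D14790
theorem F92546 : act 7 n21534 = n21534 := d32_2 F64705 D21534 (iv D21534)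
theorem F92547 : act 8 n21534 = n14798 := d33_2 (iv F64706) D21534 (iv D14798)
def n21535 : Q := act 9 n14790
theorem D21535 : act 9 n14790 = n21535 := rfl
theorem F92548 : act 3 n21535 = n14791 := d29_1 D21535 (iv D14791) D14790
theorem F92549 : act 7 n21535 = n21535 := d43_1 D21535 (iv D21535) F64705
def n21536 : Q := act 6 n14792
theorem D21536 : act 6 n14792 = n21536 := rfl
theorem F92550 : act 2 n21536 = n14810 := d20_1 D21536 (iv D14810) (iv F64710)
theorem F92551 : act 5 n21536 = n21536 := d35_1 D21536 (iv D21536) F64711 F45413 (iv F64711)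
def n21537 : Q := act 8 n14792
theorem D21537 : act 8 n14792 = n21537 := rfl
theorem F92552 : act 2 n21537 = n14811 := d22_1 D21537 (iv D14811) (iv F64710)
theorem F92553 : act 5 n21537 = n14794 := d37_1 D21537 (iv D14794) (iv F64711)
theorem F92554 : act 7 n21537 = n14793 := d42_1 D21537 (iv D14793) D14792
def n21538 : Q := act 3 n14793
theorem D21538 : act 3 n14793 = n21538 := rfl
theorem F92555 : act 5 n21538 = n14795 := d25_2 (iv F64713) D21538 (iv D14795)
def n21539 : Q := act 9 n14793
theorem D21539 : act 9 n14793 = n21539 := rfl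
theorem F92556 : act 2 n21539 = n14813 := d23_1 D21539 (iv D14813) (iv F64712)
theorem F92557 : act 5 n21539 = n14796 := d38_1 D21539 (iv D14796) (iv F64713)
def n21540 : Q := act 3 n14794
theorem D21540 : act 3 n14794 = n21540 := rfl
theorem F92558 : act 6 n21540 = n21540 := d26_2 F64716 D21540 (iv D21540)
theorem F92559 : act 7 n21540 = n14795 := d27_2 (iv F64717) D21540 (iv D14795)
def n21541 : Q := act 9 n14794
theorem D21541 : act 9 n14794 = n21541 := rfl
theorem F92560 : act 2 n21541 = n14815 := d23_1 D21541 (iv D14815) (iv F64714)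
theorem F92561 : act 4 n21541 = n14801 := d34_1 D21541 (iv D14801) (iv F64715)
theorem F92562 : act 6 n21541 = n21541 := d41_1 D21541 (iv D21541) F64716
theorem F92563 : act 7 n21541 = n14796 := d43_1 D21541 (iv D14796) (iv F64717)
def n21542 : Q := act 2 n14795
theorem D21542 : act 2 n14795 = n21542 := rfl
theorem F92564 : act 3 n21542 = n14816 := d17_2 D14795 D21542 (iv D14816) (iv D10191) (iv F45414)
theorem F92565 : act 6 n21542 = n14797 := d20_2 (iv F64718) D21542 (iv D14797)
def n21543 : Q := act 4 n14795
theorem D21543 : act 4 n14795 = n21543 := rfl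
theorem F92566 : act 3 n21543 = n14802 := d24_1 D21543 (iv D14802) (iv D10181) (iv F45415) D14795
theorem F92567 : act 6 n21543 = n14798 := d31_2 (iv F64718) D21543 (iv D14798)
def n21544 : Q := act 9 n14795
theorem D21544 : act 9 n14795 = n21544 := rfl
theorem F92568 : act 3 n21544 = n14796 := d29_1 D21544 (iv D14796) D14795
theorem F92569 : act 6 n21544 = n14799 := d41_1 D21544 (iv D14799) (iv F64718)
def n21545 : Q := act 1 n14797
theorem D21545 : act 1 n14797 = n21545 := rfl
theorem F92570 : act 3 n21545 = n14818 := d10_2 (iv F64722) D21545 (iv D14818)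
theorem F92571 : act 7 n21545 = n21545 := d14_2 F64723 D21545 (iv D21545)
def n21546 : Q := act 4 n14797
theorem D21546 : act 4 n14797 = n21546 := rfl
theorem F92572 : act 2 n21546 = n14798 := d18_1 D21546 (iv D14798) D14797
theorem F92573 : act 3 n21546 = n15190 := d24_1 D21546 (iv D15190) F46554 (iv F45461) (iv F64722)
theorem F92574 : act 7 n21546 = n21546 := d32_2 F64723 D21546 (iv D21546)
def n21547 : Q := act 9 n14797
theorem D21547 : act 9 n14797 = n21547 := rfl
theorem F92575 : act 2 n21547 = n14799 := d23_1 D21547 (iv D14799) D14797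
theorem F92576 : act 3 n21547 = n14819 := d29_1 D21547 (iv D14819) (iv F64722)
theorem F92577 : act 7 n21547 = n21547 := d43_1 D21547 (iv D21547) F64723
def n21548 : Q := act 5 n14798
theorem D21548 : act 5 n14798 = n21548 := rfl
theorem F92578 : act 3 n21548 = n14804 := d25_1 D21548 (iv D14804) (iv F64724)
theorem F92579 : act 7 n21548 = n21548 := d36_2 F64725 D21548 (iv D21548)
def n21549 : Q := act 9 n14798
theorem D21549 : act 9 n14798 = n21549 := rfl
theorem F92580 : act 3 n21549 = n14805 := d29_1 D21549 (iv D14805) (iv F64724)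
theorem F92581 : act 4 n21549 = n14799 := d34_1 D21549 (iv D14799) D14798
theorem F92582 : act 7 n21549 = n21549 := d43_1 D21549 (iv D21549) F64725
def n21550 : Q := act 8 n14799
theorem D21550 : act 8 n14799 = n21550 := rfl
theorem F92583 : act 7 n21550 = n21550 := d42_1 D21550 (iv D21550) F64727
def n21551 : Q := act 4 n14800
theorem D21551 : act 4 n14800 = n21551 := rfl
theorem F92584 : act 2 n21551 = n15195 := d18_1 D21551 (iv D15195) (iv F64728)
theorem F92585 : act 6 n21551 = n21551 := d31_2 F64729 D21551 (iv D21551)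
theorem F92586 : act 7 n21551 = n14802 := d32_2 (iv F64730) D21551 (iv D14802)
theorem F92587 : act 8 n21551 = n16357 := d33_2 (iv F64731) D21551 (iv D16357)
def n21552 : Q := act 9 n14800
theorem D21552 : act 9 n14800 = n21552 := rfl
theorem F92588 : act 2 n21552 = n15196 := d23_1 D21552 (iv D15196) (iv F64728)
theorem F92589 : act 3 n21552 = n14801 := d29_1 D21552 (iv D14801) D14800
theorem F92590 : act 6 n21552 = n21552 := d41_1 D21552 (iv D21552) F64729
theorem F92591 : act 7 n21552 = n14803 := d43_1 D21552 (iv D14803) (iv F64730)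
def n21553 : Q := act 5 n14802
theorem D21553 : act 5 n14802 = n21553 := rfl
theorem F92592 : act 2 n21553 = n15197 := d19_1 D21553 (iv D15197) (iv F64735)
theorem F92593 : act 8 n21553 = n16359 := d37_2 (iv F64737) D21553 (iv D16359)
def n21554 : Q := act 9 n14802
theorem D21554 : act 9 n14802 = n21554 := rfl
theorem F92594 : act 2 n21554 = n15198 := d23_1 D21554 (iv D15198) (iv F64735)
theorem F92595 : act 4 n21554 = n14803 := d34_1 D21554 (iv D14803) D14802
theorem F92596 : act 6 n21554 = n14805 := d41_1 D21554 (iv D14805) (iv F64736)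
def n21555 : Q := act 8 n14803
theorem D21555 : act 8 n14803 = n21555 := rfl
theorem F92599 : act 9 n21555 = n16361 := d44_2 D14803 D21555 (iv D16361) (iv D11247) (iv F45426)
def n21556 : Q := act 6 n14804
theorem D21556 : act 6 n14804 = n21556 := rfl
theorem F92600 : act 2 n21556 = n15200 := d20_1 D21556 (iv D15200) (iv F64741)
theorem F92601 : act 4 n21556 = n14807 := d31_1 D21556 (iv D14807) (iv F64742)
theorem F92602 : act 8 n21556 = n16362 := d40_2 (iv F64744) D21556 (iv D16362)
def n21557 : Q := act 9 n14804
theorem D21557 : act 9 n14804 = n21557 := rfl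
theorem F92603 : act 2 n21557 = n15201 := d23_1 D21557 (iv D15201) (iv F64741)
theorem F92604 : act 4 n21557 = n14808 := d34_1 D21557 (iv D14808) (iv F64742)
theorem F92605 : act 5 n21557 = n14805 := d38_1 D21557 (iv D14805) D14804
theorem F92606 : act 7 n21557 = n21557 := d43_1 D21557 (iv D21557) F64743
def n21558 : Q := act 8 n14805
theorem D21558 : act 8 n14805 = n21558 := rfl
theorem F92610 : act 9 n21558 = n16364 := d44_2 D14805 D21558 (iv D16364) (iv D11249) (iv F45431)
def n21559 : Q := act 7 n14807
theorem D21559 : act 7 n14807 = n21559 := rfl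
theorem F92611 : act 2 n21559 = n15203 := d21_1 D21559 (iv D15203) (iv F64752)
theorem F92612 : act 6 n21559 = n21559 := d39_1 D21559 (iv D21559) (iv D14807) F45437 D14807
theorem F92613 : act 8 n21559 = n16365 := d42_2 (iv F64753) D21559 (iv D16365)
def n21560 : Q := act 9 n14807
theorem D21560 : act 9 n14807 = n21560 := rfl
theorem F92614 : act 2 n21560 = n15204 := d23_1 D21560 (iv D15204) (iv F64752)
theorem F92615 : act 6 n21560 = n14808 := d41_1 D21560 (iv D14808) D14807
def n21561 : Q := act 8 n14808
theorem D21561 : act 8 n14808 = n21561 := rfl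
theorem F92616 : act 2 n21561 = n15205 := d22_1 D21561 (iv D15205) (iv F64754)
theorem F92619 : act 9 n21561 = n16367 := d44_2 D14808 D21561 (iv D16367) (iv D11252) (iv F45438)
def n21562 : Q := act 3 n14809
theorem D21562 : act 3 n14809 = n21562 := rfl
theorem F92621 : act 9 n21562 = n16368 := d29_2 (iv F64760) D21562 (iv D16368)
def n21563 : Q := act 8 n14810
theorem D21563 : act 8 n14810 = n21563 := rfl
theorem F92622 : act 1 n21563 = n14821 := d15_1 D21563 (iv D14821) (iv F64761)
theorem F92623 : act 5 n21563 = n21563 := d37_1 D21563 (iv D21563) F64763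
theorem F92624 : act 6 n21563 = n14811 := d40_1 D21563 (iv D14811) D14810
def n21564 : Q := act 3 n14811
theorem D21564 : act 3 n14811 = n21564 := rfl
theorem F92625 : act 1 n21564 = n14822 := d10_1 D21564 (iv D14822) (iv F64764)
theorem F92626 : act 5 n21564 = n14814 := d25_2 (iv F64765) D21564 (iv D14814)
theorem F92627 : act 7 n21564 = n14812 := d27_2 (iv F64766) D21564 (iv D14812)
theorem F92628 : act 8 n21564 = n14967 := d28_2 D14811 D21564 (iv D14967) (iv D10298) (iv F45446)
def n21565 : Q := act 9 n14811
theorem D21565 : act 9 n14811 = n21565 := rfl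
theorem F92629 : act 1 n21565 = n14823 := d16_1 D21565 (iv D14823) (iv F64764)
theorem F92630 : act 5 n21565 = n14815 := d38_1 D21565 (iv D14815) (iv F64765)
theorem F92631 : act 7 n21565 = n14813 := d43_1 D21565 (iv D14813) (iv F64766)
def n21566 : Q := act 2 n14812
theorem D21566 : act 2 n14812 = n21566 := rfl
theorem F92632 : act 5 n21566 = n14816 := d19_2 (iv F64768) D21566 (iv D14816)
theorem F92633 : act 8 n21566 = n14969 := d22_2 (iv F64769) D21566 (iv D14969)
def n21567 : Q := act 4 n14812
theorem D21567 : act 4 n14812 = n21567 := rfl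
theorem F92634 : act 1 n21567 = n14825 := d11_1 D21567 (iv D14825) (iv F64767)
theorem F92635 : act 5 n21567 = n15211 := d30_2 (iv F64768) D21567 (iv D15211) F46613 (iv F45455)
theorem F92636 : act 8 n21567 = n14970 := d33_2 (iv F64769) D21567 (iv D14970)
def n21568 : Q := act 9 n14812
theorem D21568 : act 9 n14812 = n21568 := rfl
theorem F92637 : act 1 n21568 = n14826 := d16_1 D21568 (iv D14826) (iv F64767)
theorem F92638 : act 3 n21568 = n14813 := d29_1 D21568 (iv D14813) D14812
theorem F92639 : act 5 n21568 = n14817 := d38_1 D21568 (iv D14817) (iv F64768)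
def n21569 : Q := act 2 n14814
theorem D21569 : act 2 n14814 = n21569 := rfl
theorem F92640 : act 4 n21569 = n15213 := d18_2 (iv F64773) D21569 (iv D15213)
theorem F92641 : act 6 n21569 = n21569 := d20_2 F64774 D21569 (iv D21569)
theorem F92642 : act 7 n21569 = n14816 := d21_2 (iv F64775) D21569 (iv D14816)
theorem F92643 : act 8 n21569 = n14972 := d22_2 (iv F64776) D21569 (iv D14972)
def n21570 : Q := act 9 n14814
theorem D21570 : act 9 n14814 = n21570 := rfl
theorem F92644 : act 1 n21570 = n14828 := d16_1 D21570 (iv D14828) (iv F64772)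
theorem F92645 : act 3 n21570 = n14815 := d29_1 D21570 (iv D14815) D14814
theorem F92646 : act 4 n21570 = n15214 := d34_1 D21570 (iv D15214) (iv F64773)
theorem F92647 : act 6 n21570 = n21570 := d41_1 D21570 (iv D21570) F64774
theorem F92648 : act 7 n21570 = n14817 := d43_1 D21570 (iv D14817) (iv F64775)
def n21571 : Q := act 1 n14816
theorem D21571 : act 1 n14816 = n21571 := rfl
theorem F92649 : act 2 n21571 = n14829 := d9_2 D14816 D21571 (iv D14829) (iv D10202) (iv F45454)
theorem F92650 : act 4 n21571 = n15215 := d11_2 (iv F64781) D21571 (iv D15215)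
theorem F92651 : act 6 n21571 = n14818 := d13_2 (iv F64782) D21571 (iv D14818)
theorem F92652 : act 8 n21571 = n14974 := d15_2 (iv F64783) D21571 (iv D14974)
def n21572 : Q := act 9 n14816
theorem D21572 : act 9 n14816 = n21572 := rfl
theorem F92653 : act 2 n21572 = n14817 := d23_1 D21572 (iv D14817) D14816
theorem F92654 : act 4 n21572 = n15216 := d34_1 D21572 (iv D15216) (iv F64781)
theorem F92655 : act 6 n21572 = n14819 := d41_1 D21572 (iv D14819) (iv F64782)
def n21573 : Q := act 8 n14817
theorem D21573 : act 8 n14817 = n21573 := rfl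
theorem F92656 : act 1 n21573 = n14831 := d15_1 D21573 (iv D14831) (iv F64784)
theorem F92657 : act 4 n21573 = n15217 := d33_1 D21573 (iv D15217) (iv F64786)
theorem F92658 : act 6 n21573 = n14820 := d40_1 D21573 (iv D14820) (iv F64787)
theorem F92659 : act 9 n21573 = n14976 := d44_2 D14817 D21573 (iv D14976) (iv D10304) (iv F45457)
def n21574 : Q := act 0 n14818
theorem D21574 : act 0 n14818 = n21574 := rfl
theorem F92660 : act 2 n21574 = n14832 := d1_2 (iv F64788) D21574 (iv D14832)
theorem F92661 : act 4 n21574 = n15218 := d3_2 (iv F64789) D21574 (iv D15218)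
theorem F92662 : act 7 n21574 = n21574 := d6_2 F64790 D21574 (iv D21574)
theorem F92663 : act 8 n21574 = n14977 := d7_2 (iv F64791) D21574 (iv D14977)
def n21575 : Q := act 9 n14818
theorem D21575 : act 9 n14818 = n21575 := rfl
theorem F92664 : act 1 n21575 = n14819 := d16_1 D21575 (iv D14819) D14818
theorem F92665 : act 2 n21575 = n14833 := d23_1 D21575 (iv D14833) (iv F64788)
theorem F92666 : act 4 n21575 = n15219 := d34_1 D21575 (iv D15219) (iv F64789)
theorem F92667 : act 7 n21575 = n21575 := d43_1 D21575 (iv D21575) F64790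
def n21576 : Q := act 8 n14819
theorem D21576 : act 8 n14819 = n21576 := rfl
theorem F92668 : act 2 n21576 = n14820 := d22_1 D21576 (iv D14820) (iv F64792)
theorem F92669 : act 4 n21576 = n15220 := d33_1 D21576 (iv D15220) (iv F64793)
theorem F92670 : act 7 n21576 = n21576 := d42_1 D21576 (iv D21576) F64794
theorem F92671 : act 9 n21576 = n14979 := d44_2 D14819 D21576 (iv D14979) (iv D10306) (iv F45463)
def n21577 : Q := act 3 n14821
theorem D21577 : act 3 n14821 = n21577 := rfl
theorem F92672 : act 0 n21577 = n21577 := d2_1 D21577 (iv D21577) F64799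
theorem F92673 : act 5 n21577 = n21577 := d25_2 F64800 D21577 (iv D21577)
theorem F92674 : act 6 n21577 = n14822 := d26_2 (iv F64801) D21577 (iv D14822)
theorem F92675 : act 8 n21577 = n14980 := d28_2 D14821 D21577 (iv D14980) (iv D10308) (iv F45473)
def n21578 : Q := act 9 n14821
theorem D21578 : act 9 n14821 = n21578 := rfl
theorem F92676 : act 0 n21578 = n21578 := d8_1 D21578 (iv D21578) F64799
theorem F92677 : act 5 n21578 = n21578 := d38_1 D21578 (iv D21578) F64800
theorem F92678 : act 6 n21578 = n14823 := d41_1 D21578 (iv D14823) (iv F64801)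
def n21579 : Q := act 2 n14822
theorem D21579 : act 2 n14822 = n21579 := rfl
theorem F92679 : act 0 n21579 = n21579 := d1_1 D21579 (iv D21579) F64802
theorem F92680 : act 5 n21579 = n14827 := d19_2 (iv F64803) D21579 (iv D14827)
theorem F92681 : act 7 n21579 = n14824 := d21_2 (iv F64804) D21579 (iv D14824)
theorem F92682 : act 8 n21579 = n14982 := d22_2 (iv F64805) D21579 (iv D14982)
def n21580 : Q := act 4 n14822
theorem D21580 : act 4 n14822 = n21580 := rfl
theorem F92683 : act 0 n21580 = n21580 := d3_1 D21580 (iv D21580) F64802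
theorem F92684 : act 5 n21580 = n15224 := d30_2 (iv F64803) D21580 (iv D15224) F46652 (iv F45484)
theorem F92685 : act 7 n21580 = n14825 := d32_2 (iv F64804) D21580 (iv D14825)
theorem F92686 : act 8 n21580 = n14983 := d33_2 (iv F64805) D21580 (iv D14983)
def n21581 : Q := act 9 n14822
theorem D21581 : act 9 n14822 = n21581 := rfl
theorem F92687 : act 0 n21581 = n21581 := d8_1 D21581 (iv D21581) F64802
theorem F92688 : act 3 n21581 = n14823 := d29_1 D21581 (iv D14823) D14822
theorem F92689 : act 5 n21581 = n14828 := d38_1 D21581 (iv D14828) (iv F64803)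
theorem F92690 : act 7 n21581 = n14826 := d43_1 D21581 (iv D14826) (iv F64804)
def n21582 : Q := act 1 n14824
theorem D21582 : act 1 n14824 = n21582 := rfl
theorem F92691 : act 5 n21582 = n14829 := d12_2 (iv F64810) D21582 (iv D14829)
theorem F92692 : act 8 n21582 = n14985 := d15_2 (iv F64811) D21582 (iv D14985)
def n21583 : Q := act 4 n14824
theorem D21583 : act 4 n14824 = n21583 := rfl
theorem F92693 : act 0 n21583 = n21583 := d3_1 D21583 (iv D21583) F64809
theorem F92694 : act 2 n21583 = n14825 := d18_1 D21583 (iv D14825) D14824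
theorem F92695 : act 5 n21583 = n15227 := d30_2 (iv F64810) D21583 (iv D15227) F46662 (iv F45493)
theorem F92696 : act 8 n21583 = n14986 := d33_2 (iv F64811) D21583 (iv D14986)
def n21584 : Q := act 9 n14824
theorem D21584 : act 9 n14824 = n21584 := rfl
theorem F92697 : act 0 n21584 = n21584 := d8_1 D21584 (iv D21584) F64809
theorem F92698 : act 2 n21584 = n14826 := d23_1 D21584 (iv D14826) D14824
theorem F92699 : act 5 n21584 = n14830 := d38_1 D21584 (iv D14830) (iv F64810)
def n21585 : Q := act 9 n14825
theorem D21585 : act 9 n14825 = n21585 := rfl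
theorem F92700 : act 0 n21585 = n21585 := d8_1 D21585 (iv D21585) F64812
theorem F92701 : act 4 n21585 = n14826 := d34_1 D21585 (iv D14826) D14825
theorem F92702 : act 5 n21585 = n15229 := d38_1 D21585 (iv D15229) (iv F64813)
def n21586 : Q := act 8 n14826
theorem D21586 : act 8 n14826 = n21586 := rfl
theorem F92703 : act 0 n21586 = n21586 := d7_1 D21586 (iv D21586) F64815
theorem F92704 : act 5 n21586 = n14831 := d37_1 D21586 (iv D14831) (iv F64817)
theorem F92705 : act 9 n21586 = n14989 := d44_2 D14826 D21586 (iv D14989) (iv D10313) (iv F45480)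
def n21587 : Q := act 1 n14827
theorem D21587 : act 1 n14827 = n21587 := rfl
theorem F92706 : act 4 n21587 = n15231 := d11_2 (iv F64819) D21587 (iv D15231)
theorem F92707 : act 6 n21587 = n21587 := d13_2 F64820 D21587 (iv D21587)
theorem F92708 : act 7 n21587 = n14829 := d14_2 (iv F64821) D21587 (iv D14829)
theorem F92709 : act 8 n21587 = n14990 := d15_2 (iv F64822) D21587 (iv D14990)
def n21588 : Q := act 9 n14827
theorem D21588 : act 9 n14827 = n21588 := rfl
theorem F92710 : act 0 n21588 = n21588 := d8_1 D21588 (iv D21588) F64818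
theorem F92711 : act 2 n21588 = n14828 := d23_1 D21588 (iv D14828) D14827
theorem F92712 : act 4 n21588 = n15232 := d34_1 D21588 (iv D15232) (iv F64819)
theorem F92713 : act 6 n21588 = n21588 := d41_1 D21588 (iv D21588) F64820
theorem F92714 : act 7 n21588 = n14830 := d43_1 D21588 (iv D14830) (iv F64821)
def n21589 : Q := act 8 n14828
theorem D21589 : act 8 n14828 = n21589 := rfl
theorem F92715 : act 0 n21589 = n21589 := d7_1 D21589 (iv D21589) F64823
theorem F92716 : act 4 n21589 = n15233 := d33_1 D21589 (iv D15233) (iv F64825)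
theorem F92717 : act 6 n21589 = n21589 := d40_1 D21589 (iv D21589) F64826
theorem F92718 : act 7 n21589 = n14831 := d42_1 D21589 (iv D14831) (iv F64827)
theorem F92719 : act 9 n21589 = n14992 := d44_2 D14828 D21589 (iv D14992) (iv D10315) (iv F45487)
def n21590 : Q := act 0 n14829
theorem D21590 : act 0 n14829 = n21590 := rfl
theorem F92720 : act 1 n21590 = n21590 := d0_2 D14829 D21590 (iv D21590) (iv D14829) F45492
theorem F92721 : act 4 n21590 = n15234 := d3_2 (iv F64828) D21590 (iv D15234)
theorem F92722 : act 6 n21590 = n14832 := d5_2 (iv F64829) D21590 (iv D14832)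
theorem F92723 : act 8 n21590 = n14993 := d7_2 (iv F64830) D21590 (iv D14993)
def n21591 : Q := act 9 n14829
theorem D21591 : act 9 n14829 = n21591 := rfl
theorem F92724 : act 1 n21591 = n14830 := d16_1 D21591 (iv D14830) D14829
theorem F92725 : act 4 n21591 = n15235 := d34_1 D21591 (iv D15235) (iv F64828)
theorem F92726 : act 6 n21591 = n14833 := d41_1 D21591 (iv D14833) (iv F64829)
def n21592 : Q := act 8 n14830
theorem D21592 : act 8 n14830 = n21592 := rfl
theorem F92727 : act 0 n21592 = n21592 := d7_1 D21592 (iv D21592) F64831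
theorem F92728 : act 2 n21592 = n14831 := d22_1 D21592 (iv D14831) (iv F64832)
theorem F92729 : act 4 n21592 = n15236 := d33_1 D21592 (iv D15236) (iv F64833)
theorem F92730 : act 6 n21592 = n14834 := d40_1 D21592 (iv D14834) (iv F64834)
theorem F92731 : act 9 n21592 = n14995 := d44_2 D14830 D21592 (iv D14995) (iv D10317) (iv F45495)
def n21593 : Q := act 9 n14832
theorem D21593 : act 9 n14832 = n21593 := rfl
theorem F92732 : act 0 n21593 = n14833 := d8_1 D21593 (iv D14833) D14832
theorem F92733 : act 1 n21593 = n21593 := d16_1 D21593 (iv D21593) F64839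
theorem F92734 : act 4 n21593 = n15237 := d34_1 D21593 (iv D15237) (iv F64840)
theorem F92735 : act 7 n21593 = n21593 := d43_1 D21593 (iv D21593) F64841
def n21594 : Q := act 8 n14833
theorem D21594 : act 8 n14833 = n21594 := rfl
theorem F92736 : act 1 n21594 = n14834 := d15_1 D21594 (iv D14834) (iv F64843)
theorem F92737 : act 4 n21594 = n15238 := d33_1 D21594 (iv D15238) (iv F64844)
theorem F92738 : act 7 n21594 = n21594 := d42_1 D21594 (iv D21594) F64845
theorem F92739 : act 9 n21594 = n14997 := d44_2 D14833 D21594 (iv D14997) (iv D10320) (iv F45502)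
def n21595 : Q := act 3 n14834
theorem D21595 : act 3 n14834 = n21595 := rfl
theorem F92740 : act 0 n21595 = n21595 := d2_1 D21595 (iv D21595) F64846
theorem F92741 : act 7 n21595 = n21595 := d27_2 F64849 D21595 (iv D21595)
theorem F92742 : act 9 n21595 = n14998 := d29_2 (iv F64850) D21595 (iv D14998)
def n21597 : Q := act 6 n14835
theorem D21597 : act 6 n14835 = n21597 := rfl
theorem F92750 : act 3 n21597 = n14836 := d26_1 D21597 (iv D14836) D14835
theorem F92752 : act 9 n21597 = n14914 := d41_2 (iv F64855) D21597 (iv D14914)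
def n21601 : Q := act 8 n14836
theorem D21601 : act 8 n14836 = n21601 := rfl
theorem F92772 : act 6 n21601 = n14837 := d40_1 D21601 (iv D14837) D14836
def n21602 : Q := act 3 n14837
theorem D21602 : act 3 n14837 = n21602 := rfl
def n21612 : Q := act 5 n14843
theorem D21612 : act 5 n14843 = n21612 := rfl
def n21614 : Q := act 5 n14845
theorem D21614 : act 5 n14845 = n21614 := rfl
theorem F92838 : act 0 n21614 = n14867 := d4_1 D21614 (iv D14867) (iv F64906)
theorem F92840 : act 9 n21614 = n14923 := d38_2 (iv F64909) D21614 (iv D14923)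
def n21615 : Q := act 7 n14845
theorem D21615 : act 7 n14845 = n21615 := rfl
theorem F92841 : act 0 n21615 = n14868 := d6_1 D21615 (iv D14868) (iv F64906)
theorem F92843 : act 4 n21615 = n16386 := d32_1 D21615 (iv D16386) (iv F64908)
theorem F92845 : act 9 n21615 = n14924 := d43_2 (iv F64909) D21615 (iv D14924)
def n21616 : Q := act 8 n14845
theorem D21616 : act 8 n14845 = n21616 := rfl
theorem F92846 : act 0 n21616 = n14869 := d7_1 D21616 (iv D14869) (iv F64906)
theorem F92847 : act 4 n21616 = n16387 := d33_1 D21616 (iv D16387) (iv F64908)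
def n21618 : Q := act 9 n14846
theorem D21618 : act 9 n14846 = n21618 := rfl
theorem F92852 : act 0 n21618 = n14871 := d8_1 D21618 (iv D14871) (iv F64910)
theorem F92853 : act 4 n21618 = n16389 := d34_1 D21618 (iv D16389) (iv F64911)
def n21619 : Q := act 7 n14847
theorem D21619 : act 7 n14847 = n21619 := rfl
theorem F92856 : act 0 n21619 = n14872 := d6_1 D21619 (iv D14872) (iv F64913)
theorem F92857 : act 2 n21619 = n14859 := d21_1 D21619 (iv D14859) (iv F64914)
theorem F92860 : act 9 n21619 = n14928 := d43_2 (iv F64916) D21619 (iv D14928)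
def n21624 : Q := act 2 n14850
theorem D21624 : act 2 n14850 = n21624 := rfl
theorem F92877 : act 0 n21624 = n14877 := d1_1 D21624 (iv D14877) (iv F64926)
theorem F92878 : act 3 n21624 = n14864 := d17_2 D14850 D21624 (iv D14864) (iv D10224) (iv F45547)
def n21625 : Q := act 4 n14850
theorem D21625 : act 4 n14850 = n21625 := rfl
def n21626 : Q := act 9 n14850
theorem D21626 : act 9 n14850 = n21626 := rfl
theorem F92884 : act 3 n21626 = n14851 := d29_1 D21626 (iv D14851) D14850
def n21633 : Q := act 6 n14857
theorem D21633 : act 6 n14857 = n21633 := rfl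
def n21635 : Q := act 6 n14859
theorem D21635 : act 6 n14859 = n21635 := rfl
theorem F92927 : act 0 n21635 = n14888 := d5_1 D21635 (iv D14888) (iv F64968)
theorem F92928 : act 1 n21635 = n21635 := d13_1 D21635 (iv D21635) F64969
theorem F92929 : act 4 n21635 = n21635 := d31_1 D21635 (iv D21635) F64970
theorem F92930 : act 5 n21635 = n21635 := d35_1 D21635 (iv D21635) F64971 F45588 (iv F64971)
theorem F92931 : act 9 n21635 = n14936 := d41_2 (iv F64972) D21635 (iv D14936)
def n21636 : Q := act 8 n14859
theorem D21636 : act 8 n14859 = n21636 := rfl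
theorem F92932 : act 0 n21636 = n14889 := d7_1 D21636 (iv D14889) (iv F64968)
theorem F92936 : act 7 n21636 = n14860 := d42_1 D21636 (iv D14860) D14859
def n21637 : Q := act 3 n14860
theorem D21637 : act 3 n14860 = n21637 := rfl
theorem F92937 : act 0 n21637 = n14890 := d2_1 D21637 (iv D14890) (iv F64973)
theorem F92939 : act 5 n21637 = n14862 := d25_2 (iv F64976) D21637 (iv D14862)
def n21638 : Q := act 9 n14860
theorem D21638 : act 9 n14860 = n21638 := rfl
theorem F92944 : act 8 n21638 = n14939 := d44_1 D21638 (iv D14939) (iv D10277) (iv F45584) D14860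
def n21639 : Q := act 3 n14861
theorem D21639 : act 3 n14861 = n21639 := rfl
theorem F92949 : act 7 n21639 = n14862 := d27_2 (iv F64981) D21639 (iv D14862)
def n21641 : Q := act 2 n14862
theorem D21641 : act 2 n14862 = n21641 := rfl
theorem F92956 : act 0 n21641 = n14894 := d1_1 D21641 (iv D14894) (iv F64982)
theorem F92958 : act 6 n21641 = n14864 := d20_2 (iv F64985) D21641 (iv D14864)
def n21642 : Q := act 9 n14862
theorem D21642 : act 9 n14862 = n21642 := rfl
theorem F92961 : act 3 n21642 = n14863 := d29_1 D21642 (iv D14863) D14862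
theorem F92963 : act 6 n21642 = n14865 := d41_1 D21642 (iv D14865) (iv F64985)
def n21643 : Q := act 1 n14864
theorem D21643 : act 1 n14864 = n21643 := rfl
def n21644 : Q := act 9 n14864
theorem D21644 : act 9 n14864 = n21644 := rfl
theorem F92968 : act 2 n21644 = n14865 := d23_1 D21644 (iv D14865) D14864
def n21645 : Q := act 8 n14865
theorem D21645 : act 8 n14865 = n21645 := rfl
theorem F92973 : act 3 n21645 = n14946 := d28_1 D21645 (iv D14946) F45846 (iv F45602) (iv F64996)
def n21646 : Q := act 4 n14867
theorem D21646 : act 4 n14867 = n21646 := rfl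
theorem F92976 : act 1 n21646 = n21646 := d11_1 D21646 (iv D21646) F65006
theorem F92977 : act 3 n21646 = n21646 := d24_1 D21646 (iv D21646) F65007 F45624 (iv F65007)
theorem F92978 : act 5 n21646 = n16406 := d30_2 D14867 D21646 (iv D16406) (iv D11283) (iv F45617)
theorem F92979 : act 9 n21646 = n14947 := d34_2 (iv F65008) D21646 (iv D14947)
def n21647 : Q := act 7 n14867
theorem D21647 : act 7 n14867 = n21647 := rfl
theorem F92980 : act 1 n21647 = n21647 := d14_1 D21647 (iv D21647) F65006
theorem F92981 : act 3 n21647 = n14872 := d27_1 D21647 (iv D14872) (iv F65007)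
theorem F92982 : act 5 n21647 = n14868 := d36_1 D21647 (iv D14868) D14867
theorem F92983 : act 9 n21647 = n14948 := d43_2 (iv F65008) D21647 (iv D14948)
def n21648 : Q := act 8 n14867
theorem D21648 : act 8 n14867 = n21648 := rfl
theorem F92984 : act 1 n21648 = n21648 := d15_1 D21648 (iv D21648) F65006
theorem F92985 : act 5 n21648 = n14869 := d37_1 D21648 (iv D14869) D14867
def n21649 : Q := act 8 n14868
theorem D21649 : act 8 n14868 = n21649 := rfl
theorem F92986 : act 1 n21649 = n21649 := d15_1 D21649 (iv D21649) F65009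
theorem F92987 : act 4 n21649 = n16409 := d33_1 D21649 (iv D16409) (iv F65011)
theorem F92988 : act 6 n21649 = n21649 := d40_1 D21649 (iv D21649) F65012
theorem F92989 : act 7 n21649 = n14869 := d42_1 D21649 (iv D14869) D14868
def n21650 : Q := act 3 n14869
theorem D21650 : act 3 n14869 = n21650 := rfl
theorem F92992 : act 8 n21650 = n14875 := d28_2 D14869 D21650 (iv D14875) (iv D10232) (iv F45616)
def n21651 : Q := act 9 n14869
theorem D21651 : act 9 n14869 = n21651 := rfl
theorem F92993 : act 1 n21651 = n21651 := d16_1 D21651 (iv D21651) F65014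
theorem F92994 : act 4 n21651 = n16411 := d34_1 D21651 (iv D16411) (iv F65015)
theorem F92995 : act 6 n21651 = n14871 := d41_1 D21651 (iv D14871) (iv F65016)
theorem F92996 : act 8 n21651 = n14952 := d44_1 D21651 (iv D14952) (iv D10286) (iv F45618) D14869
def n21652 : Q := act 2 n14870
theorem D21652 : act 2 n14870 = n21652 := rfl
theorem F92998 : act 8 n21652 = n14877 := d22_2 (iv F65019) D21652 (iv D14877)
def n21653 : Q := act 4 n14870
theorem D21653 : act 4 n14870 = n21653 := rfl
theorem F93000 : act 3 n21653 = n16413 := d24_1 D21653 (iv D16413) (iv D11286) (iv F45620) D14870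
theorem F93002 : act 8 n21653 = n14878 := d33_2 (iv F65019) D21653 (iv D14878)
def n21654 : Q := act 9 n14870
theorem D21654 : act 9 n14870 = n21654 := rfl
theorem F93004 : act 3 n21654 = n14871 := d29_1 D21654 (iv D14871) D14870
def n21655 : Q := act 6 n14872
theorem D21655 : act 6 n14872 = n21655 := rfl
theorem F93006 : act 1 n21655 = n21655 := d13_1 D21655 (iv D21655) F65024
theorem F93007 : act 2 n21655 = n14888 := d20_1 D21655 (iv D14888) (iv F65025)
theorem F93008 : act 4 n21655 = n21655 := d31_1 D21655 (iv D21655) F65026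
theorem F93009 : act 5 n21655 = n21655 := d35_1 D21655 (iv D21655) F65027 F45629 (iv F65027)
theorem F93010 : act 9 n21655 = n14955 := d41_2 (iv F65028) D21655 (iv D14955)
def n21656 : Q := act 8 n14872
theorem D21656 : act 8 n14872 = n21656 := rfl
theorem F93012 : act 2 n21656 = n14889 := d22_1 D21656 (iv D14889) (iv F65025)
theorem F93015 : act 7 n21656 = n14873 := d42_1 D21656 (iv D14873) D14872
def n21657 : Q := act 3 n14873
theorem D21657 : act 3 n14873 = n21657 := rfl
theorem F93017 : act 5 n21657 = n14875 := d25_2 (iv F65032) D21657 (iv D14875)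
def n21658 : Q := act 9 n14873
theorem D21658 : act 9 n14873 = n21658 := rfl
theorem F93022 : act 8 n21658 = n14958 := d44_1 D21658 (iv D14958) (iv D10290) (iv F45625) D14873
def n21659 : Q := act 3 n14874
theorem D21659 : act 3 n14874 = n21659 := rfl
theorem F93025 : act 7 n21659 = n14875 := d27_2 (iv F65037) D21659 (iv D14875)
def n21660 : Q := act 9 n14874
theorem D21660 : act 9 n14874 = n21660 := rfl
theorem F93031 : act 8 n21660 = n14960 := d44_1 D21660 (iv D14960) (iv D10291) (iv F45630) D14874
def n21661 : Q := act 2 n14875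
theorem D21661 : act 2 n14875 = n21661 := rfl
theorem F93032 : act 3 n21661 = n14894 := d17_2 D14875 D21661 (iv D14894) (iv D10245) (iv F45632)
theorem F93033 : act 6 n21661 = n14877 := d20_2 (iv F65039) D21661 (iv D14877)
def n21663 : Q := act 9 n14875
theorem D21663 : act 9 n14875 = n21663 := rfl
theorem F93038 : act 3 n21663 = n14876 := d29_1 D21663 (iv D14876) D14875
theorem F93039 : act 6 n21663 = n14879 := d41_1 D21663 (iv D14879) (iv F65039)
def n21664 : Q := act 1 n14877
theorem D21664 : act 1 n14877 = n21664 := rfl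
theorem F93041 : act 3 n21664 = n14896 := d10_2 (iv F65045) D21664 (iv D14896)
def n21665 : Q := act 4 n14877
theorem D21665 : act 4 n14877 = n21665 := rfl
def n21666 : Q := act 9 n14877
theorem D21666 : act 9 n14877 = n21666 := rfl
theorem F93046 : act 2 n21666 = n14879 := d23_1 D21666 (iv D14879) D14877
theorem F93047 : act 3 n21666 = n14897 := d29_1 D21666 (iv D14897) (iv F65045)
def n21667 : Q := act 5 n14878
theorem D21667 : act 5 n14878 = n21667 := rfl
def n21668 : Q := act 9 n14878
theorem D21668 : act 9 n14878 = n21668 := rfl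
theorem F93054 : act 4 n21668 = n14879 := d34_1 D21668 (iv D14879) D14878
def n21669 : Q := act 8 n14879
theorem D21669 : act 8 n14879 = n21669 := rfl
theorem F93057 : act 3 n21669 = n14965 := d28_1 D21669 (iv D14965) F45895 (iv F45641) (iv F65051)
def n21678 : Q := act 8 n14888
theorem D21678 : act 8 n14888 = n21678 := rfl
theorem F93100 : act 1 n21678 = n14899 := d15_1 D21678 (iv D14899) (iv F65094)
theorem F93101 : act 4 n21678 = n21678 := d33_1 D21678 (iv D21678) F65095
theorem F93102 : act 5 n21678 = n21678 := d37_1 D21678 (iv D21678) F65096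
theorem F93103 : act 6 n21678 = n14889 := d40_1 D21678 (iv D14889) D14888
def n21679 : Q := act 3 n14889
theorem D21679 : act 3 n14889 = n21679 := rfl
theorem F93104 : act 1 n21679 = n14900 := d10_1 D21679 (iv D14900) (iv F65098)
theorem F93105 : act 5 n21679 = n14892 := d25_2 (iv F65100) D21679 (iv D14892)
theorem F93106 : act 7 n21679 = n14890 := d27_2 (iv F65101) D21679 (iv D14890)
def n21680 : Q := act 9 n14889
theorem D21680 : act 9 n14889 = n21680 := rfl
theorem F93107 : act 1 n21680 = n14901 := d16_1 D21680 (iv D14901) (iv F65098)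
theorem F93111 : act 8 n21680 = n14968 := d44_1 D21680 (iv D14968) (iv D10298) (iv F45680) D14889
def n21681 : Q := act 2 n14890
theorem D21681 : act 2 n14890 = n21681 := rfl
theorem F93112 : act 5 n21681 = n14894 := d19_2 (iv F65103) D21681 (iv D14894)
def n21682 : Q := act 4 n14890
theorem D21682 : act 4 n14890 = n21682 := rfl
theorem F93113 : act 1 n21682 = n14903 := d11_1 D21682 (iv D14903) (iv F65102)
theorem F93114 : act 3 n21682 = n21682 := d24_1 D21682 (iv D21682) (iv D14890) F45682 D14890
theorem F93115 : act 5 n21682 = n21682 := d30_2 (iv F65103) D21682 (iv D21682) F65103 F45689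
def n21683 : Q := act 9 n14890
theorem D21683 : act 9 n14890 = n21683 := rfl
theorem F93116 : act 1 n21683 = n14904 := d16_1 D21683 (iv D14904) (iv F65102)
theorem F93117 : act 3 n21683 = n14891 := d29_1 D21683 (iv D14891) D14890
def n21684 : Q := act 2 n14892
theorem D21684 : act 2 n14892 = n21684 := rfl
theorem F93119 : act 4 n21684 = n21684 := d18_2 F65109 D21684 (iv D21684)
theorem F93120 : act 6 n21684 = n21684 := d20_2 F65110 D21684 (iv D21684)
theorem F93121 : act 7 n21684 = n14894 := d21_2 (iv F65111) D21684 (iv D14894)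
def n21685 : Q := act 9 n14892
theorem D21685 : act 9 n14892 = n21685 := rfl
theorem F93122 : act 1 n21685 = n14906 := d16_1 D21685 (iv D14906) (iv F65108)
theorem F93126 : act 7 n21685 = n14895 := d43_1 D21685 (iv D14895) (iv F65111)
def n21686 : Q := act 1 n14894
theorem D21686 : act 1 n14894 = n21686 := rfl
theorem F93127 : act 2 n21686 = n14907 := d9_2 D14894 D21686 (iv D14907) (iv D10256) (iv F45688)
theorem F93128 : act 4 n21686 = n21686 := d11_2 F65117 D21686 (iv D21686)
theorem F93129 : act 6 n21686 = n14896 := d13_2 (iv F65118) D21686 (iv D14896)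
def n21687 : Q := act 9 n14894
theorem D21687 : act 9 n14894 = n21687 := rfl
theorem F93130 : act 2 n21687 = n14895 := d23_1 D21687 (iv D14895) D14894
def n21688 : Q := act 8 n14895
theorem D21688 : act 8 n14895 = n21688 := rfl
theorem F93133 : act 1 n21688 = n14909 := d15_1 D21688 (iv D14909) (iv F65119)
theorem F93134 : act 3 n21688 = n14976 := d28_1 D21688 (iv D14976) F45927 (iv F45694) (iv F65120)
def n21689 : Q := act 0 n14896
theorem D21689 : act 0 n14896 = n21689 := rfl
theorem F93137 : act 2 n21689 = n14910 := d1_2 (iv F65123) D21689 (iv D14910)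
theorem F93138 : act 4 n21689 = n21689 := d3_2 F65124 D21689 (iv D21689)
theorem F93139 : act 7 n21689 = n21689 := d6_2 F65125 D21689 (iv D21689)
def n21690 : Q := act 9 n14896
theorem D21690 : act 9 n14896 = n21690 := rfl
def n21691 : Q := act 8 n14897
theorem D21691 : act 8 n14897 = n21691 := rfl
theorem F93144 : act 2 n21691 = n14898 := d22_1 D21691 (iv D14898) (iv F65126)
def n21692 : Q := act 3 n14899
theorem D21692 : act 3 n14899 = n21692 := rfl
theorem F93147 : act 0 n21692 = n21692 := d2_1 D21692 (iv D21692) F65133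
theorem F93148 : act 5 n21692 = n21692 := d25_2 F65136 D21692 (iv D21692)
theorem F93149 : act 6 n21692 = n14900 := d26_2 (iv F65137) D21692 (iv D14900)
def n21693 : Q := act 9 n14899
theorem D21693 : act 9 n14899 = n21693 := rfl
theorem F93150 : act 0 n21693 = n21693 := d8_1 D21693 (iv D21693) F65133
theorem F93151 : act 2 n21693 = n21693 := d23_1 D21693 (iv D21693) F65134
theorem F93152 : act 4 n21693 = n21693 := d34_1 D21693 (iv D21693) F65135
theorem F93153 : act 5 n21693 = n21693 := d38_1 D21693 (iv D21693) F65136
theorem F93154 : act 6 n21693 = n14901 := d41_1 D21693 (iv D14901) (iv F65137)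
theorem F93155 : act 8 n21693 = n14981 := d44_1 D21693 (iv D14981) (iv D10308) (iv F45711) D14899
def n21694 : Q := act 2 n14900
theorem D21694 : act 2 n14900 = n21694 := rfl
theorem F93156 : act 0 n21694 = n21694 := d1_1 D21694 (iv D21694) F65138
theorem F93157 : act 3 n21694 = n21694 := d17_2 D14900 D21694 (iv D21694) (iv D14900) F45713
theorem F93158 : act 5 n21694 = n14905 := d19_2 (iv F65139) D21694 (iv D14905)
theorem F93159 : act 7 n21694 = n14902 := d21_2 (iv F65140) D21694 (iv D14902)
def n21695 : Q := act 4 n14900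
theorem D21695 : act 4 n14900 = n21695 := rfl
theorem F93160 : act 0 n21695 = n21695 := d3_1 D21695 (iv D21695) F65138
theorem F93161 : act 3 n21695 = n21695 := d24_1 D21695 (iv D21695) (iv D14900) F45714 D14900
theorem F93162 : act 5 n21695 = n21695 := d30_2 (iv F65139) D21695 (iv D21695) F65139 F45725
theorem F93163 : act 7 n21695 = n14903 := d32_2 (iv F65140) D21695 (iv D14903)
def n21696 : Q := act 9 n14900
theorem D21696 : act 9 n14900 = n21696 := rfl
theorem F93164 : act 0 n21696 = n21696 := d8_1 D21696 (iv D21696) F65138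
theorem F93165 : act 3 n21696 = n14901 := d29_1 D21696 (iv D14901) D14900
theorem F93166 : act 5 n21696 = n14906 := d38_1 D21696 (iv D14906) (iv F65139)
theorem F93167 : act 7 n21696 = n14904 := d43_1 D21696 (iv D14904) (iv F65140)
def n21697 : Q := act 1 n14902
theorem D21697 : act 1 n14902 = n21697 := rfl
theorem F93168 : act 3 n21697 = n21697 := d10_2 F65148 D21697 (iv D21697)
theorem F93169 : act 5 n21697 = n14907 := d12_2 (iv F65149) D21697 (iv D14907)
def n21698 : Q := act 4 n14902
theorem D21698 : act 4 n14902 = n21698 := rfl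
theorem F93170 : act 0 n21698 = n21698 := d3_1 D21698 (iv D21698) F65147
theorem F93171 : act 2 n21698 = n14903 := d18_1 D21698 (iv D14903) D14902
theorem F93172 : act 5 n21698 = n21698 := d30_2 (iv F65149) D21698 (iv D21698) F65149 F45736
def n21699 : Q := act 9 n14902
theorem D21699 : act 9 n14902 = n21699 := rfl
theorem F93173 : act 0 n21699 = n21699 := d8_1 D21699 (iv D21699) F65147
theorem F93174 : act 2 n21699 = n14904 := d23_1 D21699 (iv D14904) D14902
theorem F93175 : act 3 n21699 = n21699 := d29_1 D21699 (iv D21699) F65148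
theorem F93176 : act 5 n21699 = n14908 := d38_1 D21699 (iv D14908) (iv F65149)
def n21700 : Q := act 9 n14903
theorem D21700 : act 9 n14903 = n21700 := rfl
theorem F93177 : act 0 n21700 = n21700 := d8_1 D21700 (iv D21700) F65150
theorem F93178 : act 3 n21700 = n21700 := d29_1 D21700 (iv D21700) F65151
theorem F93179 : act 4 n21700 = n14904 := d34_1 D21700 (iv D14904) D14903
theorem F93180 : act 5 n21700 = n21700 := d38_1 D21700 (iv D21700) F65152
def n21701 : Q := act 8 n14904
theorem D21701 : act 8 n14904 = n21701 := rfl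
theorem F93181 : act 0 n21701 = n21701 := d7_1 D21701 (iv D21701) F65153
theorem F93182 : act 3 n21701 = n14989 := d28_1 D21701 (iv D14989) F45959 (iv F45723) (iv F65154)
theorem F93183 : act 5 n21701 = n14909 := d37_1 D21701 (iv D14909) (iv F65155)
def n21702 : Q := act 1 n14905
theorem D21702 : act 1 n14905 = n21702 := rfl
theorem F93184 : act 3 n21702 = n21702 := d10_2 F65157 D21702 (iv D21702)
theorem F93185 : act 4 n21702 = n21702 := d11_2 F65158 D21702 (iv D21702)
theorem F93186 : act 6 n21702 = n21702 := d13_2 F65159 D21702 (iv D21702)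
theorem F93187 : act 7 n21702 = n14907 := d14_2 (iv F65160) D21702 (iv D14907)
def n21703 : Q := act 9 n14905
theorem D21703 : act 9 n14905 = n21703 := rfl
theorem F93188 : act 0 n21703 = n21703 := d8_1 D21703 (iv D21703) F65156
theorem F93189 : act 2 n21703 = n14906 := d23_1 D21703 (iv D14906) D14905
theorem F93190 : act 3 n21703 = n21703 := d29_1 D21703 (iv D21703) F65157
theorem F93191 : act 4 n21703 = n21703 := d34_1 D21703 (iv D21703) F65158
theorem F93192 : act 6 n21703 = n21703 := d41_1 D21703 (iv D21703) F65159
theorem F93193 : act 7 n21703 = n14908 := d43_1 D21703 (iv D14908) (iv F65160)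
def n21704 : Q := act 8 n14906
theorem D21704 : act 8 n14906 = n21704 := rfl
theorem F93194 : act 0 n21704 = n21704 := d7_1 D21704 (iv D21704) F65161
theorem F93195 : act 3 n21704 = n14992 := d28_1 D21704 (iv D14992) F45967 (iv F45733) (iv F65162)
theorem F93196 : act 4 n21704 = n21704 := d33_1 D21704 (iv D21704) F65163
theorem F93197 : act 6 n21704 = n21704 := d40_1 D21704 (iv D21704) F65164
theorem F93198 : act 7 n21704 = n14909 := d42_1 D21704 (iv D14909) (iv F65165)
def n21705 : Q := act 0 n14907
theorem D21705 : act 0 n14907 = n21705 := rfl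
theorem F93199 : act 1 n21705 = n21705 := d0_2 D14907 D21705 (iv D21705) (iv D14907) F45734
theorem F93200 : act 3 n21705 = n21705 := d2_2 F65166 D21705 (iv D21705)
theorem F93201 : act 4 n21705 = n21705 := d3_2 F65167 D21705 (iv D21705)
theorem F93202 : act 6 n21705 = n14910 := d5_2 (iv F65168) D21705 (iv D14910)
def n21706 : Q := act 9 n14907
theorem D21706 : act 9 n14907 = n21706 := rfl
theorem F93203 : act 1 n21706 = n14908 := d16_1 D21706 (iv D14908) D14907
theorem F93204 : act 3 n21706 = n21706 := d29_1 D21706 (iv D21706) F65166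
theorem F93205 : act 4 n21706 = n21706 := d34_1 D21706 (iv D21706) F65167
theorem F93206 : act 6 n21706 = n14911 := d41_1 D21706 (iv D14911) (iv F65168)
def n21707 : Q := act 8 n14908
theorem D21707 : act 8 n14908 = n21707 := rfl
theorem F93207 : act 0 n21707 = n21707 := d7_1 D21707 (iv D21707) F65169
theorem F93208 : act 2 n21707 = n14909 := d22_1 D21707 (iv D14909) (iv F65170)
theorem F93209 : act 4 n21707 = n21707 := d33_1 D21707 (iv D21707) F65172
theorem F93210 : act 6 n21707 = n14912 := d40_1 D21707 (iv D14912) (iv F65173)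
def n21708 : Q := act 9 n14910
theorem D21708 : act 9 n14910 = n21708 := rfl
theorem F93211 : act 0 n21708 = n14911 := d8_1 D21708 (iv D14911) D14910
theorem F93212 : act 1 n21708 = n21708 := d16_1 D21708 (iv D21708) F65178
theorem F93213 : act 3 n21708 = n21708 := d29_1 D21708 (iv D21708) F65179
theorem F93214 : act 4 n21708 = n21708 := d34_1 D21708 (iv D21708) F65180
theorem F93215 : act 7 n21708 = n21708 := d43_1 D21708 (iv D21708) F65181
def n21709 : Q := act 8 n14911
theorem D21709 : act 8 n14911 = n21709 := rfl
theorem F93216 : act 1 n21709 = n14912 := d15_1 D21709 (iv D14912) (iv F65182)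
theorem F93217 : act 4 n21709 = n21709 := d33_1 D21709 (iv D21709) F65184
theorem F93218 : act 7 n21709 = n21709 := d42_1 D21709 (iv D21709) F65185
def n21710 : Q := act 3 n14912
theorem D21710 : act 3 n14912 = n21710 := rfl
theorem F93219 : act 0 n21710 = n21710 := d2_1 D21710 (iv D21710) F65186
theorem F93220 : act 2 n21710 = n14998 := d17_1 D21710 (iv D14998) F45991 (iv F45751) (iv F65187)
theorem F93221 : act 7 n21710 = n21710 := d27_2 F65189 D21710 (iv D21710)
theorem F93222 : act 8 n21710 = n21710 := d28_2 D14912 D21710 (iv D21710) (iv D14912) F45747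
def n21711 : Q := act 6 n14913
theorem D21711 : act 6 n14913 = n21711 := rfl
theorem F93224 : act 2 n21711 = n14914 := d20_1 D21711 (iv D14914) D14913
theorem F93226 : act 4 n21711 = n16442 := d31_1 D21711 (iv D16442) (iv F65192)
def n21712 : Q := act 8 n14913
theorem D21712 : act 8 n14913 = n21712 := rfl
theorem F93229 : act 4 n21712 = n16443 := d33_1 D21712 (iv D16443) (iv F65192)
def n21713 : Q := act 5 n14914
theorem D21713 : act 5 n14914 = n21713 := rfl
theorem F93232 : act 1 n21713 = n14923 := d12_1 D21713 (iv D14923) (iv F65195)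
theorem F93233 : act 3 n21713 = n14916 := d25_1 D21713 (iv D14916) (iv F65196)
def n21714 : Q := act 7 n14914
theorem D21714 : act 7 n14914 = n21714 := rfl
theorem F93235 : act 1 n21714 = n14924 := d14_1 D21714 (iv D14924) (iv F65195)
theorem F93237 : act 4 n21714 = n16445 := d32_1 D21714 (iv D16445) (iv F65197)
def n21715 : Q := act 8 n14914
theorem D21715 : act 8 n14914 = n21715 := rfl
theorem F93240 : act 1 n21715 = n14925 := d15_1 D21715 (iv D14925) (iv F65195)
theorem F93241 : act 4 n21715 = n16446 := d33_1 D21715 (iv D16446) (iv F65197)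
def n21718 : Q := act 7 n14916
theorem D21718 : act 7 n14916 = n21718 := rfl
theorem F93253 : act 1 n21718 = n14928 := d14_1 D21718 (iv D14928) (iv F65203)
theorem F93256 : act 5 n21718 = n14917 := d36_1 D21718 (iv D14917) D14916
def n21726 : Q := act 4 n14923
theorem D21726 : act 4 n14923 = n21726 := rfl
theorem F93293 : act 0 n21726 = n14947 := d3_1 D21726 (iv D14947) (iv F65238)
theorem F93294 : act 3 n21726 = n21726 := d24_1 D21726 (iv D21726) F65239 F45793 (iv F65239)
theorem F93295 : act 5 n21726 = n16449 := d30_2 D14923 D21726 (iv D16449) (iv D11316) (iv F45787)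
def n21727 : Q := act 7 n14923
theorem D21727 : act 7 n14923 = n21727 := rfl
theorem F93296 : act 0 n21727 = n14948 := d6_1 D21727 (iv D14948) (iv F65238)
theorem F93297 : act 3 n21727 = n14928 := d27_1 D21727 (iv D14928) (iv F65239)
theorem F93298 : act 5 n21727 = n14924 := d36_1 D21727 (iv D14924) D14923
def n21728 : Q := act 8 n14923
theorem D21728 : act 8 n14923 = n21728 := rfl
theorem F93299 : act 0 n21728 = n14949 := d7_1 D21728 (iv D14949) (iv F65238)
theorem F93300 : act 5 n21728 = n14925 := d37_1 D21728 (iv D14925) D14923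
def n21729 : Q := act 8 n14924
theorem D21729 : act 8 n14924 = n21729 := rfl
theorem F93301 : act 0 n21729 = n14950 := d7_1 D21729 (iv D14950) (iv F65240)
theorem F93302 : act 4 n21729 = n16452 := d33_1 D21729 (iv D16452) (iv F65242)
theorem F93303 : act 6 n21729 = n21729 := d40_1 D21729 (iv D21729) F65243
theorem F93304 : act 7 n21729 = n14925 := d42_1 D21729 (iv D14925) D14924
def n21730 : Q := act 3 n14925
theorem D21730 : act 3 n14925 = n21730 := rfl
theorem F93305 : act 0 n21730 = n14951 := d2_1 D21730 (iv D14951) (iv F65244)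
def n21731 : Q := act 9 n14925
theorem D21731 : act 9 n14925 = n21731 := rfl
theorem F93309 : act 0 n21731 = n14952 := d8_1 D21731 (iv D14952) (iv F65244)
theorem F93310 : act 4 n21731 = n16453 := d34_1 D21731 (iv D16453) (iv F65245)
theorem F93311 : act 6 n21731 = n14927 := d41_1 D21731 (iv D14927) (iv F65246)
def n21732 : Q := act 2 n14926
theorem D21732 : act 2 n14926 = n21732 := rfl
theorem F93312 : act 0 n21732 = n14953 := d1_1 D21732 (iv D14953) (iv F65247)
theorem F93315 : act 8 n21732 = n14933 := d22_2 (iv F65250) D21732 (iv D14933)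
def n21733 : Q := act 9 n14926
theorem D21733 : act 9 n14926 = n21733 := rfl
theorem F93316 : act 0 n21733 = n14954 := d8_1 D21733 (iv D14954) (iv F65247)
theorem F93317 : act 3 n21733 = n14927 := d29_1 D21733 (iv D14927) D14926
def n21734 : Q := act 6 n14928
theorem D21734 : act 6 n14928 = n21734 := rfl
theorem F93320 : act 0 n21734 = n14955 := d5_1 D21734 (iv D14955) (iv F65254)
theorem F93321 : act 2 n21734 = n14936 := d20_1 D21734 (iv D14936) (iv F65255)
theorem F93322 : act 4 n21734 = n21734 := d31_1 D21734 (iv D21734) F65256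
theorem F93323 : act 5 n21734 = n21734 := d35_1 D21734 (iv D21734) F65257 F45797 (iv F65257)
def n21735 : Q := act 8 n14928
theorem D21735 : act 8 n14928 = n21735 := rfl
theorem F93324 : act 0 n21735 = n14956 := d7_1 D21735 (iv D14956) (iv F65254)
theorem F93325 : act 2 n21735 = n14937 := d22_1 D21735 (iv D14937) (iv F65255)
def n21736 : Q := act 3 n14929
theorem D21736 : act 3 n14929 = n21736 := rfl
theorem F93329 : act 0 n21736 = n14957 := d2_1 D21736 (iv D14957) (iv F65258)
theorem F93330 : act 5 n21736 = n14931 := d25_2 (iv F65261) D21736 (iv D14931)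
def n21738 : Q := act 3 n14930
theorem D21738 : act 3 n14930 = n21738 := rfl
theorem F93335 : act 0 n21738 = n14959 := d2_1 D21738 (iv D14959) (iv F65262)
def n21740 : Q := act 2 n14931
theorem D21740 : act 2 n14931 = n21740 := rfl
theorem F93344 : act 0 n21740 = n14961 := d1_1 D21740 (iv D14961) (iv F65267)
theorem F93345 : act 3 n21740 = n14942 := d17_2 D14931 D21740 (iv D14942) (iv D10279) (iv F45799)
def n21742 : Q := act 1 n14933
theorem D21742 : act 1 n14933 = n21742 := rfl
theorem F93352 : act 3 n21742 = n14944 := d10_2 (iv F65275) D21742 (iv D14944)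
def n21743 : Q := act 9 n14933
theorem D21743 : act 9 n14933 = n21743 := rfl
theorem F93356 : act 2 n21743 = n14934 := d23_1 D21743 (iv D14934) D14933
def n21744 : Q := act 8 n14934
theorem D21744 : act 8 n14934 = n21744 := rfl
def n21745 : Q := act 8 n14936
theorem D21745 : act 8 n14936 = n21745 := rfl
theorem F93363 : act 0 n21745 = n14966 := d7_1 D21745 (iv D14966) (iv F65288)
theorem F93364 : act 1 n21745 = n21745 := d15_1 D21745 (iv D21745) F65289
theorem F93365 : act 4 n21745 = n21745 := d33_1 D21745 (iv D21745) F65290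
theorem F93366 : act 5 n21745 = n21745 := d37_1 D21745 (iv D21745) F65291
theorem F93367 : act 6 n21745 = n14937 := d40_1 D21745 (iv D14937) D14936
def n21746 : Q := act 3 n14937
theorem D21746 : act 3 n14937 = n21746 := rfl
theorem F93368 : act 0 n21746 = n14967 := d2_1 D21746 (iv D14967) (iv F65292)
theorem F93369 : act 1 n21746 = n21746 := d10_1 D21746 (iv D21746) F65293
theorem F93370 : act 5 n21746 = n14940 := d25_2 (iv F65295) D21746 (iv D14940)
theorem F93371 : act 7 n21746 = n14938 := d27_2 (iv F65296) D21746 (iv D14938)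
def n21747 : Q := act 9 n14937
theorem D21747 : act 9 n14937 = n21747 := rfl
def n21748 : Q := act 2 n14938
theorem D21748 : act 2 n14938 = n21748 := rfl
theorem F93377 : act 0 n21748 = n14969 := d1_1 D21748 (iv D14969) (iv F65297)
theorem F93378 : act 5 n21748 = n14942 := d19_2 (iv F65299) D21748 (iv D14942)
def n21749 : Q := act 4 n14938
theorem D21749 : act 4 n14938 = n21749 := rfl
theorem F93379 : act 0 n21749 = n14970 := d3_1 D21749 (iv D14970) (iv F65297)
theorem F93380 : act 1 n21749 = n21749 := d11_1 D21749 (iv D21749) F65298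
theorem F93381 : act 3 n21749 = n21749 := d24_1 D21749 (iv D21749) (iv D14938) F45826 D14938
theorem F93382 : act 5 n21749 = n15244 := d30_2 (iv F65299) D21749 (iv D15244) F46721 (iv F45835)
def n21750 : Q := act 9 n14938
theorem D21750 : act 9 n14938 = n21750 := rfl
theorem F93383 : act 0 n21750 = n14971 := d8_1 D21750 (iv D14971) (iv F65297)
theorem F93385 : act 3 n21750 = n14939 := d29_1 D21750 (iv D14939) D14938
def n21751 : Q := act 2 n14940
theorem D21751 : act 2 n14940 = n21751 := rfl
theorem F93387 : act 0 n21751 = n14972 := d1_1 D21751 (iv D14972) (iv F65304)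
theorem F93388 : act 4 n21751 = n15246 := d18_2 (iv F65306) D21751 (iv D15246)
theorem F93389 : act 6 n21751 = n21751 := d20_2 F65307 D21751 (iv D21751)
theorem F93390 : act 7 n21751 = n14942 := d21_2 (iv F65308) D21751 (iv D14942)
def n21752 : Q := act 9 n14940
theorem D21752 : act 9 n14940 = n21752 := rfl
def n21753 : Q := act 1 n14942
theorem D21753 : act 1 n14942 = n21753 := rfl
theorem F93397 : act 2 n21753 = n21753 := d9_2 D14942 D21753 (iv D21753) (iv D14942) F45834
theorem F93398 : act 4 n21753 = n15248 := d11_2 (iv F65315) D21753 (iv D15248)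
theorem F93399 : act 6 n21753 = n14944 := d13_2 (iv F65316) D21753 (iv D14944)
def n21754 : Q := act 9 n14942
theorem D21754 : act 9 n14942 = n21754 := rfl
theorem F93400 : act 0 n21754 = n14975 := d8_1 D21754 (iv D14975) (iv F65314)
theorem F93401 : act 2 n21754 = n14943 := d23_1 D21754 (iv D14943) D14942
theorem F93402 : act 4 n21754 = n15249 := d34_1 D21754 (iv D15249) (iv F65315)
theorem F93403 : act 6 n21754 = n14945 := d41_1 D21754 (iv D14945) (iv F65316)
def n21755 : Q := act 8 n14943
theorem D21755 : act 8 n14943 = n21755 := rfl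
theorem F93406 : act 4 n21755 = n15250 := d33_1 D21755 (iv D15250) (iv F65320)
def n21756 : Q := act 0 n14944
theorem D21756 : act 0 n14944 = n21756 := rfl
theorem F93408 : act 1 n21756 = n14977 := d0_2 D14944 D21756 (iv D14977) (iv D10305) (iv F45841)
theorem F93409 : act 2 n21756 = n21756 := d1_2 F65322 D21756 (iv D21756)
theorem F93410 : act 4 n21756 = n15251 := d3_2 (iv F65323) D21756 (iv D15251)
theorem F93411 : act 7 n21756 = n21756 := d6_2 F65324 D21756 (iv D21756)
def n21757 : Q := act 9 n14944
theorem D21757 : act 9 n14944 = n21757 := rfl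
theorem F93412 : act 1 n21757 = n14945 := d16_1 D21757 (iv D14945) D14944
theorem F93414 : act 4 n21757 = n15252 := d34_1 D21757 (iv D15252) (iv F65323)
def n21758 : Q := act 8 n14945
theorem D21758 : act 8 n14945 = n21758 := rfl
theorem F93416 : act 0 n21758 = n14979 := d7_1 D21758 (iv D14979) (iv F65325)
theorem F93417 : act 2 n21758 = n14946 := d22_1 D21758 (iv D14946) (iv F65326)
theorem F93418 : act 4 n21758 = n15253 := d33_1 D21758 (iv D15253) (iv F65327)
def n21759 : Q := act 7 n14947
theorem D21759 : act 7 n14947 = n21759 := rfl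
theorem F93420 : act 1 n21759 = n21759 := d14_1 D21759 (iv D21759) F65333
theorem F93421 : act 3 n21759 = n21759 := d27_1 D21759 (iv D21759) F65334
theorem F93422 : act 4 n21759 = n14948 := d32_1 D21759 (iv D14948) D14947
theorem F93423 : act 5 n21759 = n16455 := d36_1 D21759 (iv D16455) (iv F65335)
def n21760 : Q := act 8 n14947
theorem D21760 : act 8 n14947 = n21760 := rfl
theorem F93424 : act 1 n21760 = n21760 := d15_1 D21760 (iv D21760) F65333
theorem F93425 : act 4 n21760 = n14949 := d33_1 D21760 (iv D14949) D14947
theorem F93426 : act 5 n21760 = n16456 := d37_1 D21760 (iv D16456) (iv F65335)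
def n21761 : Q := act 6 n14948
theorem D21761 : act 6 n14948 = n21761 := rfl
theorem F93427 : act 1 n21761 = n21761 := d13_1 D21761 (iv D21761) F65336
theorem F93428 : act 3 n21761 = n14955 := d26_1 D21761 (iv D14955) (iv F65337)
theorem F93429 : act 5 n21761 = n21761 := d35_1 D21761 (iv D21761) F65338 F45860 (iv F65338)
def n21762 : Q := act 8 n14948
theorem D21762 : act 8 n14948 = n21762 := rfl
theorem F93430 : act 1 n21762 = n21762 := d15_1 D21762 (iv D21762) F65336
theorem F93431 : act 5 n21762 = n14950 := d37_1 D21762 (iv D14950) (iv F65338)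
theorem F93432 : act 7 n21762 = n14949 := d42_1 D21762 (iv D14949) D14948
def n21763 : Q := act 3 n14949
theorem D21763 : act 3 n14949 = n21763 := rfl
theorem F93433 : act 1 n21763 = n21763 := d10_1 D21763 (iv D21763) F65339
theorem F93434 : act 5 n21763 = n14951 := d25_2 (iv F65340) D21763 (iv D14951)
theorem F93435 : act 8 n21763 = n14957 := d28_2 D14949 D21763 (iv D14957) (iv D10290) (iv F45856)
def n21764 : Q := act 9 n14949
theorem D21764 : act 9 n14949 = n21764 := rfl
theorem F93436 : act 1 n21764 = n21764 := d16_1 D21764 (iv D21764) F65339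
theorem F93437 : act 5 n21764 = n14952 := d38_1 D21764 (iv D14952) (iv F65340)
def n21765 : Q := act 3 n14950
theorem D21765 : act 3 n14950 = n21765 := rfl
theorem F93438 : act 1 n21765 = n21765 := d10_1 D21765 (iv D21765) F65341
theorem F93439 : act 4 n21765 = n21765 := d24_2 (iv F65342) D21765 (iv D21765) F65342 F50246
theorem F93440 : act 6 n21765 = n21765 := d26_2 F65343 D21765 (iv D21765)
theorem F93441 : act 7 n21765 = n14951 := d27_2 (iv F65344) D21765 (iv D14951)
theorem F93442 : act 8 n21765 = n14959 := d28_2 D14950 D21765 (iv D14959) (iv D10291) (iv F45858)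
def n21766 : Q := act 9 n14950
theorem D21766 : act 9 n14950 = n21766 := rfl
theorem F93443 : act 1 n21766 = n21766 := d16_1 D21766 (iv D21766) F65341
theorem F93444 : act 4 n21766 = n16460 := d34_1 D21766 (iv D16460) (iv F65342)
theorem F93445 : act 6 n21766 = n21766 := d41_1 D21766 (iv D21766) F65343
theorem F93446 : act 7 n21766 = n14952 := d43_1 D21766 (iv D14952) (iv F65344)
def n21767 : Q := act 2 n14951
theorem D21767 : act 2 n14951 = n21767 := rfl
theorem F93447 : act 4 n21767 = n21767 := d18_2 F65346 D21767 (iv D21767)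
theorem F93448 : act 6 n21767 = n14953 := d20_2 (iv F65347) D21767 (iv D14953)
theorem F93449 : act 8 n21767 = n14961 := d22_2 (iv F65348) D21767 (iv D14961)
def n21768 : Q := act 9 n14951
theorem D21768 : act 9 n14951 = n21768 := rfl
theorem F93450 : act 1 n21768 = n21768 := d16_1 D21768 (iv D21768) F65345
theorem F93451 : act 3 n21768 = n14952 := d29_1 D21768 (iv D14952) D14951
theorem F93452 : act 4 n21768 = n21768 := d34_1 D21768 (iv D21768) F65346
theorem F93453 : act 6 n21768 = n14954 := d41_1 D21768 (iv D14954) (iv F65347)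
def n21769 : Q := act 1 n14953
theorem D21769 : act 1 n14953 = n21769 := rfl
theorem F93454 : act 2 n21769 = n21769 := d9_2 D14953 D21769 (iv D21769) (iv D14953) F45864
theorem F93455 : act 4 n21769 = n21769 := d11_2 F65352 D21769 (iv D21769)
theorem F93456 : act 7 n21769 = n21769 := d14_2 F65353 D21769 (iv D21769)
theorem F93457 : act 8 n21769 = n14963 := d15_2 (iv F65354) D21769 (iv D14963)
def n21770 : Q := act 9 n14953
theorem D21770 : act 9 n14953 = n21770 := rfl
theorem F93458 : act 2 n21770 = n14954 := d23_1 D21770 (iv D14954) D14953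
theorem F93459 : act 4 n21770 = n21770 := d34_1 D21770 (iv D21770) F65352
theorem F93460 : act 7 n21770 = n21770 := d43_1 D21770 (iv D21770) F65353
def n21771 : Q := act 8 n14954
theorem D21771 : act 8 n14954 = n21771 := rfl
theorem F93464 : act 9 n21771 = n14965 := d44_2 D14954 D21771 (iv D14965) (iv D10295) (iv F45867)
def n21772 : Q := act 8 n14955
theorem D21772 : act 8 n14955 = n21772 := rfl
theorem F93465 : act 1 n21772 = n21772 := d15_1 D21772 (iv D21772) F65359
theorem F93466 : act 2 n21772 = n14966 := d22_1 D21772 (iv D14966) (iv F65360)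
theorem F93467 : act 4 n21772 = n21772 := d33_1 D21772 (iv D21772) F65361
theorem F93468 : act 5 n21772 = n21772 := d37_1 D21772 (iv D21772) F65362
theorem F93469 : act 6 n21772 = n14956 := d40_1 D21772 (iv D14956) D14955
def n21773 : Q := act 3 n14956
theorem D21773 : act 3 n14956 = n21773 := rfl
theorem F93470 : act 1 n21773 = n21773 := d10_1 D21773 (iv D21773) F65363
theorem F93471 : act 5 n21773 = n14959 := d25_2 (iv F65366) D21773 (iv D14959)
theorem F93472 : act 7 n21773 = n14957 := d27_2 (iv F65367) D21773 (iv D14957)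
def n21774 : Q := act 9 n14956
theorem D21774 : act 9 n14956 = n21774 := rfl
def n21775 : Q := act 2 n14957
theorem D21775 : act 2 n14957 = n21775 := rfl
theorem F93478 : act 3 n21775 = n14969 := d17_2 D14957 D21775 (iv D14969) (iv D10299) (iv F45876)
theorem F93479 : act 5 n21775 = n14961 := d19_2 (iv F65369) D21775 (iv D14961)
def n21776 : Q := act 4 n14957
theorem D21776 : act 4 n14957 = n21776 := rfl
theorem F93480 : act 1 n21776 = n21776 := d11_1 D21776 (iv D21776) F65368
theorem F93481 : act 3 n21776 = n21776 := d24_1 D21776 (iv D21776) (iv D14957) F45877 D14957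
theorem F93482 : act 5 n21776 = n21776 := d30_2 (iv F65369) D21776 (iv D21776) F65369 F45885
def n21777 : Q := act 9 n14957
theorem D21777 : act 9 n14957 = n21777 := rfl
def n21778 : Q := act 2 n14959
theorem D21778 : act 2 n14959 = n21778 := rfl
theorem F93486 : act 3 n21778 = n14972 := d17_2 D14959 D21778 (iv D14972) (iv D10301) (iv F45880)
theorem F93487 : act 4 n21778 = n21778 := d18_2 F65375 D21778 (iv D21778)
theorem F93488 : act 6 n21778 = n21778 := d20_2 F65376 D21778 (iv D21778)
theorem F93489 : act 7 n21778 = n14961 := d21_2 (iv F65377) D21778 (iv D14961)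
def n21779 : Q := act 9 n14959
theorem D21779 : act 9 n14959 = n21779 := rfl
theorem F93491 : act 3 n21779 = n14960 := d29_1 D21779 (iv D14960) D14959
def n21780 : Q := act 1 n14961
theorem D21780 : act 1 n14961 = n21780 := rfl
theorem F93495 : act 2 n21780 = n21780 := d9_2 D14961 D21780 (iv D21780) (iv D14961) F45884
theorem F93496 : act 3 n21780 = n14974 := d10_2 (iv F65383) D21780 (iv D14974)
theorem F93497 : act 4 n21780 = n21780 := d11_2 F65384 D21780 (iv D21780)
theorem F93498 : act 6 n21780 = n14963 := d13_2 (iv F65385) D21780 (iv D14963)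
def n21781 : Q := act 9 n14961
theorem D21781 : act 9 n14961 = n21781 := rfl
theorem F93499 : act 2 n21781 = n14962 := d23_1 D21781 (iv D14962) D14961
theorem F93500 : act 3 n21781 = n14975 := d29_1 D21781 (iv D14975) (iv F65383)
theorem F93502 : act 6 n21781 = n14964 := d41_1 D21781 (iv D14964) (iv F65385)
def n21782 : Q := act 8 n14962
theorem D21782 : act 8 n14962 = n21782 := rfl
def n21783 : Q := act 0 n14963
theorem D21783 : act 0 n14963 = n21783 := rfl
theorem F93506 : act 2 n21783 = n21783 := d1_2 F65390 D21783 (iv D21783)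
theorem F93507 : act 3 n21783 = n14977 := d2_2 (iv F65391) D21783 (iv D14977)
theorem F93508 : act 4 n21783 = n21783 := d3_2 F65392 D21783 (iv D21783)
theorem F93509 : act 7 n21783 = n21783 := d6_2 F65393 D21783 (iv D21783)
def n21784 : Q := act 9 n14963
theorem D21784 : act 9 n14963 = n21784 := rfl
theorem F93510 : act 1 n21784 = n14964 := d16_1 D21784 (iv D14964) D14963
theorem F93512 : act 3 n21784 = n14978 := d29_1 D21784 (iv D14978) (iv F65391)
def n21785 : Q := act 8 n14964
theorem D21785 : act 8 n14964 = n21785 := rfl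
theorem F93515 : act 2 n21785 = n14965 := d22_1 D21785 (iv D14965) (iv F65394)
def n21786 : Q := act 3 n14966
theorem D21786 : act 3 n14966 = n21786 := rfl
theorem F93518 : act 1 n21786 = n14980 := d10_1 D21786 (iv D14980) (iv F65401)
theorem F93519 : act 5 n21786 = n21786 := d25_2 F65403 D21786 (iv D21786)
theorem F93520 : act 6 n21786 = n14967 := d26_2 (iv F65404) D21786 (iv D14967)
def n21787 : Q := act 9 n14966
theorem D21787 : act 9 n14966 = n21787 := rfl
theorem F93521 : act 1 n21787 = n14981 := d16_1 D21787 (iv D14981) (iv F65401)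
theorem F93522 : act 4 n21787 = n21787 := d34_1 D21787 (iv D21787) F65402
theorem F93523 : act 5 n21787 = n21787 := d38_1 D21787 (iv D21787) F65403
theorem F93524 : act 6 n21787 = n14968 := d41_1 D21787 (iv D14968) (iv F65404)
def n21788 : Q := act 2 n14967
theorem D21788 : act 2 n14967 = n21788 := rfl
theorem F93525 : act 5 n21788 = n14972 := d19_2 (iv F65406) D21788 (iv D14972)
theorem F93526 : act 7 n21788 = n14969 := d21_2 (iv F65407) D21788 (iv D14969)
def n21789 : Q := act 4 n14967
theorem D21789 : act 4 n14967 = n21789 := rfl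
theorem F93527 : act 1 n21789 = n14983 := d11_1 D21789 (iv D14983) (iv F65405)
theorem F93528 : act 3 n21789 = n21789 := d24_1 D21789 (iv D21789) (iv D14967) F45908 D14967
theorem F93529 : act 5 n21789 = n15257 := d30_2 (iv F65406) D21789 (iv D15257) F46769 (iv F45917)
theorem F93530 : act 7 n21789 = n14970 := d32_2 (iv F65407) D21789 (iv D14970)
def n21790 : Q := act 9 n14967
theorem D21790 : act 9 n14967 = n21790 := rfl
theorem F93531 : act 1 n21790 = n14984 := d16_1 D21790 (iv D14984) (iv F65405)
theorem F93532 : act 3 n21790 = n14968 := d29_1 D21790 (iv D14968) D14967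
theorem F93533 : act 5 n21790 = n14973 := d38_1 D21790 (iv D14973) (iv F65406)
theorem F93534 : act 7 n21790 = n14971 := d43_1 D21790 (iv D14971) (iv F65407)
def n21791 : Q := act 1 n14969
theorem D21791 : act 1 n14969 = n21791 := rfl
theorem F93535 : act 2 n21791 = n14985 := d9_2 D14969 D21791 (iv D14985) (iv D10311) (iv F45911)
theorem F93536 : act 5 n21791 = n14974 := d12_2 (iv F65412) D21791 (iv D14974)
def n21792 : Q := act 4 n14969
theorem D21792 : act 4 n14969 = n21792 := rfl
theorem F93537 : act 2 n21792 = n14970 := d18_1 D21792 (iv D14970) D14969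
theorem F93538 : act 5 n21792 = n15260 := d30_2 (iv F65412) D21792 (iv D15260) F46778 (iv F45924)
def n21793 : Q := act 9 n14969
theorem D21793 : act 9 n14969 = n21793 := rfl
theorem F93539 : act 2 n21793 = n14971 := d23_1 D21793 (iv D14971) D14969
theorem F93540 : act 5 n21793 = n14975 := d38_1 D21793 (iv D14975) (iv F65412)
def n21794 : Q := act 9 n14970
theorem D21794 : act 9 n14970 = n21794 := rfl
theorem F93541 : act 1 n21794 = n14988 := d16_1 D21794 (iv D14988) (iv F65413)
theorem F93542 : act 3 n21794 = n21794 := d29_1 D21794 (iv D21794) F65414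
theorem F93543 : act 4 n21794 = n14971 := d34_1 D21794 (iv D14971) D14970
theorem F93544 : act 5 n21794 = n15262 := d38_1 D21794 (iv D15262) (iv F65415)
def n21795 : Q := act 8 n14971
theorem D21795 : act 8 n14971 = n21795 := rfl
theorem F93545 : act 1 n21795 = n14989 := d15_1 D21795 (iv D14989) (iv F65416)
theorem F93546 : act 5 n21795 = n14976 := d37_1 D21795 (iv D14976) (iv F65418)
def n21796 : Q := act 1 n14972
theorem D21796 : act 1 n14972 = n21796 := rfl
theorem F93547 : act 2 n21796 = n14990 := d9_2 D14972 D21796 (iv D14990) (iv D10314) (iv F45916)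
theorem F93548 : act 4 n21796 = n15264 := d11_2 (iv F65419) D21796 (iv D15264)
theorem F93549 : act 6 n21796 = n21796 := d13_2 F65420 D21796 (iv D21796)
theorem F93550 : act 7 n21796 = n14974 := d14_2 (iv F65421) D21796 (iv D14974)
def n21797 : Q := act 9 n14972
theorem D21797 : act 9 n14972 = n21797 := rfl
theorem F93551 : act 2 n21797 = n14973 := d23_1 D21797 (iv D14973) D14972
theorem F93552 : act 4 n21797 = n15265 := d34_1 D21797 (iv D15265) (iv F65419)
theorem F93553 : act 6 n21797 = n21797 := d41_1 D21797 (iv D21797) F65420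
theorem F93554 : act 7 n21797 = n14975 := d43_1 D21797 (iv D14975) (iv F65421)
def n21798 : Q := act 8 n14973
theorem D21798 : act 8 n14973 = n21798 := rfl
theorem F93555 : act 1 n21798 = n14992 := d15_1 D21798 (iv D14992) (iv F65422)
theorem F93556 : act 4 n21798 = n15266 := d33_1 D21798 (iv D15266) (iv F65424)
theorem F93557 : act 6 n21798 = n21798 := d40_1 D21798 (iv D21798) F65425
theorem F93558 : act 7 n21798 = n14976 := d42_1 D21798 (iv D14976) (iv F65426)
def n21799 : Q := act 0 n14974
theorem D21799 : act 0 n14974 = n21799 := rfl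
theorem F93559 : act 2 n21799 = n14993 := d1_2 (iv F65427) D21799 (iv D14993)
theorem F93560 : act 4 n21799 = n15267 := d3_2 (iv F65428) D21799 (iv D15267)
theorem F93561 : act 6 n21799 = n14977 := d5_2 (iv F65429) D21799 (iv D14977)
def n21800 : Q := act 9 n14974
theorem D21800 : act 9 n14974 = n21800 := rfl
theorem F93562 : act 1 n21800 = n14975 := d16_1 D21800 (iv D14975) D14974
theorem F93563 : act 2 n21800 = n14994 := d23_1 D21800 (iv D14994) (iv F65427)
theorem F93564 : act 4 n21800 = n15268 := d34_1 D21800 (iv D15268) (iv F65428)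
theorem F93565 : act 6 n21800 = n14978 := d41_1 D21800 (iv D14978) (iv F65429)
def n21801 : Q := act 8 n14975
theorem D21801 : act 8 n14975 = n21801 := rfl
theorem F93566 : act 2 n21801 = n14976 := d22_1 D21801 (iv D14976) (iv F65430)
theorem F93567 : act 4 n21801 = n15269 := d33_1 D21801 (iv D15269) (iv F65431)
theorem F93568 : act 6 n21801 = n14979 := d40_1 D21801 (iv D14979) (iv F65432)
def n21802 : Q := act 9 n14977
theorem D21802 : act 9 n14977 = n21802 := rfl
theorem F93569 : act 0 n21802 = n14978 := d8_1 D21802 (iv D14978) D14977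
theorem F93570 : act 2 n21802 = n14996 := d23_1 D21802 (iv D14996) (iv F65436)
theorem F93571 : act 4 n21802 = n15270 := d34_1 D21802 (iv D15270) (iv F65437)
theorem F93572 : act 7 n21802 = n21802 := d43_1 D21802 (iv D21802) F65438
def n21803 : Q := act 8 n14978
theorem D21803 : act 8 n14978 = n21803 := rfl
theorem F93573 : act 1 n21803 = n14979 := d15_1 D21803 (iv D14979) (iv F65439)
theorem F93574 : act 2 n21803 = n14997 := d22_1 D21803 (iv D14997) (iv F65440)
theorem F93575 : act 4 n21803 = n15271 := d33_1 D21803 (iv D15271) (iv F65441)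
theorem F93576 : act 7 n21803 = n21803 := d42_1 D21803 (iv D21803) F65442
def n21804 : Q := act 3 n14979
theorem D21804 : act 3 n14979 = n21804 := rfl
theorem F93577 : act 7 n21804 = n21804 := d27_2 F65445 D21804 (iv D21804)
def n21805 : Q := act 2 n14980
theorem D21805 : act 2 n14980 = n21805 := rfl
theorem F93581 : act 6 n21805 = n14982 := d20_2 (iv F65448) D21805 (iv D14982)
def n21806 : Q := act 4 n14980
theorem D21806 : act 4 n14980 = n21806 := rfl
theorem F93584 : act 6 n21806 = n14983 := d31_2 (iv F65448) D21806 (iv D14983)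
def n21807 : Q := act 9 n14980
theorem D21807 : act 9 n14980 = n21807 := rfl
theorem F93586 : act 3 n21807 = n14981 := d29_1 D21807 (iv D14981) D14980
def n21808 : Q := act 1 n14982
theorem D21808 : act 1 n14982 = n21808 := rfl
theorem F93590 : act 5 n21808 = n14990 := d12_2 (iv F65456) D21808 (iv D14990)
theorem F93591 : act 7 n21808 = n14985 := d14_2 (iv F65457) D21808 (iv D14985)
def n21809 : Q := act 4 n14982
theorem D21809 : act 4 n14982 = n21809 := rfl
theorem F93594 : act 5 n21809 = n15277 := d30_2 (iv F65456) D21809 (iv D15277) F46828 (iv F45963)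
def n21810 : Q := act 9 n14982
theorem D21810 : act 9 n14982 = n21810 := rfl
def n21812 : Q := act 8 n14984
theorem D21812 : act 8 n14984 = n21812 := rfl
theorem F93608 : act 7 n21812 = n14989 := d42_1 D21812 (iv D14989) (iv F65465)
def n21813 : Q := act 0 n14985
theorem D21813 : act 0 n14985 = n21813 := rfl
theorem F93609 : act 1 n21813 = n21813 := d0_2 D14985 D21813 (iv D21813) (iv D14985) F45952
theorem F93610 : act 3 n21813 = n21813 := d2_2 F65466 D21813 (iv D21813)
theorem F93611 : act 5 n21813 = n14993 := d4_2 (iv F65467) D21813 (iv D14993)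
def n21814 : Q := act 4 n14985
theorem D21814 : act 4 n14985 = n21814 := rfl
theorem F93613 : act 5 n21814 = n15282 := d30_2 (iv F65467) D21814 (iv D15282) F46838 (iv F45972)
def n21815 : Q := act 9 n14985
theorem D21815 : act 9 n14985 = n21815 := rfl
def n21816 : Q := act 3 n14986
theorem D21816 : act 3 n14986 = n21816 := rfl
theorem F93620 : act 5 n21816 = n15284 := d25_2 (iv F65470) D21816 (iv D15284)
def n21817 : Q := act 9 n14986
theorem D21817 : act 9 n14986 = n21817 := rfl
theorem F93624 : act 5 n21817 = n15285 := d38_1 D21817 (iv D15285) (iv F65470)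
def n21818 : Q := act 8 n14987
theorem D21818 : act 8 n14987 = n21818 := rfl
theorem F93626 : act 2 n21818 = n14989 := d22_1 D21818 (iv D14989) (iv F65472)
def n21819 : Q := act 8 n14988
theorem D21819 : act 8 n14988 = n21819 := rfl
theorem F93629 : act 4 n21819 = n14989 := d33_1 D21819 (iv D14989) (iv F65477)
def n21820 : Q := act 0 n14990
theorem D21820 : act 0 n14990 = n21820 := rfl
theorem F93631 : act 1 n21820 = n21820 := d0_2 D14990 D21820 (iv D21820) (iv D14990) F45961
theorem F93632 : act 3 n21820 = n21820 := d2_2 F65481 D21820 (iv D21820)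
theorem F93633 : act 4 n21820 = n15288 := d3_2 (iv F65482) D21820 (iv D15288)
theorem F93634 : act 6 n21820 = n21820 := d5_2 F65483 D21820 (iv D21820)
theorem F93635 : act 7 n21820 = n14993 := d6_2 (iv F65484) D21820 (iv D14993)
def n21821 : Q := act 9 n14990
theorem D21821 : act 9 n14990 = n21821 := rfl
def n21823 : Q := act 9 n14993
theorem D21823 : act 9 n14993 = n21823 := rfl
theorem F93646 : act 0 n21823 = n14994 := d8_1 D21823 (iv D14994) D14993
theorem F93647 : act 1 n21823 = n21823 := d16_1 D21823 (iv D21823) F65495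
theorem F93648 : act 3 n21823 = n21823 := d29_1 D21823 (iv D21823) F65496
theorem F93649 : act 4 n21823 = n15291 := d34_1 D21823 (iv D15291) (iv F65497)
theorem F93650 : act 6 n21823 = n14996 := d41_1 D21823 (iv D14996) (iv F65498)
def n21824 : Q := act 8 n14994
theorem D21824 : act 8 n14994 = n21824 := rfl
theorem F93651 : act 1 n21824 = n14995 := d15_1 D21824 (iv D14995) (iv F65499)
theorem F93652 : act 4 n21824 = n15292 := d33_1 D21824 (iv D15292) (iv F65501)
theorem F93653 : act 6 n21824 = n14997 := d40_1 D21824 (iv D14997) (iv F65502)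
def n21825 : Q := act 3 n14995
theorem D21825 : act 3 n14995 = n21825 := rfl
theorem F93654 : act 0 n21825 = n21825 := d2_1 D21825 (iv D21825) F65503
theorem F93655 : act 6 n21825 = n14998 := d26_2 (iv F65506) D21825 (iv D14998)
theorem F93656 : act 8 n21825 = n21825 := d28_2 D14995 D21825 (iv D21825) (iv D14995) F45976
def n21826 : Q := act 8 n14996
theorem D21826 : act 8 n14996 = n21826 := rfl
theorem F93657 : act 0 n21826 = n14997 := d7_1 D21826 (iv D14997) (iv F65507)
theorem F93658 : act 1 n21826 = n21826 := d15_1 D21826 (iv D21826) F65508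
theorem F93659 : act 4 n21826 = n15294 := d33_1 D21826 (iv D15294) (iv F65510)
theorem F93660 : act 7 n21826 = n21826 := d42_1 D21826 (iv D21826) F65511
def n21827 : Q := act 3 n14997
theorem D21827 : act 3 n14997 = n21827 := rfl
theorem F93661 : act 1 n21827 = n14998 := d10_1 D21827 (iv D14998) (iv F65512)
theorem F93662 : act 7 n21827 = n21827 := d27_2 F65514 D21827 (iv D21827)
theorem F93663 : act 8 n21827 = n21827 := d28_2 D14997 D21827 (iv D21827) (iv D14997) F45987
def n21828 : Q := act 4 n14998
theorem D21828 : act 4 n14998 = n21828 := rfl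
theorem F93664 : act 0 n21828 = n21828 := d3_1 D21828 (iv D21828) F65515
theorem F93665 : act 3 n21828 = n15296 := d24_1 D21828 (iv D15296) (iv D10529) (iv F45992) D14998
theorem F93666 : act 7 n21828 = n21828 := d32_2 F65516 D21828 (iv D21828)
theorem F93667 : act 8 n21828 = n21828 := d33_2 F65517 D21828 (iv D21828)
def n21842 : Q := act 7 n15005
theorem D21842 : act 7 n15005 = n21842 := rfl
theorem F93742 : act 6 n21842 = n15067 := d39_1 D21842 (iv D15067) (iv D10364) (iv F46009) D15005
def n21843 : Q := act 8 n15005
theorem D21843 : act 8 n15005 = n21843 := rfl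
theorem F93744 : act 0 n21843 = n15024 := d7_1 D21843 (iv D15024) (iv F65553)
theorem F93745 : act 2 n21843 = n15015 := d22_1 D21843 (iv D15015) (iv F65554)
def n21844 : Q := act 3 n15006
theorem D21844 : act 3 n15006 = n21844 := rfl
theorem F93748 : act 0 n21844 = n15025 := d2_1 D21844 (iv D15025) (iv F65557)
theorem F93750 : act 7 n21844 = n15069 := d27_2 (iv F65561) D21844 (iv D15069)
def n21845 : Q := act 9 n15006
theorem D21845 : act 9 n15006 = n21845 := rfl
theorem F93751 : act 0 n21845 = n15026 := d8_1 D21845 (iv D15026) (iv F65557)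
theorem F93752 : act 2 n21845 = n15017 := d23_1 D21845 (iv D15017) (iv F65558)
theorem F93753 : act 4 n21845 = n15010 := d34_1 D21845 (iv D15010) (iv F65559)
theorem F93754 : act 5 n21845 = n21845 := d38_1 D21845 (iv D21845) F65560
theorem F93755 : act 7 n21845 = n15070 := d43_1 D21845 (iv D15070) (iv F65561)
theorem F93756 : act 8 n21845 = n21845 := d44_1 D21845 (iv D21845) (iv D15006) F46010 D15006
def n21846 : Q := act 8 n15007
theorem D21846 : act 8 n15007 = n21846 := rfl
theorem F93757 : act 0 n21846 = n15027 := d7_1 D21846 (iv D15027) (iv F65562)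
theorem F93758 : act 2 n21846 = n15018 := d22_1 D21846 (iv D15018) (iv F65563)
theorem F93760 : act 6 n21846 = n15071 := d40_1 D21846 (iv D15071) (iv F65566)
theorem F93761 : act 7 n21846 = n15008 := d42_1 D21846 (iv D15008) D15007
def n21847 : Q := act 3 n15008
theorem D21847 : act 3 n15008 = n21847 := rfl
theorem F93765 : act 8 n21847 = n16479 := d28_2 D15008 D21847 (iv D16479) (iv D11337) (iv F46013)
def n21848 : Q := act 9 n15008
theorem D21848 : act 9 n15008 = n21848 := rfl
theorem F93766 : act 0 n21848 = n15029 := d8_1 D21848 (iv D15029) (iv F65568)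
theorem F93767 : act 2 n21848 = n15019 := d23_1 D21848 (iv D15019) (iv F65569)
theorem F93768 : act 5 n21848 = n21848 := d38_1 D21848 (iv D21848) F65570
theorem F93769 : act 6 n21848 = n15010 := d41_1 D21848 (iv D15010) (iv F65571)
theorem F93770 : act 8 n21848 = n21848 := d44_1 D21848 (iv D21848) (iv D15008) F46015 D15008
def n21849 : Q := act 4 n15009
theorem D21849 : act 4 n15009 = n21849 := rfl
theorem F93773 : act 8 n21849 = n16481 := d33_2 (iv F65575) D21849 (iv D16481)
def n21850 : Q := act 9 n15009
theorem D21850 : act 9 n15009 = n21850 := rfl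
theorem F93775 : act 3 n21850 = n15010 := d29_1 D21850 (iv D15010) D15009
def n21853 : Q := act 8 n15012
theorem D21853 : act 8 n15012 = n21853 := rfl
theorem F93791 : act 9 n21853 = n16485 := d44_2 D15012 D21853 (iv D16485) (iv D11341) (iv F46023)
def n21854 : Q := act 7 n15013
theorem D21854 : act 7 n15013 = n21854 := rfl
theorem F93796 : act 5 n21854 = n15014 := d36_1 D21854 (iv D15014) D15013
def n21855 : Q := act 8 n15013
theorem D21855 : act 8 n15013 = n21855 := rfl
theorem F93798 : act 0 n21855 = n15036 := d7_1 D21855 (iv D15036) (iv F65590)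
theorem F93801 : act 5 n21855 = n15015 := d37_1 D21855 (iv D15015) D15013
def n21856 : Q := act 8 n15014
theorem D21856 : act 8 n15014 = n21856 := rfl
theorem F93803 : act 0 n21856 = n15037 := d7_1 D21856 (iv D15037) (iv F65596)
theorem F93805 : act 4 n21856 = n15018 := d33_1 D21856 (iv D15018) (iv F65599)
theorem F93806 : act 6 n21856 = n15081 := d40_1 D21856 (iv D15081) (iv F65600)
theorem F93807 : act 7 n21856 = n15015 := d42_1 D21856 (iv D15015) D15014
def n21857 : Q := act 3 n15015
theorem D21857 : act 3 n15015 = n21857 := rfl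
theorem F93808 : act 0 n21857 = n15038 := d2_1 D21857 (iv D15038) (iv F65602)
theorem F93809 : act 1 n21857 = n21857 := d10_1 D21857 (iv D21857) F65603
theorem F93810 : act 6 n21857 = n15016 := d26_2 (iv F65605) D21857 (iv D15016)
theorem F93811 : act 8 n21857 = n21857 := d28_2 D15015 D21857 (iv D21857) (iv D15015) F46032
def n21858 : Q := act 9 n15015
theorem D21858 : act 9 n15015 = n21858 := rfl
theorem F93812 : act 0 n21858 = n15039 := d8_1 D21858 (iv D15039) (iv F65602)
theorem F93813 : act 1 n21858 = n21858 := d16_1 D21858 (iv D21858) F65603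
theorem F93814 : act 4 n21858 = n15019 := d34_1 D21858 (iv D15019) (iv F65604)
theorem F93815 : act 6 n21858 = n15017 := d41_1 D21858 (iv D15017) (iv F65605)
theorem F93816 : act 8 n21858 = n21858 := d44_1 D21858 (iv D21858) (iv D15015) F46034 D15015
def n21859 : Q := act 2 n15016
theorem D21859 : act 2 n15016 = n21859 := rfl
theorem F93817 : act 0 n21859 = n15040 := d1_1 D21859 (iv D15040) (iv F65606)
theorem F93818 : act 5 n21859 = n21859 := d19_2 F65608 D21859 (iv D21859)
theorem F93819 : act 7 n21859 = n15084 := d21_2 (iv F65609) D21859 (iv D15084)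
theorem F93820 : act 8 n21859 = n21859 := d22_2 F65610 D21859 (iv D21859)
def n21860 : Q := act 9 n15016
theorem D21860 : act 9 n15016 = n21860 := rfl
theorem F93821 : act 0 n21860 = n15041 := d8_1 D21860 (iv D15041) (iv F65606)
theorem F93822 : act 1 n21860 = n21860 := d16_1 D21860 (iv D21860) F65607
theorem F93823 : act 3 n21860 = n15017 := d29_1 D21860 (iv D15017) D15016
theorem F93824 : act 5 n21860 = n21860 := d38_1 D21860 (iv D21860) F65608
theorem F93825 : act 7 n21860 = n15085 := d43_1 D21860 (iv D15085) (iv F65609)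
def n21861 : Q := act 9 n15018
theorem D21861 : act 9 n15018 = n21861 := rfl
theorem F93826 : act 0 n21861 = n15042 := d8_1 D21861 (iv D15042) (iv F65617)
theorem F93827 : act 1 n21861 = n21861 := d16_1 D21861 (iv D21861) F65618
theorem F93828 : act 5 n21861 = n21861 := d38_1 D21861 (iv D21861) F65619
theorem F93829 : act 6 n21861 = n15086 := d41_1 D21861 (iv D15086) (iv F65620)
theorem F93830 : act 7 n21861 = n15019 := d43_1 D21861 (iv D15019) (iv F65621)
theorem F93831 : act 8 n21861 = n21861 := d44_1 D21861 (iv D21861) (iv D15018) F46045 D15018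
def n21862 : Q := act 5 n15020
theorem D21862 : act 5 n15020 = n21862 := rfl
theorem F93834 : act 3 n21862 = n15022 := d25_1 D21862 (iv D15022) (iv F65629)
def n21863 : Q := act 7 n15020
theorem D21863 : act 7 n15020 = n21863 := rfl
theorem F93840 : act 4 n21863 = n16495 := d32_1 D21863 (iv D16495) (iv F65630)
theorem F93841 : act 6 n21863 = n15088 := d39_1 D21863 (iv D15088) (iv D10379) (iv F46059) D15020
def n21865 : Q := act 3 n15021
theorem D21865 : act 3 n15021 = n21865 := rfl
theorem F93849 : act 7 n21865 = n15090 := d27_2 (iv F65636) D21865 (iv D15090)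
theorem F93850 : act 8 n21865 = n15025 := d28_2 D15021 D21865 (iv D15025) (iv D10336) D10334
def n21866 : Q := act 9 n15021
theorem D21866 : act 9 n15021 = n21866 := rfl
theorem F93855 : act 7 n21866 = n15091 := d43_1 D21866 (iv D15091) (iv F65636)
def n21867 : Q := act 7 n15022
theorem D21867 : act 7 n15022 = n21867 := rfl
theorem F93858 : act 2 n21867 = n15035 := d21_1 D21867 (iv D15035) (iv F65638)
theorem F93860 : act 5 n21867 = n15023 := d36_1 D21867 (iv D15023) D15022
def n21868 : Q := act 8 n15022
theorem D21868 : act 8 n15022 = n21868 := rfl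
theorem F93863 : act 2 n21868 = n15036 := d22_1 D21868 (iv D15036) (iv F65638)
theorem F93865 : act 5 n21868 = n15024 := d37_1 D21868 (iv D15024) D15022
def n21869 : Q := act 8 n15023
theorem D21869 : act 8 n15023 = n21869 := rfl
theorem F93868 : act 2 n21869 = n15037 := d22_1 D21869 (iv D15037) (iv F65643)
theorem F93870 : act 6 n21869 = n15094 := d40_1 D21869 (iv D15094) (iv F65645)
theorem F93871 : act 7 n21869 = n15024 := d42_1 D21869 (iv D15024) D15023
def n21870 : Q := act 3 n15024
theorem D21870 : act 3 n15024 = n21870 := rfl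
def n21871 : Q := act 9 n15024
theorem D21871 : act 9 n15024 = n21871 := rfl
theorem F93874 : act 1 n21871 = n21871 := d16_1 D21871 (iv D21871) F65647
theorem F93875 : act 2 n21871 = n15039 := d23_1 D21871 (iv D15039) (iv F65648)
theorem F93876 : act 4 n21871 = n15029 := d34_1 D21871 (iv D15029) (iv F65649)
theorem F93877 : act 6 n21871 = n15026 := d41_1 D21871 (iv D15026) (iv F65650)
theorem F93878 : act 8 n21871 = n21871 := d44_1 D21871 (iv D21871) (iv D15024) F46064 D15024
def n21872 : Q := act 2 n15025
theorem D21872 : act 2 n15025 = n21872 := rfl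
theorem F93879 : act 3 n21872 = n15040 := d17_2 D15025 D21872 (iv D15040) (iv D10346) (iv F46066)
theorem F93880 : act 5 n21872 = n21872 := d19_2 F65652 D21872 (iv D21872)
theorem F93881 : act 7 n21872 = n15097 := d21_2 (iv F65653) D21872 (iv D15097)
def n21873 : Q := act 4 n15025
theorem D21873 : act 4 n15025 = n21873 := rfl
theorem F93882 : act 1 n21873 = n21873 := d11_1 D21873 (iv D21873) F65651
theorem F93883 : act 3 n21873 = n15030 := d24_1 D21873 (iv D15030) (iv D10339) (iv F46067) D15025
theorem F93884 : act 7 n21873 = n15098 := d32_2 (iv F65653) D21873 (iv D15098)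
def n21874 : Q := act 9 n15025
theorem D21874 : act 9 n15025 = n21874 := rfl
theorem F93885 : act 1 n21874 = n21874 := d16_1 D21874 (iv D21874) F65651
theorem F93886 : act 3 n21874 = n15026 := d29_1 D21874 (iv D15026) D15025
theorem F93887 : act 5 n21874 = n21874 := d38_1 D21874 (iv D21874) F65652
theorem F93888 : act 7 n21874 = n15099 := d43_1 D21874 (iv D15099) (iv F65653)
def n21875 : Q := act 3 n15027
theorem D21875 : act 3 n15027 = n21875 := rfl
theorem F93889 : act 1 n21875 = n21875 := d10_1 D21875 (iv D21875) F65660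
theorem F93890 : act 5 n21875 = n21875 := d25_2 F65662 D21875 (iv D21875)
theorem F93891 : act 6 n21875 = n15100 := d26_2 (iv F65663) D21875 (iv D15100)
theorem F93892 : act 7 n21875 = n15028 := d27_2 (iv F65664) D21875 (iv D15028)
theorem F93893 : act 8 n21875 = n16507 := d28_2 D15027 D21875 (iv D16507) (iv D11356) (iv F46072)
def n21876 : Q := act 9 n15027
theorem D21876 : act 9 n15027 = n21876 := rfl
theorem F93894 : act 1 n21876 = n21876 := d16_1 D21876 (iv D21876) F65660
theorem F93895 : act 2 n21876 = n15042 := d23_1 D21876 (iv D15042) (iv F65661)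
theorem F93896 : act 5 n21876 = n21876 := d38_1 D21876 (iv D21876) F65662
theorem F93897 : act 6 n21876 = n15101 := d41_1 D21876 (iv D15101) (iv F65663)
theorem F93898 : act 7 n21876 = n15029 := d43_1 D21876 (iv D15029) (iv F65664)
theorem F93899 : act 8 n21876 = n21876 := d44_1 D21876 (iv D21876) (iv D15027) F46075 D15027
def n21877 : Q := act 4 n15028
theorem D21877 : act 4 n15028 = n21877 := rfl
theorem F93900 : act 1 n21877 = n21877 := d11_1 D21877 (iv D21877) F65665
theorem F93901 : act 6 n21877 = n15030 := d31_2 (iv F65667) D21877 (iv D15030)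
theorem F93902 : act 8 n21877 = n16509 := d33_2 (iv F65668) D21877 (iv D16509)
def n21878 : Q := act 9 n15028
theorem D21878 : act 9 n15028 = n21878 := rfl
theorem F93903 : act 1 n21878 = n21878 := d16_1 D21878 (iv D21878) F65665
theorem F93904 : act 3 n21878 = n15029 := d29_1 D21878 (iv D15029) D15028
theorem F93905 : act 5 n21878 = n21878 := d38_1 D21878 (iv D21878) F65666
theorem F93906 : act 6 n21878 = n15031 := d41_1 D21878 (iv D15031) (iv F65667)
def n21879 : Q := act 5 n15030
theorem D21879 : act 5 n15030 = n21879 := rfl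
theorem F93907 : act 1 n21879 = n21879 := d12_1 D21879 (iv D21879) F65674
theorem F93908 : act 4 n21879 = n15032 := d30_1 D21879 (iv D15032) (iv D10341) (iv F46081) D15030
theorem F93909 : act 7 n21879 = n15104 := d36_2 (iv F65675) D21879 (iv D15104)
theorem F93910 : act 8 n21879 = n16511 := d37_2 (iv F65676) D21879 (iv D16511)
def n21880 : Q := act 9 n15030
theorem D21880 : act 9 n15030 = n21880 := rfl
theorem F93911 : act 1 n21880 = n21880 := d16_1 D21880 (iv D21880) F65674
theorem F93912 : act 4 n21880 = n15031 := d34_1 D21880 (iv D15031) D15030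
theorem F93913 : act 7 n21880 = n15105 := d43_1 D21880 (iv D15105) (iv F65675)
def n21882 : Q := act 6 n15032
theorem D21882 : act 6 n15032 = n21882 := rfl
theorem F93919 : act 1 n21882 = n21882 := d13_1 D21882 (iv D21882) F65681
theorem F93920 : act 3 n21882 = n21882 := d26_1 D21882 (iv D21882) F65682
theorem F93921 : act 5 n21882 = n21882 := d35_1 D21882 (iv D21882) (iv D15032) F46091 D15032
theorem F93922 : act 8 n21882 = n16514 := d40_2 (iv F65684) D21882 (iv D16514)
def n21883 : Q := act 9 n15032
theorem D21883 : act 9 n15032 = n21883 := rfl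
theorem F93923 : act 1 n21883 = n21883 := d16_1 D21883 (iv D21883) F65681
theorem F93924 : act 3 n21883 = n21883 := d29_1 D21883 (iv D21883) F65682
theorem F93925 : act 5 n21883 = n15033 := d38_1 D21883 (iv D15033) D15032
theorem F93926 : act 7 n21883 = n15108 := d43_1 D21883 (iv D15108) (iv F65683)
def n21885 : Q := act 6 n15035
theorem D21885 : act 6 n15035 = n21885 := rfl
theorem F93935 : act 5 n21885 = n15110 := d35_1 D21885 (iv D15110) F46322 (iv F46106) (iv F65698)
def n21886 : Q := act 8 n15035
theorem D21886 : act 8 n15035 = n21886 := rfl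
theorem F93938 : act 1 n21886 = n15044 := d15_1 D21886 (iv D15044) (iv F65695)
theorem F93940 : act 5 n21886 = n15037 := d37_1 D21886 (iv D15037) (iv F65698)
theorem F93941 : act 7 n21886 = n15036 := d42_1 D21886 (iv D15036) D15035
def n21887 : Q := act 3 n15036
theorem D21887 : act 3 n15036 = n21887 := rfl
theorem F93942 : act 1 n21887 = n15045 := d10_1 D21887 (iv D15045) (iv F65700)
theorem F93943 : act 5 n21887 = n15038 := d25_2 (iv F65702) D21887 (iv D15038)
theorem F93944 : act 6 n21887 = n21887 := d26_2 F65703 D21887 (iv D21887)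
theorem F93945 : act 8 n21887 = n21887 := d28_2 D15036 D21887 (iv D21887) (iv D15036) F46099
def n21888 : Q := act 9 n15036
theorem D21888 : act 9 n15036 = n21888 := rfl
theorem F93946 : act 1 n21888 = n15046 := d16_1 D21888 (iv D15046) (iv F65700)
theorem F93947 : act 4 n21888 = n21888 := d34_1 D21888 (iv D21888) F65701
theorem F93948 : act 5 n21888 = n15039 := d38_1 D21888 (iv D15039) (iv F65702)
theorem F93949 : act 6 n21888 = n21888 := d41_1 D21888 (iv D21888) F65703
theorem F93950 : act 8 n21888 = n21888 := d44_1 D21888 (iv D21888) (iv D15036) F46102 D15036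
def n21889 : Q := act 3 n15037
theorem D21889 : act 3 n15037 = n21889 := rfl
theorem F93951 : act 1 n21889 = n15047 := d10_1 D21889 (iv D15047) (iv F65704)
theorem F93952 : act 6 n21889 = n15114 := d26_2 (iv F65706) D21889 (iv D15114)
theorem F93953 : act 7 n21889 = n15038 := d27_2 (iv F65707) D21889 (iv D15038)
theorem F93954 : act 8 n21889 = n21889 := d28_2 D15037 D21889 (iv D21889) (iv D15037) F46104
def n21890 : Q := act 9 n15037
theorem D21890 : act 9 n15037 = n21890 := rfl
theorem F93955 : act 1 n21890 = n15048 := d16_1 D21890 (iv D15048) (iv F65704)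
theorem F93956 : act 4 n21890 = n15042 := d34_1 D21890 (iv D15042) (iv F65705)
theorem F93957 : act 6 n21890 = n15115 := d41_1 D21890 (iv D15115) (iv F65706)
theorem F93958 : act 7 n21890 = n15039 := d43_1 D21890 (iv D15039) (iv F65707)
theorem F93959 : act 8 n21890 = n21890 := d44_1 D21890 (iv D21890) (iv D15037) F46107 D15037
def n21891 : Q := act 2 n15038
theorem D21891 : act 2 n15038 = n21891 := rfl
theorem F93960 : act 6 n21891 = n15040 := d20_2 (iv F65709) D21891 (iv D15040)
theorem F93961 : act 8 n21891 = n21891 := d22_2 F65710 D21891 (iv D21891)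
def n21892 : Q := act 9 n15038
theorem D21892 : act 9 n15038 = n21892 := rfl
theorem F93962 : act 1 n21892 = n15050 := d16_1 D21892 (iv D15050) (iv F65708)
theorem F93963 : act 3 n21892 = n15039 := d29_1 D21892 (iv D15039) D15038
theorem F93964 : act 6 n21892 = n15041 := d41_1 D21892 (iv D15041) (iv F65709)
def n21893 : Q := act 1 n15040
theorem D21893 : act 1 n15040 = n21893 := rfl
theorem F93965 : act 2 n21893 = n15051 := d9_2 D15040 D21893 (iv D15051) (iv D10355) (iv F46111)
theorem F93966 : act 5 n21893 = n21893 := d12_2 F65715 D21893 (iv D21893)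
theorem F93967 : act 7 n21893 = n15118 := d14_2 (iv F65716) D21893 (iv D15118)
theorem F93968 : act 8 n21893 = n21893 := d15_2 F65717 D21893 (iv D21893)
def n21894 : Q := act 9 n15040
theorem D21894 : act 9 n15040 = n21894 := rfl
theorem F93969 : act 2 n21894 = n15041 := d23_1 D21894 (iv D15041) D15040
theorem F93970 : act 5 n21894 = n21894 := d38_1 D21894 (iv D21894) F65715
theorem F93971 : act 7 n21894 = n15119 := d43_1 D21894 (iv D15119) (iv F65716)
def n21895 : Q := act 8 n15041
theorem D21895 : act 8 n15041 = n21895 := rfl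
theorem F93972 : act 1 n21895 = n15053 := d15_1 D21895 (iv D15053) (iv F65718)
theorem F93973 : act 3 n21895 = n21895 := d28_1 D21895 (iv D21895) F65719 F46119 (iv F65719)
theorem F93974 : act 5 n21895 = n21895 := d37_1 D21895 (iv D21895) F65720
theorem F93975 : act 7 n21895 = n15120 := d42_1 D21895 (iv D15120) (iv F65721)
theorem F93976 : act 9 n21895 = n21895 := d44_2 D15041 D21895 (iv D21895) (iv D15041) F46114
def n21896 : Q := act 8 n15043
theorem D21896 : act 8 n15043 = n21896 := rfl
theorem F93980 : act 5 n21896 = n15121 := d37_1 D21896 (iv D15121) (iv F65731)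
theorem F93981 : act 6 n21896 = n15044 := d40_1 D21896 (iv D15044) D15043
def n21897 : Q := act 3 n15044
theorem D21897 : act 3 n15044 = n21897 := rfl
theorem F93983 : act 0 n21897 = n21897 := d2_1 D21897 (iv D21897) F65734
theorem F93984 : act 5 n21897 = n15047 := d25_2 (iv F65737) D21897 (iv D15047)
theorem F93985 : act 7 n21897 = n15045 := d27_2 (iv F65738) D21897 (iv D15045)
theorem F93986 : act 8 n21897 = n21897 := d28_2 D15044 D21897 (iv D21897) (iv D15044) F46130
def n21898 : Q := act 9 n15044
theorem D21898 : act 9 n15044 = n21898 := rfl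
theorem F93987 : act 0 n21898 = n21898 := d8_1 D21898 (iv D21898) F65734
theorem F93988 : act 2 n21898 = n21898 := d23_1 D21898 (iv D21898) F65735
theorem F93989 : act 4 n21898 = n21898 := d34_1 D21898 (iv D21898) F65736
theorem F93990 : act 5 n21898 = n15048 := d38_1 D21898 (iv D15048) (iv F65737)
theorem F93991 : act 7 n21898 = n15046 := d43_1 D21898 (iv D15046) (iv F65738)
theorem F93992 : act 8 n21898 = n21898 := d44_1 D21898 (iv D21898) (iv D15044) F46133 D15044
def n21899 : Q := act 2 n15045
theorem D21899 : act 2 n15045 = n21899 := rfl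
theorem F93993 : act 0 n21899 = n21899 := d1_1 D21899 (iv D21899) F65739
theorem F93994 : act 3 n21899 = n21899 := d17_2 D15045 D21899 (iv D21899) (iv D15045) F46135
theorem F93995 : act 5 n21899 = n15049 := d19_2 (iv F65740) D21899 (iv D15049)
theorem F93996 : act 6 n21899 = n21899 := d20_2 F65741 D21899 (iv D21899)
theorem F93997 : act 8 n21899 = n21899 := d22_2 F65742 D21899 (iv D21899)
def n21900 : Q := act 4 n15045
theorem D21900 : act 4 n15045 = n21900 := rfl
theorem F93998 : act 0 n21900 = n21900 := d3_1 D21900 (iv D21900) F65739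
theorem F93999 : act 3 n21900 = n21900 := d24_1 D21900 (iv D21900) (iv D15045) F46136 D15045
theorem F94000 : act 6 n21900 = n21900 := d31_2 F65741 D21900 (iv D21900)
theorem F94001 : act 8 n21900 = n21900 := d33_2 F65742 D21900 (iv D21900)
def n21901 : Q := act 9 n15045
theorem D21901 : act 9 n15045 = n21901 := rfl
theorem F94002 : act 0 n21901 = n21901 := d8_1 D21901 (iv D21901) F65739
theorem F94003 : act 3 n21901 = n15046 := d29_1 D21901 (iv D15046) D15045
theorem F94004 : act 5 n21901 = n15050 := d38_1 D21901 (iv D15050) (iv F65740)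
theorem F94005 : act 6 n21901 = n21901 := d41_1 D21901 (iv D21901) F65741
def n21902 : Q := act 2 n15047
theorem D21902 : act 2 n15047 = n21902 := rfl
theorem F94006 : act 0 n21902 = n21902 := d1_1 D21902 (iv D21902) F65749
theorem F94007 : act 3 n21902 = n21902 := d17_2 D15047 D21902 (iv D21902) (iv D15047) F46140
theorem F94008 : act 6 n21902 = n15127 := d20_2 (iv F65750) D21902 (iv D15127)
theorem F94009 : act 7 n21902 = n15049 := d21_2 (iv F65751) D21902 (iv D15049)
theorem F94010 : act 8 n21902 = n21902 := d22_2 F65752 D21902 (iv D21902)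
def n21903 : Q := act 9 n15047
theorem D21903 : act 9 n15047 = n21903 := rfl
theorem F94011 : act 0 n21903 = n21903 := d8_1 D21903 (iv D21903) F65749
theorem F94012 : act 3 n21903 = n15048 := d29_1 D21903 (iv D15048) D15047
theorem F94013 : act 6 n21903 = n15128 := d41_1 D21903 (iv D15128) (iv F65750)
theorem F94014 : act 7 n21903 = n15050 := d43_1 D21903 (iv D15050) (iv F65751)
def n21904 : Q := act 1 n15049
theorem D21904 : act 1 n15049 = n21904 := rfl
theorem F94015 : act 3 n21904 = n21904 := d10_2 F65760 D21904 (iv D21904)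
theorem F94016 : act 6 n21904 = n15051 := d13_2 (iv F65761) D21904 (iv D15051)
theorem F94017 : act 8 n21904 = n21904 := d15_2 F65762 D21904 (iv D21904)
def n21905 : Q := act 9 n15049
theorem D21905 : act 9 n15049 = n21905 := rfl
theorem F94018 : act 0 n21905 = n21905 := d8_1 D21905 (iv D21905) F65759
theorem F94019 : act 2 n21905 = n15050 := d23_1 D21905 (iv D15050) D15049
theorem F94020 : act 3 n21905 = n21905 := d29_1 D21905 (iv D21905) F65760
theorem F94021 : act 6 n21905 = n15052 := d41_1 D21905 (iv D15052) (iv F65761)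
def n21906 : Q := act 8 n15050
theorem D21906 : act 8 n15050 = n21906 := rfl
theorem F94022 : act 0 n21906 = n21906 := d7_1 D21906 (iv D21906) F65763
theorem F94023 : act 3 n21906 = n21906 := d28_1 D21906 (iv D21906) F65764 F46151 (iv F65764)
theorem F94024 : act 6 n21906 = n15053 := d40_1 D21906 (iv D15053) (iv F65765)
theorem F94025 : act 9 n21906 = n21906 := d44_2 D15050 D21906 (iv D21906) (iv D15050) F46146
def n21907 : Q := act 0 n15051
theorem D21907 : act 0 n15051 = n21907 := rfl
theorem F94026 : act 1 n21907 = n21907 := d0_2 D15051 D21907 (iv D21907) (iv D15051) F46152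
theorem F94027 : act 3 n21907 = n21907 := d2_2 F65766 D21907 (iv D21907)
theorem F94028 : act 5 n21907 = n21907 := d4_2 F65767 D21907 (iv D21907)
theorem F94029 : act 7 n21907 = n15132 := d6_2 (iv F65768) D21907 (iv D15132)
theorem F94030 : act 8 n21907 = n21907 := d7_2 F65769 D21907 (iv D21907)
def n21908 : Q := act 9 n15051
theorem D21908 : act 9 n15051 = n21908 := rfl
theorem F94031 : act 1 n21908 = n15052 := d16_1 D21908 (iv D15052) D15051
theorem F94032 : act 3 n21908 = n21908 := d29_1 D21908 (iv D21908) F65766
theorem F94033 : act 5 n21908 = n21908 := d38_1 D21908 (iv D21908) F65767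
theorem F94034 : act 7 n21908 = n15133 := d43_1 D21908 (iv D15133) (iv F65768)
def n21909 : Q := act 8 n15052
theorem D21909 : act 8 n15052 = n21909 := rfl
theorem F94035 : act 0 n21909 = n21909 := d7_1 D21909 (iv D21909) F65770
theorem F94036 : act 2 n21909 = n15053 := d22_1 D21909 (iv D15053) (iv F65771)
theorem F94037 : act 5 n21909 = n21909 := d37_1 D21909 (iv D21909) F65773
theorem F94038 : act 7 n21909 = n15134 := d42_1 D21909 (iv D15134) (iv F65774)
theorem F94039 : act 9 n21909 = n21909 := d44_2 D15052 D21909 (iv D21909) (iv D15052) F46156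
def n21929 : Q := act 5 n15064
theorem D21929 : act 5 n15064 = n21929 := rfl
theorem F94131 : act 3 n21929 = n15066 := d25_1 D21929 (iv D15066) (iv F65830)
def n21930 : Q := act 7 n15064
theorem D21930 : act 7 n15064 = n21930 := rfl
theorem F94138 : act 4 n21930 = n16558 := d32_1 D21930 (iv D16558) (iv F65831)
def n21932 : Q := act 3 n15065
theorem D21932 : act 3 n15065 = n21932 := rfl
theorem F94144 : act 0 n21932 = n15090 := d2_1 D21932 (iv D15090) (iv F65833)
theorem F94146 : act 8 n21932 = n15069 := d28_2 D15065 D21932 (iv D15069) (iv D10365) D10363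
def n21933 : Q := act 9 n15065
theorem D21933 : act 9 n15065 = n21933 := rfl
theorem F94147 : act 0 n21933 = n15091 := d8_1 D21933 (iv D15091) (iv F65833)
def n21934 : Q := act 7 n15066
theorem D21934 : act 7 n15066 = n21934 := rfl
theorem F94154 : act 4 n21934 = n15151 := d32_1 D21934 (iv D15151) (iv F65839)
theorem F94155 : act 5 n21934 = n15067 := d36_1 D21934 (iv D15067) D15066
def n21935 : Q := act 8 n15066
theorem D21935 : act 8 n15066 = n21935 := rfl
theorem F94157 : act 0 n21935 = n15093 := d7_1 D21935 (iv D15093) (iv F65837)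
theorem F94158 : act 2 n21935 = n15080 := d22_1 D21935 (iv D15080) (iv F65838)
theorem F94159 : act 4 n21935 = n15152 := d33_1 D21935 (iv D15152) (iv F65839)
def n21936 : Q := act 8 n15067
theorem D21936 : act 8 n15067 = n21936 := rfl
theorem F94162 : act 0 n21936 = n15094 := d7_1 D21936 (iv D15094) (iv F65842)
theorem F94163 : act 2 n21936 = n15081 := d22_1 D21936 (iv D15081) (iv F65843)
theorem F94164 : act 4 n21936 = n15071 := d33_1 D21936 (iv D15071) (iv F65844)
def n21937 : Q := act 3 n15068
theorem D21937 : act 3 n15068 = n21937 := rfl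
theorem F94166 : act 0 n21937 = n15095 := d2_1 D21937 (iv D15095) (iv F65846)
def n21938 : Q := act 9 n15068
theorem D21938 : act 9 n15068 = n21938 := rfl
theorem F94168 : act 0 n21938 = n15096 := d8_1 D21938 (iv D15096) (iv F65846)
theorem F94169 : act 2 n21938 = n15083 := d23_1 D21938 (iv D15083) (iv F65847)
theorem F94170 : act 4 n21938 = n15073 := d34_1 D21938 (iv D15073) (iv F65848)
theorem F94171 : act 6 n21938 = n15070 := d41_1 D21938 (iv D15070) (iv F65849)
theorem F94172 : act 8 n21938 = n21938 := d44_1 D21938 (iv D21938) (iv D15068) F46200 D15068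
def n21939 : Q := act 2 n15069
theorem D21939 : act 2 n15069 = n21939 := rfl
theorem F94173 : act 0 n21939 = n15097 := d1_1 D21939 (iv D15097) (iv F65850)
theorem F94174 : act 3 n21939 = n15084 := d17_2 D15069 D21939 (iv D15084) (iv D10375) (iv F46202)
theorem F94175 : act 5 n21939 = n21939 := d19_2 F65851 D21939 (iv D21939)
def n21940 : Q := act 4 n15069
theorem D21940 : act 4 n15069 = n21940 := rfl
theorem F94177 : act 3 n21940 = n15074 := d24_1 D21940 (iv D15074) (iv D10368) (iv F46203) D15069
def n21941 : Q := act 9 n15069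
theorem D21941 : act 9 n15069 = n21941 := rfl
theorem F94178 : act 0 n21941 = n15099 := d8_1 D21941 (iv D15099) (iv F65850)
theorem F94179 : act 3 n21941 = n15070 := d29_1 D21941 (iv D15070) D15069
theorem F94180 : act 5 n21941 = n21941 := d38_1 D21941 (iv D21941) F65851
def n21942 : Q := act 3 n15071
theorem D21942 : act 3 n15071 = n21942 := rfl
theorem F94184 : act 8 n21942 = n16568 := d28_2 D15071 D21942 (iv D16568) (iv D11398) (iv F46207)
def n21943 : Q := act 9 n15071
theorem D21943 : act 9 n15071 = n21943 := rfl
theorem F94185 : act 0 n21943 = n15101 := d8_1 D21943 (iv D15101) (iv F65857)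
theorem F94186 : act 2 n21943 = n15086 := d23_1 D21943 (iv D15086) (iv F65858)
theorem F94187 : act 5 n21943 = n15160 := d38_1 D21943 (iv D15160) (iv F65859)
theorem F94188 : act 7 n21943 = n15073 := d43_1 D21943 (iv D15073) (iv F65860)
theorem F94189 : act 8 n21943 = n21943 := d44_1 D21943 (iv D21943) (iv D15071) F46209 D15071
def n21944 : Q := act 4 n15072
theorem D21944 : act 4 n15072 = n21944 := rfl
theorem F94192 : act 8 n21944 = n16570 := d33_2 (iv F65864) D21944 (iv D16570)
def n21952 : Q := act 6 n15079
theorem D21952 : act 6 n15079 = n21952 := rfl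
theorem F94220 : act 4 n21952 = n15169 := d31_1 D21952 (iv D15169) (iv F65889)
def n21953 : Q := act 8 n15079
theorem D21953 : act 8 n15079 = n21953 := rfl
theorem F94223 : act 0 n21953 = n15111 := d7_1 D21953 (iv D15111) (iv F65886)
theorem F94225 : act 4 n21953 = n15170 := d33_1 D21953 (iv D15170) (iv F65889)
theorem F94226 : act 5 n21953 = n15081 := d37_1 D21953 (iv D15081) (iv F65890)
def n21954 : Q := act 3 n15080
theorem D21954 : act 3 n15080 = n21954 := rfl
theorem F94228 : act 0 n21954 = n15112 := d2_1 D21954 (iv D15112) (iv F65892)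
theorem F94229 : act 1 n21954 = n21954 := d10_1 D21954 (iv D21954) F65893
theorem F94230 : act 5 n21954 = n15082 := d25_2 (iv F65895) D21954 (iv D15082)
theorem F94231 : act 6 n21954 = n21954 := d26_2 F65896 D21954 (iv D21954)
theorem F94232 : act 8 n21954 = n21954 := d28_2 D15080 D21954 (iv D21954) (iv D15080) F46230
def n21955 : Q := act 9 n15080
theorem D21955 : act 9 n15080 = n21955 := rfl
theorem F94233 : act 0 n21955 = n15113 := d8_1 D21955 (iv D15113) (iv F65892)
theorem F94234 : act 1 n21955 = n21955 := d16_1 D21955 (iv D21955) F65893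
theorem F94235 : act 4 n21955 = n15172 := d34_1 D21955 (iv D15172) (iv F65894)
theorem F94236 : act 5 n21955 = n15083 := d38_1 D21955 (iv D15083) (iv F65895)
theorem F94237 : act 6 n21955 = n21955 := d41_1 D21955 (iv D21955) F65896
theorem F94238 : act 8 n21955 = n21955 := d44_1 D21955 (iv D21955) (iv D15080) F46233 D15080
def n21956 : Q := act 3 n15081
theorem D21956 : act 3 n15081 = n21956 := rfl
theorem F94239 : act 0 n21956 = n15114 := d2_1 D21956 (iv D15114) (iv F65897)
theorem F94240 : act 1 n21956 = n21956 := d10_1 D21956 (iv D21956) F65898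
theorem F94241 : act 7 n21956 = n15082 := d27_2 (iv F65900) D21956 (iv D15082)
theorem F94242 : act 8 n21956 = n21956 := d28_2 D15081 D21956 (iv D21956) (iv D15081) F46236
def n21957 : Q := act 9 n15081
theorem D21957 : act 9 n15081 = n21957 := rfl
theorem F94243 : act 0 n21957 = n15115 := d8_1 D21957 (iv D15115) (iv F65897)
theorem F94244 : act 1 n21957 = n21957 := d16_1 D21957 (iv D21957) F65898
theorem F94245 : act 4 n21957 = n15086 := d34_1 D21957 (iv D15086) (iv F65899)
theorem F94246 : act 7 n21957 = n15083 := d43_1 D21957 (iv D15083) (iv F65900)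
theorem F94247 : act 8 n21957 = n21957 := d44_1 D21957 (iv D21957) (iv D15081) F46238 D15081
def n21958 : Q := act 2 n15082
theorem D21958 : act 2 n15082 = n21958 := rfl
theorem F94248 : act 0 n21958 = n15116 := d1_1 D21958 (iv D15116) (iv F65901)
theorem F94249 : act 6 n21958 = n15084 := d20_2 (iv F65903) D21958 (iv D15084)
theorem F94250 : act 8 n21958 = n21958 := d22_2 F65904 D21958 (iv D21958)
def n21959 : Q := act 9 n15082
theorem D21959 : act 9 n15082 = n21959 := rfl
theorem F94251 : act 0 n21959 = n15117 := d8_1 D21959 (iv D15117) (iv F65901)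
theorem F94252 : act 1 n21959 = n21959 := d16_1 D21959 (iv D21959) F65902
theorem F94253 : act 3 n21959 = n15083 := d29_1 D21959 (iv D15083) D15082
theorem F94254 : act 6 n21959 = n15085 := d41_1 D21959 (iv D15085) (iv F65903)
def n21960 : Q := act 1 n15084
theorem D21960 : act 1 n15084 = n21960 := rfl
theorem F94255 : act 2 n21960 = n21960 := d9_2 D15084 D21960 (iv D21960) (iv D15084) F46244
theorem F94256 : act 5 n21960 = n21960 := d12_2 F65911 D21960 (iv D21960)
theorem F94257 : act 8 n21960 = n21960 := d15_2 F65912 D21960 (iv D21960)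
def n21961 : Q := act 9 n15084
theorem D21961 : act 9 n15084 = n21961 := rfl
theorem F94258 : act 0 n21961 = n15119 := d8_1 D21961 (iv D15119) (iv F65910)
theorem F94259 : act 2 n21961 = n15085 := d23_1 D21961 (iv D15085) D15084
theorem F94260 : act 5 n21961 = n21961 := d38_1 D21961 (iv D21961) F65911
def n21962 : Q := act 8 n15085
theorem D21962 : act 8 n15085 = n21962 := rfl
theorem F94261 : act 0 n21962 = n15120 := d7_1 D21962 (iv D15120) (iv F65913)
theorem F94262 : act 1 n21962 = n21962 := d15_1 D21962 (iv D21962) F65914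
theorem F94263 : act 3 n21962 = n21962 := d28_1 D21962 (iv D21962) F65915 F46251 (iv F65915)
theorem F94264 : act 5 n21962 = n21962 := d37_1 D21962 (iv D21962) F65916
theorem F94265 : act 9 n21962 = n21962 := d44_2 D15085 D21962 (iv D21962) (iv D15085) F46246
def n21963 : Q := act 7 n15087
theorem D21963 : act 7 n15087 = n21963 := rfl
theorem F94268 : act 3 n21963 = n15092 := d27_1 D21963 (iv D15092) (iv F65924)
theorem F94270 : act 5 n21963 = n15088 := d36_1 D21963 (iv D15088) D15087
def n21966 : Q := act 3 n15089
theorem D21966 : act 3 n15089 = n21966 := rfl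
theorem F94283 : act 8 n21966 = n15095 := d28_2 D15089 D21966 (iv D15095) (iv D10383) (iv F46263)
def n21968 : Q := act 2 n15090
theorem D21968 : act 2 n15090 = n21968 := rfl
theorem F94289 : act 3 n21968 = n21968 := d17_2 D15090 D21968 (iv D21968) (iv D15090) F46267
theorem F94290 : act 5 n21968 = n21968 := d19_2 F65938 D21968 (iv D21968)
theorem F94291 : act 8 n21968 = n15097 := d22_2 (iv F65939) D21968 (iv D15097)
def n21969 : Q := act 4 n15090
theorem D21969 : act 4 n15090 = n21969 := rfl
theorem F94292 : act 1 n21969 = n21969 := d11_1 D21969 (iv D21969) F65937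
theorem F94293 : act 3 n21969 = n16589 := d24_1 D21969 (iv D16589) (iv D11414) (iv F46268) D15090
theorem F94294 : act 8 n21969 = n15098 := d33_2 (iv F65939) D21969 (iv D15098)
def n21970 : Q := act 9 n15090
theorem D21970 : act 9 n15090 = n21970 := rfl
theorem F94295 : act 1 n21970 = n21970 := d16_1 D21970 (iv D21970) F65937
theorem F94296 : act 3 n21970 = n15091 := d29_1 D21970 (iv D15091) D15090
theorem F94297 : act 5 n21970 = n21970 := d38_1 D21970 (iv D21970) F65938
def n21971 : Q := act 6 n15092
theorem D21971 : act 6 n15092 = n21971 := rfl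
theorem F94300 : act 4 n21971 = n15180 := d31_1 D21971 (iv D15180) (iv F65947)
def n21972 : Q := act 8 n15092
theorem D21972 : act 8 n15092 = n21972 := rfl
theorem F94304 : act 2 n21972 = n15111 := d22_1 D21972 (iv D15111) (iv F65946)
theorem F94305 : act 4 n21972 = n15181 := d33_1 D21972 (iv D15181) (iv F65947)
theorem F94306 : act 5 n21972 = n15094 := d37_1 D21972 (iv D15094) (iv F65948)
def n21973 : Q := act 3 n15093
theorem D21973 : act 3 n15093 = n21973 := rfl
def n21974 : Q := act 9 n15093
theorem D21974 : act 9 n15093 = n21974 := rfl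
theorem F94311 : act 1 n21974 = n21974 := d16_1 D21974 (iv D21974) F65950
theorem F94312 : act 2 n21974 = n15113 := d23_1 D21974 (iv D15113) (iv F65951)
theorem F94313 : act 4 n21974 = n15183 := d34_1 D21974 (iv D15183) (iv F65952)
theorem F94314 : act 5 n21974 = n15096 := d38_1 D21974 (iv D15096) (iv F65953)
theorem F94315 : act 6 n21974 = n21974 := d41_1 D21974 (iv D21974) F65954
theorem F94316 : act 8 n21974 = n21974 := d44_1 D21974 (iv D21974) (iv D15093) F46274 D15093
def n21975 : Q := act 3 n15094
theorem D21975 : act 3 n15094 = n21975 := rfl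
def n21976 : Q := act 9 n15094
theorem D21976 : act 9 n15094 = n21976 := rfl
theorem F94319 : act 1 n21976 = n21976 := d16_1 D21976 (iv D21976) F65955
theorem F94320 : act 2 n21976 = n15115 := d23_1 D21976 (iv D15115) (iv F65956)
theorem F94321 : act 4 n21976 = n15101 := d34_1 D21976 (iv D15101) (iv F65957)
theorem F94322 : act 7 n21976 = n15096 := d43_1 D21976 (iv D15096) (iv F65958)
theorem F94323 : act 8 n21976 = n21976 := d44_1 D21976 (iv D21976) (iv D15094) F46278 D15094
def n21977 : Q := act 2 n15095
theorem D21977 : act 2 n15095 = n21977 := rfl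
theorem F94324 : act 3 n21977 = n15116 := d17_2 D15095 D21977 (iv D15116) (iv D10397) (iv F46280)
theorem F94325 : act 6 n21977 = n15097 := d20_2 (iv F65960) D21977 (iv D15097)
def n21978 : Q := act 4 n15095
theorem D21978 : act 4 n15095 = n21978 := rfl
theorem F94326 : act 1 n21978 = n21978 := d11_1 D21978 (iv D21978) F65959
theorem F94327 : act 3 n21978 = n15102 := d24_1 D21978 (iv D15102) (iv D10387) (iv F46281) D15095
theorem F94328 : act 6 n21978 = n15098 := d31_2 (iv F65960) D21978 (iv D15098)
def n21979 : Q := act 9 n15095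
theorem D21979 : act 9 n15095 = n21979 := rfl
theorem F94329 : act 1 n21979 = n21979 := d16_1 D21979 (iv D21979) F65959
theorem F94330 : act 3 n21979 = n15096 := d29_1 D21979 (iv D15096) D15095
theorem F94331 : act 6 n21979 = n15099 := d41_1 D21979 (iv D15099) (iv F65960)
def n21980 : Q := act 1 n15097
theorem D21980 : act 1 n15097 = n21980 := rfl
theorem F94332 : act 2 n21980 = n21980 := d9_2 D15097 D21980 (iv D21980) (iv D15097) F46283
theorem F94333 : act 3 n21980 = n15118 := d10_2 (iv F65966) D21980 (iv D15118)
theorem F94334 : act 5 n21980 = n21980 := d12_2 F65967 D21980 (iv D21980)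
def n21981 : Q := act 4 n15097
theorem D21981 : act 4 n15097 = n21981 := rfl
theorem F94335 : act 2 n21981 = n15098 := d18_1 D21981 (iv D15098) D15097
def n21982 : Q := act 9 n15097
theorem D21982 : act 9 n15097 = n21982 := rfl
theorem F94336 : act 2 n21982 = n15099 := d23_1 D21982 (iv D15099) D15097
theorem F94337 : act 3 n21982 = n15119 := d29_1 D21982 (iv D15119) (iv F65966)
theorem F94338 : act 5 n21982 = n21982 := d38_1 D21982 (iv D21982) F65967
def n21983 : Q := act 5 n15098
theorem D21983 : act 5 n15098 = n21983 := rfl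
theorem F94339 : act 1 n21983 = n21983 := d12_1 D21983 (iv D21983) F65968
theorem F94340 : act 3 n21983 = n15104 := d25_1 D21983 (iv D15104) (iv F65969)
theorem F94341 : act 4 n21983 = n21983 := d30_1 D21983 (iv D21983) (iv D15098) F46284 D15098
def n21984 : Q := act 9 n15098
theorem D21984 : act 9 n15098 = n21984 := rfl
theorem F94342 : act 1 n21984 = n21984 := d16_1 D21984 (iv D21984) F65968
theorem F94343 : act 3 n21984 = n15105 := d29_1 D21984 (iv D15105) (iv F65969)
theorem F94344 : act 4 n21984 = n15099 := d34_1 D21984 (iv D15099) D15098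
def n21985 : Q := act 8 n15099
theorem D21985 : act 8 n15099 = n21985 := rfl
theorem F94345 : act 1 n21985 = n21985 := d15_1 D21985 (iv D21985) F65970
theorem F94346 : act 3 n21985 = n21985 := d28_1 D21985 (iv D21985) F65971 F46289 (iv F65971)
theorem F94347 : act 5 n21985 = n21985 := d37_1 D21985 (iv D21985) F65972
def n21986 : Q := act 4 n15100
theorem D21986 : act 4 n15100 = n21986 := rfl
theorem F94348 : act 1 n21986 = n21986 := d11_1 D21986 (iv D21986) F65973
theorem F94349 : act 7 n21986 = n15102 := d32_2 (iv F65975) D21986 (iv D15102)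
theorem F94350 : act 8 n21986 = n16602 := d33_2 (iv F65976) D21986 (iv D16602)
def n21987 : Q := act 9 n15100
theorem D21987 : act 9 n15100 = n21987 := rfl
theorem F94351 : act 1 n21987 = n21987 := d16_1 D21987 (iv D21987) F65973
theorem F94352 : act 3 n21987 = n15101 := d29_1 D21987 (iv D15101) D15100
theorem F94353 : act 5 n21987 = n15196 := d38_1 D21987 (iv D15196) (iv F65974)
theorem F94354 : act 7 n21987 = n15103 := d43_1 D21987 (iv D15103) (iv F65975)
def n21988 : Q := act 5 n15102
theorem D21988 : act 5 n15102 = n21988 := rfl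
theorem F94355 : act 1 n21988 = n21988 := d12_1 D21988 (iv D21988) F65982
theorem F94356 : act 4 n21988 = n15197 := d30_1 D21988 (iv D15197) (iv D10453) (iv F46295) D15102
theorem F94357 : act 8 n21988 = n16604 := d37_2 (iv F65984) D21988 (iv D16604)
def n21989 : Q := act 9 n15102
theorem D21989 : act 9 n15102 = n21989 := rfl
theorem F94358 : act 1 n21989 = n21989 := d16_1 D21989 (iv D21989) F65982
theorem F94359 : act 4 n21989 = n15103 := d34_1 D21989 (iv D15103) D15102
theorem F94360 : act 6 n21989 = n15105 := d41_1 D21989 (iv D15105) (iv F65983)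
def n21991 : Q := act 6 n15104
theorem D21991 : act 6 n15104 = n21991 := rfl
theorem F94366 : act 1 n21991 = n21991 := d13_1 D21991 (iv D21991) F65989
theorem F94367 : act 4 n21991 = n15107 := d31_1 D21991 (iv D15107) (iv F65990)
theorem F94368 : act 8 n21991 = n16607 := d40_2 (iv F65991) D21991 (iv D16607)
def n21992 : Q := act 9 n15104
theorem D21992 : act 9 n15104 = n21992 := rfl
theorem F94369 : act 1 n21992 = n21992 := d16_1 D21992 (iv D21992) F65989
theorem F94370 : act 4 n21992 = n15108 := d34_1 D21992 (iv D15108) (iv F65990)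
theorem F94371 : act 5 n21992 = n15105 := d38_1 D21992 (iv D15105) D15104
def n21994 : Q := act 7 n15107
theorem D21994 : act 7 n15107 = n21994 := rfl
theorem F94375 : act 1 n21994 = n21994 := d14_1 D21994 (iv D21994) F65998
theorem F94376 : act 3 n21994 = n21994 := d27_1 D21994 (iv D21994) F65999
theorem F94377 : act 5 n21994 = n15203 := d36_1 D21994 (iv D15203) (iv F66000)
theorem F94378 : act 8 n21994 = n16610 := d42_2 (iv F66001) D21994 (iv D16610)
def n21995 : Q := act 9 n15107
theorem D21995 : act 9 n15107 = n21995 := rfl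
theorem F94379 : act 1 n21995 = n21995 := d16_1 D21995 (iv D21995) F65998
theorem F94380 : act 3 n21995 = n21995 := d29_1 D21995 (iv D21995) F65999
theorem F94381 : act 5 n21995 = n15204 := d38_1 D21995 (iv D15204) (iv F66000)
theorem F94382 : act 6 n21995 = n15108 := d41_1 D21995 (iv D15108) D15107
def n21998 : Q := act 8 n15110
theorem D21998 : act 8 n15110 = n21998 := rfl
theorem F94391 : act 1 n21998 = n15121 := d15_1 D21998 (iv D15121) (iv F66009)
theorem F94392 : act 4 n21998 = n15207 := d33_1 D21998 (iv D15207) (iv F66011)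
theorem F94393 : act 6 n21998 = n15111 := d40_1 D21998 (iv D15111) D15110
def n21999 : Q := act 3 n15111
theorem D21999 : act 3 n15111 = n21999 := rfl
theorem F94395 : act 1 n21999 = n15122 := d10_1 D21999 (iv D15122) (iv F66014)
theorem F94396 : act 5 n21999 = n15114 := d25_2 (iv F66016) D21999 (iv D15114)
theorem F94397 : act 7 n21999 = n15112 := d27_2 (iv F66017) D21999 (iv D15112)
theorem F94398 : act 8 n21999 = n21999 := d28_2 D15111 D21999 (iv D21999) (iv D15111) F46320
def n22000 : Q := act 9 n15111
theorem D22000 : act 9 n15111 = n22000 := rfl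
theorem F94399 : act 1 n22000 = n15123 := d16_1 D22000 (iv D15123) (iv F66014)
theorem F94400 : act 4 n22000 = n15209 := d34_1 D22000 (iv D15209) (iv F66015)
theorem F94401 : act 5 n22000 = n15115 := d38_1 D22000 (iv D15115) (iv F66016)
theorem F94402 : act 7 n22000 = n15113 := d43_1 D22000 (iv D15113) (iv F66017)
theorem F94403 : act 8 n22000 = n22000 := d44_1 D22000 (iv D22000) (iv D15111) F46323 D15111
def n22001 : Q := act 2 n15112
theorem D22001 : act 2 n15112 = n22001 := rfl
theorem F94404 : act 5 n22001 = n15116 := d19_2 (iv F66019) D22001 (iv D15116)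
theorem F94405 : act 6 n22001 = n22001 := d20_2 F66020 D22001 (iv D22001)
theorem F94406 : act 8 n22001 = n22001 := d22_2 F66021 D22001 (iv D22001)
def n22002 : Q := act 4 n15112
theorem D22002 : act 4 n15112 = n22002 := rfl
theorem F94407 : act 1 n22002 = n15125 := d11_1 D22002 (iv D15125) (iv F66018)
theorem F94408 : act 3 n22002 = n15211 := d24_1 D22002 (iv D15211) (iv D10463) (iv F46325) D15112
theorem F94409 : act 6 n22002 = n22002 := d31_2 F66020 D22002 (iv D22002)
theorem F94410 : act 8 n22002 = n22002 := d33_2 F66021 D22002 (iv D22002)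
def n22003 : Q := act 9 n15112
theorem D22003 : act 9 n15112 = n22003 := rfl
theorem F94411 : act 1 n22003 = n15126 := d16_1 D22003 (iv D15126) (iv F66018)
theorem F94412 : act 3 n22003 = n15113 := d29_1 D22003 (iv D15113) D15112
theorem F94413 : act 5 n22003 = n15117 := d38_1 D22003 (iv D15117) (iv F66019)
theorem F94414 : act 6 n22003 = n22003 := d41_1 D22003 (iv D22003) F66020
def n22004 : Q := act 2 n15114
theorem D22004 : act 2 n15114 = n22004 := rfl
theorem F94415 : act 7 n22004 = n15116 := d21_2 (iv F66028) D22004 (iv D15116)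
theorem F94416 : act 8 n22004 = n22004 := d22_2 F66029 D22004 (iv D22004)
def n22005 : Q := act 9 n15114
theorem D22005 : act 9 n15114 = n22005 := rfl
theorem F94417 : act 1 n22005 = n15128 := d16_1 D22005 (iv D15128) (iv F66027)
theorem F94418 : act 3 n22005 = n15115 := d29_1 D22005 (iv D15115) D15114
theorem F94419 : act 7 n22005 = n15117 := d43_1 D22005 (iv D15117) (iv F66028)
def n22006 : Q := act 1 n15116
theorem D22006 : act 1 n15116 = n22006 := rfl
theorem F94420 : act 2 n22006 = n15129 := d9_2 D15116 D22006 (iv D15129) (iv D10408) (iv F46331)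
theorem F94421 : act 6 n22006 = n15118 := d13_2 (iv F66034) D22006 (iv D15118)
theorem F94422 : act 8 n22006 = n22006 := d15_2 F66035 D22006 (iv D22006)
def n22007 : Q := act 9 n15116
theorem D22007 : act 9 n15116 = n22007 := rfl
theorem F94423 : act 2 n22007 = n15117 := d23_1 D22007 (iv D15117) D15116
theorem F94424 : act 6 n22007 = n15119 := d41_1 D22007 (iv D15119) (iv F66034)
def n22008 : Q := act 8 n15117
theorem D22008 : act 8 n15117 = n22008 := rfl
theorem F94425 : act 1 n22008 = n15131 := d15_1 D22008 (iv D15131) (iv F66036)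
theorem F94426 : act 3 n22008 = n22008 := d28_1 D22008 (iv D22008) F66037 F46337 (iv F66037)
theorem F94427 : act 6 n22008 = n15120 := d40_1 D22008 (iv D15120) (iv F66038)
theorem F94428 : act 9 n22008 = n22008 := d44_2 D15117 D22008 (iv D22008) (iv D15117) F46333
def n22009 : Q := act 0 n15118
theorem D22009 : act 0 n15118 = n22009 := rfl
theorem F94429 : act 2 n22009 = n15132 := d1_2 (iv F66039) D22009 (iv D15132)
theorem F94430 : act 5 n22009 = n22009 := d4_2 F66040 D22009 (iv D22009)
theorem F94431 : act 8 n22009 = n22009 := d7_2 F66041 D22009 (iv D22009)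
def n22010 : Q := act 9 n15118
theorem D22010 : act 9 n15118 = n22010 := rfl
theorem F94432 : act 1 n22010 = n15119 := d16_1 D22010 (iv D15119) D15118
theorem F94433 : act 2 n22010 = n15133 := d23_1 D22010 (iv D15133) (iv F66039)
theorem F94434 : act 5 n22010 = n22010 := d38_1 D22010 (iv D22010) F66040
def n22011 : Q := act 8 n15119
theorem D22011 : act 8 n15119 = n22011 := rfl
theorem F94435 : act 2 n22011 = n15120 := d22_1 D22011 (iv D15120) (iv F66042)
theorem F94436 : act 5 n22011 = n22011 := d37_1 D22011 (iv D22011) F66043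
theorem F94437 : act 9 n22011 = n22011 := d44_2 D15119 D22011 (iv D22011) (iv D15119) F46339
def n22012 : Q := act 3 n15121
theorem D22012 : act 3 n15121 = n22012 := rfl
theorem F94439 : act 6 n22012 = n15122 := d26_2 (iv F66051) D22012 (iv D15122)
def n22013 : Q := act 9 n15121
theorem D22013 : act 9 n15121 = n22013 := rfl
theorem F94442 : act 0 n22013 = n22013 := d8_1 D22013 (iv D22013) F66048
theorem F94443 : act 2 n22013 = n22013 := d23_1 D22013 (iv D22013) F66049
theorem F94444 : act 4 n22013 = n15222 := d34_1 D22013 (iv D15222) (iv F66050)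
theorem F94445 : act 6 n22013 = n15123 := d41_1 D22013 (iv D15123) (iv F66051)
theorem F94446 : act 7 n22013 = n22013 := d43_1 D22013 (iv D22013) F66052
theorem F94447 : act 8 n22013 = n22013 := d44_1 D22013 (iv D22013) (iv D15121) F46352 D15121
def n22014 : Q := act 2 n15122
theorem D22014 : act 2 n15122 = n22014 := rfl
theorem F94448 : act 0 n22014 = n22014 := d1_1 D22014 (iv D22014) F66053
theorem F94449 : act 3 n22014 = n22014 := d17_2 D15122 D22014 (iv D22014) (iv D15122) F46354
theorem F94450 : act 5 n22014 = n15127 := d19_2 (iv F66054) D22014 (iv D15127)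
theorem F94451 : act 7 n22014 = n15124 := d21_2 (iv F66055) D22014 (iv D15124)
theorem F94452 : act 8 n22014 = n22014 := d22_2 F66056 D22014 (iv D22014)
def n22015 : Q := act 4 n15122
theorem D22015 : act 4 n15122 = n22015 := rfl
theorem F94454 : act 3 n22015 = n15224 := d24_1 D22015 (iv D15224) (iv D10473) (iv F46355) D15122
theorem F94455 : act 7 n22015 = n15125 := d32_2 (iv F66055) D22015 (iv D15125)
def n22016 : Q := act 9 n15122
theorem D22016 : act 9 n15122 = n22016 := rfl
theorem F94457 : act 0 n22016 = n22016 := d8_1 D22016 (iv D22016) F66053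
theorem F94458 : act 3 n22016 = n15123 := d29_1 D22016 (iv D15123) D15122
theorem F94459 : act 5 n22016 = n15128 := d38_1 D22016 (iv D15128) (iv F66054)
theorem F94460 : act 7 n22016 = n15126 := d43_1 D22016 (iv D15126) (iv F66055)
def n22017 : Q := act 1 n15124
theorem D22017 : act 1 n15124 = n22017 := rfl
theorem F94461 : act 3 n22017 = n22017 := d10_2 F66064 D22017 (iv D22017)
theorem F94462 : act 5 n22017 = n15129 := d12_2 (iv F66065) D22017 (iv D15129)
theorem F94463 : act 6 n22017 = n22017 := d13_2 F66066 D22017 (iv D22017)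
theorem F94464 : act 8 n22017 = n22017 := d15_2 F66067 D22017 (iv D22017)
def n22018 : Q := act 4 n15124
theorem D22018 : act 4 n15124 = n22018 := rfl
theorem F94465 : act 0 n22018 = n22018 := d3_1 D22018 (iv D22018) F66063
theorem F94466 : act 2 n22018 = n15125 := d18_1 D22018 (iv D15125) D15124
theorem F94467 : act 6 n22018 = n22018 := d31_2 F66066 D22018 (iv D22018)
theorem F94468 : act 8 n22018 = n22018 := d33_2 F66067 D22018 (iv D22018)
def n22019 : Q := act 9 n15124
theorem D22019 : act 9 n15124 = n22019 := rfl
theorem F94469 : act 0 n22019 = n22019 := d8_1 D22019 (iv D22019) F66063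
theorem F94470 : act 2 n22019 = n15126 := d23_1 D22019 (iv D15126) D15124
theorem F94471 : act 3 n22019 = n22019 := d29_1 D22019 (iv D22019) F66064
theorem F94472 : act 5 n22019 = n15130 := d38_1 D22019 (iv D15130) (iv F66065)
theorem F94473 : act 6 n22019 = n22019 := d41_1 D22019 (iv D22019) F66066
def n22020 : Q := act 9 n15125
theorem D22020 : act 9 n15125 = n22020 := rfl
theorem F94474 : act 0 n22020 = n22020 := d8_1 D22020 (iv D22020) F66068
theorem F94475 : act 3 n22020 = n15229 := d29_1 D22020 (iv D15229) (iv F66069)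
theorem F94476 : act 4 n22020 = n15126 := d34_1 D22020 (iv D15126) D15125
theorem F94477 : act 6 n22020 = n22020 := d41_1 D22020 (iv D22020) F66070
def n22021 : Q := act 8 n15126
theorem D22021 : act 8 n15126 = n22021 := rfl
theorem F94478 : act 0 n22021 = n22021 := d7_1 D22021 (iv D22021) F66072
theorem F94479 : act 3 n22021 = n22021 := d28_1 D22021 (iv D22021) F66073 F46367 (iv F66073)
theorem F94480 : act 5 n22021 = n15131 := d37_1 D22021 (iv D15131) (iv F66074)
theorem F94481 : act 6 n22021 = n22021 := d40_1 D22021 (iv D22021) F66075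
theorem F94482 : act 9 n22021 = n22021 := d44_2 D15126 D22021 (iv D22021) (iv D15126) F46361
def n22022 : Q := act 1 n15127
theorem D22022 : act 1 n15127 = n22022 := rfl
theorem F94483 : act 3 n22022 = n22022 := d10_2 F66077 D22022 (iv D22022)
theorem F94484 : act 7 n22022 = n15129 := d14_2 (iv F66078) D22022 (iv D15129)
theorem F94485 : act 8 n22022 = n22022 := d15_2 F66079 D22022 (iv D22022)
def n22023 : Q := act 9 n15127
theorem D22023 : act 9 n15127 = n22023 := rfl
theorem F94486 : act 0 n22023 = n22023 := d8_1 D22023 (iv D22023) F66076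
theorem F94487 : act 2 n22023 = n15128 := d23_1 D22023 (iv D15128) D15127
theorem F94488 : act 3 n22023 = n22023 := d29_1 D22023 (iv D22023) F66077
theorem F94489 : act 7 n22023 = n15130 := d43_1 D22023 (iv D15130) (iv F66078)
def n22024 : Q := act 8 n15128
theorem D22024 : act 8 n15128 = n22024 := rfl
theorem F94490 : act 0 n22024 = n22024 := d7_1 D22024 (iv D22024) F66080
theorem F94491 : act 3 n22024 = n22024 := d28_1 D22024 (iv D22024) F66081 F46375 (iv F66081)
theorem F94492 : act 7 n22024 = n15131 := d42_1 D22024 (iv D15131) (iv F66082)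
theorem F94493 : act 9 n22024 = n22024 := d44_2 D15128 D22024 (iv D22024) (iv D15128) F46370
def n22025 : Q := act 0 n15129
theorem D22025 : act 0 n15129 = n22025 := rfl
theorem F94494 : act 1 n22025 = n22025 := d0_2 D15129 D22025 (iv D22025) (iv D15129) F46376
theorem F94495 : act 3 n22025 = n22025 := d2_2 F66083 D22025 (iv D22025)
theorem F94496 : act 6 n22025 = n15132 := d5_2 (iv F66084) D22025 (iv D15132)
theorem F94497 : act 8 n22025 = n22025 := d7_2 F66085 D22025 (iv D22025)
def n22026 : Q := act 9 n15129
theorem D22026 : act 9 n15129 = n22026 := rfl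
theorem F94498 : act 1 n22026 = n15130 := d16_1 D22026 (iv D15130) D15129
theorem F94499 : act 3 n22026 = n22026 := d29_1 D22026 (iv D22026) F66083
theorem F94500 : act 6 n22026 = n15133 := d41_1 D22026 (iv D15133) (iv F66084)
def n22027 : Q := act 8 n15130
theorem D22027 : act 8 n15130 = n22027 := rfl
theorem F94501 : act 0 n22027 = n22027 := d7_1 D22027 (iv D22027) F66086
theorem F94502 : act 2 n22027 = n15131 := d22_1 D22027 (iv D15131) (iv F66087)
theorem F94503 : act 6 n22027 = n15134 := d40_1 D22027 (iv D15134) (iv F66089)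
theorem F94504 : act 9 n22027 = n22027 := d44_2 D15130 D22027 (iv D22027) (iv D15130) F46379
def n22028 : Q := act 9 n15132
theorem D22028 : act 9 n15132 = n22028 := rfl
theorem F94505 : act 0 n22028 = n15133 := d8_1 D22028 (iv D15133) D15132
theorem F94506 : act 1 n22028 = n22028 := d16_1 D22028 (iv D22028) F66094
theorem F94507 : act 3 n22028 = n22028 := d29_1 D22028 (iv D22028) F66095
theorem F94508 : act 5 n22028 = n22028 := d38_1 D22028 (iv D22028) F66096
def n22029 : Q := act 8 n15133
theorem D22029 : act 8 n15133 = n22029 := rfl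
theorem F94509 : act 1 n22029 = n15134 := d15_1 D22029 (iv D15134) (iv F66098)
theorem F94510 : act 5 n22029 = n22029 := d37_1 D22029 (iv D22029) F66100
theorem F94511 : act 9 n22029 = n22029 := d44_2 D15133 D22029 (iv D22029) (iv D15133) F46385
def n22030 : Q := act 3 n15134
theorem D22030 : act 3 n15134 = n22030 := rfl
theorem F94512 : act 0 n22030 = n22030 := d2_1 D22030 (iv D22030) F66101
theorem F94513 : act 2 n22030 = n22030 := d17_1 D22030 (iv D22030) F66102 F46391 (iv F66102)
theorem F94514 : act 5 n22030 = n22030 := d25_2 F66103 D22030 (iv D22030)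
theorem F94515 : act 8 n22030 = n22030 := d28_2 D15134 D22030 (iv D22030) (iv D15134) F46388
theorem F94516 : act 9 n22030 = n22030 := d29_2 F66104 D22030 (iv D22030)
def n22057 : Q := act 8 n15151
theorem D22057 : act 8 n15151 = n22057 := rfl
theorem F94642 : act 0 n22057 = n15181 := d7_1 D22057 (iv D15181) (iv F66186)
theorem F94643 : act 2 n22057 = n15170 := d22_1 D22057 (iv D15170) (iv F66187)
theorem F94644 : act 5 n22057 = n15153 := d37_1 D22057 (iv D15153) (iv F66189)
def n22058 : Q := act 3 n15152
theorem D22058 : act 3 n15152 = n22058 := rfl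
theorem F94646 : act 0 n22058 = n15182 := d2_1 D22058 (iv D15182) (iv F66191)
theorem F94647 : act 5 n22058 = n15154 := d25_2 (iv F66193) D22058 (iv D15154)
theorem F94648 : act 6 n22058 = n22058 := d26_2 F66194 D22058 (iv D22058)
theorem F94649 : act 8 n22058 = n22058 := d28_2 D15152 D22058 (iv D22058) (iv D15152) F46442
def n22059 : Q := act 9 n15152
theorem D22059 : act 9 n15152 = n22059 := rfl
theorem F94650 : act 0 n22059 = n15183 := d8_1 D22059 (iv D15183) (iv F66191)
theorem F94651 : act 2 n22059 = n15172 := d23_1 D22059 (iv D15172) (iv F66192)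
theorem F94652 : act 5 n22059 = n15155 := d38_1 D22059 (iv D15155) (iv F66193)
theorem F94653 : act 6 n22059 = n22059 := d41_1 D22059 (iv D22059) F66194
theorem F94654 : act 8 n22059 = n22059 := d44_1 D22059 (iv D22059) (iv D15152) F46444 D15152
def n22060 : Q := act 3 n15153
theorem D22060 : act 3 n15153 = n22060 := rfl
theorem F94655 : act 0 n22060 = n15184 := d2_1 D22060 (iv D15184) (iv F66195)
theorem F94656 : act 6 n22060 = n22060 := d26_2 F66198 D22060 (iv D22060)
theorem F94657 : act 7 n22060 = n15154 := d27_2 (iv F66199) D22060 (iv D15154)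
theorem F94658 : act 8 n22060 = n22060 := d28_2 D15153 D22060 (iv D22060) (iv D15153) F46447
def n22061 : Q := act 9 n15153
theorem D22061 : act 9 n15153 = n22061 := rfl
theorem F94659 : act 0 n22061 = n15185 := d8_1 D22061 (iv D15185) (iv F66195)
theorem F94660 : act 2 n22061 = n15174 := d23_1 D22061 (iv D15174) (iv F66196)
theorem F94661 : act 4 n22061 = n15160 := d34_1 D22061 (iv D15160) (iv F66197)
theorem F94662 : act 6 n22061 = n22061 := d41_1 D22061 (iv D22061) F66198
theorem F94663 : act 7 n22061 = n15155 := d43_1 D22061 (iv D15155) (iv F66199)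
theorem F94664 : act 8 n22061 = n22061 := d44_1 D22061 (iv D22061) (iv D15153) F46450 D15153
def n22062 : Q := act 2 n15154
theorem D22062 : act 2 n15154 = n22062 := rfl
theorem F94665 : act 0 n22062 = n15186 := d1_1 D22062 (iv D15186) (iv F66200)
theorem F94666 : act 3 n22062 = n15175 := d17_2 D15154 D22062 (iv D15175) (iv D10438) (iv F46452)
theorem F94667 : act 6 n22062 = n15156 := d20_2 (iv F66201) D22062 (iv D15156)
theorem F94668 : act 8 n22062 = n22062 := d22_2 F66202 D22062 (iv D22062)
def n22063 : Q := act 4 n15154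
theorem D22063 : act 4 n15154 = n22063 := rfl
theorem F94670 : act 3 n22063 = n15161 := d24_1 D22063 (iv D15161) (iv D10428) (iv F46453) D15154
def n22064 : Q := act 9 n15154
theorem D22064 : act 9 n15154 = n22064 := rfl
theorem F94673 : act 0 n22064 = n15188 := d8_1 D22064 (iv D15188) (iv F66200)
theorem F94674 : act 3 n22064 = n15155 := d29_1 D22064 (iv D15155) D15154
theorem F94675 : act 6 n22064 = n15158 := d41_1 D22064 (iv D15158) (iv F66201)
def n22065 : Q := act 1 n15156
theorem D22065 : act 1 n15156 = n22065 := rfl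
theorem F94676 : act 3 n22065 = n15177 := d10_2 (iv F66209) D22065 (iv D15177)
theorem F94677 : act 5 n22065 = n22065 := d12_2 F66210 D22065 (iv D22065)
theorem F94678 : act 7 n22065 = n22065 := d14_2 F66211 D22065 (iv D22065)
theorem F94679 : act 8 n22065 = n22065 := d15_2 F66212 D22065 (iv D22065)
def n22066 : Q := act 4 n15156
theorem D22066 : act 4 n15156 = n22066 := rfl
theorem F94681 : act 2 n22066 = n15157 := d18_1 D22066 (iv D15157) D15156
def n22067 : Q := act 9 n15156
theorem D22067 : act 9 n15156 = n22067 := rfl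
theorem F94684 : act 0 n22067 = n15191 := d8_1 D22067 (iv D15191) (iv F66208)
theorem F94685 : act 2 n22067 = n15158 := d23_1 D22067 (iv D15158) D15156
theorem F94686 : act 3 n22067 = n15178 := d29_1 D22067 (iv D15178) (iv F66209)
theorem F94687 : act 5 n22067 = n22067 := d38_1 D22067 (iv D22067) F66210
theorem F94688 : act 7 n22067 = n22067 := d43_1 D22067 (iv D22067) F66211
def n22069 : Q := act 9 n15157
theorem D22069 : act 9 n15157 = n22069 := rfl
theorem F94695 : act 3 n22069 = n15164 := d29_1 D22069 (iv D15164) (iv F66214)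
theorem F94696 : act 4 n22069 = n15158 := d34_1 D22069 (iv D15158) D15157
def n22070 : Q := act 8 n15158
theorem D22070 : act 8 n15158 = n22070 := rfl
theorem F94698 : act 0 n22070 = n15194 := d7_1 D22070 (iv D15194) (iv F66217)
theorem F94699 : act 3 n22070 = n22070 := d28_1 D22070 (iv D22070) F66218 F46464 (iv F66218)
theorem F94700 : act 5 n22070 = n22070 := d37_1 D22070 (iv D22070) F66219
theorem F94701 : act 7 n22070 = n22070 := d42_1 D22070 (iv D22070) F66220
theorem F94702 : act 9 n22070 = n22070 := d44_2 D15158 D22070 (iv D22070) (iv D15158) F46458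
def n22071 : Q := act 4 n15159
theorem D22071 : act 4 n15159 = n22071 := rfl
theorem F94706 : act 8 n22071 = n16648 := d33_2 (iv F66224) D22071 (iv D16648)
def n22078 : Q := act 8 n15164
theorem D22078 : act 8 n15164 = n22078 := rfl
theorem F94730 : act 9 n22078 = n16655 := d44_2 D15164 D22078 (iv D16655) (iv D11463) (iv F46478)
def n22083 : Q := act 8 n15169
theorem D22083 : act 8 n15169 = n22083 := rfl
theorem F94747 : act 0 n22083 = n15207 := d7_1 D22083 (iv D15207) (iv F66259)
theorem F94750 : act 6 n22083 = n15170 := d40_1 D22083 (iv D15170) D15169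
def n22084 : Q := act 3 n15170
theorem D22084 : act 3 n15170 = n22084 := rfl
theorem F94752 : act 0 n22084 = n15208 := d2_1 D22084 (iv D15208) (iv F66265)
theorem F94753 : act 1 n22084 = n22084 := d10_1 D22084 (iv D22084) F66266
theorem F94754 : act 5 n22084 = n15173 := d25_2 (iv F66267) D22084 (iv D15173)
theorem F94755 : act 7 n22084 = n15171 := d27_2 (iv F66268) D22084 (iv D15171)
theorem F94756 : act 8 n22084 = n15241 := d28_2 D15170 D22084 (iv D15241) (iv D10487) (iv F46497)
def n22085 : Q := act 9 n15170
theorem D22085 : act 9 n15170 = n22085 := rfl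
theorem F94757 : act 0 n22085 = n15209 := d8_1 D22085 (iv D15209) (iv F66265)
theorem F94758 : act 1 n22085 = n22085 := d16_1 D22085 (iv D22085) F66266
theorem F94759 : act 5 n22085 = n15174 := d38_1 D22085 (iv D15174) (iv F66267)
theorem F94760 : act 7 n22085 = n15172 := d43_1 D22085 (iv D15172) (iv F66268)
theorem F94761 : act 8 n22085 = n22085 := d44_1 D22085 (iv D22085) (iv D15170) F46499 D15170
def n22086 : Q := act 2 n15171
theorem D22086 : act 2 n15171 = n22086 := rfl
theorem F94762 : act 0 n22086 = n15210 := d1_1 D22086 (iv D15210) (iv F66269)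
theorem F94763 : act 5 n22086 = n15175 := d19_2 (iv F66271) D22086 (iv D15175)
theorem F94764 : act 6 n22086 = n22086 := d20_2 F66272 D22086 (iv D22086)
theorem F94765 : act 8 n22086 = n15243 := d22_2 (iv F66273) D22086 (iv D15243)
def n22087 : Q := act 4 n15171
theorem D22087 : act 4 n15171 = n22087 := rfl
theorem F94766 : act 0 n22087 = n15211 := d3_1 D22087 (iv D15211) (iv F66269)
theorem F94767 : act 1 n22087 = n22087 := d11_1 D22087 (iv D22087) F66270
theorem F94768 : act 6 n22087 = n22087 := d31_2 F66272 D22087 (iv D22087)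
theorem F94769 : act 8 n22087 = n15244 := d33_2 (iv F66273) D22087 (iv D15244)
def n22088 : Q := act 9 n15171
theorem D22088 : act 9 n15171 = n22088 := rfl
theorem F94770 : act 0 n22088 = n15212 := d8_1 D22088 (iv D15212) (iv F66269)
theorem F94771 : act 1 n22088 = n22088 := d16_1 D22088 (iv D22088) F66270
theorem F94772 : act 3 n22088 = n15172 := d29_1 D22088 (iv D15172) D15171
theorem F94773 : act 5 n22088 = n15176 := d38_1 D22088 (iv D15176) (iv F66271)
theorem F94774 : act 6 n22088 = n22088 := d41_1 D22088 (iv D22088) F66272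
def n22089 : Q := act 2 n15173
theorem D22089 : act 2 n15173 = n22089 := rfl
theorem F94775 : act 0 n22089 = n15213 := d1_1 D22089 (iv D15213) (iv F66279)
theorem F94776 : act 6 n22089 = n22089 := d20_2 F66281 D22089 (iv D22089)
theorem F94777 : act 7 n22089 = n15175 := d21_2 (iv F66282) D22089 (iv D15175)
theorem F94778 : act 8 n22089 = n15246 := d22_2 (iv F66283) D22089 (iv D15246)
def n22090 : Q := act 9 n15173
theorem D22090 : act 9 n15173 = n22090 := rfl
theorem F94779 : act 0 n22090 = n15214 := d8_1 D22090 (iv D15214) (iv F66279)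
theorem F94780 : act 1 n22090 = n22090 := d16_1 D22090 (iv D22090) F66280
theorem F94781 : act 3 n22090 = n15174 := d29_1 D22090 (iv D15174) D15173
theorem F94782 : act 6 n22090 = n22090 := d41_1 D22090 (iv D22090) F66281
theorem F94783 : act 7 n22090 = n15176 := d43_1 D22090 (iv D15176) (iv F66282)
def n22091 : Q := act 1 n15175
theorem D22091 : act 1 n15175 = n22091 := rfl
theorem F94784 : act 2 n22091 = n22091 := d9_2 D15175 D22091 (iv D22091) (iv D15175) F46510
theorem F94785 : act 6 n22091 = n15177 := d13_2 (iv F66291) D22091 (iv D15177)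
theorem F94786 : act 8 n22091 = n15248 := d15_2 (iv F66292) D22091 (iv D15248)
def n22092 : Q := act 9 n15175
theorem D22092 : act 9 n15175 = n22092 := rfl
theorem F94787 : act 0 n22092 = n15216 := d8_1 D22092 (iv D15216) (iv F66290)
theorem F94788 : act 2 n22092 = n15176 := d23_1 D22092 (iv D15176) D15175
theorem F94789 : act 6 n22092 = n15178 := d41_1 D22092 (iv D15178) (iv F66291)
def n22093 : Q := act 8 n15176
theorem D22093 : act 8 n15176 = n22093 := rfl
theorem F94790 : act 0 n22093 = n15217 := d7_1 D22093 (iv D15217) (iv F66293)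
theorem F94791 : act 1 n22093 = n22093 := d15_1 D22093 (iv D22093) F66294
theorem F94792 : act 3 n22093 = n22093 := d28_1 D22093 (iv D22093) F66295 F46517 (iv F66295)
theorem F94793 : act 6 n22093 = n15179 := d40_1 D22093 (iv D15179) (iv F66296)
theorem F94794 : act 9 n22093 = n15250 := d44_2 D15176 D22093 (iv D15250) (iv D10493) (iv F46512)
def n22094 : Q := act 0 n15177
theorem D22094 : act 0 n15177 = n22094 := rfl
theorem F94795 : act 1 n22094 = n15218 := d0_2 D15177 D22094 (iv D15218) (iv D10469) (iv F46518)
theorem F94796 : act 2 n22094 = n22094 := d1_2 F66297 D22094 (iv D22094)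
theorem F94797 : act 5 n22094 = n22094 := d4_2 F66298 D22094 (iv D22094)
theorem F94798 : act 7 n22094 = n22094 := d6_2 F66299 D22094 (iv D22094)
theorem F94799 : act 8 n22094 = n15251 := d7_2 (iv F66300) D22094 (iv D15251)
def n22095 : Q := act 9 n15177
theorem D22095 : act 9 n15177 = n22095 := rfl
theorem F94800 : act 1 n22095 = n15178 := d16_1 D22095 (iv D15178) D15177
theorem F94801 : act 2 n22095 = n22095 := d23_1 D22095 (iv D22095) F66297
theorem F94802 : act 5 n22095 = n22095 := d38_1 D22095 (iv D22095) F66298
theorem F94803 : act 7 n22095 = n22095 := d43_1 D22095 (iv D22095) F66299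
def n22096 : Q := act 8 n15178
theorem D22096 : act 8 n15178 = n22096 := rfl
theorem F94804 : act 0 n22096 = n15220 := d7_1 D22096 (iv D15220) (iv F66301)
theorem F94805 : act 2 n22096 = n15179 := d22_1 D22096 (iv D15179) (iv F66302)
theorem F94806 : act 5 n22096 = n22096 := d37_1 D22096 (iv D22096) F66303
theorem F94807 : act 7 n22096 = n22096 := d42_1 D22096 (iv D22096) F66304
theorem F94808 : act 9 n22096 = n15253 := d44_2 D15178 D22096 (iv D15253) (iv D10495) (iv F46521)
def n22097 : Q := act 8 n15180
theorem D22097 : act 8 n15180 = n22097 := rfl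
theorem F94810 : act 2 n22097 = n15207 := d22_1 D22097 (iv D15207) (iv F66312)
theorem F94812 : act 6 n22097 = n15181 := d40_1 D22097 (iv D15181) D15180
def n22098 : Q := act 3 n15181
theorem D22098 : act 3 n15181 = n22098 := rfl
theorem F94814 : act 1 n22098 = n22098 := d10_1 D22098 (iv D22098) F66317
theorem F94815 : act 5 n22098 = n15184 := d25_2 (iv F66319) D22098 (iv D15184)
theorem F94816 : act 7 n22098 = n15182 := d27_2 (iv F66320) D22098 (iv D15182)
theorem F94817 : act 8 n22098 = n22098 := d28_2 D15181 D22098 (iv D22098) (iv D15181) F46534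
def n22099 : Q := act 9 n15181
theorem D22099 : act 9 n15181 = n22099 := rfl
theorem F94818 : act 1 n22099 = n22099 := d16_1 D22099 (iv D22099) F66317
theorem F94819 : act 2 n22099 = n15209 := d23_1 D22099 (iv D15209) (iv F66318)
theorem F94820 : act 5 n22099 = n15185 := d38_1 D22099 (iv D15185) (iv F66319)
theorem F94821 : act 7 n22099 = n15183 := d43_1 D22099 (iv D15183) (iv F66320)
theorem F94822 : act 8 n22099 = n22099 := d44_1 D22099 (iv D22099) (iv D15181) F46536 D15181
def n22100 : Q := act 2 n15182
theorem D22100 : act 2 n15182 = n22100 := rfl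
theorem F94823 : act 3 n22100 = n15210 := d17_2 D15182 D22100 (iv D15210) (iv D10463) (iv F46538)
theorem F94824 : act 5 n22100 = n15186 := d19_2 (iv F66322) D22100 (iv D15186)
theorem F94825 : act 6 n22100 = n22100 := d20_2 F66323 D22100 (iv D22100)
theorem F94826 : act 8 n22100 = n22100 := d22_2 F66324 D22100 (iv D22100)
def n22101 : Q := act 4 n15182
theorem D22101 : act 4 n15182 = n22101 := rfl
theorem F94827 : act 1 n22101 = n22101 := d11_1 D22101 (iv D22101) F66321
theorem F94828 : act 6 n22101 = n22101 := d31_2 F66323 D22101 (iv D22101)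
theorem F94829 : act 8 n22101 = n22101 := d33_2 F66324 D22101 (iv D22101)
def n22102 : Q := act 9 n15182
theorem D22102 : act 9 n15182 = n22102 := rfl
theorem F94830 : act 1 n22102 = n22102 := d16_1 D22102 (iv D22102) F66321
theorem F94831 : act 3 n22102 = n15183 := d29_1 D22102 (iv D15183) D15182
theorem F94832 : act 5 n22102 = n15188 := d38_1 D22102 (iv D15188) (iv F66322)
theorem F94833 : act 6 n22102 = n22102 := d41_1 D22102 (iv D22102) F66323
def n22103 : Q := act 2 n15184
theorem D22103 : act 2 n15184 = n22103 := rfl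
theorem F94834 : act 3 n22103 = n15213 := d17_2 D15184 D22103 (iv D15213) (iv D10465) (iv F46542)
theorem F94835 : act 6 n22103 = n22103 := d20_2 F66331 D22103 (iv D22103)
theorem F94836 : act 7 n22103 = n15186 := d21_2 (iv F66332) D22103 (iv D15186)
theorem F94837 : act 8 n22103 = n22103 := d22_2 F66333 D22103 (iv D22103)
def n22104 : Q := act 4 n15184
theorem D22104 : act 4 n15184 = n22104 := rfl
theorem F94838 : act 1 n22104 = n22104 := d11_1 D22104 (iv D22104) F66330
theorem F94839 : act 3 n22104 = n15195 := d24_1 D22104 (iv D15195) (iv D10451) (iv F46543) D15184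
theorem F94840 : act 6 n22104 = n22104 := d31_2 F66331 D22104 (iv D22104)
theorem F94841 : act 7 n22104 = n15187 := d32_2 (iv F66332) D22104 (iv D15187)
theorem F94842 : act 8 n22104 = n22104 := d33_2 F66333 D22104 (iv D22104)
def n22105 : Q := act 9 n15184
theorem D22105 : act 9 n15184 = n22105 := rfl
theorem F94843 : act 1 n22105 = n22105 := d16_1 D22105 (iv D22105) F66330
theorem F94844 : act 3 n22105 = n15185 := d29_1 D22105 (iv D15185) D15184
theorem F94845 : act 6 n22105 = n22105 := d41_1 D22105 (iv D22105) F66331
theorem F94846 : act 7 n22105 = n15188 := d43_1 D22105 (iv D15188) (iv F66332)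
def n22106 : Q := act 1 n15186
theorem D22106 : act 1 n15186 = n22106 := rfl
theorem F94847 : act 2 n22106 = n22106 := d9_2 D15186 D22106 (iv D22106) (iv D15186) F46546
theorem F94848 : act 3 n22106 = n15215 := d10_2 (iv F66340) D22106 (iv D15215)
theorem F94849 : act 6 n22106 = n15189 := d13_2 (iv F66341) D22106 (iv D15189)
theorem F94850 : act 8 n22106 = n22106 := d15_2 F66342 D22106 (iv D22106)
def n22107 : Q := act 4 n15186
theorem D22107 : act 4 n15186 = n22107 := rfl
theorem F94851 : act 2 n22107 = n15187 := d18_1 D22107 (iv D15187) D15186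
theorem F94852 : act 6 n22107 = n15190 := d31_2 (iv F66341) D22107 (iv D15190)
theorem F94853 : act 8 n22107 = n22107 := d33_2 F66342 D22107 (iv D22107)
def n22108 : Q := act 9 n15186
theorem D22108 : act 9 n15186 = n22108 := rfl
theorem F94854 : act 2 n22108 = n15188 := d23_1 D22108 (iv D15188) D15186
theorem F94855 : act 3 n22108 = n15216 := d29_1 D22108 (iv D15216) (iv F66340)
theorem F94856 : act 6 n22108 = n15191 := d41_1 D22108 (iv D15191) (iv F66341)
def n22109 : Q := act 5 n15187
theorem D22109 : act 5 n15187 = n22109 := rfl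
theorem F94857 : act 1 n22109 = n22109 := d12_1 D22109 (iv D22109) F66343
theorem F94858 : act 3 n22109 = n15197 := d25_1 D22109 (iv D15197) (iv F66344)
theorem F94859 : act 8 n22109 = n22109 := d37_2 F66346 D22109 (iv D22109)
def n22110 : Q := act 9 n15187
theorem D22110 : act 9 n15187 = n22110 := rfl
theorem F94860 : act 1 n22110 = n22110 := d16_1 D22110 (iv D22110) F66343
theorem F94861 : act 3 n22110 = n15198 := d29_1 D22110 (iv D15198) (iv F66344)
theorem F94862 : act 4 n22110 = n15188 := d34_1 D22110 (iv D15188) D15187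
theorem F94863 : act 6 n22110 = n15193 := d41_1 D22110 (iv D15193) (iv F66345)
def n22111 : Q := act 8 n15188
theorem D22111 : act 8 n15188 = n22111 := rfl
theorem F94864 : act 1 n22111 = n22111 := d15_1 D22111 (iv D22111) F66347
theorem F94865 : act 3 n22111 = n22111 := d28_1 D22111 (iv D22111) F66348 F46553 (iv F66348)
theorem F94866 : act 6 n22111 = n15194 := d40_1 D22111 (iv D15194) (iv F66349)
theorem F94867 : act 9 n22111 = n22111 := d44_2 D15188 D22111 (iv D22111) (iv D15188) F46548
def n22112 : Q := act 0 n15189
theorem D22112 : act 0 n15189 = n22112 := rfl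
theorem F94868 : act 2 n22112 = n22112 := d1_2 F66350 D22112 (iv D22112)
theorem F94869 : act 3 n22112 = n15218 := d2_2 (iv F66351) D22112 (iv D15218)
theorem F94870 : act 5 n22112 = n22112 := d4_2 F66352 D22112 (iv D22112)
theorem F94871 : act 7 n22112 = n22112 := d6_2 F66353 D22112 (iv D22112)
theorem F94872 : act 8 n22112 = n22112 := d7_2 F66354 D22112 (iv D22112)
def n22113 : Q := act 4 n15189
theorem D22113 : act 4 n15189 = n22113 := rfl
theorem F94873 : act 1 n22113 = n15190 := d11_1 D22113 (iv D15190) D15189
theorem F94874 : act 2 n22113 = n22113 := d18_1 D22113 (iv D22113) F66350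
theorem F94875 : act 7 n22113 = n22113 := d32_2 F66353 D22113 (iv D22113)
theorem F94876 : act 8 n22113 = n22113 := d33_2 F66354 D22113 (iv D22113)
def n22114 : Q := act 9 n15189
theorem D22114 : act 9 n15189 = n22114 := rfl
theorem F94877 : act 1 n22114 = n15191 := d16_1 D22114 (iv D15191) D15189
theorem F94878 : act 2 n22114 = n22114 := d23_1 D22114 (iv D22114) F66350
theorem F94879 : act 3 n22114 = n15219 := d29_1 D22114 (iv D15219) (iv F66351)
theorem F94880 : act 5 n22114 = n22114 := d38_1 D22114 (iv D22114) F66352
theorem F94881 : act 7 n22114 = n22114 := d43_1 D22114 (iv D22114) F66353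
def n22115 : Q := act 5 n15190
theorem D22115 : act 5 n15190 = n22115 := rfl
theorem F94882 : act 2 n22115 = n15192 := d19_1 D22115 (iv D15192) (iv F66355)
theorem F94883 : act 4 n22115 = n22115 := d30_1 D22115 (iv D22115) (iv D15190) F46555 D15190
theorem F94884 : act 7 n22115 = n22115 := d36_2 F66356 D22115 (iv D22115)
theorem F94885 : act 8 n22115 = n22115 := d37_2 F66357 D22115 (iv D22115)
def n22116 : Q := act 9 n15190
theorem D22116 : act 9 n15190 = n22116 := rfl
theorem F94886 : act 2 n22116 = n15193 := d23_1 D22116 (iv D15193) (iv F66355)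
theorem F94887 : act 4 n22116 = n15191 := d34_1 D22116 (iv D15191) D15190
theorem F94888 : act 7 n22116 = n22116 := d43_1 D22116 (iv D22116) F66356
def n22117 : Q := act 8 n15191
theorem D22117 : act 8 n15191 = n22117 := rfl
theorem F94889 : act 2 n22117 = n15194 := d22_1 D22117 (iv D15194) (iv F66358)
theorem F94890 : act 5 n22117 = n22117 := d37_1 D22117 (iv D22117) F66360
theorem F94891 : act 7 n22117 = n22117 := d42_1 D22117 (iv D22117) F66361
theorem F94892 : act 9 n22117 = n22117 := d44_2 D15191 D22117 (iv D22117) (iv D15191) F46557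
def n22118 : Q := act 6 n15192
theorem D22118 : act 6 n15192 = n22118 := rfl
theorem F94893 : act 1 n22118 = n22118 := d13_1 D22118 (iv D22118) F66362
theorem F94894 : act 3 n22118 = n15200 := d26_1 D22118 (iv D15200) (iv F66363)
theorem F94895 : act 4 n22118 = n22118 := d31_1 D22118 (iv D22118) F66364
theorem F94896 : act 8 n22118 = n22118 := d40_2 F66366 D22118 (iv D22118)
def n22119 : Q := act 9 n15192
theorem D22119 : act 9 n15192 = n22119 := rfl
theorem F94897 : act 1 n22119 = n22119 := d16_1 D22119 (iv D22119) F66362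
theorem F94898 : act 3 n22119 = n15201 := d29_1 D22119 (iv D15201) (iv F66363)
theorem F94899 : act 4 n22119 = n22119 := d34_1 D22119 (iv D22119) F66364
theorem F94900 : act 5 n22119 = n15193 := d38_1 D22119 (iv D15193) D15192
theorem F94901 : act 7 n22119 = n22119 := d43_1 D22119 (iv D22119) F66365
def n22120 : Q := act 8 n15193
theorem D22120 : act 8 n15193 = n22120 := rfl
theorem F94902 : act 1 n22120 = n22120 := d15_1 D22120 (iv D22120) F66367
theorem F94903 : act 4 n22120 = n15194 := d33_1 D22120 (iv D15194) (iv F66369)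
theorem F94904 : act 7 n22120 = n22120 := d42_1 D22120 (iv D22120) F66370
theorem F94905 : act 9 n22120 = n22120 := d44_2 D15193 D22120 (iv D22120) (iv D15193) F46561
def n22121 : Q := act 5 n15195
theorem D22121 : act 5 n15195 = n22121 := rfl
theorem F94906 : act 1 n22121 = n22121 := d12_1 D22121 (iv D22121) F66376
theorem F94907 : act 7 n22121 = n15197 := d36_2 (iv F66378) D22121 (iv D15197)
theorem F94908 : act 8 n22121 = n16660 := d37_2 (iv F66379) D22121 (iv D16660)
def n22122 : Q := act 9 n15195
theorem D22122 : act 9 n15195 = n22122 := rfl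
theorem F94909 : act 1 n22122 = n22122 := d16_1 D22122 (iv D22122) F66376
theorem F94910 : act 4 n22122 = n15196 := d34_1 D22122 (iv D15196) D15195
theorem F94911 : act 6 n22122 = n22122 := d41_1 D22122 (iv D22122) F66377
theorem F94912 : act 7 n22122 = n15198 := d43_1 D22122 (iv D15198) (iv F66378)
def n22124 : Q := act 6 n15197
theorem D22124 : act 6 n15197 = n22124 := rfl
theorem F94918 : act 1 n22124 = n22124 := d13_1 D22124 (iv D22124) F66384
theorem F94919 : act 5 n22124 = n15200 := d35_1 D22124 (iv D15200) (iv D10455) (iv F46576) D15197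
theorem F94920 : act 8 n22124 = n16663 := d40_2 (iv F66385) D22124 (iv D16663)
def n22125 : Q := act 9 n15197
theorem D22125 : act 9 n15197 = n22125 := rfl
theorem F94921 : act 1 n22125 = n22125 := d16_1 D22125 (iv D22125) F66384
theorem F94922 : act 5 n22125 = n15198 := d38_1 D22125 (iv D15198) D15197
def n22127 : Q := act 7 n15200
theorem D22127 : act 7 n15200 = n22127 := rfl
theorem F94927 : act 1 n22127 = n22127 := d14_1 D22127 (iv D22127) F66393
theorem F94928 : act 4 n22127 = n15203 := d32_1 D22127 (iv D15203) (iv F66394)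
theorem F94929 : act 6 n22127 = n22127 := d39_1 D22127 (iv D22127) (iv D15200) F46583 D15200
theorem F94930 : act 8 n22127 = n16666 := d42_2 (iv F66395) D22127 (iv D16666)
def n22128 : Q := act 9 n15200
theorem D22128 : act 9 n15200 = n22128 := rfl
theorem F94931 : act 1 n22128 = n22128 := d16_1 D22128 (iv D22128) F66393
theorem F94932 : act 4 n22128 = n15204 := d34_1 D22128 (iv D15204) (iv F66394)
theorem F94933 : act 6 n22128 = n15201 := d41_1 D22128 (iv D15201) D15200
def n22131 : Q := act 9 n15203
theorem D22131 : act 9 n15203 = n22131 := rfl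
theorem F94943 : act 1 n22131 = n22131 := d16_1 D22131 (iv D22131) F66404
theorem F94944 : act 3 n22131 = n22131 := d29_1 D22131 (iv D22131) F66405
theorem F94945 : act 6 n22131 = n22131 := d41_1 D22131 (iv D22131) F66406
theorem F94946 : act 7 n22131 = n15204 := d43_1 D22131 (iv D15204) D15203
def n22133 : Q := act 3 n15205
theorem D22133 : act 3 n15205 = n22133 := rfl
theorem F94954 : act 9 n22133 = n16672 := d29_2 (iv F66414) D22133 (iv D16672)
def n22135 : Q := act 3 n15207
theorem D22135 : act 3 n15207 = n22135 := rfl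
theorem F94961 : act 6 n22135 = n15208 := d26_2 (iv F66422) D22135 (iv D15208)
theorem F94963 : act 8 n22135 = n15254 := d28_2 D15207 D22135 (iv D15254) (iv D10497) (iv F46605)
def n22136 : Q := act 9 n15207
theorem D22136 : act 9 n15207 = n22136 := rfl
theorem F94964 : act 1 n22136 = n15222 := d16_1 D22136 (iv D15222) (iv F66420)
theorem F94965 : act 5 n22136 = n22136 := d38_1 D22136 (iv D22136) F66421
theorem F94966 : act 6 n22136 = n15209 := d41_1 D22136 (iv D15209) (iv F66422)
theorem F94967 : act 7 n22136 = n22136 := d43_1 D22136 (iv D22136) F66423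
theorem F94968 : act 8 n22136 = n22136 := d44_1 D22136 (iv D22136) (iv D15207) F46608 D15207
def n22137 : Q := act 2 n15208
theorem D22137 : act 2 n15208 = n22137 := rfl
theorem F94969 : act 5 n22137 = n15213 := d19_2 (iv F66425) D22137 (iv D15213)
theorem F94970 : act 7 n22137 = n15210 := d21_2 (iv F66426) D22137 (iv D15210)
theorem F94971 : act 8 n22137 = n15256 := d22_2 (iv F66427) D22137 (iv D15256)
def n22138 : Q := act 4 n15208
theorem D22138 : act 4 n15208 = n22138 := rfl
theorem F94973 : act 7 n22138 = n15211 := d32_2 (iv F66426) D22138 (iv D15211)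
theorem F94974 : act 8 n22138 = n15257 := d33_2 (iv F66427) D22138 (iv D15257)
def n22139 : Q := act 9 n15208
theorem D22139 : act 9 n15208 = n22139 := rfl
theorem F94975 : act 1 n22139 = n15225 := d16_1 D22139 (iv D15225) (iv F66424)
theorem F94976 : act 3 n22139 = n15209 := d29_1 D22139 (iv D15209) D15208
theorem F94977 : act 5 n22139 = n15214 := d38_1 D22139 (iv D15214) (iv F66425)
theorem F94978 : act 7 n22139 = n15212 := d43_1 D22139 (iv D15212) (iv F66426)
def n22140 : Q := act 1 n15210
theorem D22140 : act 1 n15210 = n22140 := rfl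
theorem F94979 : act 2 n22140 = n15226 := d9_2 D15210 D22140 (iv D15226) (iv D10475) (iv F46612)
theorem F94980 : act 5 n22140 = n15215 := d12_2 (iv F66432) D22140 (iv D15215)
theorem F94981 : act 6 n22140 = n22140 := d13_2 F66433 D22140 (iv D22140)
theorem F94982 : act 8 n22140 = n15259 := d15_2 (iv F66434) D22140 (iv D15259)
def n22141 : Q := act 4 n15210
theorem D22141 : act 4 n15210 = n22141 := rfl
theorem F94983 : act 2 n22141 = n15211 := d18_1 D22141 (iv D15211) D15210
theorem F94984 : act 6 n22141 = n22141 := d31_2 F66433 D22141 (iv D22141)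
theorem F94985 : act 8 n22141 = n15260 := d33_2 (iv F66434) D22141 (iv D15260)
def n22142 : Q := act 9 n15210
theorem D22142 : act 9 n15210 = n22142 := rfl
theorem F94986 : act 2 n22142 = n15212 := d23_1 D22142 (iv D15212) D15210
theorem F94987 : act 5 n22142 = n15216 := d38_1 D22142 (iv D15216) (iv F66432)
theorem F94988 : act 6 n22142 = n22142 := d41_1 D22142 (iv D22142) F66433
def n22143 : Q := act 9 n15211
theorem D22143 : act 9 n15211 = n22143 := rfl
theorem F94989 : act 1 n22143 = n15229 := d16_1 D22143 (iv D15229) (iv F66435)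
theorem F94990 : act 4 n22143 = n15212 := d34_1 D22143 (iv D15212) D15211
theorem F94991 : act 6 n22143 = n22143 := d41_1 D22143 (iv D22143) F66436
def n22144 : Q := act 8 n15212
theorem D22144 : act 8 n15212 = n22144 := rfl
theorem F94992 : act 1 n22144 = n15230 := d15_1 D22144 (iv D15230) (iv F66438)
theorem F94993 : act 3 n22144 = n22144 := d28_1 D22144 (iv D22144) F66439 F46619 (iv F66439)
theorem F94994 : act 5 n22144 = n15217 := d37_1 D22144 (iv D15217) (iv F66440)
theorem F94995 : act 6 n22144 = n22144 := d40_1 D22144 (iv D22144) F66441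
theorem F94996 : act 9 n22144 = n15263 := d44_2 D15212 D22144 (iv D15263) (iv D10502) (iv F46615)
def n22145 : Q := act 1 n15213
theorem D22145 : act 1 n15213 = n22145 := rfl
theorem F94997 : act 2 n22145 = n15231 := d9_2 D15213 D22145 (iv D15231) (iv D10478) (iv F46620)
theorem F94998 : act 6 n22145 = n22145 := d13_2 F66442 D22145 (iv D22145)
theorem F94999 : act 7 n22145 = n15215 := d14_2 (iv F66443) D22145 (iv D15215)
theorem F95000 : act 8 n22145 = n15264 := d15_2 (iv F66444) D22145 (iv D15264)
def n22146 : Q := act 9 n15213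
theorem D22146 : act 9 n15213 = n22146 := rfl
theorem F95001 : act 2 n22146 = n15214 := d23_1 D22146 (iv D15214) D15213
theorem F95002 : act 6 n22146 = n22146 := d41_1 D22146 (iv D22146) F66442
theorem F95003 : act 7 n22146 = n15216 := d43_1 D22146 (iv D15216) (iv F66443)
def n22147 : Q := act 8 n15214
theorem D22147 : act 8 n15214 = n22147 := rfl
theorem F95004 : act 1 n22147 = n15233 := d15_1 D22147 (iv D15233) (iv F66445)
theorem F95005 : act 3 n22147 = n22147 := d28_1 D22147 (iv D22147) F66446 F46628 (iv F66446)
theorem F95006 : act 6 n22147 = n22147 := d40_1 D22147 (iv D22147) F66447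
theorem F95007 : act 7 n22147 = n15217 := d42_1 D22147 (iv D15217) (iv F66448)
theorem F95008 : act 9 n22147 = n15266 := d44_2 D15214 D22147 (iv D15266) (iv D10504) (iv F46623)
def n22148 : Q := act 0 n15215
theorem D22148 : act 0 n15215 = n22148 := rfl
theorem F95009 : act 2 n22148 = n15234 := d1_2 (iv F66449) D22148 (iv D15234)
theorem F95010 : act 6 n22148 = n15218 := d5_2 (iv F66450) D22148 (iv D15218)
theorem F95011 : act 8 n22148 = n15267 := d7_2 (iv F66451) D22148 (iv D15267)
def n22149 : Q := act 9 n15215
theorem D22149 : act 9 n15215 = n22149 := rfl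
theorem F95012 : act 1 n22149 = n15216 := d16_1 D22149 (iv D15216) D15215
theorem F95013 : act 2 n22149 = n15235 := d23_1 D22149 (iv D15235) (iv F66449)
theorem F95014 : act 6 n22149 = n15219 := d41_1 D22149 (iv D15219) (iv F66450)
def n22150 : Q := act 8 n15216
theorem D22150 : act 8 n15216 = n22150 := rfl
theorem F95015 : act 2 n22150 = n15217 := d22_1 D22150 (iv D15217) (iv F66452)
theorem F95016 : act 6 n22150 = n15220 := d40_1 D22150 (iv D15220) (iv F66453)
theorem F95017 : act 9 n22150 = n15269 := d44_2 D15216 D22150 (iv D15269) (iv D10506) (iv F46630)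
def n22151 : Q := act 9 n15218
theorem D22151 : act 9 n15218 = n22151 := rfl
theorem F95018 : act 0 n22151 = n15219 := d8_1 D22151 (iv D15219) D15218
theorem F95019 : act 2 n22151 = n15237 := d23_1 D22151 (iv D15237) (iv F66458)
theorem F95020 : act 5 n22151 = n22151 := d38_1 D22151 (iv D22151) F66459
theorem F95021 : act 7 n22151 = n22151 := d43_1 D22151 (iv D22151) F66460
def n22152 : Q := act 8 n15219
theorem D22152 : act 8 n15219 = n22152 := rfl
theorem F95022 : act 1 n22152 = n15220 := d15_1 D22152 (iv D15220) (iv F66462)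
theorem F95023 : act 2 n22152 = n15238 := d22_1 D22152 (iv D15238) (iv F66463)
theorem F95024 : act 5 n22152 = n22152 := d37_1 D22152 (iv D22152) F66464
theorem F95025 : act 7 n22152 = n22152 := d42_1 D22152 (iv D22152) F66465
theorem F95026 : act 9 n22152 = n15271 := d44_2 D15219 D22152 (iv D15271) (iv D10509) (iv F46637)
def n22153 : Q := act 3 n15220
theorem D22153 : act 3 n15220 = n22153 := rfl
theorem F95027 : act 2 n22153 = n22153 := d17_1 D22153 (iv D22153) F66466 F46642 (iv F66466)
theorem F95028 : act 5 n22153 = n22153 := d25_2 F66467 D22153 (iv D22153)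
theorem F95029 : act 7 n22153 = n22153 := d27_2 F66468 D22153 (iv D22153)
theorem F95030 : act 9 n22153 = n15272 := d29_2 (iv F66469) D22153 (iv D15272)
def n22155 : Q := act 4 n15221
theorem D22155 : act 4 n15221 = n22155 := rfl
theorem F95040 : act 8 n22155 = n15274 := d33_2 (iv F66474) D22155 (iv D15274)
def n22156 : Q := act 9 n15221
theorem D22156 : act 9 n15221 = n22156 := rfl
theorem F95044 : act 6 n22156 = n15225 := d41_1 D22156 (iv D15225) (iv F66472)
def n22157 : Q := act 1 n15223
theorem D22157 : act 1 n15223 = n22157 := rfl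
theorem F95047 : act 5 n22157 = n15231 := d12_2 (iv F66483) D22157 (iv D15231)
theorem F95049 : act 8 n22157 = n15276 := d15_2 (iv F66485) D22157 (iv D15276)
def n22160 : Q := act 9 n15224
theorem D22160 : act 9 n15224 = n22160 := rfl
theorem F95061 : act 7 n22160 = n15229 := d43_1 D22160 (iv D15229) (iv F66487)
def n22161 : Q := act 8 n15225
theorem D22161 : act 8 n15225 = n22161 := rfl
theorem F95065 : act 7 n22161 = n15230 := d42_1 D22161 (iv D15230) (iv F66492)
theorem F95066 : act 9 n22161 = n15280 := d44_2 D15225 D22161 (iv D15280) (iv D10515) (iv F46654)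
def n22162 : Q := act 0 n15226
theorem D22162 : act 0 n15226 = n22162 := rfl
theorem F95067 : act 1 n22162 = n22162 := d0_2 D15226 D22162 (iv D22162) (iv D15226) F46660
theorem F95068 : act 3 n22162 = n22162 := d2_2 F66493 D22162 (iv D22162)
theorem F95069 : act 5 n22162 = n15234 := d4_2 (iv F66494) D22162 (iv D15234)
theorem F95070 : act 6 n22162 = n22162 := d5_2 F66495 D22162 (iv D22162)
theorem F95071 : act 8 n22162 = n15281 := d7_2 (iv F66496) D22162 (iv D15281)
def n22163 : Q := act 4 n15226
theorem D22163 : act 4 n15226 = n22163 := rfl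
theorem F95074 : act 8 n22163 = n15282 := d33_2 (iv F66496) D22163 (iv D15282)
def n22164 : Q := act 9 n15226
theorem D22164 : act 9 n15226 = n22164 := rfl
theorem F95077 : act 5 n22164 = n15235 := d38_1 D22164 (iv D15235) (iv F66494)
def n22165 : Q := act 3 n15227
theorem D22165 : act 3 n15227 = n22165 := rfl
def n22166 : Q := act 9 n15227
theorem D22166 : act 9 n15227 = n22166 := rfl
theorem F95083 : act 2 n22166 = n15229 := d23_1 D22166 (iv D15229) (iv F66498)
def n22167 : Q := act 8 n15228
theorem D22167 : act 8 n15228 = n22167 := rfl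
theorem F95087 : act 2 n22167 = n15230 := d22_1 D22167 (iv D15230) (iv F66502)
theorem F95090 : act 9 n22167 = n15286 := d44_2 D15228 D22167 (iv D15286) (iv D10518) (iv F46664)
def n22168 : Q := act 8 n15229
theorem D22168 : act 8 n15229 = n22168 := rfl
theorem F95094 : act 9 n22168 = n15287 := d44_2 D15229 D22168 (iv D15287) (iv D10519) (iv F46667)
def n22169 : Q := act 0 n15231
theorem D22169 : act 0 n15231 = n22169 := rfl
theorem F95095 : act 1 n22169 = n22169 := d0_2 D15231 D22169 (iv D22169) (iv D15231) F46672
theorem F95096 : act 3 n22169 = n22169 := d2_2 F66514 D22169 (iv D22169)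
theorem F95097 : act 6 n22169 = n22169 := d5_2 F66515 D22169 (iv D22169)
theorem F95098 : act 7 n22169 = n15234 := d6_2 (iv F66516) D22169 (iv D15234)
theorem F95099 : act 8 n22169 = n15288 := d7_2 (iv F66517) D22169 (iv D15288)
def n22170 : Q := act 9 n15231
theorem D22170 : act 9 n15231 = n22170 := rfl
def n22172 : Q := act 9 n15234
theorem D22172 : act 9 n15234 = n22172 := rfl
theorem F95109 : act 0 n22172 = n15235 := d8_1 D22172 (iv D15235) D15234
theorem F95110 : act 1 n22172 = n22172 := d16_1 D22172 (iv D22172) F66528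
theorem F95111 : act 3 n22172 = n22172 := d29_1 D22172 (iv D22172) F66529
theorem F95112 : act 6 n22172 = n15237 := d41_1 D22172 (iv D15237) (iv F66530)
def n22173 : Q := act 8 n15235
theorem D22173 : act 8 n15235 = n22173 := rfl
def n22175 : Q := act 8 n15237
theorem D22175 : act 8 n15237 = n22175 := rfl
theorem F95121 : act 0 n22175 = n15238 := d7_1 D22175 (iv D15238) (iv F66539)
theorem F95122 : act 1 n22175 = n22175 := d15_1 D22175 (iv D22175) F66540
theorem F95123 : act 5 n22175 = n22175 := d37_1 D22175 (iv D22175) F66542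
theorem F95124 : act 7 n22175 = n22175 := d42_1 D22175 (iv D22175) F66543
theorem F95125 : act 9 n22175 = n15294 := d44_2 D15237 D22175 (iv D15294) (iv D10527) (iv F46696)
def n22176 : Q := act 3 n15238
theorem D22176 : act 3 n15238 = n22176 := rfl
theorem F95130 : act 9 n22176 = n15295 := d29_2 (iv F66547) D22176 (iv D15295)
def n22177 : Q := act 4 n15239
theorem D22177 : act 4 n15239 = n22177 := rfl
theorem F95135 : act 9 n22177 = n15296 := d34_2 (iv F66553) D22177 (iv D15296)
def n22178 : Q := act 3 n15240
theorem D22178 : act 3 n15240 = n22178 := rfl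
theorem F95139 : act 6 n22178 = n15241 := d26_2 (iv F66559) D22178 (iv D15241)
def n22179 : Q := act 9 n15240
theorem D22179 : act 9 n15240 = n22179 := rfl
theorem F95146 : act 6 n22179 = n15242 := d41_1 D22179 (iv D15242) (iv F66559)
def n22180 : Q := act 2 n15241
theorem D22180 : act 2 n15241 = n22180 := rfl
theorem F95149 : act 0 n22180 = n15256 := d1_1 D22180 (iv D15256) (iv F66561)
theorem F95150 : act 3 n22180 = n22180 := d17_2 D15241 D22180 (iv D22180) (iv D15241) F46715
theorem F95151 : act 5 n22180 = n15246 := d19_2 (iv F66563) D22180 (iv D15246)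
theorem F95152 : act 7 n22180 = n15243 := d21_2 (iv F66564) D22180 (iv D15243)
def n22181 : Q := act 4 n15241
theorem D22181 : act 4 n15241 = n22181 := rfl
theorem F95156 : act 7 n22181 = n15244 := d32_2 (iv F66564) D22181 (iv D15244)
def n22182 : Q := act 9 n15241
theorem D22182 : act 9 n15241 = n22182 := rfl
theorem F95161 : act 7 n22182 = n15245 := d43_1 D22182 (iv D15245) (iv F66564)
def n22183 : Q := act 1 n15243
theorem D22183 : act 1 n15243 = n22183 := rfl
theorem F95162 : act 2 n22183 = n22183 := d9_2 D15243 D22183 (iv D22183) (iv D15243) F46720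
theorem F95163 : act 3 n22183 = n22183 := d10_2 F66573 D22183 (iv D22183)
theorem F95164 : act 5 n22183 = n15248 := d12_2 (iv F66574) D22183 (iv D15248)
theorem F95165 : act 6 n22183 = n22183 := d13_2 F66575 D22183 (iv D22183)
def n22184 : Q := act 4 n15243
theorem D22184 : act 4 n15243 = n22184 := rfl
theorem F95166 : act 0 n22184 = n15260 := d3_1 D22184 (iv D15260) (iv F66572)
theorem F95167 : act 2 n22184 = n15244 := d18_1 D22184 (iv D15244) D15243
theorem F95168 : act 6 n22184 = n22184 := d31_2 F66575 D22184 (iv D22184)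
def n22185 : Q := act 9 n15243
theorem D22185 : act 9 n15243 = n22185 := rfl
theorem F95169 : act 0 n22185 = n15261 := d8_1 D22185 (iv D15261) (iv F66572)
theorem F95170 : act 2 n22185 = n15245 := d23_1 D22185 (iv D15245) D15243
theorem F95171 : act 3 n22185 = n22185 := d29_1 D22185 (iv D22185) F66573
theorem F95172 : act 5 n22185 = n15249 := d38_1 D22185 (iv D15249) (iv F66574)
theorem F95173 : act 6 n22185 = n22185 := d41_1 D22185 (iv D22185) F66575
def n22186 : Q := act 9 n15244
theorem D22186 : act 9 n15244 = n22186 := rfl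
theorem F95177 : act 4 n22186 = n15245 := d34_1 D22186 (iv D15245) D15244
def n22187 : Q := act 8 n15245
theorem D22187 : act 8 n15245 = n22187 := rfl
def n22188 : Q := act 1 n15246
theorem D22188 : act 1 n15246 = n22188 := rfl
theorem F95184 : act 2 n22188 = n22188 := d9_2 D15246 D22188 (iv D22188) (iv D15246) F46731
theorem F95185 : act 3 n22188 = n22188 := d10_2 F66586 D22188 (iv D22188)
theorem F95186 : act 6 n22188 = n22188 := d13_2 F66587 D22188 (iv D22188)
theorem F95187 : act 7 n22188 = n15248 := d14_2 (iv F66588) D22188 (iv D15248)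
def n22189 : Q := act 9 n15246
theorem D22189 : act 9 n15246 = n22189 := rfl
theorem F95189 : act 2 n22189 = n15247 := d23_1 D22189 (iv D15247) D15246
theorem F95190 : act 3 n22189 = n22189 := d29_1 D22189 (iv D22189) F66586
theorem F95191 : act 6 n22189 = n22189 := d41_1 D22189 (iv D22189) F66587
theorem F95192 : act 7 n22189 = n15249 := d43_1 D22189 (iv D15249) (iv F66588)
def n22190 : Q := act 8 n15247
theorem D22190 : act 8 n15247 = n22190 := rfl
theorem F95197 : act 7 n22190 = n15250 := d42_1 D22190 (iv D15250) (iv F66593)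
def n22191 : Q := act 0 n15248
theorem D22191 : act 0 n15248 = n22191 := rfl
theorem F95198 : act 1 n22191 = n15267 := d0_2 D15248 D22191 (iv D15267) (iv D10505) (iv F46741)
theorem F95199 : act 2 n22191 = n22191 := d1_2 F66594 D22191 (iv D22191)
theorem F95200 : act 3 n22191 = n22191 := d2_2 F66595 D22191 (iv D22191)
theorem F95201 : act 6 n22191 = n15251 := d5_2 (iv F66596) D22191 (iv D15251)
def n22192 : Q := act 9 n15248
theorem D22192 : act 9 n15248 = n22192 := rfl
theorem F95202 : act 1 n22192 = n15249 := d16_1 D22192 (iv D15249) D15248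
theorem F95203 : act 2 n22192 = n22192 := d23_1 D22192 (iv D22192) F66594
theorem F95204 : act 3 n22192 = n22192 := d29_1 D22192 (iv D22192) F66595
theorem F95205 : act 6 n22192 = n15252 := d41_1 D22192 (iv D15252) (iv F66596)
def n22193 : Q := act 8 n15249
theorem D22193 : act 8 n15249 = n22193 := rfl
theorem F95206 : act 0 n22193 = n15269 := d7_1 D22193 (iv D15269) (iv F66597)
theorem F95207 : act 2 n22193 = n15250 := d22_1 D22193 (iv D15250) (iv F66598)
theorem F95208 : act 6 n22193 = n15253 := d40_1 D22193 (iv D15253) (iv F66600)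
def n22194 : Q := act 9 n15251
theorem D22194 : act 9 n15251 = n22194 := rfl
theorem F95209 : act 0 n22194 = n15252 := d8_1 D22194 (iv D15252) D15251
theorem F95210 : act 1 n22194 = n15270 := d16_1 D22194 (iv D15270) (iv F66605)
theorem F95211 : act 2 n22194 = n22194 := d23_1 D22194 (iv D22194) F66606
theorem F95212 : act 3 n22194 = n22194 := d29_1 D22194 (iv D22194) F66607
theorem F95213 : act 5 n22194 = n22194 := d38_1 D22194 (iv D22194) F66608
theorem F95214 : act 7 n22194 = n22194 := d43_1 D22194 (iv D22194) F66609
def n22195 : Q := act 8 n15252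
theorem D22195 : act 8 n15252 = n22195 := rfl
theorem F95215 : act 1 n22195 = n15253 := d15_1 D22195 (iv D15253) (iv F66610)
theorem F95216 : act 2 n22195 = n22195 := d22_1 D22195 (iv D22195) F66611
theorem F95217 : act 5 n22195 = n22195 := d37_1 D22195 (iv D22195) F66613
theorem F95218 : act 7 n22195 = n22195 := d42_1 D22195 (iv D22195) F66614
def n22196 : Q := act 3 n15253
theorem D22196 : act 3 n15253 = n22196 := rfl
theorem F95219 : act 0 n22196 = n15272 := d2_1 D22196 (iv D15272) (iv F66615)
theorem F95220 : act 2 n22196 = n22196 := d17_1 D22196 (iv D22196) F66616 F46759 (iv F66616)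
theorem F95221 : act 5 n22196 = n22196 := d25_2 F66617 D22196 (iv D22196)
theorem F95222 : act 7 n22196 = n22196 := d27_2 F66618 D22196 (iv D22196)
theorem F95223 : act 8 n22196 = n22196 := d28_2 D15253 D22196 (iv D22196) (iv D15253) F46754
def n22197 : Q := act 2 n15254
theorem D22197 : act 2 n15254 = n22197 := rfl
theorem F95226 : act 6 n22197 = n15256 := d20_2 (iv F66621) D22197 (iv D15256)
def n22199 : Q := act 9 n15254
theorem D22199 : act 9 n15254 = n22199 := rfl
theorem F95235 : act 6 n22199 = n15258 := d41_1 D22199 (iv D15258) (iv F66621)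
def n22200 : Q := act 1 n15256
theorem D22200 : act 1 n15256 = n22200 := rfl
theorem F95239 : act 5 n22200 = n15264 := d12_2 (iv F66631) D22200 (iv D15264)
theorem F95240 : act 7 n22200 = n15259 := d14_2 (iv F66632) D22200 (iv D15259)
def n22201 : Q := act 4 n15256
theorem D22201 : act 4 n15256 = n22201 := rfl
theorem F95242 : act 7 n22201 = n15260 := d32_2 (iv F66632) D22201 (iv D15260)
def n22202 : Q := act 9 n15256
theorem D22202 : act 9 n15256 = n22202 := rfl
theorem F95246 : act 7 n22202 = n15261 := d43_1 D22202 (iv D15261) (iv F66632)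
def n22203 : Q := act 9 n15257
theorem D22203 : act 9 n15257 = n22203 := rfl
theorem F95250 : act 7 n22203 = n15262 := d43_1 D22203 (iv D15262) (iv F66635)
def n22204 : Q := act 8 n15258
theorem D22204 : act 8 n15258 = n22204 := rfl
def n22205 : Q := act 0 n15259
theorem D22205 : act 0 n15259 = n22205 := rfl
theorem F95257 : act 5 n22205 = n15267 := d4_2 (iv F66642) D22205 (iv D15267)
def n22206 : Q := act 4 n15259
theorem D22206 : act 4 n15259 = n22206 := rfl
theorem F95259 : act 1 n22206 = n15260 := d11_1 D22206 (iv D15260) D15259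
def n22207 : Q := act 9 n15259
theorem D22207 : act 9 n15259 = n22207 := rfl
theorem F95262 : act 1 n22207 = n15261 := d16_1 D22207 (iv D15261) D15259
def n22208 : Q := act 3 n15260
theorem D22208 : act 3 n15260 = n22208 := rfl
theorem F95267 : act 2 n22208 = n22208 := d17_1 D22208 (iv D22208) F66644 F46781 (iv F66644)
theorem F95268 : act 4 n22208 = n22208 := d24_2 D15260 D22208 (iv D22208) (iv D15260) F46777
theorem F95269 : act 6 n22208 = n22208 := d26_2 F66645 D22208 (iv D22208)
def n22209 : Q := act 9 n15260
theorem D22209 : act 9 n15260 = n22209 := rfl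
theorem F95271 : act 4 n22209 = n15261 := d34_1 D22209 (iv D15261) D15260
def n22210 : Q := act 8 n15261
theorem D22210 : act 8 n15261 = n22210 := rfl
theorem F95274 : act 5 n22210 = n15269 := d37_1 D22210 (iv D15269) (iv F66648)
def n22211 : Q := act 8 n15262
theorem D22211 : act 8 n15262 = n22211 := rfl
def n22212 : Q := act 0 n15264
theorem D22212 : act 0 n15264 = n22212 := rfl
theorem F95282 : act 7 n22212 = n15267 := d6_2 (iv F66661) D22212 (iv D15267)
def n22214 : Q := act 8 n15265
theorem D22214 : act 8 n15265 = n22214 := rfl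
theorem F95290 : act 7 n22214 = n15269 := d42_1 D22214 (iv D15269) (iv F66665)
def n22215 : Q := act 9 n15267
theorem D22215 : act 9 n15267 = n22215 := rfl
theorem F95294 : act 6 n22215 = n15270 := d41_1 D22215 (iv D15270) (iv F66672)
def n22216 : Q := act 8 n15268
theorem D22216 : act 8 n15268 = n22216 := rfl
theorem F95295 : act 1 n22216 = n15269 := d15_1 D22216 (iv D15269) (iv F66673)
theorem F95297 : act 6 n22216 = n15271 := d40_1 D22216 (iv D15271) (iv F66676)
def n22217 : Q := act 3 n15269
theorem D22217 : act 3 n15269 = n22217 := rfl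
theorem F95298 : act 2 n22217 = n22217 := d17_1 D22217 (iv D22217) F66677 F46801 (iv F66677)
theorem F95299 : act 6 n22217 = n15272 := d26_2 (iv F66678) D22217 (iv D15272)
theorem F95300 : act 8 n22217 = n22217 := d28_2 D15269 D22217 (iv D22217) (iv D15269) F46798
def n22218 : Q := act 8 n15270
theorem D22218 : act 8 n15270 = n22218 := rfl
theorem F95301 : act 0 n22218 = n15271 := d7_1 D22218 (iv D15271) (iv F66679)
theorem F95302 : act 2 n22218 = n15294 := d22_1 D22218 (iv D15294) (iv F66680)
theorem F95303 : act 5 n22218 = n22218 := d37_1 D22218 (iv D22218) F66682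
theorem F95304 : act 7 n22218 = n22218 := d42_1 D22218 (iv D22218) F66683
def n22219 : Q := act 3 n15271
theorem D22219 : act 3 n15271 = n22219 := rfl
theorem F95305 : act 1 n22219 = n15272 := d10_1 D22219 (iv D15272) (iv F66684)
theorem F95306 : act 5 n22219 = n22219 := d25_2 F66686 D22219 (iv D22219)
theorem F95307 : act 7 n22219 = n22219 := d27_2 F66687 D22219 (iv D22219)
theorem F95308 : act 8 n22219 = n22219 := d28_2 D15271 D22219 (iv D22219) (iv D15271) F46809
def n22220 : Q := act 4 n15272
theorem D22220 : act 4 n15272 = n22220 := rfl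
theorem F95309 : act 2 n22220 = n22220 := d18_1 D22220 (iv D22220) F66688
theorem F95310 : act 7 n22220 = n22220 := d32_2 F66690 D22220 (iv D22220)
theorem F95311 : act 8 n22220 = n22220 := d33_2 F66691 D22220 (iv D22220)
def n22224 : Q := act 5 n15274
theorem D22224 : act 5 n15274 = n22224 := rfl
def n22227 : Q := act 0 n15276
theorem D22227 : act 0 n15276 = n22227 := rfl
theorem F95342 : act 5 n22227 = n15288 := d4_2 (iv F66707) D22227 (iv D15288)
theorem F95343 : act 7 n22227 = n15281 := d6_2 (iv F66708) D22227 (iv D15281)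
def n22228 : Q := act 4 n15276
theorem D22228 : act 4 n15276 = n22228 := rfl
theorem F95345 : act 7 n22228 = n15282 := d32_2 (iv F66708) D22228 (iv D15282)
def n22234 : Q := act 4 n15281
theorem D22234 : act 4 n15281 = n22234 := rfl
theorem F95365 : act 0 n22234 = n15282 := d3_1 D22234 (iv D15282) D15281
def n22235 : Q := act 9 n15281
theorem D22235 : act 9 n15281 = n22235 := rfl
theorem F95370 : act 3 n22235 = n15311 := d29_1 D22235 (iv D15311) (iv F66726)
def n22237 : Q := act 9 n15282
theorem D22237 : act 9 n15282 = n22237 := rfl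
theorem F95377 : act 4 n22237 = n15283 := d34_1 D22237 (iv D15283) D15282
def n22240 : Q := act 9 n15284
theorem D22240 : act 9 n15284 = n22240 := rfl
theorem F95389 : act 4 n22240 = n15316 := d34_1 D22240 (iv D15316) (iv F66737)
def n22241 : Q := act 8 n15285
theorem D22241 : act 8 n15285 = n22241 := rfl
def n22247 : Q := act 8 n15291
theorem D22247 : act 8 n15291 = n22247 := rfl
theorem F95419 : act 6 n22247 = n15294 := d40_1 D22247 (iv D15294) (iv F66765)
def n22248 : Q := act 3 n15292
theorem D22248 : act 3 n15292 = n22248 := rfl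
theorem F95421 : act 6 n22248 = n15295 := d26_2 (iv F66767) D22248 (iv D15295)
theorem F95422 : act 8 n22248 = n15324 := d28_2 D15292 D22248 (iv D15324) (iv D10549) (iv F46872)
def n22250 : Q := act 3 n15294
theorem D22250 : act 3 n15294 = n22250 := rfl
theorem F95427 : act 0 n22250 = n15295 := d2_1 D22250 (iv D15295) (iv F66772)
theorem F95431 : act 8 n22250 = n15326 := d28_2 D15294 D22250 (iv D15326) (iv D10551) (iv F46879)
def n22251 : Q := act 2 n15295
theorem D22251 : act 2 n15295 = n22251 := rfl
theorem F95435 : act 8 n22251 = n15327 := d22_2 (iv F66779) D22251 (iv D15327)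
def n22252 : Q := act 4 n15295
theorem D22252 : act 4 n15295 = n22252 := rfl
theorem F95436 : act 1 n22252 = n15296 := d11_1 D22252 (iv D15296) (iv F66776)
def n22253 : Q := act 5 n15296
theorem D22253 : act 5 n15296 = n22253 := rfl
def n22275 : Q := act 8 n15311
theorem D22275 : act 8 n15311 = n22275 := rfl
theorem F95559 : act 5 n22275 = n15323 := d37_1 D22275 (iv D15323) (iv F66862)
def n22280 : Q := act 3 n15314
theorem D22280 : act 3 n15314 = n22280 := rfl
theorem F95581 : act 5 n22280 = n15324 := d25_2 (iv F66874) D22280 (iv D15324)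
def n22286 : Q := act 8 n15320
theorem D22286 : act 8 n15320 = n22286 := rfl
theorem F95612 : act 7 n22286 = n15323 := d42_1 D22286 (iv D15323) (iv F66910)
def n22287 : Q := act 3 n15321
theorem D22287 : act 3 n15321 = n22287 := rfl
theorem F95616 : act 7 n22287 = n15324 := d27_2 (iv F66915) D22287 (iv D15324)
def n22289 : Q := act 3 n15323
theorem D22289 : act 3 n15323 = n22289 := rfl
theorem F95626 : act 6 n22289 = n15326 := d26_2 (iv F66926) D22289 (iv D15326)
def n22290 : Q := act 2 n15324
theorem D22290 : act 2 n15324 = n22290 := rfl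
theorem F95630 : act 6 n22290 = n15327 := d20_2 (iv F66929) D22290 (iv D15327)
def n22291 : Q := act 4 n15324
theorem D22291 : act 4 n15324 = n22291 := rfl
def n22293 : Q := act 2 n15326
theorem D22293 : act 2 n15326 = n22293 := rfl
def n22294 : Q := act 4 n15326
theorem D22294 : act 4 n15326 = n22294 := rfl
def n22295 : Q := act 4 n15327
theorem D22295 : act 4 n15327 = n22295 := rfl
theorem F95651 : act 2 n22295 = n15328 := d18_1 D22295 (iv D15328) D15327
def n22298 : Q := act 2 n15330
theorem D22298 : act 2 n15330 = n22298 := rfl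
theorem F95664 : act 0 n22298 = n16878 := d1_1 D22298 (iv D16878) (iv F66956)
theorem F95665 : act 3 n22298 = n22298 := d17_2 D15330 D22298 (iv D22298) (iv D15330) F47015
theorem F95666 : act 4 n22298 = n22298 := d18_2 F66958 D22298 (iv D22298)
theorem F95667 : act 5 n22298 = n22298 := d19_2 F66959 D22298 (iv D22298)
theorem F95668 : act 6 n22298 = n22298 := d20_2 F66960 D22298 (iv D22298)
theorem F95669 : act 7 n22298 = n22298 := d21_2 F66961 D22298 (iv D22298)
theorem F95670 : act 8 n22298 = n22298 := d22_2 F66962 D22298 (iv D22298)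
def n22299 : Q := act 9 n15330
theorem D22299 : act 9 n15330 = n22299 := rfl
theorem F95673 : act 3 n22299 = n15331 := d29_1 D22299 (iv D15331) D15330
def n22300 : Q := act 8 n15331
theorem D22300 : act 8 n15331 = n22300 := rfl
theorem F95685 : act 9 n22300 = n15332 := d44_2 D15331 D22300 (iv D15332) (iv D10555) D10554
def n22328 : Q := act 5 n15349
theorem D22328 : act 5 n15349 = n22328 := rfl
theorem F95839 : act 4 n22328 = n15354 := d30_1 D22328 (iv D15354) (iv D10569) (iv F47090) D15349
def n22329 : Q := act 6 n15350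
theorem D22329 : act 6 n15350 = n22329 := rfl
theorem F95845 : act 4 n22329 = n15355 := d31_1 D22329 (iv D15355) (iv F67078)
def n22335 : Q := act 6 n15354
theorem D22335 : act 6 n15354 = n22335 := rfl
theorem F95875 : act 5 n22335 = n15412 := d35_1 D22335 (iv D15412) (iv D10608) (iv F47107) D15354
def n22336 : Q := act 7 n15355
theorem D22336 : act 7 n15355 = n22336 := rfl
def n22338 : Q := act 5 n15356
theorem D22338 : act 5 n15356 = n22338 := rfl
theorem F95889 : act 0 n22338 = n15358 := d4_1 D22338 (iv D15358) (iv F67107)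
theorem F95893 : act 8 n22338 = n15364 := d37_2 (iv F67111) D22338 (iv D15364)
def n22342 : Q := act 6 n15358
theorem D22342 : act 6 n15358 = n22342 := rfl
theorem F95908 : act 5 n22342 = n15419 := d35_1 D22342 (iv D15419) (iv D10612) (iv F47123) D15358
theorem F95909 : act 8 n22342 = n15368 := d40_2 (iv F67120) D22342 (iv D15368)
def n22364 : Q := act 1 n15374
theorem D22364 : act 1 n15374 = n22364 := rfl
theorem F96012 : act 2 n22364 = n16944 := d9_2 D15374 D22364 (iv D16944) (iv D11666) (iv F47178)
theorem F96014 : act 6 n22364 = n15441 := d13_2 (iv F67199) D22364 (iv D15441)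
def n22366 : Q := act 8 n15374
theorem D22366 : act 8 n15374 = n22366 := rfl
theorem F96019 : act 0 n22366 = n15379 := d7_1 D22366 (iv D15379) (iv F67197)
theorem F96022 : act 6 n22366 = n15443 := d40_1 D22366 (iv D15443) (iv F67199)
def n22373 : Q := act 6 n15378
theorem D22373 : act 6 n15378 = n22373 := rfl
theorem F96056 : act 5 n22373 = n15450 := d35_1 D22373 (iv D15450) (iv D10632) (iv F47189) D15378
def n22374 : Q := act 8 n15378
theorem D22374 : act 8 n15378 = n22374 := rfl
theorem F96059 : act 5 n22374 = n15379 := d37_1 D22374 (iv D15379) D15378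
def n22375 : Q := act 3 n15379
theorem D22375 : act 3 n15379 = n22375 := rfl
theorem F96063 : act 6 n22375 = n15452 := d26_2 (iv F67222) D22375 (iv D15452)
def n22377 : Q := act 6 n15380
theorem D22377 : act 6 n15380 = n22377 := rfl
theorem F96072 : act 4 n22377 = n15381 := d31_1 D22377 (iv D15381) D15380
def n22378 : Q := act 8 n15380
theorem D22378 : act 8 n15380 = n22378 := rfl
theorem F96074 : act 4 n22378 = n15382 := d33_1 D22378 (iv D15382) D15380
def n22380 : Q := act 8 n15381
theorem D22380 : act 8 n15381 = n22380 := rfl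
theorem F96083 : act 5 n22380 = n15457 := d37_1 D22380 (iv D15457) (iv F67230)
theorem F96084 : act 6 n22380 = n15382 := d40_1 D22380 (iv D15382) D15381
def n22382 : Q := act 5 n15385
theorem D22382 : act 5 n15385 = n22382 := rfl
theorem F96092 : act 4 n22382 = n15459 := d30_1 D22382 (iv D15459) F47433 (iv F47211) (iv F67248)
def n22384 : Q := act 8 n15385
theorem D22384 : act 8 n15385 = n22384 := rfl
theorem F96102 : act 6 n22384 = n15386 := d40_1 D22384 (iv D15386) D15385
def n22418 : Q := act 5 n15408
theorem D22418 : act 5 n15408 = n22418 := rfl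
theorem F96264 : act 1 n22418 = n15410 := d12_1 D22418 (iv D15410) (iv F67361)
theorem F96265 : act 3 n22418 = n15409 := d25_1 D22418 (iv D15409) D15408
def n22421 : Q := act 4 n15410
theorem D22421 : act 4 n15410 = n22421 := rfl
theorem F96276 : act 2 n22421 = n15420 := d18_1 D22421 (iv D15420) (iv F67370)
def n22422 : Q := act 6 n15410
theorem D22422 : act 6 n15410 = n22422 := rfl
theorem F96282 : act 3 n22422 = n15412 := d26_1 D22422 (iv D15412) (iv F67371)
def n22428 : Q := act 8 n15414
theorem D22428 : act 8 n15414 = n22428 := rfl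
theorem F96310 : act 3 n22428 = n15427 := d28_1 D22428 (iv D15427) (iv D10617) (iv F47314) D15414
def n22429 : Q := act 6 n15415
theorem D22429 : act 6 n15415 = n22429 := rfl
theorem F96314 : act 4 n22429 = n15594 := d31_1 D22429 (iv D15594) (iv F67395)
theorem F96315 : act 8 n22429 = n15428 := d40_2 (iv F67397) D22429 (iv D15428)
def n22436 : Q := act 7 n15419
theorem D22436 : act 7 n15419 = n22436 := rfl
theorem F96339 : act 6 n22436 = n15513 := d39_1 D22436 (iv D15513) (iv D10673) (iv F47321) D15419
theorem F96340 : act 8 n22436 = n15435 := d42_2 (iv F67410) D22436 (iv D15435)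
def n22437 : Q := act 6 n15420
theorem D22437 : act 6 n15420 = n22437 := rfl
theorem F96343 : act 3 n22437 = n15602 := d26_1 D22437 (iv D15602) (iv F67413)
def n22448 : Q := act 9 n15427
theorem D22448 : act 9 n15427 = n22448 := rfl
theorem F96392 : act 8 n22448 = n15447 := d44_1 D22448 (iv D15447) (iv D10630) (iv F47345) D15427
def n22450 : Q := act 4 n15429
theorem D22450 : act 4 n15429 = n22450 := rfl
theorem F96399 : act 2 n22450 = n15431 := d18_1 D22450 (iv D15431) (iv F67451)
def n22452 : Q := act 8 n15429
theorem D22452 : act 8 n15429 = n22452 := rfl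
theorem F96408 : act 5 n22452 = n15430 := d37_1 D22452 (iv D15430) D15429
def n22453 : Q := act 3 n15430
theorem D22453 : act 3 n15430 = n22453 := rfl
def n22454 : Q := act 9 n15430
theorem D22454 : act 9 n15430 = n22454 := rfl
theorem F96416 : act 8 n22454 = n15453 := d44_1 D22454 (iv D15453) (iv D10633) (iv F47354) D15430
def n22456 : Q := act 8 n15431
theorem D22456 : act 8 n15431 = n22456 := rfl
theorem F96422 : act 4 n22456 = n15433 := d33_1 D22456 (iv D15433) D15431
def n22463 : Q := act 3 n15437
theorem D22463 : act 3 n15437 = n22463 := rfl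
theorem F96453 : act 8 n22463 = n15628 := d28_2 D15437 D22463 (iv D15628) (iv D10750) (iv F47367)
def n22467 : Q := act 5 n15441
theorem D22467 : act 5 n15441 = n22467 := rfl
theorem F96471 : act 7 n22467 = n15544 := d36_2 (iv F67503) D22467 (iv D15544)
def n22468 : Q := act 8 n15441
theorem D22468 : act 8 n15441 = n22468 := rfl
theorem F96476 : act 7 n22468 = n15545 := d42_1 D22468 (iv D15545) (iv F67503)
def n22469 : Q := act 4 n15442
theorem D22469 : act 4 n15442 = n22469 := rfl
theorem F96478 : act 2 n22469 = n15444 := d18_1 D22469 (iv D15444) (iv F67505)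
theorem F96480 : act 7 n22469 = n15546 := d32_2 (iv F67506) D22469 (iv D15546)
def n22471 : Q := act 8 n15442
theorem D22471 : act 8 n15442 = n22471 := rfl
theorem F96485 : act 5 n22471 = n15443 := d37_1 D22471 (iv D15443) D15442
theorem F96486 : act 7 n22471 = n15548 := d42_1 D22471 (iv D15548) (iv F67506)
def n22472 : Q := act 3 n15443
theorem D22472 : act 3 n15443 = n22472 := rfl
theorem F96489 : act 7 n22472 = n15549 := d27_2 (iv F67510) D22472 (iv D15549)
def n22475 : Q := act 8 n15444
theorem D22475 : act 8 n15444 = n22475 := rfl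
theorem F96500 : act 4 n22475 = n15446 := d33_1 D22475 (iv D15446) D15444
theorem F96502 : act 7 n22475 = n15552 := d42_1 D22475 (iv D15552) (iv F67515)
def n22479 : Q := act 3 n15449
theorem D22479 : act 3 n15449 = n22479 := rfl
theorem F96517 : act 2 n22479 = n15644 := d17_1 D22479 (iv D15644) F47972 (iv F47413) (iv F67535)
def n22480 : Q := act 6 n15449
theorem D22480 : act 6 n15449 = n22480 := rfl
theorem F96522 : act 4 n22480 = n15450 := d31_1 D22480 (iv D15450) D15449
def n22481 : Q := act 8 n15449
theorem D22481 : act 8 n15449 = n22481 := rfl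
theorem F96525 : act 4 n22481 = n15451 := d33_1 D22481 (iv D15451) D15449
theorem F96527 : act 7 n22481 = n15558 := d42_1 D22481 (iv D15558) (iv F67537)
def n22482 : Q := act 7 n15450
theorem D22482 : act 7 n15450 = n22482 := rfl
theorem F96530 : act 6 n22482 = n15559 := d39_1 D22482 (iv D15559) (iv D10704) (iv F47407) D15450
def n22483 : Q := act 8 n15450
theorem D22483 : act 8 n15450 = n22483 := rfl
def n22486 : Q := act 4 n15452
theorem D22486 : act 4 n15452 = n22486 := rfl
theorem F96545 : act 7 n22486 = n15563 := d32_2 (iv F67546) D22486 (iv D15563)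
def n22488 : Q := act 5 n15454
theorem D22488 : act 5 n15454 = n22488 := rfl
theorem F96551 : act 3 n22488 = n15653 := d25_1 D22488 (iv D15653) (iv F67552)
def n22489 : Q := act 7 n15454
theorem D22489 : act 7 n15454 = n22489 := rfl
theorem F96556 : act 6 n22489 = n15566 := d39_1 D22489 (iv D15566) (iv D10708) (iv F47415) D15454
def n22490 : Q := act 8 n15454
theorem D22490 : act 8 n15454 = n22490 := rfl
theorem F96558 : act 4 n22490 = n15457 := d33_1 D22490 (iv D15457) (iv F67553)
def n22491 : Q := act 3 n15455
theorem D22491 : act 3 n15455 = n22491 := rfl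
theorem F96563 : act 7 n22491 = n15568 := d27_2 (iv F67557) D22491 (iv D15568)
theorem F96564 : act 8 n22491 = n15656 := d28_2 D15455 D22491 (iv D15656) (iv D10768) (iv F47413)
def n22493 : Q := act 8 n15456
theorem D22493 : act 8 n15456 = n22493 := rfl
theorem F96571 : act 6 n22493 = n15570 := d40_1 D22493 (iv D15570) (iv F67560)
theorem F96572 : act 7 n22493 = n15457 := d42_1 D22493 (iv D15457) D15456
def n22496 : Q := act 8 n15459
theorem D22496 : act 8 n15459 = n22496 := rfl
def n22498 : Q := act 3 n15461
theorem D22498 : act 3 n15461 = n22498 := rfl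
theorem F96592 : act 8 n22498 = n15663 := d28_2 D15461 D22498 (iv D15663) (iv D10774) (iv F47432)
def n22500 : Q := act 2 n15462
theorem D22500 : act 2 n15462 = n22500 := rfl
theorem F96597 : act 0 n22500 = n17103 := d1_1 D22500 (iv D17103) (iv F67581)
theorem F96601 : act 7 n22500 = n15577 := d21_2 (iv F67584) D22500 (iv D15577)
def n22546 : Q := act 5 n15494
theorem D22546 : act 5 n15494 = n22546 := rfl
theorem F96807 : act 1 n22546 = n15507 := d12_1 D22546 (iv D15507) (iv F67732)
def n22548 : Q := act 4 n15495
theorem D22548 : act 4 n15495 = n22548 := rfl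
theorem F96813 : act 1 n22548 = n15498 := d11_1 D22548 (iv D15498) (iv F67735)
def n22553 : Q := act 6 n15498
theorem D22553 : act 6 n15498 = n22553 := rfl
theorem F96833 : act 2 n22553 = n15514 := d20_1 D22553 (iv D15514) (iv F67747)
theorem F96835 : act 4 n22553 = n15499 := d31_1 D22553 (iv D15499) D15498
def n22555 : Q := act 7 n15499
theorem D22555 : act 7 n15499 = n22555 := rfl
theorem F96842 : act 3 n22555 = n15502 := d27_1 D22555 (iv D15502) (iv F67752)
def n22561 : Q := act 4 n15504
theorem D22561 : act 4 n15504 = n22561 := rfl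
theorem F96866 : act 3 n22561 = n15687 := d24_1 D22561 (iv D15687) F48097 (iv F47575) (iv F67775)
def n22562 : Q := act 6 n15504
theorem D22562 : act 6 n15504 = n22562 := rfl
def n22563 : Q := act 8 n15504
theorem D22563 : act 8 n15504 = n22563 := rfl
theorem F96875 : act 3 n22563 = n15524 := d28_1 D22563 (iv D15524) F47617 (iv F47576) (iv F67775)
def n22565 : Q := act 7 n15506
theorem D22565 : act 7 n15506 = n22565 := rfl
theorem F96886 : act 8 n22565 = n15526 := d42_2 (iv F67785) D22565 (iv D15526)
def n22566 : Q := act 4 n15507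
theorem D22566 : act 4 n15507 = n22566 := rfl
theorem F96888 : act 2 n22566 = n15509 := d18_1 D22566 (iv D15509) (iv F67787)
def n22577 : Q := act 7 n15514
theorem D22577 : act 7 n15514 = n22577 := rfl
theorem F96923 : act 3 n22577 = n15703 := d27_1 D22577 (iv D15703) (iv F67811)
def n22594 : Q := act 9 n15524
theorem D22594 : act 9 n15524 = n22594 := rfl
theorem F96992 : act 8 n22594 = n15555 := d44_1 D22594 (iv D15555) (iv D10700) (iv F47618) D15524
def n22595 : Q := act 3 n15527
theorem D22595 : act 3 n15527 = n22595 := rfl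
theorem F96996 : act 9 n22595 = n15556 := d29_2 (iv F67866) D22595 (iv D15556)
def n22597 : Q := act 8 n15527
theorem D22597 : act 8 n15527 = n22597 := rfl
theorem F97002 : act 2 n22597 = n15533 := d22_1 D22597 (iv D15533) (iv F67864)
theorem F97003 : act 4 n22597 = n15529 := d33_1 D22597 (iv D15529) D15527
def n22600 : Q := act 3 n15529
theorem D22600 : act 3 n15529 = n22600 := rfl
theorem F97014 : act 5 n22600 = n15530 := d25_2 (iv F67873) D22600 (iv D15530)
def n22606 : Q := act 8 n15532
theorem D22606 : act 8 n15532 = n22606 := rfl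
theorem F97035 : act 4 n22606 = n15535 := d33_1 D22606 (iv D15535) (iv F67883)
def n22607 : Q := act 3 n15533
theorem D22607 : act 3 n15533 = n22607 := rfl
theorem F97039 : act 8 n22607 = n15733 := d28_2 D15533 D22607 (iv D15733) (iv D10820) (iv F47636)
def n22614 : Q := act 3 n15539
theorem D22614 : act 3 n15539 = n22614 := rfl
theorem F97068 : act 8 n22614 = n15740 := d28_2 D15539 D22614 (iv D15740) (iv D10826) (iv F47655)
def n22621 : Q := act 8 n15544
theorem D22621 : act 8 n15544 = n22621 := rfl
theorem F97097 : act 5 n22621 = n15545 := d37_1 D22621 (iv D15545) D15544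
def n22624 : Q := act 3 n15546
theorem D22624 : act 3 n15546 = n22624 := rfl
theorem F97107 : act 2 n22624 = n15750 := d17_1 D22624 (iv D15750) F48258 (iv F47687) (iv F67939)
def n22625 : Q := act 6 n15546
theorem D22625 : act 6 n15546 = n22625 := rfl
def n22626 : Q := act 8 n15546
theorem D22626 : act 8 n15546 = n22626 := rfl
def n22628 : Q := act 8 n15547
theorem D22628 : act 8 n15547 = n22628 := rfl
theorem F97122 : act 6 n22628 = n15548 := d40_1 D22628 (iv D15548) D15547
def n22629 : Q := act 3 n15548
theorem D22629 : act 3 n15548 = n22629 := rfl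
theorem F97125 : act 5 n22629 = n15549 := d25_2 (iv F67946) D22629 (iv D15549)
def n22633 : Q := act 5 n15551
theorem D22633 : act 5 n15551 = n22633 := rfl
theorem F97139 : act 3 n22633 = n15759 := d25_1 D22633 (iv D15759) (iv F67956)
def n22635 : Q := act 8 n15551
theorem D22635 : act 8 n15551 = n22635 := rfl
theorem F97149 : act 6 n22635 = n15552 := d40_1 D22635 (iv D15552) D15551
def n22636 : Q := act 3 n15552
theorem D22636 : act 3 n15552 = n22636 := rfl
theorem F97154 : act 8 n22636 = n15762 := d28_2 D15552 D22636 (iv D15762) (iv D10839) (iv F47687)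
def n22640 : Q := act 6 n15556
theorem D22640 : act 6 n15556 = n22640 := rfl
theorem F97170 : act 2 n22640 = n15766 := d20_1 D22640 (iv D15766) (iv F67976)
theorem F97171 : act 3 n22640 = n15557 := d26_1 D22640 (iv D15557) D15556
def n22641 : Q := act 8 n15556
theorem D22641 : act 8 n15556 = n22641 := rfl
theorem F97173 : act 2 n22641 = n15767 := d22_1 D22641 (iv D15767) (iv F67976)
def n22642 : Q := act 5 n15557
theorem D22642 : act 5 n15557 = n22642 := rfl
def n22643 : Q := act 7 n15557
theorem D22643 : act 7 n15557 = n22643 := rfl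
def n22644 : Q := act 8 n15557
theorem D22644 : act 8 n15557 = n22644 := rfl
theorem F97185 : act 6 n22644 = n15558 := d40_1 D22644 (iv D15558) D15557
def n22646 : Q := act 9 n15558
theorem D22646 : act 9 n15558 = n22646 := rfl
theorem F97189 : act 2 n22646 = n15569 := d23_1 D22646 (iv D15569) (iv F67982)
theorem F97190 : act 4 n22646 = n15562 := d34_1 D22646 (iv D15562) (iv F67983)
def n22647 : Q := act 8 n15559
theorem D22647 : act 8 n15559 = n22647 := rfl
def n22648 : Q := act 3 n15560
theorem D22648 : act 3 n15560 = n22648 := rfl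
theorem F97199 : act 6 n22648 = n15561 := d26_2 (iv F67991) D22648 (iv D15561)
def n22650 : Q := act 4 n15561
theorem D22650 : act 4 n15561 = n22650 := rfl
def n22652 : Q := act 5 n15563
theorem D22652 : act 5 n15563 = n22652 := rfl
def n22655 : Q := act 7 n15565
theorem D22655 : act 7 n15565 = n22655 := rfl
theorem F97222 : act 3 n22655 = n15781 := d27_1 D22655 (iv D15781) (iv F68007)
theorem F97224 : act 5 n22655 = n15566 := d36_1 D22655 (iv D15566) D15565
def n22656 : Q := act 8 n15565
theorem D22656 : act 8 n15565 = n22656 := rfl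
theorem F97227 : act 5 n22656 = n15567 := d37_1 D22656 (iv D15567) D15565
def n22657 : Q := act 8 n15566
theorem D22657 : act 8 n15566 = n22657 := rfl
def n22658 : Q := act 3 n15567
theorem D22658 : act 3 n15567 = n22658 := rfl
theorem F97234 : act 6 n22658 = n15568 := d26_2 (iv F68015) D22658 (iv D15568)
theorem F97235 : act 8 n22658 = n15784 := d28_2 D15567 D22658 (iv D15784) (iv D10854) (iv F47724)
def n22661 : Q := act 9 n15568
theorem D22661 : act 9 n15568 = n22661 := rfl
theorem F97243 : act 3 n22661 = n15569 := d29_1 D22661 (iv D15569) D15568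
def n22671 : Q := act 1 n15577
theorem D22671 : act 1 n15577 = n22671 := rfl
theorem F97289 : act 8 n22671 = n15797 := d15_2 (iv F68057) D22671 (iv D15797)
def n22674 : Q := act 2 n15580
theorem D22674 : act 2 n15580 = n22674 := rfl
theorem F97301 : act 4 n22674 = n15591 := d18_2 (iv F68069) D22674 (iv D15591)
theorem F97303 : act 7 n22674 = n15668 := d21_2 (iv F68071) D22674 (iv D15668)
def n22689 : Q := act 9 n15588
theorem D22689 : act 9 n15588 = n22689 := rfl
theorem F97380 : act 7 n22689 = n15683 := d43_1 D22689 (iv D15683) (iv F68113)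
def n22690 : Q := act 1 n15591
theorem D22690 : act 1 n15591 = n22690 := rfl
theorem F97383 : act 2 n22690 = n17339 := d9_2 D15591 D22690 (iv D17339) (iv D11928) (iv F47811)
def n22692 : Q := act 8 n15591
theorem D22692 : act 8 n15591 = n22692 := rfl
theorem F97394 : act 7 n22692 = n15686 := d42_1 D22692 (iv D15686) (iv F68129)
def n22694 : Q := act 6 n15592
theorem D22694 : act 6 n15592 = n22694 := rfl
theorem F97401 : act 3 n22694 = n15594 := d26_1 D22694 (iv D15594) (iv F68133)
def n22695 : Q := act 8 n15592
theorem D22695 : act 8 n15592 = n22695 := rfl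
theorem F97404 : act 0 n22695 = n15599 := d7_1 D22695 (iv D15599) (iv F68131)
theorem F97406 : act 3 n22695 = n15612 := d28_1 D22695 (iv D15612) F47869 (iv F47818) (iv F68133)
theorem F97408 : act 7 n22695 = n15689 := d42_1 D22695 (iv D15689) (iv F68134)
def n22696 : Q := act 9 n15593
theorem D22696 : act 9 n15593 = n22696 := rfl
theorem F97409 : act 0 n22696 = n15600 := d8_1 D22696 (iv D15600) (iv F68136)
theorem F97410 : act 1 n22696 = n17345 := d16_1 D22696 (iv D17345) (iv F68137)
theorem F97413 : act 7 n22696 = n15690 := d43_1 D22696 (iv D15690) (iv F68140)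
def n22697 : Q := act 7 n15594
theorem D22697 : act 7 n15594 = n22697 := rfl
theorem F97418 : act 6 n22697 = n15691 := d39_1 D22697 (iv D15691) (iv D10793) (iv F47817) D15594
theorem F97419 : act 8 n22697 = n15614 := d42_2 (iv F68144) D22697 (iv D15614)
def n22700 : Q := act 8 n15595
theorem D22700 : act 8 n15595 = n22700 := rfl
theorem F97430 : act 2 n22700 = n15599 := d22_1 D22700 (iv D15599) (iv F68147)
theorem F97432 : act 7 n22700 = n15694 := d42_1 D22700 (iv D15694) (iv F68148)
def n22701 : Q := act 3 n15596
theorem D22701 : act 3 n15596 = n22701 := rfl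
theorem F97434 : act 2 n22701 = n15618 := d17_1 D22701 (iv D15618) F47886 (iv F47829) (iv F68151)
theorem F97436 : act 7 n22701 = n15695 := d27_2 (iv F68153) D22701 (iv D15695)
def n22705 : Q := act 7 n15598
theorem D22705 : act 7 n15598 = n22705 := rfl
theorem F97449 : act 3 n22705 = n15601 := d27_1 D22705 (iv D15601) (iv F68158)
theorem F97451 : act 6 n22705 = n15699 := d39_1 D22705 (iv D15699) (iv D10797) (iv F47826) D15598
def n22706 : Q := act 8 n15598
theorem D22706 : act 8 n15598 = n22706 := rfl
theorem F97454 : act 3 n22706 = n15623 := d28_1 D22706 (iv D15623) F47895 (iv F47834) (iv F68158)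
def n22707 : Q := act 9 n15599
theorem D22707 : act 9 n15599 = n22707 := rfl
theorem F97460 : act 7 n22707 = n15701 := d43_1 D22707 (iv D15701) (iv F68164)
def n22710 : Q := act 8 n15602
theorem D22710 : act 8 n15602 = n22710 := rfl
theorem F97474 : act 6 n22710 = n15603 := d40_1 D22710 (iv D15603) D15602
def n22712 : Q := act 9 n15603
theorem D22712 : act 9 n15603 = n22712 := rfl
theorem F97481 : act 7 n22712 = n15706 := d43_1 D22712 (iv D15706) (iv F68182)
def n22713 : Q := act 8 n15604
theorem D22713 : act 8 n15604 = n22713 := rfl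
theorem F97485 : act 3 n22713 = n15630 := d28_1 D22713 (iv D15630) F47921 (iv F47860) (iv F68185)
def n22714 : Q := act 9 n15605
theorem D22714 : act 9 n15605 = n22714 := rfl
theorem F97493 : act 6 n22714 = n15606 := d41_1 D22714 (iv D15606) (iv F68193)
def n22715 : Q := act 5 n15607
theorem D22715 : act 5 n15607 = n22715 := rfl
theorem F97495 : act 0 n22715 = n15989 := d4_1 D22715 (iv D15989) (iv F68200)
theorem F97496 : act 1 n22715 = n15608 := d12_1 D22715 (iv D15608) D15607
theorem F97498 : act 7 n22715 = n15709 := d36_2 (iv F68204) D22715 (iv D15709)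
theorem F97499 : act 9 n22715 = n15632 := d38_2 (iv F68205) D22715 (iv D15632)
def n22716 : Q := act 8 n15607
theorem D22716 : act 8 n15607 = n22716 := rfl
theorem F97501 : act 1 n22716 = n15609 := d15_1 D22716 (iv D15609) D15607
theorem F97505 : act 7 n22716 = n15710 := d42_1 D22716 (iv D15710) (iv F68204)
def n22718 : Q := act 6 n15608
theorem D22718 : act 6 n15608 = n22718 := rfl
theorem F97511 : act 0 n22718 = n15616 := d5_1 D22718 (iv D15616) (iv F68206)
theorem F97512 : act 2 n22718 = n15611 := d20_1 D22718 (iv D15611) (iv F68207)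
theorem F97514 : act 9 n22718 = n15635 := d41_2 (iv F68209) D22718 (iv D15635)
def n22719 : Q := act 8 n15608
theorem D22719 : act 8 n15608 = n22719 := rfl
theorem F97515 : act 0 n22719 = n15617 := d7_1 D22719 (iv D15617) (iv F68206)
theorem F97516 : act 2 n22719 = n15612 := d22_1 D22719 (iv D15612) (iv F68207)
theorem F97518 : act 7 n22719 = n15713 := d42_1 D22719 (iv D15713) (iv F68208)
def n22720 : Q := act 3 n15609
theorem D22720 : act 3 n15609 = n22720 := rfl
theorem F97521 : act 7 n22720 = n15714 := d27_2 (iv F68214) D22720 (iv D15714)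
def n22721 : Q := act 9 n15609
theorem D22721 : act 9 n15609 = n22721 := rfl
theorem F97522 : act 0 n22721 = n15619 := d8_1 D22721 (iv D15619) (iv F68210)
theorem F97523 : act 2 n22721 = n15613 := d23_1 D22721 (iv D15613) (iv F68211)
theorem F97526 : act 7 n22721 = n15715 := d43_1 D22721 (iv D15715) (iv F68214)
theorem F97527 : act 8 n22721 = n15638 := d44_1 D22721 (iv D15638) (iv D10756) (iv F47866) D15609
def n22724 : Q := act 7 n15611
theorem D22724 : act 7 n15611 = n22724 := rfl
theorem F97539 : act 3 n22724 = n15614 := d27_1 D22724 (iv D15614) (iv F68222)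
def n22725 : Q := act 8 n15611
theorem D22725 : act 8 n15611 = n22725 := rfl
def n22726 : Q := act 9 n15612
theorem D22726 : act 9 n15612 = n22726 := rfl
def n22727 : Q := act 3 n15615
theorem D22727 : act 3 n15615 = n22727 := rfl
theorem F97555 : act 9 n22727 = n15644 := d29_2 (iv F68244) D22727 (iv D15644)
def n22728 : Q := act 6 n15615
theorem D22728 : act 6 n15615 = n22728 := rfl
theorem F97558 : act 4 n22728 = n15616 := d31_1 D22728 (iv D15616) D15615
def n22729 : Q := act 8 n15615
theorem D22729 : act 8 n15615 = n22729 := rfl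
theorem F97560 : act 1 n22729 = n16003 := d15_1 D22729 (iv D16003) (iv F68240)
theorem F97564 : act 7 n22729 = n15723 := d42_1 D22729 (iv D15723) (iv F68243)
def n22730 : Q := act 7 n15616
theorem D22730 : act 7 n15616 = n22730 := rfl
theorem F97565 : act 1 n22730 = n16004 := d14_1 D22730 (iv D16004) (iv F68245)
theorem F97566 : act 2 n22730 = n15622 := d21_1 D22730 (iv D15622) (iv F68246)
def n22731 : Q := act 8 n15616
theorem D22731 : act 8 n15616 = n22731 := rfl
theorem F97570 : act 1 n22731 = n16005 := d15_1 D22731 (iv D16005) (iv F68245)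
theorem F97571 : act 2 n22731 = n15623 := d22_1 D22731 (iv D15623) (iv F68246)
def n22732 : Q := act 3 n15617
theorem D22732 : act 3 n15617 = n22732 := rfl
theorem F97576 : act 7 n22732 = n15726 := d27_2 (iv F68252) D22732 (iv D15726)
def n22733 : Q := act 9 n15617
theorem D22733 : act 9 n15617 = n22733 := rfl
theorem F97580 : act 7 n22733 = n15727 := d43_1 D22733 (iv D15727) (iv F68252)
theorem F97581 : act 8 n22733 = n15650 := d44_1 D22733 (iv D15650) (iv D10764) (iv F47884) D15617
def n22734 : Q := act 4 n15618
theorem D22734 : act 4 n15618 = n22734 := rfl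
theorem F97585 : act 7 n22734 = n15728 := d32_2 (iv F68255) D22734 (iv D15728)
def n22735 : Q := act 9 n15618
theorem D22735 : act 9 n15618 = n22735 := rfl
theorem F97587 : act 3 n22735 = n15619 := d29_1 D22735 (iv D15619) D15618
theorem F97589 : act 7 n22735 = n15729 := d43_1 D22735 (iv D15729) (iv F68255)
def n22738 : Q := act 8 n15620
theorem D22738 : act 8 n15620 = n22738 := rfl
theorem F97599 : act 4 n22738 = n15623 := d33_1 D22738 (iv D15623) (iv F68263)
def n22739 : Q := act 3 n15621
theorem D22739 : act 3 n15621 = n22739 := rfl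
theorem F97603 : act 7 n22739 = n15733 := d27_2 (iv F68268) D22739 (iv D15733)
def n22740 : Q := act 9 n15621
theorem D22740 : act 9 n15621 = n22740 := rfl
theorem F97607 : act 7 n22740 = n15734 := d43_1 D22740 (iv D15734) (iv F68268)
def n22741 : Q := act 8 n15622
theorem D22741 : act 8 n15622 = n22741 := rfl
def n22744 : Q := act 8 n15625
theorem D22744 : act 8 n15625 = n22744 := rfl
theorem F97625 : act 5 n22744 = n15627 := d37_1 D22744 (iv D15627) D15625
def n22745 : Q := act 8 n15626
theorem D22745 : act 8 n15626 = n22745 := rfl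
theorem F97629 : act 4 n22745 = n15630 := d33_1 D22745 (iv D15630) (iv F68288)
def n22747 : Q := act 9 n15627
theorem D22747 : act 9 n15627 = n22747 := rfl
theorem F97638 : act 8 n22747 = n15664 := d44_1 D22747 (iv D15664) (iv D10774) (iv F47913) D15627
def n22751 : Q := act 4 n15632
theorem D22751 : act 4 n15632 = n22751 := rfl
theorem F97653 : act 0 n22751 = n16025 := d3_1 D22751 (iv D16025) (iv F68314)
theorem F97654 : act 1 n22751 = n15634 := d11_1 D22751 (iv D15634) (iv F68315)
def n22752 : Q := act 6 n15632
theorem D22752 : act 6 n15632 = n22752 := rfl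
theorem F97658 : act 0 n22752 = n16026 := d5_1 D22752 (iv D16026) (iv F68314)
theorem F97659 : act 1 n22752 = n15635 := d13_1 D22752 (iv D15635) (iv F68315)
def n22753 : Q := act 8 n15632
theorem D22753 : act 8 n15632 = n22753 := rfl
theorem F97663 : act 1 n22753 = n15636 := d15_1 D22753 (iv D15636) (iv F68315)
def n22754 : Q := act 3 n15633
theorem D22754 : act 3 n15633 = n22754 := rfl
def n22755 : Q := act 9 n15633
theorem D22755 : act 9 n15633 = n22755 := rfl
theorem F97672 : act 1 n22755 = n15638 := d16_1 D22755 (iv D15638) (iv F68319)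
def n22756 : Q := act 3 n15634
theorem D22756 : act 3 n15634 = n22756 := rfl
def n22758 : Q := act 8 n15634
theorem D22758 : act 8 n15634 = n22758 := rfl
theorem F97684 : act 2 n22758 = n15640 := d22_1 D22758 (iv D15640) (iv F68325)
theorem F97685 : act 4 n22758 = n15636 := d33_1 D22758 (iv D15636) D15634
def n22759 : Q := act 7 n15635
theorem D22759 : act 7 n15635 = n22759 := rfl
def n22760 : Q := act 8 n15635
theorem D22760 : act 8 n15635 = n22760 := rfl
theorem F97692 : act 0 n22760 = n15648 := d7_1 D22760 (iv D15648) (iv F68328)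
theorem F97695 : act 6 n22760 = n15636 := d40_1 D22760 (iv D15636) D15635
def n22761 : Q := act 3 n15636
theorem D22761 : act 3 n15636 = n22761 := rfl
theorem F97699 : act 7 n22761 = n15755 := d27_2 (iv F68334) D22761 (iv D15755)
def n22762 : Q := act 9 n15636
theorem D22762 : act 9 n15636 = n22762 := rfl
def n22764 : Q := act 9 n15637
theorem D22764 : act 9 n15637 = n22764 := rfl
theorem F97711 : act 3 n22764 = n15638 := d29_1 D22764 (iv D15638) D15637
theorem F97713 : act 7 n22764 = n15758 := d43_1 D22764 (iv D15758) (iv F68338)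
def n22768 : Q := act 3 n15640
theorem D22768 : act 3 n15640 = n22768 := rfl
def n22772 : Q := act 6 n15644
theorem D22772 : act 6 n15644 = n22772 := rfl
theorem F97747 : act 1 n22772 = n16046 := d13_1 D22772 (iv D16046) (iv F68367)
def n22773 : Q := act 8 n15644
theorem D22773 : act 8 n15644 = n22773 := rfl
theorem F97749 : act 1 n22773 = n16047 := d15_1 D22773 (iv D16047) (iv F68367)
def n22774 : Q := act 5 n15645
theorem D22774 : act 5 n15645 = n22774 := rfl
theorem F97752 : act 1 n22774 = n16048 := d12_1 D22774 (iv D16048) (iv F68370)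
theorem F97753 : act 2 n22774 = n15653 := d19_1 D22774 (iv D15653) (iv F68371)
def n22776 : Q := act 8 n15645
theorem D22776 : act 8 n15645 = n22776 := rfl
theorem F97760 : act 1 n22776 = n16050 := d15_1 D22776 (iv D16050) (iv F68370)
theorem F97761 : act 2 n22776 = n15655 := d22_1 D22776 (iv D15655) (iv F68371)
theorem F97762 : act 4 n22776 = n15648 := d33_1 D22776 (iv D15648) (iv F68372)
theorem F97763 : act 6 n22776 = n15646 := d40_1 D22776 (iv D15646) D15645
def n22777 : Q := act 3 n15646
theorem D22777 : act 3 n15646 = n22777 := rfl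
theorem F97764 : act 1 n22777 = n16051 := d10_1 D22777 (iv D16051) (iv F68373)
def n22778 : Q := act 9 n15646
theorem D22778 : act 9 n15646 = n22778 := rfl
theorem F97767 : act 1 n22778 = n16052 := d16_1 D22778 (iv D16052) (iv F68373)
def n22779 : Q := act 8 n15647
theorem D22779 : act 8 n15647 = n22779 := rfl
theorem F97772 : act 1 n22779 = n16053 := d15_1 D22779 (iv D16053) (iv F68378)
theorem F97775 : act 6 n22779 = n15773 := d40_1 D22779 (iv D15773) (iv F68381)
theorem F97776 : act 7 n22779 = n15648 := d42_1 D22779 (iv D15648) D15647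
def n22780 : Q := act 3 n15648
theorem D22780 : act 3 n15648 = n22780 := rfl
theorem F97780 : act 6 n22780 = n15649 := d26_2 (iv F68385) D22780 (iv D15649)
def n22781 : Q := act 9 n15648
theorem D22781 : act 9 n15648 = n22781 := rfl
theorem F97781 : act 1 n22781 = n16055 := d16_1 D22781 (iv D16055) (iv F68382)
theorem F97784 : act 6 n22781 = n15650 := d41_1 D22781 (iv D15650) (iv F68385)
def n22782 : Q := act 4 n15649
theorem D22782 : act 4 n15649 = n22782 := rfl
def n22783 : Q := act 9 n15649
theorem D22783 : act 9 n15649 = n22783 := rfl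
theorem F97791 : act 5 n22783 = n15652 := d38_1 D22783 (iv D15652) (iv F68388)
theorem F97792 : act 7 n22783 = n15777 := d43_1 D22783 (iv D15777) (iv F68389)
def n22784 : Q := act 5 n15651
theorem D22784 : act 5 n15651 = n22784 := rfl
theorem F97793 : act 1 n22784 = n16058 := d12_1 D22784 (iv D16058) (iv F68394)
theorem F97794 : act 2 n22784 = n22784 := d19_1 D22784 (iv D22784) F68395
theorem F97795 : act 3 n22784 = n22784 := d25_1 D22784 (iv D22784) F68396
theorem F97796 : act 7 n22784 = n15778 := d36_2 (iv F68398) D22784 (iv D15778)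
def n22785 : Q := act 9 n15651
theorem D22785 : act 9 n15651 = n22785 := rfl
theorem F97800 : act 4 n22785 = n15652 := d34_1 D22785 (iv D15652) D15651
theorem F97802 : act 7 n22785 = n15779 := d43_1 D22785 (iv D15779) (iv F68398)
def n22786 : Q := act 8 n15652
theorem D22786 : act 8 n15652 = n22786 := rfl
theorem F97803 : act 1 n22786 = n16060 := d15_1 D22786 (iv D16060) (iv F68399)
theorem F97806 : act 7 n22786 = n15780 := d42_1 D22786 (iv D15780) (iv F68403)
def n22789 : Q := act 8 n15654
theorem D22789 : act 8 n15654 = n22789 := rfl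
theorem F97816 : act 6 n22789 = n15783 := d40_1 D22789 (iv D15783) (iv F68409)
theorem F97817 : act 7 n22789 = n15655 := d42_1 D22789 (iv D15655) D15654
def n22790 : Q := act 3 n15655
theorem D22790 : act 3 n15655 = n22790 := rfl
theorem F97818 : act 1 n22790 = n15663 := d10_1 D22790 (iv D15663) (iv F68410)
def n22791 : Q := act 9 n15655
theorem D22791 : act 9 n15655 = n22791 := rfl
theorem F97821 : act 1 n22791 = n15664 := d16_1 D22791 (iv D15664) (iv F68410)
def n22793 : Q := act 9 n15656
theorem D22793 : act 9 n15656 = n22793 := rfl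
theorem F97827 : act 1 n22793 = n15666 := d16_1 D22793 (iv D15666) (iv F68413)
theorem F97831 : act 7 n22793 = n15787 := d43_1 D22793 (iv D15787) (iv F68416)
def n22797 : Q := act 3 n15661
theorem D22797 : act 3 n15661 = n22797 := rfl
def n22798 : Q := act 9 n15661
theorem D22798 : act 9 n15661 = n22798 := rfl
theorem F97853 : act 5 n22798 = n15664 := d38_1 D22798 (iv D15664) (iv F68437)
def n22800 : Q := act 9 n15662
theorem D22800 : act 9 n15662 = n22800 := rfl
theorem F97863 : act 7 n22800 = n15664 := d43_1 D22800 (iv D15664) (iv F68443)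
def n22801 : Q := act 2 n15663
theorem D22801 : act 2 n15663 = n22801 := rfl
theorem F97865 : act 3 n22801 = n16075 := d17_2 D15663 D22801 (iv D16075) (iv D11052) (iv F48018)
theorem F97867 : act 6 n22801 = n15665 := d20_2 (iv F68446) D22801 (iv D15665)
def n22802 : Q := act 9 n15663
theorem D22802 : act 9 n15663 = n22802 := rfl
def n22803 : Q := act 1 n15665
theorem D22803 : act 1 n15665 = n22803 := rfl
theorem F97872 : act 3 n22803 = n16077 := d10_2 (iv F68452) D22803 (iv D16077)
theorem F97875 : act 7 n22803 = n15797 := d14_2 (iv F68455) D22803 (iv D15797)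
def n22804 : Q := act 9 n15665
theorem D22804 : act 9 n15665 = n22804 := rfl
theorem F97877 : act 2 n22804 = n15666 := d23_1 D22804 (iv D15666) D15665
theorem F97878 : act 3 n22804 = n16078 := d29_1 D22804 (iv D16078) (iv F68452)
theorem F97881 : act 7 n22804 = n15798 := d43_1 D22804 (iv D15798) (iv F68455)
def n22808 : Q := act 8 n15668
theorem D22808 : act 8 n15668 = n22808 := rfl
theorem F97898 : act 4 n22808 = n15686 := d33_1 D22808 (iv D15686) (iv F68469)
theorem F97899 : act 6 n22808 = n15802 := d40_1 D22808 (iv D15802) (iv F68470)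
def n22818 : Q := act 9 n15673
theorem D22818 : act 9 n15673 = n22818 := rfl
theorem F97943 : act 4 n22818 = n15696 := d34_1 D22818 (iv D15696) (iv F68493)
theorem F97944 : act 6 n22818 = n15812 := d41_1 D22818 (iv D15812) (iv F68494)
def n22831 : Q := act 5 n15684
theorem D22831 : act 5 n15684 = n22831 := rfl
theorem F97997 : act 1 n22831 = n15685 := d12_1 D22831 (iv D15685) D15684
theorem F97998 : act 2 n22831 = n17496 := d19_1 D22831 (iv D17496) (iv F68539)
def n22832 : Q := act 8 n15684
theorem D22832 : act 8 n15684 = n22832 := rfl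
theorem F98001 : act 1 n22832 = n15686 := d15_1 D22832 (iv D15686) D15684
theorem F98002 : act 2 n22832 = n17497 := d22_1 D22832 (iv D17497) (iv F68539)
theorem F98003 : act 6 n22832 = n15826 := d40_1 D22832 (iv D15826) (iv F68540)
def n22834 : Q := act 6 n15685
theorem D22834 : act 6 n15685 = n22834 := rfl
theorem F98009 : act 5 n22834 = n15828 := d35_1 D22834 (iv D15828) (iv D10884) (iv F48093) D15685
def n22835 : Q := act 8 n15685
theorem D22835 : act 8 n15685 = n22835 := rfl
def n22836 : Q := act 3 n15686
theorem D22836 : act 3 n15686 = n22836 := rfl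
theorem F98015 : act 2 n22836 = n15714 := d17_1 D22836 (iv D15714) F48162 (iv F48101) (iv F68546)
theorem F98016 : act 6 n22836 = n15830 := d26_2 (iv F68547) D22836 (iv D15830)
def n22837 : Q := act 9 n15686
theorem D22837 : act 9 n15686 = n22837 := rfl
theorem F98017 : act 0 n22837 = n15696 := d8_1 D22837 (iv D15696) (iv F68545)
theorem F98019 : act 6 n22837 = n15831 := d41_1 D22837 (iv D15831) (iv F68547)
def n22838 : Q := act 6 n15687
theorem D22838 : act 6 n15687 = n22838 := rfl
theorem F98023 : act 4 n22838 = n15688 := d31_1 D22838 (iv D15688) D15687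
def n22840 : Q := act 7 n15688
theorem D22840 : act 7 n15688 = n22840 := rfl
theorem F98030 : act 3 n22840 = n15691 := d27_1 D22840 (iv D15691) (iv F68553)
theorem F98031 : act 5 n22840 = n15834 := d36_1 D22840 (iv D15834) (iv F68554)
def n22841 : Q := act 8 n15688
theorem D22841 : act 8 n15688 = n22841 := rfl
theorem F98036 : act 5 n22841 = n15835 := d37_1 D22841 (iv D15835) (iv F68554)
theorem F98037 : act 6 n22841 = n15689 := d40_1 D22841 (iv D15689) D15688
def n22842 : Q := act 9 n15689
theorem D22842 : act 9 n15689 = n22842 := rfl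
def n22846 : Q := act 7 n15693
theorem D22846 : act 7 n15693 = n22846 := rfl
theorem F98053 : act 2 n22846 = n15699 := d21_1 D22846 (iv D15699) (iv F68574)
theorem F98054 : act 5 n22846 = n15840 := d36_1 D22846 (iv D15840) (iv F68575)
def n22847 : Q := act 8 n15693
theorem D22847 : act 8 n15693 = n22847 := rfl
theorem F98058 : act 5 n22847 = n15841 := d37_1 D22847 (iv D15841) (iv F68575)
theorem F98059 : act 6 n22847 = n15694 := d40_1 D22847 (iv D15694) D15693
def n22848 : Q := act 3 n15694
theorem D22848 : act 3 n15694 = n22848 := rfl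
def n22849 : Q := act 9 n15694
theorem D22849 : act 9 n15694 = n22849 := rfl
theorem F98065 : act 5 n22849 = n15696 := d38_1 D22849 (iv D15696) (iv F68579)
def n22850 : Q := act 4 n15695
theorem D22850 : act 4 n15695 = n22850 := rfl
theorem F98069 : act 6 n22850 = n15844 := d31_2 (iv F68582) D22850 (iv D15844)
def n22851 : Q := act 9 n15695
theorem D22851 : act 9 n15695 = n22851 := rfl
theorem F98073 : act 6 n22851 = n15845 := d41_1 D22851 (iv D15845) (iv F68582)
def n22854 : Q := act 8 n15697
theorem D22854 : act 8 n15697 = n22854 := rfl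
theorem F98081 : act 4 n22854 = n15700 := d33_1 D22854 (iv D15700) (iv F68588)
theorem F98082 : act 6 n22854 = n15698 := d40_1 D22854 (iv D15698) D15697
def n22855 : Q := act 3 n15698
theorem D22855 : act 3 n15698 = n22855 := rfl
theorem F98084 : act 4 n22855 = n15733 := d24_2 (iv F68591) D22855 (iv D15733) F48208 (iv F48121)
def n22856 : Q := act 9 n15698
theorem D22856 : act 9 n15698 = n22856 := rfl
def n22857 : Q := act 8 n15699
theorem D22857 : act 8 n15699 = n22857 := rfl
theorem F98089 : act 3 n22857 = n15735 := d28_1 D22857 (iv D15735) F48211 (iv F48129) (iv F68593)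
theorem F98090 : act 5 n22857 = n15851 := d37_1 D22857 (iv D15851) (iv F68594)
def n22858 : Q := act 9 n15700
theorem D22858 : act 9 n15700 = n22858 := rfl
theorem F98094 : act 5 n22858 = n15852 := d38_1 D22858 (iv D15852) (iv F68598)
theorem F98095 : act 6 n22858 = n15701 := d41_1 D22858 (iv D15701) (iv F68599)
def n22860 : Q := act 8 n15702
theorem D22860 : act 8 n15702 = n22860 := rfl
theorem F98104 : act 4 n22860 = n15854 := d33_1 D22860 (iv D15854) (iv F68606)
theorem F98105 : act 5 n22860 = n15704 := d37_1 D22860 (iv D15704) D15702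
def n22861 : Q := act 8 n15703
theorem D22861 : act 8 n15703 = n22861 := rfl
theorem F98109 : act 7 n22861 = n15704 := d42_1 D22861 (iv D15704) D15703
def n22863 : Q := act 9 n15704
theorem D22863 : act 9 n15704 = n22863 := rfl
theorem F98116 : act 6 n22863 = n15706 := d41_1 D22863 (iv D15706) (iv F68615)
def n22866 : Q := act 9 n15707
theorem D22866 : act 9 n15707 = n22866 := rfl
theorem F98128 : act 7 n22866 = n15708 := d43_1 D22866 (iv D15708) (iv F68626)
def n22868 : Q := act 6 n15709
theorem D22868 : act 6 n15709 = n22868 := rfl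
theorem F98135 : act 0 n22868 = n16081 := d5_1 D22868 (iv D16081) (iv F68633)
theorem F98136 : act 1 n22868 = n15712 := d13_1 D22868 (iv D15712) (iv F68634)
theorem F98138 : act 5 n22868 = n15862 := d35_1 D22868 (iv D15862) (iv D10908) (iv F48156) D15709
theorem F98139 : act 9 n22868 = n15746 := d41_2 (iv F68636) D22868 (iv D15746)
def n22869 : Q := act 8 n15709
theorem D22869 : act 8 n15709 = n22869 := rfl
theorem F98141 : act 1 n22869 = n15713 := d15_1 D22869 (iv D15713) (iv F68634)
def n22870 : Q := act 3 n15710
theorem D22870 : act 3 n15710 = n22870 := rfl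
theorem F98145 : act 1 n22870 = n15714 := d10_1 D22870 (iv D15714) (iv F68638)
theorem F98146 : act 6 n22870 = n15864 := d26_2 (iv F68641) D22870 (iv D15864)
def n22871 : Q := act 9 n15710
theorem D22871 : act 9 n15710 = n22871 := rfl
theorem F98148 : act 1 n22871 = n15715 := d16_1 D22871 (iv D15715) (iv F68638)
def n22875 : Q := act 7 n15712
theorem D22875 : act 7 n15712 = n22875 := rfl
theorem F98164 : act 0 n22875 = n15724 := d6_1 D22875 (iv D15724) (iv F68646)
theorem F98165 : act 2 n22875 = n15718 := d21_1 D22875 (iv D15718) (iv F68647)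
theorem F98167 : act 9 n22875 = n15753 := d43_2 (iv F68649) D22875 (iv D15753)
def n22876 : Q := act 8 n15712
theorem D22876 : act 8 n15712 = n22876 := rfl
theorem F98170 : act 5 n22876 = n15870 := d37_1 D22876 (iv D15870) (iv F68648)
theorem F98171 : act 6 n22876 = n15713 := d40_1 D22876 (iv D15713) D15712
def n22877 : Q := act 3 n15713
theorem D22877 : act 3 n15713 = n22877 := rfl
def n22878 : Q := act 9 n15713
theorem D22878 : act 9 n15713 = n22878 := rfl
theorem F98177 : act 8 n22878 = n15756 := d44_1 D22878 (iv D15756) (iv D10835) (iv F48160) D15713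
def n22879 : Q := act 4 n15714
theorem D22879 : act 4 n15714 = n22879 := rfl
theorem F98180 : act 6 n22879 = n15873 := d31_2 (iv F68654) D22879 (iv D15873)
def n22880 : Q := act 9 n15714
theorem D22880 : act 9 n15714 = n22880 := rfl
theorem F98182 : act 3 n22880 = n15715 := d29_1 D22880 (iv D15715) D15714
theorem F98183 : act 6 n22880 = n15874 := d41_1 D22880 (iv D15874) (iv F68654)
def n22886 : Q := act 8 n15718
theorem D22886 : act 8 n15718 = n22886 := rfl
def n22887 : Q := act 9 n15719
theorem D22887 : act 9 n15719 = n22887 := rfl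
def n22888 : Q := act 6 n15721
theorem D22888 : act 6 n15721 = n22888 := rfl
theorem F98215 : act 3 n22888 = n15722 := d26_1 D22888 (iv D15722) D15721
theorem F98216 : act 9 n22888 = n15766 := d41_2 (iv F68683) D22888 (iv D15766)
def n22889 : Q := act 8 n15721
theorem D22889 : act 8 n15721 = n22889 := rfl
theorem F98217 : act 1 n22889 = n16102 := d15_1 D22889 (iv D16102) (iv F68681)
theorem F98218 : act 5 n22889 = n22889 := d37_1 D22889 (iv D22889) F68682
def n22890 : Q := act 5 n15722
theorem D22890 : act 5 n15722 = n22890 := rfl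
theorem F98223 : act 9 n22890 = n15768 := d38_2 (iv F68687) D22890 (iv D15768)
def n22891 : Q := act 7 n15722
theorem D22891 : act 7 n15722 = n22891 := rfl
theorem F98226 : act 4 n22891 = n15724 := d32_1 D22891 (iv D15724) (iv F68686)
def n22892 : Q := act 8 n15722
theorem D22892 : act 8 n15722 = n22892 := rfl
theorem F98228 : act 1 n22892 = n16105 := d15_1 D22892 (iv D16105) (iv F68684)
theorem F98229 : act 2 n22892 = n15732 := d22_1 D22892 (iv D15732) (iv F68685)
def n22894 : Q := act 9 n15723
theorem D22894 : act 9 n15723 = n22894 := rfl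
theorem F98234 : act 1 n22894 = n16107 := d16_1 D22894 (iv D16107) (iv F68688)
def n22895 : Q := act 8 n15724
theorem D22895 : act 8 n15724 = n22895 := rfl
theorem F98239 : act 1 n22895 = n16108 := d15_1 D22895 (iv D16108) (iv F68692)
theorem F98240 : act 2 n22895 = n15735 := d22_1 D22895 (iv D15735) (iv F68693)
theorem F98241 : act 5 n22895 = n15889 := d37_1 D22895 (iv D15889) (iv F68694)
theorem F98242 : act 7 n22895 = n15725 := d42_1 D22895 (iv D15725) D15724
def n22896 : Q := act 3 n15725
theorem D22896 : act 3 n15725 = n22896 := rfl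
theorem F98244 : act 5 n22896 = n15890 := d25_2 (iv F68698) D22896 (iv D15890)
theorem F98245 : act 6 n22896 = n15726 := d26_2 (iv F68699) D22896 (iv D15726)
def n22897 : Q := act 9 n15725
theorem D22897 : act 9 n15725 = n22897 := rfl
theorem F98248 : act 5 n22897 = n15891 := d38_1 D22897 (iv D15891) (iv F68698)
theorem F98249 : act 6 n22897 = n15727 := d41_1 D22897 (iv D15727) (iv F68699)
def n22898 : Q := act 4 n15726
theorem D22898 : act 4 n15726 = n22898 := rfl
def n22899 : Q := act 9 n15726
theorem D22899 : act 9 n15726 = n22899 := rfl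
def n22900 : Q := act 5 n15728
theorem D22900 : act 5 n15728 = n22900 := rfl
def n22901 : Q := act 9 n15728
theorem D22901 : act 9 n15728 = n22901 := rfl
theorem F98260 : act 6 n22901 = n15895 := d41_1 D22901 (iv D15895) (iv F68708)
def n22903 : Q := act 7 n15730
theorem D22903 : act 7 n15730 = n22903 := rfl
theorem F98265 : act 4 n22903 = n15897 := d32_1 D22903 (iv D15897) (iv F68713)
theorem F98266 : act 5 n22903 = n15731 := d36_1 D22903 (iv D15731) D15730
def n22905 : Q := act 8 n15731
theorem D22905 : act 8 n15731 = n22905 := rfl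
theorem F98273 : act 4 n22905 = n15735 := d33_1 D22905 (iv D15735) (iv F68717)
def n22906 : Q := act 3 n15732
theorem D22906 : act 3 n15732 = n22906 := rfl
def n22907 : Q := act 9 n15732
theorem D22907 : act 9 n15732 = n22907 := rfl
theorem F98280 : act 8 n22907 = n15785 := d44_1 D22907 (iv D15785) (iv D10854) (iv F48206) D15732
def n22909 : Q := act 9 n15733
theorem D22909 : act 9 n15733 = n22909 := rfl
theorem F98283 : act 3 n22909 = n15734 := d29_1 D22909 (iv D15734) D15733
def n22912 : Q := act 8 n15737
theorem D22912 : act 8 n15737 = n22912 := rfl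
theorem F98297 : act 5 n22912 = n15739 := d37_1 D22912 (iv D15739) (iv F68738)
def n22913 : Q := act 3 n15738
theorem D22913 : act 3 n15738 = n22913 := rfl
theorem F98300 : act 5 n22913 = n15740 := d25_2 (iv F68743) D22913 (iv D15740)
def n22914 : Q := act 9 n15738
theorem D22914 : act 9 n15738 = n22914 := rfl
theorem F98305 : act 5 n22914 = n15741 := d38_1 D22914 (iv D15741) (iv F68743)
def n22916 : Q := act 9 n15739
theorem D22916 : act 9 n15739 = n22916 := rfl
theorem F98314 : act 8 n22916 = n15794 := d44_1 D22916 (iv D15794) (iv D10861) (iv F48228) D15739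
def n22922 : Q := act 3 n15745
theorem D22922 : act 3 n15745 = n22922 := rfl
theorem F98330 : act 0 n22922 = n16135 := d2_1 D22922 (iv D16135) (iv F68767)
theorem F98331 : act 1 n22922 = n15750 := d10_1 D22922 (iv D15750) (iv F68768)
def n22923 : Q := act 6 n15745
theorem D22923 : act 6 n15745 = n22923 := rfl
theorem F98333 : act 0 n22923 = n16136 := d5_1 D22923 (iv D16136) (iv F68767)
theorem F98334 : act 1 n22923 = n15751 := d13_1 D22923 (iv D15751) (iv F68768)
theorem F98336 : act 4 n22923 = n15746 := d31_1 D22923 (iv D15746) D15745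
def n22924 : Q := act 8 n15745
theorem D22924 : act 8 n15745 = n22924 := rfl
theorem F98338 : act 1 n22924 = n15752 := d15_1 D22924 (iv D15752) (iv F68768)
def n22925 : Q := act 7 n15746
theorem D22925 : act 7 n15746 = n22925 := rfl
def n22926 : Q := act 8 n15746
theorem D22926 : act 8 n15746 = n22926 := rfl
theorem F98347 : act 1 n22926 = n15754 := d15_1 D22926 (iv D15754) (iv F68772)
theorem F98349 : act 5 n22926 = n15920 := d37_1 D22926 (iv D15920) (iv F68774)
theorem F98350 : act 6 n22926 = n15747 := d40_1 D22926 (iv D15747) D15746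
def n22927 : Q := act 3 n15747
theorem D22927 : act 3 n15747 = n22927 := rfl
def n22930 : Q := act 4 n15748
theorem D22930 : act 4 n15748 = n22930 := rfl
theorem F98365 : act 6 n22930 = n15924 := d31_2 (iv F68781) D22930 (iv D15924)
def n22932 : Q := act 6 n15750
theorem D22932 : act 6 n15750 = n22932 := rfl
def n22933 : Q := act 8 n15750
theorem D22933 : act 8 n15750 = n22933 := rfl
theorem F98372 : act 0 n22933 = n15767 := d7_1 D22933 (iv D15767) (iv F68787)
theorem F98373 : act 5 n22933 = n22933 := d37_1 D22933 (iv D22933) F68788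
def n22934 : Q := act 5 n15751
theorem D22934 : act 5 n15751 = n22934 := rfl
theorem F98375 : act 2 n22934 = n15759 := d19_1 D22934 (iv D15759) (iv F68790)
theorem F98376 : act 4 n22934 = n15928 := d30_1 D22934 (iv D15928) F48739 (iv F48262) (iv F68791)
def n22936 : Q := act 8 n15751
theorem D22936 : act 8 n15751 = n22936 := rfl
theorem F98382 : act 2 n22936 = n15761 := d22_1 D22936 (iv D15761) (iv F68790)
theorem F98383 : act 4 n22936 = n15754 := d33_1 D22936 (iv D15754) (iv F68791)
theorem F98384 : act 6 n22936 = n15752 := d40_1 D22936 (iv D15752) D15751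
def n22937 : Q := act 3 n15752
theorem D22937 : act 3 n15752 = n22937 := rfl
def n22938 : Q := act 9 n15752
theorem D22938 : act 9 n15752 = n22938 := rfl
def n22939 : Q := act 8 n15753
theorem D22939 : act 8 n15753 = n22939 := rfl
theorem F98392 : act 2 n22939 = n15764 := d22_1 D22939 (iv D15764) (iv F68797)
theorem F98393 : act 5 n22939 = n15933 := d37_1 D22939 (iv D15933) (iv F68798)
theorem F98394 : act 7 n22939 = n15754 := d42_1 D22939 (iv D15754) D15753
def n22940 : Q := act 3 n15754
theorem D22940 : act 3 n15754 = n22940 := rfl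
theorem F98397 : act 5 n22940 = n15934 := d25_2 (iv F68801) D22940 (iv D15934)
theorem F98398 : act 6 n22940 = n15755 := d26_2 (iv F68802) D22940 (iv D15755)
def n22941 : Q := act 9 n15754
theorem D22941 : act 9 n15754 = n22941 := rfl
def n22943 : Q := act 9 n15755
theorem D22943 : act 9 n15755 = n22943 := rfl
theorem F98407 : act 3 n22943 = n15756 := d29_1 D22943 (iv D15756) D15755
def n22945 : Q := act 9 n15757
theorem D22945 : act 9 n15757 = n22945 := rfl
theorem F98415 : act 4 n22945 = n15758 := d34_1 D22945 (iv D15758) D15757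
theorem F98416 : act 6 n22945 = n15939 := d41_1 D22945 (iv D15939) (iv F68812)
def n22946 : Q := act 8 n15758
theorem D22946 : act 8 n15758 = n22946 := rfl
def n22948 : Q := act 8 n15759
theorem D22948 : act 8 n15759 = n22948 := rfl
theorem F98426 : act 4 n22948 = n15942 := d33_1 D22948 (iv D15942) (iv F68819)
theorem F98427 : act 5 n22948 = n15761 := d37_1 D22948 (iv D15761) D15759
def n22950 : Q := act 3 n15761
theorem D22950 : act 3 n15761 = n22950 := rfl
def n22953 : Q := act 9 n15762
theorem D22953 : act 9 n15762 = n22953 := rfl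
theorem F98446 : act 3 n22953 = n15763 := d29_1 D22953 (iv D15763) D15762
def n22954 : Q := act 9 n15764
theorem D22954 : act 9 n15764 = n22954 := rfl
def n22955 : Q := act 5 n15766
theorem D22955 : act 5 n15766 = n22955 := rfl
theorem F98454 : act 1 n22955 = n16168 := d12_1 D22955 (iv D16168) (iv F68846)
theorem F98455 : act 3 n22955 = n15768 := d25_1 D22955 (iv D15768) (iv F68847)
def n22956 : Q := act 7 n15766
theorem D22956 : act 7 n15766 = n22956 := rfl
def n22957 : Q := act 8 n15766
theorem D22957 : act 8 n15766 = n22957 := rfl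
theorem F98459 : act 1 n22957 = n16170 := d15_1 D22957 (iv D16170) (iv F68846)
theorem F98460 : act 6 n22957 = n15767 := d40_1 D22957 (iv D15767) D15766
def n22958 : Q := act 3 n15767
theorem D22958 : act 3 n15767 = n22958 := rfl
theorem F98463 : act 8 n22958 = n15771 := d28_2 D15767 D22958 (iv D15771) (iv D10845) D10843
def n22959 : Q := act 9 n15767
theorem D22959 : act 9 n15767 = n22959 := rfl
theorem F98464 : act 1 n22959 = n16172 := d16_1 D22959 (iv D16172) (iv F68848)
theorem F98465 : act 5 n22959 = n22959 := d38_1 D22959 (iv D22959) F68849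
def n22960 : Q := act 7 n15768
theorem D22960 : act 7 n15768 = n22960 := rfl
theorem F98466 : act 1 n22960 = n16173 := d14_1 D22960 (iv D16173) (iv F68850)
theorem F98467 : act 2 n22960 = n15781 := d21_1 D22960 (iv D15781) (iv F68851)
theorem F98468 : act 4 n22960 = n15954 := d32_1 D22960 (iv D15954) (iv F68852)
def n22961 : Q := act 8 n15768
theorem D22961 : act 8 n15768 = n22961 := rfl
theorem F98470 : act 1 n22961 = n16174 := d15_1 D22961 (iv D16174) (iv F68850)
theorem F98471 : act 2 n22961 = n15782 := d22_1 D22961 (iv D15782) (iv F68851)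
theorem F98472 : act 4 n22961 = n15955 := d33_1 D22961 (iv D15955) (iv F68852)
def n22964 : Q := act 9 n15770
theorem D22964 : act 9 n15770 = n22964 := rfl
theorem F98481 : act 1 n22964 = n16177 := d16_1 D22964 (iv D16177) (iv F68857)
theorem F98483 : act 4 n22964 = n15775 := d34_1 D22964 (iv D15775) (iv F68859)
def n22966 : Q := act 4 n15771
theorem D22966 : act 4 n15771 = n22966 := rfl
def n22967 : Q := act 9 n15771
theorem D22967 : act 9 n15771 = n22967 := rfl
theorem F98489 : act 1 n22967 = n16180 := d16_1 D22967 (iv D16180) (iv F68861)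
def n22968 : Q := act 3 n15773
theorem D22968 : act 3 n15773 = n22968 := rfl
theorem F98494 : act 5 n22968 = n15962 := d25_2 (iv F68869) D22968 (iv D15962)
def n22969 : Q := act 9 n15773
theorem D22969 : act 9 n15773 = n22969 := rfl
theorem F98498 : act 5 n22969 = n15963 := d38_1 D22969 (iv D15963) (iv F68869)
def n22970 : Q := act 4 n15774
theorem D22970 : act 4 n15774 = n22970 := rfl
theorem F98502 : act 6 n22970 = n15776 := d31_2 (iv F68874) D22970 (iv D15776)
def n22971 : Q := act 9 n15774
theorem D22971 : act 9 n15774 = n22971 := rfl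
theorem F98503 : act 1 n22971 = n16184 := d16_1 D22971 (iv D16184) (iv F68871)
theorem F98506 : act 5 n22971 = n15965 := d38_1 D22971 (iv D15965) (iv F68873)
theorem F98507 : act 6 n22971 = n15777 := d41_1 D22971 (iv D15777) (iv F68874)
def n22972 : Q := act 5 n15776
theorem D22972 : act 5 n15776 = n22972 := rfl
theorem F98508 : act 1 n22972 = n16185 := d12_1 D22972 (iv D16185) (iv F68879)
theorem F98509 : act 2 n22972 = n22972 := d19_1 D22972 (iv D22972) F68880
theorem F98510 : act 4 n22972 = n15778 := d30_1 D22972 (iv D15778) (iv D10850) (iv F48311) D15776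
def n22973 : Q := act 9 n15776
theorem D22973 : act 9 n15776 = n22973 := rfl
theorem F98513 : act 4 n22973 = n15777 := d34_1 D22973 (iv D15777) D15776
def n22974 : Q := act 8 n15777
theorem D22974 : act 8 n15777 = n22974 := rfl
def n22975 : Q := act 6 n15778
theorem D22975 : act 6 n15778 = n22975 := rfl
theorem F98517 : act 1 n22975 = n16188 := d13_1 D22975 (iv D16188) (iv F68885)
theorem F98518 : act 2 n22975 = n22975 := d20_1 D22975 (iv D22975) F68886
theorem F98519 : act 3 n22975 = n22975 := d26_1 D22975 (iv D22975) F68887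
theorem F98520 : act 5 n22975 = n15969 := d35_1 D22975 (iv D15969) (iv D10977) (iv F48318) D15778
def n22976 : Q := act 9 n15778
theorem D22976 : act 9 n15778 = n22976 := rfl
theorem F98524 : act 5 n22976 = n15779 := d38_1 D22976 (iv D15779) D15778
def n22977 : Q := act 8 n15779
theorem D22977 : act 8 n15779 = n22977 := rfl
theorem F98528 : act 6 n22977 = n15971 := d40_1 D22977 (iv D15971) (iv F68892)
def n22979 : Q := act 8 n15781
theorem D22979 : act 8 n15781 = n22979 := rfl
theorem F98533 : act 4 n22979 = n15973 := d33_1 D22979 (iv D15973) (iv F68897)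
theorem F98534 : act 5 n22979 = n15783 := d37_1 D22979 (iv D15783) (iv F68898)
def n22980 : Q := act 3 n15782
theorem D22980 : act 3 n15782 = n22980 := rfl
theorem F98537 : act 5 n22980 = n15784 := d25_2 (iv F68901) D22980 (iv D15784)
def n22981 : Q := act 9 n15782
theorem D22981 : act 9 n15782 = n22981 := rfl
theorem F98539 : act 1 n22981 = n15792 := d16_1 D22981 (iv D15792) (iv F68899)
theorem F98540 : act 4 n22981 = n15975 := d34_1 D22981 (iv D15975) (iv F68900)
def n22983 : Q := act 9 n15783
theorem D22983 : act 9 n15783 = n22983 := rfl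
theorem F98546 : act 1 n22983 = n15794 := d16_1 D22983 (iv D15794) (iv F68903)
theorem F98547 : act 4 n22983 = n15788 := d34_1 D22983 (iv D15788) (iv F68904)
def n22988 : Q := act 8 n15787
theorem D22988 : act 8 n15787 = n22988 := rfl
def n22991 : Q := act 9 n15790
theorem D22991 : act 9 n15790 = n22991 := rfl
theorem F98575 : act 5 n22991 = n15794 := d38_1 D22991 (iv D15794) (iv F68929)
def n22992 : Q := act 2 n15791
theorem D22992 : act 2 n15791 = n22992 := rfl
theorem F98578 : act 3 n22992 = n16205 := d17_2 D15791 D22992 (iv D16205) (iv D11139) (iv F48350)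
def n22993 : Q := act 4 n15791
theorem D22993 : act 4 n15791 = n22993 := rfl
theorem F98582 : act 3 n22993 = n15985 := d24_1 D22993 (iv D15985) (iv D10990) (iv F48351) D15791
def n22994 : Q := act 9 n15791
theorem D22994 : act 9 n15791 = n22994 := rfl
def n23000 : Q := act 0 n15797
theorem D23000 : act 0 n15797 = n23000 := rfl
theorem F98609 : act 3 n23000 = n16212 := d2_2 (iv F68954) D23000 (iv D16212)
def n23001 : Q := act 9 n15797
theorem D23001 : act 9 n15797 = n23001 := rfl
theorem F98613 : act 3 n23001 = n16213 := d29_1 D23001 (iv D16213) (iv F68954)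
def n23004 : Q := act 8 n15800
theorem D23004 : act 8 n15800 = n23004 := rfl
theorem F98629 : act 4 n23004 = n15826 := d33_1 D23004 (iv D15826) (iv F68968)
def n23009 : Q := act 9 n15802
theorem D23009 : act 9 n15802 = n23009 := rfl
theorem F98650 : act 4 n23009 = n15831 := d34_1 D23009 (iv D15831) (iv F68978)
def n23037 : Q := act 9 n15821
theorem D23037 : act 9 n15821 = n23037 := rfl
theorem F98780 : act 3 n23037 = n15822 := d29_1 D23037 (iv D15822) D15821
theorem F98782 : act 5 n23037 = n15859 := d38_1 D23037 (iv D15859) (iv F69067)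
def n23041 : Q := act 8 n15825
theorem D23041 : act 8 n15825 = n23041 := rfl
theorem F98800 : act 1 n23041 = n15829 := d15_1 D23041 (iv D15829) (iv F69087)
theorem F98802 : act 5 n23041 = n15826 := d37_1 D23041 (iv D15826) D15825
def n23042 : Q := act 3 n15826
theorem D23042 : act 3 n15826 = n23042 := rfl
theorem F98805 : act 1 n23042 = n15830 := d10_1 D23042 (iv D15830) (iv F69092)
def n23043 : Q := act 9 n15826
theorem D23043 : act 9 n15826 = n23043 := rfl
def n23046 : Q := act 8 n15827
theorem D23046 : act 8 n15827 = n23046 := rfl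
theorem F98821 : act 2 n23046 = n15833 := d22_1 D23046 (iv D15833) (iv F69096)
theorem F98822 : act 4 n23046 = n15829 := d33_1 D23046 (iv D15829) D15827
def n23048 : Q := act 8 n15828
theorem D23048 : act 8 n15828 = n23048 := rfl
theorem F98829 : act 2 n23048 = n15835 := d22_1 D23048 (iv D15835) (iv F69100)
theorem F98830 : act 6 n23048 = n15829 := d40_1 D23048 (iv D15829) D15828
def n23049 : Q := act 3 n15829
theorem D23049 : act 3 n15829 = n23049 := rfl
theorem F98833 : act 5 n23049 = n15830 := d25_2 (iv F69104) D23049 (iv D15830)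
def n23050 : Q := act 9 n15829
theorem D23050 : act 9 n15829 = n23050 := rfl
theorem F98837 : act 5 n23050 = n15831 := d38_1 D23050 (iv D15831) (iv F69104)
def n23051 : Q := act 4 n15830
theorem D23051 : act 4 n15830 = n23051 := rfl
def n23052 : Q := act 9 n15830
theorem D23052 : act 9 n15830 = n23052 := rfl
def n23053 : Q := act 5 n15832
theorem D23053 : act 5 n15832 = n23053 := rfl
def n23055 : Q := act 8 n15832
theorem D23055 : act 8 n15832 = n23055 := rfl
theorem F98860 : act 6 n23055 = n15833 := d40_1 D23055 (iv D15833) D15832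
def n23056 : Q := act 3 n15833
theorem D23056 : act 3 n15833 = n23056 := rfl
theorem F98861 : act 0 n23056 = n15849 := d2_1 D23056 (iv D15849) (iv F69118)
def n23057 : Q := act 9 n15833
theorem D23057 : act 9 n15833 = n23057 := rfl
theorem F98868 : act 4 n23057 = n15836 := d34_1 D23057 (iv D15836) (iv F69120)
def n23058 : Q := act 8 n15834
theorem D23058 : act 8 n15834 = n23058 := rfl
theorem F98873 : act 3 n23058 = n15880 := d28_1 D23058 (iv D15880) F48603 (iv F48490) (iv F69124)
def n23059 : Q := act 9 n15835
theorem D23059 : act 9 n15835 = n23059 := rfl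
theorem F98879 : act 6 n23059 = n15836 := d41_1 D23059 (iv D15836) (iv F69130)
def n23065 : Q := act 3 n15839
theorem D23065 : act 3 n15839 = n23065 := rfl
def n23066 : Q := act 9 n15839
theorem D23066 : act 9 n15839 = n23066 := rfl
theorem F98903 : act 2 n23066 = n15850 := d23_1 D23066 (iv D15850) (iv F69146)
theorem F98904 : act 4 n23066 = n15843 := d34_1 D23066 (iv D15843) (iv F69147)
def n23067 : Q := act 8 n15840
theorem D23067 : act 8 n15840 = n23067 := rfl
theorem F98910 : act 7 n23067 = n15841 := d42_1 D23067 (iv D15841) D15840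
def n23068 : Q := act 3 n15841
theorem D23068 : act 3 n15841 = n23068 := rfl
theorem F98913 : act 6 n23068 = n15842 := d26_2 (iv F69155) D23068 (iv D15842)
def n23069 : Q := act 9 n15841
theorem D23069 : act 9 n15841 = n23069 := rfl
theorem F98916 : act 6 n23069 = n15843 := d41_1 D23069 (iv D15843) (iv F69155)
def n23070 : Q := act 4 n15842
theorem D23070 : act 4 n15842 = n23070 := rfl
def n23071 : Q := act 9 n15842
theorem D23071 : act 9 n15842 = n23071 := rfl
theorem F98923 : act 3 n23071 = n15843 := d29_1 D23071 (iv D15843) D15842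
theorem F98924 : act 5 n23071 = n15845 := d38_1 D23071 (iv D15845) (iv F69158)
def n23072 : Q := act 5 n15844
theorem D23072 : act 5 n15844 = n23072 := rfl
def n23073 : Q := act 9 n15844
theorem D23073 : act 9 n15844 = n23073 := rfl
theorem F98931 : act 4 n23073 = n15845 := d34_1 D23073 (iv D15845) D15844
def n23077 : Q := act 8 n15847
theorem D23077 : act 8 n15847 = n23077 := rfl
theorem F98943 : act 1 n23077 = n15855 := d15_1 D23077 (iv D15855) (iv F69175)
theorem F98944 : act 4 n23077 = n15851 := d33_1 D23077 (iv D15851) (iv F69177)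
theorem F98946 : act 7 n23077 = n15848 := d42_1 D23077 (iv D15848) D15847
def n23078 : Q := act 3 n15848
theorem D23078 : act 3 n15848 = n23078 := rfl
theorem F98949 : act 6 n23078 = n15849 := d26_2 (iv F69182) D23078 (iv D15849)
def n23079 : Q := act 9 n15848
theorem D23079 : act 9 n15848 = n23079 := rfl
theorem F98953 : act 6 n23079 = n15850 := d41_1 D23079 (iv D15850) (iv F69182)
def n23080 : Q := act 2 n15849
theorem D23080 : act 2 n15849 = n23080 := rfl
def n23081 : Q := act 9 n15849
theorem D23081 : act 9 n15849 = n23081 := rfl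
theorem F98958 : act 1 n23081 = n15859 := d16_1 D23081 (iv D15859) (iv F69183)
theorem F98959 : act 3 n23081 = n15850 := d29_1 D23081 (iv D15850) D15849
theorem F98960 : act 4 n23081 = n15903 := d34_1 D23081 (iv D15903) (iv F69184)
def n23086 : Q := act 9 n15854
theorem D23086 : act 9 n15854 = n23086 := rfl
theorem F98981 : act 5 n23086 = n15857 := d38_1 D23086 (iv D15857) (iv F69206)
def n23087 : Q := act 3 n15855
theorem D23087 : act 3 n15855 = n23087 := rfl
def n23090 : Q := act 9 n15856
theorem D23090 : act 9 n15856 = n23090 := rfl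
theorem F99000 : act 3 n23090 = n15857 := d29_1 D23090 (iv D15857) D15856
theorem F99002 : act 6 n23090 = n15859 := d41_1 D23090 (iv D15859) (iv F69214)
def n23092 : Q := act 9 n15858
theorem D23092 : act 9 n15858 = n23092 := rfl
theorem F99007 : act 0 n23092 = n17782 := d8_1 D23092 (iv D17782) (iv F69221)
theorem F99008 : act 2 n23092 = n15859 := d23_1 D23092 (iv D15859) D15858
theorem F99010 : act 4 n23092 = n15914 := d34_1 D23092 (iv D15914) (iv F69223)
def n23093 : Q := act 8 n15859
theorem D23093 : act 8 n15859 = n23093 := rfl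
theorem F99014 : act 4 n23093 = n15915 := d33_1 D23093 (iv D15915) (iv F69228)
def n23094 : Q := act 3 n15861
theorem D23094 : act 3 n15861 = n23094 := rfl
theorem F99021 : act 9 n23094 = n15916 := d29_2 (iv F69241) D23094 (iv D15916)
def n23095 : Q := act 6 n15861
theorem D23095 : act 6 n15861 = n23095 := rfl
theorem F99025 : act 4 n23095 = n15862 := d31_1 D23095 (iv D15862) D15861
theorem F99026 : act 9 n23095 = n15917 := d41_2 (iv F69241) D23095 (iv D15917)
def n23096 : Q := act 8 n15861
theorem D23096 : act 8 n15861 = n23096 := rfl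
theorem F99030 : act 4 n23096 = n15863 := d33_1 D23096 (iv D15863) D15861
def n23097 : Q := act 7 n15862
theorem D23097 : act 7 n15862 = n23097 := rfl
theorem F99033 : act 0 n23097 = n16218 := d6_1 D23097 (iv D16218) (iv F69242)
theorem F99034 : act 1 n23097 = n15869 := d14_1 D23097 (iv D15869) (iv F69243)
theorem F99037 : act 9 n23097 = n15919 := d43_2 (iv F69245) D23097 (iv D15919)
def n23098 : Q := act 8 n15862
theorem D23098 : act 8 n15862 = n23098 := rfl
def n23099 : Q := act 3 n15863
theorem D23099 : act 3 n15863 = n23099 := rfl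
theorem F99044 : act 5 n23099 = n15864 := d25_2 (iv F69249) D23099 (iv D15864)
def n23101 : Q := act 2 n15864
theorem D23101 : act 2 n15864 = n23101 := rfl
def n23104 : Q := act 6 n15866
theorem D23104 : act 6 n15866 = n23104 := rfl
theorem F99063 : act 0 n23104 = n15882 := d5_1 D23104 (iv D15882) (iv F69260)
theorem F99065 : act 3 n23104 = n15867 := d26_1 D23104 (iv D15867) D15866
theorem F99066 : act 9 n23104 = n15926 := d41_2 (iv F69264) D23104 (iv D15926)
def n23105 : Q := act 8 n15866
theorem D23105 : act 8 n15866 = n23105 := rfl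
theorem F99067 : act 0 n23105 = n15883 := d7_1 D23105 (iv D15883) (iv F69260)
def n23107 : Q := act 7 n15867
theorem D23107 : act 7 n15867 = n23107 := rfl
theorem F99075 : act 0 n23107 = n15885 := d6_1 D23107 (iv D15885) (iv F69265)
theorem F99077 : act 4 n23107 = n15869 := d32_1 D23107 (iv D15869) (iv F69267)
theorem F99079 : act 9 n23107 = n15929 := d43_2 (iv F69268) D23107 (iv D15929)
def n23108 : Q := act 8 n15867
theorem D23108 : act 8 n15867 = n23108 := rfl
theorem F99082 : act 4 n23108 = n15870 := d33_1 D23108 (iv D15870) (iv F69267)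
def n23109 : Q := act 3 n15868
theorem D23109 : act 3 n15868 = n23109 := rfl
def n23110 : Q := act 9 n15868
theorem D23110 : act 9 n15868 = n23110 := rfl
theorem F99088 : act 2 n23110 = n15879 := d23_1 D23110 (iv D15879) (iv F69270)
theorem F99089 : act 4 n23110 = n15872 := d34_1 D23110 (iv D15872) (iv F69271)
theorem F99092 : act 8 n23110 = n15932 := d44_1 D23110 (iv D15932) (iv D10951) (iv F48576) D15868
def n23111 : Q := act 8 n15869
theorem D23111 : act 8 n15869 = n23111 := rfl
theorem F99094 : act 2 n23111 = n15880 := d22_1 D23111 (iv D15880) (iv F69275)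
def n23113 : Q := act 9 n15870
theorem D23113 : act 9 n15870 = n23113 := rfl
theorem F99102 : act 8 n23113 = n15935 := d44_1 D23113 (iv D15935) (iv D10953) (iv F48579) D15870
def n23114 : Q := act 4 n15871
theorem D23114 : act 4 n15871 = n23114 := rfl
def n23115 : Q := act 9 n15871
theorem D23115 : act 9 n15871 = n23115 := rfl
theorem F99106 : act 3 n23115 = n15872 := d29_1 D23115 (iv D15872) D15871
theorem F99107 : act 5 n23115 = n15874 := d38_1 D23115 (iv D15874) (iv F69282)
def n23116 : Q := act 5 n15873
theorem D23116 : act 5 n15873 = n23116 := rfl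
theorem F99109 : act 0 n23116 = n15894 := d4_1 D23116 (iv D15894) (iv F69289)
def n23117 : Q := act 9 n15873
theorem D23117 : act 9 n15873 = n23117 := rfl
def n23118 : Q := act 8 n15874
theorem D23118 : act 8 n15874 = n23118 := rfl
theorem F99117 : act 3 n23118 = n15940 := d28_1 D23118 (iv D15940) F48765 (iv F48590) (iv F69293)
def n23121 : Q := act 8 n15876
theorem D23121 : act 8 n15876 = n23121 := rfl
theorem F99130 : act 4 n23121 = n15880 := d33_1 D23121 (iv D15880) (iv F69303)
def n23122 : Q := act 3 n15877
theorem D23122 : act 3 n15877 = n23122 := rfl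
theorem F99135 : act 6 n23122 = n15878 := d26_2 (iv F69309) D23122 (iv D15878)
def n23123 : Q := act 9 n15877
theorem D23123 : act 9 n15877 = n23123 := rfl
theorem F99139 : act 4 n23123 = n15881 := d34_1 D23123 (iv D15881) (iv F69308)
theorem F99140 : act 6 n23123 = n15879 := d41_1 D23123 (iv D15879) (iv F69309)
def n23124 : Q := act 2 n15878
theorem D23124 : act 2 n15878 = n23124 := rfl
def n23125 : Q := act 9 n15878
theorem D23125 : act 9 n15878 = n23125 := rfl
theorem F99146 : act 0 n23125 = n15903 := d8_1 D23125 (iv D15903) (iv F69310)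
theorem F99148 : act 3 n23125 = n15879 := d29_1 D23125 (iv D15879) D15878
def n23127 : Q := act 5 n15882
theorem D23127 : act 5 n15882 = n23127 := rfl
theorem F99156 : act 1 n23127 = n16248 := d12_1 D23127 (iv D16248) (iv F69329)
theorem F99157 : act 2 n23127 = n23127 := d19_1 D23127 (iv D23127) F69330
theorem F99158 : act 3 n23127 = n15884 := d25_1 D23127 (iv D15884) (iv F69331)
theorem F99159 : act 6 n23127 = n23127 := d35_2 D15882 D23127 (iv D23127) (iv D15882) F48616
theorem F99160 : act 9 n23127 = n15949 := d38_2 (iv F69332) D23127 (iv D15949)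
def n23128 : Q := act 7 n15882
theorem D23128 : act 7 n15882 = n23128 := rfl
theorem F99161 : act 1 n23128 = n16249 := d14_1 D23128 (iv D16249) (iv F69329)
theorem F99162 : act 2 n23128 = n23128 := d21_1 D23128 (iv D23128) F69330
theorem F99163 : act 3 n23128 = n15885 := d27_1 D23128 (iv D15885) (iv F69331)
theorem F99164 : act 6 n23128 = n23128 := d39_1 D23128 (iv D23128) (iv D15882) F48617 D15882
theorem F99165 : act 9 n23128 = n15950 := d43_2 (iv F69332) D23128 (iv D15950)
def n23129 : Q := act 8 n15882
theorem D23129 : act 8 n15882 = n23129 := rfl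
theorem F99166 : act 1 n23129 = n16250 := d15_1 D23129 (iv D16250) (iv F69329)
theorem F99167 : act 2 n23129 = n23129 := d22_1 D23129 (iv D23129) F69330
theorem F99168 : act 6 n23129 = n15883 := d40_1 D23129 (iv D15883) D15882
def n23130 : Q := act 3 n15883
theorem D23130 : act 3 n15883 = n23130 := rfl
theorem F99169 : act 1 n23130 = n16251 := d10_1 D23130 (iv D16251) (iv F69333)
theorem F99172 : act 8 n23130 = n15887 := d28_2 D15883 D23130 (iv D15887) (iv D10922) D10920
def n23131 : Q := act 9 n15883
theorem D23131 : act 9 n15883 = n23131 := rfl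
theorem F99173 : act 1 n23131 = n16252 := d16_1 D23131 (iv D16252) (iv F69333)
theorem F99174 : act 2 n23131 = n23131 := d23_1 D23131 (iv D23131) F69334
theorem F99175 : act 5 n23131 = n23131 := d38_1 D23131 (iv D23131) F69335
theorem F99176 : act 7 n23131 = n23131 := d43_1 D23131 (iv D23131) F69336
theorem F99177 : act 8 n23131 = n15953 := d44_1 D23131 (iv D15953) (iv D10966) (iv F48618) D15883
def n23132 : Q := act 7 n15884
theorem D23132 : act 7 n15884 = n23132 := rfl
theorem F99180 : act 5 n23132 = n15885 := d36_1 D23132 (iv D15885) D15884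
def n23133 : Q := act 8 n15884
theorem D23133 : act 8 n15884 = n23133 := rfl
theorem F99182 : act 1 n23133 = n16254 := d15_1 D23133 (iv D16254) (iv F69337)
theorem F99183 : act 2 n23133 = n15898 := d22_1 D23133 (iv D15898) (iv F69338)
def n23134 : Q := act 8 n15885
theorem D23134 : act 8 n15885 = n23134 := rfl
theorem F99188 : act 4 n23134 = n15889 := d33_1 D23134 (iv D15889) (iv F69343)
theorem F99190 : act 7 n23134 = n15886 := d42_1 D23134 (iv D15886) D15885
def n23135 : Q := act 3 n15886
theorem D23135 : act 3 n15886 = n23135 := rfl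
theorem F99191 : act 1 n23135 = n16256 := d10_1 D23135 (iv D16256) (iv F69346)
theorem F99192 : act 6 n23135 = n15887 := d26_2 (iv F69349) D23135 (iv D15887)
def n23136 : Q := act 9 n15886
theorem D23136 : act 9 n15886 = n23136 := rfl
theorem F99195 : act 4 n23136 = n15891 := d34_1 D23136 (iv D15891) (iv F69348)
def n23137 : Q := act 2 n15887
theorem D23137 : act 2 n15887 = n23137 := rfl
theorem F99198 : act 3 n23137 = n15902 := d17_2 D15887 D23137 (iv D15902) (iv D10932) (iv F48624)
def n23138 : Q := act 4 n15887
theorem D23138 : act 4 n15887 = n23138 := rfl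
theorem F99202 : act 3 n23138 = n15892 := d24_1 D23138 (iv D15892) (iv D10925) (iv F48625) D15887
def n23139 : Q := act 9 n15887
theorem D23139 : act 9 n15887 = n23139 := rfl
theorem F99204 : act 1 n23139 = n16260 := d16_1 D23139 (iv D16260) (iv F69350)
theorem F99205 : act 3 n23139 = n15888 := d29_1 D23139 (iv D15888) D15887
def n23142 : Q := act 4 n15890
theorem D23142 : act 4 n15890 = n23142 := rfl
theorem F99217 : act 6 n23142 = n15892 := d31_2 (iv F69364) D23142 (iv D15892)
def n23143 : Q := act 9 n15890
theorem D23143 : act 9 n15890 = n23143 := rfl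
theorem F99220 : act 6 n23143 = n15893 := d41_1 D23143 (iv D15893) (iv F69364)
def n23144 : Q := act 5 n15892
theorem D23144 : act 5 n15892 = n23144 := rfl
theorem F99222 : act 4 n23144 = n15894 := d30_1 D23144 (iv D15894) (iv D10927) (iv F48636) D15892
def n23145 : Q := act 9 n15892
theorem D23145 : act 9 n15892 = n23145 := rfl
theorem F99225 : act 4 n23145 = n15893 := d34_1 D23145 (iv D15893) D15892
def n23147 : Q := act 6 n15894
theorem D23147 : act 6 n15894 = n23147 := rfl
def n23148 : Q := act 9 n15894
theorem D23148 : act 9 n15894 = n23148 := rfl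
theorem F99235 : act 5 n23148 = n15895 := d38_1 D23148 (iv D15895) D15894
def n23151 : Q := act 8 n15897
theorem D23151 : act 8 n15897 = n23151 := rfl
theorem F99246 : act 5 n23151 = n15899 := d37_1 D23151 (iv D15899) (iv F69387)
def n23152 : Q := act 3 n15898
theorem D23152 : act 3 n15898 = n23152 := rfl
theorem F99249 : act 5 n23152 = n15900 := d25_2 (iv F69390) D23152 (iv D15900)
def n23153 : Q := act 9 n15898
theorem D23153 : act 9 n15898 = n23153 := rfl
theorem F99253 : act 5 n23153 = n15901 := d38_1 D23153 (iv D15901) (iv F69390)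
theorem F99255 : act 8 n23153 = n15975 := d44_1 D23153 (iv D15975) (iv D10981) (iv F48652) D15898
def n23154 : Q := act 3 n15899
theorem D23154 : act 3 n15899 = n23154 := rfl
theorem F99258 : act 7 n23154 = n15900 := d27_2 (iv F69395) D23154 (iv D15900)
def n23156 : Q := act 2 n15900
theorem D23156 : act 2 n15900 = n23156 := rfl
theorem F99265 : act 6 n23156 = n15902 := d20_2 (iv F69397) D23156 (iv D15902)
def n23157 : Q := act 9 n15900
theorem D23157 : act 9 n15900 = n23157 := rfl
theorem F99268 : act 3 n23157 = n15901 := d29_1 D23157 (iv D15901) D15900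
theorem F99269 : act 6 n23157 = n15903 := d41_1 D23157 (iv D15903) (iv F69397)
def n23158 : Q := act 1 n15902
theorem D23158 : act 1 n15902 = n23158 := rfl
theorem F99270 : act 2 n23158 = n15913 := d9_2 D15902 D23158 (iv D15913) (iv D10941) (iv F48661)
def n23159 : Q := act 9 n15902
theorem D23159 : act 9 n15902 = n23159 := rfl
theorem F99274 : act 2 n23159 = n15903 := d23_1 D23159 (iv D15903) D15902
def n23160 : Q := act 8 n15903
theorem D23160 : act 8 n15903 = n23160 := rfl
theorem F99278 : act 3 n23160 = n15981 := d28_1 D23160 (iv D15981) F48879 (iv F48669) (iv F69407)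
def n23163 : Q := act 9 n15906
theorem D23163 : act 9 n15906 = n23163 := rfl
theorem F99295 : act 8 n23163 = n15984 := d44_1 D23163 (iv D15984) (iv D10989) (iv F48680) D15906
def n23165 : Q := act 4 n15907
theorem D23165 : act 4 n15907 = n23165 := rfl
def n23166 : Q := act 9 n15907
theorem D23166 : act 9 n15907 = n23166 := rfl
theorem F99305 : act 3 n23166 = n15908 := d29_1 D23166 (iv D15908) D15907
theorem F99306 : act 5 n23166 = n15912 := d38_1 D23166 (iv D15912) (iv F69425)
def n23167 : Q := act 2 n15909
theorem D23167 : act 2 n15909 = n23167 := rfl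
theorem F99311 : act 7 n23167 = n15911 := d21_2 (iv F69435) D23167 (iv D15911)
def n23169 : Q := act 1 n15911
theorem D23169 : act 1 n15911 = n23169 := rfl
theorem F99318 : act 6 n23169 = n15913 := d13_2 (iv F69445) D23169 (iv D15913)
def n23170 : Q := act 9 n15911
theorem D23170 : act 9 n15911 = n23170 := rfl
theorem F99323 : act 6 n23170 = n15914 := d41_1 D23170 (iv D15914) (iv F69445)
def n23171 : Q := act 8 n15912
theorem D23171 : act 8 n15912 = n23171 := rfl
theorem F99326 : act 6 n23171 = n15915 := d40_1 D23171 (iv D15915) (iv F69449)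
def n23172 : Q := act 0 n15913
theorem D23172 : act 0 n15913 = n23172 := rfl
theorem F99329 : act 3 n23172 = n16291 := d2_2 (iv F69450) D23172 (iv D16291)
def n23173 : Q := act 9 n15913
theorem D23173 : act 9 n15913 = n23173 := rfl
theorem F99333 : act 1 n23173 = n15914 := d16_1 D23173 (iv D15914) D15913
theorem F99334 : act 3 n23173 = n16292 := d29_1 D23173 (iv D16292) (iv F69450)
def n23174 : Q := act 8 n15914
theorem D23174 : act 8 n15914 = n23174 := rfl
theorem F99339 : act 3 n23174 = n23174 := d28_1 D23174 (iv D23174) F69456 F49732 (iv F69456)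
theorem F99340 : act 5 n23174 = n23174 := d37_1 D23174 (iv D23174) F69457
def n23175 : Q := act 2 n15916
theorem D23175 : act 2 n15916 = n23175 := rfl
theorem F99343 : act 0 n23175 = n16293 := d1_1 D23175 (iv D16293) (iv F69464)
theorem F99344 : act 1 n23175 = n23175 := d9_1 D23175 (iv D23175) F69465 F48734 (iv F69465)
theorem F99346 : act 5 n23175 = n23175 := d19_2 F69466 D23175 (iv D23175)
theorem F99347 : act 7 n23175 = n23175 := d21_2 F69467 D23175 (iv D23175)
def n23176 : Q := act 6 n15916
theorem D23176 : act 6 n15916 = n23176 := rfl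
theorem F99348 : act 0 n23176 = n16294 := d5_1 D23176 (iv D16294) (iv F69464)
theorem F99349 : act 1 n23176 = n15926 := d13_1 D23176 (iv D15926) (iv F69465)
theorem F99350 : act 3 n23176 = n15917 := d26_1 D23176 (iv D15917) D15916
def n23177 : Q := act 8 n15916
theorem D23177 : act 8 n15916 = n23177 := rfl
theorem F99351 : act 0 n23177 = n16295 := d7_1 D23177 (iv D16295) (iv F69464)
theorem F99352 : act 1 n23177 = n15927 := d15_1 D23177 (iv D15927) (iv F69465)
theorem F99353 : act 5 n23177 = n23177 := d37_1 D23177 (iv D23177) F69466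
theorem F99354 : act 7 n23177 = n23177 := d42_1 D23177 (iv D23177) F69467
def n23178 : Q := act 5 n15917
theorem D23178 : act 5 n15917 = n23178 := rfl
def n23179 : Q := act 7 n15917
theorem D23179 : act 7 n15917 = n23179 := rfl
theorem F99362 : act 4 n23179 = n15919 := d32_1 D23179 (iv D15919) (iv F69471)
def n23180 : Q := act 8 n15917
theorem D23180 : act 8 n15917 = n23180 := rfl
theorem F99365 : act 1 n23180 = n15930 := d15_1 D23180 (iv D15930) (iv F69469)
theorem F99367 : act 4 n23180 = n15920 := d33_1 D23180 (iv D15920) (iv F69471)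
def n23181 : Q := act 3 n15918
theorem D23181 : act 3 n15918 = n23181 := rfl
theorem F99370 : act 1 n23181 = n15931 := d10_1 D23181 (iv D15931) (iv F69473)
def n23183 : Q := act 8 n15919
theorem D23183 : act 8 n15919 = n23183 := rfl
theorem F99380 : act 1 n23183 = n15933 := d15_1 D23183 (iv D15933) (iv F69479)
def n23184 : Q := act 3 n15920
theorem D23184 : act 3 n15920 = n23184 := rfl
def n23187 : Q := act 4 n15921
theorem D23187 : act 4 n15921 = n23187 := rfl
def n23191 : Q := act 5 n15924
theorem D23191 : act 5 n15924 = n23191 := rfl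
def n23194 : Q := act 5 n15926
theorem D23194 : act 5 n15926 = n23194 := rfl
theorem F99425 : act 0 n23194 = n15949 := d4_1 D23194 (iv D15949) (iv F69507)
theorem F99427 : act 3 n23194 = n15928 := d25_1 D23194 (iv D15928) (iv F69509)
def n23195 : Q := act 7 n15926
theorem D23195 : act 7 n15926 = n23195 := rfl
theorem F99429 : act 0 n23195 = n15950 := d6_1 D23195 (iv D15950) (iv F69507)
def n23196 : Q := act 8 n15926
theorem D23196 : act 8 n15926 = n23196 := rfl
theorem F99433 : act 0 n23196 = n15951 := d7_1 D23196 (iv D15951) (iv F69507)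
theorem F99434 : act 2 n23196 = n23196 := d22_1 D23196 (iv D23196) F69508
theorem F99435 : act 6 n23196 = n15927 := d40_1 D23196 (iv D15927) D15926
def n23197 : Q := act 3 n15927
theorem D23197 : act 3 n15927 = n23197 := rfl
theorem F99436 : act 0 n23197 = n15952 := d2_1 D23197 (iv D15952) (iv F69510)
theorem F99437 : act 5 n23197 = n23197 := d25_2 F69512 D23197 (iv D23197)
theorem F99438 : act 7 n23197 = n23197 := d27_2 F69513 D23197 (iv D23197)
theorem F99439 : act 8 n23197 = n15931 := d28_2 D15927 D23197 (iv D15931) (iv D10951) D10949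
def n23198 : Q := act 9 n15927
theorem D23198 : act 9 n15927 = n23198 := rfl
theorem F99440 : act 0 n23198 = n15953 := d8_1 D23198 (iv D15953) (iv F69510)
theorem F99441 : act 2 n23198 = n23198 := d23_1 D23198 (iv D23198) F69511
theorem F99442 : act 5 n23198 = n23198 := d38_1 D23198 (iv D23198) F69512
theorem F99443 : act 7 n23198 = n23198 := d43_1 D23198 (iv D23198) F69513
def n23200 : Q := act 8 n15928
theorem D23200 : act 8 n15928 = n23200 := rfl
theorem F99449 : act 5 n23200 = n15930 := d37_1 D23200 (iv D15930) D15928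
def n23201 : Q := act 8 n15929
theorem D23201 : act 8 n15929 = n23201 := rfl
theorem F99452 : act 2 n23201 = n15943 := d22_1 D23201 (iv D15943) (iv F69518)
theorem F99453 : act 4 n23201 = n15933 := d33_1 D23201 (iv D15933) (iv F69519)
theorem F99455 : act 7 n23201 = n15930 := d42_1 D23201 (iv D15930) D15929
def n23202 : Q := act 3 n15930
theorem D23202 : act 3 n15930 = n23202 := rfl
theorem F99456 : act 0 n23202 = n15957 := d2_1 D23202 (iv D15957) (iv F69521)
theorem F99457 : act 6 n23202 = n15931 := d26_2 (iv F69524) D23202 (iv D15931)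
def n23203 : Q := act 9 n15930
theorem D23203 : act 9 n15930 = n23203 := rfl
def n23204 : Q := act 2 n15931
theorem D23204 : act 2 n15931 = n23204 := rfl
theorem F99462 : act 0 n23204 = n15959 := d1_1 D23204 (iv D15959) (iv F69525)
theorem F99463 : act 3 n23204 = n15946 := d17_2 D15931 D23204 (iv D15946) (iv D10961) (iv F48741)
def n23205 : Q := act 4 n15931
theorem D23205 : act 4 n15931 = n23205 := rfl
theorem F99466 : act 0 n23205 = n15960 := d3_1 D23205 (iv D15960) (iv F69525)
theorem F99467 : act 3 n23205 = n15936 := d24_1 D23205 (iv D15936) (iv D10954) (iv F48742) D15931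
def n23206 : Q := act 9 n15931
theorem D23206 : act 9 n15931 = n23206 := rfl
theorem F99470 : act 3 n23206 = n15932 := d29_1 D23206 (iv D15932) D15931
def n23207 : Q := act 3 n15933
theorem D23207 : act 3 n15933 = n23207 := rfl
theorem F99473 : act 0 n23207 = n15962 := d2_1 D23207 (iv D15962) (iv F69533)
def n23208 : Q := act 9 n15933
theorem D23208 : act 9 n15933 = n23208 := rfl
def n23209 : Q := act 4 n15934
theorem D23209 : act 4 n15934 = n23209 := rfl
def n23210 : Q := act 9 n15934
theorem D23210 : act 9 n15934 = n23210 := rfl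
theorem F99486 : act 3 n23210 = n15935 := d29_1 D23210 (iv D15935) D15934
def n23212 : Q := act 9 n15936
theorem D23212 : act 9 n15936 = n23212 := rfl
theorem F99494 : act 4 n23212 = n15937 := d34_1 D23212 (iv D15937) D15936
def n23213 : Q := act 8 n15937
theorem D23213 : act 8 n15937 = n23213 := rfl
def n23216 : Q := act 8 n15939
theorem D23216 : act 8 n15939 = n23216 := rfl
theorem F99510 : act 4 n23216 = n15940 := d33_1 D23216 (iv D15940) (iv F69558)
def n23219 : Q := act 3 n15942
theorem D23219 : act 3 n15942 = n23219 := rfl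
theorem F99521 : act 0 n23219 = n15974 := d2_1 D23219 (iv D15974) (iv F69567)
theorem F99522 : act 1 n23219 = n17909 := d10_1 D23219 (iv D17909) (iv F69568)
theorem F99523 : act 5 n23219 = n15944 := d25_2 (iv F69569) D23219 (iv D15944)
def n23222 : Q := act 9 n15943
theorem D23222 : act 9 n15943 = n23222 := rfl
theorem F99538 : act 4 n23222 = n15948 := d34_1 D23222 (iv D15948) (iv F69573)
def n23223 : Q := act 2 n15944
theorem D23223 : act 2 n15944 = n23223 := rfl
theorem F99543 : act 6 n23223 = n15946 := d20_2 (iv F69579) D23223 (iv D15946)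
def n23224 : Q := act 9 n15944
theorem D23224 : act 9 n15944 = n23224 := rfl
theorem F99547 : act 3 n23224 = n15945 := d29_1 D23224 (iv D15945) D15944
theorem F99549 : act 6 n23224 = n15947 := d41_1 D23224 (iv D15947) (iv F69579)
def n23225 : Q := act 1 n15946
theorem D23225 : act 1 n15946 = n23225 := rfl
theorem F99551 : act 2 n23225 = n17915 := d9_2 D15946 D23225 (iv D17915) (iv D12310) (iv F48781)
def n23226 : Q := act 9 n15946
theorem D23226 : act 9 n15946 = n23226 := rfl
theorem F99556 : act 0 n23226 = n15980 := d8_1 D23226 (iv D15980) (iv F69585)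
theorem F99557 : act 2 n23226 = n15947 := d23_1 D23226 (iv D15947) D15946
def n23227 : Q := act 8 n15947
theorem D23227 : act 8 n15947 = n23227 := rfl
def n23228 : Q := act 4 n15949
theorem D23228 : act 4 n15949 = n23228 := rfl
theorem F99567 : act 1 n23228 = n16338 := d11_1 D23228 (iv D16338) (iv F69601)
theorem F99568 : act 2 n23228 = n23228 := d18_1 D23228 (iv D23228) F69602
theorem F99569 : act 6 n23228 = n23228 := d31_2 F69604 D23228 (iv D23228)
def n23229 : Q := act 7 n15949
theorem D23229 : act 7 n15949 = n23229 := rfl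
theorem F99572 : act 3 n23229 = n15954 := d27_1 D23229 (iv D15954) (iv F69603)
theorem F99573 : act 5 n23229 = n15950 := d36_1 D23229 (iv D15950) D15949
def n23230 : Q := act 8 n15949
theorem D23230 : act 8 n15949 = n23230 := rfl
theorem F99574 : act 1 n23230 = n16340 := d15_1 D23230 (iv D16340) (iv F69601)
theorem F99575 : act 2 n23230 = n23230 := d22_1 D23230 (iv D23230) F69602
theorem F99576 : act 5 n23230 = n15951 := d37_1 D23230 (iv D15951) D15949
theorem F99577 : act 6 n23230 = n23230 := d40_1 D23230 (iv D23230) F69604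
def n23231 : Q := act 8 n15950
theorem D23231 : act 8 n15950 = n23231 := rfl
theorem F99578 : act 1 n23231 = n16341 := d15_1 D23231 (iv D16341) (iv F69605)
theorem F99579 : act 2 n23231 = n23231 := d22_1 D23231 (iv D23231) F69606
theorem F99580 : act 6 n23231 = n23231 := d40_1 D23231 (iv D23231) F69608
theorem F99581 : act 7 n23231 = n15951 := d42_1 D23231 (iv D15951) D15950
def n23232 : Q := act 3 n15951
theorem D23232 : act 3 n15951 = n23232 := rfl
theorem F99582 : act 1 n23232 = n16342 := d10_1 D23232 (iv D16342) (iv F69609)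
theorem F99583 : act 6 n23232 = n15952 := d26_2 (iv F69611) D23232 (iv D15952)
theorem F99584 : act 8 n23232 = n15957 := d28_2 D15951 D23232 (iv D15957) (iv D10969) (iv F48802)
def n23233 : Q := act 9 n15951
theorem D23233 : act 9 n15951 = n23233 := rfl
theorem F99585 : act 1 n23233 = n16343 := d16_1 D23233 (iv D16343) (iv F69609)
theorem F99586 : act 2 n23233 = n23233 := d23_1 D23233 (iv D23233) F69610
theorem F99587 : act 6 n23233 = n15953 := d41_1 D23233 (iv D15953) (iv F69611)
def n23234 : Q := act 2 n15952
theorem D23234 : act 2 n15952 = n23234 := rfl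
theorem F99588 : act 1 n23234 = n23234 := d9_1 D23234 (iv D23234) F69612 F49856 (iv F69612)
theorem F99589 : act 3 n23234 = n23234 := d17_2 D15952 D23234 (iv D23234) (iv D15952) F48804
theorem F99590 : act 5 n23234 = n23234 := d19_2 F69613 D23234 (iv D23234)
theorem F99591 : act 7 n23234 = n23234 := d21_2 F69614 D23234 (iv D23234)
theorem F99592 : act 8 n23234 = n15959 := d22_2 (iv F69615) D23234 (iv D15959)
def n23235 : Q := act 4 n15952
theorem D23235 : act 4 n15952 = n23235 := rfl
theorem F99593 : act 1 n23235 = n16344 := d11_1 D23235 (iv D16344) (iv F69612)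
theorem F99594 : act 7 n23235 = n23235 := d32_2 F69614 D23235 (iv D23235)
theorem F99595 : act 8 n23235 = n15960 := d33_2 (iv F69615) D23235 (iv D15960)
def n23236 : Q := act 9 n15952
theorem D23236 : act 9 n15952 = n23236 := rfl
theorem F99596 : act 1 n23236 = n16345 := d16_1 D23236 (iv D16345) (iv F69612)
theorem F99597 : act 3 n23236 = n15953 := d29_1 D23236 (iv D15953) D15952
theorem F99598 : act 5 n23236 = n23236 := d38_1 D23236 (iv D23236) F69613
theorem F99599 : act 7 n23236 = n23236 := d43_1 D23236 (iv D23236) F69614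
def n23239 : Q := act 3 n15955
theorem D23239 : act 3 n15955 = n23239 := rfl
theorem F99609 : act 5 n23239 = n15957 := d25_2 (iv F69625) D23239 (iv D15957)
def n23240 : Q := act 9 n15955
theorem D23240 : act 9 n15955 = n23240 := rfl
theorem F99613 : act 5 n23240 = n15958 := d38_1 D23240 (iv D15958) (iv F69625)
def n23241 : Q := act 3 n15956
theorem D23241 : act 3 n15956 = n23241 := rfl
def n23243 : Q := act 2 n15957
theorem D23243 : act 2 n15957 = n23243 := rfl
theorem F99625 : act 6 n23243 = n15959 := d20_2 (iv F69633) D23243 (iv D15959)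
def n23244 : Q := act 4 n15957
theorem D23244 : act 4 n15957 = n23244 := rfl
theorem F99626 : act 1 n23244 = n16352 := d11_1 D23244 (iv D16352) (iv F69632)
theorem F99627 : act 3 n23244 = n15964 := d24_1 D23244 (iv D15964) (iv D10973) (iv F48816) D15957
theorem F99628 : act 6 n23244 = n15960 := d31_2 (iv F69633) D23244 (iv D15960)
def n23245 : Q := act 9 n15957
theorem D23245 : act 9 n15957 = n23245 := rfl
def n23246 : Q := act 4 n15959
theorem D23246 : act 4 n15959 = n23246 := rfl
theorem F99633 : act 2 n23246 = n15960 := d18_1 D23246 (iv D15960) D15959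
def n23247 : Q := act 9 n15959
theorem D23247 : act 9 n15959 = n23247 := rfl
theorem F99637 : act 2 n23247 = n15961 := d23_1 D23247 (iv D15961) D15959
theorem F99638 : act 3 n23247 = n15980 := d29_1 D23247 (iv D15980) (iv F69639)
def n23248 : Q := act 5 n15960
theorem D23248 : act 5 n15960 = n23248 := rfl
theorem F99642 : act 3 n23248 = n15966 := d25_1 D23248 (iv D15966) (iv F69643)
def n23249 : Q := act 9 n15960
theorem D23249 : act 9 n15960 = n23249 := rfl
theorem F99646 : act 3 n23249 = n15967 := d29_1 D23249 (iv D15967) (iv F69643)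
def n23250 : Q := act 8 n15961
theorem D23250 : act 8 n15961 = n23250 := rfl
def n23251 : Q := act 4 n15962
theorem D23251 : act 4 n15962 = n23251 := rfl
theorem F99652 : act 1 n23251 = n16357 := d11_1 D23251 (iv D16357) (iv F69649)
theorem F99653 : act 2 n23251 = n23251 := d18_1 D23251 (iv D23251) F69650
theorem F99654 : act 6 n23251 = n23251 := d31_2 F69651 D23251 (iv D23251)
theorem F99655 : act 7 n23251 = n15964 := d32_2 (iv F69652) D23251 (iv D15964)
def n23252 : Q := act 9 n15962
theorem D23252 : act 9 n15962 = n23252 := rfl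
def n23253 : Q := act 5 n15964
theorem D23253 : act 5 n15964 = n23253 := rfl
theorem F99661 : act 1 n23253 = n16359 := d12_1 D23253 (iv D16359) (iv F69657)
theorem F99662 : act 2 n23253 = n23253 := d19_1 D23253 (iv D23253) F69658
def n23254 : Q := act 9 n15964
theorem D23254 : act 9 n15964 = n23254 := rfl
theorem F99665 : act 4 n23254 = n15965 := d34_1 D23254 (iv D15965) D15964
def n23255 : Q := act 8 n15965
theorem D23255 : act 8 n15965 = n23255 := rfl
def n23256 : Q := act 6 n15966
theorem D23256 : act 6 n15966 = n23256 := rfl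
theorem F99670 : act 1 n23256 = n16362 := d13_1 D23256 (iv D16362) (iv F69664)
theorem F99671 : act 2 n23256 = n23256 := d20_1 D23256 (iv D23256) F69665
theorem F99672 : act 4 n23256 = n15969 := d31_1 D23256 (iv D15969) (iv F69666)
def n23257 : Q := act 9 n15966
theorem D23257 : act 9 n15966 = n23257 := rfl
theorem F99675 : act 4 n23257 = n15970 := d34_1 D23257 (iv D15970) (iv F69666)
def n23258 : Q := act 8 n15967
theorem D23258 : act 8 n15967 = n23258 := rfl
theorem F99680 : act 4 n23258 = n15968 := d33_1 D23258 (iv D15968) (iv F69670)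
def n23259 : Q := act 7 n15969
theorem D23259 : act 7 n15969 = n23259 := rfl
theorem F99682 : act 1 n23259 = n16365 := d14_1 D23259 (iv D16365) (iv F69676)
theorem F99683 : act 2 n23259 = n23259 := d21_1 D23259 (iv D23259) F69677
theorem F99684 : act 3 n23259 = n23259 := d27_1 D23259 (iv D23259) F69678
theorem F99685 : act 6 n23259 = n23259 := d39_1 D23259 (iv D23259) (iv D15969) F48847 D15969
def n23260 : Q := act 9 n15969
theorem D23260 : act 9 n15969 = n23260 := rfl
def n23261 : Q := act 8 n15970
theorem D23261 : act 8 n15970 = n23261 := rfl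
theorem F99692 : act 5 n23261 = n15971 := d37_1 D23261 (iv D15971) (iv F69682)
def n23262 : Q := act 3 n15971
theorem D23262 : act 3 n15971 = n23262 := rfl
theorem F99694 : act 1 n23262 = n16368 := d10_1 D23262 (iv D16368) (iv F69684)
def n23264 : Q := act 3 n15973
theorem D23264 : act 3 n15973 = n23264 := rfl
theorem F99702 : act 5 n23264 = n15976 := d25_2 (iv F69693) D23264 (iv D15976)
def n23265 : Q := act 9 n15973
theorem D23265 : act 9 n15973 = n23265 := rfl
theorem F99706 : act 5 n23265 = n15977 := d38_1 D23265 (iv D15977) (iv F69693)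
def n23266 : Q := act 2 n15974
theorem D23266 : act 2 n15974 = n23266 := rfl
def n23267 : Q := act 4 n15974
theorem D23267 : act 4 n15974 = n23267 := rfl
theorem F99712 : act 1 n23267 = n15985 := d11_1 D23267 (iv D15985) (iv F69695)
def n23268 : Q := act 9 n15974
theorem D23268 : act 9 n15974 = n23268 := rfl
theorem F99717 : act 3 n23268 = n15975 := d29_1 D23268 (iv D15975) D15974
theorem F99718 : act 5 n23268 = n15979 := d38_1 D23268 (iv D15979) (iv F69696)
def n23270 : Q := act 9 n15976
theorem D23270 : act 9 n15976 = n23270 := rfl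
theorem F99729 : act 7 n23270 = n15979 := d43_1 D23270 (iv D15979) (iv F69705)
def n23271 : Q := act 9 n15978
theorem D23271 : act 9 n15978 = n23271 := rfl
theorem F99733 : act 6 n23271 = n15980 := d41_1 D23271 (iv D15980) (iv F69713)
def n23272 : Q := act 8 n15979
theorem D23272 : act 8 n15979 = n23272 := rfl
theorem F99736 : act 6 n23272 = n15981 := d40_1 D23272 (iv D15981) (iv F69718)
def n23273 : Q := act 8 n15980
theorem D23273 : act 8 n15980 = n23273 := rfl
theorem F99739 : act 2 n23273 = n15981 := d22_1 D23273 (iv D15981) (iv F69720)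
def n23278 : Q := act 9 n15985
theorem D23278 : act 9 n15985 = n23278 := rfl
def n23282 : Q := act 6 n15989
theorem D23282 : act 6 n15989 = n23282 := rfl
theorem F99786 : act 1 n23282 = n15992 := d13_1 D23282 (iv D15992) (iv F69764)
theorem F99789 : act 9 n23282 = n16026 := d41_2 (iv F69767) D23282 (iv D16026)
def n23283 : Q := act 8 n15989
theorem D23283 : act 8 n15989 = n23283 := rfl
theorem F99790 : act 1 n23283 = n15993 := d15_1 D23283 (iv D15993) (iv F69764)
theorem F99793 : act 7 n23283 = n16082 := d42_1 D23283 (iv D16082) (iv F69766)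
def n23284 : Q := act 3 n15990
theorem D23284 : act 3 n15990 = n23284 := rfl
theorem F99794 : act 1 n23284 = n15994 := d10_1 D23284 (iv D15994) (iv F69768)
theorem F99796 : act 7 n23284 = n16083 := d27_2 (iv F69772) D23284 (iv D16083)
def n23286 : Q := act 3 n15991
theorem D23286 : act 3 n15991 = n23286 := rfl
theorem F99803 : act 0 n23286 = n16001 := d2_1 D23286 (iv D16001) (iv F69773)
theorem F99807 : act 9 n23286 = n16030 := d29_2 (iv F69777) D23286 (iv D16030)
def n23288 : Q := act 8 n15991
theorem D23288 : act 8 n15991 = n23288 := rfl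
theorem F99812 : act 0 n23288 = n16003 := d7_1 D23288 (iv D16003) (iv F69773)
theorem F99816 : act 7 n23288 = n16087 := d42_1 D23288 (iv D16087) (iv F69776)
def n23289 : Q := act 7 n15992
theorem D23289 : act 7 n15992 = n23289 := rfl
theorem F99817 : act 0 n23289 = n16004 := d6_1 D23289 (iv D16004) (iv F69778)
theorem F99821 : act 9 n23289 = n16033 := d43_2 (iv F69781) D23289 (iv D16033)
def n23290 : Q := act 8 n15992
theorem D23290 : act 8 n15992 = n23290 := rfl
theorem F99822 : act 0 n23290 = n16005 := d7_1 D23290 (iv D16005) (iv F69778)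
def n23291 : Q := act 3 n15993
theorem D23291 : act 3 n15993 = n23291 := rfl
theorem F99826 : act 0 n23291 = n16006 := d2_1 D23291 (iv D16006) (iv F69782)
theorem F99829 : act 7 n23291 = n16090 := d27_2 (iv F69785) D23291 (iv D16090)
def n23292 : Q := act 9 n15993
theorem D23292 : act 9 n15993 = n23292 := rfl
theorem F99830 : act 0 n23292 = n16007 := d8_1 D23292 (iv D16007) (iv F69782)
theorem F99833 : act 7 n23292 = n16091 := d43_1 D23292 (iv D16091) (iv F69785)
def n23293 : Q := act 4 n15994
theorem D23293 : act 4 n15994 = n23293 := rfl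
theorem F99835 : act 0 n23293 = n16008 := d3_1 D23293 (iv D16008) (iv F69786)
theorem F99839 : act 7 n23293 = n16092 := d32_2 (iv F69789) D23293 (iv D16092)
def n23296 : Q := act 7 n15996
theorem D23296 : act 7 n15996 = n23296 := rfl
theorem F99854 : act 4 n23296 = n15998 := d32_1 D23296 (iv D15998) (iv F69799)
theorem F99856 : act 9 n23296 = n16040 := d43_2 (iv F69800) D23296 (iv D16040)
def n23300 : Q := act 8 n15998
theorem D23300 : act 8 n15998 = n23300 := rfl
theorem F99873 : act 0 n23300 = n16015 := d7_1 D23300 (iv D16015) (iv F69806)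
def n23303 : Q := act 8 n16001
theorem D23303 : act 8 n16001 = n23303 := rfl
theorem F99888 : act 2 n23303 = n23303 := d22_1 D23303 (iv D23303) F69823
theorem F99889 : act 5 n23303 = n23303 := d37_1 D23303 (iv D23303) F69824
theorem F99890 : act 7 n23303 = n16102 := d42_1 D23303 (iv D16102) (iv F69825)
def n23306 : Q := act 8 n16002
theorem D23306 : act 8 n16002 = n23306 := rfl
theorem F99900 : act 4 n23306 = n16005 := d33_1 D23306 (iv D16005) (iv F69828)
def n23307 : Q := act 3 n16003
theorem D23307 : act 3 n16003 = n23307 := rfl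
def n23308 : Q := act 9 n16003
theorem D23308 : act 9 n16003 = n23308 := rfl
theorem F99904 : act 2 n23308 = n16014 := d23_1 D23308 (iv D16014) (iv F69830)
theorem F99907 : act 7 n23308 = n16107 := d43_1 D23308 (iv D16107) (iv F69833)
def n23309 : Q := act 8 n16004
theorem D23309 : act 8 n16004 = n23309 := rfl
theorem F99911 : act 6 n23309 = n16108 := d40_1 D23309 (iv D16108) (iv F69836)
def n23312 : Q := act 4 n16006
theorem D23312 : act 4 n16006 = n23312 := rfl
theorem F99921 : act 7 n23312 = n16111 := d32_2 (iv F69843) D23312 (iv D16111)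
def n23313 : Q := act 9 n16006
theorem D23313 : act 9 n16006 = n23313 := rfl
theorem F99923 : act 3 n23313 = n16007 := d29_1 D23313 (iv D16007) D16006
theorem F99925 : act 7 n23313 = n16112 := d43_1 D23313 (iv D16112) (iv F69843)
def n23314 : Q := act 5 n16008
theorem D23314 : act 5 n16008 = n23314 := rfl
def n23315 : Q := act 9 n16008
theorem D23315 : act 9 n16008 = n23315 := rfl
theorem F99931 : act 4 n23315 = n16009 := d34_1 D23315 (iv D16009) D16008
theorem F99933 : act 7 n23315 = n16114 := d43_1 D23315 (iv D16114) (iv F69851)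
def n23316 : Q := act 8 n16009
theorem D23316 : act 8 n16009 = n23316 := rfl
theorem F99935 : act 3 n23316 = n16060 := d28_1 D23316 (iv D16060) F49122 (iv F48988) (iv F69853)
theorem F99937 : act 7 n23316 = n16115 := d42_1 D23316 (iv D16115) (iv F69855)
def n23317 : Q := act 7 n16010
theorem D23317 : act 7 n16010 = n23317 := rfl
theorem F99941 : act 5 n23317 = n16011 := d36_1 D23317 (iv D16011) D16010
theorem F99942 : act 9 n23317 = n16061 := d43_2 (iv F69860) D23317 (iv D16061)
def n23319 : Q := act 8 n16011
theorem D23319 : act 8 n16011 = n23319 := rfl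
theorem F99948 : act 4 n23319 = n16015 := d33_1 D23319 (iv D16015) (iv F69863)
def n23321 : Q := act 9 n16012
theorem D23321 : act 9 n16012 = n23321 := rfl
theorem F99958 : act 8 n23321 = n16065 := d44_1 D23321 (iv D16065) (iv D11044) (iv F48992) D16012
def n23323 : Q := act 9 n16013
theorem D23323 : act 9 n16013 = n23323 := rfl
theorem F99964 : act 3 n23323 = n16014 := d29_1 D23323 (iv D16014) D16013
theorem F99967 : act 7 n23323 = n16122 := d43_1 D23323 (iv D16122) (iv F69872)
def n23324 : Q := act 9 n16015
theorem D23324 : act 9 n16015 = n23324 := rfl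
theorem F99971 : act 6 n23324 = n16123 := d41_1 D23324 (iv D16123) (iv F69882)
theorem F99973 : act 8 n23324 = n16068 := d44_1 D23324 (iv D16068) (iv D11047) (iv F49001) D16015
def n23326 : Q := act 8 n16017
theorem D23326 : act 8 n16017 = n23326 := rfl
theorem F99982 : act 5 n23326 = n16019 := d37_1 D23326 (iv D16019) (iv F69892)
def n23328 : Q := act 9 n16018
theorem D23328 : act 9 n16018 = n23328 := rfl
theorem F99992 : act 8 n23328 = n16072 := d44_1 D23328 (iv D16072) (iv D11050) (iv F49015) D16018
def n23330 : Q := act 9 n16019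
theorem D23330 : act 9 n16019 = n23330 := rfl
theorem F100002 : act 8 n23330 = n16074 := d44_1 D23330 (iv D16074) (iv D11051) (iv F49020) D16019
def n23332 : Q := act 9 n16020
theorem D23332 : act 9 n16020 = n23332 := rfl
theorem F100008 : act 3 n23332 = n16021 := d29_1 D23332 (iv D16021) D16020
def n23335 : Q := act 8 n16023
theorem D23335 : act 8 n16023 = n23335 := rfl
theorem F100021 : act 3 n23335 = n16079 := d28_1 D23335 (iv D16079) F49179 (iv F49033) (iv F69916)
theorem F100024 : act 7 n23335 = n16134 := d42_1 D23335 (iv D16134) (iv F69919)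
def n23336 : Q := act 3 n16025
theorem D23336 : act 3 n16025 = n23336 := rfl
def n23338 : Q := act 8 n16025
theorem D23338 : act 8 n16025 = n23338 := rfl
theorem F100032 : act 1 n23338 = n16032 := d15_1 D23338 (iv D16032) (iv F69926)
theorem F100036 : act 7 n23338 = n16137 := d42_1 D23338 (iv D16137) (iv F69929)
def n23339 : Q := act 7 n16026
theorem D23339 : act 7 n16026 = n23339 := rfl
theorem F100037 : act 1 n23339 = n16033 := d14_1 D23339 (iv D16033) (iv F69930)
def n23340 : Q := act 8 n16026
theorem D23340 : act 8 n16026 = n23340 := rfl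
theorem F100041 : act 1 n23340 = n16034 := d15_1 D23340 (iv D16034) (iv F69930)
def n23346 : Q := act 6 n16030
theorem D23346 : act 6 n16030 = n23346 := rfl
theorem F100064 : act 0 n23346 = n16046 := d5_1 D23346 (iv D16046) (iv F69945)
def n23347 : Q := act 8 n16030
theorem D23347 : act 8 n16030 = n23347 := rfl
theorem F100067 : act 0 n23347 = n16047 := d7_1 D23347 (iv D16047) (iv F69945)
theorem F100068 : act 2 n23347 = n23347 := d22_1 D23347 (iv D23347) F69946
theorem F100069 : act 5 n23347 = n23347 := d37_1 D23347 (iv D23347) F69947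
theorem F100070 : act 7 n23347 = n16146 := d42_1 D23347 (iv D16146) (iv F69948)
def n23350 : Q := act 8 n16031
theorem D23350 : act 8 n16031 = n23350 := rfl
theorem F100079 : act 0 n23350 = n16050 := d7_1 D23350 (iv D16050) (iv F69949)
theorem F100080 : act 2 n23350 = n16041 := d22_1 D23350 (iv D16041) (iv F69950)
def n23351 : Q := act 3 n16032
theorem D23351 : act 3 n16032 = n23351 := rfl
theorem F100083 : act 0 n23351 = n16051 := d2_1 D23351 (iv D16051) (iv F69952)
theorem F100085 : act 7 n23351 = n16150 := d27_2 (iv F69956) D23351 (iv D16150)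
def n23352 : Q := act 9 n16032
theorem D23352 : act 9 n16032 = n23352 := rfl
theorem F100087 : act 2 n23352 = n16043 := d23_1 D23352 (iv D16043) (iv F69953)
def n23353 : Q := act 8 n16033
theorem D23353 : act 8 n16033 = n23353 := rfl
theorem F100092 : act 2 n23353 = n16044 := d22_1 D23353 (iv D16044) (iv F69958)
theorem F100094 : act 6 n23353 = n16152 := d40_1 D23353 (iv D16152) (iv F69960)
def n23354 : Q := act 3 n16034
theorem D23354 : act 3 n16034 = n23354 := rfl
theorem F100097 : act 2 n23354 = n16479 := d17_1 D23354 (iv D16479) F50305 (iv F49088) (iv F69962)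
def n23355 : Q := act 9 n16034
theorem D23355 : act 9 n16034 = n23355 := rfl
theorem F100101 : act 2 n23355 = n16045 := d23_1 D23355 (iv D16045) (iv F69962)
def n23356 : Q := act 4 n16035
theorem D23356 : act 4 n16035 = n23356 := rfl
theorem F100106 : act 7 n23356 = n16155 := d32_2 (iv F69968) D23356 (iv D16155)
def n23357 : Q := act 9 n16035
theorem D23357 : act 9 n16035 = n23357 := rfl
theorem F100107 : act 0 n23357 = n16057 := d8_1 D23357 (iv D16057) (iv F69965)
theorem F100108 : act 2 n23357 = n16482 := d23_1 D23357 (iv D16482) (iv F69966)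
def n23358 : Q := act 5 n16037
theorem D23358 : act 5 n16037 = n23358 := rfl
def n23359 : Q := act 9 n16037
theorem D23359 : act 9 n16037 = n23359 := rfl
theorem F100119 : act 4 n23359 = n16038 := d34_1 D23359 (iv D16038) D16037
def n23363 : Q := act 8 n16040
theorem D23363 : act 8 n16040 = n23363 := rfl
theorem F100138 : act 4 n23363 = n16044 := d33_1 D23363 (iv D16044) (iv F69991)
theorem F100140 : act 7 n23363 = n16041 := d42_1 D23363 (iv D16041) D16040
def n23364 : Q := act 3 n16041
theorem D23364 : act 3 n16041 = n23364 := rfl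
theorem F100143 : act 4 n23364 = n16489 := d24_2 (iv F69995) D23364 (iv D16489) F50338 (iv F49088)
def n23365 : Q := act 9 n16041
theorem D23365 : act 9 n16041 = n23365 := rfl
def n23366 : Q := act 2 n16042
theorem D23366 : act 2 n16042 = n23366 := rfl
theorem F100150 : act 0 n23366 = n16066 := d1_1 D23366 (iv D16066) (iv F69997)
theorem F100151 : act 4 n23366 = n16491 := d18_2 (iv F69999) D23366 (iv D16491)
def n23367 : Q := act 9 n16042
theorem D23367 : act 9 n16042 = n23367 := rfl
theorem F100157 : act 3 n23367 = n16043 := d29_1 D23367 (iv D16043) D16042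
theorem F100158 : act 4 n23367 = n16492 := d34_1 D23367 (iv D16492) (iv F69999)
theorem F100160 : act 7 n23367 = n16166 := d43_1 D23367 (iv D16166) (iv F70001)
def n23368 : Q := act 9 n16044
theorem D23368 : act 9 n16044 = n23368 := rfl
theorem F100165 : act 6 n23368 = n16167 := d41_1 D23368 (iv D16167) (iv F70012)
theorem F100166 : act 7 n23368 = n16045 := d43_1 D23368 (iv D16045) (iv F70013)
def n23370 : Q := act 7 n16046
theorem D23370 : act 7 n16046 = n23370 := rfl
theorem F100172 : act 6 n23370 = n16169 := d39_1 D23370 (iv D16169) (iv D11114) (iv F49098) D16046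
def n23371 : Q := act 8 n16046
theorem D23371 : act 8 n16046 = n23371 := rfl
theorem F100174 : act 6 n23371 = n16047 := d40_1 D23371 (iv D16047) D16046
def n23372 : Q := act 3 n16047
theorem D23372 : act 3 n16047 = n23372 := rfl
theorem F100177 : act 8 n23372 = n16051 := d28_2 D16047 D23372 (iv D16051) (iv D11035) D11033
def n23373 : Q := act 9 n16047
theorem D23373 : act 9 n16047 = n23373 := rfl
theorem F100178 : act 2 n23373 = n23373 := d23_1 D23373 (iv D23373) F70021
theorem F100179 : act 5 n23373 = n23373 := d38_1 D23373 (iv D23373) F70022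
theorem F100180 : act 7 n23373 = n16172 := d43_1 D23373 (iv D16172) (iv F70023)
def n23374 : Q := act 7 n16048
theorem D23374 : act 7 n16048 = n23374 := rfl
theorem F100183 : act 5 n23374 = n16049 := d36_1 D23374 (iv D16049) D16048
def n23375 : Q := act 8 n16048
theorem D23375 : act 8 n16048 = n23375 := rfl
theorem F100184 : act 2 n23375 = n16062 := d22_1 D23375 (iv D16062) (iv F70024)
def n23376 : Q := act 8 n16049
theorem D23376 : act 8 n16049 = n23376 := rfl
theorem F100189 : act 4 n23376 = n16053 := d33_1 D23376 (iv D16053) (iv F70028)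
theorem F100190 : act 6 n23376 = n16175 := d40_1 D23376 (iv D16175) (iv F70029)
theorem F100191 : act 7 n23376 = n16050 := d42_1 D23376 (iv D16050) D16049
def n23377 : Q := act 3 n16050
theorem D23377 : act 3 n16050 = n23377 := rfl
theorem F100192 : act 6 n23377 = n16051 := d26_2 (iv F70032) D23377 (iv D16051)
def n23378 : Q := act 9 n16050
theorem D23378 : act 9 n16050 = n23378 := rfl
theorem F100193 : act 2 n23378 = n16065 := d23_1 D23378 (iv D16065) (iv F70030)
theorem F100194 : act 4 n23378 = n16055 := d34_1 D23378 (iv D16055) (iv F70031)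
def n23379 : Q := act 2 n16051
theorem D23379 : act 2 n16051 = n23379 := rfl
theorem F100196 : act 3 n23379 = n16066 := d17_2 D16051 D23379 (iv D16066) (iv D11045) (iv F49101)
theorem F100198 : act 7 n23379 = n16178 := d21_2 (iv F70034) D23379 (iv D16178)
def n23380 : Q := act 4 n16051
theorem D23380 : act 4 n16051 = n23380 := rfl
theorem F100200 : act 7 n23380 = n16179 := d32_2 (iv F70034) D23380 (iv D16179)
def n23381 : Q := act 9 n16051
theorem D23381 : act 9 n16051 = n23381 := rfl
def n23382 : Q := act 3 n16053
theorem D23382 : act 3 n16053 = n23382 := rfl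
theorem F100204 : act 2 n23382 = n16507 := d17_1 D23382 (iv D16507) F50393 (iv F49146) (iv F70039)
theorem F100206 : act 6 n23382 = n16181 := d26_2 (iv F70041) D23382 (iv D16181)
theorem F100207 : act 7 n23382 = n16054 := d27_2 (iv F70042) D23382 (iv D16054)
def n23383 : Q := act 9 n16053
theorem D23383 : act 9 n16053 = n23383 := rfl
theorem F100210 : act 6 n23383 = n16182 := d41_1 D23383 (iv D16182) (iv F70041)
theorem F100211 : act 7 n23383 = n16055 := d43_1 D23383 (iv D16055) (iv F70042)
def n23384 : Q := act 4 n16054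
theorem D23384 : act 4 n16054 = n23384 := rfl
theorem F100212 : act 2 n23384 = n16509 := d18_1 D23384 (iv D16509) (iv F70043)
theorem F100213 : act 6 n23384 = n16056 := d31_2 (iv F70045) D23384 (iv D16056)
def n23385 : Q := act 9 n16054
theorem D23385 : act 9 n16054 = n23385 := rfl
theorem F100215 : act 3 n23385 = n16055 := d29_1 D23385 (iv D16055) D16054
def n23386 : Q := act 5 n16056
theorem D23386 : act 5 n16056 = n23386 := rfl
theorem F100218 : act 2 n23386 = n16511 := d19_1 D23386 (iv D16511) (iv F70049)
theorem F100219 : act 4 n23386 = n16058 := d30_1 D23386 (iv D16058) (iv D11040) (iv F49112) D16056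
theorem F100220 : act 7 n23386 = n16185 := d36_2 (iv F70050) D23386 (iv D16185)
def n23387 : Q := act 9 n16056
theorem D23387 : act 9 n16056 = n23387 := rfl
theorem F100222 : act 4 n23387 = n16057 := d34_1 D23387 (iv D16057) D16056
def n23389 : Q := act 6 n16058
theorem D23389 : act 6 n16058 = n23389 := rfl
theorem F100227 : act 2 n23389 = n16514 := d20_1 D23389 (iv D16514) (iv F70055)
theorem F100228 : act 3 n23389 = n23389 := d26_1 D23389 (iv D23389) F70056
theorem F100229 : act 5 n23389 = n23389 := d35_1 D23389 (iv D23389) (iv D16058) F49119 D16058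
def n23390 : Q := act 9 n16058
theorem D23390 : act 9 n16058 = n23390 := rfl
theorem F100232 : act 5 n23390 = n16059 := d38_1 D23390 (iv D16059) D16058
def n23393 : Q := act 8 n16061
theorem D23393 : act 8 n16061 = n23393 := rfl
theorem F100246 : act 7 n23393 = n16062 := d42_1 D23393 (iv D16062) D16061
def n23394 : Q := act 3 n16062
theorem D23394 : act 3 n16062 = n23394 := rfl
theorem F100247 : act 1 n23394 = n16071 := d10_1 D23394 (iv D16071) (iv F70070)
theorem F100248 : act 5 n23394 = n16064 := d25_2 (iv F70072) D23394 (iv D16064)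
def n23395 : Q := act 9 n16062
theorem D23395 : act 9 n16062 = n23395 := rfl
def n23396 : Q := act 3 n16063
theorem D23396 : act 3 n16063 = n23396 := rfl
theorem F100257 : act 6 n23396 = n16195 := d26_2 (iv F70076) D23396 (iv D16195)
theorem F100258 : act 7 n23396 = n16064 := d27_2 (iv F70077) D23396 (iv D16064)
def n23397 : Q := act 9 n16063
theorem D23397 : act 9 n16063 = n23397 := rfl
theorem F100262 : act 6 n23397 = n16196 := d41_1 D23397 (iv D16196) (iv F70076)
theorem F100263 : act 7 n23397 = n16065 := d43_1 D23397 (iv D16065) (iv F70077)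
def n23398 : Q := act 2 n16064
theorem D23398 : act 2 n16064 = n23398 := rfl
theorem F100264 : act 4 n23398 = n16522 := d18_2 (iv F70079) D23398 (iv D16522)
theorem F100265 : act 6 n23398 = n16066 := d20_2 (iv F70080) D23398 (iv D16066)
def n23399 : Q := act 9 n16064
theorem D23399 : act 9 n16064 = n23399 := rfl
theorem F100268 : act 3 n23399 = n16065 := d29_1 D23399 (iv D16065) D16064
theorem F100269 : act 4 n23399 = n16523 := d34_1 D23399 (iv D16523) (iv F70079)
def n23400 : Q := act 1 n16066
theorem D23400 : act 1 n16066 = n23400 := rfl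
theorem F100272 : act 4 n23400 = n16524 := d11_2 (iv F70085) D23400 (iv D16524)
def n23401 : Q := act 9 n16066
theorem D23401 : act 9 n16066 = n23401 := rfl
theorem F100277 : act 4 n23401 = n16525 := d34_1 D23401 (iv D16525) (iv F70085)
theorem F100279 : act 7 n23401 = n16200 := d43_1 D23401 (iv D16200) (iv F70087)
def n23402 : Q := act 8 n16067
theorem D23402 : act 8 n16067 = n23402 := rfl
theorem F100281 : act 4 n23402 = n16526 := d33_1 D23402 (iv D16526) (iv F70091)
theorem F100283 : act 7 n23402 = n16201 := d42_1 D23402 (iv D16201) (iv F70093)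
def n23404 : Q := act 3 n16070
theorem D23404 : act 3 n16070 = n23404 := rfl
theorem F100292 : act 7 n23404 = n16071 := d27_2 (iv F70107) D23404 (iv D16071)
def n23405 : Q := act 9 n16070
theorem D23405 : act 9 n16070 = n23405 := rfl
theorem F100297 : act 7 n23405 = n16072 := d43_1 D23405 (iv D16072) (iv F70107)
def n23406 : Q := act 2 n16071
theorem D23406 : act 2 n16071 = n23406 := rfl
theorem F100299 : act 5 n23406 = n16075 := d19_2 (iv F70109) D23406 (iv D16075)
def n23407 : Q := act 4 n16071
theorem D23407 : act 4 n16071 = n23407 := rfl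
theorem F100304 : act 5 n23407 = n16530 := d30_2 (iv F70109) D23407 (iv D16530) F50463 (iv F49167)
def n23408 : Q := act 9 n16071
theorem D23408 : act 9 n16071 = n23408 := rfl
theorem F100308 : act 3 n23408 = n16072 := d29_1 D23408 (iv D16072) D16071
def n23409 : Q := act 2 n16073
theorem D23409 : act 2 n16073 = n23409 := rfl
theorem F100314 : act 7 n23409 = n16075 := d21_2 (iv F70119) D23409 (iv D16075)
def n23410 : Q := act 9 n16073
theorem D23410 : act 9 n16073 = n23410 := rfl
theorem F100317 : act 3 n23410 = n16074 := d29_1 D23410 (iv D16074) D16073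
theorem F100319 : act 6 n23410 = n16208 := d41_1 D23410 (iv D16208) (iv F70118)
theorem F100320 : act 7 n23410 = n16076 := d43_1 D23410 (iv D16076) (iv F70119)
def n23411 : Q := act 1 n16075
theorem D23411 : act 1 n16075 = n23411 := rfl
theorem F100321 : act 4 n23411 = n16534 := d11_2 (iv F70126) D23411 (iv D16534)
def n23412 : Q := act 9 n16075
theorem D23412 : act 9 n16075 = n23412 := rfl
theorem F100326 : act 4 n23412 = n16535 := d34_1 D23412 (iv D16535) (iv F70126)
def n23413 : Q := act 8 n16076
theorem D23413 : act 8 n16076 = n23413 := rfl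
theorem F100329 : act 4 n23413 = n16536 := d33_1 D23413 (iv D16536) (iv F70131)
def n23415 : Q := act 9 n16077
theorem D23415 : act 9 n16077 = n23415 := rfl
theorem F100338 : act 4 n23415 = n16538 := d34_1 D23415 (iv D16538) (iv F70133)
def n23416 : Q := act 8 n16078
theorem D23416 : act 8 n16078 = n23416 := rfl
theorem F100343 : act 4 n23416 = n16539 := d33_1 D23416 (iv D16539) (iv F70139)
theorem F100345 : act 7 n23416 = n16214 := d42_1 D23416 (iv D16214) (iv F70141)
def n23417 : Q := act 3 n16080
theorem D23417 : act 3 n16080 = n23417 := rfl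
theorem F100349 : act 9 n23417 = n16135 := d29_2 (iv F70150) D23417 (iv D16135)
def n23419 : Q := act 8 n16080
theorem D23419 : act 8 n16080 = n23419 := rfl
theorem F100354 : act 1 n23419 = n16087 := d15_1 D23419 (iv D16087) (iv F70147)
def n23420 : Q := act 7 n16081
theorem D23420 : act 7 n16081 = n23420 := rfl
theorem F100358 : act 1 n23420 = n16088 := d14_1 D23420 (iv D16088) (iv F70151)
theorem F100361 : act 9 n23420 = n16138 := d43_2 (iv F70154) D23420 (iv D16138)
def n23421 : Q := act 8 n16081
theorem D23421 : act 8 n16081 = n23421 := rfl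
theorem F100364 : act 5 n23421 = n16219 := d37_1 D23421 (iv D16219) (iv F70153)
theorem F100365 : act 6 n23421 = n16082 := d40_1 D23421 (iv D16082) D16081
def n23422 : Q := act 3 n16082
theorem D23422 : act 3 n16082 = n23422 := rfl
theorem F100366 : act 1 n23422 = n16090 := d10_1 D23422 (iv D16090) (iv F70155)
def n23423 : Q := act 9 n16082
theorem D23423 : act 9 n16082 = n23423 := rfl
def n23424 : Q := act 2 n16083
theorem D23424 : act 2 n16083 = n23424 := rfl
theorem F100373 : act 3 n23424 = n18114 := d17_2 D16083 D23424 (iv D18114) (iv D12447) (iv F49192)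
def n23425 : Q := act 4 n16083
theorem D23425 : act 4 n16083 = n23425 := rfl
theorem F100377 : act 6 n23425 = n16223 := d31_2 (iv F70159) D23425 (iv D16223)
def n23426 : Q := act 9 n16083
theorem D23426 : act 9 n16083 = n23426 := rfl
theorem F100378 : act 1 n23426 = n16093 := d16_1 D23426 (iv D16093) (iv F70158)
def n23427 : Q := act 6 n16085
theorem D23427 : act 6 n16085 = n23427 := rfl
theorem F100381 : act 0 n23427 = n16101 := d5_1 D23427 (iv D16101) (iv F70165)
theorem F100383 : act 3 n23427 = n16086 := d26_1 D23427 (iv D16086) D16085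
theorem F100384 : act 9 n23427 = n16145 := d41_2 (iv F70168) D23427 (iv D16145)
def n23428 : Q := act 8 n16085
theorem D23428 : act 8 n16085 = n23428 := rfl
theorem F100385 : act 0 n23428 = n16102 := d7_1 D23428 (iv D16102) (iv F70165)
theorem F100386 : act 2 n23428 = n23428 := d22_1 D23428 (iv D23428) F70166
theorem F100387 : act 5 n23428 = n23428 := d37_1 D23428 (iv D23428) F70167
def n23429 : Q := act 5 n16086
theorem D23429 : act 5 n16086 = n23429 := rfl
theorem F100392 : act 9 n23429 = n16147 := d38_2 (iv F70172) D23429 (iv D16147)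
def n23431 : Q := act 8 n16086
theorem D23431 : act 8 n16086 = n23431 := rfl
theorem F100398 : act 2 n23431 = n16096 := d22_1 D23431 (iv D16096) (iv F70170)
theorem F100400 : act 6 n23431 = n16087 := d40_1 D23431 (iv D16087) D16086
def n23432 : Q := act 3 n16087
theorem D23432 : act 3 n16087 = n23432 := rfl
theorem F100401 : act 0 n23432 = n16106 := d2_1 D23432 (iv D16106) (iv F70173)
def n23433 : Q := act 9 n16087
theorem D23433 : act 9 n16087 = n23433 := rfl
theorem F100404 : act 2 n23433 = n16098 := d23_1 D23433 (iv D16098) (iv F70174)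
theorem F100407 : act 8 n23433 = n16151 := d44_1 D23433 (iv D16151) (iv D11100) (iv F49198) D16087
def n23434 : Q := act 8 n16088
theorem D23434 : act 8 n16088 = n23434 := rfl
theorem F100408 : act 0 n23434 = n16108 := d7_1 D23434 (iv D16108) (iv F70177)
theorem F100410 : act 5 n23434 = n16232 := d37_1 D23434 (iv D16232) (iv F70179)
def n23435 : Q := act 3 n16089
theorem D23435 : act 3 n16089 = n23435 := rfl
theorem F100414 : act 5 n23435 = n16233 := d25_2 (iv F70183) D23435 (iv D16233)
theorem F100415 : act 6 n23435 = n16090 := d26_2 (iv F70184) D23435 (iv D16090)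
def n23436 : Q := act 9 n16089
theorem D23436 : act 9 n16089 = n23436 := rfl
theorem F100418 : act 5 n23436 = n16234 := d38_1 D23436 (iv D16234) (iv F70183)
theorem F100419 : act 6 n23436 = n16091 := d41_1 D23436 (iv D16091) (iv F70184)
def n23437 : Q := act 4 n16090
theorem D23437 : act 4 n16090 = n23437 := rfl
def n23439 : Q := act 5 n16092
theorem D23439 : act 5 n16092 = n23439 := rfl
def n23440 : Q := act 9 n16092
theorem D23440 : act 9 n16092 = n23440 := rfl
theorem F100433 : act 4 n23440 = n16093 := d34_1 D23440 (iv D16093) D16092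
theorem F100434 : act 6 n23440 = n16238 := d41_1 D23440 (iv D16238) (iv F70195)
def n23442 : Q := act 7 n16094
theorem D23442 : act 7 n16094 = n23442 := rfl
theorem F100443 : act 5 n23442 = n16095 := d36_1 D23442 (iv D16095) D16094
theorem F100444 : act 9 n23442 = n16160 := d43_2 (iv F70205) D23442 (iv D16160)
def n23444 : Q := act 8 n16095
theorem D23444 : act 8 n16095 = n23444 := rfl
theorem F100452 : act 4 n23444 = n16099 := d33_1 D23444 (iv D16099) (iv F70209)
def n23445 : Q := act 3 n16096
theorem D23445 : act 3 n16096 = n23445 := rfl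
theorem F100457 : act 6 n23445 = n16097 := d26_2 (iv F70214) D23445 (iv D16097)
def n23446 : Q := act 9 n16096
theorem D23446 : act 9 n16096 = n23446 := rfl
theorem F100462 : act 6 n23446 = n16098 := d41_1 D23446 (iv D16098) (iv F70214)
def n23448 : Q := act 9 n16097
theorem D23448 : act 9 n16097 = n23448 := rfl
theorem F100470 : act 3 n23448 = n16098 := d29_1 D23448 (iv D16098) D16097
def n23450 : Q := act 5 n16101
theorem D23450 : act 5 n16101 = n23450 := rfl
theorem F100480 : act 3 n23450 = n16103 := d25_1 D23450 (iv D16103) (iv F70237)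
theorem F100482 : act 9 n23450 = n16168 := d38_2 (iv F70238) D23450 (iv D16168)
def n23452 : Q := act 8 n16101
theorem D23452 : act 8 n16101 = n23452 := rfl
theorem F100486 : act 2 n23452 = n23452 := d22_1 D23452 (iv D23452) F70236
theorem F100487 : act 6 n23452 = n16102 := d40_1 D23452 (iv D16102) D16101
def n23453 : Q := act 3 n16102
theorem D23453 : act 3 n16102 = n23453 := rfl
theorem F100488 : act 5 n23453 = n23453 := d25_2 F70240 D23453 (iv D23453)
theorem F100489 : act 8 n23453 = n16106 := d28_2 D16102 D23453 (iv D16106) (iv D11071) D11069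
def n23454 : Q := act 9 n16102
theorem D23454 : act 9 n16102 = n23454 := rfl
theorem F100490 : act 2 n23454 = n23454 := d23_1 D23454 (iv D23454) F70239
theorem F100491 : act 5 n23454 = n23454 := d38_1 D23454 (iv D23454) F70240
theorem F100492 : act 8 n23454 = n16172 := d44_1 D23454 (iv D16172) (iv D11115) (iv F49240) D16102
def n23456 : Q := act 8 n16103
theorem D23456 : act 8 n16103 = n23456 := rfl
theorem F100498 : act 4 n23456 = n16254 := d33_1 D23456 (iv D16254) (iv F70242)
theorem F100499 : act 5 n23456 = n16105 := d37_1 D23456 (iv D16105) D16103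
def n23458 : Q := act 3 n16105
theorem D23458 : act 3 n16105 = n23458 := rfl
theorem F100504 : act 6 n23458 = n16106 := d26_2 (iv F70250) D23458 (iv D16106)
def n23459 : Q := act 9 n16105
theorem D23459 : act 9 n16105 = n23459 := rfl
theorem F100505 : act 2 n23459 = n16120 := d23_1 D23459 (iv D16120) (iv F70248)
theorem F100507 : act 6 n23459 = n16107 := d41_1 D23459 (iv D16107) (iv F70250)
def n23460 : Q := act 2 n16106
theorem D23460 : act 2 n16106 = n23460 := rfl
theorem F100509 : act 3 n23460 = n16121 := d17_2 D16106 D23460 (iv D16121) (iv D11081) (iv F49244)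
def n23461 : Q := act 4 n16106
theorem D23461 : act 4 n16106 = n23461 := rfl
def n23462 : Q := act 9 n16106
theorem D23462 : act 9 n16106 = n23462 := rfl
theorem F100512 : act 3 n23462 = n16107 := d29_1 D23462 (iv D16107) D16106
def n23463 : Q := act 3 n16108
theorem D23463 : act 3 n16108 = n23463 := rfl
theorem F100515 : act 5 n23463 = n16261 := d25_2 (iv F70257) D23463 (iv D16261)
def n23464 : Q := act 9 n16108
theorem D23464 : act 9 n16108 = n23464 := rfl
theorem F100518 : act 5 n23464 = n16262 := d38_1 D23464 (iv D16262) (iv F70257)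
theorem F100520 : act 8 n23464 = n16182 := d44_1 D23464 (iv D16182) (iv D11121) (iv F49249) D16108
def n23465 : Q := act 4 n16109
theorem D23465 : act 4 n16109 = n23465 := rfl
def n23466 : Q := act 9 n16109
theorem D23466 : act 9 n16109 = n23466 := rfl
theorem F100524 : act 3 n23466 = n16110 := d29_1 D23466 (iv D16110) D16109
theorem F100525 : act 5 n23466 = n16264 := d38_1 D23466 (iv D16264) (iv F70260)
theorem F100526 : act 6 n23466 = n16112 := d41_1 D23466 (iv D16112) (iv F70261)
def n23467 : Q := act 5 n16111
theorem D23467 : act 5 n16111 = n23467 := rfl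
def n23468 : Q := act 9 n16111
theorem D23468 : act 9 n16111 = n23468 := rfl
theorem F100530 : act 4 n23468 = n16112 := d34_1 D23468 (iv D16112) D16111
def n23469 : Q := act 8 n16112
theorem D23469 : act 8 n16112 = n23469 := rfl
theorem F100532 : act 3 n23469 = n16187 := d28_1 D23469 (iv D16187) F49431 (iv F49257) (iv F70268)
def n23472 : Q := act 8 n16114
theorem D23472 : act 8 n16114 = n23472 := rfl
theorem F100541 : act 4 n23472 = n16115 := d33_1 D23472 (iv D16115) (iv F70274)
theorem F100542 : act 6 n23472 = n16270 := d40_1 D23472 (iv D16270) (iv F70275)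
def n23474 : Q := act 8 n16116
theorem D23474 : act 8 n16116 = n23474 := rfl
theorem F100550 : act 5 n23474 = n16118 := d37_1 D23474 (iv D16118) (iv F70282)
def n23476 : Q := act 9 n16117
theorem D23476 : act 9 n16117 = n23476 := rfl
theorem F100557 : act 4 n23476 = n16274 := d34_1 D23476 (iv D16274) (iv F70285)
theorem F100558 : act 5 n23476 = n16120 := d38_1 D23476 (iv D16120) (iv F70286)
def n23478 : Q := act 9 n16118
theorem D23478 : act 9 n16118 = n23478 := rfl
theorem F100568 : act 8 n23478 = n16196 := d44_1 D23478 (iv D16196) (iv D11131) (iv F49272) D16118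
def n23480 : Q := act 9 n16119
theorem D23480 : act 9 n16119 = n23480 := rfl
theorem F100573 : act 3 n23480 = n16120 := d29_1 D23480 (iv D16120) D16119
theorem F100575 : act 6 n23480 = n16122 := d41_1 D23480 (iv D16122) (iv F70293)
def n23482 : Q := act 9 n16121
theorem D23482 : act 9 n16121 = n23482 := rfl
theorem F100580 : act 2 n23482 = n16122 := d23_1 D23482 (iv D16122) D16121
def n23483 : Q := act 8 n16122
theorem D23483 : act 8 n16122 = n23483 := rfl
def n23486 : Q := act 9 n16125
theorem D23486 : act 9 n16125 = n23486 := rfl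
theorem F100600 : act 8 n23486 = n16204 := d44_1 D23486 (iv D16204) (iv D11138) (iv F49297) D16125
def n23487 : Q := act 2 n16126
theorem D23487 : act 2 n16126 = n23487 := rfl
theorem F100602 : act 5 n23487 = n16130 := d19_2 (iv F70321) D23487 (iv D16130)
def n23489 : Q := act 9 n16126
theorem D23489 : act 9 n16126 = n23489 := rfl
theorem F100611 : act 3 n23489 = n16127 := d29_1 D23489 (iv D16127) D16126
theorem F100612 : act 5 n23489 = n16131 := d38_1 D23489 (iv D16131) (iv F70321)
def n23491 : Q := act 9 n16128
theorem D23491 : act 9 n16128 = n23491 := rfl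
theorem F100619 : act 3 n23491 = n16129 := d29_1 D23491 (iv D16129) D16128
def n23494 : Q := act 8 n16131
theorem D23494 : act 8 n16131 = n23494 := rfl
theorem F100632 : act 6 n23494 = n16134 := d40_1 D23494 (iv D16134) (iv F70344)
def n23498 : Q := act 2 n16135
theorem D23498 : act 2 n16135 = n23498 := rfl
theorem F100647 : act 3 n23498 = n18188 := d17_2 D16135 D23498 (iv D18188) (iv D12499) (iv F49327)
def n23499 : Q := act 6 n16135
theorem D23499 : act 6 n16135 = n23499 := rfl
def n23500 : Q := act 8 n16135
theorem D23500 : act 8 n16135 = n23500 := rfl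
theorem F100651 : act 1 n23500 = n16146 := d15_1 D23500 (iv D16146) (iv F70357)
def n23501 : Q := act 5 n16136
theorem D23501 : act 5 n16136 = n23501 := rfl
theorem F100655 : act 4 n23501 = n16296 := d30_1 D23501 (iv D16296) F49738 (iv F49331) (iv F70361)
def n23503 : Q := act 8 n16136
theorem D23503 : act 8 n16136 = n23503 := rfl
theorem F100660 : act 1 n23503 = n16149 := d15_1 D23503 (iv D16149) (iv F70359)
theorem F100663 : act 6 n23503 = n16137 := d40_1 D23503 (iv D16137) D16136
def n23504 : Q := act 3 n16137
theorem D23504 : act 3 n16137 = n23504 := rfl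
def n23505 : Q := act 9 n16137
theorem D23505 : act 9 n16137 = n23505 := rfl
theorem F100666 : act 1 n23505 = n16151 := d16_1 D23505 (iv D16151) (iv F70362)
def n23506 : Q := act 8 n16138
theorem D23506 : act 8 n16138 = n23506 := rfl
theorem F100672 : act 5 n23506 = n16301 := d37_1 D23506 (iv D16301) (iv F70368)
def n23517 : Q := act 5 n16145
theorem D23517 : act 5 n16145 = n23517 := rfl
theorem F100703 : act 0 n23517 = n16168 := d4_1 D23517 (iv D16168) (iv F70387)
theorem F100705 : act 3 n23517 = n16147 := d25_1 D23517 (iv D16147) (iv F70389)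
def n23518 : Q := act 7 n16145
theorem D23518 : act 7 n16145 = n23518 := rfl
theorem F100707 : act 0 n23518 = n16169 := d6_1 D23518 (iv D16169) (iv F70387)
def n23519 : Q := act 8 n16145
theorem D23519 : act 8 n16145 = n23519 := rfl
theorem F100710 : act 0 n23519 = n16170 := d7_1 D23519 (iv D16170) (iv F70387)
theorem F100711 : act 2 n23519 = n23519 := d22_1 D23519 (iv D23519) F70388
theorem F100712 : act 6 n23519 = n16146 := d40_1 D23519 (iv D16146) D16145
def n23520 : Q := act 3 n16146
theorem D23520 : act 3 n16146 = n23520 := rfl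
theorem F100713 : act 0 n23520 = n16171 := d2_1 D23520 (iv D16171) (iv F70390)
theorem F100715 : act 8 n23520 = n16150 := d28_2 D16146 D23520 (iv D16150) (iv D11100) D11098
def n23521 : Q := act 9 n16146
theorem D23521 : act 9 n16146 = n23521 := rfl
theorem F100716 : act 0 n23521 = n16172 := d8_1 D23521 (iv D16172) (iv F70390)
theorem F100717 : act 2 n23521 = n23521 := d23_1 D23521 (iv D23521) F70391
theorem F100718 : act 5 n23521 = n23521 := d38_1 D23521 (iv D23521) F70392
def n23522 : Q := act 7 n16147
theorem D23522 : act 7 n16147 = n23522 := rfl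
theorem F100719 : act 0 n23522 = n16173 := d6_1 D23522 (iv D16173) (iv F70393)
theorem F100721 : act 4 n23522 = n16317 := d32_1 D23522 (iv D16317) (iv F70395)
def n23523 : Q := act 8 n16147
theorem D23523 : act 8 n16147 = n23523 := rfl
theorem F100723 : act 0 n23523 = n16174 := d7_1 D23523 (iv D16174) (iv F70393)
theorem F100726 : act 5 n23523 = n16149 := d37_1 D23523 (iv D16149) D16147
def n23525 : Q := act 3 n16149
theorem D23525 : act 3 n16149 = n23525 := rfl
theorem F100733 : act 6 n23525 = n16150 := d26_2 (iv F70403) D23525 (iv D16150)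
def n23526 : Q := act 9 n16149
theorem D23526 : act 9 n16149 = n23526 := rfl
theorem F100735 : act 2 n23526 = n16164 := d23_1 D23526 (iv D16164) (iv F70401)
def n23527 : Q := act 2 n16150
theorem D23527 : act 2 n16150 = n23527 := rfl
theorem F100739 : act 3 n23527 = n16165 := d17_2 D16150 D23527 (iv D16165) (iv D11110) (iv F49348)
def n23528 : Q := act 4 n16150
theorem D23528 : act 4 n16150 = n23528 := rfl
theorem F100741 : act 0 n23528 = n16179 := d3_1 D23528 (iv D16179) (iv F70404)
theorem F100742 : act 3 n23528 = n16155 := d24_1 D23528 (iv D16155) (iv D11103) (iv F49349) D16150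
def n23529 : Q := act 9 n16150
theorem D23529 : act 9 n16150 = n23529 := rfl
def n23530 : Q := act 3 n16152
theorem D23530 : act 3 n16152 = n23530 := rfl
theorem F100746 : act 0 n23530 = n16181 := d2_1 D23530 (iv D16181) (iv F70410)
theorem F100747 : act 2 n23530 = n16568 := d17_1 D23530 (iv D16568) F50573 (iv F49396) (iv F70411)
def n23533 : Q := act 9 n16153
theorem D23533 : act 9 n16153 = n23533 := rfl
theorem F100757 : act 0 n23533 = n16184 := d8_1 D23533 (iv D16184) (iv F70414)
theorem F100758 : act 2 n23533 = n16571 := d23_1 D23533 (iv D16571) (iv F70415)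
def n23534 : Q := act 5 n16155
theorem D23534 : act 5 n16155 = n23534 := rfl
def n23535 : Q := act 9 n16155
theorem D23535 : act 9 n16155 = n23535 := rfl
def n23537 : Q := act 6 n16157
theorem D23537 : act 6 n16157 = n23537 := rfl
def n23538 : Q := act 9 n16157
theorem D23538 : act 9 n16157 = n23538 := rfl
theorem F100778 : act 5 n23538 = n16158 := d38_1 D23538 (iv D16158) D16157
def n23539 : Q := act 8 n16158
theorem D23539 : act 8 n16158 = n23539 := rfl
theorem F100781 : act 4 n23539 = n16159 := d33_1 D23539 (iv D16159) (iv F70434)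
def n23541 : Q := act 8 n16160
theorem D23541 : act 8 n16160 = n23541 := rfl
theorem F100791 : act 5 n23541 = n16162 := d37_1 D23541 (iv D16162) (iv F70443)
def n23545 : Q := act 9 n16162
theorem D23545 : act 9 n16162 = n23545 := rfl
def n23547 : Q := act 9 n16163
theorem D23547 : act 9 n16163 = n23547 := rfl
theorem F100819 : act 3 n23547 = n16164 := d29_1 D23547 (iv D16164) D16163
theorem F100821 : act 6 n23547 = n16166 := d41_1 D23547 (iv D16166) (iv F70456)
def n23549 : Q := act 9 n16165
theorem D23549 : act 9 n16165 = n23549 := rfl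
theorem F100828 : act 4 n23549 = n16583 := d34_1 D23549 (iv D16583) (iv F70463)
def n23550 : Q := act 8 n16166
theorem D23550 : act 8 n16166 = n23550 := rfl
def n23551 : Q := act 4 n16168
theorem D23551 : act 4 n16168 = n23551 := rfl
theorem F100836 : act 3 n23551 = n16338 := d24_1 D23551 (iv D16338) F49849 (iv F49409) (iv F70477)
def n23552 : Q := act 7 n16168
theorem D23552 : act 7 n16168 = n23552 := rfl
theorem F100840 : act 5 n23552 = n16169 := d36_1 D23552 (iv D16169) D16168
def n23553 : Q := act 8 n16168
theorem D23553 : act 8 n16168 = n23553 := rfl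
theorem F100842 : act 5 n23553 = n16170 := d37_1 D23553 (iv D16170) D16168
def n23554 : Q := act 8 n16169
theorem D23554 : act 8 n16169 = n23554 := rfl
theorem F100845 : act 7 n23554 = n16170 := d42_1 D23554 (iv D16170) D16169
def n23555 : Q := act 3 n16170
theorem D23555 : act 3 n16170 = n23555 := rfl
theorem F100846 : act 6 n23555 = n16171 := d26_2 (iv F70482) D23555 (iv D16171)
theorem F100847 : act 8 n23555 = n16176 := d28_2 D16170 D23555 (iv D16176) (iv D11118) (iv F49405)
def n23556 : Q := act 9 n16170
theorem D23556 : act 9 n16170 = n23556 := rfl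
theorem F100848 : act 2 n23556 = n23556 := d23_1 D23556 (iv D23556) F70481
theorem F100849 : act 6 n23556 = n16172 := d41_1 D23556 (iv D16172) (iv F70482)
def n23557 : Q := act 2 n16171
theorem D23557 : act 2 n16171 = n23557 := rfl
theorem F100852 : act 8 n23557 = n16178 := d22_2 (iv F70484) D23557 (iv D16178)
def n23558 : Q := act 4 n16171
theorem D23558 : act 4 n16171 = n23558 := rfl
theorem F100853 : act 8 n23558 = n16179 := d33_2 (iv F70484) D23558 (iv D16179)
def n23559 : Q := act 9 n16171
theorem D23559 : act 9 n16171 = n23559 := rfl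
theorem F100854 : act 3 n23559 = n16172 := d29_1 D23559 (iv D16172) D16171
theorem F100855 : act 5 n23559 = n23559 := d38_1 D23559 (iv D23559) F70483
def n23560 : Q := act 6 n16173
theorem D23560 : act 6 n16173 = n23560 := rfl
theorem F100857 : act 4 n23560 = n16346 := d31_1 D23560 (iv D16346) (iv F70488)
def n23561 : Q := act 8 n16173
theorem D23561 : act 8 n16173 = n23561 := rfl
theorem F100860 : act 4 n23561 = n16347 := d33_1 D23561 (iv D16347) (iv F70488)
theorem F100861 : act 5 n23561 = n16175 := d37_1 D23561 (iv D16175) (iv F70489)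
def n23563 : Q := act 9 n16174
theorem D23563 : act 9 n16174 = n23563 := rfl
theorem F100865 : act 2 n23563 = n16194 := d23_1 D23563 (iv D16194) (iv F70490)
theorem F100866 : act 4 n23563 = n16349 := d34_1 D23563 (iv D16349) (iv F70491)
def n23564 : Q := act 3 n16175
theorem D23564 : act 3 n16175 = n23564 := rfl
def n23565 : Q := act 9 n16175
theorem D23565 : act 9 n16175 = n23565 := rfl
def n23566 : Q := act 2 n16176
theorem D23566 : act 2 n16176 = n23566 := rfl
theorem F100873 : act 3 n23566 = n16197 := d17_2 D16176 D23566 (iv D16197) (iv D11132) (iv F49413)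
def n23567 : Q := act 4 n16176
theorem D23567 : act 4 n16176 = n23567 := rfl
theorem F100875 : act 3 n23567 = n16183 := d24_1 D23567 (iv D16183) (iv D11122) (iv F49414) D16176
theorem F100876 : act 6 n23567 = n16179 := d31_2 (iv F70497) D23567 (iv D16179)
def n23568 : Q := act 9 n16176
theorem D23568 : act 9 n16176 = n23568 := rfl
theorem F100877 : act 3 n23568 = n16177 := d29_1 D23568 (iv D16177) D16176
theorem F100878 : act 6 n23568 = n16180 := d41_1 D23568 (iv D16180) (iv F70497)
def n23569 : Q := act 1 n16178
theorem D23569 : act 1 n16178 = n23569 := rfl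
theorem F100879 : act 3 n23569 = n16199 := d10_2 (iv F70501) D23569 (iv D16199)
def n23570 : Q := act 4 n16178
theorem D23570 : act 4 n16178 = n23570 := rfl
theorem F100881 : act 2 n23570 = n16179 := d18_1 D23570 (iv D16179) D16178
def n23571 : Q := act 9 n16178
theorem D23571 : act 9 n16178 = n23571 := rfl
theorem F100883 : act 2 n23571 = n16180 := d23_1 D23571 (iv D16180) D16178
theorem F100884 : act 3 n23571 = n16200 := d29_1 D23571 (iv D16200) (iv F70501)
def n23572 : Q := act 5 n16179
theorem D23572 : act 5 n16179 = n23572 := rfl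
theorem F100886 : act 3 n23572 = n16185 := d25_1 D23572 (iv D16185) (iv F70503)
theorem F100887 : act 4 n23572 = n23572 := d30_1 D23572 (iv D23572) (iv D16179) F49416 D16179
def n23573 : Q := act 9 n16179
theorem D23573 : act 9 n16179 = n23573 := rfl
def n23574 : Q := act 8 n16180
theorem D23574 : act 8 n16180 = n23574 := rfl
def n23575 : Q := act 4 n16181
theorem D23575 : act 4 n16181 = n23575 := rfl
theorem F100892 : act 7 n23575 = n16183 := d32_2 (iv F70508) D23575 (iv D16183)
def n23576 : Q := act 9 n16181
theorem D23576 : act 9 n16181 = n23576 := rfl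
theorem F100894 : act 3 n23576 = n16182 := d29_1 D23576 (iv D16182) D16181
theorem F100895 : act 5 n23576 = n16358 := d38_1 D23576 (iv D16358) (iv F70507)
def n23577 : Q := act 5 n16183
theorem D23577 : act 5 n16183 = n23577 := rfl
theorem F100897 : act 2 n23577 = n16604 := d19_1 D23577 (iv D16604) (iv F70512)
theorem F100898 : act 4 n23577 = n16359 := d30_1 D23577 (iv D16359) (iv D11246) (iv F49424) D16183
def n23578 : Q := act 9 n16183
theorem D23578 : act 9 n16183 = n23578 := rfl
def n23579 : Q := act 8 n16184
theorem D23579 : act 8 n16184 = n23579 := rfl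
def n23580 : Q := act 6 n16185
theorem D23580 : act 6 n16185 = n23580 := rfl
theorem F100905 : act 2 n23580 = n16607 := d20_1 D23580 (iv D16607) (iv F70518)
theorem F100906 : act 4 n23580 = n16188 := d31_1 D23580 (iv D16188) (iv F70519)
def n23581 : Q := act 9 n16185
theorem D23581 : act 9 n16185 = n23581 := rfl
def n23583 : Q := act 7 n16188
theorem D23583 : act 7 n16188 = n23583 := rfl
theorem F100912 : act 2 n23583 = n16610 := d21_1 D23583 (iv D16610) (iv F70524)
theorem F100913 : act 3 n23583 = n23583 := d27_1 D23583 (iv D23583) F70525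
theorem F100914 : act 5 n23583 = n16365 := d36_1 D23583 (iv D16365) (iv F70526)
def n23584 : Q := act 9 n16188
theorem D23584 : act 9 n16188 = n23584 := rfl
theorem F100918 : act 6 n23584 = n16189 := d41_1 D23584 (iv D16189) D16188
def n23585 : Q := act 8 n16189
theorem D23585 : act 8 n16189 = n23585 := rfl
theorem F100920 : act 5 n23585 = n16190 := d37_1 D23585 (iv D16190) (iv F70529)
def n23586 : Q := act 3 n16190
theorem D23586 : act 3 n16190 = n23586 := rfl
def n23589 : Q := act 9 n16192
theorem D23589 : act 9 n16192 = n23589 := rfl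
theorem F100933 : act 4 n23589 = n16370 := d34_1 D23589 (iv D16370) (iv F70538)
theorem F100934 : act 5 n23589 = n16196 := d38_1 D23589 (iv D16196) (iv F70539)
def n23591 : Q := act 9 n16193
theorem D23591 : act 9 n16193 = n23591 := rfl
theorem F100941 : act 3 n23591 = n16194 := d29_1 D23591 (iv D16194) D16193
theorem F100943 : act 5 n23591 = n16198 := d38_1 D23591 (iv D16198) (iv F70543)
def n23592 : Q := act 2 n16195
theorem D23592 : act 2 n16195 = n23592 := rfl
theorem F100945 : act 4 n23592 = n16614 := d18_2 (iv F70551) D23592 (iv D16614)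
def n23595 : Q := act 9 n16197
theorem D23595 : act 9 n16197 = n23595 := rfl
theorem F100958 : act 6 n23595 = n16200 := d41_1 D23595 (iv D16200) (iv F70558)
def n23596 : Q := act 8 n16198
theorem D23596 : act 8 n16198 = n23596 := rfl
theorem F100961 : act 6 n23596 = n16201 := d40_1 D23596 (iv D16201) (iv F70563)
def n23597 : Q := act 0 n16199
theorem D23597 : act 0 n16199 = n23597 := rfl
theorem F100963 : act 2 n23597 = n16212 := d1_2 (iv F70564) D23597 (iv D16212)
theorem F100964 : act 4 n23597 = n16619 := d3_2 (iv F70565) D23597 (iv D16619)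
def n23598 : Q := act 9 n16199
theorem D23598 : act 9 n16199 = n23598 := rfl
theorem F100969 : act 4 n23598 = n16620 := d34_1 D23598 (iv D16620) (iv F70565)
def n23599 : Q := act 8 n16200
theorem D23599 : act 8 n16200 = n23599 := rfl
def n23603 : Q := act 9 n16203
theorem D23603 : act 9 n16203 = n23603 := rfl
theorem F100990 : act 3 n23603 = n16204 := d29_1 D23603 (iv D16204) D16203
theorem F100992 : act 5 n23603 = n16208 := d38_1 D23603 (iv D16208) (iv F70581)
def n23605 : Q := act 9 n16205
theorem D23605 : act 9 n16205 = n23605 := rfl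
theorem F100998 : act 0 n23605 = n18295 := d8_1 D23605 (iv D18295) (iv F70588)
theorem F101001 : act 5 n23605 = n16210 := d38_1 D23605 (iv D16210) (iv F70590)
def n23606 : Q := act 8 n16206
theorem D23606 : act 8 n16206 = n23606 := rfl
theorem F101005 : act 5 n23606 = n16211 := d37_1 D23606 (iv D16211) (iv F70596)
def n23609 : Q := act 8 n16208
theorem D23609 : act 8 n16208 = n23609 := rfl
def n23612 : Q := act 8 n16210
theorem D23612 : act 8 n16210 = n23612 := rfl
theorem F101029 : act 6 n23612 = n16214 := d40_1 D23612 (iv D16214) (iv F70612)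
def n23616 : Q := act 2 n16215
theorem D23616 : act 2 n16215 = n23616 := rfl
theorem F101042 : act 1 n23616 = n16372 := d9_1 D23616 (iv D16372) F49940 (iv F49533) (iv F70629)
theorem F101046 : act 9 n23616 = n16293 := d23_2 (iv F70632) D23616 (iv D16293)
def n23617 : Q := act 6 n16215
theorem D23617 : act 6 n16215 = n23617 := rfl
theorem F101047 : act 1 n23617 = n16225 := d13_1 D23617 (iv D16225) (iv F70629)
theorem F101048 : act 3 n23617 = n16216 := d26_1 D23617 (iv D16216) D16215
theorem F101049 : act 9 n23617 = n16294 := d41_2 (iv F70632) D23617 (iv D16294)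
def n23618 : Q := act 8 n16215
theorem D23618 : act 8 n16215 = n23618 := rfl
theorem F101050 : act 1 n23618 = n16226 := d15_1 D23618 (iv D16226) (iv F70629)
def n23620 : Q := act 7 n16216
theorem D23620 : act 7 n16216 = n23620 := rfl
theorem F101057 : act 1 n23620 = n16228 := d14_1 D23620 (iv D16228) (iv F70633)
theorem F101059 : act 4 n23620 = n16218 := d32_1 D23620 (iv D16218) (iv F70635)
theorem F101061 : act 9 n23620 = n16297 := d43_2 (iv F70636) D23620 (iv D16297)
def n23621 : Q := act 8 n16216
theorem D23621 : act 8 n16216 = n23621 := rfl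
theorem F101064 : act 4 n23621 = n16219 := d33_1 D23621 (iv D16219) (iv F70635)
def n23622 : Q := act 3 n16217
theorem D23622 : act 3 n16217 = n23622 := rfl
def n23624 : Q := act 8 n16218
theorem D23624 : act 8 n16218 = n23624 := rfl
theorem F101075 : act 1 n23624 = n16232 := d15_1 D23624 (iv D16232) (iv F70642)
def n23625 : Q := act 3 n16219
theorem D23625 : act 3 n16219 = n23625 := rfl
def n23626 : Q := act 9 n16219
theorem D23626 : act 9 n16219 = n23626 := rfl
def n23628 : Q := act 4 n16220
theorem D23628 : act 4 n16220 = n23628 := rfl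
def n23635 : Q := act 5 n16225
theorem D23635 : act 5 n16225 = n23635 := rfl
theorem F101112 : act 0 n23635 = n16248 := d4_1 D23635 (iv D16248) (iv F70666)
theorem F101113 : act 2 n23635 = n16385 := d19_1 D23635 (iv D16385) (iv F70667)
theorem F101114 : act 3 n23635 = n16227 := d25_1 D23635 (iv D16227) (iv F70668)
theorem F101115 : act 6 n23635 = n23635 := d35_2 D16225 D23635 (iv D23635) (iv D16225) F49534
theorem F101116 : act 9 n23635 = n16312 := d38_2 (iv F70669) D23635 (iv D16312)
def n23636 : Q := act 7 n16225
theorem D23636 : act 7 n16225 = n23636 := rfl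
theorem F101117 : act 0 n23636 = n16249 := d6_1 D23636 (iv D16249) (iv F70666)
theorem F101118 : act 2 n23636 = n16386 := d21_1 D23636 (iv D16386) (iv F70667)
theorem F101119 : act 3 n23636 = n16228 := d27_1 D23636 (iv D16228) (iv F70668)
theorem F101120 : act 6 n23636 = n23636 := d39_1 D23636 (iv D23636) (iv D16225) F49535 D16225
theorem F101121 : act 9 n23636 = n16313 := d43_2 (iv F70669) D23636 (iv D16313)
def n23637 : Q := act 8 n16225
theorem D23637 : act 8 n16225 = n23637 := rfl
theorem F101122 : act 0 n23637 = n16250 := d7_1 D23637 (iv D16250) (iv F70666)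
theorem F101123 : act 2 n23637 = n16387 := d22_1 D23637 (iv D16387) (iv F70667)
theorem F101124 : act 6 n23637 = n16226 := d40_1 D23637 (iv D16226) D16225
def n23638 : Q := act 3 n16226
theorem D23638 : act 3 n16226 = n23638 := rfl
theorem F101125 : act 0 n23638 = n16251 := d2_1 D23638 (iv D16251) (iv F70670)
theorem F101128 : act 8 n23638 = n16230 := d28_2 D16226 D23638 (iv D16230) (iv D11155) D11153
def n23639 : Q := act 9 n16226
theorem D23639 : act 9 n16226 = n23639 := rfl
theorem F101129 : act 0 n23639 = n16252 := d8_1 D23639 (iv D16252) (iv F70670)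
theorem F101130 : act 2 n23639 = n16389 := d23_1 D23639 (iv D16389) (iv F70671)
theorem F101131 : act 5 n23639 = n23639 := d38_1 D23639 (iv D23639) F70672
theorem F101132 : act 7 n23639 = n23639 := d43_1 D23639 (iv D23639) F70673
theorem F101133 : act 8 n23639 = n16316 := d44_1 D23639 (iv D16316) (iv D11213) (iv F49536) D16226
def n23643 : Q := act 3 n16229
theorem D23643 : act 3 n16229 = n23643 := rfl
theorem F101147 : act 0 n23643 = n16256 := d2_1 D23643 (iv D16256) (iv F70683)
def n23644 : Q := act 9 n16229
theorem D23644 : act 9 n16229 = n23644 := rfl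
theorem F101151 : act 4 n23644 = n16234 := d34_1 D23644 (iv D16234) (iv F70685)
def n23645 : Q := act 2 n16230
theorem D23645 : act 2 n16230 = n23645 := rfl
def n23646 : Q := act 4 n16230
theorem D23646 : act 4 n16230 = n23646 := rfl
theorem F101159 : act 3 n23646 = n16235 := d24_1 D23646 (iv D16235) (iv D11158) (iv F49543) D16230
def n23647 : Q := act 9 n16230
theorem D23647 : act 9 n16230 = n23647 := rfl
theorem F101161 : act 0 n23647 = n16260 := d8_1 D23647 (iv D16260) (iv F70687)
def n23648 : Q := act 3 n16232
theorem D23648 : act 3 n16232 = n23648 := rfl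
def n23649 : Q := act 9 n16232
theorem D23649 : act 9 n16232 = n23649 := rfl
def n23650 : Q := act 4 n16233
theorem D23650 : act 4 n16233 = n23650 := rfl
theorem F101174 : act 0 n23650 = n16263 := d3_1 D23650 (iv D16263) (iv F70700)
def n23652 : Q := act 5 n16235
theorem D23652 : act 5 n16235 = n23652 := rfl
theorem F101183 : act 4 n23652 = n16237 := d30_1 D23652 (iv D16237) (iv D11160) (iv F49555) D16235
def n23653 : Q := act 9 n16235
theorem D23653 : act 9 n16235 = n23653 := rfl
theorem F101187 : act 4 n23653 = n16236 := d34_1 D23653 (iv D16236) D16235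
def n23656 : Q := act 9 n16237
theorem D23656 : act 9 n16237 = n23656 := rfl
theorem F101200 : act 5 n23656 = n16238 := d38_1 D23656 (iv D16238) D16237
def n23659 : Q := act 8 n16240
theorem D23659 : act 8 n16240 = n23659 := rfl
theorem F101214 : act 5 n23659 = n16242 := d37_1 D23659 (iv D16242) (iv F70731)
def n23663 : Q := act 9 n16242
theorem D23663 : act 9 n16242 = n23663 := rfl
theorem F101234 : act 4 n23663 = n16247 := d34_1 D23663 (iv D16247) (iv F70739)
theorem F101237 : act 8 n23663 = n16337 := d44_1 D23663 (iv D16337) (iv D11229) (iv F49580) D16242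
def n23664 : Q := act 2 n16243
theorem D23664 : act 2 n16243 = n23664 := rfl
theorem F101240 : act 6 n23664 = n16245 := d20_2 (iv F70745) D23664 (iv D16245)
theorem F101241 : act 8 n23664 = n16404 := d22_2 (iv F70746) D23664 (iv D16404)
def n23665 : Q := act 9 n16243
theorem D23665 : act 9 n16243 = n23665 := rfl
theorem F101244 : act 3 n23665 = n16244 := d29_1 D23665 (iv D16244) D16243
def n23666 : Q := act 1 n16245
theorem D23666 : act 1 n16245 = n23666 := rfl
theorem F101252 : act 8 n23666 = n16405 := d15_2 (iv F70756) D23666 (iv D16405)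
def n23667 : Q := act 9 n16245
theorem D23667 : act 9 n16245 = n23667 := rfl
theorem F101254 : act 2 n23667 = n16246 := d23_1 D23667 (iv D16246) D16245
def n23668 : Q := act 4 n16248
theorem D23668 : act 4 n16248 = n23668 := rfl
theorem F101259 : act 2 n23668 = n16406 := d18_1 D23668 (iv D16406) (iv F70770)
theorem F101260 : act 6 n23668 = n23668 := d31_2 F70772 D23668 (iv D23668)
theorem F101261 : act 9 n23668 = n16338 := d34_2 (iv F70773) D23668 (iv D16338)
def n23669 : Q := act 7 n16248
theorem D23669 : act 7 n16248 = n23669 := rfl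
theorem F101262 : act 2 n23669 = n16407 := d21_1 D23669 (iv D16407) (iv F70770)
theorem F101264 : act 5 n23669 = n16249 := d36_1 D23669 (iv D16249) D16248
def n23670 : Q := act 8 n16248
theorem D23670 : act 8 n16248 = n23670 := rfl
theorem F101266 : act 2 n23670 = n16408 := d22_1 D23670 (iv D16408) (iv F70770)
theorem F101267 : act 5 n23670 = n16250 := d37_1 D23670 (iv D16250) D16248
theorem F101268 : act 6 n23670 = n23670 := d40_1 D23670 (iv D23670) F70772
def n23671 : Q := act 8 n16249
theorem D23671 : act 8 n16249 = n23671 := rfl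
theorem F101269 : act 2 n23671 = n16409 := d22_1 D23671 (iv D16409) (iv F70774)
theorem F101270 : act 6 n23671 = n23671 := d40_1 D23671 (iv D23671) F70776
theorem F101271 : act 7 n23671 = n16250 := d42_1 D23671 (iv D16250) D16249
def n23672 : Q := act 3 n16250
theorem D23672 : act 3 n16250 = n23672 := rfl
theorem F101272 : act 6 n23672 = n16251 := d26_2 (iv F70779) D23672 (iv D16251)
theorem F101273 : act 8 n23672 = n16256 := d28_2 D16250 D23672 (iv D16256) (iv D11173) (iv F49608)
def n23673 : Q := act 9 n16250
theorem D23673 : act 9 n16250 = n23673 := rfl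
theorem F101274 : act 2 n23673 = n16411 := d23_1 D23673 (iv D16411) (iv F70778)
theorem F101275 : act 6 n23673 = n16252 := d41_1 D23673 (iv D16252) (iv F70779)
theorem F101276 : act 8 n23673 = n16343 := d44_1 D23673 (iv D16343) (iv D11234) (iv F49609) D16250
def n23674 : Q := act 2 n16251
theorem D23674 : act 2 n16251 = n23674 := rfl
theorem F101277 : act 3 n23674 = n16412 := d17_2 D16251 D23674 (iv D16412) (iv D11286) (iv F49610)
theorem F101278 : act 5 n23674 = n23674 := d19_2 F70780 D23674 (iv D23674)
theorem F101279 : act 7 n23674 = n23674 := d21_2 F70781 D23674 (iv D23674)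
theorem F101280 : act 8 n23674 = n16258 := d22_2 (iv F70782) D23674 (iv D16258)
def n23675 : Q := act 4 n16251
theorem D23675 : act 4 n16251 = n23675 := rfl
theorem F101282 : act 8 n23675 = n16259 := d33_2 (iv F70782) D23675 (iv D16259)
def n23676 : Q := act 9 n16251
theorem D23676 : act 9 n16251 = n23676 := rfl
theorem F101283 : act 3 n23676 = n16252 := d29_1 D23676 (iv D16252) D16251
theorem F101284 : act 5 n23676 = n23676 := d38_1 D23676 (iv D23676) F70780
theorem F101285 : act 7 n23676 = n23676 := d43_1 D23676 (iv D23676) F70781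
def n23679 : Q := act 3 n16254
theorem D23679 : act 3 n16254 = n23679 := rfl
theorem F101293 : act 5 n23679 = n16256 := d25_2 (iv F70791) D23679 (iv D16256)
def n23680 : Q := act 9 n16254
theorem D23680 : act 9 n16254 = n23680 := rfl
def n23681 : Q := act 3 n16255
theorem D23681 : act 3 n16255 = n23681 := rfl
theorem F101300 : act 7 n23681 = n16256 := d27_2 (iv F70796) D23681 (iv D16256)
def n23683 : Q := act 2 n16256
theorem D23683 : act 2 n16256 = n23683 := rfl
theorem F101306 : act 3 n23683 = n16277 := d17_2 D16256 D23683 (iv D16277) (iv D11187) (iv F49620)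
theorem F101307 : act 6 n23683 = n16258 := d20_2 (iv F70797) D23683 (iv D16258)
def n23684 : Q := act 4 n16256
theorem D23684 : act 4 n16256 = n23684 := rfl
theorem F101308 : act 3 n23684 = n16263 := d24_1 D23684 (iv D16263) (iv D11177) (iv F49621) D16256
theorem F101309 : act 6 n23684 = n16259 := d31_2 (iv F70797) D23684 (iv D16259)
def n23685 : Q := act 9 n16256
theorem D23685 : act 9 n16256 = n23685 := rfl
theorem F101310 : act 3 n23685 = n16257 := d29_1 D23685 (iv D16257) D16256
theorem F101311 : act 6 n23685 = n16260 := d41_1 D23685 (iv D16260) (iv F70797)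
def n23686 : Q := act 1 n16258
theorem D23686 : act 1 n16258 = n23686 := rfl
def n23687 : Q := act 4 n16258
theorem D23687 : act 4 n16258 = n23687 := rfl
def n23689 : Q := act 5 n16259
theorem D23689 : act 5 n16259 = n23689 := rfl
def n23690 : Q := act 9 n16259
theorem D23690 : act 9 n16259 = n23690 := rfl
theorem F101325 : act 3 n23690 = n16266 := d29_1 D23690 (iv D16266) (iv F70805)
theorem F101326 : act 4 n23690 = n16260 := d34_1 D23690 (iv D16260) D16259
def n23691 : Q := act 8 n16260
theorem D23691 : act 8 n16260 = n23691 := rfl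
theorem F101328 : act 3 n23691 = n16356 := d28_1 D23691 (iv D16356) F49881 (iv F49629) (iv F70807)
def n23693 : Q := act 9 n16261
theorem D23693 : act 9 n16261 = n23693 := rfl
theorem F101335 : act 3 n23693 = n16262 := d29_1 D23693 (iv D16262) D16261
def n23694 : Q := act 5 n16263
theorem D23694 : act 5 n16263 = n23694 := rfl
def n23695 : Q := act 9 n16263
theorem D23695 : act 9 n16263 = n23695 := rfl
theorem F101340 : act 4 n23695 = n16264 := d34_1 D23695 (iv D16264) D16263
theorem F101341 : act 6 n23695 = n16266 := d41_1 D23695 (iv D16266) (iv F70818)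
def n23696 : Q := act 8 n16264
theorem D23696 : act 8 n16264 = n23696 := rfl
theorem F101343 : act 3 n23696 = n16361 := d28_1 D23696 (iv D16361) F49893 (iv F49637) (iv F70820)
def n23698 : Q := act 9 n16265
theorem D23698 : act 9 n16265 = n23698 := rfl
theorem F101348 : act 4 n23698 = n16269 := d34_1 D23698 (iv D16269) (iv F70823)
theorem F101349 : act 5 n23698 = n16266 := d38_1 D23698 (iv D16266) D16265
def n23699 : Q := act 8 n16266
theorem D23699 : act 8 n16266 = n23699 := rfl
theorem F101352 : act 4 n23699 = n16267 := d33_1 D23699 (iv D16267) (iv F70826)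
def n23702 : Q := act 8 n16269
theorem D23702 : act 8 n16269 = n23702 := rfl
theorem F101361 : act 5 n23702 = n16270 := d37_1 D23702 (iv D16270) (iv F70836)
def n23703 : Q := act 3 n16270
theorem D23703 : act 3 n16270 = n23703 := rfl
theorem F101363 : act 4 n23703 = n16368 := d24_2 (iv F70839) D23703 (iv D16368) F49911 (iv F49652)
def n23706 : Q := act 9 n16272
theorem D23706 : act 9 n16272 = n23706 := rfl
theorem F101377 : act 8 n23706 = n16370 := d44_1 D23706 (iv D16370) (iv D11255) (iv F49657) D16272
def n23707 : Q := act 2 n16273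
theorem D23707 : act 2 n16273 = n23707 := rfl
theorem F101378 : act 5 n23707 = n16277 := d19_2 (iv F70850) D23707 (iv D16277)
theorem F101380 : act 8 n23707 = n16430 := d22_2 (iv F70852) D23707 (iv D16430)
def n23709 : Q := act 9 n16273
theorem D23709 : act 9 n16273 = n23709 := rfl
theorem F101386 : act 3 n23709 = n16274 := d29_1 D23709 (iv D16274) D16273
def n23710 : Q := act 2 n16275
theorem D23710 : act 2 n16275 = n23710 := rfl
theorem F101392 : act 7 n23710 = n16277 := d21_2 (iv F70860) D23710 (iv D16277)
theorem F101393 : act 8 n23710 = n16432 := d22_2 (iv F70861) D23710 (iv D16432)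
def n23711 : Q := act 9 n16275
theorem D23711 : act 9 n16275 = n23711 := rfl
theorem F101395 : act 3 n23711 = n16276 := d29_1 D23711 (iv D16276) D16275
def n23712 : Q := act 1 n16277
theorem D23712 : act 1 n16277 = n23712 := rfl
def n23714 : Q := act 0 n16279
theorem D23714 : act 0 n16279 = n23714 := rfl
theorem F101408 : act 2 n23714 = n16291 := d1_2 (iv F70875) D23714 (iv D16291)
theorem F101412 : act 8 n23714 = n16434 := d7_2 (iv F70879) D23714 (iv D16434)
def n23715 : Q := act 9 n16279
theorem D23715 : act 9 n16279 = n23715 := rfl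
theorem F101414 : act 2 n23715 = n16292 := d23_1 D23715 (iv D16292) (iv F70875)
def n23716 : Q := act 3 n16281
theorem D23716 : act 3 n16281 = n23716 := rfl
theorem F101421 : act 6 n23716 = n16282 := d26_2 (iv F70887) D23716 (iv D16282)
theorem F101423 : act 8 n23716 = n16435 := d28_2 D16281 D23716 (iv D16435) (iv D11304) (iv F49689)
def n23717 : Q := act 9 n16281
theorem D23717 : act 9 n16281 = n23717 := rfl
theorem F101428 : act 8 n23717 = n16371 := d44_1 D23717 (iv D16371) (iv D11258) (iv F49692) D16281
def n23718 : Q := act 2 n16282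
theorem D23718 : act 2 n16282 = n23718 := rfl
theorem F101430 : act 5 n23718 = n16287 := d19_2 (iv F70890) D23718 (iv D16287)
theorem F101432 : act 8 n23718 = n16436 := d22_2 (iv F70892) D23718 (iv D16436)
def n23719 : Q := act 4 n16282
theorem D23719 : act 4 n16282 = n23719 := rfl
def n23720 : Q := act 9 n16282
theorem D23720 : act 9 n16282 = n23720 := rfl
def n23721 : Q := act 1 n16284
theorem D23721 : act 1 n16284 = n23721 := rfl
theorem F101442 : act 5 n23721 = n16289 := d12_2 (iv F70898) D23721 (iv D16289)
theorem F101444 : act 8 n23721 = n16438 := d15_2 (iv F70900) D23721 (iv D16438)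
def n23723 : Q := act 9 n16284
theorem D23723 : act 9 n16284 = n23723 := rfl
theorem F101451 : act 2 n23723 = n16286 := d23_1 D23723 (iv D16286) D16284
def n23725 : Q := act 1 n16287
theorem D23725 : act 1 n16287 = n23725 := rfl
theorem F101462 : act 7 n23725 = n16289 := d14_2 (iv F70913) D23725 (iv D16289)
def n23726 : Q := act 9 n16287
theorem D23726 : act 9 n16287 = n23726 := rfl
def n23727 : Q := act 0 n16289
theorem D23727 : act 0 n16289 = n23727 := rfl
theorem F101472 : act 6 n23727 = n16291 := d5_2 (iv F70922) D23727 (iv D16291)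
theorem F101473 : act 8 n23727 = n16441 := d7_2 (iv F70923) D23727 (iv D16441)
def n23728 : Q := act 9 n16289
theorem D23728 : act 9 n16289 = n23728 := rfl
theorem F101476 : act 6 n23728 = n16292 := d41_1 D23728 (iv D16292) (iv F70922)
def n23729 : Q := act 9 n16291
theorem D23729 : act 9 n16291 = n23729 := rfl
def n23730 : Q := act 6 n16293
theorem D23730 : act 6 n16293 = n23730 := rfl
theorem F101484 : act 1 n23730 = n16442 := d13_1 D23730 (iv D16442) (iv F70939)
theorem F101485 : act 2 n23730 = n16294 := d20_1 D23730 (iv D16294) D16293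
def n23731 : Q := act 8 n16293
theorem D23731 : act 8 n16293 = n23731 := rfl
theorem F101487 : act 1 n23731 = n16443 := d15_1 D23731 (iv D16443) (iv F70939)
theorem F101488 : act 2 n23731 = n16295 := d22_1 D23731 (iv D16295) D16293
def n23732 : Q := act 5 n16294
theorem D23732 : act 5 n16294 = n23732 := rfl
theorem F101491 : act 1 n23732 = n16312 := d12_1 D23732 (iv D16312) (iv F70943)
theorem F101492 : act 3 n23732 = n16296 := d25_1 D23732 (iv D16296) (iv F70944)
def n23733 : Q := act 7 n16294
theorem D23733 : act 7 n16294 = n23733 := rfl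
theorem F101494 : act 1 n23733 = n16313 := d14_1 D23733 (iv D16313) (iv F70943)
def n23734 : Q := act 8 n16294
theorem D23734 : act 8 n16294 = n23734 := rfl
theorem F101497 : act 1 n23734 = n16314 := d15_1 D23734 (iv D16314) (iv F70943)
def n23735 : Q := act 3 n16295
theorem D23735 : act 3 n16295 = n23735 := rfl
theorem F101502 : act 8 n23735 = n16299 := d28_2 D16295 D23735 (iv D16299) (iv D11204) D11202
def n23740 : Q := act 3 n16298
theorem D23740 : act 3 n16298 = n23740 := rfl
def n23745 : Q := act 3 n16301
theorem D23745 : act 3 n16301 = n23745 := rfl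
def n23762 : Q := act 4 n16312
theorem D23762 : act 4 n16312 = n23762 := rfl
theorem F101590 : act 0 n23762 = n16338 := d3_1 D23762 (iv D16338) (iv F71002)
theorem F101591 : act 2 n23762 = n16449 := d18_1 D23762 (iv D16449) (iv F71003)
theorem F101592 : act 6 n23762 = n23762 := d31_2 F71005 D23762 (iv D23762)
def n23763 : Q := act 7 n16312
theorem D23763 : act 7 n16312 = n23763 := rfl
theorem F101594 : act 2 n23763 = n16450 := d21_1 D23763 (iv D16450) (iv F71003)
theorem F101595 : act 3 n23763 = n16317 := d27_1 D23763 (iv D16317) (iv F71004)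
theorem F101596 : act 5 n23763 = n16313 := d36_1 D23763 (iv D16313) D16312
def n23764 : Q := act 8 n16312
theorem D23764 : act 8 n16312 = n23764 := rfl
theorem F101597 : act 0 n23764 = n16340 := d7_1 D23764 (iv D16340) (iv F71002)
theorem F101598 : act 2 n23764 = n16451 := d22_1 D23764 (iv D16451) (iv F71003)
theorem F101599 : act 5 n23764 = n16314 := d37_1 D23764 (iv D16314) D16312
theorem F101600 : act 6 n23764 = n23764 := d40_1 D23764 (iv D23764) F71005
def n23765 : Q := act 8 n16313
theorem D23765 : act 8 n16313 = n23765 := rfl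
theorem F101601 : act 0 n23765 = n16341 := d7_1 D23765 (iv D16341) (iv F71006)
theorem F101602 : act 2 n23765 = n16452 := d22_1 D23765 (iv D16452) (iv F71007)
theorem F101603 : act 6 n23765 = n23765 := d40_1 D23765 (iv D23765) F71009
theorem F101604 : act 7 n23765 = n16314 := d42_1 D23765 (iv D16314) D16313
def n23766 : Q := act 3 n16314
theorem D23766 : act 3 n16314 = n23766 := rfl
theorem F101605 : act 0 n23766 = n16342 := d2_1 D23766 (iv D16342) (iv F71010)
theorem F101608 : act 8 n23766 = n16320 := d28_2 D16314 D23766 (iv D16320) (iv D11216) (iv F49768)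
def n23767 : Q := act 9 n16314
theorem D23767 : act 9 n16314 = n23767 := rfl
theorem F101609 : act 0 n23767 = n16343 := d8_1 D23767 (iv D16343) (iv F71010)
theorem F101610 : act 2 n23767 = n16453 := d23_1 D23767 (iv D16453) (iv F71011)
theorem F101611 : act 6 n23767 = n16316 := d41_1 D23767 (iv D16316) (iv F71012)
def n23768 : Q := act 4 n16315
theorem D23768 : act 4 n16315 = n23768 := rfl
theorem F101615 : act 8 n23768 = n16322 := d33_2 (iv F71017) D23768 (iv D16322)
def n23772 : Q := act 3 n16318
theorem D23772 : act 3 n16318 = n23772 := rfl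
theorem F101631 : act 5 n23772 = n16320 := d25_2 (iv F71027) D23772 (iv D16320)
def n23774 : Q := act 3 n16319
theorem D23774 : act 3 n16319 = n23774 := rfl
theorem F101640 : act 7 n23774 = n16320 := d27_2 (iv F71033) D23774 (iv D16320)
def n23777 : Q := act 9 n16320
theorem D23777 : act 9 n16320 = n23777 := rfl
def n23778 : Q := act 5 n16322
theorem D23778 : act 5 n16322 = n23778 := rfl
theorem F101656 : act 3 n23778 = n16328 := d25_1 D23778 (iv D16328) (iv F71043)
def n23779 : Q := act 9 n16322
theorem D23779 : act 9 n16322 = n23779 := rfl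
theorem F101661 : act 3 n23779 = n16329 := d29_1 D23779 (iv D16329) (iv F71043)
def n23786 : Q := act 6 n16328
theorem D23786 : act 6 n16328 = n23786 := rfl
def n23787 : Q := act 9 n16328
theorem D23787 : act 9 n16328 = n23787 := rfl
theorem F101691 : act 4 n23787 = n16332 := d34_1 D23787 (iv D16332) (iv F71067)
def n23788 : Q := act 8 n16329
theorem D23788 : act 8 n16329 = n23788 := rfl
def n23789 : Q := act 7 n16331
theorem D23789 : act 7 n16331 = n23789 := rfl
def n23790 : Q := act 9 n16331
theorem D23790 : act 9 n16331 = n23790 := rfl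
theorem F101705 : act 6 n23790 = n16332 := d41_1 D23790 (iv D16332) D16331
def n23791 : Q := act 8 n16332
theorem D23791 : act 8 n16332 = n23791 := rfl
def n23794 : Q := act 9 n16335
theorem D23794 : act 9 n16335 = n23794 := rfl
def n23795 : Q := act 7 n16338
theorem D23795 : act 7 n16338 = n23795 := rfl
theorem F101724 : act 2 n23795 = n16455 := d21_1 D23795 (iv D16455) (iv F71110)
theorem F101725 : act 4 n23795 = n16339 := d32_1 D23795 (iv D16339) D16338
def n23796 : Q := act 8 n16338
theorem D23796 : act 8 n16338 = n23796 := rfl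
theorem F101726 : act 2 n23796 = n16456 := d22_1 D23796 (iv D16456) (iv F71110)
theorem F101727 : act 4 n23796 = n16340 := d33_1 D23796 (iv D16340) D16338
theorem F101728 : act 6 n23796 = n23796 := d40_1 D23796 (iv D23796) F71111
def n23797 : Q := act 6 n16339
theorem D23797 : act 6 n16339 = n23797 := rfl
theorem F101729 : act 2 n23797 = n16457 := d20_1 D23797 (iv D16457) (iv F71112)
theorem F101730 : act 3 n23797 = n16346 := d26_1 D23797 (iv D16346) (iv F71113)
def n23798 : Q := act 8 n16339
theorem D23798 : act 8 n16339 = n23798 := rfl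
theorem F101733 : act 2 n23798 = n16458 := d22_1 D23798 (iv D16458) (iv F71112)
theorem F101734 : act 5 n23798 = n16341 := d37_1 D23798 (iv D16341) (iv F71114)
theorem F101735 : act 7 n23798 = n16340 := d42_1 D23798 (iv D16340) D16339
def n23799 : Q := act 3 n16340
theorem D23799 : act 3 n16340 = n23799 := rfl
theorem F101737 : act 5 n23799 = n16342 := d25_2 (iv F71116) D23799 (iv D16342)
theorem F101739 : act 8 n23799 = n16348 := d28_2 D16340 D23799 (iv D16348) (iv D11238) (iv F49849)
def n23800 : Q := act 9 n16340
theorem D23800 : act 9 n16340 = n23800 := rfl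
theorem F101740 : act 2 n23800 = n16459 := d23_1 D23800 (iv D16459) (iv F71115)
theorem F101741 : act 5 n23800 = n16343 := d38_1 D23800 (iv D16343) (iv F71116)
theorem F101742 : act 6 n23800 = n23800 := d41_1 D23800 (iv D23800) F71117
def n23801 : Q := act 3 n16341
theorem D23801 : act 3 n16341 = n23801 := rfl
theorem F101745 : act 7 n23801 = n16342 := d27_2 (iv F71120) D23801 (iv D16342)
theorem F101746 : act 8 n23801 = n16350 := d28_2 D16341 D23801 (iv D16350) (iv D11239) (iv F49852)
def n23802 : Q := act 9 n16341
theorem D23802 : act 9 n16341 = n23802 := rfl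
theorem F101747 : act 2 n23802 = n16460 := d23_1 D23802 (iv D16460) (iv F71118)
theorem F101748 : act 6 n23802 = n23802 := d41_1 D23802 (iv D23802) F71119
theorem F101749 : act 7 n23802 = n16343 := d43_1 D23802 (iv D16343) (iv F71120)
def n23803 : Q := act 4 n16342
theorem D23803 : act 4 n16342 = n23803 := rfl
theorem F101750 : act 2 n23803 = n23803 := d18_1 D23803 (iv D23803) F71121
theorem F101751 : act 6 n23803 = n16344 := d31_2 (iv F71122) D23803 (iv D16344)
theorem F101752 : act 8 n23803 = n16352 := d33_2 (iv F71123) D23803 (iv D16352)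
def n23804 : Q := act 9 n16342
theorem D23804 : act 9 n16342 = n23804 := rfl
theorem F101753 : act 2 n23804 = n23804 := d23_1 D23804 (iv D23804) F71121
theorem F101754 : act 3 n23804 = n16343 := d29_1 D23804 (iv D16343) D16342
theorem F101755 : act 6 n23804 = n16345 := d41_1 D23804 (iv D16345) (iv F71122)
def n23805 : Q := act 5 n16344
theorem D23805 : act 5 n16344 = n23805 := rfl
theorem F101756 : act 2 n23805 = n23805 := d19_1 D23805 (iv D23805) F71126
theorem F101757 : act 4 n23805 = n23805 := d30_1 D23805 (iv D23805) (iv D16344) F49857 D16344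
theorem F101758 : act 7 n23805 = n23805 := d36_2 F71127 D23805 (iv D23805)
theorem F101759 : act 8 n23805 = n16354 := d37_2 (iv F71128) D23805 (iv D16354)
def n23806 : Q := act 9 n16344
theorem D23806 : act 9 n16344 = n23806 := rfl
theorem F101760 : act 2 n23806 = n23806 := d23_1 D23806 (iv D23806) F71126
theorem F101761 : act 4 n23806 = n16345 := d34_1 D23806 (iv D16345) D16344
theorem F101762 : act 7 n23806 = n23806 := d43_1 D23806 (iv D23806) F71127
def n23809 : Q := act 3 n16347
theorem D23809 : act 3 n16347 = n23809 := rfl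
theorem F101772 : act 5 n23809 = n16350 := d25_2 (iv F71137) D23809 (iv D16350)
def n23810 : Q := act 9 n16347
theorem D23810 : act 9 n16347 = n23810 := rfl
def n23812 : Q := act 9 n16348
theorem D23812 : act 9 n16348 = n23812 := rfl
theorem F101780 : act 3 n23812 = n16349 := d29_1 D23812 (iv D16349) D16348
theorem F101781 : act 5 n23812 = n16353 := d38_1 D23812 (iv D16353) (iv F71140)
def n23813 : Q := act 4 n16350
theorem D23813 : act 4 n16350 = n23813 := rfl
theorem F101784 : act 3 n23813 = n16357 := d24_1 D23813 (iv D16357) (iv D11244) (iv F49869) D16350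
theorem F101786 : act 7 n23813 = n16352 := d32_2 (iv F71147) D23813 (iv D16352)
def n23814 : Q := act 9 n16350
theorem D23814 : act 9 n16350 = n23814 := rfl
theorem F101788 : act 3 n23814 = n16351 := d29_1 D23814 (iv D16351) D16350
def n23815 : Q := act 5 n16352
theorem D23815 : act 5 n16352 = n23815 := rfl
theorem F101791 : act 2 n23815 = n23815 := d19_1 D23815 (iv D23815) F71152
theorem F101792 : act 3 n23815 = n16359 := d25_1 D23815 (iv D16359) (iv F71153)
def n23816 : Q := act 9 n16352
theorem D23816 : act 9 n16352 = n23816 := rfl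
theorem F101794 : act 3 n23816 = n16360 := d29_1 D23816 (iv D16360) (iv F71153)
def n23817 : Q := act 8 n16353
theorem D23817 : act 8 n16353 = n23817 := rfl
def n23818 : Q := act 6 n16354
theorem D23818 : act 6 n16354 = n23818 := rfl
theorem F101799 : act 2 n23818 = n23818 := d20_1 D23818 (iv D23818) F71158
theorem F101800 : act 3 n23818 = n16362 := d26_1 D23818 (iv D16362) (iv F71159)
theorem F101801 : act 4 n23818 = n23818 := d31_1 D23818 (iv D23818) F71160
def n23819 : Q := act 9 n16354
theorem D23819 : act 9 n16354 = n23819 := rfl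
theorem F101803 : act 3 n23819 = n16363 := d29_1 D23819 (iv D16363) (iv F71159)
def n23820 : Q := act 8 n16355
theorem D23820 : act 8 n16355 = n23820 := rfl
def n23821 : Q := act 5 n16357
theorem D23821 : act 5 n16357 = n23821 := rfl
theorem F101810 : act 2 n23821 = n16660 := d19_1 D23821 (iv D16660) (iv F71169)
theorem F101811 : act 7 n23821 = n16359 := d36_2 (iv F71171) D23821 (iv D16359)
def n23822 : Q := act 9 n16357
theorem D23822 : act 9 n16357 = n23822 := rfl
theorem F101813 : act 4 n23822 = n16358 := d34_1 D23822 (iv D16358) D16357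
def n23823 : Q := act 8 n16358
theorem D23823 : act 8 n16358 = n23823 := rfl
def n23824 : Q := act 6 n16359
theorem D23824 : act 6 n16359 = n23824 := rfl
theorem F101819 : act 2 n23824 = n16663 := d20_1 D23824 (iv D16663) (iv F71176)
theorem F101820 : act 5 n23824 = n16362 := d35_1 D23824 (iv D16362) (iv D11248) (iv F49891) D16359
def n23825 : Q := act 9 n16359
theorem D23825 : act 9 n16359 = n23825 := rfl
def n23827 : Q := act 7 n16362
theorem D23827 : act 7 n16362 = n23827 := rfl
theorem F101826 : act 2 n23827 = n16666 := d21_1 D23827 (iv D16666) (iv F71182)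
theorem F101827 : act 4 n23827 = n16365 := d32_1 D23827 (iv D16365) (iv F71183)
theorem F101828 : act 6 n23827 = n23827 := d39_1 D23827 (iv D23827) (iv D16362) F49897 D16362
def n23828 : Q := act 9 n16362
theorem D23828 : act 9 n16362 = n23828 := rfl
theorem F101831 : act 6 n23828 = n16363 := d41_1 D23828 (iv D16363) D16362
def n23829 : Q := act 8 n16363
theorem D23829 : act 8 n16363 = n23829 := rfl
theorem F101833 : act 4 n23829 = n16367 := d33_1 D23829 (iv D16367) (iv F71185)
theorem F101834 : act 5 n23829 = n16364 := d37_1 D23829 (iv D16364) (iv F71186)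
def n23830 : Q := act 3 n16364
theorem D23830 : act 3 n16364 = n23830 := rfl
def n23831 : Q := act 9 n16365
theorem D23831 : act 9 n16365 = n23831 := rfl
theorem F101840 : act 7 n23831 = n16366 := d43_1 D23831 (iv D16366) D16365
def n23833 : Q := act 3 n16367
theorem D23833 : act 3 n16367 = n23833 := rfl
def n23834 : Q := act 2 n16368
theorem D23834 : act 2 n16368 = n23834 := rfl
theorem F101846 : act 3 n23834 = n16673 := d17_2 D16368 D23834 (iv D16673) (iv D11479) (iv F49910)
def n23836 : Q := act 6 n16372
theorem D23836 : act 6 n16372 = n23836 := rfl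
theorem F101855 : act 2 n23836 = n16373 := d20_1 D23836 (iv D16373) D16372
def n23838 : Q := act 5 n16373
theorem D23838 : act 5 n16373 = n23838 := rfl
theorem F101863 : act 1 n23838 = n16385 := d12_1 D23838 (iv D16385) (iv F71222)
theorem F101866 : act 9 n23838 = n16444 := d38_2 (iv F71224) D23838 (iv D16444)
def n23839 : Q := act 7 n16373
theorem D23839 : act 7 n16373 = n23839 := rfl
theorem F101868 : act 1 n23839 = n16386 := d14_1 D23839 (iv D16386) (iv F71222)
theorem F101871 : act 9 n23839 = n16445 := d43_2 (iv F71224) D23839 (iv D16445)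
def n23840 : Q := act 8 n16373
theorem D23840 : act 8 n16373 = n23840 := rfl
theorem F101873 : act 1 n23840 = n16387 := d15_1 D23840 (iv D16387) (iv F71222)
def n23842 : Q := act 9 n16374
theorem D23842 : act 9 n16374 = n23842 := rfl
theorem F101881 : act 1 n23842 = n16389 := d16_1 D23842 (iv D16389) (iv F71226)
def n23843 : Q := act 7 n16375
theorem D23843 : act 7 n16375 = n23843 := rfl
theorem F101889 : act 5 n23843 = n16376 := d36_1 D23843 (iv D16376) D16375
theorem F101890 : act 9 n23843 = n16448 := d43_2 (iv F71234) D23843 (iv D16448)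
def n23857 : Q := act 4 n16385
theorem D23857 : act 4 n16385 = n23857 := rfl
theorem F101962 : act 0 n23857 = n16406 := d3_1 D23857 (iv D16406) (iv F71285)
theorem F101963 : act 3 n23857 = n23857 := d24_1 D23857 (iv D23857) F71286 F49993 (iv F71286)
theorem F101964 : act 6 n23857 = n23857 := d31_2 F71287 D23857 (iv D23857)
theorem F101965 : act 9 n23857 = n16449 := d34_2 (iv F71288) D23857 (iv D16449)
def n23858 : Q := act 7 n16385
theorem D23858 : act 7 n16385 = n23858 := rfl
theorem F101966 : act 0 n23858 = n16407 := d6_1 D23858 (iv D16407) (iv F71285)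
theorem F101968 : act 5 n23858 = n16386 := d36_1 D23858 (iv D16386) D16385
def n23859 : Q := act 8 n16385
theorem D23859 : act 8 n16385 = n23859 := rfl
theorem F101970 : act 0 n23859 = n16408 := d7_1 D23859 (iv D16408) (iv F71285)
theorem F101971 : act 5 n23859 = n16387 := d37_1 D23859 (iv D16387) D16385
theorem F101972 : act 6 n23859 = n23859 := d40_1 D23859 (iv D23859) F71287
def n23860 : Q := act 8 n16386
theorem D23860 : act 8 n16386 = n23860 := rfl
theorem F101973 : act 0 n23860 = n16409 := d7_1 D23860 (iv D16409) (iv F71289)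
theorem F101974 : act 6 n23860 = n23860 := d40_1 D23860 (iv D23860) F71291
theorem F101975 : act 7 n23860 = n16387 := d42_1 D23860 (iv D16387) D16386
def n23861 : Q := act 3 n16387
theorem D23861 : act 3 n16387 = n23861 := rfl
theorem F101976 : act 0 n23861 = n16410 := d2_1 D23861 (iv D16410) (iv F71293)
def n23862 : Q := act 9 n16387
theorem D23862 : act 9 n16387 = n23862 := rfl
theorem F101979 : act 0 n23862 = n16411 := d8_1 D23862 (iv D16411) (iv F71293)
theorem F101980 : act 6 n23862 = n16389 := d41_1 D23862 (iv D16389) (iv F71294)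
theorem F101981 : act 8 n23862 = n16453 := d44_1 D23862 (iv D16453) (iv D11318) (iv F49987) D16387
def n23865 : Q := act 9 n16388
theorem D23865 : act 9 n16388 = n23865 := rfl
theorem F101989 : act 0 n23865 = n16414 := d8_1 D23865 (iv D16414) (iv F71295)
theorem F101990 : act 3 n23865 = n16389 := d29_1 D23865 (iv D16389) D16388
def n23868 : Q := act 3 n16391
theorem D23868 : act 3 n16391 = n23868 := rfl
theorem F102006 : act 0 n23868 = n16417 := d2_1 D23868 (iv D16417) (iv F71308)
def n23869 : Q := act 3 n16392
theorem D23869 : act 3 n16392 = n23869 := rfl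
theorem F102010 : act 0 n23869 = n16418 := d2_1 D23869 (iv D16418) (iv F71314)
def n23870 : Q := act 2 n16393
theorem D23870 : act 2 n16393 = n23870 := rfl
theorem F102015 : act 3 n23870 = n16404 := d17_2 D16393 D23870 (iv D16404) (iv D11281) (iv F50002)
def n23884 : Q := act 1 n16404
theorem D23884 : act 1 n16404 = n23884 := rfl
def n23886 : Q := act 7 n16406
theorem D23886 : act 7 n16406 = n23886 := rfl
theorem F102092 : act 1 n23886 = n23886 := d14_1 D23886 (iv D23886) F71384
theorem F102093 : act 3 n23886 = n23886 := d27_1 D23886 (iv D23886) F71385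
theorem F102094 : act 4 n23886 = n16407 := d32_1 D23886 (iv D16407) D16406
theorem F102095 : act 9 n23886 = n16455 := d43_2 (iv F71387) D23886 (iv D16455)
def n23887 : Q := act 8 n16406
theorem D23887 : act 8 n16406 = n23887 := rfl
theorem F102096 : act 1 n23887 = n23887 := d15_1 D23887 (iv D23887) F71384
theorem F102097 : act 4 n23887 = n16408 := d33_1 D23887 (iv D16408) D16406
theorem F102098 : act 6 n23887 = n23887 := d40_1 D23887 (iv D23887) F71386
def n23888 : Q := act 6 n16407
theorem D23888 : act 6 n16407 = n23888 := rfl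
def n23889 : Q := act 8 n16407
theorem D23889 : act 8 n16407 = n23889 := rfl
theorem F102104 : act 1 n23889 = n23889 := d15_1 D23889 (iv D23889) F71388
theorem F102105 : act 5 n23889 = n16409 := d37_1 D23889 (iv D16409) (iv F71390)
theorem F102106 : act 7 n23889 = n16408 := d42_1 D23889 (iv D16408) D16407
def n23890 : Q := act 3 n16408
theorem D23890 : act 3 n16408 = n23890 := rfl
theorem F102107 : act 1 n23890 = n23890 := d10_1 D23890 (iv D23890) F71392
theorem F102108 : act 5 n23890 = n16410 := d25_2 (iv F71393) D23890 (iv D16410)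
theorem F102109 : act 6 n23890 = n23890 := d26_2 F71394 D23890 (iv D23890)
theorem F102110 : act 8 n23890 = n16417 := d28_2 D16408 D23890 (iv D16417) (iv D11289) (iv F50058)
def n23891 : Q := act 9 n16408
theorem D23891 : act 9 n16408 = n23891 := rfl
theorem F102111 : act 1 n23891 = n23891 := d16_1 D23891 (iv D23891) F71392
theorem F102112 : act 5 n23891 = n16411 := d38_1 D23891 (iv D16411) (iv F71393)
theorem F102113 : act 6 n23891 = n23891 := d41_1 D23891 (iv D23891) F71394
theorem F102114 : act 8 n23891 = n16459 := d44_1 D23891 (iv D16459) (iv D11324) (iv F50060) D16408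
def n23892 : Q := act 3 n16409
theorem D23892 : act 3 n16409 = n23892 := rfl
theorem F102115 : act 1 n23892 = n23892 := d10_1 D23892 (iv D23892) F71395
theorem F102116 : act 6 n23892 = n23892 := d26_2 F71396 D23892 (iv D23892)
theorem F102117 : act 7 n23892 = n16410 := d27_2 (iv F71397) D23892 (iv D16410)
theorem F102118 : act 8 n23892 = n16418 := d28_2 D16409 D23892 (iv D16418) (iv D11290) (iv F50062)
def n23893 : Q := act 9 n16409
theorem D23893 : act 9 n16409 = n23893 := rfl
theorem F102119 : act 1 n23893 = n23893 := d16_1 D23893 (iv D23893) F71395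
theorem F102120 : act 6 n23893 = n23893 := d41_1 D23893 (iv D23893) F71396
theorem F102121 : act 7 n23893 = n16411 := d43_1 D23893 (iv D16411) (iv F71397)
theorem F102122 : act 8 n23893 = n16460 := d44_1 D23893 (iv D16460) (iv D11325) (iv F50064) D16409
def n23894 : Q := act 2 n16410
theorem D23894 : act 2 n16410 = n23894 := rfl
theorem F102123 : act 6 n23894 = n16412 := d20_2 (iv F71399) D23894 (iv D16412)
theorem F102124 : act 8 n23894 = n16419 := d22_2 (iv F71400) D23894 (iv D16419)
def n23895 : Q := act 4 n16410
theorem D23895 : act 4 n16410 = n23895 := rfl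
def n23896 : Q := act 9 n16410
theorem D23896 : act 9 n16410 = n23896 := rfl
theorem F102128 : act 1 n23896 = n23896 := d16_1 D23896 (iv D23896) F71398
theorem F102129 : act 3 n23896 = n16411 := d29_1 D23896 (iv D16411) D16410
theorem F102130 : act 6 n23896 = n16414 := d41_1 D23896 (iv D16414) (iv F71399)
theorem F102131 : act 8 n23896 = n23896 := d44_1 D23896 (iv D23896) F71400 F50094 (iv F71400)
def n23897 : Q := act 1 n16412
theorem D23897 : act 1 n16412 = n23897 := rfl
theorem F102132 : act 2 n23897 = n23897 := d9_2 D16412 D23897 (iv D23897) (iv D16412) F50067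
theorem F102133 : act 5 n23897 = n23897 := d12_2 F71404 D23897 (iv D23897)
theorem F102134 : act 7 n23897 = n23897 := d14_2 F71405 D23897 (iv D23897)
theorem F102135 : act 8 n23897 = n16421 := d15_2 (iv F71406) D23897 (iv D16421)
def n23898 : Q := act 4 n16412
theorem D23898 : act 4 n16412 = n23898 := rfl
theorem F102136 : act 2 n23898 = n16413 := d18_1 D23898 (iv D16413) D16412
def n23899 : Q := act 9 n16412
theorem D23899 : act 9 n16412 = n23899 := rfl
theorem F102139 : act 2 n23899 = n16414 := d23_1 D23899 (iv D16414) D16412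
theorem F102140 : act 5 n23899 = n23899 := d38_1 D23899 (iv D23899) F71404
theorem F102141 : act 7 n23899 = n23899 := d43_1 D23899 (iv D23899) F71405
theorem F102142 : act 8 n23899 = n23899 := d44_1 D23899 (iv D23899) F71406 F50098 (iv F71406)
def n23901 : Q := act 9 n16413
theorem D23901 : act 9 n16413 = n23901 := rfl
theorem F102148 : act 4 n23901 = n16414 := d34_1 D23901 (iv D16414) D16413
def n23903 : Q := act 3 n16416
theorem D23903 : act 3 n16416 = n23903 := rfl
theorem F102159 : act 5 n23903 = n16418 := d25_2 (iv F71424) D23903 (iv D16418)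
theorem F102160 : act 7 n23903 = n16417 := d27_2 (iv F71425) D23903 (iv D16417)
def n23904 : Q := act 2 n16417
theorem D23904 : act 2 n16417 = n23904 := rfl
theorem F102162 : act 3 n23904 = n16430 := d17_2 D16417 D23904 (iv D16430) (iv D11300) (iv F50081)
theorem F102163 : act 5 n23904 = n16419 := d19_2 (iv F71428) D23904 (iv D16419)
def n23905 : Q := act 4 n16417
theorem D23905 : act 4 n16417 = n23905 := rfl
def n23906 : Q := act 2 n16418
theorem D23906 : act 2 n16418 = n23906 := rfl
theorem F102170 : act 3 n23906 = n16432 := d17_2 D16418 D23906 (iv D16432) (iv D11301) (iv F50087)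
theorem F102172 : act 7 n23906 = n16419 := d21_2 (iv F71433) D23906 (iv D16419)
def n23907 : Q := act 4 n16418
theorem D23907 : act 4 n16418 = n23907 := rfl
def n23908 : Q := act 1 n16419
theorem D23908 : act 1 n16419 = n23908 := rfl
theorem F102180 : act 3 n23908 = n16433 := d10_2 (iv F71435) D23908 (iv D16433)
theorem F102181 : act 6 n23908 = n16421 := d13_2 (iv F71436) D23908 (iv D16421)
def n23909 : Q := act 4 n16419
theorem D23909 : act 4 n16419 = n23909 := rfl
def n23911 : Q := act 0 n16421
theorem D23911 : act 0 n16421 = n23911 := rfl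
theorem F102191 : act 3 n23911 = n16434 := d2_2 (iv F71443) D23911 (iv D16434)
def n23912 : Q := act 4 n16421
theorem D23912 : act 4 n16421 = n23912 := rfl
def n23925 : Q := act 2 n16435
theorem D23925 : act 2 n16435 = n23925 := rfl
theorem F102257 : act 6 n23925 = n16436 := d20_2 (iv F71508) D23925 (iv D16436)
def n23927 : Q := act 1 n16436
theorem D23927 : act 1 n16436 = n23927 := rfl
def n23933 : Q := act 5 n16442
theorem D23933 : act 5 n16442 = n23933 := rfl
theorem F102296 : act 2 n23933 = n16444 := d19_1 D23933 (iv D16444) (iv F71541)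
def n23934 : Q := act 7 n16442
theorem D23934 : act 7 n16442 = n23934 := rfl
theorem F102300 : act 2 n23934 = n16445 := d21_1 D23934 (iv D16445) (iv F71541)
def n23935 : Q := act 8 n16442
theorem D23935 : act 8 n16442 = n23935 := rfl
theorem F102303 : act 0 n23935 = n23935 := d7_1 D23935 (iv D23935) F71540
theorem F102304 : act 2 n23935 = n16446 := d22_1 D23935 (iv D16446) (iv F71541)
theorem F102305 : act 6 n23935 = n16443 := d40_1 D23935 (iv D16443) D16442
def n23936 : Q := act 3 n16443
theorem D23936 : act 3 n16443 = n23936 := rfl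
theorem F102306 : act 0 n23936 = n23936 := d2_1 D23936 (iv D23936) F71543
def n23937 : Q := act 9 n16443
theorem D23937 : act 9 n16443 = n23937 := rfl
theorem F102311 : act 0 n23937 = n23937 := d8_1 D23937 (iv D23937) F71543
theorem F102312 : act 2 n23937 = n16447 := d23_1 D23937 (iv D16447) (iv F71544)
theorem F102313 : act 5 n23937 = n23937 := d38_1 D23937 (iv D23937) F71545
theorem F102314 : act 7 n23937 = n23937 := d43_1 D23937 (iv D23937) F71546
def n23938 : Q := act 4 n16444
theorem D23938 : act 4 n16444 = n23938 := rfl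
theorem F102316 : act 1 n23938 = n16449 := d11_1 D23938 (iv D16449) (iv F71548)
def n23939 : Q := act 7 n16444
theorem D23939 : act 7 n16444 = n23939 := rfl
theorem F102320 : act 1 n23939 = n16450 := d14_1 D23939 (iv D16450) (iv F71548)
theorem F102321 : act 3 n23939 = n16448 := d27_1 D23939 (iv D16448) (iv F71549)
def n23940 : Q := act 8 n16444
theorem D23940 : act 8 n16444 = n23940 := rfl
theorem F102323 : act 0 n23940 = n23940 := d7_1 D23940 (iv D23940) F71547
theorem F102324 : act 1 n23940 = n16451 := d15_1 D23940 (iv D16451) (iv F71548)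
theorem F102325 : act 3 n23940 = n23940 := d28_1 D23940 (iv D23940) F71549 F50204 (iv F71549)
theorem F102326 : act 5 n23940 = n16446 := d37_1 D23940 (iv D16446) D16444
theorem F102327 : act 6 n23940 = n23940 := d40_1 D23940 (iv D23940) F71550
def n23941 : Q := act 8 n16445
theorem D23941 : act 8 n16445 = n23941 := rfl
theorem F102328 : act 0 n23941 = n23941 := d7_1 D23941 (iv D23941) F71551
theorem F102329 : act 1 n23941 = n16452 := d15_1 D23941 (iv D16452) (iv F71552)
theorem F102330 : act 3 n23941 = n23941 := d28_1 D23941 (iv D23941) F71553 F50210 (iv F71553)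
theorem F102331 : act 6 n23941 = n23941 := d40_1 D23941 (iv D23941) F71554
theorem F102332 : act 7 n23941 = n16446 := d42_1 D23941 (iv D16446) D16445
def n23942 : Q := act 9 n16446
theorem D23942 : act 9 n16446 = n23942 := rfl
theorem F102333 : act 0 n23942 = n23942 := d8_1 D23942 (iv D23942) F71555
theorem F102334 : act 1 n23942 = n16453 := d16_1 D23942 (iv D16453) (iv F71556)
theorem F102335 : act 3 n23942 = n23942 := d29_1 D23942 (iv D23942) F71557
theorem F102336 : act 6 n23942 = n16447 := d41_1 D23942 (iv D16447) (iv F71558)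
def n23943 : Q := act 6 n16448
theorem D23943 : act 6 n16448 = n23943 := rfl
theorem F102338 : act 1 n23943 = n16454 := d13_1 D23943 (iv D16454) (iv F71565)
def n23944 : Q := act 7 n16449
theorem D23944 : act 7 n16449 = n23944 := rfl
theorem F102346 : act 4 n23944 = n16450 := d32_1 D23944 (iv D16450) D16449
def n23945 : Q := act 8 n16449
theorem D23945 : act 8 n16449 = n23945 := rfl
theorem F102347 : act 0 n23945 = n16456 := d7_1 D23945 (iv D16456) (iv F71570)
theorem F102348 : act 4 n23945 = n16451 := d33_1 D23945 (iv D16451) D16449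
theorem F102349 : act 6 n23945 = n23945 := d40_1 D23945 (iv D23945) F71572
def n23947 : Q := act 8 n16450
theorem D23947 : act 8 n16450 = n23947 := rfl
theorem F102354 : act 0 n23947 = n16458 := d7_1 D23947 (iv D16458) (iv F71573)
theorem F102355 : act 3 n23947 = n23947 := d28_1 D23947 (iv D23947) F71574 F50228 (iv F71574)
theorem F102356 : act 5 n23947 = n16452 := d37_1 D23947 (iv D16452) (iv F71575)
theorem F102357 : act 7 n23947 = n16451 := d42_1 D23947 (iv D16451) D16450
def n23948 : Q := act 9 n16451
theorem D23948 : act 9 n16451 = n23948 := rfl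
theorem F102358 : act 0 n23948 = n16459 := d8_1 D23948 (iv D16459) (iv F71576)
theorem F102359 : act 3 n23948 = n23948 := d29_1 D23948 (iv D23948) F71577
theorem F102360 : act 5 n23948 = n16453 := d38_1 D23948 (iv D16453) (iv F71578)
theorem F102361 : act 6 n23948 = n23948 := d41_1 D23948 (iv D23948) F71579
def n23949 : Q := act 9 n16452
theorem D23949 : act 9 n16452 = n23949 := rfl
theorem F102362 : act 0 n23949 = n16460 := d8_1 D23949 (iv D16460) (iv F71580)
theorem F102363 : act 3 n23949 = n23949 := d29_1 D23949 (iv D23949) F71581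
theorem F102364 : act 6 n23949 = n23949 := d41_1 D23949 (iv D23949) F71582
theorem F102365 : act 7 n23949 = n16453 := d43_1 D23949 (iv D16453) (iv F71583)
def n23951 : Q := act 8 n16455
theorem D23951 : act 8 n16455 = n23951 := rfl
theorem F102370 : act 1 n23951 = n23951 := d15_1 D23951 (iv D23951) F71593
theorem F102371 : act 4 n23951 = n16458 := d33_1 D23951 (iv D16458) (iv F71595)
theorem F102372 : act 7 n23951 = n16456 := d42_1 D23951 (iv D16456) D16455
def n23952 : Q := act 3 n16456
theorem D23952 : act 3 n16456 = n23952 := rfl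
theorem F102373 : act 1 n23952 = n23952 := d10_1 D23952 (iv D23952) F71596
theorem F102374 : act 4 n23952 = n23952 := d24_2 (iv F71597) D23952 (iv D23952) F71597 F50242
theorem F102375 : act 6 n23952 = n23952 := d26_2 F71598 D23952 (iv D23952)
theorem F102376 : act 8 n23952 = n23952 := d28_2 D16456 D23952 (iv D23952) (iv D16456) F50236
def n23953 : Q := act 9 n16456
theorem D23953 : act 9 n16456 = n23953 := rfl
theorem F102377 : act 1 n23953 = n23953 := d16_1 D23953 (iv D23953) F71596
theorem F102378 : act 4 n23953 = n16459 := d34_1 D23953 (iv D16459) (iv F71597)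
theorem F102379 : act 6 n23953 = n23953 := d41_1 D23953 (iv D23953) F71598
def n23954 : Q := act 8 n16457
theorem D23954 : act 8 n16457 = n23954 := rfl
theorem F102383 : act 6 n23954 = n16458 := d40_1 D23954 (iv D16458) D16457
def n23955 : Q := act 9 n16458
theorem D23955 : act 9 n16458 = n23955 := rfl
theorem F102385 : act 1 n23955 = n23955 := d16_1 D23955 (iv D23955) F71603
theorem F102386 : act 3 n23955 = n23955 := d29_1 D23955 (iv D23955) F71604
theorem F102387 : act 5 n23955 = n16460 := d38_1 D23955 (iv D16460) (iv F71605)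
theorem F102388 : act 7 n23955 = n16459 := d43_1 D23955 (iv D16459) (iv F71606)
def n23959 : Q := act 5 n16462
theorem D23959 : act 5 n16462 = n23959 := rfl
theorem F102407 : act 6 n23959 = n16677 := d35_2 D16462 D23959 (iv D16677) (iv D11481) (iv F50261)
def n23960 : Q := act 7 n16462
theorem D23960 : act 7 n16462 = n23960 := rfl
theorem F102412 : act 4 n23960 = n16464 := d32_1 D23960 (iv D16464) (iv F71623)
def n23961 : Q := act 8 n16462
theorem D23961 : act 8 n16462 = n23961 := rfl
theorem F102416 : act 1 n23961 = n16475 := d15_1 D23961 (iv D16475) (iv F71621)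
theorem F102418 : act 4 n23961 = n16465 := d33_1 D23961 (iv D16465) (iv F71623)
def n23963 : Q := act 9 n16463
theorem D23963 : act 9 n16463 = n23963 := rfl
theorem F102427 : act 4 n23963 = n16467 := d34_1 D23963 (iv D16467) (iv F71628)
theorem F102428 : act 5 n23963 = n16680 := d38_1 D23963 (iv D16680) (iv F71629)
theorem F102429 : act 7 n23963 = n16546 := d43_1 D23963 (iv D16546) (iv F71630)
def n23964 : Q := act 8 n16464
theorem D23964 : act 8 n16464 = n23964 := rfl
theorem F102435 : act 6 n23964 = n16547 := d40_1 D23964 (iv D16547) (iv F71635)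
theorem F102436 : act 7 n23964 = n16465 := d42_1 D23964 (iv D16465) D16464
def n23965 : Q := act 3 n16465
theorem D23965 : act 3 n16465 = n23965 := rfl
theorem F102438 : act 1 n23965 = n16479 := d10_1 D23965 (iv D16479) (iv F71638)
theorem F102440 : act 6 n23965 = n16466 := d26_2 (iv F71641) D23965 (iv D16466)
def n23966 : Q := act 9 n16465
theorem D23966 : act 9 n16465 = n23966 := rfl
def n23969 : Q := act 9 n16466
theorem D23969 : act 9 n16466 = n23969 := rfl
theorem F102456 : act 3 n23969 = n16467 := d29_1 D23969 (iv D16467) D16466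
def n23976 : Q := act 7 n16471
theorem D23976 : act 7 n16471 = n23976 := rfl
theorem F102490 : act 3 n23976 = n16474 := d27_1 D23976 (iv D16474) (iv F71668)
theorem F102491 : act 6 n23976 = n16558 := d39_1 D23976 (iv D16558) (iv D11392) (iv F50288) D16471
def n23977 : Q := act 8 n16471
theorem D23977 : act 8 n16471 = n23977 := rfl
def n23978 : Q := act 3 n16472
theorem D23978 : act 3 n16472 = n23978 := rfl
theorem F102499 : act 8 n23978 = n16476 := d28_2 D16472 D23978 (iv D16476) (iv D11335) D11333
def n23979 : Q := act 9 n16472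
theorem D23979 : act 9 n16472 = n23979 := rfl
theorem F102500 : act 0 n23979 = n16498 := d8_1 D23979 (iv D16498) (iv F71670)
theorem F102503 : act 7 n23979 = n16561 := d43_1 D23979 (iv D16561) (iv F71673)
def n23981 : Q := act 8 n16473
theorem D23981 : act 8 n16473 = n23981 := rfl
theorem F102514 : act 5 n23981 = n16475 := d37_1 D23981 (iv D16475) D16473
theorem F102515 : act 6 n23981 = n16695 := d40_1 D23981 (iv D16695) (iv F71677)
def n23982 : Q := act 8 n16474
theorem D23982 : act 8 n16474 = n23982 := rfl
def n23983 : Q := act 3 n16475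
theorem D23983 : act 3 n16475 = n23983 := rfl
def n23984 : Q := act 9 n16475
theorem D23984 : act 9 n16475 = n23984 := rfl
def n23985 : Q := act 2 n16476
theorem D23985 : act 2 n16476 = n23985 := rfl
theorem F102529 : act 3 n23985 = n16491 := d17_2 D16476 D23985 (iv D16491) (iv D11345) (iv F50295)
theorem F102530 : act 5 n23985 = n16698 := d19_2 (iv F71689) D23985 (iv D16698)
theorem F102531 : act 7 n23985 = n16565 := d21_2 (iv F71690) D23985 (iv D16565)
def n23987 : Q := act 9 n16476
theorem D23987 : act 9 n16476 = n23987 := rfl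
theorem F102536 : act 3 n23987 = n16477 := d29_1 D23987 (iv D16477) D16476
theorem F102537 : act 5 n23987 = n16700 := d38_1 D23987 (iv D16700) (iv F71689)
theorem F102538 : act 7 n23987 = n16567 := d43_1 D23987 (iv D16567) (iv F71690)
def n23988 : Q := act 3 n16478
theorem D23988 : act 3 n16478 = n23988 := rfl
def n23990 : Q := act 4 n16479
theorem D23990 : act 4 n16479 = n23990 := rfl
def n23993 : Q := act 9 n16481
theorem D23993 : act 9 n16481 = n23993 := rfl
theorem F102559 : act 4 n23993 = n16482 := d34_1 D23993 (iv D16482) D16481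
def n23994 : Q := act 8 n16482
theorem D23994 : act 8 n16482 = n23994 := rfl
def n23999 : Q := act 3 n16487
theorem D23999 : act 3 n16487 = n23999 := rfl
theorem F102583 : act 1 n23999 = n18689 := d10_1 D23999 (iv D18689) (iv F71736)
theorem F102584 : act 5 n23999 = n16489 := d25_2 (iv F71738) D23999 (iv D16489)
theorem F102585 : act 6 n23999 = n16709 := d26_2 (iv F71739) D23999 (iv D16709)
def n24000 : Q := act 9 n16487
theorem D24000 : act 9 n16487 = n24000 := rfl
theorem F102590 : act 5 n24000 = n16490 := d38_1 D24000 (iv D16490) (iv F71738)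
theorem F102591 : act 6 n24000 = n16710 := d41_1 D24000 (iv D16710) (iv F71739)
def n24003 : Q := act 2 n16489
theorem D24003 : act 2 n16489 = n24003 := rfl
def n24004 : Q := act 9 n16489
theorem D24004 : act 9 n16489 = n24004 := rfl
def n24006 : Q := act 9 n16491
theorem D24006 : act 9 n16491 = n24006 := rfl
theorem F102617 : act 5 n24006 = n16714 := d38_1 D24006 (iv D16714) (iv F71755)
theorem F102618 : act 7 n24006 = n16583 := d43_1 D24006 (iv D16583) (iv F71756)
def n24007 : Q := act 8 n16492
theorem D24007 : act 8 n16492 = n24007 := rfl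
theorem F102622 : act 5 n24007 = n16715 := d37_1 D24007 (iv D16715) (iv F71761)
theorem F102623 : act 7 n24007 = n16584 := d42_1 D24007 (iv D16584) (iv F71762)
def n24012 : Q := act 3 n16496
theorem D24012 : act 3 n16496 = n24012 := rfl
theorem F102646 : act 8 n24012 = n16502 := d28_2 D16496 D24012 (iv D16502) (iv D11353) (iv F50363)
def n24013 : Q := act 9 n16496
theorem D24013 : act 9 n16496 = n24013 := rfl
theorem F102649 : act 6 n24013 = n16498 := d41_1 D24013 (iv D16498) (iv F71781)
def n24015 : Q := act 4 n16497
theorem D24015 : act 4 n16497 = n24015 := rfl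
theorem F102655 : act 1 n24015 = n24015 := d11_1 D24015 (iv D24015) F71782
theorem F102656 : act 7 n24015 = n16589 := d32_2 (iv F71784) D24015 (iv D16589)
theorem F102657 : act 8 n24015 = n16505 := d33_2 (iv F71785) D24015 (iv D16505)
def n24016 : Q := act 9 n16497
theorem D24016 : act 9 n16497 = n24016 := rfl
theorem F102658 : act 1 n24016 = n24016 := d16_1 D24016 (iv D24016) F71782
theorem F102659 : act 3 n24016 = n16498 := d29_1 D24016 (iv D16498) D16497
theorem F102660 : act 5 n24016 = n16722 := d38_1 D24016 (iv D16722) (iv F71783)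
theorem F102661 : act 7 n24016 = n16590 := d43_1 D24016 (iv D16590) (iv F71784)
def n24018 : Q := act 3 n16500
theorem D24018 : act 3 n16500 = n24018 := rfl
theorem F102669 : act 5 n24018 = n16502 := d25_2 (iv F71800) D24018 (iv D16502)
theorem F102670 : act 6 n24018 = n16723 := d26_2 (iv F71801) D24018 (iv D16723)
def n24020 : Q := act 3 n16501
theorem D24020 : act 3 n16501 = n24020 := rfl
theorem F102678 : act 6 n24020 = n16591 := d26_2 (iv F71805) D24020 (iv D16591)
theorem F102679 : act 7 n24020 = n16502 := d27_2 (iv F71806) D24020 (iv D16502)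
def n24021 : Q := act 9 n16501
theorem D24021 : act 9 n16501 = n24021 := rfl
theorem F102681 : act 2 n24021 = n16521 := d23_1 D24021 (iv D16521) (iv F71803)
def n24022 : Q := act 2 n16502
theorem D24022 : act 2 n16502 = n24022 := rfl
def n24023 : Q := act 4 n16502
theorem D24023 : act 4 n16502 = n24023 := rfl
theorem F102689 : act 3 n24023 = n16509 := d24_1 D24023 (iv D16509) (iv D11357) (iv F50381) D16502
def n24024 : Q := act 9 n16502
theorem D24024 : act 9 n16502 = n24024 := rfl
def n24025 : Q := act 1 n16504
theorem D24025 : act 1 n16504 = n24025 := rfl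
theorem F102695 : act 3 n24025 = n16524 := d10_2 (iv F71814) D24025 (iv D16524)
theorem F102696 : act 5 n24025 = n16728 := d12_2 (iv F71815) D24025 (iv D16728)
def n24026 : Q := act 4 n16504
theorem D24026 : act 4 n16504 = n24026 := rfl
theorem F102698 : act 2 n24026 = n16505 := d18_1 D24026 (iv D16505) D16504
theorem F102699 : act 7 n24026 = n16597 := d32_2 (iv F71816) D24026 (iv D16597)
def n24027 : Q := act 9 n16504
theorem D24027 : act 9 n16504 = n24027 := rfl
theorem F102701 : act 3 n24027 = n16525 := d29_1 D24027 (iv D16525) (iv F71814)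
def n24028 : Q := act 5 n16505
theorem D24028 : act 5 n16505 = n24028 := rfl
theorem F102704 : act 1 n24028 = n24028 := d12_1 D24028 (iv D24028) F71817
theorem F102705 : act 3 n24028 = n16511 := d25_1 D24028 (iv D16511) (iv F71818)
theorem F102706 : act 4 n24028 = n16731 := d30_1 D24028 (iv D16731) (iv D11515) (iv F50384) D16505
theorem F102707 : act 7 n24028 = n16599 := d36_2 (iv F71819) D24028 (iv D16599)
def n24031 : Q := act 4 n16507
theorem D24031 : act 4 n16507 = n24031 := rfl
theorem F102717 : act 6 n24031 = n16602 := d31_2 (iv F71826) D24031 (iv D16602)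
theorem F102718 : act 7 n24031 = n16509 := d32_2 (iv F71827) D24031 (iv D16509)
def n24033 : Q := act 5 n16509
theorem D24033 : act 5 n16509 = n24033 := rfl
theorem F102724 : act 1 n24033 = n24033 := d12_1 D24033 (iv D24033) F71834
theorem F102725 : act 4 n24033 = n24033 := d30_1 D24033 (iv D24033) (iv D16509) F50398 D16509
def n24034 : Q := act 9 n16509
theorem D24034 : act 9 n16509 = n24034 := rfl
def n24035 : Q := act 8 n16510
theorem D24035 : act 8 n16510 = n24035 := rfl
def n24036 : Q := act 6 n16511
theorem D24036 : act 6 n16511 = n24036 := rfl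
theorem F102733 : act 1 n24036 = n24036 := d13_1 D24036 (iv D24036) F71840
theorem F102734 : act 4 n24036 = n16514 := d31_1 D24036 (iv D16514) (iv F71841)
def n24039 : Q := act 7 n16514
theorem D24039 : act 7 n16514 = n24039 := rfl
theorem F102745 : act 6 n24039 = n16610 := d39_1 D24039 (iv D16610) (iv D11429) (iv F50413) D16514
def n24045 : Q := act 2 n16518
theorem D24045 : act 2 n16518 = n24045 := rfl
theorem F102769 : act 5 n24045 = n16522 := d19_2 (iv F71867) D24045 (iv D16522)
theorem F102770 : act 6 n24045 = n16744 := d20_2 (iv F71868) D24045 (iv D16744)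
def n24046 : Q := act 4 n16518
theorem D24046 : act 4 n16518 = n24046 := rfl
theorem F102774 : act 6 n24046 = n16745 := d31_2 (iv F71868) D24046 (iv D16745)
def n24047 : Q := act 9 n16518
theorem D24047 : act 9 n16518 = n24047 := rfl
theorem F102777 : act 3 n24047 = n16519 := d29_1 D24047 (iv D16519) D16518
theorem F102778 : act 5 n24047 = n16523 := d38_1 D24047 (iv D16523) (iv F71867)
theorem F102779 : act 6 n24047 = n16746 := d41_1 D24047 (iv D16746) (iv F71868)
def n24048 : Q := act 2 n16520
theorem D24048 : act 2 n16520 = n24048 := rfl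
theorem F102780 : act 6 n24048 = n16614 := d20_2 (iv F71876) D24048 (iv D16614)
theorem F102781 : act 7 n24048 = n16522 := d21_2 (iv F71877) D24048 (iv D16522)
def n24049 : Q := act 9 n16520
theorem D24049 : act 9 n16520 = n24049 := rfl
theorem F102784 : act 3 n24049 = n16521 := d29_1 D24049 (iv D16521) D16520
theorem F102785 : act 6 n24049 = n16615 := d41_1 D24049 (iv D16615) (iv F71876)
theorem F102786 : act 7 n24049 = n16523 := d43_1 D24049 (iv D16523) (iv F71877)
def n24050 : Q := act 1 n16522
theorem D24050 : act 1 n16522 = n24050 := rfl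
def n24051 : Q := act 9 n16522
theorem D24051 : act 9 n16522 = n24051 := rfl
def n24052 : Q := act 8 n16523
theorem D24052 : act 8 n16523 = n24052 := rfl
def n24054 : Q := act 9 n16524
theorem D24054 : act 9 n16524 = n24054 := rfl
theorem F102802 : act 5 n24054 = n16751 := d38_1 D24054 (iv D16751) (iv F71890)
theorem F102803 : act 7 n24054 = n16620 := d43_1 D24054 (iv D16620) (iv F71891)
def n24055 : Q := act 8 n16525
theorem D24055 : act 8 n16525 = n24055 := rfl
theorem F102805 : act 5 n24055 = n16752 := d37_1 D24055 (iv D16752) (iv F71894)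
theorem F102806 : act 7 n24055 = n16621 := d42_1 D24055 (iv D16621) (iv F71895)
def n24059 : Q := act 1 n16529
theorem D24059 : act 1 n16529 = n24059 := rfl
theorem F102825 : act 5 n24059 = n16534 := d12_2 (iv F71915) D24059 (iv D16534)
theorem F102826 : act 6 n24059 = n16753 := d13_2 (iv F71916) D24059 (iv D16753)
def n24060 : Q := act 4 n16529
theorem D24060 : act 4 n16529 = n24060 := rfl
theorem F102830 : act 6 n24060 = n16754 := d31_2 (iv F71916) D24060 (iv D16754)
def n24061 : Q := act 9 n16529
theorem D24061 : act 9 n16529 = n24061 := rfl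
theorem F102835 : act 5 n24061 = n16535 := d38_1 D24061 (iv D16535) (iv F71915)
theorem F102836 : act 6 n24061 = n16755 := d41_1 D24061 (iv D16755) (iv F71916)
def n24062 : Q := act 9 n16530
theorem D24062 : act 9 n16530 = n24062 := rfl
theorem F102840 : act 6 n24062 = n16756 := d41_1 D24062 (iv D16756) (iv F71920)
def n24063 : Q := act 8 n16531
theorem D24063 : act 8 n16531 = n24063 := rfl
theorem F102843 : act 5 n24063 = n16536 := d37_1 D24063 (iv D16536) (iv F71924)
theorem F102844 : act 6 n24063 = n16757 := d40_1 D24063 (iv D16757) (iv F71925)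
def n24064 : Q := act 1 n16532
theorem D24064 : act 1 n16532 = n24064 := rfl
theorem F102847 : act 6 n24064 = n16622 := d13_2 (iv F71928) D24064 (iv D16622)
theorem F102848 : act 7 n24064 = n16534 := d14_2 (iv F71929) D24064 (iv D16534)
def n24065 : Q := act 9 n16532
theorem D24065 : act 9 n16532 = n24065 := rfl
theorem F102853 : act 6 n24065 = n16623 := d41_1 D24065 (iv D16623) (iv F71928)
theorem F102854 : act 7 n24065 = n16535 := d43_1 D24065 (iv D16535) (iv F71929)
def n24066 : Q := act 8 n16533
theorem D24066 : act 8 n16533 = n24066 := rfl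
theorem F102857 : act 6 n24066 = n16624 := d40_1 D24066 (iv D16624) (iv F71933)
theorem F102858 : act 7 n24066 = n16536 := d42_1 D24066 (iv D16536) (iv F71934)
def n24068 : Q := act 9 n16534
theorem D24068 : act 9 n16534 = n24068 := rfl
def n24069 : Q := act 8 n16535
theorem D24069 : act 8 n16535 = n24069 := rfl
def n24071 : Q := act 8 n16538
theorem D24071 : act 8 n16538 = n24071 := rfl
theorem F102877 : act 5 n24071 = n16762 := d37_1 D24071 (iv D16762) (iv F71953)
def n24080 : Q := act 3 n16544
theorem D24080 : act 3 n16544 = n24080 := rfl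
theorem F102920 : act 1 n24080 = n16563 := d10_1 D24080 (iv D16563) (iv F71980)
def n24081 : Q := act 9 n16544
theorem D24081 : act 9 n16544 = n24081 := rfl
theorem F102928 : act 6 n24081 = n16546 := d41_1 D24081 (iv D16546) (iv F71984)
def n24085 : Q := act 3 n16547
theorem D24085 : act 3 n16547 = n24085 := rfl
theorem F102941 : act 1 n24085 = n16568 := d10_1 D24085 (iv D16568) (iv F71995)
def n24102 : Q := act 8 n16558
theorem D24102 : act 8 n16558 = n24102 := rfl
def n24103 : Q := act 3 n16559
theorem D24103 : act 3 n16559 = n24103 := rfl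
theorem F103010 : act 8 n24103 = n16563 := d28_2 D16559 D24103 (iv D16563) (iv D11395) (iv F50549)
def n24104 : Q := act 9 n16559
theorem D24104 : act 9 n16559 = n24104 := rfl
theorem F103011 : act 0 n24104 = n16587 := d8_1 D24104 (iv D16587) (iv F72042)
def n24105 : Q := act 2 n16560
theorem D24105 : act 2 n16560 = n24105 := rfl
theorem F103016 : act 0 n24105 = n16588 := d1_1 D24105 (iv D16588) (iv F72046)
theorem F103019 : act 8 n24105 = n16565 := d22_2 (iv F72048) D24105 (iv D16565)
def n24106 : Q := act 4 n16560
theorem D24106 : act 4 n16560 = n24106 := rfl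
theorem F103021 : act 8 n24106 = n16566 := d33_2 (iv F72048) D24106 (iv D16566)
def n24107 : Q := act 9 n16560
theorem D24107 : act 9 n16560 = n24107 := rfl
theorem F103023 : act 3 n24107 = n16561 := d29_1 D24107 (iv D16561) D16560
def n24108 : Q := act 3 n16562
theorem D24108 : act 3 n16562 = n24108 := rfl
def n24112 : Q := act 9 n16563
theorem D24112 : act 9 n16563 = n24112 := rfl
theorem F103044 : act 6 n24112 = n16567 := d41_1 D24112 (iv D16567) (iv F72060)
def n24115 : Q := act 9 n16565
theorem D24115 : act 9 n16565 = n24115 := rfl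
theorem F103051 : act 3 n24115 = n16583 := d29_1 D24115 (iv D16583) (iv F72068)
theorem F103052 : act 5 n24115 = n16787 := d38_1 D24115 (iv D16787) (iv F72069)
def n24117 : Q := act 9 n16566
theorem D24117 : act 9 n16566 = n24117 := rfl
theorem F103058 : act 4 n24117 = n16567 := d34_1 D24117 (iv D16567) D16566
def n24118 : Q := act 8 n16567
theorem D24118 : act 8 n16567 = n24118 := rfl
def n24119 : Q := act 4 n16568
theorem D24119 : act 4 n16568 = n24119 := rfl
theorem F103063 : act 7 n24119 = n16570 := d32_2 (iv F72077) D24119 (iv D16570)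
def n24138 : Q := act 8 n16583
theorem D24138 : act 8 n16583 = n24138 := rfl
def n24139 : Q := act 3 n16585
theorem D24139 : act 3 n16585 = n24139 := rfl
theorem F103134 : act 8 n24139 = n16591 := d28_2 D16585 D24139 (iv D16591) (iv D11416) (iv F50627)
def n24140 : Q := act 9 n16585
theorem D24140 : act 9 n16585 = n24140 := rfl
theorem F103138 : act 7 n24140 = n16587 := d43_1 D24140 (iv D16587) (iv F72139)
def n24142 : Q := act 4 n16586
theorem D24142 : act 4 n16586 = n24142 := rfl
theorem F103144 : act 1 n24142 = n24142 := d11_1 D24142 (iv D24142) F72140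
theorem F103145 : act 6 n24142 = n16589 := d31_2 (iv F72142) D24142 (iv D16589)
theorem F103146 : act 8 n24142 = n16594 := d33_2 (iv F72143) D24142 (iv D16594)
def n24143 : Q := act 9 n16586
theorem D24143 : act 9 n16586 = n24143 := rfl
theorem F103147 : act 1 n24143 = n24143 := d16_1 D24143 (iv D24143) F72140
theorem F103148 : act 3 n24143 = n16587 := d29_1 D24143 (iv D16587) D16586
theorem F103149 : act 5 n24143 = n24143 := d38_1 D24143 (iv D24143) F72141
theorem F103150 : act 6 n24143 = n16590 := d41_1 D24143 (iv D16590) (iv F72142)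
def n24145 : Q := act 4 n16588
theorem D24145 : act 4 n16588 = n24145 := rfl
theorem F103155 : act 2 n24145 = n16589 := d18_1 D24145 (iv D16589) D16588
theorem F103156 : act 8 n24145 = n16597 := d33_2 (iv F72151) D24145 (iv D16597)
def n24146 : Q := act 9 n16588
theorem D24146 : act 9 n16588 = n24146 := rfl
def n24147 : Q := act 5 n16589
theorem D24147 : act 5 n16589 = n24147 := rfl
theorem F103160 : act 1 n24147 = n24147 := d12_1 D24147 (iv D24147) F72152
theorem F103161 : act 4 n24147 = n16804 := d30_1 D24147 (iv D16804) (iv D11568) (iv F50635) D16589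
theorem F103162 : act 8 n24147 = n16599 := d37_2 (iv F72153) D24147 (iv D16599)
def n24148 : Q := act 9 n16589
theorem D24148 : act 9 n16589 = n24148 := rfl
theorem F103163 : act 1 n24148 = n24148 := d16_1 D24148 (iv D24148) F72152
theorem F103164 : act 4 n24148 = n16590 := d34_1 D24148 (iv D16590) D16589
def n24149 : Q := act 8 n16590
theorem D24149 : act 8 n16590 = n24149 := rfl
theorem F103168 : act 9 n24149 = n16601 := d44_2 D16590 D24149 (iv D16601) (iv D11421) (iv F50636)
def n24150 : Q := act 2 n16591
theorem D24150 : act 2 n16591 = n24150 := rfl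
theorem F103169 : act 3 n24150 = n16614 := d17_2 D16591 D24150 (iv D16614) (iv D11432) (iv F50642)
theorem F103171 : act 7 n24150 = n16593 := d21_2 (iv F72159) D24150 (iv D16593)
def n24153 : Q := act 1 n16593
theorem D24153 : act 1 n16593 = n24153 := rfl
def n24155 : Q := act 9 n16593
theorem D24155 : act 9 n16593 = n24155 := rfl
theorem F103186 : act 3 n24155 = n16617 := d29_1 D24155 (iv D16617) (iv F72166)
def n24156 : Q := act 5 n16594
theorem D24156 : act 5 n16594 = n24156 := rfl
theorem F103189 : act 1 n24156 = n24156 := d12_1 D24156 (iv D24156) F72169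
theorem F103190 : act 3 n24156 = n16604 := d25_1 D24156 (iv D16604) (iv F72170)
theorem F103191 : act 4 n24156 = n24156 := d30_1 D24156 (iv D24156) (iv D16594) F50647 D16594
def n24162 : Q := act 5 n16597
theorem D24162 : act 5 n16597 = n24162 := rfl
theorem F103209 : act 2 n24162 = n16599 := d19_1 D24162 (iv D16599) (iv F72179)
theorem F103210 : act 4 n24162 = n16810 := d30_1 D24162 (iv D16810) (iv D11571) (iv F50656) D16597
def n24163 : Q := act 9 n16597
theorem D24163 : act 9 n16597 = n24163 := rfl
def n24164 : Q := act 8 n16598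
theorem D24164 : act 8 n16598 = n24164 := rfl
def n24165 : Q := act 6 n16599
theorem D24165 : act 6 n16599 = n24165 := rfl
theorem F103215 : act 1 n24165 = n24165 := d13_1 D24165 (iv D24165) F72183
theorem F103216 : act 3 n24165 = n16607 := d26_1 D24165 (iv D16607) (iv F72184)
theorem F103217 : act 4 n24165 = n16813 := d31_1 D24165 (iv D16813) (iv F72185)
def n24166 : Q := act 9 n16599
theorem D24166 : act 9 n16599 = n24166 := rfl
theorem F103220 : act 4 n24166 = n16814 := d34_1 D24166 (iv D16814) (iv F72185)
theorem F103221 : act 5 n24166 = n16600 := d38_1 D24166 (iv D16600) D16599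
def n24167 : Q := act 8 n16600
theorem D24167 : act 8 n16600 = n24167 := rfl
def n24168 : Q := act 5 n16602
theorem D24168 : act 5 n16602 = n24168 := rfl
theorem F103224 : act 1 n24168 = n24168 := d12_1 D24168 (iv D24168) F72192
theorem F103225 : act 4 n24168 = n16660 := d30_1 D24168 (iv D16660) (iv D11468) (iv F50663) D16602
theorem F103226 : act 7 n24168 = n16604 := d36_2 (iv F72193) D24168 (iv D16604)
def n24171 : Q := act 6 n16604
theorem D24171 : act 6 n16604 = n24171 := rfl
theorem F103234 : act 1 n24171 = n24171 := d13_1 D24171 (iv D24171) F72198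
theorem F103235 : act 4 n24171 = n16663 := d31_1 D24171 (iv D16663) (iv F72199)
theorem F103236 : act 5 n24171 = n16607 := d35_1 D24171 (iv D16607) (iv D11426) (iv F50671) D16604
def n24174 : Q := act 7 n16607
theorem D24174 : act 7 n16607 = n24174 := rfl
theorem F103243 : act 1 n24174 = n24174 := d14_1 D24174 (iv D24174) F72207
theorem F103244 : act 4 n24174 = n16610 := d32_1 D24174 (iv D16610) (iv F72208)
def n24182 : Q := act 1 n16614
theorem D24182 : act 1 n16614 = n24182 := rfl
theorem F103266 : act 2 n24182 = n16622 := d9_2 D16614 D24182 (iv D16622) (iv D11439) (iv F50692)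
theorem F103268 : act 7 n24182 = n16616 := d14_2 (iv F72228) D24182 (iv D16616)
def n24184 : Q := act 8 n16615
theorem D24184 : act 8 n16615 = n24184 := rfl
def n24187 : Q := act 8 n16617
theorem D24187 : act 8 n16617 = n24187 := rfl
theorem F103288 : act 6 n24187 = n16621 := d40_1 D24187 (iv D16621) (iv F72240)
def n24189 : Q := act 8 n16620
theorem D24189 : act 8 n16620 = n24189 := rfl
def n24192 : Q := act 9 n16622
theorem D24192 : act 9 n16622 = n24192 := rfl
def n24193 : Q := act 8 n16623
theorem D24193 : act 8 n16623 = n24193 := rfl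
def n24238 : Q := act 3 n16658
theorem D24238 : act 3 n16658 = n24238 := rfl
theorem F103491 : act 0 n24238 = n16672 := d2_1 D24238 (iv D16672) (iv F72400)
theorem F103494 : act 8 n24238 = n16843 := d28_2 D16658 D24238 (iv D16843) (iv D11598) (iv F50829)
def n24240 : Q := act 6 n16660
theorem D24240 : act 6 n16660 = n24240 := rfl
theorem F103499 : act 1 n24240 = n24240 := d13_1 D24240 (iv D24240) F72407
theorem F103500 : act 3 n24240 = n24240 := d26_1 D24240 (iv D24240) F72408
theorem F103501 : act 5 n24240 = n24240 := d35_1 D24240 (iv D24240) (iv D16660) F50837 D16660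
def n24243 : Q := act 7 n16663
theorem D24243 : act 7 n16663 = n24243 := rfl
theorem F103510 : act 1 n24243 = n24243 := d14_1 D24243 (iv D24243) F72419
theorem F103511 : act 3 n24243 = n24243 := d27_1 D24243 (iv D24243) F72420
theorem F103512 : act 5 n24243 = n16666 := d36_1 D24243 (iv D16666) (iv F72421)
def n24247 : Q := act 9 n16666
theorem D24247 : act 9 n16666 = n24247 := rfl
theorem F103527 : act 7 n24247 = n16667 := d43_1 D24247 (iv D16667) D16666
def n24249 : Q := act 3 n16668
theorem D24249 : act 3 n16668 = n24249 := rfl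
def n24252 : Q := act 3 n16671
theorem D24252 : act 3 n16671 = n24252 := rfl
theorem F103542 : act 6 n24252 = n16672 := d26_2 (iv F72449) D24252 (iv D16672)
theorem F103543 : act 8 n24252 = n16846 := d28_2 D16671 D24252 (iv D16846) (iv D11601) (iv F50867)
def n24253 : Q := act 2 n16672
theorem D24253 : act 2 n16672 = n24253 := rfl
theorem F103544 : act 5 n24253 = n16673 := d19_2 (iv F72451) D24253 (iv D16673)
def n24254 : Q := act 4 n16672
theorem D24254 : act 4 n16672 = n24254 := rfl
def n24255 : Q := act 1 n16673
theorem D24255 : act 1 n16673 = n24255 := rfl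
def n24264 : Q := act 9 n16678
theorem D24264 : act 9 n16678 = n24264 := rfl
theorem F103600 : act 6 n24264 = n16680 := d41_1 D24264 (iv D16680) (iv F72483)
def n24285 : Q := act 3 n16692
theorem D24285 : act 3 n16692 = n24285 := rfl
theorem F103707 : act 8 n24285 = n16696 := d28_2 D16692 D24285 (iv D16696) (iv D11492) (iv F50927)
def n24286 : Q := act 9 n16692
theorem D24286 : act 9 n16692 = n24286 := rfl
theorem F103708 : act 0 n24286 = n16719 := d8_1 D24286 (iv D16719) (iv F72554)
theorem F103711 : act 6 n24286 = n16694 := d41_1 D24286 (iv D16694) (iv F72557)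
def n24287 : Q := act 2 n16693
theorem D24287 : act 2 n16693 = n24287 := rfl
theorem F103714 : act 0 n24287 = n16720 := d1_1 D24287 (iv D16720) (iv F72559)
theorem F103717 : act 8 n24287 = n16698 := d22_2 (iv F72561) D24287 (iv D16698)
def n24289 : Q := act 9 n16693
theorem D24289 : act 9 n16693 = n24289 := rfl
theorem F103723 : act 3 n24289 = n16694 := d29_1 D24289 (iv D16694) D16693
def n24291 : Q := act 9 n16695
theorem D24291 : act 9 n16695 = n24291 := rfl
theorem F103729 : act 2 n24291 = n16710 := d23_1 D24291 (iv D16710) (iv F72568)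
def n24292 : Q := act 2 n16696
theorem D24292 : act 2 n16696 = n24292 := rfl
theorem F103736 : act 6 n24292 = n16698 := d20_2 (iv F72573) D24292 (iv D16698)
def n24294 : Q := act 9 n16696
theorem D24294 : act 9 n16696 = n24294 := rfl
theorem F103744 : act 6 n24294 = n16700 := d41_1 D24294 (iv D16700) (iv F72573)
def n24300 : Q := act 8 n16700
theorem D24300 : act 8 n16700 = n24300 := rfl
def n24311 : Q := act 2 n16709
theorem D24311 : act 2 n16709 = n24311 := rfl
def n24312 : Q := act 4 n16709
theorem D24312 : act 4 n16709 = n24312 := rfl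
theorem F103821 : act 1 n24312 = n19002 := d11_1 D24312 (iv D19002) (iv F72631)
def n24313 : Q := act 9 n16709
theorem D24313 : act 9 n16709 = n24313 := rfl
theorem F103827 : act 1 n24313 = n19003 := d16_1 D24313 (iv D19003) (iv F72631)
theorem F103828 : act 3 n24313 = n16710 := d29_1 D24313 (iv D16710) D16709
theorem F103829 : act 5 n24313 = n16712 := d38_1 D24313 (iv D16712) (iv F72632)
def n24315 : Q := act 9 n16711
theorem D24315 : act 9 n16711 = n24315 := rfl
theorem F103837 : act 2 n24315 = n16712 := d23_1 D24315 (iv D16712) D16711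
theorem F103839 : act 6 n24315 = n16714 := d41_1 D24315 (iv D16714) (iv F72643)
def n24316 : Q := act 8 n16712
theorem D24316 : act 8 n16712 = n24316 := rfl
theorem F103845 : act 6 n24316 = n16715 := d40_1 D24316 (iv D16715) (iv F72650)
def n24319 : Q := act 8 n16714
theorem D24319 : act 8 n16714 = n24319 := rfl
def n24321 : Q := act 3 n16717
theorem D24321 : act 3 n16717 = n24321 := rfl
theorem F103870 : act 8 n24321 = n16723 := d28_2 D16717 D24321 (iv D16723) (iv D11511) (iv F51016)
def n24322 : Q := act 9 n16717
theorem D24322 : act 9 n16717 = n24322 := rfl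
theorem F103873 : act 5 n24322 = n16719 := d38_1 D24322 (iv D16719) (iv F72674)
def n24323 : Q := act 2 n16718
theorem D24323 : act 2 n16718 = n24323 := rfl
theorem F103877 : act 6 n24323 = n16720 := d20_2 (iv F72677) D24323 (iv D16720)
theorem F103879 : act 8 n24323 = n16725 := d22_2 (iv F72679) D24323 (iv D16725)
def n24324 : Q := act 4 n16718
theorem D24324 : act 4 n16718 = n24324 := rfl
theorem F103880 : act 1 n24324 = n24324 := d11_1 D24324 (iv D24324) F72676
theorem F103881 : act 3 n24324 = n24324 := d24_1 D24324 (iv D24324) (iv D16718) F51021 D16718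
theorem F103882 : act 6 n24324 = n16721 := d31_2 (iv F72677) D24324 (iv D16721)
theorem F103883 : act 7 n24324 = n24324 := d32_2 F72678 D24324 (iv D24324)
theorem F103884 : act 8 n24324 = n16726 := d33_2 (iv F72679) D24324 (iv D16726)
def n24325 : Q := act 9 n16718
theorem D24325 : act 9 n16718 = n24325 := rfl
theorem F103885 : act 1 n24325 = n24325 := d16_1 D24325 (iv D24325) F72676
theorem F103886 : act 3 n24325 = n16719 := d29_1 D24325 (iv D16719) D16718
theorem F103887 : act 6 n24325 = n16722 := d41_1 D24325 (iv D16722) (iv F72677)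
theorem F103888 : act 7 n24325 = n24325 := d43_1 D24325 (iv D24325) F72678
def n24327 : Q := act 4 n16720
theorem D24327 : act 4 n16720 = n24327 := rfl
theorem F103893 : act 2 n24327 = n16721 := d18_1 D24327 (iv D16721) D16720
theorem F103894 : act 7 n24327 = n16802 := d32_2 (iv F72687) D24327 (iv D16802)
def n24329 : Q := act 5 n16721
theorem D24329 : act 5 n16721 = n24329 := rfl
theorem F103899 : act 1 n24329 = n24329 := d12_1 D24329 (iv D24329) F72689
theorem F103900 : act 3 n24329 = n24329 := d25_1 D24329 (iv D24329) F72690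
theorem F103901 : act 7 n24329 = n16804 := d36_2 (iv F72691) D24329 (iv D16804)
theorem F103902 : act 8 n24329 = n16731 := d37_2 (iv F72692) D24329 (iv D16731)
def n24330 : Q := act 9 n16721
theorem D24330 : act 9 n16721 = n24330 := rfl
def n24332 : Q := act 2 n16723
theorem D24332 : act 2 n16723 = n24332 := rfl
theorem F103911 : act 3 n24332 = n16744 := d17_2 D16723 D24332 (iv D16744) (iv D11525) (iv F51033)
def n24334 : Q := act 9 n16723
theorem D24334 : act 9 n16723 = n24334 := rfl
def n24344 : Q := act 5 n16729
theorem D24344 : act 5 n16729 = n24344 := rfl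
theorem F103956 : act 2 n24344 = n16731 := d19_1 D24344 (iv D16731) (iv F72719)
def n24345 : Q := act 9 n16729
theorem D24345 : act 9 n16729 = n24345 := rfl
def n24347 : Q := act 6 n16731
theorem D24347 : act 6 n16731 = n24347 := rfl
def n24361 : Q := act 1 n16744
theorem D24361 : act 1 n16744 = n24361 := rfl
def n24363 : Q := act 9 n16744
theorem D24363 : act 9 n16744 = n24363 := rfl
theorem F104036 : act 2 n24363 = n16746 := d23_1 D24363 (iv D16746) D16744
theorem F104037 : act 5 n24363 = n16748 := d38_1 D24363 (iv D16748) (iv F72785)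
def n24364 : Q := act 9 n16745
theorem D24364 : act 9 n16745 = n24364 := rfl
theorem F104039 : act 1 n24364 = n16756 := d16_1 D24364 (iv D16756) (iv F72788)
theorem F104041 : act 4 n24364 = n16746 := d34_1 D24364 (iv D16746) D16745
def n24365 : Q := act 8 n16746
theorem D24365 : act 8 n16746 = n24365 := rfl
theorem F104046 : act 5 n24365 = n16749 := d37_1 D24365 (iv D16749) (iv F72795)
def n24367 : Q := act 9 n16747
theorem D24367 : act 9 n16747 = n24367 := rfl
theorem F104054 : act 1 n24367 = n16748 := d16_1 D24367 (iv D16748) D16747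
theorem F104057 : act 6 n24367 = n16751 := d41_1 D24367 (iv D16751) (iv F72799)
def n24368 : Q := act 8 n16748
theorem D24368 : act 8 n16748 = n24368 := rfl
theorem F104061 : act 6 n24368 = n16752 := d40_1 D24368 (iv D16752) (iv F72804)
def n24370 : Q := act 8 n16751
theorem D24370 : act 8 n16751 = n24370 := rfl
def n24374 : Q := act 9 n16753
theorem D24374 : act 9 n16753 = n24374 := rfl
theorem F104085 : act 1 n24374 = n16755 := d16_1 D24374 (iv D16755) D16753
theorem F104087 : act 5 n24374 = n16759 := d38_1 D24374 (iv D16759) (iv F72825)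
def n24376 : Q := act 9 n16754
theorem D24376 : act 9 n16754 = n24376 := rfl
theorem F104095 : act 2 n24376 = n16756 := d23_1 D24376 (iv D16756) (iv F72829)
theorem F104096 : act 4 n24376 = n16755 := d34_1 D24376 (iv D16755) D16754
def n24377 : Q := act 8 n16755
theorem D24377 : act 8 n16755 = n24377 := rfl
theorem F104101 : act 5 n24377 = n16760 := d37_1 D24377 (iv D16760) (iv F72836)
def n24378 : Q := act 8 n16756
theorem D24378 : act 8 n16756 = n24378 := rfl
theorem F104104 : act 0 n24378 = n19068 := d7_1 D24378 (iv D19068) (iv F72838)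
theorem F104105 : act 4 n24378 = n16757 := d33_1 D24378 (iv D16757) (iv F72840)
def n24380 : Q := act 8 n16759
theorem D24380 : act 8 n16759 = n24380 := rfl
theorem F104117 : act 6 n24380 = n16762 := d40_1 D24380 (iv D16762) (iv F72857)
def n24419 : Q := act 8 n16784
theorem D24419 : act 8 n16784 = n24419 := rfl
theorem F104291 : act 9 n24419 = n16790 := d44_2 D16784 D24419 (iv D16790) (iv D11557) (iv F51227)
def n24444 : Q := act 5 n16802
theorem D24444 : act 5 n16802 = n24444 := rfl
theorem F104387 : act 2 n24444 = n16804 := d19_1 D24444 (iv D16804) (iv F73037)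
theorem F104388 : act 8 n24444 = n16810 := d37_2 (iv F73039) D24444 (iv D16810)
def n24447 : Q := act 6 n16804
theorem D24447 : act 6 n16804 = n24447 := rfl
theorem F104395 : act 1 n24447 = n24447 := d13_1 D24447 (iv D24447) F73043
theorem F104396 : act 3 n24447 = n24447 := d26_1 D24447 (iv D24447) F73044
theorem F104397 : act 5 n24447 = n24447 := d35_1 D24447 (iv D24447) (iv D16804) F51287 D16804
theorem F104398 : act 8 n24447 = n16813 := d40_2 (iv F73045) D24447 (iv D16813)
def n24448 : Q := act 9 n16804
theorem D24448 : act 9 n16804 = n24448 := rfl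
def n24449 : Q := act 8 n16805
theorem D24449 : act 8 n16805 = n24449 := rfl
theorem F104405 : act 9 n24449 = n16815 := d44_2 D16805 D24449 (iv D16815) (iv D11574) (iv F51288)
def n24455 : Q := act 6 n16810
theorem D24455 : act 6 n16810 = n24455 := rfl
theorem F104425 : act 2 n24455 = n16813 := d20_1 D24455 (iv D16813) (iv F73065)
def n24456 : Q := act 9 n16810
theorem D24456 : act 9 n16810 = n24456 := rfl
def n24459 : Q := act 7 n16813
theorem D24459 : act 7 n16813 = n24459 := rfl
def n24460 : Q := act 9 n16813
theorem D24460 : act 9 n16813 = n24460 := rfl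
theorem F104443 : act 6 n24460 = n16814 := d41_1 D24460 (iv D16814) D16813
def n24461 : Q := act 8 n16814
theorem D24461 : act 8 n16814 = n24461 := rfl
def n24477 : Q := act 4 n16828
theorem D24477 : act 4 n16828 = n24477 := rfl
def n24495 : Q := act 3 n16842
theorem D24495 : act 3 n16842 = n24495 := rfl
theorem F104600 : act 6 n24495 = n16843 := d26_2 (iv F73210) D24495 (iv D16843)
def n24496 : Q := act 2 n16843
theorem D24496 : act 2 n16843 = n24496 := rfl
def n24499 : Q := act 3 n16845
theorem D24499 : act 3 n16845 = n24499 := rfl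
theorem F104618 : act 7 n24499 = n16846 := d27_2 (iv F73225) D24499 (iv D16846)
def n24500 : Q := act 2 n16846
theorem D24500 : act 2 n16846 = n24500 := rfl
def n24505 : Q := act 9 n16850
theorem D24505 : act 9 n16850 = n24505 := rfl
theorem F104644 : act 3 n24505 = n16852 := d29_1 D24505 (iv D16852) D16850
def n24506 : Q := act 9 n16851
theorem D24506 : act 9 n16851 = n24506 := rfl
def n24507 : Q := act 8 n16852
theorem D24507 : act 8 n16852 = n24507 := rfl
theorem F104660 : act 4 n24507 = n16855 := d33_1 D24507 (iv D16855) (iv F73263)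
def n24508 : Q := act 9 n16853
theorem D24508 : act 9 n16853 = n24508 := rfl
theorem F104667 : act 3 n24508 = n16854 := d29_1 D24508 (iv D16854) D16853
def n24509 : Q := act 8 n16854
theorem D24509 : act 8 n16854 = n24509 := rfl
theorem F104678 : act 9 n24509 = n16855 := d44_2 D16854 D24509 (iv D16855) (iv D11606) D11605
def n24511 : Q := act 9 n16856
theorem D24511 : act 9 n16856 = n24511 := rfl
theorem F104689 : act 4 n24511 = n16857 := d34_1 D24511 (iv D16857) D16856
def n24516 : Q := act 9 n16860
theorem D24516 : act 9 n16860 = n24516 := rfl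
theorem F104718 : act 3 n24516 = n16861 := d29_1 D24516 (iv D16861) D16860
def n24517 : Q := act 8 n16861
theorem D24517 : act 8 n16861 = n24517 := rfl
theorem F104729 : act 9 n24517 = n16862 := d44_2 D16861 D24517 (iv D16862) (iv D11611) D11610
def n24542 : Q := act 9 n16878
theorem D24542 : act 9 n16878 = n24542 := rfl
theorem F104863 : act 2 n24542 = n16879 := d23_1 D24542 (iv D16879) D16878
def n24588 : Q := act 6 n16908
theorem D24588 : act 6 n16908 = n24588 := rfl
theorem F105064 : act 4 n24588 = n16915 := d31_1 D24588 (iv D16915) (iv F73556)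
def n24589 : Q := act 7 n16909
theorem D24589 : act 7 n16909 = n24589 := rfl
def n24643 : Q := act 8 n16944
theorem D24643 : act 8 n16944 = n24643 := rfl
theorem F105306 : act 1 n24643 = n16946 := d15_1 D24643 (iv D16946) D16944
theorem F105308 : act 6 n24643 = n17071 := d40_1 D24643 (iv D17071) (iv F73721)
def n24647 : Q := act 3 n16946
theorem D24647 : act 3 n16946 = n24647 := rfl
theorem F105322 : act 0 n24647 = n16955 := d2_1 D24647 (iv D16955) (iv F73727)
theorem F105324 : act 6 n24647 = n17075 := d26_2 (iv F73730) D24647 (iv D17075)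
def n24652 : Q := act 8 n16948
theorem D24652 : act 8 n16948 = n24652 := rfl
theorem F105345 : act 5 n24652 = n17080 := d37_1 D24652 (iv D17080) (iv F73738)
theorem F105346 : act 6 n24652 = n16949 := d40_1 D24652 (iv D16949) D16948
def n24659 : Q := act 3 n16954
theorem D24659 : act 3 n16954 = n24659 := rfl
theorem F105375 : act 5 n24659 = n16955 := d25_2 (iv F73764) D24659 (iv D16955)
def n24661 : Q := act 4 n16955
theorem D24661 : act 4 n16955 = n24661 := rfl
theorem F105382 : act 1 n24661 = n24661 := d11_1 D24661 (iv D24661) F73766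
theorem F105383 : act 2 n24661 = n24661 := d18_1 D24661 (iv D24661) F73767
theorem F105384 : act 3 n24661 = n24661 := d24_1 D24661 (iv D24661) (iv D16955) F51775 D16955
theorem F105385 : act 6 n24661 = n17089 := d31_2 (iv F73768) D24661 (iv D17089)
theorem F105387 : act 8 n24661 = n24661 := d33_2 F73770 D24661 (iv D24661)
def n24671 : Q := act 8 n16962
theorem D24671 : act 8 n16962 = n24671 := rfl
theorem F105427 : act 4 n24671 = n17099 := d33_1 D24671 (iv D17099) (iv F73797)
theorem F105428 : act 5 n24671 = n16964 := d37_1 D24671 (iv D16964) D16962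
def n24678 : Q := act 9 n16969
theorem D24678 : act 9 n16969 = n24678 := rfl
theorem F105459 : act 5 n24678 = n16970 := d38_1 D24678 (iv D16970) D16969
def n24762 : Q := act 6 n17024
theorem D24762 : act 6 n17024 = n24762 := rfl
theorem F105814 : act 2 n24762 = n17040 := d20_1 D24762 (iv D17040) (iv F74066)
theorem F105816 : act 4 n24762 = n17025 := d31_1 D24762 (iv D17025) D17024
def n24764 : Q := act 7 n17025
theorem D24764 : act 7 n17025 = n24764 := rfl
theorem F105822 : act 3 n24764 = n17028 := d27_1 D24764 (iv D17028) (iv F74071)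
def n24786 : Q := act 7 n17040
theorem D24786 : act 7 n17040 = n24786 := rfl
theorem F105901 : act 3 n24786 = n17358 := d27_1 D24786 (iv D17358) (iv F74129)
def n24828 : Q := act 4 n17070
theorem D24828 : act 4 n17070 = n24828 := rfl
theorem F106064 : act 7 n24828 = n17257 := d32_2 (iv F74245) D24828 (iv D17257)
def n24830 : Q := act 8 n17070
theorem D24830 : act 8 n17070 = n24830 := rfl
theorem F106070 : act 5 n24830 = n17071 := d37_1 D24830 (iv D17071) D17070
theorem F106071 : act 7 n24830 = n17259 := d42_1 D24830 (iv D17259) (iv F74245)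
def n24831 : Q := act 3 n17071
theorem D24831 : act 3 n17071 = n24831 := rfl
theorem F106073 : act 1 n24831 = n17075 := d10_1 D24831 (iv D17075) (iv F74247)
theorem F106074 : act 7 n24831 = n17260 := d27_2 (iv F74249) D24831 (iv D17260)
def n24838 : Q := act 3 n17074
theorem D24838 : act 3 n17074 = n24838 := rfl
theorem F106102 : act 5 n24838 = n17075 := d25_2 (iv F74259) D24838 (iv D17075)
theorem F106103 : act 7 n24838 = n17267 := d27_2 (iv F74260) D24838 (iv D17267)
def n24840 : Q := act 4 n17075
theorem D24840 : act 4 n17075 = n24840 := rfl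
theorem F106112 : act 7 n24840 = n17269 := d32_2 (iv F74263) D24840 (iv D17269)
def n24843 : Q := act 7 n17077
theorem D24843 : act 7 n17077 = n24843 := rfl
theorem F106124 : act 6 n24843 = n17272 := d39_1 D24843 (iv D17272) (iv D11881) (iv F52114) D17077
def n24844 : Q := act 8 n17077
theorem D24844 : act 8 n17077 = n24844 := rfl
theorem F106126 : act 4 n24844 = n17080 := d33_1 D24844 (iv D17080) (iv F74271)
def n24845 : Q := act 3 n17078
theorem D24845 : act 3 n17078 = n24845 := rfl
theorem F106131 : act 7 n24845 = n17274 := d27_2 (iv F74275) D24845 (iv D17274)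
theorem F106132 : act 8 n24845 = n17417 := d28_2 D17078 D24845 (iv D17417) (iv D11977) (iv F52112)
def n24847 : Q := act 8 n17079
theorem D24847 : act 8 n17079 = n24847 := rfl
theorem F106139 : act 6 n24847 = n17276 := d40_1 D24847 (iv D17276) (iv F74278)
theorem F106140 : act 7 n24847 = n17080 := d42_1 D24847 (iv D17080) D17079
def n24855 : Q := act 9 n17084
theorem D24855 : act 9 n17084 = n24855 := rfl
theorem F106168 : act 2 n24855 = n17095 := d23_1 D24855 (iv D17095) (iv F74295)
theorem F106169 : act 4 n24855 = n17088 := d34_1 D24855 (iv D17088) (iv F74296)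
def n24860 : Q := act 9 n17087
theorem D24860 : act 9 n17087 = n24860 := rfl
theorem F106189 : act 3 n24860 = n17088 := d29_1 D24860 (iv D17088) D17087
theorem F106190 : act 5 n24860 = n17090 := d38_1 D24860 (iv D17090) (iv F74308)
def n24862 : Q := act 9 n17089
theorem D24862 : act 9 n17089 = n24862 := rfl
theorem F106200 : act 4 n24862 = n17090 := d34_1 D24862 (iv D17090) D17089
def n24870 : Q := act 9 n17094
theorem D24870 : act 9 n17094 = n24870 := rfl
theorem F106228 : act 3 n24870 = n17095 := d29_1 D24870 (iv D17095) D17094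
def n24874 : Q := act 3 n17099
theorem D24874 : act 3 n17099 = n24874 := rfl
theorem F106245 : act 8 n24874 = n17446 := d28_2 D17099 D24874 (iv D17446) (iv D11998) (iv F52167)
def n24876 : Q := act 3 n17100
theorem D24876 : act 3 n17100 = n24876 := rfl
theorem F106250 : act 6 n24876 = n17305 := d26_2 (iv F74358) D24876 (iv D17305)
theorem F106251 : act 7 n24876 = n17101 := d27_2 (iv F74359) D24876 (iv D17101)
theorem F106252 : act 8 n24876 = n17448 := d28_2 D17100 D24876 (iv D17448) (iv D11999) (iv F52170)
def n24878 : Q := act 2 n17101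
theorem D24878 : act 2 n17101 = n24878 := rfl
theorem F106260 : act 8 n24878 = n17450 := d22_2 (iv F74362) D24878 (iv D17450)
def n24880 : Q := act 1 n17103
theorem D24880 : act 1 n17103 = n24880 := rfl
theorem F106267 : act 7 n24880 = n17309 := d14_2 (iv F74369) D24880 (iv D17309)
theorem F106268 : act 8 n24880 = n17452 := d15_2 (iv F74370) D24880 (iv D17452)
def n24882 : Q := act 8 n17104
theorem D24882 : act 8 n17104 = n24882 := rfl
theorem F106277 : act 9 n24882 = n17454 := d44_2 D17104 D24882 (iv D17454) (iv D12003) (iv F52179)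
def n24883 : Q := act 9 n17106
theorem D24883 : act 9 n17106 = n24883 := rfl
theorem F106284 : act 6 n24883 = n17107 := d41_1 D24883 (iv D17107) D17106
def n25013 : Q := act 7 n17191
theorem D25013 : act 7 n17191 = n25013 := rfl
theorem F106798 : act 2 n25013 = n17215 := d21_1 D25013 (iv D17215) (iv F74732)
theorem F106800 : act 4 n25013 = n17193 := d32_1 D25013 (iv D17193) (iv F74734)
def n25110 : Q := act 3 n17257
theorem D25110 : act 3 n17257 = n25110 := rfl
theorem F107143 : act 1 n25110 = n17262 := d10_1 D25110 (iv D17262) (iv F74966)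
def n25112 : Q := act 8 n17257
theorem D25112 : act 8 n17257 = n25112 := rfl
def n25115 : Q := act 3 n17259
theorem D25115 : act 3 n17259 = n25115 := rfl
theorem F107163 : act 5 n25115 = n17260 := d25_2 (iv F74974) D25115 (iv D17260)
def n25118 : Q := act 4 n17260
theorem D25118 : act 4 n17260 = n25118 := rfl
def n25135 : Q := act 7 n17271
theorem D25135 : act 7 n17271 = n25135 := rfl
theorem F107240 : act 3 n25135 = n17612 := d27_1 D25135 (iv D17612) (iv F75019)
theorem F107242 : act 5 n25135 = n17272 := d36_1 D25135 (iv D17272) D17271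
def n25136 : Q := act 8 n17271
theorem D25136 : act 8 n17271 = n25136 := rfl
theorem F107245 : act 5 n25136 = n17273 := d37_1 D25136 (iv D17273) D17271
def n25137 : Q := act 8 n17272
theorem D25137 : act 8 n17272 = n25137 := rfl
def n25138 : Q := act 3 n17273
theorem D25138 : act 3 n17273 = n25138 := rfl
theorem F107252 : act 6 n25138 = n17274 := d26_2 (iv F75027) D25138 (iv D17274)
theorem F107253 : act 8 n25138 = n17615 := d28_2 D17273 D25138 (iv D17615) (iv D12109) (iv F52618)
def n25168 : Q := act 3 n17294
theorem D25168 : act 3 n17294 = n25168 := rfl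
theorem F107366 : act 5 n25168 = n17296 := d25_2 (iv F75107) D25168 (iv D17296)
theorem F107368 : act 8 n25168 = n17645 := d28_2 D17294 D25168 (iv D17645) (iv D12130) (iv F52669)
def n25176 : Q := act 8 n17299
theorem D25176 : act 8 n17299 = n25176 := rfl
theorem F107397 : act 9 n25176 = n17653 := d44_2 D17299 D25176 (iv D17653) (iv D12135) (iv F52681)
def n25178 : Q := act 3 n17302
theorem D25178 : act 3 n17302 = n25178 := rfl
theorem F107402 : act 5 n25178 = n17305 := d25_2 (iv F75136) D25178 (iv D17305)
theorem F107404 : act 8 n25178 = n17655 := d28_2 D17302 D25178 (iv D17655) (iv D12138) (iv F52694)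
def n25180 : Q := act 2 n17303
theorem D25180 : act 2 n17303 = n25180 := rfl
theorem F107410 : act 5 n25180 = n17307 := d19_2 (iv F75138) D25180 (iv D17307)
theorem F107412 : act 8 n25180 = n17657 := d22_2 (iv F75140) D25180 (iv D17657)
def n25183 : Q := act 2 n17305
theorem D25183 : act 2 n17305 = n25183 := rfl
theorem F107423 : act 8 n25183 = n17660 := d22_2 (iv F75147) D25183 (iv D17660)
def n25188 : Q := act 0 n17309
theorem D25188 : act 0 n17309 = n25188 := rfl
def n25209 : Q := act 8 n17323
theorem D25209 : act 8 n17323 = n25209 := rfl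
theorem F107542 : act 0 n25209 = n17328 := d7_1 D25209 (iv D17328) (iv F75229)
theorem F107546 : act 7 n25209 = n17473 := d42_1 D25209 (iv D17473) (iv F75232)
def n25218 : Q := act 3 n17328
theorem D25218 : act 3 n17328 = n25218 := rfl
theorem F107586 : act 7 n25218 = n17482 := d27_2 (iv F75255) D25218 (iv D17482)
def n25232 : Q := act 5 n17339
theorem D25232 : act 5 n17339 = n25232 := rfl
theorem F107644 : act 1 n25232 = n17340 := d12_1 D25232 (iv D17340) D17339
theorem F107646 : act 7 n25232 = n17496 := d36_2 (iv F75303) D25232 (iv D17496)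
def n25233 : Q := act 8 n17339
theorem D25233 : act 8 n17339 = n25233 := rfl
theorem F107649 : act 1 n25233 = n17341 := d15_1 D25233 (iv D17341) D17339
theorem F107651 : act 7 n25233 = n17497 := d42_1 D25233 (iv D17497) (iv F75303)
def n25236 : Q := act 8 n17340
theorem D25236 : act 8 n17340 = n25236 := rfl
theorem F107663 : act 5 n25236 = n17341 := d37_1 D25236 (iv D17341) D17340
theorem F107664 : act 7 n25236 = n17500 := d42_1 D25236 (iv D17500) (iv F75308)
def n25237 : Q := act 3 n17341
theorem D25237 : act 3 n17341 = n25237 := rfl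
theorem F107665 : act 0 n25237 = n17350 := d2_1 D25237 (iv D17350) (iv F75310)
theorem F107668 : act 7 n25237 = n17501 := d27_2 (iv F75313) D25237 (iv D17501)
def n25238 : Q := act 9 n17341
theorem D25238 : act 9 n17341 = n25238 := rfl
theorem F107670 : act 0 n25238 = n17351 := d8_1 D25238 (iv D17351) (iv F75310)
theorem F107671 : act 2 n25238 = n17345 := d23_1 D25238 (iv D17345) (iv F75311)
def n25247 : Q := act 7 n17348
theorem D25247 : act 7 n17348 = n25247 := rfl
theorem F107711 : act 6 n25247 = n17511 := d39_1 D25247 (iv D17511) (iv D12041) (iv F52832) D17348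
def n25249 : Q := act 3 n17349
theorem D25249 : act 3 n17349 = n25249 := rfl
theorem F107718 : act 2 n25249 = n17381 := d17_1 D25249 (iv D17381) F52928 (iv F52846) (iv F75346)
def n25250 : Q := act 9 n17349
theorem D25250 : act 9 n17349 = n25250 := rfl
theorem F107724 : act 5 n25250 = n17351 := d38_1 D25250 (iv D17351) (iv F75347)
theorem F107725 : act 7 n25250 = n17514 := d43_1 D25250 (iv D17514) (iv F75348)
def n25251 : Q := act 4 n17350
theorem D25251 : act 4 n17350 = n25251 := rfl
theorem F107730 : act 7 n25251 = n17515 := d32_2 (iv F75352) D25251 (iv D17515)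
def n25252 : Q := act 9 n17350
theorem D25252 : act 9 n17350 = n25252 := rfl
theorem F107734 : act 3 n25252 = n17351 := d29_1 D25252 (iv D17351) D17350
theorem F107736 : act 7 n25252 = n17516 := d43_1 D25252 (iv D17516) (iv F75352)
def n25262 : Q := act 8 n17358
theorem D25262 : act 8 n17358 = n25262 := rfl
theorem F107773 : act 6 n25262 = n17526 := d40_1 D25262 (iv D17526) (iv F75384)
def n25264 : Q := act 9 n17359
theorem D25264 : act 9 n17359 = n25264 := rfl
theorem F107779 : act 6 n25264 = n17361 := d41_1 D25264 (iv D17361) (iv F75388)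
def n25267 : Q := act 9 n17362
theorem D25267 : act 9 n17362 = n25267 := rfl
theorem F107790 : act 6 n25267 = n17531 := d41_1 D25267 (iv D17531) (iv F75398)
def n25271 : Q := act 3 n17365
theorem D25271 : act 3 n17365 = n25271 := rfl
theorem F107810 : act 7 n25271 = n17535 := d27_2 (iv F75414) D25271 (iv D17535)
def n25300 : Q := act 9 n17381
theorem D25300 : act 9 n17381 = n25300 := rfl
theorem F107936 : act 3 n25300 = n17382 := d29_1 D25300 (iv D17382) D17381
def n25302 : Q := act 9 n17383
theorem D25302 : act 9 n17383 = n25302 := rfl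
theorem F107945 : act 4 n25302 = n17384 := d34_1 D25302 (iv D17384) D17383
def n25303 : Q := act 8 n17384
theorem D25303 : act 8 n17384 = n25303 := rfl
theorem F107949 : act 3 n25303 = n17435 := d28_1 D25303 (iv D17435) F53073 (iv F52940) (iv F75497)
theorem F107951 : act 7 n25303 = n17567 := d42_1 D25303 (iv D17567) (iv F75499)
def n25310 : Q := act 9 n17388
theorem D25310 : act 9 n17388 = n25310 := rfl
theorem F107974 : act 3 n25310 = n17389 := d29_1 D25310 (iv D17389) D17388
theorem F107976 : act 7 n25310 = n17574 := d43_1 D25310 (iv D17574) (iv F75513)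
def n25322 : Q := act 8 n17398
theorem D25322 : act 8 n17398 = n25322 := rfl
theorem F108016 : act 3 n25322 = n17454 := d28_1 D25322 (iv D17454) F53122 (iv F52977) (iv F75547)
def n25337 : Q := act 8 n17406
theorem D25337 : act 8 n17406 = n25337 := rfl
theorem F108082 : act 2 n25337 = n17416 := d22_1 D25337 (iv D17416) (iv F75582)
theorem F108083 : act 4 n25337 = n17409 := d33_1 D25337 (iv D17409) (iv F75583)
def n25340 : Q := act 8 n17408
theorem D25340 : act 8 n17408 = n25340 := rfl
theorem F108096 : act 6 n25340 = n17604 := d40_1 D25340 (iv D17604) (iv F75593)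
theorem F108097 : act 7 n25340 = n17409 := d42_1 D25340 (iv D17409) D17408
def n25344 : Q := act 9 n17410
theorem D25344 : act 9 n17410 = n25344 := rfl
theorem F108115 : act 7 n25344 = n17608 := d43_1 D25344 (iv D17608) (iv F75601)
def n25351 : Q := act 3 n17416
theorem D25351 : act 3 n17416 = n25351 := rfl
def n25375 : Q := act 8 n17432
theorem D25375 : act 8 n17432 = n25375 := rfl
theorem F108243 : act 7 n25375 = n17639 := d42_1 D25375 (iv D17639) (iv F75693)
def n25389 : Q := act 8 n17442
theorem D25389 : act 8 n17442 = n25389 := rfl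
def n25393 : Q := act 2 n17446
theorem D25393 : act 2 n17446 = n25393 := rfl
theorem F108313 : act 3 n25393 = n18096 := d17_2 D17446 D25393 (iv D18096) (iv D12435) (iv F53105)
def n25396 : Q := act 2 n17448
theorem D25396 : act 2 n17448 = n25396 := rfl
theorem F108322 : act 3 n25396 = n18099 := d17_2 D17448 D25396 (iv D18099) (iv D12437) (iv F53109)
def n25399 : Q := act 9 n17450
theorem D25399 : act 9 n17450 = n25399 := rfl
theorem F108336 : act 6 n25399 = n17453 := d41_1 D25399 (iv D17453) (iv F75763)
def n25434 : Q := act 3 n17473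
theorem D25434 : act 3 n17473 = n25434 := rfl
theorem F108482 : act 6 n25434 = n17698 := d26_2 (iv F75860) D25434 (iv D17698)
def n25448 : Q := act 4 n17482
theorem D25448 : act 4 n17482 = n25448 := rfl
theorem F108534 : act 3 n25448 = n17515 := d24_1 D25448 (iv D17515) (iv D12043) (iv F53202) D17482
def n25449 : Q := act 9 n17482
theorem D25449 : act 9 n17482 = n25449 := rfl
def n25467 : Q := act 8 n17496
theorem D25467 : act 8 n17496 = n25467 := rfl
def n25468 : Q := act 3 n17497
theorem D25468 : act 3 n17497 = n25468 := rfl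
theorem F108606 : act 1 n25468 = n17501 := d10_1 D25468 (iv D17501) (iv F75947)
theorem F108607 : act 6 n25468 = n17732 := d26_2 (iv F75948) D25468 (iv D17732)
def n25469 : Q := act 9 n17497
theorem D25469 : act 9 n17497 = n25469 := rfl
def n25475 : Q := act 3 n17500
theorem D25475 : act 3 n17500 = n25475 := rfl
def n25476 : Q := act 9 n17500
theorem D25476 : act 9 n17500 = n25476 := rfl
def n25477 : Q := act 4 n17501
theorem D25477 : act 4 n17501 = n25477 := rfl
def n25494 : Q := act 3 n17512
theorem D25494 : act 3 n17512 = n25494 := rfl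
theorem F108699 : act 2 n25494 = n17561 := d17_1 D25494 (iv D17561) F53390 (iv F53299) (iv F76001)
theorem F108701 : act 6 n25494 = n17513 := d26_2 (iv F76003) D25494 (iv D17513)
def n25495 : Q := act 9 n17512
theorem D25495 : act 9 n17512 = n25495 := rfl
theorem F108705 : act 5 n25495 = n17759 := d38_1 D25495 (iv D17759) (iv F76002)
theorem F108706 : act 6 n25495 = n17514 := d41_1 D25495 (iv D17514) (iv F76003)
def n25497 : Q := act 9 n17513
theorem D25497 : act 9 n17513 = n25497 := rfl
theorem F108713 : act 3 n25497 = n17514 := d29_1 D25497 (iv D17514) D17513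
def n25499 : Q := act 9 n17515
theorem D25499 : act 9 n17515 = n25499 := rfl
def n25502 : Q := act 8 n17517
theorem D25502 : act 8 n17517 = n25502 := rfl
theorem F108732 : act 4 n25502 = n17766 := d33_1 D25502 (iv D17766) (iv F76021)
theorem F108733 : act 5 n25502 = n17519 := d37_1 D25502 (iv D17519) D17517
def n25504 : Q := act 3 n17519
theorem D25504 : act 3 n17519 = n25504 := rfl
theorem F108738 : act 4 n25504 = n17571 := d24_2 (iv F76027) D25504 (iv D17571) F53415 (iv F53299)
def n25505 : Q := act 9 n17519
theorem D25505 : act 9 n17519 = n25505 := rfl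
def n25512 : Q := act 9 n17525
theorem D25512 : act 9 n17525 = n25512 := rfl
theorem F108762 : act 4 n25512 = n17776 := d34_1 D25512 (iv D17776) (iv F76048)
theorem F108763 : act 5 n25512 = n17528 := d38_1 D25512 (iv D17528) (iv F76049)
def n25514 : Q := act 9 n17526
theorem D25514 : act 9 n17526 = n25514 := rfl
theorem F108769 : act 7 n25514 = n17528 := d43_1 D25514 (iv D17528) (iv F76052)
def n25526 : Q := act 9 n17534
theorem D25526 : act 9 n17534 = n25526 := rfl
theorem F108813 : act 8 n25526 = n17593 := d44_1 D25526 (iv D17593) (iv D12095) (iv F53331) D17534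
def n25527 : Q := act 2 n17535
theorem D25527 : act 2 n17535 = n25527 := rfl
theorem F108815 : act 6 n25527 = n17791 := d20_2 (iv F76082) D25527 (iv D17791)
def n25569 : Q := act 9 n17561
theorem D25569 : act 9 n17561 = n25569 := rfl
theorem F108969 : act 6 n25569 = n17564 := d41_1 D25569 (iv D17564) (iv F76180)
def n25572 : Q := act 8 n17564
theorem D25572 : act 8 n17564 = n25572 := rfl
def n25583 : Q := act 9 n17571
theorem D25583 : act 9 n17571 = n25583 := rfl
theorem F109015 : act 6 n25583 = n17574 := d41_1 D25583 (iv D17574) (iv F76215)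
def n25586 : Q := act 8 n17574
theorem D25586 : act 8 n17574 = n25586 := rfl
theorem F109021 : act 3 n25586 = n17653 := d28_1 D25586 (iv D17653) F53603 (iv F53422) (iv F76222)
def n25591 : Q := act 4 n17578
theorem D25591 : act 4 n17578 = n25591 := rfl
theorem F109037 : act 3 n25591 = n17855 := d24_1 D25591 (iv D17855) (iv D12271) (iv F53435) D17578
def n25592 : Q := act 9 n17578
theorem D25592 : act 9 n17578 = n25592 := rfl
theorem F109040 : act 5 n25592 = n17583 := d38_1 D25592 (iv D17583) (iv F76236)
def n25601 : Q := act 2 n17587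
theorem D25601 : act 2 n17587 = n25601 := rfl
theorem F109060 : act 0 n25601 = n18188 := d1_1 D25601 (iv D18188) (iv F76259)
def n25604 : Q := act 5 n17588
theorem D25604 : act 5 n17588 = n25604 := rfl
theorem F109071 : act 0 n25604 = n18191 := d4_1 D25604 (iv D18191) (iv F76263)
theorem F109072 : act 1 n25604 = n17599 := d12_1 D25604 (iv D17599) (iv F76264)
def n25605 : Q := act 7 n17588
theorem D25605 : act 7 n17588 = n25605 := rfl
theorem F109075 : act 0 n25605 = n18192 := d6_1 D25605 (iv D18192) (iv F76263)
theorem F109076 : act 1 n25605 = n17600 := d14_1 D25605 (iv D17600) (iv F76264)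
def n25606 : Q := act 8 n17588
theorem D25606 : act 8 n17588 = n25606 := rfl
theorem F109078 : act 0 n25606 = n18193 := d7_1 D25606 (iv D18193) (iv F76263)
theorem F109079 : act 1 n25606 = n17601 := d15_1 D25606 (iv D17601) (iv F76264)
theorem F109080 : act 4 n25606 = n17591 := d33_1 D25606 (iv D17591) (iv F76265)
def n25625 : Q := act 7 n17599
theorem D25625 : act 7 n17599 = n25625 := rfl
theorem F109151 : act 2 n25625 = n17612 := d21_1 D25625 (iv D17612) (iv F76305)
def n25626 : Q := act 8 n17599
theorem D25626 : act 8 n17599 = n25626 := rfl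
theorem F109155 : act 2 n25626 = n17613 := d22_1 D25626 (iv D17613) (iv F76305)
theorem F109156 : act 4 n25626 = n17890 := d33_1 D25626 (iv D17890) (iv F76306)
def n25636 : Q := act 9 n17605
theorem D25636 : act 9 n17605 = n25636 := rfl
theorem F109193 : act 5 n25636 = n17900 := d38_1 D25636 (iv D17900) (iv F76327)
theorem F109194 : act 6 n25636 = n17608 := d41_1 D25636 (iv D17608) (iv F76328)
def n25639 : Q := act 8 n17608
theorem D25639 : act 8 n17608 = n25639 := rfl
def n25645 : Q := act 3 n17613
theorem D25645 : act 3 n17613 = n25645 := rfl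
def n25682 : Q := act 8 n17636
theorem D25682 : act 8 n17636 = n25682 := rfl
theorem F109349 : act 5 n25682 = n17945 := d37_1 D25682 (iv D17945) (iv F76438)
theorem F109350 : act 6 n25682 = n17639 := d40_1 D25682 (iv D17639) (iv F76439)
def n25706 : Q := act 2 n17655
theorem D25706 : act 2 n17655 = n25706 := rfl
theorem F109434 : act 3 n25706 = n18292 := d17_2 D17655 D25706 (iv D18292) (iv D12567) (iv F53613)
def n25771 : Q := act 4 n17698
theorem D25771 : act 4 n17698 = n25771 := rfl
def n25810 : Q := act 9 n17724
theorem D25810 : act 9 n17724 = n25810 := rfl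
theorem F109869 : act 3 n25810 = n17725 := d29_1 D25810 (iv D17725) D17724
theorem F109871 : act 6 n25810 = n17727 := d41_1 D25810 (iv D17727) (iv F76793)
def n25813 : Q := act 8 n17727
theorem D25813 : act 8 n17727 = n25813 := rfl
theorem F109884 : act 5 n25813 = n17783 := d37_1 D25813 (iv D17783) (iv F76806)
def n25821 : Q := act 2 n17732
theorem D25821 : act 2 n17732 = n25821 := rfl
theorem F109919 : act 1 n25821 = n17791 := d9_1 D25821 (iv D17791) F53980 (iv F53845) (iv F76826)
def n25845 : Q := act 9 n17746
theorem D25845 : act 9 n17746 = n25845 := rfl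
theorem F110014 : act 0 n25845 = n17771 := d8_1 D25845 (iv D17771) (iv F76883)
theorem F110016 : act 4 n25845 = n17815 := d34_1 D25845 (iv D17815) (iv F76884)
def n25860 : Q := act 3 n17757
theorem D25860 : act 3 n17757 = n25860 := rfl
theorem F110073 : act 2 n25860 = n17830 := d17_1 D25860 (iv D17830) F54087 (iv F53930) (iv F76928)
def n25863 : Q := act 9 n17758
theorem D25863 : act 9 n17758 = n25863 := rfl
theorem F110088 : act 3 n25863 = n17759 := d29_1 D25863 (iv D17759) D17758
def n25872 : Q := act 3 n17766
theorem D25872 : act 3 n17766 = n25872 := rfl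
theorem F110125 : act 5 n25872 = n17768 := d25_2 (iv F76966) D25872 (iv D17768)
def n25873 : Q := act 9 n17766
theorem D25873 : act 9 n17766 = n25873 := rfl
def n25877 : Q := act 9 n17768
theorem D25877 : act 9 n17768 = n25877 := rfl
theorem F110144 : act 3 n25877 = n17769 := d29_1 D25877 (iv D17769) D17768
theorem F110146 : act 6 n25877 = n17771 := d41_1 D25877 (iv D17771) (iv F76973)
def n25880 : Q := act 8 n17771
theorem D25880 : act 8 n17771 = n25880 := rfl
theorem F110154 : act 1 n25880 = n17783 := d15_1 D25880 (iv D17783) (iv F76982)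
def n25886 : Q := act 9 n17775
theorem D25886 : act 9 n17775 = n25886 := rfl
theorem F110174 : act 3 n25886 = n17776 := d29_1 D25886 (iv D17776) D17775
theorem F110175 : act 5 n25886 = n17780 := d38_1 D25886 (iv D17780) (iv F76998)
def n25891 : Q := act 8 n17780
theorem D25891 : act 8 n17780 = n25891 := rfl
theorem F110195 : act 6 n25891 = n17783 := d40_1 D25891 (iv D17783) (iv F77018)
def n25893 : Q := act 9 n17781
theorem D25893 : act 9 n17781 = n25893 := rfl
theorem F110201 : act 1 n25893 = n17782 := d16_1 D25893 (iv D17782) D17781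
theorem F110203 : act 4 n25893 = n17863 := d34_1 D25893 (iv D17863) (iv F77020)
def n25894 : Q := act 8 n17782
theorem D25894 : act 8 n17782 = n25894 := rfl
theorem F110205 : act 2 n25894 = n17783 := d22_1 D25894 (iv D17783) (iv F77023)
theorem F110206 : act 4 n25894 = n17864 := d33_1 D25894 (iv D17864) (iv F77025)
def n25901 : Q := act 3 n17786
theorem D25901 : act 3 n17786 = n25901 := rfl
theorem F110238 : act 0 n25901 = n18312 := d2_1 D25901 (iv D18312) (iv F77041)
theorem F110239 : act 1 n25901 = n17799 := d10_1 D25901 (iv D17799) (iv F77042)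
def n25902 : Q := act 9 n17786
theorem D25902 : act 9 n17786 = n25902 := rfl
theorem F110242 : act 0 n25902 = n18313 := d8_1 D25902 (iv D18313) (iv F77041)
theorem F110243 : act 1 n25902 = n17800 := d16_1 D25902 (iv D17800) (iv F77042)
def n25905 : Q := act 9 n17788
theorem D25905 : act 9 n17788 = n25905 := rfl
theorem F110259 : act 8 n25905 = n17875 := d44_1 D25905 (iv D17875) (iv D12284) (iv F53974) D17788
def n25924 : Q := act 2 n17799
theorem D25924 : act 2 n17799 = n25924 := rfl
theorem F110341 : act 3 n25924 = n17814 := d17_2 D17799 D25924 (iv D17814) (iv D12242) (iv F53999)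
def n25926 : Q := act 9 n17799
theorem D25926 : act 9 n17799 = n25926 := rfl
def n25946 : Q := act 9 n17814
theorem D25946 : act 9 n17814 = n25946 := rfl
theorem F110423 : act 0 n25946 = n17849 := d8_1 D25946 (iv D17849) (iv F77156)
def n25947 : Q := act 8 n17815
theorem D25947 : act 8 n17815 = n25947 := rfl
theorem F110427 : act 0 n25947 = n17850 := d7_1 D25947 (iv D17850) (iv F77160)
theorem F110428 : act 3 n25947 = n17917 := d28_1 D25947 (iv D17917) F54312 (iv F54047) (iv F77161)
def n25962 : Q := act 9 n17824
theorem D25962 : act 9 n17824 = n25962 := rfl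
theorem F110496 : act 8 n25962 = n17932 := d44_1 D25962 (iv D17932) (iv D12320) (iv F54072) D17824
def n25963 : Q := act 2 n17825
theorem D25963 : act 2 n17825 = n25963 := rfl
theorem F110497 : act 3 n25963 = n17846 := d17_2 D17825 D25963 (iv D17846) (iv D12264) (iv F54074)
def n25965 : Q := act 9 n17825
theorem D25965 : act 9 n17825 = n25965 := rfl
theorem F110502 : act 1 n25965 = n18375 := d16_1 D25965 (iv D18375) (iv F77206)
def n25968 : Q := act 9 n17827
theorem D25968 : act 9 n17827 = n25968 := rfl
theorem F110511 : act 2 n25968 = n17829 := d23_1 D25968 (iv D17829) D17827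
theorem F110512 : act 3 n25968 = n17849 := d29_1 D25968 (iv D17849) (iv F77213)
def n25973 : Q := act 9 n17830
theorem D25973 : act 9 n17830 = n25973 := rfl
theorem F110532 : act 3 n25973 = n17831 := d29_1 D25973 (iv D17831) D17830
def n25976 : Q := act 8 n17833
theorem D25976 : act 8 n17833 = n25976 := rfl
def n25993 : Q := act 9 n17846
theorem D25993 : act 9 n17846 = n25993 := rfl
theorem F110604 : act 6 n25993 = n17849 := d41_1 D25993 (iv D17849) (iv F77286)
def n25994 : Q := act 8 n17847
theorem D25994 : act 8 n17847 = n25994 := rfl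
theorem F110607 : act 6 n25994 = n17850 := d40_1 D25994 (iv D17850) (iv F77290)
def n25996 : Q := act 9 n17848
theorem D25996 : act 9 n17848 = n25996 := rfl
theorem F110613 : act 1 n25996 = n17849 := d16_1 D25996 (iv D17849) D17848
theorem F110614 : act 2 n25996 = n17863 := d23_1 D25996 (iv D17863) (iv F77291)
def n25997 : Q := act 8 n17849
theorem D25997 : act 8 n17849 = n25997 := rfl
def n26006 : Q := act 9 n17855
theorem D26006 : act 9 n17855 = n26006 := rfl
theorem F110650 : act 4 n26006 = n17856 := d34_1 D26006 (iv D17856) D17855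
def n26007 : Q := act 8 n17856
theorem D26007 : act 8 n17856 = n26007 := rfl
theorem F110653 : act 5 n26007 = n17861 := d37_1 D26007 (iv D17861) (iv F77321)
def n26012 : Q := act 9 n17859
theorem D26012 : act 9 n17859 = n26012 := rfl
theorem F110672 : act 3 n26012 = n18418 := d29_1 D26012 (iv D18418) (iv F77330)
theorem F110673 : act 6 n26012 = n17863 := d41_1 D26012 (iv D17863) (iv F77331)
def n26013 : Q := act 8 n17860
theorem D26013 : act 8 n17860 = n26013 := rfl
theorem F110676 : act 6 n26013 = n17864 := d40_1 D26013 (iv D17864) (iv F77335)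
def n26015 : Q := act 8 n17863
theorem D26015 : act 8 n17863 = n26015 := rfl
def n26054 : Q := act 2 n17887
theorem D26054 : act 2 n17887 = n26054 := rfl
theorem F110857 : act 8 n26054 = n17894 := d22_2 (iv F77450) D26054 (iv D17894)
def n26059 : Q := act 3 n17890
theorem D26059 : act 3 n17890 = n26059 := rfl
theorem F110875 : act 5 n26059 = n17892 := d25_2 (iv F77461) D26059 (iv D17892)
def n26063 : Q := act 2 n17892
theorem D26063 : act 2 n17892 = n26063 := rfl
theorem F110890 : act 3 n26063 = n17913 := d17_2 D17892 D26063 (iv D17913) (iv D12308) (iv F54244)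
theorem F110891 : act 6 n26063 = n17894 := d20_2 (iv F77469) D26063 (iv D17894)
def n26064 : Q := act 4 n17892
theorem D26064 : act 4 n17892 = n26064 := rfl
theorem F110893 : act 3 n26064 = n17899 := d24_1 D26064 (iv D17899) (iv D12298) (iv F54245) D17892
def n26066 : Q := act 1 n17894
theorem D26066 : act 1 n17894 = n26066 := rfl
def n26068 : Q := act 9 n17894
theorem D26068 : act 9 n17894 = n26068 := rfl
theorem F110907 : act 2 n26068 = n17896 := d23_1 D26068 (iv D17896) D17894
def n26075 : Q := act 9 n17899
theorem D26075 : act 9 n17899 = n26075 := rfl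
theorem F110937 : act 4 n26075 = n17900 := d34_1 D26075 (iv D17900) D17899
def n26076 : Q := act 8 n17900
theorem D26076 : act 8 n17900 = n26076 := rfl
def n26087 : Q := act 2 n17909
theorem D26087 : act 2 n17909 = n26087 := rfl
theorem F110987 : act 5 n26087 = n17913 := d19_2 (iv F77538) D26087 (iv D17913)
def n26088 : Q := act 4 n17909
theorem D26088 : act 4 n17909 = n26088 := rfl
def n26092 : Q := act 1 n17913
theorem D26092 : act 1 n17913 = n26092 := rfl
theorem F111010 : act 6 n26092 = n17915 := d13_2 (iv F77555) D26092 (iv D17915)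
def n26093 : Q := act 9 n17913
theorem D26093 : act 9 n17913 = n26093 := rfl
theorem F111013 : act 2 n26093 = n17914 := d23_1 D26093 (iv D17914) D17913
def n26095 : Q := act 9 n17915
theorem D26095 : act 9 n17915 = n26095 := rfl
theorem F111021 : act 1 n26095 = n17916 := d16_1 D26095 (iv D17916) D17915
def n26096 : Q := act 8 n17916
theorem D26096 : act 8 n17916 = n26096 := rfl
theorem F111026 : act 2 n26096 = n17917 := d22_1 D26096 (iv D17917) (iv F77567)
def n26120 : Q := act 4 n17931
theorem D26120 : act 4 n17931 = n26120 := rfl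
theorem F111126 : act 3 n26120 = n17941 := d24_1 D26120 (iv D17941) (iv D12326) (iv F54351) D17931
def n26121 : Q := act 9 n17931
theorem D26121 : act 9 n17931 = n26121 := rfl
theorem F111130 : act 3 n26121 = n17932 := d29_1 D26121 (iv D17932) D17931
def n26122 : Q := act 4 n17933
theorem D26122 : act 4 n17933 = n26122 := rfl
theorem F111134 : act 2 n26122 = n17934 := d18_1 D26122 (iv D17934) D17933
def n26123 : Q := act 9 n17933
theorem D26123 : act 9 n17933 = n26123 := rfl
theorem F111139 : act 3 n26123 = n17961 := d29_1 D26123 (iv D17961) (iv F77637)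
def n26125 : Q := act 9 n17934
theorem D26125 : act 9 n17934 = n26125 := rfl
theorem F111144 : act 3 n26125 = n17944 := d29_1 D26125 (iv D17944) (iv F77640)
def n26128 : Q := act 9 n17936
theorem D26128 : act 9 n17936 = n26128 := rfl
theorem F111155 : act 2 n26128 = n17939 := d23_1 D26128 (iv D17939) (iv F77646)
theorem F111157 : act 4 n26128 = n17937 := d34_1 D26128 (iv D17937) D17936
def n26134 : Q := act 9 n17941
theorem D26134 : act 9 n17941 = n26134 := rfl
theorem F111180 : act 4 n26134 = n17942 := d34_1 D26134 (iv D17942) D17941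
def n26135 : Q := act 8 n17942
theorem D26135 : act 8 n17942 = n26135 := rfl
def n26138 : Q := act 8 n17944
theorem D26138 : act 8 n17944 = n26138 := rfl
theorem F111197 : act 4 n26138 = n17945 := d33_1 D26138 (iv D17945) (iv F77680)
def n26170 : Q := act 3 n17973
theorem D26170 : act 3 n17973 = n26170 := rfl
theorem F111337 : act 7 n26170 = n18112 := d27_2 (iv F77805) D26170 (iv D18112)
def n26172 : Q := act 2 n17974
theorem D26172 : act 2 n17974 = n26172 := rfl
theorem F111345 : act 7 n26172 = n18114 := d21_2 (iv F77808) D26172 (iv D18114)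
def n26173 : Q := act 4 n17974
theorem D26173 : act 4 n17974 = n26173 := rfl
theorem F111347 : act 1 n26173 = n17983 := d11_1 D26173 (iv D17983) (iv F77806)
def n26174 : Q := act 9 n17974
theorem D26174 : act 9 n17974 = n26174 := rfl
def n26184 : Q := act 9 n17980
theorem D26184 : act 9 n17980 = n26184 := rfl
theorem F111400 : act 2 n26184 = n17991 := d23_1 D26184 (iv D17991) (iv F77837)
def n26186 : Q := act 9 n17981
theorem D26186 : act 9 n17981 = n26186 := rfl
theorem F111410 : act 3 n26186 = n17982 := d29_1 D26186 (iv D17982) D17981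
theorem F111412 : act 7 n26186 = n18128 := d43_1 D26186 (iv D18128) (iv F77843)
def n26187 : Q := act 5 n17983
theorem D26187 : act 5 n17983 = n26187 := rfl
def n26188 : Q := act 9 n17983
theorem D26188 : act 9 n17983 = n26188 := rfl
theorem F111421 : act 4 n26188 = n17984 := d34_1 D26188 (iv D17984) D17983
def n26194 : Q := act 9 n17987
theorem D26194 : act 9 n17987 = n26194 := rfl
theorem F111448 : act 4 n26194 = n17991 := d34_1 D26194 (iv D17991) (iv F77872)
def n26196 : Q := act 9 n17988
theorem D26196 : act 9 n17988 = n26196 := rfl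
theorem F111457 : act 3 n26196 = n17989 := d29_1 D26196 (iv D17989) D17988
theorem F111460 : act 7 n26196 = n18138 := d43_1 D26196 (iv D18138) (iv F77877)
def n26197 : Q := act 9 n17990
theorem D26197 : act 9 n17990 = n26197 := rfl
theorem F111465 : act 7 n26197 = n17991 := d43_1 D26197 (iv D17991) (iv F77888)
def n26208 : Q := act 2 n17997
theorem D26208 : act 2 n17997 = n26208 := rfl
theorem F111504 : act 3 n26208 = n18012 := d17_2 D17997 D26208 (iv D18012) (iv D12377) (iv F54548)
def n26216 : Q := act 9 n18002
theorem D26216 : act 9 n18002 = n26216 := rfl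
theorem F111534 : act 4 n26216 = n18003 := d34_1 D26216 (iv D18003) D18002
def n26217 : Q := act 8 n18003
theorem D26217 : act 8 n18003 = n26217 := rfl
theorem F111537 : act 3 n26217 = n18078 := d28_1 D26217 (iv D18078) F54764 (iv F54567) (iv F77936)
theorem F111539 : act 7 n26217 = n18159 := d42_1 D26217 (iv D18159) (iv F77938)
def n26219 : Q := act 9 n18004
theorem D26219 : act 9 n18004 = n26219 := rfl
theorem F111547 : act 5 n26219 = n18005 := d38_1 D26219 (iv D18005) D18004
def n26220 : Q := act 8 n18005
theorem D26220 : act 8 n18005 = n26220 := rfl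
theorem F111550 : act 4 n26220 = n18006 := d33_1 D26220 (iv D18006) (iv F77945)
def n26231 : Q := act 8 n18013
theorem D26231 : act 8 n18013 = n26231 := rfl
theorem F111600 : act 3 n26231 = n18092 := d28_1 D26231 (iv D18092) F54804 (iv F54599) (iv F77979)
theorem F111603 : act 7 n26231 = n18173 := d42_1 D26231 (iv D18173) (iv F77982)
def n26278 : Q := act 3 n18043
theorem D26278 : act 3 n18043 = n26278 := rfl
theorem F111782 : act 2 n26278 = n18678 := d17_1 D26278 (iv D18678) F56419 (iv F54719) (iv F78098)
def n26284 : Q := act 8 n18047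
theorem D26284 : act 8 n18047 = n26284 := rfl
def n26290 : Q := act 3 n18052
theorem D26290 : act 3 n18052 = n26290 := rfl
theorem F111840 : act 0 n26290 = n18084 := d2_1 D26290 (iv D18084) (iv F78140)
theorem F111841 : act 5 n26290 = n18054 := d25_2 (iv F78142) D26290 (iv D18054)
def n26295 : Q := act 9 n18054
theorem D26295 : act 9 n18054 = n26295 := rfl
theorem F111863 : act 4 n26295 = n18694 := d34_1 D26295 (iv D18694) (iv F78149)
def n26298 : Q := act 8 n18057
theorem D26298 : act 8 n18057 = n26298 := rfl
theorem F111875 : act 4 n26298 = n18697 := d33_1 D26298 (iv D18697) (iv F78162)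
theorem F111877 : act 7 n26298 = n18240 := d42_1 D26298 (iv D18240) (iv F78164)
def n26334 : Q := act 3 n18081
theorem D26334 : act 3 n18081 = n26334 := rfl
def n26339 : Q := act 4 n18084
theorem D26339 : act 4 n18084 = n26339 := rfl
theorem F112017 : act 5 n26339 = n18736 := d30_2 (iv F78260) D26339 (iv D18736) F56594 (iv F54793)
def n26355 : Q := act 4 n18096
theorem D26355 : act 4 n18096 = n26355 := rfl
theorem F112081 : act 5 n26355 = n18750 := d30_2 (iv F78307) D26355 (iv D18750) F56639 (iv F54833)
def n26357 : Q := act 9 n18097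
theorem D26357 : act 9 n18097 = n26357 := rfl
theorem F112089 : act 5 n26357 = n18752 := d38_1 D26357 (iv D18752) (iv F78311)
def n26360 : Q := act 9 n18099
theorem D26360 : act 9 n18099 = n26360 := rfl
theorem F112100 : act 6 n26360 = n18298 := d41_1 D26360 (iv D18298) (iv F78318)
theorem F112101 : act 7 n26360 = n18102 := d43_1 D26360 (iv D18102) (iv F78319)
def n26361 : Q := act 8 n18100
theorem D26361 : act 8 n18100 = n26361 := rfl
theorem F112104 : act 7 n26361 = n18103 := d42_1 D26361 (iv D18103) (iv F78324)
def n26364 : Q := act 8 n18102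
theorem D26364 : act 8 n18102 = n26364 := rfl
theorem F112113 : act 4 n26364 = n18759 := d33_1 D26364 (iv D18759) (iv F78329)
def n26375 : Q := act 9 n18109
theorem D26375 : act 9 n18109 = n26375 := rfl
theorem F112152 : act 4 n26375 = n18113 := d34_1 D26375 (iv D18113) (iv F78355)
theorem F112154 : act 8 n26375 = n18195 := d44_1 D26375 (iv D18195) (iv D12501) (iv F54853) D18109
def n26378 : Q := act 9 n18111
theorem D26378 : act 9 n18111 = n26378 := rfl
theorem F112163 : act 5 n26378 = n18316 := d38_1 D26378 (iv D18316) (iv F78362)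
theorem F112164 : act 6 n26378 = n18113 := d41_1 D26378 (iv D18113) (iv F78363)
theorem F112165 : act 8 n26378 = n18198 := d44_1 D26378 (iv D18198) (iv D12503) (iv F54857) D18111
def n26379 : Q := act 2 n18112
theorem D26379 : act 2 n18112 = n26379 := rfl
def n26383 : Q := act 9 n18114
theorem D26383 : act 9 n18114 = n26383 := rfl
def n26401 : Q := act 9 n18124
theorem D26401 : act 9 n18124 = n26401 := rfl
theorem F112249 : act 2 n26401 = n18139 := d23_1 D26401 (iv D18139) (iv F78410)
def n26403 : Q := act 9 n18125
theorem D26403 : act 9 n18125 = n26403 := rfl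
theorem F112260 : act 5 n26403 = n18341 := d38_1 D26403 (iv D18341) (iv F78415)
theorem F112261 : act 6 n26403 = n18128 := d41_1 D26403 (iv D18128) (iv F78416)
def n26406 : Q := act 8 n18128
theorem D26406 : act 8 n18128 = n26406 := rfl
def n26416 : Q := act 2 n18135
theorem D26416 : act 2 n18135 = n26416 := rfl
theorem F112316 : act 6 n26416 = n18137 := d20_2 (iv F78458) D26416 (iv D18137)
def n26417 : Q := act 9 n18135
theorem D26417 : act 9 n18135 = n26417 := rfl
theorem F112319 : act 3 n26417 = n18136 := d29_1 D26417 (iv D18136) D18135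
theorem F112321 : act 6 n26417 = n18138 := d41_1 D26417 (iv D18138) (iv F78458)
def n26420 : Q := act 8 n18138
theorem D26420 : act 8 n18138 = n26420 := rfl
def n26448 : Q := act 9 n18155
theorem D26448 : act 9 n18155 = n26448 := rfl
theorem F112413 : act 6 n26448 = n18158 := d41_1 D26448 (iv D18158) (iv F78524)
def n26449 : Q := act 8 n18156
theorem D26449 : act 8 n18156 = n26449 := rfl
theorem F112416 : act 5 n26449 = n18386 := d37_1 D26449 (iv D18386) (iv F78528)
theorem F112417 : act 6 n26449 = n18159 := d40_1 D26449 (iv D18159) (iv F78529)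
def n26452 : Q := act 8 n18158
theorem D26452 : act 8 n18158 = n26452 := rfl
def n26467 : Q := act 8 n18170
theorem D26467 : act 8 n18170 = n26467 := rfl
theorem F112485 : act 6 n26467 = n18173 := d40_1 D26467 (iv D18173) (iv F78582)
def n26480 : Q := act 8 n18179
theorem D26480 : act 8 n18179 = n26480 := rfl
theorem F112530 : act 3 n26480 = n18296 := d28_1 D26480 (iv D18296) F55291 (iv F55029) (iv F78612)
theorem F112531 : act 5 n26480 = n18184 := d37_1 D26480 (iv D18184) (iv F78613)
def n26497 : Q := act 7 n18191
theorem D26497 : act 7 n18191 = n26497 := rfl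
theorem F112587 : act 4 n26497 = n18427 := d32_1 D26497 (iv D18427) (iv F78651)
def n26498 : Q := act 8 n18191
theorem D26498 : act 8 n18191 = n26498 := rfl
theorem F112590 : act 4 n26498 = n18428 := d33_1 D26498 (iv D18428) (iv F78651)
def n26562 : Q := act 9 n18232
theorem D26562 : act 9 n18232 = n26562 := rfl
theorem F112818 : act 3 n26562 = n18233 := d29_1 D26562 (iv D18233) D18232
theorem F112820 : act 5 n26562 = n18237 := d38_1 D26562 (iv D18237) (iv F78797)
def n26567 : Q := act 8 n18237
theorem D26567 : act 8 n18237 = n26567 := rfl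
theorem F112839 : act 6 n26567 = n18240 := d40_1 D26567 (iv D18240) (iv F78818)
def n26632 : Q := act 8 n18281
theorem D26632 : act 8 n18281 = n26632 := rfl
theorem F113036 : act 5 n26632 = n18286 := d37_1 D26632 (iv D18286) (iv F78950)
def n26645 : Q := act 9 n18292
theorem D26645 : act 9 n18292 = n26645 := rfl
theorem F113087 : act 5 n26645 = n18298 := d38_1 D26645 (iv D18298) (iv F78990)
def n26646 : Q := act 8 n18293
theorem D26646 : act 8 n18293 = n26646 := rfl
theorem F113090 : act 5 n26646 = n18299 := d37_1 D26646 (iv D18299) (iv F78995)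
def n26649 : Q := act 8 n18295
theorem D26649 : act 8 n18295 = n26649 := rfl
theorem F113103 : act 5 n26649 = n18302 := d37_1 D26649 (iv D18302) (iv F79003)
def n26652 : Q := act 8 n18298
theorem D26652 : act 8 n18298 = n26652 := rfl
def n26660 : Q := act 8 n18306
theorem D26660 : act 8 n18306 = n26660 := rfl
theorem F113138 : act 1 n26660 = n18527 := d15_1 D26660 (iv D18527) (iv F79037)
theorem F113139 : act 2 n26660 = n18308 := d22_1 D26660 (iv D18308) D18306
def n26664 : Q := act 3 n18308
theorem D26664 : act 3 n18308 = n26664 := rfl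
theorem F113158 : act 8 n26664 = n18312 := d28_2 D18308 D26664 (iv D18312) (iv D12581) D12579
def n26670 : Q := act 9 n18311
theorem D26670 : act 9 n18311 = n26670 := rfl
theorem F113177 : act 4 n26670 = n18316 := d34_1 D26670 (iv D18316) (iv F79058)
theorem F113179 : act 8 n26670 = n18431 := d44_1 D26670 (iv D18431) (iv D12662) (iv F55327) D18311
def n26673 : Q := act 9 n18312
theorem D26673 : act 9 n18312 = n26673 := rfl
def n26695 : Q := act 3 n18327
theorem D26695 : act 3 n18327 = n26695 := rfl
theorem F113273 : act 8 n26695 = n18333 := d28_2 D18327 D26695 (iv D18333) (iv D12593) (iv F55358)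
def n26708 : Q := act 9 n18333
theorem D26708 : act 9 n18333 = n26708 := rfl
theorem F113324 : act 0 n26708 = n18375 := d8_1 D26708 (iv D18375) (iv F79145)
def n26719 : Q := act 8 n18341
theorem D26719 : act 8 n18341 = n26719 := rfl
def n26736 : Q := act 9 n18354
theorem D26736 : act 9 n18354 = n26736 := rfl
theorem F113445 : act 0 n26736 = n18403 := d8_1 D26736 (iv D18403) (iv F79236)
def n26801 : Q := act 9 n18397
theorem D26801 : act 9 n18397 = n26801 := rfl
theorem F113674 : act 5 n26801 = n18403 := d38_1 D26801 (iv D18403) (iv F79386)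
def n26804 : Q := act 9 n18400
theorem D26804 : act 9 n18400 = n26804 := rfl
theorem F113690 : act 7 n26804 = n18403 := d43_1 D26804 (iv D18403) (iv F79400)
def n26806 : Q := act 9 n18402
theorem D26806 : act 9 n18402 = n26806 := rfl
theorem F113696 : act 1 n26806 = n18403 := d16_1 D26806 (iv D18403) D18402
theorem F113697 : act 2 n26806 = n18418 := d23_1 D26806 (iv D18418) (iv F79408)
def n26819 : Q := act 9 n18412
theorem D26819 : act 9 n18412 = n26819 := rfl
theorem F113747 : act 2 n26819 = n18414 := d23_1 D26819 (iv D18414) (iv F79448)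
theorem F113748 : act 4 n26819 = n18413 := d34_1 D26819 (iv D18413) D18412
def n26823 : Q := act 5 n18420
theorem D26823 : act 5 n18420 = n26823 := rfl
theorem F113765 : act 1 n26823 = n18623 := d12_1 D26823 (iv D18623) (iv F79481)
theorem F113766 : act 2 n26823 = n18422 := d19_1 D26823 (iv D18422) (iv F79482)
def n26829 : Q := act 7 n18422
theorem D26829 : act 7 n18422 = n26829 := rfl
theorem F113788 : act 3 n26829 = n18427 := d27_1 D26829 (iv D18427) (iv F79490)
def n27104 : Q := act 7 n18623
theorem D27104 : act 7 n18623 = n27104 := rfl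
theorem F114939 : act 5 n27104 = n18624 := d36_1 D27104 (iv D18624) D18623
def n27200 : Q := act 4 n18689
theorem D27200 : act 4 n18689 = n27200 := rfl
theorem F115374 : act 6 n27200 = n19002 := d31_2 (iv F80639) D27200 (iv D19002)
def n27201 : Q := act 9 n18689
theorem D27201 : act 9 n18689 = n27201 := rfl
theorem F115378 : act 5 n27201 = n18694 := d38_1 D27201 (iv D18694) (iv F80638)
theorem F115379 : act 6 n27201 = n19003 := d41_1 D27201 (iv D19003) (iv F80639)
def n27206 : Q := act 8 n18694
theorem D27206 : act 8 n18694 = n27206 := rfl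
def n27269 : Q := act 9 n18736
theorem D27269 : act 9 n18736 = n27269 := rfl
theorem F115649 : act 6 n27269 = n19054 := d41_1 D27269 (iv D19054) (iv F80834)
def n27270 : Q := act 8 n18737
theorem D27270 : act 8 n18737 = n27270 := rfl
theorem F115652 : act 5 n27270 = n18742 := d37_1 D27270 (iv D18742) (iv F80838)
theorem F115653 : act 6 n27270 = n19055 := d40_1 D27270 (iv D19055) (iv F80839)
def n27273 : Q := act 8 n18739
theorem D27273 : act 8 n18739 = n27273 := rfl
theorem F115665 : act 7 n27273 = n18742 := d42_1 D27273 (iv D18742) (iv F80846)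
def n27288 : Q := act 3 n18750
theorem D27288 : act 3 n18750 = n27288 := rfl
def n27289 : Q := act 9 n18750
theorem D27289 : act 9 n18750 = n27289 := rfl
theorem F115728 : act 6 n27289 = n19066 := d41_1 D27289 (iv D19066) (iv F80886)
def n27290 : Q := act 8 n18751
theorem D27290 : act 8 n18751 = n27290 := rfl
theorem F115730 : act 5 n27290 = n18759 := d37_1 D27290 (iv D18759) (iv F80890)
theorem F115731 : act 6 n27290 = n19067 := d40_1 D27290 (iv D19067) (iv F80891)
def n27291 : Q := act 8 n18752
theorem D27291 : act 8 n18752 = n27291 := rfl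
theorem F115734 : act 6 n27291 = n19068 := d40_1 D27291 (iv D19068) (iv F80894)
def n27644 : Q := act 9 n19002
theorem D27644 : act 9 n19002 = n27644 := rfl
theorem F117177 : act 0 n27644 = n19054 := d8_1 D27644 (iv D19054) (iv F81914)
theorem F117179 : act 4 n27644 = n19003 := d34_1 D27644 (iv D19003) D19002
def n27645 : Q := act 8 n19003
theorem D27645 : act 8 n19003 = n27645 := rfl
theorem F117184 : act 5 n27645 = n19006 := d37_1 D27645 (iv D19006) (iv F81921)
def n27720 : Q := act 8 n19054
theorem D27720 : act 8 n19054 = n27720 := rfl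
theorem F117489 : act 1 n27720 = n19068 := d15_1 D27720 (iv D19068) (iv F82127)
theorem F117490 : act 4 n27720 = n19055 := d33_1 D27720 (iv D19055) (iv F82129)
def n27734 : Q := act 8 n19066
theorem D27734 : act 8 n19066 = n27734 := rfl
theorem F117551 : act 2 n27734 = n19068 := d22_1 D27734 (iv D19068) (iv F82180)
theorem F117552 : act 4 n27734 = n19067 := d33_1 D27734 (iv D19067) (iv F82181)
def n27736 : Q := act 3 n19068
theorem D27736 : act 3 n19068 = n27736 := rfl
def n28048 : Q := act 9 n19282
theorem D28048 : act 9 n19282 = n28048 := rfl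
theorem F118911 : act 2 n28048 = n19284 := d23_1 D28048 (iv D19284) (iv F83118)
def n28167 : Q := act 8 n19369
theorem D28167 : act 8 n19369 = n28167 := rfl
theorem F119446 : act 1 n28167 = n19372 := d15_1 D28167 (iv D19372) (iv F83515)
def n28170 : Q := act 3 n19371
theorem D28170 : act 3 n19371 = n28170 := rfl
theorem F119464 : act 1 n28170 = n19375 := d10_1 D28170 (iv D19375) (iv F83525)
def n28171 : Q := act 9 n19372
theorem D28171 : act 9 n19372 = n28171 := rfl
def n28172 : Q := act 8 n19373
theorem D28172 : act 8 n19373 = n28172 := rfl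
def n28173 : Q := act 3 n19374
theorem D28173 : act 3 n19374 = n28173 := rfl
def n28174 : Q := act 4 n19375
theorem D28174 : act 4 n19375 = n28174 := rfl
def n28178 : Q := act 4 n19378
theorem D28178 : act 4 n19378 = n28178 := rfl
theorem F119512 : act 1 n28178 = n19379 := d11_1 D28178 (iv D19379) (iv F83571)
def n28179 : Q := act 5 n19379
theorem D28179 : act 5 n19379 = n28179 := rfl
theorem F119518 : act 0 n28179 = n28179 := d4_1 D28179 (iv D28179) F83576
theorem F119522 : act 8 n28179 = n28179 := d37_2 F83581 D28179 (iv D28179)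
def n28423 : Q := act 5 n19552
theorem D28423 : act 5 n19552 = n28423 := rfl
theorem F120564 : act 4 n28423 = n19557 := d30_1 D28423 (iv D19557) (iv D13466) (iv F59103) D19552
def n28424 : Q := act 6 n19553
theorem D28424 : act 6 n19553 = n28424 := rfl
theorem F120571 : act 4 n28424 = n19558 := d31_1 D28424 (iv D19558) (iv F84339)
def n28430 : Q := act 6 n19557
theorem D28430 : act 6 n19557 = n28430 := rfl
theorem F120605 : act 5 n28430 = n19564 := d35_1 D28430 (iv D19564) (iv D13471) (iv F59123) D19557
def n28431 : Q := act 7 n19558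
theorem D28431 : act 7 n19558 = n28431 := rfl
theorem F120611 : act 5 n28431 = n19565 := d36_1 D28431 (iv D19565) (iv F84370)
def n28442 : Q := act 7 n19564
theorem D28442 : act 7 n19564 = n28442 := rfl
theorem F120669 : act 6 n28442 = n19576 := d39_1 D28442 (iv D19576) (iv D13478) (iv F59153) D19564
def n28444 : Q := act 5 n19566
theorem D28444 : act 5 n19566 = n28444 := rfl
theorem F120677 : act 0 n28444 = n19569 := d4_1 D28444 (iv D19569) (iv F84411)
theorem F120679 : act 3 n28444 = n19567 := d25_1 D28444 (iv D19567) D19566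
def n28446 : Q := act 6 n19567
theorem D28446 : act 6 n19567 = n28446 := rfl
def n28449 : Q := act 4 n19569
theorem D28449 : act 4 n19569 = n28449 := rfl
theorem F120701 : act 1 n28449 = n19572 := d11_1 D28449 (iv D19572) (iv F84427)
def n28450 : Q := act 6 n19569
theorem D28450 : act 6 n19569 = n28450 := rfl
theorem F120706 : act 3 n28450 = n19571 := d26_1 D28450 (iv D19571) (iv F84428)
def n28454 : Q := act 6 n19572
theorem D28454 : act 6 n19572 = n28454 := rfl
theorem F120724 : act 2 n28454 = n19606 := d20_1 D28454 (iv D19606) (iv F84441)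
theorem F120726 : act 4 n28454 = n19573 := d31_1 D28454 (iv D19573) D19572
def n28459 : Q := act 3 n19577
theorem D28459 : act 3 n19577 = n28459 := rfl
theorem F120750 : act 6 n28459 = n19584 := d26_2 (iv F84469) D28459 (iv D19584)
def n28460 : Q := act 5 n19577
theorem D28460 : act 5 n19577 = n28460 := rfl
theorem F120758 : act 8 n28460 = n19696 := d37_2 (iv F84471) D28460 (iv D19696)
def n28462 : Q := act 5 n19578
theorem D28462 : act 5 n19578 = n28462 := rfl
theorem F120766 : act 3 n28462 = n19579 := d25_1 D28462 (iv D19579) D19578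
def n28463 : Q := act 8 n19578
theorem D28463 : act 8 n19578 = n28463 := rfl
theorem F120770 : act 3 n28463 = n19699 := d28_1 D28463 (iv D19699) (iv D13561) (iv F59211) D19578
def n28464 : Q := act 6 n19579
theorem D28464 : act 6 n19579 = n28464 := rfl
theorem F120777 : act 5 n28464 = n19589 := d35_1 D28464 (iv D19589) (iv D13487) (iv F59209) D19579
theorem F120778 : act 8 n28464 = n19700 := d40_2 (iv F84482) D28464 (iv D19700)
def n28466 : Q := act 6 n19580
theorem D28466 : act 6 n19580 = n28466 := rfl
theorem F120787 : act 5 n28466 = n19591 := d35_1 D28466 (iv D19591) (iv D13488) (iv F59215) D19580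
def n28467 : Q := act 8 n19580
theorem D28467 : act 8 n19580 = n28467 := rfl
theorem F120790 : act 3 n28467 = n19703 := d28_1 D28467 (iv D19703) F59615 (iv F59222) (iv F84485)
def n28469 : Q := act 7 n19582
theorem D28469 : act 7 n19582 = n28469 := rfl
theorem F120802 : act 5 n28469 = n19594 := d36_1 D28469 (iv D19594) (iv F84496)
theorem F120804 : act 8 n28469 = n19705 := d42_2 (iv F84497) D28469 (iv D19705)
def n28471 : Q := act 5 n19584
theorem D28471 : act 5 n19584 = n28471 := rfl
theorem F120813 : act 3 n28471 = n19585 := d25_1 D28471 (iv D19585) D19584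
theorem F120814 : act 7 n28471 = n19596 := d36_2 (iv F84509) D28471 (iv D19596)
def n28472 : Q := act 8 n19584
theorem D28472 : act 8 n19584 = n28472 := rfl
theorem F120818 : act 3 n28472 = n19719 := d28_1 D28472 (iv D19719) (iv D13574) (iv F59234) D19584
def n28473 : Q := act 6 n19585
theorem D28473 : act 6 n19585 = n28473 := rfl
theorem F120825 : act 8 n28473 = n19720 := d40_2 (iv F84516) D28473 (iv D19720)
def n28477 : Q := act 6 n19587
theorem D28477 : act 6 n19587 = n28477 := rfl
theorem F120840 : act 3 n28477 = n19589 := d26_1 D28477 (iv D19589) (iv F84523)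
def n28478 : Q := act 8 n19587
theorem D28478 : act 8 n19587 = n28478 := rfl
theorem F120843 : act 3 n28478 = n19725 := d28_1 D28478 (iv D19725) F59684 (iv F59244) (iv F84523)
def n28480 : Q := act 7 n19589
theorem D28480 : act 7 n19589 = n28480 := rfl
theorem F120854 : act 6 n28480 = n19605 := d39_1 D28480 (iv D19605) (iv D13497) (iv F59243) D19589
theorem F120855 : act 8 n28480 = n19727 := d42_2 (iv F84533) D28480 (iv D19727)
def n28483 : Q := act 7 n19591
theorem D28483 : act 7 n19591 = n28483 := rfl
theorem F120867 : act 6 n28483 = n19608 := d39_1 D28483 (iv D19608) (iv D13499) (iv F59248) D19591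
def n28484 : Q := act 8 n19591
theorem D28484 : act 8 n19591 = n28484 := rfl
theorem F120870 : act 3 n28484 = n19731 := d28_1 D28484 (iv D19731) F59699 (iv F59257) (iv F84541)
def n28489 : Q := act 4 n19596
theorem D28489 : act 4 n19596 = n28489 := rfl
theorem F120892 : act 3 n28489 = n19630 := d24_1 D28489 (iv D19630) F59382 (iv F59273) (iv F84565)
def n28490 : Q := act 6 n19596
theorem D28490 : act 6 n19596 = n28490 := rfl
theorem F120897 : act 3 n28490 = n19598 := d26_1 D28490 (iv D19598) (iv F84565)
def n28491 : Q := act 8 n19596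
theorem D28491 : act 8 n19596 = n28491 := rfl
theorem F120902 : act 3 n28491 = n19754 := d28_1 D28491 (iv D19754) F59773 (iv F59274) (iv F84565)
def n28493 : Q := act 7 n19598
theorem D28493 : act 7 n19598 = n28493 := rfl
theorem F120913 : act 4 n28493 = n19634 := d32_1 D28493 (iv D19634) (iv F84575)
theorem F120915 : act 8 n28493 = n19756 := d42_2 (iv F84577) D28493 (iv D19756)
def n28494 : Q := act 4 n19599
theorem D28494 : act 4 n19599 = n28494 := rfl
theorem F120917 : act 2 n28494 = n19601 := d18_1 D28494 (iv D19601) (iv F84579)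
def n28495 : Q := act 6 n19599
theorem D28495 : act 6 n19599 = n28495 := rfl
def n28499 : Q := act 6 n19601
theorem D28499 : act 6 n19601 = n28499 := rfl
theorem F120934 : act 3 n28499 = n19640 := d26_1 D28499 (iv D19640) (iv F84586)
theorem F120935 : act 4 n28499 = n19602 := d31_1 D28499 (iv D19602) D19601
def n28500 : Q := act 8 n19601
theorem D28500 : act 8 n19601 = n28500 := rfl
def n28501 : Q := act 7 n19602
theorem D28501 : act 7 n19602 = n28501 := rfl
theorem F120941 : act 3 n28501 = n19605 := d27_1 D28501 (iv D19605) (iv F84590)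
def n28502 : Q := act 8 n19602
theorem D28502 : act 8 n19602 = n28502 := rfl
theorem F120945 : act 3 n28502 = n19765 := d28_1 D28502 (iv D19765) F59794 (iv F59291) (iv F84590)
def n28504 : Q := act 5 n19606
theorem D28504 : act 5 n19606 = n28504 := rfl
theorem F120953 : act 3 n28504 = n19645 := d25_1 D28504 (iv D19645) (iv F84608)
def n28507 : Q := act 3 n19607
theorem D28507 : act 3 n19607 = n28507 := rfl
theorem F120967 : act 8 n28507 = n19648 := d28_2 D19607 D28507 (iv D19648) (iv D13526) (iv F59294)
def n28509 : Q := act 8 n19608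
theorem D28509 : act 8 n19608 = n28509 := rfl
theorem F120973 : act 3 n28509 = n19772 := d28_1 D28509 (iv D19772) F59815 (iv F59313) (iv F84615)
def n28513 : Q := act 8 n19611
theorem D28513 : act 8 n19611 = n28513 := rfl
theorem F120993 : act 0 n28513 = n19616 := d7_1 D28513 (iv D19616) (iv F84626)
theorem F120994 : act 2 n28513 = n19613 := d22_1 D28513 (iv D19613) D19611
theorem F120997 : act 7 n28513 = n19629 := d42_1 D28513 (iv D19629) (iv F84630)
def n28515 : Q := act 6 n19612
theorem D28515 : act 6 n19612 = n28515 := rfl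
theorem F121005 : act 3 n28515 = n19614 := d26_1 D28515 (iv D19614) (iv F84634)
def n28516 : Q := act 8 n19612
theorem D28516 : act 8 n19612 = n28516 := rfl
theorem F121012 : act 7 n28516 = n19632 := d42_1 D28516 (iv D19632) (iv F84635)
def n28517 : Q := act 9 n19613
theorem D28517 : act 9 n19613 = n28517 := rfl
theorem F121013 : act 0 n28517 = n19620 := d8_1 D28517 (iv D19620) (iv F84637)
theorem F121014 : act 1 n28517 = n28517 := d16_1 D28517 (iv D28517) F84638
theorem F121015 : act 3 n28517 = n19796 := d29_1 D28517 (iv D19796) (iv F84639)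
theorem F121016 : act 4 n28517 = n28517 := d34_1 D28517 (iv D28517) F84640
theorem F121017 : act 6 n28517 = n28517 := d41_1 D28517 (iv D28517) F84641
theorem F121018 : act 7 n28517 = n19633 := d43_1 D28517 (iv D19633) (iv F84642)
theorem F121019 : act 8 n28517 = n28517 := d44_1 D28517 (iv D28517) (iv D19613) F59320 D19613
def n28518 : Q := act 7 n19614
theorem D28518 : act 7 n19614 = n28518 := rfl
theorem F121024 : act 6 n28518 = n19634 := d39_1 D28518 (iv D19634) (iv D13517) (iv F59324) D19614
theorem F121025 : act 8 n28518 = n19797 := d42_2 (iv F84647) D28518 (iv D19797)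
def n28521 : Q := act 8 n19615
theorem D28521 : act 8 n19615 = n28521 := rfl
theorem F121038 : act 2 n28521 = n19619 := d22_1 D28521 (iv D19619) (iv F84650)
theorem F121040 : act 7 n28521 = n19637 := d42_1 D28521 (iv D19637) (iv F84652)
def n28522 : Q := act 3 n19616
theorem D28522 : act 3 n19616 = n28522 := rfl
theorem F121041 : act 1 n28522 = n28522 := d10_1 D28522 (iv D28522) F84654
theorem F121042 : act 2 n28522 = n19801 := d17_1 D28522 (iv D19801) F59907 (iv F59338) (iv F84655)
theorem F121043 : act 6 n28522 = n28522 := d26_2 F84657 D28522 (iv D28522)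
theorem F121044 : act 7 n28522 = n19638 := d27_2 (iv F84658) D28522 (iv D19638)
theorem F121045 : act 8 n28522 = n28522 := d28_2 D19616 D28522 (iv D28522) (iv D19616) F59328
def n28523 : Q := act 9 n19616
theorem D28523 : act 9 n19616 = n28523 := rfl
theorem F121046 : act 1 n28523 = n28523 := d16_1 D28523 (iv D28523) F84654
theorem F121047 : act 2 n28523 = n19620 := d23_1 D28523 (iv D19620) (iv F84655)
theorem F121048 : act 4 n28523 = n28523 := d34_1 D28523 (iv D28523) F84656
theorem F121049 : act 6 n28523 = n28523 := d41_1 D28523 (iv D28523) F84657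
theorem F121050 : act 7 n28523 = n19639 := d43_1 D28523 (iv D19639) (iv F84658)
theorem F121051 : act 8 n28523 = n28523 := d44_1 D28523 (iv D28523) (iv D19616) F59332 D19616
def n28525 : Q := act 8 n19617
theorem D28525 : act 8 n19617 = n28525 := rfl
theorem F121056 : act 4 n28525 = n19619 := d33_1 D28525 (iv D19619) D19617
theorem F121058 : act 7 n28525 = n19641 := d42_1 D28525 (iv D19641) (iv F84661)
def n28526 : Q := act 7 n19618
theorem D28526 : act 7 n19618 = n28526 := rfl
theorem F121060 : act 3 n28526 = n19621 := d27_1 D28526 (iv D19621) (iv F84664)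
theorem F121062 : act 6 n28526 = n19642 := d39_1 D28526 (iv D19642) (iv D13521) (iv F59335) D19618
def n28527 : Q := act 8 n19618
theorem D28527 : act 8 n19618 = n28527 := rfl
theorem F121065 : act 3 n28527 = n19806 := d28_1 D28527 (iv D19806) F59915 (iv F59345) (iv F84664)
theorem F121067 : act 6 n28527 = n19619 := d40_1 D28527 (iv D19619) D19618
def n28528 : Q := act 9 n19619
theorem D28528 : act 9 n19619 = n28528 := rfl
theorem F121068 : act 1 n28528 = n19626 := d16_1 D28528 (iv D19626) (iv F84667)
theorem F121069 : act 3 n28528 = n19807 := d29_1 D28528 (iv D19807) (iv F84668)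
theorem F121070 : act 5 n28528 = n19620 := d38_1 D28528 (iv D19620) (iv F84669)
theorem F121071 : act 7 n28528 = n19644 := d43_1 D28528 (iv D19644) (iv F84670)
theorem F121072 : act 8 n28528 = n28528 := d44_1 D28528 (iv D28528) (iv D19619) F59336 D19619
def n28530 : Q := act 7 n19622
theorem D28530 : act 7 n19622 = n28530 := rfl
theorem F121081 : act 6 n28530 = n19646 := d39_1 D28530 (iv D19646) (iv D13525) (iv F59350) D19622
def n28531 : Q := act 8 n19622
theorem D28531 : act 8 n19622 = n28531 := rfl
theorem F121085 : act 4 n28531 = n19625 := d33_1 D28531 (iv D19625) (iv F84685)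
theorem F121086 : act 6 n28531 = n19623 := d40_1 D28531 (iv D19623) D19622
def n28532 : Q := act 3 n19623
theorem D28532 : act 3 n19623 = n28532 := rfl
theorem F121090 : act 7 n28532 = n19648 := d27_2 (iv F84691) D28532 (iv D19648)
def n28533 : Q := act 9 n19623
theorem D28533 : act 9 n19623 = n28533 := rfl
theorem F121091 : act 0 n28533 = n28533 := d8_1 D28533 (iv D28533) F84687
theorem F121092 : act 2 n28533 = n28533 := d23_1 D28533 (iv D28533) F84688
theorem F121093 : act 4 n28533 = n19626 := d34_1 D28533 (iv D19626) (iv F84689)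
theorem F121094 : act 5 n28533 = n28533 := d38_1 D28533 (iv D28533) F84690
theorem F121095 : act 7 n28533 = n19649 := d43_1 D28533 (iv D19649) (iv F84691)
theorem F121096 : act 8 n28533 = n28533 := d44_1 D28533 (iv D28533) (iv D19623) F59351 D19623
def n28534 : Q := act 8 n19624
theorem D28534 : act 8 n19624 = n28534 := rfl
theorem F121099 : act 3 n28534 = n19813 := d28_1 D28534 (iv D19813) F59938 (iv F59373) (iv F84694)
theorem F121101 : act 6 n28534 = n19650 := d40_1 D28534 (iv D19650) (iv F84696)
def n28535 : Q := act 9 n19625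
theorem D28535 : act 9 n19625 = n28535 := rfl
theorem F121103 : act 0 n28535 = n28535 := d8_1 D28535 (iv D28535) F84698
theorem F121104 : act 2 n28535 = n28535 := d23_1 D28535 (iv D28535) F84699
theorem F121105 : act 3 n28535 = n19814 := d29_1 D28535 (iv D19814) (iv F84700)
theorem F121106 : act 5 n28535 = n28535 := d38_1 D28535 (iv D28535) F84701
theorem F121107 : act 6 n28535 = n19626 := d41_1 D28535 (iv D19626) (iv F84702)
theorem F121108 : act 8 n28535 = n28535 := d44_1 D28535 (iv D28535) (iv D19625) F59356 D19625
def n28537 : Q := act 8 n19627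
theorem D28537 : act 8 n19627 = n28537 := rfl
theorem F121115 : act 1 n28537 = n19629 := d15_1 D28537 (iv D19629) D19627
theorem F121118 : act 6 n28537 = n19653 := d40_1 D28537 (iv D19653) (iv F84713)
def n28541 : Q := act 3 n19629
theorem D28541 : act 3 n19629 = n28541 := rfl
theorem F121131 : act 0 n28541 = n19638 := d2_1 D28541 (iv D19638) (iv F84719)
theorem F121132 : act 2 n28541 = n19845 := d17_1 D28541 (iv D19845) F60029 (iv F59386) (iv F84720)
theorem F121133 : act 6 n28541 = n19657 := d26_2 (iv F84722) D28541 (iv D19657)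
theorem F121134 : act 8 n28541 = n28541 := d28_2 D19629 D28541 (iv D28541) (iv D19629) F59376
def n28542 : Q := act 9 n19629
theorem D28542 : act 9 n19629 = n28542 := rfl
theorem F121135 : act 0 n28542 = n19639 := d8_1 D28542 (iv D19639) (iv F84719)
theorem F121136 : act 2 n28542 = n19633 := d23_1 D28542 (iv D19633) (iv F84720)
theorem F121137 : act 4 n28542 = n28542 := d34_1 D28542 (iv D28542) F84721
theorem F121138 : act 6 n28542 = n19658 := d41_1 D28542 (iv D19658) (iv F84722)
theorem F121139 : act 8 n28542 = n28542 := d44_1 D28542 (iv D28542) (iv D19629) F59379 D19629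
def n28543 : Q := act 6 n19630
theorem D28543 : act 6 n19630 = n28543 := rfl
theorem F121142 : act 4 n28543 = n19631 := d31_1 D28543 (iv D19631) D19630
def n28544 : Q := act 8 n19630
theorem D28544 : act 8 n19630 = n28544 := rfl
theorem F121146 : act 4 n28544 = n19632 := d33_1 D28544 (iv D19632) D19630
def n28545 : Q := act 7 n19631
theorem D28545 : act 7 n19631 = n28545 := rfl
theorem F121150 : act 3 n28545 = n19634 := d27_1 D28545 (iv D19634) (iv F84729)
theorem F121151 : act 5 n28545 = n19661 := d36_1 D28545 (iv D19661) (iv F84730)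
def n28546 : Q := act 8 n19631
theorem D28546 : act 8 n19631 = n28546 := rfl
theorem F121156 : act 5 n28546 = n19662 := d37_1 D28546 (iv D19662) (iv F84730)
theorem F121157 : act 6 n28546 = n19632 := d40_1 D28546 (iv D19632) D19631
def n28547 : Q := act 9 n19632
theorem D28547 : act 9 n19632 = n28547 := rfl
theorem F121158 : act 0 n28547 = n19644 := d8_1 D28547 (iv D19644) (iv F84732)
theorem F121159 : act 1 n28547 = n28547 := d16_1 D28547 (iv D28547) F84733
theorem F121160 : act 3 n28547 = n19851 := d29_1 D28547 (iv D19851) (iv F84734)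
theorem F121161 : act 5 n28547 = n19633 := d38_1 D28547 (iv D19633) (iv F84735)
theorem F121162 : act 8 n28547 = n28547 := d44_1 D28547 (iv D28547) (iv D19632) F59383 D19632
def n28549 : Q := act 6 n19635
theorem D28549 : act 6 n19635 = n28549 := rfl
theorem F121169 : act 4 n28549 = n19636 := d31_1 D28549 (iv D19636) D19635
def n28550 : Q := act 8 n19635
theorem D28550 : act 8 n19635 = n28550 := rfl
theorem F121173 : act 4 n28550 = n19637 := d33_1 D28550 (iv D19637) D19635
def n28552 : Q := act 8 n19636
theorem D28552 : act 8 n19636 = n28552 := rfl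
theorem F121181 : act 2 n28552 = n19643 := d22_1 D28552 (iv D19643) (iv F84753)
theorem F121182 : act 5 n28552 = n19668 := d37_1 D28552 (iv D19668) (iv F84755)
theorem F121183 : act 6 n28552 = n19637 := d40_1 D28552 (iv D19637) D19636
def n28553 : Q := act 3 n19637
theorem D28553 : act 3 n19637 = n28553 := rfl
theorem F121184 : act 1 n28553 = n28553 := d10_1 D28553 (iv D28553) F84757
theorem F121185 : act 2 n28553 = n19857 := d17_1 D28553 (iv D19857) F60058 (iv F59411) (iv F84758)
theorem F121186 : act 5 n28553 = n19638 := d25_2 (iv F84759) D28553 (iv D19638)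
theorem F121187 : act 8 n28553 = n28553 := d28_2 D19637 D28553 (iv D28553) (iv D19637) F59397
def n28554 : Q := act 9 n19637
theorem D28554 : act 9 n19637 = n28554 := rfl
theorem F121188 : act 1 n28554 = n28554 := d16_1 D28554 (iv D28554) F84757
theorem F121189 : act 2 n28554 = n19644 := d23_1 D28554 (iv D19644) (iv F84758)
theorem F121190 : act 5 n28554 = n19639 := d38_1 D28554 (iv D19639) (iv F84759)
theorem F121191 : act 8 n28554 = n28554 := d44_1 D28554 (iv D28554) (iv D19637) F59398 D19637
def n28555 : Q := act 4 n19638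
theorem D28555 : act 4 n19638 = n28555 := rfl
theorem F121192 : act 1 n28555 = n28555 := d11_1 D28555 (iv D28555) F84760
theorem F121193 : act 2 n28555 = n19859 := d18_1 D28555 (iv D19859) (iv F84761)
theorem F121194 : act 3 n28555 = n28555 := d24_1 D28555 (iv D28555) (iv D19638) F59401 D19638
theorem F121195 : act 6 n28555 = n19671 := d31_2 (iv F84762) D28555 (iv D19671)
theorem F121196 : act 8 n28555 = n28555 := d33_2 F84763 D28555 (iv D28555)
def n28556 : Q := act 9 n19638
theorem D28556 : act 9 n19638 = n28556 := rfl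
theorem F121197 : act 1 n28556 = n28556 := d16_1 D28556 (iv D28556) F84760
theorem F121198 : act 2 n28556 = n19860 := d23_1 D28556 (iv D19860) (iv F84761)
theorem F121199 : act 3 n28556 = n19639 := d29_1 D28556 (iv D19639) D19638
theorem F121200 : act 6 n28556 = n19672 := d41_1 D28556 (iv D19672) (iv F84762)
def n28557 : Q := act 5 n19640
theorem D28557 : act 5 n19640 = n28557 := rfl
theorem F121202 : act 4 n28557 = n19673 := d30_1 D28557 (iv D19673) F59513 (iv F59408) (iv F84770)
def n28559 : Q := act 8 n19640
theorem D28559 : act 8 n19640 = n28559 := rfl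
theorem F121209 : act 4 n28559 = n19643 := d33_1 D28559 (iv D19643) (iv F84770)
theorem F121210 : act 6 n28559 = n19641 := d40_1 D28559 (iv D19641) D19640
def n28560 : Q := act 3 n19641
theorem D28560 : act 3 n19641 = n28560 := rfl
theorem F121211 : act 1 n28560 = n19648 := d10_1 D28560 (iv D19648) (iv F84772)
theorem F121212 : act 4 n28560 = n19864 := d24_2 (iv F84773) D28560 (iv D19864) F60070 (iv F59411)
theorem F121213 : act 5 n28560 = n28560 := d25_2 F84774 D28560 (iv D28560)
def n28561 : Q := act 9 n19641
theorem D28561 : act 9 n19641 = n28561 := rfl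
theorem F121214 : act 1 n28561 = n19649 := d16_1 D28561 (iv D19649) (iv F84772)
theorem F121215 : act 4 n28561 = n19644 := d34_1 D28561 (iv D19644) (iv F84773)
theorem F121216 : act 5 n28561 = n28561 := d38_1 D28561 (iv D28561) F84774
theorem F121217 : act 8 n28561 = n28561 := d44_1 D28561 (iv D28561) (iv D19641) F59405 D19641
def n28562 : Q := act 8 n19642
theorem D28562 : act 8 n19642 = n28562 := rfl
theorem F121219 : act 3 n28562 = n19866 := d28_1 D28562 (iv D19866) F60073 (iv F59421) (iv F84776)
theorem F121220 : act 5 n28562 = n19678 := d37_1 D28562 (iv D19678) (iv F84777)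
theorem F121221 : act 7 n28562 = n19643 := d42_1 D28562 (iv D19643) D19642
def n28563 : Q := act 9 n19643
theorem D28563 : act 9 n19643 = n28563 := rfl
theorem F121222 : act 1 n28563 = n19651 := d16_1 D28563 (iv D19651) (iv F84779)
theorem F121223 : act 3 n28563 = n19867 := d29_1 D28563 (iv D19867) (iv F84780)
theorem F121224 : act 5 n28563 = n19679 := d38_1 D28563 (iv D19679) (iv F84781)
theorem F121225 : act 6 n28563 = n19644 := d41_1 D28563 (iv D19644) (iv F84782)
theorem F121226 : act 8 n28563 = n28563 := d44_1 D28563 (iv D28563) (iv D19643) F59409 D19643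
def n28565 : Q := act 8 n19645
theorem D28565 : act 8 n19645 = n28565 := rfl
theorem F121234 : act 4 n28565 = n19681 := d33_1 D28565 (iv D19681) (iv F84789)
def n28566 : Q := act 8 n19646
theorem D28566 : act 8 n19646 = n28566 := rfl
theorem F121239 : act 4 n28566 = n19650 := d33_1 D28566 (iv D19650) (iv F84794)
theorem F121240 : act 7 n28566 = n19647 := d42_1 D28566 (iv D19647) D19646
def n28567 : Q := act 3 n19647
theorem D28567 : act 3 n19647 = n28567 := rfl
theorem F121243 : act 6 n28567 = n19648 := d26_2 (iv F84799) D28567 (iv D19648)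
def n28568 : Q := act 9 n19647
theorem D28568 : act 9 n19647 = n28568 := rfl
theorem F121244 : act 0 n28568 = n28568 := d8_1 D28568 (iv D28568) F84796
theorem F121245 : act 2 n28568 = n28568 := d23_1 D28568 (iv D28568) F84797
theorem F121246 : act 4 n28568 = n19651 := d34_1 D28568 (iv D19651) (iv F84798)
theorem F121247 : act 6 n28568 = n19649 := d41_1 D28568 (iv D19649) (iv F84799)
theorem F121248 : act 8 n28568 = n28568 := d44_1 D28568 (iv D28568) (iv D19647) F59426 D19647
def n28569 : Q := act 2 n19648
theorem D28569 : act 2 n19648 = n28569 := rfl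
def n28570 : Q := act 9 n19648
theorem D28570 : act 9 n19648 = n28570 := rfl
theorem F121253 : act 0 n28570 = n28570 := d8_1 D28570 (iv D28570) F84800
theorem F121254 : act 3 n28570 = n19649 := d29_1 D28570 (iv D19649) D19648
theorem F121255 : act 4 n28570 = n19874 := d34_1 D28570 (iv D19874) (iv F84801)
theorem F121256 : act 5 n28570 = n28570 := d38_1 D28570 (iv D28570) F84802
def n28571 : Q := act 9 n19650
theorem D28571 : act 9 n19650 = n28571 := rfl
theorem F121257 : act 0 n28571 = n28571 := d8_1 D28571 (iv D28571) F84808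
theorem F121258 : act 2 n28571 = n28571 := d23_1 D28571 (iv D28571) F84809
theorem F121259 : act 3 n28571 = n19875 := d29_1 D28571 (iv D19875) (iv F84810)
theorem F121260 : act 5 n28571 = n19687 := d38_1 D28571 (iv D19687) (iv F84811)
theorem F121261 : act 7 n28571 = n19651 := d43_1 D28571 (iv D19651) (iv F84812)
theorem F121262 : act 8 n28571 = n28571 := d44_1 D28571 (iv D28571) (iv D19650) F59435 D19650
def n28574 : Q := act 8 n19652
theorem D28574 : act 8 n19652 = n28574 := rfl
theorem F121275 : act 1 n28574 = n19656 := d15_1 D28574 (iv D19656) (iv F84820)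
theorem F121277 : act 5 n28574 = n19653 := d37_1 D28574 (iv D19653) D19652
def n28575 : Q := act 3 n19653
theorem D28575 : act 3 n19653 = n28575 := rfl
theorem F121279 : act 0 n28575 = n28575 := d2_1 D28575 (iv D28575) F84825
theorem F121280 : act 1 n28575 = n19657 := d10_1 D28575 (iv D19657) (iv F84826)
theorem F121281 : act 7 n28575 = n28575 := d27_2 F84829 D28575 (iv D28575)
theorem F121282 : act 8 n28575 = n28575 := d28_2 D19653 D28575 (iv D28575) (iv D19653) F59448
def n28576 : Q := act 9 n19653
theorem D28576 : act 9 n19653 = n28576 := rfl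
theorem F121283 : act 0 n28576 = n28576 := d8_1 D28576 (iv D28576) F84825
theorem F121284 : act 1 n28576 = n19658 := d16_1 D28576 (iv D19658) (iv F84826)
theorem F121285 : act 2 n28576 = n28576 := d23_1 D28576 (iv D28576) F84827
theorem F121286 : act 4 n28576 = n28576 := d34_1 D28576 (iv D28576) F84828
theorem F121287 : act 7 n28576 = n28576 := d43_1 D28576 (iv D28576) F84829
theorem F121288 : act 8 n28576 = n28576 := d44_1 D28576 (iv D28576) (iv D19653) F59451 D19653
def n28578 : Q := act 6 n19654
theorem D28578 : act 6 n19654 = n28578 := rfl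
theorem F121296 : act 2 n28578 = n19659 := d20_1 D28578 (iv D19659) (iv F84831)
theorem F121297 : act 4 n28578 = n19655 := d31_1 D28578 (iv D19655) D19654
def n28579 : Q := act 8 n19654
theorem D28579 : act 8 n19654 = n28579 := rfl
theorem F121300 : act 2 n28579 = n19660 := d22_1 D28579 (iv D19660) (iv F84831)
theorem F121301 : act 4 n28579 = n19656 := d33_1 D28579 (iv D19656) D19654
def n28580 : Q := act 7 n19655
theorem D28580 : act 7 n19655 = n28580 := rfl
theorem F121305 : act 2 n28580 = n19661 := d21_1 D28580 (iv D19661) (iv F84836)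
def n28581 : Q := act 8 n19655
theorem D28581 : act 8 n19655 = n28581 := rfl
theorem F121310 : act 2 n28581 = n19662 := d22_1 D28581 (iv D19662) (iv F84836)
def n28582 : Q := act 3 n19656
theorem D28582 : act 3 n19656 = n28582 := rfl
theorem F121312 : act 0 n28582 = n19669 := d2_1 D28582 (iv D19669) (iv F84839)
theorem F121313 : act 2 n28582 = n19922 := d17_1 D28582 (iv D19922) F60244 (iv F59473) (iv F84840)
theorem F121314 : act 5 n28582 = n19657 := d25_2 (iv F84841) D28582 (iv D19657)
theorem F121315 : act 7 n28582 = n28582 := d27_2 F84842 D28582 (iv D28582)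
theorem F121316 : act 8 n28582 = n28582 := d28_2 D19656 D28582 (iv D28582) (iv D19656) F59454
def n28583 : Q := act 9 n19656
theorem D28583 : act 9 n19656 = n28583 := rfl
theorem F121317 : act 0 n28583 = n19670 := d8_1 D28583 (iv D19670) (iv F84839)
theorem F121318 : act 2 n28583 = n19663 := d23_1 D28583 (iv D19663) (iv F84840)
theorem F121319 : act 5 n28583 = n19658 := d38_1 D28583 (iv D19658) (iv F84841)
theorem F121320 : act 7 n28583 = n28583 := d43_1 D28583 (iv D28583) F84842
theorem F121321 : act 8 n28583 = n28583 := d44_1 D28583 (iv D28583) (iv D19656) F59456 D19656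
def n28584 : Q := act 4 n19657
theorem D28584 : act 4 n19657 = n28584 := rfl
theorem F121322 : act 0 n28584 = n19671 := d3_1 D28584 (iv D19671) (iv F84843)
theorem F121323 : act 2 n28584 = n19924 := d18_1 D28584 (iv D19924) (iv F84844)
theorem F121324 : act 3 n28584 = n28584 := d24_1 D28584 (iv D28584) (iv D19657) F59459 D19657
theorem F121325 : act 7 n28584 = n28584 := d32_2 F84845 D28584 (iv D28584)
theorem F121326 : act 8 n28584 = n28584 := d33_2 F84846 D28584 (iv D28584)
def n28585 : Q := act 9 n19657
theorem D28585 : act 9 n19657 = n28585 := rfl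
theorem F121327 : act 0 n28585 = n19672 := d8_1 D28585 (iv D19672) (iv F84843)
theorem F121328 : act 2 n28585 = n19925 := d23_1 D28585 (iv D19925) (iv F84844)
theorem F121329 : act 3 n28585 = n19658 := d29_1 D28585 (iv D19658) D19657
theorem F121330 : act 7 n28585 = n28585 := d43_1 D28585 (iv D28585) F84845
def n28586 : Q := act 5 n19659
theorem D28586 : act 5 n19659 = n28586 := rfl
def n28587 : Q := act 7 n19659
theorem D28587 : act 7 n19659 = n28587 := rfl
theorem F121339 : act 4 n28587 = n19661 := d32_1 D28587 (iv D19661) (iv F84855)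
def n28588 : Q := act 8 n19659
theorem D28588 : act 8 n19659 = n28588 := rfl
theorem F121344 : act 4 n28588 = n19662 := d33_1 D28588 (iv D19662) (iv F84855)
def n28589 : Q := act 3 n19660
theorem D28589 : act 3 n19660 = n28589 := rfl
theorem F121346 : act 0 n28589 = n19676 := d2_1 D28589 (iv D19676) (iv F84857)
theorem F121347 : act 1 n28589 = n28589 := d10_1 D28589 (iv D28589) F84858
theorem F121348 : act 4 n28589 = n19929 := d24_2 (iv F84859) D28589 (iv D19929) F60260 (iv F59473)
theorem F121349 : act 5 n28589 = n28589 := d25_2 F84860 D28589 (iv D28589)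
theorem F121350 : act 7 n28589 = n28589 := d27_2 F84861 D28589 (iv D28589)
theorem F121351 : act 8 n28589 = n28589 := d28_2 D19660 D28589 (iv D28589) (iv D19660) F59463
def n28590 : Q := act 9 n19660
theorem D28590 : act 9 n19660 = n28590 := rfl
theorem F121352 : act 0 n28590 = n19677 := d8_1 D28590 (iv D19677) (iv F84857)
theorem F121353 : act 1 n28590 = n28590 := d16_1 D28590 (iv D28590) F84858
theorem F121354 : act 4 n28590 = n19663 := d34_1 D28590 (iv D19663) (iv F84859)
theorem F121355 : act 5 n28590 = n28590 := d38_1 D28590 (iv D28590) F84860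
theorem F121356 : act 7 n28590 = n28590 := d43_1 D28590 (iv D28590) F84861
theorem F121357 : act 8 n28590 = n28590 := d44_1 D28590 (iv D28590) (iv D19660) F59466 D19660
def n28591 : Q := act 8 n19661
theorem D28591 : act 8 n19661 = n28591 := rfl
theorem F121360 : act 3 n28591 = n19931 := d28_1 D28591 (iv D19931) F60265 (iv F59487) (iv F84864)
theorem F121362 : act 7 n28591 = n19662 := d42_1 D28591 (iv D19662) D19661
def n28592 : Q := act 9 n19662
theorem D28592 : act 9 n19662 = n28592 := rfl
theorem F121363 : act 0 n28592 = n19679 := d8_1 D28592 (iv D19679) (iv F84867)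
theorem F121364 : act 1 n28592 = n28592 := d16_1 D28592 (iv D28592) F84868
theorem F121365 : act 3 n28592 = n19932 := d29_1 D28592 (iv D19932) (iv F84869)
theorem F121366 : act 6 n28592 = n19663 := d41_1 D28592 (iv D19663) (iv F84870)
theorem F121367 : act 8 n28592 = n28592 := d44_1 D28592 (iv D28592) (iv D19662) F59470 D19662
def n28593 : Q := act 6 n19664
theorem D28593 : act 6 n19664 = n28593 := rfl
theorem F121370 : act 3 n28593 = n19665 := d26_1 D28593 (iv D19665) D19664
def n28595 : Q := act 5 n19665
theorem D28595 : act 5 n19665 = n28595 := rfl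
theorem F121379 : act 2 n28595 = n19673 := d19_1 D28595 (iv D19673) (iv F84884)
def n28596 : Q := act 7 n19665
theorem D28596 : act 7 n19665 = n28596 := rfl
theorem F121383 : act 2 n28596 = n19674 := d21_1 D28596 (iv D19674) (iv F84884)
theorem F121384 : act 4 n28596 = n19667 := d32_1 D28596 (iv D19667) (iv F84885)
def n28597 : Q := act 8 n19665
theorem D28597 : act 8 n19665 = n28597 := rfl
theorem F121388 : act 2 n28597 = n19675 := d22_1 D28597 (iv D19675) (iv F84884)
theorem F121389 : act 4 n28597 = n19668 := d33_1 D28597 (iv D19668) (iv F84885)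
theorem F121390 : act 6 n28597 = n19666 := d40_1 D28597 (iv D19666) D19665
def n28598 : Q := act 3 n19666
theorem D28598 : act 3 n19666 = n28598 := rfl
def n28599 : Q := act 9 n19666
theorem D28599 : act 9 n19666 = n28599 := rfl
theorem F121394 : act 1 n28599 = n28599 := d16_1 D28599 (iv D28599) F84887
theorem F121395 : act 2 n28599 = n19677 := d23_1 D28599 (iv D19677) (iv F84888)
theorem F121396 : act 4 n28599 = n19670 := d34_1 D28599 (iv D19670) (iv F84889)
theorem F121397 : act 5 n28599 = n28599 := d38_1 D28599 (iv D28599) F84890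
theorem F121398 : act 7 n28599 = n28599 := d43_1 D28599 (iv D28599) F84891
theorem F121399 : act 8 n28599 = n28599 := d44_1 D28599 (iv D28599) (iv D19666) F59493 D19666
def n28600 : Q := act 8 n19667
theorem D28600 : act 8 n19667 = n28600 := rfl
theorem F121401 : act 2 n28600 = n19678 := d22_1 D28600 (iv D19678) (iv F84893)
theorem F121403 : act 7 n28600 = n19668 := d42_1 D28600 (iv D19668) D19667
def n28601 : Q := act 3 n19668
theorem D28601 : act 3 n19668 = n28601 := rfl
theorem F121404 : act 1 n28601 = n28601 := d10_1 D28601 (iv D28601) F84897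
theorem F121405 : act 2 n28601 = n19941 := d17_1 D28601 (iv D19941) F60292 (iv F59524) (iv F84898)
theorem F121406 : act 6 n28601 = n19669 := d26_2 (iv F84899) D28601 (iv D19669)
theorem F121407 : act 8 n28601 = n28601 := d28_2 D19668 D28601 (iv D28601) (iv D19668) F59496
def n28602 : Q := act 9 n19668
theorem D28602 : act 9 n19668 = n28602 := rfl
theorem F121408 : act 1 n28602 = n28602 := d16_1 D28602 (iv D28602) F84897
theorem F121409 : act 2 n28602 = n19679 := d23_1 D28602 (iv D19679) (iv F84898)
theorem F121410 : act 6 n28602 = n19670 := d41_1 D28602 (iv D19670) (iv F84899)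
theorem F121411 : act 8 n28602 = n28602 := d44_1 D28602 (iv D28602) (iv D19668) F59497 D19668
def n28603 : Q := act 4 n19669
theorem D28603 : act 4 n19669 = n28603 := rfl
theorem F121412 : act 1 n28603 = n28603 := d11_1 D28603 (iv D28603) F84900
theorem F121413 : act 2 n28603 = n19943 := d18_1 D28603 (iv D19943) (iv F84901)
theorem F121414 : act 7 n28603 = n28603 := d32_2 F84903 D28603 (iv D28603)
theorem F121415 : act 8 n28603 = n28603 := d33_2 F84904 D28603 (iv D28603)
def n28604 : Q := act 9 n19669
theorem D28604 : act 9 n19669 = n28604 := rfl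
theorem F121416 : act 1 n28604 = n28604 := d16_1 D28604 (iv D28604) F84900
theorem F121417 : act 2 n28604 = n19944 := d23_1 D28604 (iv D19944) (iv F84901)
theorem F121418 : act 3 n28604 = n19670 := d29_1 D28604 (iv D19670) D19669
theorem F121419 : act 5 n28604 = n19672 := d38_1 D28604 (iv D19672) (iv F84902)
theorem F121420 : act 7 n28604 = n28604 := d43_1 D28604 (iv D28604) F84903
def n28605 : Q := act 5 n19671
theorem D28605 : act 5 n19671 = n28605 := rfl
theorem F121421 : act 1 n28605 = n28605 := d12_1 D28605 (iv D28605) F84910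
theorem F121422 : act 2 n28605 = n19945 := d19_1 D28605 (iv D19945) (iv F84911)
theorem F121423 : act 3 n28605 = n28605 := d25_1 D28605 (iv D28605) F84912
theorem F121424 : act 7 n28605 = n28605 := d36_2 F84913 D28605 (iv D28605)
theorem F121425 : act 8 n28605 = n28605 := d37_2 F84914 D28605 (iv D28605)
def n28606 : Q := act 9 n19671
theorem D28606 : act 9 n19671 = n28606 := rfl
theorem F121426 : act 1 n28606 = n28606 := d16_1 D28606 (iv D28606) F84910
theorem F121427 : act 2 n28606 = n19946 := d23_1 D28606 (iv D19946) (iv F84911)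
theorem F121428 : act 3 n28606 = n28606 := d29_1 D28606 (iv D28606) F84912
theorem F121429 : act 4 n28606 = n19672 := d34_1 D28606 (iv D19672) D19671
theorem F121430 : act 7 n28606 = n28606 := d43_1 D28606 (iv D28606) F84913
def n28607 : Q := act 8 n19672
theorem D28607 : act 8 n19672 = n28607 := rfl
theorem F121431 : act 1 n28607 = n28607 := d15_1 D28607 (iv D28607) F84915
theorem F121432 : act 2 n28607 = n19947 := d22_1 D28607 (iv D19947) (iv F84916)
theorem F121433 : act 3 n28607 = n28607 := d28_1 D28607 (iv D28607) F84917 F59510 (iv F84917)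
theorem F121434 : act 7 n28607 = n28607 := d42_1 D28607 (iv D28607) F84918
theorem F121435 : act 9 n28607 = n28607 := d44_2 D19672 D28607 (iv D28607) (iv D19672) F59505
def n28609 : Q := act 8 n19673
theorem D28609 : act 8 n19673 = n28609 := rfl
theorem F121441 : act 5 n28609 = n19675 := d37_1 D28609 (iv D19675) D19673
def n28610 : Q := act 8 n19674
theorem D28610 : act 8 n19674 = n28610 := rfl
theorem F121444 : act 4 n28610 = n19678 := d33_1 D28610 (iv D19678) (iv F84925)
theorem F121446 : act 7 n28610 = n19675 := d42_1 D28610 (iv D19675) D19674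
def n28611 : Q := act 3 n19675
theorem D28611 : act 3 n19675 = n28611 := rfl
theorem F121447 : act 1 n28611 = n19683 := d10_1 D28611 (iv D19683) (iv F84928)
theorem F121448 : act 4 n28611 = n19951 := d24_2 (iv F84929) D28611 (iv D19951) F60317 (iv F59524)
theorem F121449 : act 6 n28611 = n19676 := d26_2 (iv F84930) D28611 (iv D19676)
theorem F121450 : act 8 n28611 = n28611 := d28_2 D19675 D28611 (iv D28611) (iv D19675) F59512
def n28612 : Q := act 9 n19675
theorem D28612 : act 9 n19675 = n28612 := rfl
theorem F121451 : act 1 n28612 = n19684 := d16_1 D28612 (iv D19684) (iv F84928)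
theorem F121452 : act 4 n28612 = n19679 := d34_1 D28612 (iv D19679) (iv F84929)
theorem F121453 : act 6 n28612 = n19677 := d41_1 D28612 (iv D19677) (iv F84930)
theorem F121454 : act 8 n28612 = n28612 := d44_1 D28612 (iv D28612) (iv D19675) F59514 D19675
def n28613 : Q := act 2 n19676
theorem D28613 : act 2 n19676 = n28613 := rfl
theorem F121455 : act 4 n28613 = n19953 := d18_2 (iv F84932) D28613 (iv D19953)
theorem F121456 : act 5 n28613 = n28613 := d19_2 F84933 D28613 (iv D28613)
theorem F121457 : act 7 n28613 = n28613 := d21_2 F84934 D28613 (iv D28613)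
theorem F121458 : act 8 n28613 = n28613 := d22_2 F84935 D28613 (iv D28613)
def n28614 : Q := act 9 n19676
theorem D28614 : act 9 n19676 = n28614 := rfl
theorem F121459 : act 1 n28614 = n19686 := d16_1 D28614 (iv D19686) (iv F84931)
theorem F121460 : act 3 n28614 = n19677 := d29_1 D28614 (iv D19677) D19676
theorem F121461 : act 4 n28614 = n19954 := d34_1 D28614 (iv D19954) (iv F84932)
theorem F121462 : act 5 n28614 = n28614 := d38_1 D28614 (iv D28614) F84933
theorem F121463 : act 7 n28614 = n28614 := d43_1 D28614 (iv D28614) F84934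
def n28615 : Q := act 9 n19678
theorem D28615 : act 9 n19678 = n28615 := rfl
theorem F121464 : act 1 n28615 = n19687 := d16_1 D28615 (iv D19687) (iv F84941)
theorem F121465 : act 3 n28615 = n19955 := d29_1 D28615 (iv D19955) (iv F84942)
theorem F121466 : act 6 n28615 = n28615 := d41_1 D28615 (iv D28615) F84943
theorem F121467 : act 7 n28615 = n19679 := d43_1 D28615 (iv D19679) (iv F84944)
theorem F121468 : act 8 n28615 = n28615 := d44_1 D28615 (iv D28615) (iv D19678) F59522 D19678
def n28617 : Q := act 8 n19680
theorem D28617 : act 8 n19680 = n28617 := rfl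
theorem F121477 : act 5 n28617 = n19682 := d37_1 D28617 (iv D19682) (iv F84952)
theorem F121478 : act 7 n28617 = n19681 := d42_1 D28617 (iv D19681) D19680
def n28618 : Q := act 3 n19681
theorem D28618 : act 3 n19681 = n28618 := rfl
theorem F121479 : act 0 n28618 = n28618 := d2_1 D28618 (iv D28618) F84954
theorem F121480 : act 5 n28618 = n19683 := d25_2 (iv F84956) D28618 (iv D19683)
theorem F121481 : act 6 n28618 = n28618 := d26_2 F84957 D28618 (iv D28618)
theorem F121482 : act 8 n28618 = n28618 := d28_2 D19681 D28618 (iv D28618) (iv D19681) F59533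
def n28619 : Q := act 9 n19681
theorem D28619 : act 9 n19681 = n28619 := rfl
theorem F121483 : act 0 n28619 = n28619 := d8_1 D28619 (iv D28619) F84954
theorem F121484 : act 2 n28619 = n28619 := d23_1 D28619 (iv D28619) F84955
theorem F121485 : act 5 n28619 = n19684 := d38_1 D28619 (iv D19684) (iv F84956)
theorem F121486 : act 6 n28619 = n28619 := d41_1 D28619 (iv D28619) F84957
theorem F121487 : act 8 n28619 = n28619 := d44_1 D28619 (iv D28619) (iv D19681) F59535 D19681
def n28620 : Q := act 3 n19682
theorem D28620 : act 3 n19682 = n28620 := rfl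
theorem F121488 : act 0 n28620 = n28620 := d2_1 D28620 (iv D28620) F84958
theorem F121489 : act 4 n28620 = n19960 := d24_2 (iv F84960) D28620 (iv D19960) F60342 (iv F59559)
theorem F121490 : act 6 n28620 = n28620 := d26_2 F84961 D28620 (iv D28620)
theorem F121491 : act 7 n28620 = n19683 := d27_2 (iv F84962) D28620 (iv D19683)
theorem F121492 : act 8 n28620 = n28620 := d28_2 D19682 D28620 (iv D28620) (iv D19682) F59538
def n28621 : Q := act 9 n19682
theorem D28621 : act 9 n19682 = n28621 := rfl
theorem F121493 : act 0 n28621 = n28621 := d8_1 D28621 (iv D28621) F84958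
theorem F121494 : act 2 n28621 = n28621 := d23_1 D28621 (iv D28621) F84959
theorem F121495 : act 4 n28621 = n19687 := d34_1 D28621 (iv D19687) (iv F84960)
theorem F121496 : act 6 n28621 = n28621 := d41_1 D28621 (iv D28621) F84961
theorem F121497 : act 7 n28621 = n19684 := d43_1 D28621 (iv D19684) (iv F84962)
theorem F121498 : act 8 n28621 = n28621 := d44_1 D28621 (iv D28621) (iv D19682) F59541 D19682
def n28622 : Q := act 2 n19683
theorem D28622 : act 2 n19683 = n28622 := rfl
theorem F121499 : act 0 n28622 = n28622 := d1_1 D28622 (iv D28622) F84963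
theorem F121500 : act 3 n28622 = n28622 := d17_2 D19683 D28622 (iv D28622) (iv D19683) F59543
theorem F121501 : act 4 n28622 = n19962 := d18_2 (iv F84964) D28622 (iv D19962)
theorem F121502 : act 6 n28622 = n19685 := d20_2 (iv F84965) D28622 (iv D19685)
theorem F121503 : act 8 n28622 = n28622 := d22_2 F84966 D28622 (iv D28622)
def n28623 : Q := act 9 n19683
theorem D28623 : act 9 n19683 = n28623 := rfl
theorem F121504 : act 0 n28623 = n28623 := d8_1 D28623 (iv D28623) F84963
theorem F121505 : act 3 n28623 = n19684 := d29_1 D28623 (iv D19684) D19683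
theorem F121506 : act 4 n28623 = n19963 := d34_1 D28623 (iv D19963) (iv F84964)
theorem F121507 : act 6 n28623 = n19686 := d41_1 D28623 (iv D19686) (iv F84965)
def n28624 : Q := act 1 n19685
theorem D28624 : act 1 n19685 = n28624 := rfl
theorem F121508 : act 3 n28624 = n28624 := d10_2 F84973 D28624 (iv D28624)
theorem F121509 : act 4 n28624 = n19964 := d11_2 (iv F84974) D28624 (iv D19964)
theorem F121510 : act 5 n28624 = n28624 := d12_2 F84975 D28624 (iv D28624)
theorem F121511 : act 7 n28624 = n28624 := d14_2 F84976 D28624 (iv D28624)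
theorem F121512 : act 8 n28624 = n28624 := d15_2 F84977 D28624 (iv D28624)
def n28625 : Q := act 9 n19685
theorem D28625 : act 9 n19685 = n28625 := rfl
theorem F121513 : act 0 n28625 = n28625 := d8_1 D28625 (iv D28625) F84972
theorem F121514 : act 2 n28625 = n19686 := d23_1 D28625 (iv D19686) D19685
theorem F121515 : act 3 n28625 = n28625 := d29_1 D28625 (iv D28625) F84973
theorem F121516 : act 4 n28625 = n19965 := d34_1 D28625 (iv D19965) (iv F84974)
theorem F121517 : act 5 n28625 = n28625 := d38_1 D28625 (iv D28625) F84975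
theorem F121518 : act 7 n28625 = n28625 := d43_1 D28625 (iv D28625) F84976
def n28626 : Q := act 8 n19686
theorem D28626 : act 8 n19686 = n28626 := rfl
theorem F121519 : act 0 n28626 = n28626 := d7_1 D28626 (iv D28626) F84978
theorem F121520 : act 3 n28626 = n28626 := d28_1 D28626 (iv D28626) F84979 F59556 (iv F84979)
theorem F121521 : act 4 n28626 = n19966 := d33_1 D28626 (iv D19966) (iv F84980)
theorem F121522 : act 5 n28626 = n28626 := d37_1 D28626 (iv D28626) F84981
theorem F121523 : act 7 n28626 = n28626 := d42_1 D28626 (iv D28626) F84982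
theorem F121524 : act 9 n28626 = n28626 := d44_2 D19686 D28626 (iv D28626) (iv D19686) F59550
def n28627 : Q := act 3 n19688
theorem D28627 : act 3 n19688 = n28627 := rfl
theorem F121525 : act 0 n28627 = n19689 := d2_1 D28627 (iv D19689) (iv F84989)
theorem F121527 : act 4 n28627 = n20627 := d24_2 D19688 D28627 (iv D20627) (iv D14186) (iv F59569)
theorem F121528 : act 6 n28627 = n19706 := d26_2 (iv F84992) D28627 (iv D19706)
theorem F121530 : act 9 n28627 = n19695 := d29_2 (iv F84995) D28627 (iv D19695)
def n28629 : Q := act 2 n19689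
theorem D28629 : act 2 n19689 = n28629 := rfl
theorem F121538 : act 1 n28629 = n28629 := d9_1 D28629 (iv D28629) F84996 F59582 (iv F84996)
theorem F121539 : act 3 n28629 = n28629 := d17_2 D19689 D28629 (iv D28629) (iv D19689) F59576
theorem F121540 : act 4 n28629 = n20629 := d18_2 (iv F84997) D28629 (iv D20629)
theorem F121541 : act 6 n28629 = n19708 := d20_2 (iv F84998) D28629 (iv D19708)
theorem F121542 : act 7 n28629 = n28629 := d21_2 F84999 D28629 (iv D28629)
theorem F121543 : act 9 n28629 = n19697 := d23_2 (iv F85000) D28629 (iv D19697)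
def n28630 : Q := act 5 n19689
theorem D28630 : act 5 n19689 = n28630 := rfl
theorem F121544 : act 1 n28630 = n19691 := d12_1 D28630 (iv D19691) (iv F84996)
theorem F121545 : act 3 n28630 = n19690 := d25_1 D28630 (iv D19690) D19689
theorem F121546 : act 7 n28630 = n28630 := d36_2 F84999 D28630 (iv D28630)
theorem F121547 : act 9 n28630 = n19698 := d38_2 (iv F85000) D28630 (iv D19698)
def n28631 : Q := act 8 n19689
theorem D28631 : act 8 n19689 = n28631 := rfl
theorem F121548 : act 1 n28631 = n19692 := d15_1 D28631 (iv D19692) (iv F84996)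
theorem F121549 : act 3 n28631 = n28631 := d28_1 D28631 (iv D28631) (iv D19689) F59579 D19689
theorem F121550 : act 4 n28631 = n20631 := d33_1 D28631 (iv D20631) (iv F84997)
theorem F121551 : act 6 n28631 = n19710 := d40_1 D28631 (iv D19710) (iv F84998)
theorem F121552 : act 7 n28631 = n28631 := d42_1 D28631 (iv D28631) F84999
def n28632 : Q := act 6 n19690
theorem D28632 : act 6 n19690 = n28632 := rfl
theorem F121556 : act 5 n28632 = n19711 := d35_1 D28632 (iv D19711) (iv D13569) (iv F59577) D19690
theorem F121558 : act 9 n28632 = n19700 := d41_2 (iv F85006) D28632 (iv D19700)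
def n28633 : Q := act 4 n19691
theorem D28633 : act 4 n19691 = n28633 := rfl
def n28634 : Q := act 6 n19691
theorem D28634 : act 6 n19691 = n28634 := rfl
theorem F121567 : act 3 n28634 = n19693 := d26_1 D28634 (iv D19693) (iv F85009)
theorem F121568 : act 5 n28634 = n19713 := d35_1 D28634 (iv D19713) (iv D13570) (iv F59584) D19691
theorem F121569 : act 9 n28634 = n19702 := d41_2 (iv F85011) D28634 (iv D19702)
def n28635 : Q := act 8 n19691
theorem D28635 : act 8 n19691 = n28635 := rfl
theorem F121573 : act 5 n28635 = n19692 := d37_1 D28635 (iv D19692) D19691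
def n28636 : Q := act 9 n19692
theorem D28636 : act 9 n19692 = n28636 := rfl
theorem F121578 : act 4 n28636 = n20636 := d34_1 D28636 (iv D20636) (iv F85015)
theorem F121579 : act 6 n28636 = n19715 := d41_1 D28636 (iv D19715) (iv F85016)
def n28637 : Q := act 7 n19693
theorem D28637 : act 7 n19693 = n28637 := rfl
theorem F121585 : act 5 n28637 = n19716 := d36_1 D28637 (iv D19716) (iv F85021)
theorem F121588 : act 9 n28637 = n19705 := d43_2 (iv F85023) D28637 (iv D19705)
def n28638 : Q := act 2 n19695
theorem D28638 : act 2 n19695 = n28638 := rfl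
theorem F121591 : act 4 n28638 = n20638 := d18_2 (iv F85034) D28638 (iv D20638)
def n28639 : Q := act 5 n19695
theorem D28639 : act 5 n19695 = n28639 := rfl
theorem F121596 : act 3 n28639 = n19696 := d25_1 D28639 (iv D19696) D19695
def n28640 : Q := act 8 n19695
theorem D28640 : act 8 n19695 = n28640 := rfl
theorem F121600 : act 4 n28640 = n20640 := d33_1 D28640 (iv D20640) (iv F85034)
def n28642 : Q := act 5 n19697
theorem D28642 : act 5 n19697 = n28642 := rfl
theorem F121608 : act 1 n28642 = n28642 := d12_1 D28642 (iv D28642) F85042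
theorem F121609 : act 2 n28642 = n19698 := d19_1 D28642 (iv D19698) D19697
theorem F121610 : act 3 n28642 = n28642 := d25_1 D28642 (iv D28642) F85043
theorem F121611 : act 7 n28642 = n28642 := d36_2 F85046 D28642 (iv D28642)
def n28644 : Q := act 4 n19698
theorem D28644 : act 4 n19698 = n28644 := rfl
theorem F121619 : act 5 n28644 = n20644 := d30_2 D19698 D28644 (iv D20644) (iv D14196) (iv F59606)
def n28645 : Q := act 6 n19698
theorem D28645 : act 6 n19698 = n28645 := rfl
theorem F121622 : act 3 n28645 = n19700 := d26_1 D28645 (iv D19700) (iv F85048)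
theorem F121623 : act 5 n28645 = n19724 := d35_1 D28645 (iv D19724) (iv D13577) (iv F59607) D19698
def n28646 : Q := act 8 n19698
theorem D28646 : act 8 n19698 = n28646 := rfl
def n28647 : Q := act 9 n19699
theorem D28647 : act 9 n19699 = n28647 := rfl
def n28654 : Q := act 2 n19706
theorem D28654 : act 2 n19706 = n28654 := rfl
theorem F121662 : act 9 n28654 = n19717 := d23_2 (iv F85085) D28654 (iv D19717)
def n28655 : Q := act 5 n19706
theorem D28655 : act 5 n19706 = n28655 := rfl
theorem F121663 : act 0 n28655 = n19709 := d4_1 D28655 (iv D19709) (iv F85081)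
theorem F121667 : act 9 n28655 = n19718 := d38_2 (iv F85085) D28655 (iv D19718)
def n28656 : Q := act 8 n19706
theorem D28656 : act 8 n19706 = n28656 := rfl
theorem F121668 : act 0 n28656 = n19710 := d7_1 D28656 (iv D19710) (iv F85081)
def n28657 : Q := act 6 n19707
theorem D28657 : act 6 n19707 = n28657 := rfl
theorem F121678 : act 9 n28657 = n19720 := d41_2 (iv F85092) D28657 (iv D19720)
def n28658 : Q := act 5 n19708
theorem D28658 : act 5 n19708 = n28658 := rfl
theorem F121679 : act 1 n28658 = n28658 := d12_1 D28658 (iv D28658) F85093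
theorem F121680 : act 2 n28658 = n19709 := d19_1 D28658 (iv D19709) D19708
theorem F121681 : act 3 n28658 = n28658 := d25_1 D28658 (iv D28658) F85094
theorem F121682 : act 7 n28658 = n19737 := d36_2 (iv F85096) D28658 (iv D19737)
theorem F121683 : act 9 n28658 = n19721 := d38_2 (iv F85097) D28658 (iv D19721)
def n28659 : Q := act 8 n19708
theorem D28659 : act 8 n19708 = n28659 := rfl
theorem F121685 : act 2 n28659 = n19710 := d22_1 D28659 (iv D19710) D19708
theorem F121686 : act 4 n28659 = n20677 := d33_1 D28659 (iv D20677) (iv F85095)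
def n28660 : Q := act 4 n19709
theorem D28660 : act 4 n19709 = n28660 := rfl
theorem F121688 : act 1 n28660 = n19712 := d11_1 D28660 (iv D19712) (iv F85098)
theorem F121689 : act 3 n28660 = n19780 := d24_1 D28660 (iv D19780) F59843 (iv F59644) (iv F85099)
theorem F121690 : act 5 n28660 = n20678 := d30_2 D19709 D28660 (iv D20678) (iv D14219) (iv F59639)
theorem F121691 : act 7 n28660 = n19739 := d32_2 (iv F85100) D28660 (iv D19739)
theorem F121692 : act 9 n28660 = n19723 := d34_2 (iv F85101) D28660 (iv D19723)
def n28661 : Q := act 6 n19709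
theorem D28661 : act 6 n19709 = n28661 := rfl
theorem F121693 : act 1 n28661 = n19713 := d13_1 D28661 (iv D19713) (iv F85098)
theorem F121694 : act 3 n28661 = n19711 := d26_1 D28661 (iv D19711) (iv F85099)
theorem F121695 : act 9 n28661 = n19724 := d41_2 (iv F85101) D28661 (iv D19724)
def n28662 : Q := act 8 n19709
theorem D28662 : act 8 n19709 = n28662 := rfl
theorem F121696 : act 1 n28662 = n19714 := d15_1 D28662 (iv D19714) (iv F85098)
theorem F121697 : act 3 n28662 = n28662 := d28_1 D28662 (iv D28662) F85099 F59646 (iv F85099)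
theorem F121698 : act 5 n28662 = n19710 := d37_1 D28662 (iv D19710) D19709
theorem F121699 : act 7 n28662 = n19741 := d42_1 D28662 (iv D19741) (iv F85100)
def n28663 : Q := act 9 n19710
theorem D28663 : act 9 n19710 = n28663 := rfl
theorem F121700 : act 1 n28663 = n19715 := d16_1 D28663 (iv D19715) (iv F85102)
theorem F121702 : act 4 n28663 = n20681 := d34_1 D28663 (iv D20681) (iv F85104)
theorem F121704 : act 8 n28663 = n19726 := d44_1 D28663 (iv D19726) (iv D13578) (iv F59641) D19710
def n28664 : Q := act 7 n19711
theorem D28664 : act 7 n19711 = n28664 := rfl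
theorem F121707 : act 4 n28664 = n19784 := d32_1 D28664 (iv D19784) (iv F85108)
theorem F121708 : act 6 n28664 = n19743 := d39_1 D28664 (iv D19743) (iv D13590) (iv F59645) D19711
theorem F121710 : act 9 n28664 = n19727 := d43_2 (iv F85110) D28664 (iv D19727)
def n28665 : Q := act 6 n19712
theorem D28665 : act 6 n19712 = n28665 := rfl
theorem F121711 : act 0 n28665 = n28665 := d5_1 D28665 (iv D28665) F85111
theorem F121712 : act 2 n28665 = n28665 := d20_1 D28665 (iv D28665) F85112
theorem F121713 : act 3 n28665 = n19785 := d26_1 D28665 (iv D19785) (iv F85113)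
theorem F121714 : act 4 n28665 = n19713 := d31_1 D28665 (iv D19713) D19712
theorem F121715 : act 9 n28665 = n19728 := d41_2 (iv F85116) D28665 (iv D19728)
def n28666 : Q := act 8 n19712
theorem D28666 : act 8 n19712 = n28666 := rfl
theorem F121716 : act 0 n28666 = n28666 := d7_1 D28666 (iv D28666) F85111
theorem F121717 : act 2 n28666 = n28666 := d22_1 D28666 (iv D28666) F85112
theorem F121718 : act 4 n28666 = n19714 := d33_1 D28666 (iv D19714) D19712
theorem F121719 : act 5 n28666 = n20684 := d37_1 D28666 (iv D20684) (iv F85114)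
theorem F121720 : act 7 n28666 = n19745 := d42_1 D28666 (iv D19745) (iv F85115)
def n28667 : Q := act 7 n19713
theorem D28667 : act 7 n19713 = n28667 := rfl
theorem F121723 : act 3 n28667 = n19716 := d27_1 D28667 (iv D19716) (iv F85119)
theorem F121724 : act 6 n28667 = n19746 := d39_1 D28667 (iv D19746) (iv D13592) (iv F59651) D19713
theorem F121725 : act 9 n28667 = n19730 := d43_2 (iv F85120) D28667 (iv D19730)
def n28668 : Q := act 8 n19713
theorem D28668 : act 8 n19713 = n28668 := rfl
def n28669 : Q := act 9 n19714
theorem D28669 : act 9 n19714 = n28669 := rfl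
theorem F121733 : act 5 n28669 = n19715 := d38_1 D28669 (iv D19715) (iv F85124)
theorem F121734 : act 7 n28669 = n19748 := d43_1 D28669 (iv D19748) (iv F85125)
theorem F121735 : act 8 n28669 = n19732 := d44_1 D28669 (iv D19732) (iv D13582) (iv F59652) D19714
def n28671 : Q := act 5 n19717
theorem D28671 : act 5 n19717 = n28671 := rfl
theorem F121741 : act 0 n28671 = n19721 := d4_1 D28671 (iv D19721) (iv F85138)
theorem F121742 : act 2 n28671 = n19718 := d19_1 D28671 (iv D19718) D19717
def n28673 : Q := act 4 n19718
theorem D28673 : act 4 n19718 = n28673 := rfl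
theorem F121749 : act 0 n28673 = n19723 := d3_1 D28673 (iv D19723) (iv F85142)
theorem F121750 : act 1 n28673 = n28673 := d11_1 D28673 (iv D28673) F85143
theorem F121751 : act 3 n28673 = n19793 := d24_1 D28673 (iv D19793) F59891 (iv F59677) (iv F85144)
theorem F121752 : act 5 n28673 = n20691 := d30_2 D19718 D28673 (iv D20691) (iv D14228) (iv F59672)
theorem F121753 : act 7 n28673 = n19752 := d32_2 (iv F85145) D28673 (iv D19752)
def n28674 : Q := act 6 n19718
theorem D28674 : act 6 n19718 = n28674 := rfl
theorem F121756 : act 3 n28674 = n19720 := d26_1 D28674 (iv D19720) (iv F85144)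
def n28675 : Q := act 8 n19718
theorem D28675 : act 8 n19718 = n28675 := rfl
def n28676 : Q := act 9 n19719
theorem D28676 : act 9 n19719 = n28676 := rfl
def n28678 : Q := act 4 n19721
theorem D28678 : act 4 n19721 = n28678 := rfl
theorem F121770 : act 1 n28678 = n28678 := d11_1 D28678 (iv D28678) F85154
theorem F121771 : act 2 n28678 = n19723 := d18_1 D28678 (iv D19723) (iv F85155)
theorem F121772 : act 5 n28678 = n20696 := d30_2 D19721 D28678 (iv D20696) (iv D14231) (iv F59681)
theorem F121773 : act 7 n28678 = n19757 := d32_2 (iv F85157) D28678 (iv D19757)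
def n28679 : Q := act 6 n19721
theorem D28679 : act 6 n19721 = n28679 := rfl
theorem F121774 : act 1 n28679 = n28679 := d13_1 D28679 (iv D28679) F85154
theorem F121775 : act 2 n28679 = n19724 := d20_1 D28679 (iv D19724) (iv F85155)
theorem F121776 : act 3 n28679 = n28679 := d26_1 D28679 (iv D28679) F85156
def n28680 : Q := act 8 n19721
theorem D28680 : act 8 n19721 = n28680 := rfl
theorem F121778 : act 2 n28680 = n19725 := d22_1 D28680 (iv D19725) (iv F85155)
def n28683 : Q := act 6 n19723
theorem D28683 : act 6 n19723 = n28683 := rfl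
theorem F121788 : act 1 n28683 = n19728 := d13_1 D28683 (iv D19728) (iv F85162)
theorem F121789 : act 3 n28683 = n19803 := d26_1 D28683 (iv D19803) (iv F85163)
theorem F121790 : act 4 n28683 = n19724 := d31_1 D28683 (iv D19724) D19723
def n28684 : Q := act 8 n19723
theorem D28684 : act 8 n19723 = n28684 := rfl
theorem F121791 : act 1 n28684 = n19729 := d15_1 D28684 (iv D19729) (iv F85162)
theorem F121792 : act 4 n28684 = n19725 := d33_1 D28684 (iv D19725) D19723
theorem F121793 : act 5 n28684 = n20702 := d37_1 D28684 (iv D20702) (iv F85164)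
theorem F121794 : act 7 n28684 = n19763 := d42_1 D28684 (iv D19763) (iv F85165)
def n28685 : Q := act 7 n19724
theorem D28685 : act 7 n19724 = n28685 := rfl
theorem F121796 : act 3 n28685 = n19727 := d27_1 D28685 (iv D19727) (iv F85167)
theorem F121797 : act 6 n28685 = n19764 := d39_1 D28685 (iv D19764) (iv D13603) (iv F59685) D19724
def n28686 : Q := act 8 n19724
theorem D28686 : act 8 n19724 = n28686 := rfl
def n28687 : Q := act 9 n19725
theorem D28687 : act 9 n19725 = n28687 := rfl
def n28688 : Q := act 5 n19728
theorem D28688 : act 5 n19728 = n28688 := rfl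
theorem F121805 : act 3 n28688 = n19808 := d25_1 D28688 (iv D19808) (iv F85180)
theorem F121806 : act 6 n28688 = n20706 := d35_2 D19728 D28688 (iv D20706) (iv D14238) (iv F59695)
def n28689 : Q := act 7 n19728
theorem D28689 : act 7 n19728 = n28689 := rfl
theorem F121809 : act 3 n28689 = n19809 := d27_1 D28689 (iv D19809) (iv F85180)
theorem F121810 : act 4 n28689 = n19730 := d32_1 D28689 (iv D19730) (iv F85181)
theorem F121811 : act 6 n28689 = n19768 := d39_1 D28689 (iv D19768) (iv D13607) (iv F59696) D19728
def n28690 : Q := act 8 n19728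
theorem D28690 : act 8 n19728 = n28690 := rfl
theorem F121814 : act 4 n28690 = n19731 := d33_1 D28690 (iv D19731) (iv F85181)
theorem F121815 : act 6 n28690 = n19729 := d40_1 D28690 (iv D19729) D19728
def n28691 : Q := act 3 n19729
theorem D28691 : act 3 n19729 = n28691 := rfl
theorem F121818 : act 7 n28691 = n19770 := d27_2 (iv F85186) D28691 (iv D19770)
theorem F121819 : act 8 n28691 = n19811 := d28_2 D19729 D28691 (iv D19811) (iv D13635) (iv F59694)
def n28692 : Q := act 9 n19729
theorem D28692 : act 9 n19729 = n28692 := rfl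
theorem F121824 : act 7 n28692 = n19771 := d43_1 D28692 (iv D19771) (iv F85186)
def n28696 : Q := act 5 n19733
theorem D28696 : act 5 n19733 = n28696 := rfl
theorem F121838 : act 0 n28696 = n19737 := d4_1 D28696 (iv D19737) (iv F85198)
def n28698 : Q := act 4 n19734
theorem D28698 : act 4 n19734 = n28698 := rfl
theorem F121846 : act 0 n28698 = n19739 := d3_1 D28698 (iv D19739) (iv F85203)
theorem F121850 : act 9 n28698 = n19752 := d34_2 (iv F85206) D28698 (iv D19752)
def n28699 : Q := act 6 n19734
theorem D28699 : act 6 n19734 = n28699 := rfl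
theorem F121851 : act 0 n28699 = n19740 := d5_1 D28699 (iv D19740) (iv F85203)
theorem F121855 : act 9 n28699 = n19753 := d41_2 (iv F85206) D28699 (iv D19753)
def n28700 : Q := act 8 n19734
theorem D28700 : act 8 n19734 = n28700 := rfl
theorem F121856 : act 0 n28700 = n19741 := d7_1 D28700 (iv D19741) (iv F85203)
def n28701 : Q := act 9 n19735
theorem D28701 : act 9 n19735 = n28701 := rfl
theorem F121865 : act 8 n28701 = n19755 := d44_1 D28701 (iv D19755) (iv D13598) (iv F59716) D19735
def n28702 : Q := act 7 n19736
theorem D28702 : act 7 n19736 = n28702 := rfl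
theorem F121872 : act 9 n28702 = n19756 := d43_2 (iv F85218) D28702 (iv D19756)
def n28703 : Q := act 4 n19737
theorem D28703 : act 4 n19737 = n28703 := rfl
theorem F121873 : act 1 n28703 = n28703 := d11_1 D28703 (iv D28703) F85219
theorem F121874 : act 2 n28703 = n19739 := d18_1 D28703 (iv D19739) (iv F85220)
theorem F121875 : act 5 n28703 = n20748 := d30_2 D19737 D28703 (iv D20748) (iv D14265) (iv F59725)
theorem F121876 : act 9 n28703 = n19757 := d34_2 (iv F85222) D28703 (iv D19757)
def n28704 : Q := act 6 n19737
theorem D28704 : act 6 n19737 = n28704 := rfl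
theorem F121877 : act 1 n28704 = n28704 := d13_1 D28704 (iv D28704) F85219
theorem F121878 : act 2 n28704 = n19740 := d20_1 D28704 (iv D19740) (iv F85220)
theorem F121879 : act 3 n28704 = n28704 := d26_1 D28704 (iv D28704) F85221
theorem F121880 : act 5 n28704 = n28704 := d35_1 D28704 (iv D28704) (iv D19737) F59726 D19737
theorem F121881 : act 9 n28704 = n19758 := d41_2 (iv F85222) D28704 (iv D19758)
def n28705 : Q := act 8 n19737
theorem D28705 : act 8 n19737 = n28705 := rfl
theorem F121883 : act 2 n28705 = n19741 := d22_1 D28705 (iv D19741) (iv F85220)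
def n28708 : Q := act 6 n19739
theorem D28708 : act 6 n19739 = n28708 := rfl
theorem F121894 : act 1 n28708 = n19744 := d13_1 D28708 (iv D19744) (iv F85227)
theorem F121895 : act 3 n28708 = n19828 := d26_1 D28708 (iv D19828) (iv F85228)
theorem F121896 : act 4 n28708 = n19740 := d31_1 D28708 (iv D19740) D19739
theorem F121897 : act 9 n28708 = n19762 := d41_2 (iv F85230) D28708 (iv D19762)
def n28709 : Q := act 8 n19739
theorem D28709 : act 8 n19739 = n28709 := rfl
theorem F121898 : act 1 n28709 = n19745 := d15_1 D28709 (iv D19745) (iv F85227)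
theorem F121899 : act 4 n28709 = n19741 := d33_1 D28709 (iv D19741) D19739
theorem F121900 : act 5 n28709 = n20754 := d37_1 D28709 (iv D20754) (iv F85229)
def n28710 : Q := act 7 n19740
theorem D28710 : act 7 n19740 = n28710 := rfl
theorem F121901 : act 1 n28710 = n19746 := d14_1 D28710 (iv D19746) (iv F85231)
theorem F121902 : act 3 n28710 = n19743 := d27_1 D28710 (iv D19743) (iv F85232)
theorem F121903 : act 5 n28710 = n28710 := d36_1 D28710 (iv D28710) F85233
theorem F121904 : act 9 n28710 = n19764 := d43_2 (iv F85234) D28710 (iv D19764)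
def n28711 : Q := act 8 n19740
theorem D28711 : act 8 n19740 = n28711 := rfl
theorem F121905 : act 1 n28711 = n19747 := d15_1 D28711 (iv D19747) (iv F85231)
theorem F121906 : act 3 n28711 = n28711 := d28_1 D28711 (iv D28711) F85232 F59739 (iv F85232)
theorem F121907 : act 5 n28711 = n28711 := d37_1 D28711 (iv D28711) F85233
theorem F121908 : act 6 n28711 = n19741 := d40_1 D28711 (iv D19741) D19740
def n28712 : Q := act 9 n19741
theorem D28712 : act 9 n19741 = n28712 := rfl
theorem F121912 : act 8 n28712 = n19766 := d44_1 D28712 (iv D19766) (iv D13604) (iv F59730) D19741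
def n28713 : Q := act 5 n19744
theorem D28713 : act 5 n19744 = n28713 := rfl
theorem F121913 : act 0 n28713 = n28713 := d4_1 D28713 (iv D28713) F85249
theorem F121914 : act 2 n28713 = n28713 := d19_1 D28713 (iv D28713) F85250
theorem F121915 : act 3 n28713 = n19833 := d25_1 D28713 (iv D19833) (iv F85251)
theorem F121916 : act 4 n28713 = n28713 := d30_1 D28713 (iv D28713) F85252 F59749 (iv F85252)
theorem F121917 : act 6 n28713 = n20758 := d35_2 D19744 D28713 (iv D20758) (iv D14272) (iv F59744)
theorem F121918 : act 9 n28713 = n19767 := d38_2 (iv F85253) D28713 (iv D19767)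
def n28714 : Q := act 7 n19744
theorem D28714 : act 7 n19744 = n28714 := rfl
theorem F121919 : act 0 n28714 = n28714 := d6_1 D28714 (iv D28714) F85249
theorem F121920 : act 2 n28714 = n28714 := d21_1 D28714 (iv D28714) F85250
theorem F121921 : act 3 n28714 = n19834 := d27_1 D28714 (iv D19834) (iv F85251)
theorem F121922 : act 4 n28714 = n19746 := d32_1 D28714 (iv D19746) (iv F85252)
theorem F121923 : act 9 n28714 = n19768 := d43_2 (iv F85253) D28714 (iv D19768)
def n28715 : Q := act 8 n19744
theorem D28715 : act 8 n19744 = n28715 := rfl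
theorem F121924 : act 0 n28715 = n28715 := d7_1 D28715 (iv D28715) F85249
theorem F121925 : act 2 n28715 = n28715 := d22_1 D28715 (iv D28715) F85250
theorem F121926 : act 4 n28715 = n19747 := d33_1 D28715 (iv D19747) (iv F85252)
theorem F121927 : act 6 n28715 = n19745 := d40_1 D28715 (iv D19745) D19744
def n28716 : Q := act 3 n19745
theorem D28716 : act 3 n19745 = n28716 := rfl
theorem F121928 : act 0 n28716 = n28716 := d2_1 D28716 (iv D28716) F85254
theorem F121929 : act 4 n28716 = n28716 := d24_2 (iv F85256) D28716 (iv D28716) F85256 F59753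
theorem F121930 : act 5 n28716 = n20761 := d25_2 (iv F85257) D28716 (iv D20761)
theorem F121931 : act 8 n28716 = n19836 := d28_2 D19745 D28716 (iv D19836) (iv D13651) (iv F59743)
def n28717 : Q := act 9 n19745
theorem D28717 : act 9 n19745 = n28717 := rfl
theorem F121932 : act 0 n28717 = n28717 := d8_1 D28717 (iv D28717) F85254
theorem F121933 : act 2 n28717 = n28717 := d23_1 D28717 (iv D28717) F85255
theorem F121934 : act 4 n28717 = n19748 := d34_1 D28717 (iv D19748) (iv F85256)
theorem F121935 : act 5 n28717 = n20762 := d38_1 D28717 (iv D20762) (iv F85257)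
theorem F121936 : act 8 n28717 = n19771 := d44_1 D28717 (iv D19771) (iv D13608) (iv F59745) D19745
def n28718 : Q := act 8 n19746
theorem D28718 : act 8 n19746 = n28718 := rfl
def n28719 : Q := act 9 n19747
theorem D28719 : act 9 n19747 = n28719 := rfl
theorem F121947 : act 8 n28719 = n19773 := d44_1 D28719 (iv D19773) (iv D13610) (iv F59750) D19747
def n28722 : Q := act 4 n19750
theorem D28722 : act 4 n19750 = n28722 := rfl
theorem F121957 : act 0 n28722 = n19757 := d3_1 D28722 (iv D19757) (iv F85278)
theorem F121958 : act 2 n28722 = n19752 := d18_1 D28722 (iv D19752) (iv F85279)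
theorem F121959 : act 5 n28722 = n20767 := d30_2 D19750 D28722 (iv D20767) (iv D14278) (iv F59769)
def n28723 : Q := act 6 n19750
theorem D28723 : act 6 n19750 = n28723 := rfl
theorem F121961 : act 2 n28723 = n19753 := d20_1 D28723 (iv D19753) (iv F85279)
def n28727 : Q := act 6 n19752
theorem D28727 : act 6 n19752 = n28727 := rfl
theorem F121974 : act 0 n28727 = n19762 := d5_1 D28727 (iv D19762) (iv F85285)
theorem F121975 : act 1 n28727 = n28727 := d13_1 D28727 (iv D28727) F85286
theorem F121976 : act 3 n28727 = n19847 := d26_1 D28727 (iv D19847) (iv F85287)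
theorem F121977 : act 4 n28727 = n19753 := d31_1 D28727 (iv D19753) D19752
def n28728 : Q := act 8 n19752
theorem D28728 : act 8 n19752 = n28728 := rfl
def n28729 : Q := act 7 n19753
theorem D28729 : act 7 n19753 = n28729 := rfl
theorem F121984 : act 3 n28729 = n19756 := d27_1 D28729 (iv D19756) (iv F85291)
def n28730 : Q := act 8 n19753
theorem D28730 : act 8 n19753 = n28730 := rfl
def n28731 : Q := act 9 n19754
theorem D28731 : act 9 n19754 = n28731 := rfl
def n28732 : Q := act 3 n19757
theorem D28732 : act 3 n19757 = n28732 := rfl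
theorem F121993 : act 1 n28732 = n28732 := d10_1 D28732 (iv D28732) F85305
theorem F121994 : act 2 n28732 = n19852 := d17_1 D28732 (iv D19852) F60051 (iv F59791) (iv F85306)
theorem F121995 : act 4 n28732 = n28732 := d24_2 D19757 D28732 (iv D28732) (iv D19757) F59785
theorem F121996 : act 5 n28732 = n20777 := d25_2 (iv F85307) D28732 (iv D20777)
def n28733 : Q := act 6 n19757
theorem D28733 : act 6 n19757 = n28733 := rfl
theorem F121997 : act 1 n28733 = n28733 := d13_1 D28733 (iv D28733) F85305
theorem F121998 : act 2 n28733 = n19762 := d20_1 D28733 (iv D19762) (iv F85306)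
theorem F121999 : act 4 n28733 = n19758 := d31_1 D28733 (iv D19758) D19757
def n28734 : Q := act 8 n19757
theorem D28734 : act 8 n19757 = n28734 := rfl
theorem F122001 : act 2 n28734 = n19763 := d22_1 D28734 (iv D19763) (iv F85306)
def n28735 : Q := act 7 n19758
theorem D28735 : act 7 n19758 = n28735 := rfl
theorem F122004 : act 1 n28735 = n28735 := d14_1 D28735 (iv D28735) F85308
theorem F122005 : act 2 n28735 = n19764 := d21_1 D28735 (iv D19764) (iv F85309)
theorem F122006 : act 3 n28735 = n28735 := d27_1 D28735 (iv D28735) F85310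
theorem F122007 : act 5 n28735 = n28735 := d36_1 D28735 (iv D28735) F85311
def n28736 : Q := act 8 n19758
theorem D28736 : act 8 n19758 = n28736 := rfl
theorem F122009 : act 2 n28736 = n19765 := d22_1 D28736 (iv D19765) (iv F85309)
def n28741 : Q := act 5 n19762
theorem D28741 : act 5 n19762 = n28741 := rfl
theorem F122025 : act 1 n28741 = n19767 := d12_1 D28741 (iv D19767) (iv F85322)
theorem F122026 : act 3 n28741 = n19861 := d25_1 D28741 (iv D19861) (iv F85323)
theorem F122027 : act 4 n28741 = n28741 := d30_1 D28741 (iv D28741) F85324 F59795 (iv F85324)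
theorem F122028 : act 6 n28741 = n20786 := d35_2 D19762 D28741 (iv D20786) (iv D14290) (iv F59792)
def n28742 : Q := act 7 n19762
theorem D28742 : act 7 n19762 = n28742 := rfl
theorem F122029 : act 1 n28742 = n19768 := d14_1 D28742 (iv D19768) (iv F85322)
theorem F122030 : act 3 n28742 = n19862 := d27_1 D28742 (iv D19862) (iv F85323)
theorem F122031 : act 4 n28742 = n19764 := d32_1 D28742 (iv D19764) (iv F85324)
def n28743 : Q := act 8 n19762
theorem D28743 : act 8 n19762 = n28743 := rfl
theorem F122032 : act 1 n28743 = n19769 := d15_1 D28743 (iv D19769) (iv F85322)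
theorem F122033 : act 4 n28743 = n19765 := d33_1 D28743 (iv D19765) (iv F85324)
theorem F122034 : act 6 n28743 = n19763 := d40_1 D28743 (iv D19763) D19762
def n28744 : Q := act 3 n19763
theorem D28744 : act 3 n19763 = n28744 := rfl
theorem F122035 : act 1 n28744 = n19770 := d10_1 D28744 (iv D19770) (iv F85325)
theorem F122036 : act 5 n28744 = n20789 := d25_2 (iv F85327) D28744 (iv D20789)
theorem F122037 : act 8 n28744 = n19864 := d28_2 D19763 D28744 (iv D19864) (iv D13669) (iv F59791)
def n28745 : Q := act 9 n19763
theorem D28745 : act 9 n19763 = n28745 := rfl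
def n28746 : Q := act 8 n19764
theorem D28746 : act 8 n19764 = n28746 := rfl
def n28747 : Q := act 9 n19765
theorem D28747 : act 9 n19765 = n28747 := rfl
def n28748 : Q := act 7 n19767
theorem D28748 : act 7 n19767 = n28748 := rfl
theorem F122047 : act 0 n28748 = n28748 := d6_1 D28748 (iv D28748) F85336
theorem F122048 : act 2 n28748 = n28748 := d21_1 D28748 (iv D28748) F85337
theorem F122049 : act 3 n28748 = n19868 := d27_1 D28748 (iv D19868) (iv F85338)
theorem F122050 : act 4 n28748 = n28748 := d32_1 D28748 (iv D28748) F85339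
theorem F122051 : act 5 n28748 = n19768 := d36_1 D28748 (iv D19768) D19767
def n28749 : Q := act 8 n19767
theorem D28749 : act 8 n19767 = n28749 := rfl
theorem F122052 : act 0 n28749 = n28749 := d7_1 D28749 (iv D28749) F85336
theorem F122053 : act 2 n28749 = n28749 := d22_1 D28749 (iv D28749) F85337
theorem F122054 : act 4 n28749 = n28749 := d33_1 D28749 (iv D28749) F85339
theorem F122055 : act 5 n28749 = n19769 := d37_1 D28749 (iv D19769) D19767
theorem F122056 : act 6 n28749 = n20794 := d40_1 D28749 (iv D20794) (iv F85340)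
def n28750 : Q := act 8 n19768
theorem D28750 : act 8 n19768 = n28750 := rfl
theorem F122059 : act 4 n28750 = n19772 := d33_1 D28750 (iv D19772) (iv F85344)
theorem F122060 : act 7 n28750 = n19769 := d42_1 D28750 (iv D19769) D19768
def n28751 : Q := act 3 n19769
theorem D28751 : act 3 n19769 = n28751 := rfl
theorem F122063 : act 8 n28751 = n19871 := d28_2 D19769 D28751 (iv D19871) (iv D13675) (iv F59807)
def n28752 : Q := act 9 n19769
theorem D28752 : act 9 n19769 = n28752 := rfl
def n28753 : Q := act 2 n19770
theorem D28753 : act 2 n19770 = n28753 := rfl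
theorem F122071 : act 8 n28753 = n19873 := d22_2 (iv F85351) D28753 (iv D19873)
def n28754 : Q := act 9 n19770
theorem D28754 : act 9 n19770 = n28754 := rfl
def n28756 : Q := act 1 n19774
theorem D28756 : act 1 n19774 = n28756 := rfl
theorem F122079 : act 0 n28756 = n19983 := d0_1 D28756 (iv D19983) F60429 (iv F59836) (iv F85364)
theorem F122082 : act 4 n28756 = n20817 := d11_2 (iv F85366) D28756 (iv D20817)
theorem F122085 : act 9 n28756 = n19790 := d16_2 (iv F85369) D28756 (iv D19790)
def n28757 : Q := act 5 n19774
theorem D28757 : act 5 n19774 = n28757 := rfl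
theorem F122086 : act 0 n28757 = n19778 := d4_1 D28757 (iv D19778) (iv F85364)
theorem F122089 : act 7 n28757 = n19816 := d36_2 (iv F85368) D28757 (iv D19816)
theorem F122090 : act 9 n28757 = n19791 := d38_2 (iv F85369) D28757 (iv D19791)
def n28758 : Q := act 8 n19774
theorem D28758 : act 8 n19774 = n28758 := rfl
theorem F122091 : act 0 n28758 = n19779 := d7_1 D28758 (iv D19779) (iv F85364)
theorem F122093 : act 4 n28758 = n20819 := d33_1 D28758 (iv D20819) (iv F85366)
def n28759 : Q := act 4 n19775
theorem D28759 : act 4 n19775 = n28759 := rfl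
theorem F122096 : act 0 n28759 = n19780 := d3_1 D28759 (iv D19780) (iv F85370)
theorem F122098 : act 5 n28759 = n20820 := d30_2 D19775 D28759 (iv D20820) (iv D14314) (iv F59826)
theorem F122099 : act 7 n28759 = n19818 := d32_2 (iv F85373) D28759 (iv D19818)
theorem F122100 : act 9 n28759 = n19793 := d34_2 (iv F85374) D28759 (iv D19793)
def n28760 : Q := act 6 n19775
theorem D28760 : act 6 n19775 = n28760 := rfl
theorem F122101 : act 0 n28760 = n19781 := d5_1 D28760 (iv D19781) (iv F85370)
theorem F122105 : act 9 n28760 = n19794 := d41_2 (iv F85374) D28760 (iv D19794)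
def n28761 : Q := act 8 n19775
theorem D28761 : act 8 n19775 = n28761 := rfl
theorem F122106 : act 0 n28761 = n19782 := d7_1 D28761 (iv D19782) (iv F85370)
theorem F122109 : act 5 n28761 = n19776 := d37_1 D28761 (iv D19776) D19775
def n28762 : Q := act 9 n19776
theorem D28762 : act 9 n19776 = n28762 := rfl
theorem F122111 : act 0 n28762 = n19783 := d8_1 D28762 (iv D19783) (iv F85375)
theorem F122117 : act 8 n28762 = n19796 := d44_1 D28762 (iv D19796) (iv D13625) (iv F59829) D19776
def n28763 : Q := act 7 n19777
theorem D28763 : act 7 n19777 = n28763 := rfl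
theorem F122124 : act 9 n28763 = n19797 := d43_2 (iv F85386) D28763 (iv D19797)
def n28764 : Q := act 4 n19778
theorem D28764 : act 4 n19778 = n28764 := rfl
theorem F122125 : act 1 n28764 = n19991 := d11_1 D28764 (iv D19991) (iv F85387)
theorem F122126 : act 2 n28764 = n19780 := d18_1 D28764 (iv D19780) (iv F85388)
theorem F122127 : act 5 n28764 = n20825 := d30_2 D19778 D28764 (iv D20825) (iv D14317) (iv F59838)
theorem F122128 : act 7 n28764 = n19823 := d32_2 (iv F85390) D28764 (iv D19823)
theorem F122129 : act 9 n28764 = n19798 := d34_2 (iv F85391) D28764 (iv D19798)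
def n28765 : Q := act 6 n19778
theorem D28765 : act 6 n19778 = n28765 := rfl
theorem F122130 : act 1 n28765 = n19992 := d13_1 D28765 (iv D19992) (iv F85387)
theorem F122131 : act 2 n28765 = n19781 := d20_1 D28765 (iv D19781) (iv F85388)
theorem F122132 : act 3 n28765 = n28765 := d26_1 D28765 (iv D28765) F85389
theorem F122133 : act 5 n28765 = n28765 := d35_1 D28765 (iv D28765) (iv D19778) F59839 D19778
theorem F122134 : act 9 n28765 = n19799 := d41_2 (iv F85391) D28765 (iv D19799)
def n28766 : Q := act 8 n19778
theorem D28766 : act 8 n19778 = n28766 := rfl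
theorem F122135 : act 1 n28766 = n19993 := d15_1 D28766 (iv D19993) (iv F85387)
theorem F122136 : act 2 n28766 = n19782 := d22_1 D28766 (iv D19782) (iv F85388)
theorem F122137 : act 5 n28766 = n19779 := d37_1 D28766 (iv D19779) D19778
theorem F122138 : act 7 n28766 = n19825 := d42_1 D28766 (iv D19825) (iv F85390)
def n28767 : Q := act 3 n19779
theorem D28767 : act 3 n19779 = n28767 := rfl
theorem F122139 : act 1 n28767 = n19994 := d10_1 D28767 (iv D19994) (iv F85392)
theorem F122140 : act 2 n28767 = n28767 := d17_1 D28767 (iv D28767) F85393 F59847 (iv F85393)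
theorem F122141 : act 6 n28767 = n28767 := d26_2 F85395 D28767 (iv D28767)
theorem F122142 : act 7 n28767 = n19826 := d27_2 (iv F85396) D28767 (iv D19826)
theorem F122143 : act 8 n28767 = n28767 := d28_2 D19779 D28767 (iv D28767) (iv D19779) F59837
def n28768 : Q := act 9 n19779
theorem D28768 : act 9 n19779 = n28768 := rfl
theorem F122144 : act 1 n28768 = n19995 := d16_1 D28768 (iv D19995) (iv F85392)
theorem F122145 : act 2 n28768 = n19783 := d23_1 D28768 (iv D19783) (iv F85393)
theorem F122146 : act 4 n28768 = n20829 := d34_1 D28768 (iv D20829) (iv F85394)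
theorem F122147 : act 6 n28768 = n28768 := d41_1 D28768 (iv D28768) F85395
theorem F122148 : act 7 n28768 = n19827 := d43_1 D28768 (iv D19827) (iv F85396)
theorem F122149 : act 8 n28768 = n19802 := d44_1 D28768 (iv D19802) (iv D13628) (iv F59841) D19779
def n28769 : Q := act 6 n19780
theorem D28769 : act 6 n19780 = n28769 := rfl
theorem F122150 : act 1 n28769 = n19785 := d13_1 D28769 (iv D19785) (iv F85397)
theorem F122151 : act 4 n28769 = n19781 := d31_1 D28769 (iv D19781) D19780
theorem F122152 : act 9 n28769 = n19803 := d41_2 (iv F85400) D28769 (iv D19803)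
def n28770 : Q := act 8 n19780
theorem D28770 : act 8 n19780 = n28770 := rfl
theorem F122153 : act 1 n28770 = n19786 := d15_1 D28770 (iv D19786) (iv F85397)
theorem F122154 : act 4 n28770 = n19782 := d33_1 D28770 (iv D19782) D19780
theorem F122155 : act 5 n28770 = n20831 := d37_1 D28770 (iv D20831) (iv F85398)
theorem F122156 : act 7 n28770 = n19829 := d42_1 D28770 (iv D19829) (iv F85399)
def n28771 : Q := act 7 n19781
theorem D28771 : act 7 n19781 = n28771 := rfl
theorem F122157 : act 1 n28771 = n19787 := d14_1 D28771 (iv D19787) (iv F85401)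
theorem F122158 : act 3 n28771 = n19784 := d27_1 D28771 (iv D19784) (iv F85402)
theorem F122159 : act 5 n28771 = n28771 := d36_1 D28771 (iv D28771) F85403
theorem F122160 : act 6 n28771 = n19830 := d39_1 D28771 (iv D19830) (iv D13646) (iv F59844) D19781
theorem F122161 : act 9 n28771 = n19805 := d43_2 (iv F85404) D28771 (iv D19805)
def n28772 : Q := act 8 n19781
theorem D28772 : act 8 n19781 = n28772 := rfl
theorem F122162 : act 1 n28772 = n19788 := d15_1 D28772 (iv D19788) (iv F85401)
theorem F122163 : act 3 n28772 = n28772 := d28_1 D28772 (iv D28772) F85402 F59854 (iv F85402)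
theorem F122164 : act 5 n28772 = n28772 := d37_1 D28772 (iv D28772) F85403
theorem F122165 : act 6 n28772 = n19782 := d40_1 D28772 (iv D19782) D19781
def n28773 : Q := act 9 n19782
theorem D28773 : act 9 n19782 = n28773 := rfl
theorem F122166 : act 1 n28773 = n19789 := d16_1 D28773 (iv D19789) (iv F85405)
theorem F122167 : act 3 n28773 = n28773 := d29_1 D28773 (iv D28773) F85406
theorem F122168 : act 5 n28773 = n19783 := d38_1 D28773 (iv D19783) (iv F85407)
theorem F122169 : act 7 n28773 = n19832 := d43_1 D28773 (iv D19832) (iv F85408)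
theorem F122170 : act 8 n28773 = n19807 := d44_1 D28773 (iv D19807) (iv D13631) (iv F59845) D19782
def n28774 : Q := act 5 n19785
theorem D28774 : act 5 n19785 = n28774 := rfl
theorem F122171 : act 0 n28774 = n28774 := d4_1 D28774 (iv D28774) F85421
theorem F122172 : act 2 n28774 = n20001 := d19_1 D28774 (iv D20001) (iv F85422)
theorem F122173 : act 4 n28774 = n28774 := d30_1 D28774 (iv D28774) F85423 F59864 (iv F85423)
theorem F122174 : act 6 n28774 = n20835 := d35_2 D19785 D28774 (iv D20835) (iv D14324) (iv F59858)
theorem F122175 : act 9 n28774 = n19808 := d38_2 (iv F85424) D28774 (iv D19808)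
def n28775 : Q := act 7 n19785
theorem D28775 : act 7 n19785 = n28775 := rfl
theorem F122176 : act 0 n28775 = n28775 := d6_1 D28775 (iv D28775) F85421
theorem F122177 : act 2 n28775 = n20002 := d21_1 D28775 (iv D20002) (iv F85422)
theorem F122178 : act 4 n28775 = n19787 := d32_1 D28775 (iv D19787) (iv F85423)
theorem F122179 : act 6 n28775 = n19834 := d39_1 D28775 (iv D19834) (iv D13650) (iv F59859) D19785
theorem F122180 : act 9 n28775 = n19809 := d43_2 (iv F85424) D28775 (iv D19809)
def n28776 : Q := act 8 n19785
theorem D28776 : act 8 n19785 = n28776 := rfl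
theorem F122181 : act 0 n28776 = n28776 := d7_1 D28776 (iv D28776) F85421
theorem F122182 : act 2 n28776 = n20003 := d22_1 D28776 (iv D20003) (iv F85422)
theorem F122183 : act 4 n28776 = n19788 := d33_1 D28776 (iv D19788) (iv F85423)
theorem F122184 : act 6 n28776 = n19786 := d40_1 D28776 (iv D19786) D19785
def n28777 : Q := act 3 n19786
theorem D28777 : act 3 n19786 = n28777 := rfl
theorem F122185 : act 0 n28777 = n28777 := d2_1 D28777 (iv D28777) F85425
theorem F122186 : act 4 n28777 = n28777 := d24_2 (iv F85427) D28777 (iv D28777) F85427 F59868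
theorem F122187 : act 5 n28777 = n20838 := d25_2 (iv F85428) D28777 (iv D20838)
theorem F122188 : act 7 n28777 = n19836 := d27_2 (iv F85429) D28777 (iv D19836)
def n28778 : Q := act 9 n19786
theorem D28778 : act 9 n19786 = n28778 := rfl
theorem F122189 : act 0 n28778 = n28778 := d8_1 D28778 (iv D28778) F85425
theorem F122190 : act 2 n28778 = n20005 := d23_1 D28778 (iv D20005) (iv F85426)
theorem F122191 : act 4 n28778 = n19789 := d34_1 D28778 (iv D19789) (iv F85427)
theorem F122192 : act 5 n28778 = n20839 := d38_1 D28778 (iv D20839) (iv F85428)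
theorem F122193 : act 7 n28778 = n19837 := d43_1 D28778 (iv D19837) (iv F85429)
theorem F122194 : act 8 n28778 = n19812 := d44_1 D28778 (iv D19812) (iv D13635) (iv F59860) D19786
def n28779 : Q := act 8 n19787
theorem D28779 : act 8 n19787 = n28779 := rfl
theorem F122195 : act 0 n28779 = n28779 := d7_1 D28779 (iv D28779) F85430
theorem F122196 : act 2 n28779 = n20006 := d22_1 D28779 (iv D20006) (iv F85431)
theorem F122197 : act 3 n28779 = n28779 := d28_1 D28779 (iv D28779) F85432 F59882 (iv F85432)
theorem F122198 : act 5 n28779 = n28779 := d37_1 D28779 (iv D28779) F85433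
theorem F122199 : act 6 n28779 = n19838 := d40_1 D28779 (iv D19838) (iv F85434)
theorem F122200 : act 7 n28779 = n19788 := d42_1 D28779 (iv D19788) D19787
def n28780 : Q := act 9 n19788
theorem D28780 : act 9 n19788 = n28780 := rfl
theorem F122201 : act 0 n28780 = n28780 := d8_1 D28780 (iv D28780) F85436
theorem F122202 : act 2 n28780 = n20007 := d23_1 D28780 (iv D20007) (iv F85437)
theorem F122203 : act 3 n28780 = n28780 := d29_1 D28780 (iv D28780) F85438
theorem F122204 : act 5 n28780 = n28780 := d38_1 D28780 (iv D28780) F85439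
theorem F122205 : act 6 n28780 = n19789 := d41_1 D28780 (iv D19789) (iv F85440)
theorem F122206 : act 8 n28780 = n19814 := d44_1 D28780 (iv D19814) (iv D13637) (iv F59865) D19788
def n28781 : Q := act 5 n19790
theorem D28781 : act 5 n19790 = n28781 := rfl
theorem F122207 : act 0 n28781 = n20008 := d4_1 D28781 (iv D20008) (iv F85447)
theorem F122208 : act 1 n28781 = n19791 := d12_1 D28781 (iv D19791) D19790
theorem F122209 : act 2 n28781 = n28781 := d19_1 D28781 (iv D28781) F85448
theorem F122210 : act 3 n28781 = n28781 := d25_1 D28781 (iv D28781) F85449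
theorem F122211 : act 7 n28781 = n19840 := d36_2 (iv F85452) D28781 (iv D19840)
def n28782 : Q := act 8 n19790
theorem D28782 : act 8 n19790 = n28782 := rfl
theorem F122212 : act 0 n28782 = n20009 := d7_1 D28782 (iv D20009) (iv F85447)
theorem F122213 : act 1 n28782 = n19792 := d15_1 D28782 (iv D19792) D19790
theorem F122214 : act 2 n28782 = n28782 := d22_1 D28782 (iv D28782) F85448
theorem F122215 : act 4 n28782 = n20843 := d33_1 D28782 (iv D20843) (iv F85450)
theorem F122216 : act 6 n28782 = n28782 := d40_1 D28782 (iv D28782) F85451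
theorem F122217 : act 7 n28782 = n19841 := d42_1 D28782 (iv D19841) (iv F85452)
def n28783 : Q := act 4 n19791
theorem D28783 : act 4 n19791 = n28783 := rfl
theorem F122218 : act 0 n28783 = n19798 := d3_1 D28783 (iv D19798) (iv F85453)
theorem F122219 : act 2 n28783 = n19793 := d18_1 D28783 (iv D19793) (iv F85454)
theorem F122220 : act 5 n28783 = n20844 := d30_2 D19791 D28783 (iv D20844) (iv D14330) (iv F59886)
theorem F122221 : act 7 n28783 = n19842 := d32_2 (iv F85456) D28783 (iv D19842)
def n28784 : Q := act 6 n19791
theorem D28784 : act 6 n19791 = n28784 := rfl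
theorem F122222 : act 0 n28784 = n19799 := d5_1 D28784 (iv D19799) (iv F85453)
theorem F122223 : act 2 n28784 = n19794 := d20_1 D28784 (iv D19794) (iv F85454)
theorem F122224 : act 3 n28784 = n28784 := d26_1 D28784 (iv D28784) F85455
theorem F122225 : act 5 n28784 = n28784 := d35_1 D28784 (iv D28784) (iv D19791) F59887 D19791
def n28785 : Q := act 8 n19791
theorem D28785 : act 8 n19791 = n28785 := rfl
theorem F122226 : act 0 n28785 = n19800 := d7_1 D28785 (iv D19800) (iv F85453)
theorem F122227 : act 2 n28785 = n19795 := d22_1 D28785 (iv D19795) (iv F85454)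
theorem F122228 : act 5 n28785 = n19792 := d37_1 D28785 (iv D19792) D19791
theorem F122229 : act 7 n28785 = n19844 := d42_1 D28785 (iv D19844) (iv F85456)
def n28786 : Q := act 3 n19792
theorem D28786 : act 3 n19792 = n28786 := rfl
theorem F122230 : act 0 n28786 = n19801 := d2_1 D28786 (iv D19801) (iv F85457)
theorem F122231 : act 6 n28786 = n28786 := d26_2 F85460 D28786 (iv D28786)
theorem F122232 : act 7 n28786 = n19845 := d27_2 (iv F85461) D28786 (iv D19845)
theorem F122233 : act 8 n28786 = n28786 := d28_2 D19792 D28786 (iv D28786) (iv D19792) F59885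
def n28787 : Q := act 9 n19792
theorem D28787 : act 9 n19792 = n28787 := rfl
theorem F122234 : act 0 n28787 = n19802 := d8_1 D28787 (iv D19802) (iv F85457)
theorem F122235 : act 2 n28787 = n19796 := d23_1 D28787 (iv D19796) (iv F85458)
theorem F122236 : act 4 n28787 = n20848 := d34_1 D28787 (iv D20848) (iv F85459)
theorem F122237 : act 6 n28787 = n28787 := d41_1 D28787 (iv D28787) F85460
theorem F122238 : act 7 n28787 = n19846 := d43_1 D28787 (iv D19846) (iv F85461)
def n28788 : Q := act 6 n19793
theorem D28788 : act 6 n19793 = n28788 := rfl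
theorem F122239 : act 0 n28788 = n19803 := d5_1 D28788 (iv D19803) (iv F85462)
theorem F122240 : act 1 n28788 = n28788 := d13_1 D28788 (iv D28788) F85463
theorem F122241 : act 4 n28788 = n19794 := d31_1 D28788 (iv D19794) D19793
def n28789 : Q := act 8 n19793
theorem D28789 : act 8 n19793 = n28789 := rfl
theorem F122242 : act 0 n28789 = n19804 := d7_1 D28789 (iv D19804) (iv F85462)
theorem F122243 : act 1 n28789 = n28789 := d15_1 D28789 (iv D28789) F85463
theorem F122244 : act 4 n28789 = n19795 := d33_1 D28789 (iv D19795) D19793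
theorem F122245 : act 5 n28789 = n20850 := d37_1 D28789 (iv D20850) (iv F85464)
theorem F122246 : act 7 n28789 = n19848 := d42_1 D28789 (iv D19848) (iv F85465)
def n28790 : Q := act 7 n19794
theorem D28790 : act 7 n19794 = n28790 := rfl
theorem F122249 : act 3 n28790 = n19797 := d27_1 D28790 (iv D19797) (iv F85468)
theorem F122251 : act 6 n28790 = n19849 := d39_1 D28790 (iv D19849) (iv D13659) (iv F59892) D19794
def n28791 : Q := act 8 n19794
theorem D28791 : act 8 n19794 = n28791 := rfl
theorem F122255 : act 6 n28791 = n19795 := d40_1 D28791 (iv D19795) D19794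
def n28792 : Q := act 9 n19795
theorem D28792 : act 9 n19795 = n28792 := rfl
theorem F122256 : act 0 n28792 = n19807 := d8_1 D28792 (iv D19807) (iv F85470)
theorem F122257 : act 1 n28792 = n28792 := d16_1 D28792 (iv D28792) F85471
theorem F122258 : act 5 n28792 = n19796 := d38_1 D28792 (iv D19796) (iv F85472)
theorem F122259 : act 7 n28792 = n19851 := d43_1 D28792 (iv D19851) (iv F85473)
def n28793 : Q := act 3 n19798
theorem D28793 : act 3 n19798 = n28793 := rfl
theorem F122260 : act 1 n28793 = n20020 := d10_1 D28793 (iv D20020) (iv F85484)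
theorem F122261 : act 4 n28793 = n28793 := d24_2 D19798 D28793 (iv D28793) (iv D19798) F59904
theorem F122262 : act 5 n28793 = n20854 := d25_2 (iv F85486) D28793 (iv D20854)
theorem F122263 : act 7 n28793 = n19852 := d27_2 (iv F85487) D28793 (iv D19852)
def n28794 : Q := act 6 n19798
theorem D28794 : act 6 n19798 = n28794 := rfl
theorem F122264 : act 1 n28794 = n20021 := d13_1 D28794 (iv D20021) (iv F85484)
theorem F122265 : act 2 n28794 = n19803 := d20_1 D28794 (iv D19803) (iv F85485)
theorem F122266 : act 4 n28794 = n19799 := d31_1 D28794 (iv D19799) D19798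
def n28795 : Q := act 8 n19798
theorem D28795 : act 8 n19798 = n28795 := rfl
theorem F122267 : act 1 n28795 = n20022 := d15_1 D28795 (iv D20022) (iv F85484)
theorem F122268 : act 2 n28795 = n19804 := d22_1 D28795 (iv D19804) (iv F85485)
theorem F122269 : act 4 n28795 = n19800 := d33_1 D28795 (iv D19800) D19798
theorem F122270 : act 5 n28795 = n20856 := d37_1 D28795 (iv D20856) (iv F85486)
theorem F122271 : act 7 n28795 = n19854 := d42_1 D28795 (iv D19854) (iv F85487)
def n28796 : Q := act 7 n19799
theorem D28796 : act 7 n19799 = n28796 := rfl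
theorem F122272 : act 1 n28796 = n20023 := d14_1 D28796 (iv D20023) (iv F85488)
theorem F122273 : act 2 n28796 = n19805 := d21_1 D28796 (iv D19805) (iv F85489)
theorem F122274 : act 3 n28796 = n28796 := d27_1 D28796 (iv D28796) F85490
theorem F122275 : act 5 n28796 = n28796 := d36_1 D28796 (iv D28796) F85491
theorem F122276 : act 6 n28796 = n19855 := d39_1 D28796 (iv D19855) (iv D13664) (iv F59905) D19799
def n28797 : Q := act 8 n19799
theorem D28797 : act 8 n19799 = n28797 := rfl
theorem F122277 : act 1 n28797 = n20024 := d15_1 D28797 (iv D20024) (iv F85488)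
theorem F122278 : act 2 n28797 = n19806 := d22_1 D28797 (iv D19806) (iv F85489)
theorem F122279 : act 5 n28797 = n28797 := d37_1 D28797 (iv D28797) F85491
theorem F122280 : act 6 n28797 = n19800 := d40_1 D28797 (iv D19800) D19799
def n28798 : Q := act 3 n19800
theorem D28798 : act 3 n19800 = n28798 := rfl
theorem F122281 : act 1 n28798 = n20025 := d10_1 D28798 (iv D20025) (iv F85492)
theorem F122282 : act 5 n28798 = n19801 := d25_2 (iv F85494) D28798 (iv D19801)
theorem F122283 : act 7 n28798 = n19857 := d27_2 (iv F85495) D28798 (iv D19857)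
theorem F122284 : act 8 n28798 = n28798 := d28_2 D19800 D28798 (iv D28798) (iv D19800) F59904
def n28799 : Q := act 9 n19800
theorem D28799 : act 9 n19800 = n28799 := rfl
theorem F122285 : act 1 n28799 = n20026 := d16_1 D28799 (iv D20026) (iv F85492)
theorem F122286 : act 2 n28799 = n19807 := d23_1 D28799 (iv D19807) (iv F85493)
theorem F122287 : act 5 n28799 = n19802 := d38_1 D28799 (iv D19802) (iv F85494)
theorem F122288 : act 7 n28799 = n19858 := d43_1 D28799 (iv D19858) (iv F85495)
def n28800 : Q := act 4 n19801
theorem D28800 : act 4 n19801 = n28800 := rfl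
theorem F122289 : act 1 n28800 = n20027 := d11_1 D28800 (iv D20027) (iv F85496)
theorem F122290 : act 3 n28800 = n20861 := d24_1 D28800 (iv D20861) (iv D14340) (iv F59908) D19801
theorem F122291 : act 6 n28800 = n28800 := d31_2 F85497 D28800 (iv D28800)
theorem F122292 : act 7 n28800 = n19859 := d32_2 (iv F85498) D28800 (iv D19859)
theorem F122293 : act 8 n28800 = n28800 := d33_2 F85499 D28800 (iv D28800)
def n28801 : Q := act 9 n19801
theorem D28801 : act 9 n19801 = n28801 := rfl
theorem F122294 : act 1 n28801 = n20028 := d16_1 D28801 (iv D20028) (iv F85496)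
theorem F122295 : act 3 n28801 = n19802 := d29_1 D28801 (iv D19802) D19801
theorem F122296 : act 6 n28801 = n28801 := d41_1 D28801 (iv D28801) F85497
theorem F122297 : act 7 n28801 = n19860 := d43_1 D28801 (iv D19860) (iv F85498)
def n28802 : Q := act 5 n19803
theorem D28802 : act 5 n19803 = n28802 := rfl
theorem F122298 : act 1 n28802 = n19808 := d12_1 D28802 (iv D19808) (iv F85505)
theorem F122299 : act 4 n28802 = n28802 := d30_1 D28802 (iv D28802) F85506 F59916 (iv F85506)
theorem F122300 : act 6 n28802 = n20863 := d35_2 D19803 D28802 (iv D20863) (iv D14342) (iv F59912)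
def n28803 : Q := act 7 n19803
theorem D28803 : act 7 n19803 = n28803 := rfl
theorem F122301 : act 1 n28803 = n19809 := d14_1 D28803 (iv D19809) (iv F85505)
theorem F122302 : act 4 n28803 = n19805 := d32_1 D28803 (iv D19805) (iv F85506)
theorem F122303 : act 6 n28803 = n19862 := d39_1 D28803 (iv D19862) (iv D13668) (iv F59913) D19803
def n28804 : Q := act 8 n19803
theorem D28804 : act 8 n19803 = n28804 := rfl
theorem F122304 : act 1 n28804 = n19810 := d15_1 D28804 (iv D19810) (iv F85505)
theorem F122305 : act 4 n28804 = n19806 := d33_1 D28804 (iv D19806) (iv F85506)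
theorem F122306 : act 6 n28804 = n19804 := d40_1 D28804 (iv D19804) D19803
def n28805 : Q := act 3 n19804
theorem D28805 : act 3 n19804 = n28805 := rfl
theorem F122307 : act 1 n28805 = n19811 := d10_1 D28805 (iv D19811) (iv F85507)
theorem F122308 : act 5 n28805 = n20866 := d25_2 (iv F85509) D28805 (iv D20866)
theorem F122309 : act 7 n28805 = n19864 := d27_2 (iv F85510) D28805 (iv D19864)
def n28806 : Q := act 9 n19804
theorem D28806 : act 9 n19804 = n28806 := rfl
theorem F122310 : act 1 n28806 = n19812 := d16_1 D28806 (iv D19812) (iv F85507)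
theorem F122311 : act 4 n28806 = n19807 := d34_1 D28806 (iv D19807) (iv F85508)
theorem F122312 : act 5 n28806 = n20867 := d38_1 D28806 (iv D20867) (iv F85509)
theorem F122313 : act 7 n28806 = n19865 := d43_1 D28806 (iv D19865) (iv F85510)
def n28807 : Q := act 8 n19805
theorem D28807 : act 8 n19805 = n28807 := rfl
theorem F122316 : act 6 n28807 = n19866 := d40_1 D28807 (iv D19866) (iv F85514)
def n28808 : Q := act 9 n19806
theorem D28808 : act 9 n19806 = n28808 := rfl
theorem F122318 : act 1 n28808 = n19814 := d16_1 D28808 (iv D19814) (iv F85515)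
theorem F122319 : act 5 n28808 = n28808 := d38_1 D28808 (iv D28808) F85516
theorem F122320 : act 6 n28808 = n19807 := d41_1 D28808 (iv D19807) (iv F85517)
def n28809 : Q := act 7 n19808
theorem D28809 : act 7 n19808 = n28809 := rfl
theorem F122322 : act 2 n28809 = n20036 := d21_1 D28809 (iv D20036) (iv F85522)
theorem F122324 : act 5 n28809 = n19809 := d36_1 D28809 (iv D19809) D19808
def n28810 : Q := act 8 n19808
theorem D28810 : act 8 n19808 = n28810 := rfl
theorem F122326 : act 2 n28810 = n20037 := d22_1 D28810 (iv D20037) (iv F85522)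
theorem F122328 : act 5 n28810 = n19810 := d37_1 D28810 (iv D19810) D19808
theorem F122329 : act 6 n28810 = n20871 := d40_1 D28810 (iv D20871) (iv F85524)
def n28811 : Q := act 8 n19809
theorem D28811 : act 8 n19809 = n28811 := rfl
theorem F122332 : act 4 n28811 = n19813 := d33_1 D28811 (iv D19813) (iv F85527)
theorem F122333 : act 6 n28811 = n19870 := d40_1 D28811 (iv D19870) (iv F85528)
def n28812 : Q := act 3 n19810
theorem D28812 : act 3 n19810 = n28812 := rfl
theorem F122336 : act 6 n28812 = n19811 := d26_2 (iv F85532) D28812 (iv D19811)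
def n28813 : Q := act 9 n19810
theorem D28813 : act 9 n19810 = n28813 := rfl
theorem F122337 : act 0 n28813 = n28813 := d8_1 D28813 (iv D28813) F85529
theorem F122338 : act 2 n28813 = n20040 := d23_1 D28813 (iv D20040) (iv F85530)
theorem F122339 : act 4 n28813 = n19814 := d34_1 D28813 (iv D19814) (iv F85531)
theorem F122340 : act 6 n28813 = n19812 := d41_1 D28813 (iv D19812) (iv F85532)
def n28814 : Q := act 2 n19811
theorem D28814 : act 2 n19811 = n28814 := rfl
theorem F122344 : act 7 n28814 = n19873 := d21_2 (iv F85535) D28814 (iv D19873)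
def n28815 : Q := act 9 n19811
theorem D28815 : act 9 n19811 = n28815 := rfl
theorem F122345 : act 0 n28815 = n28815 := d8_1 D28815 (iv D28815) F85533
theorem F122346 : act 3 n28815 = n19812 := d29_1 D28815 (iv D19812) D19811
theorem F122347 : act 5 n28815 = n20876 := d38_1 D28815 (iv D20876) (iv F85534)
theorem F122348 : act 7 n28815 = n19874 := d43_1 D28815 (iv D19874) (iv F85535)
def n28816 : Q := act 9 n19813
theorem D28816 : act 9 n19813 = n28816 := rfl
theorem F122349 : act 0 n28816 = n28816 := d8_1 D28816 (iv D28816) F85541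
theorem F122350 : act 2 n28816 = n20043 := d23_1 D28816 (iv D20043) (iv F85542)
theorem F122351 : act 5 n28816 = n28816 := d38_1 D28816 (iv D28816) F85543
theorem F122352 : act 6 n28816 = n19875 := d41_1 D28816 (iv D19875) (iv F85544)
theorem F122353 : act 7 n28816 = n19814 := d43_1 D28816 (iv D19814) (iv F85545)
def n28817 : Q := act 5 n19815
theorem D28817 : act 5 n19815 = n28817 := rfl
theorem F122354 : act 0 n28817 = n20069 := d4_1 D28817 (iv D20069) (iv F85550)
theorem F122358 : act 9 n28817 = n19840 := d38_2 (iv F85555) D28817 (iv D19840)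
def n28818 : Q := act 8 n19815
theorem D28818 : act 8 n19815 = n28818 := rfl
theorem F122359 : act 0 n28818 = n20070 := d7_1 D28818 (iv D20070) (iv F85550)
theorem F122362 : act 4 n28818 = n20904 := d33_1 D28818 (iv D20904) (iv F85553)
def n28819 : Q := act 4 n19816
theorem D28819 : act 4 n19816 = n28819 := rfl
theorem F122364 : act 0 n28819 = n19823 := d3_1 D28819 (iv D19823) (iv F85556)
theorem F122366 : act 5 n28819 = n20905 := d30_2 D19816 D28819 (iv D20905) (iv D14371) (iv F59951)
theorem F122367 : act 9 n28819 = n19842 := d34_2 (iv F85559) D28819 (iv D19842)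
def n28820 : Q := act 6 n19816
theorem D28820 : act 6 n19816 = n28820 := rfl
theorem F122368 : act 0 n28820 = n19824 := d5_1 D28820 (iv D19824) (iv F85556)
theorem F122372 : act 9 n28820 = n19843 := d41_2 (iv F85559) D28820 (iv D19843)
def n28821 : Q := act 8 n19816
theorem D28821 : act 8 n19816 = n28821 := rfl
theorem F122373 : act 0 n28821 = n19825 := d7_1 D28821 (iv D19825) (iv F85556)
theorem F122375 : act 5 n28821 = n19817 := d37_1 D28821 (iv D19817) D19816
def n28822 : Q := act 3 n19817
theorem D28822 : act 3 n19817 = n28822 := rfl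
theorem F122376 : act 0 n28822 = n19826 := d2_1 D28822 (iv D19826) (iv F85560)
def n28823 : Q := act 9 n19817
theorem D28823 : act 9 n19817 = n28823 := rfl
theorem F122380 : act 0 n28823 = n19827 := d8_1 D28823 (iv D19827) (iv F85560)
theorem F122384 : act 8 n28823 = n19846 := d44_1 D28823 (iv D19846) (iv D13657) (iv F59953) D19817
def n28824 : Q := act 6 n19818
theorem D28824 : act 6 n19818 = n28824 := rfl
theorem F122385 : act 0 n28824 = n19828 := d5_1 D28824 (iv D19828) (iv F85564)
theorem F122388 : act 9 n28824 = n19847 := d41_2 (iv F85567) D28824 (iv D19847)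
def n28825 : Q := act 8 n19818
theorem D28825 : act 8 n19818 = n28825 := rfl
theorem F122389 : act 0 n28825 = n19829 := d7_1 D28825 (iv D19829) (iv F85564)
theorem F122392 : act 5 n28825 = n20911 := d37_1 D28825 (iv D20911) (iv F85566)
def n28826 : Q := act 7 n19819
theorem D28826 : act 7 n19819 = n28826 := rfl
theorem F122393 : act 0 n28826 = n19830 := d6_1 D28826 (iv D19830) (iv F85568)
theorem F122397 : act 9 n28826 = n19849 := d43_2 (iv F85572) D28826 (iv D19849)
def n28827 : Q := act 8 n19819
theorem D28827 : act 8 n19819 = n28827 := rfl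
theorem F122398 : act 0 n28827 = n19831 := d7_1 D28827 (iv D19831) (iv F85568)
theorem F122402 : act 6 n28827 = n19820 := d40_1 D28827 (iv D19820) D19819
def n28828 : Q := act 9 n19820
theorem D28828 : act 9 n19820 = n28828 := rfl
theorem F122403 : act 0 n28828 = n19832 := d8_1 D28828 (iv D19832) (iv F85573)
theorem F122407 : act 8 n28828 = n19851 := d44_1 D28828 (iv D19851) (iv D13660) (iv F59957) D19820
def n28829 : Q := act 3 n19823
theorem D28829 : act 3 n19823 = n28829 := rfl
theorem F122408 : act 1 n28829 = n20081 := d10_1 D28829 (iv D20081) (iv F85589)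
theorem F122409 : act 4 n28829 = n28829 := d24_2 D19823 D28829 (iv D28829) (iv D19823) F59971
theorem F122410 : act 5 n28829 = n20915 := d25_2 (iv F85591) D28829 (iv D20915)
theorem F122411 : act 9 n28829 = n19852 := d29_2 (iv F85592) D28829 (iv D19852)
def n28830 : Q := act 6 n19823
theorem D28830 : act 6 n19823 = n28830 := rfl
theorem F122412 : act 1 n28830 = n20082 := d13_1 D28830 (iv D20082) (iv F85589)
theorem F122413 : act 2 n28830 = n19828 := d20_1 D28830 (iv D19828) (iv F85590)
theorem F122414 : act 4 n28830 = n19824 := d31_1 D28830 (iv D19824) D19823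
theorem F122415 : act 9 n28830 = n19853 := d41_2 (iv F85592) D28830 (iv D19853)
def n28831 : Q := act 8 n19823
theorem D28831 : act 8 n19823 = n28831 := rfl
theorem F122416 : act 1 n28831 = n20083 := d15_1 D28831 (iv D20083) (iv F85589)
theorem F122417 : act 2 n28831 = n19829 := d22_1 D28831 (iv D19829) (iv F85590)
theorem F122418 : act 4 n28831 = n19825 := d33_1 D28831 (iv D19825) D19823
theorem F122419 : act 5 n28831 = n20917 := d37_1 D28831 (iv D20917) (iv F85591)
def n28832 : Q := act 7 n19824
theorem D28832 : act 7 n19824 = n28832 := rfl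
theorem F122420 : act 1 n28832 = n20084 := d14_1 D28832 (iv D20084) (iv F85593)
theorem F122421 : act 2 n28832 = n19830 := d21_1 D28832 (iv D19830) (iv F85594)
theorem F122422 : act 3 n28832 = n28832 := d27_1 D28832 (iv D28832) F85595
theorem F122423 : act 5 n28832 = n19891 := d36_1 D28832 (iv D19891) (iv F85596)
theorem F122424 : act 9 n28832 = n19855 := d43_2 (iv F85597) D28832 (iv D19855)
def n28833 : Q := act 8 n19824
theorem D28833 : act 8 n19824 = n28833 := rfl
theorem F122425 : act 1 n28833 = n20085 := d15_1 D28833 (iv D20085) (iv F85593)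
theorem F122426 : act 2 n28833 = n19831 := d22_1 D28833 (iv D19831) (iv F85594)
theorem F122427 : act 5 n28833 = n19892 := d37_1 D28833 (iv D19892) (iv F85596)
theorem F122428 : act 6 n28833 = n19825 := d40_1 D28833 (iv D19825) D19824
def n28834 : Q := act 3 n19825
theorem D28834 : act 3 n19825 = n28834 := rfl
theorem F122429 : act 1 n28834 = n20086 := d10_1 D28834 (iv D20086) (iv F85598)
theorem F122430 : act 2 n28834 = n28834 := d17_1 D28834 (iv D28834) F85599 F59985 (iv F85599)
theorem F122431 : act 5 n28834 = n19826 := d25_2 (iv F85600) D28834 (iv D19826)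
theorem F122432 : act 8 n28834 = n28834 := d28_2 D19825 D28834 (iv D28834) (iv D19825) F59971
def n28835 : Q := act 9 n19825
theorem D28835 : act 9 n19825 = n28835 := rfl
theorem F122433 : act 1 n28835 = n20087 := d16_1 D28835 (iv D20087) (iv F85598)
theorem F122434 : act 2 n28835 = n19832 := d23_1 D28835 (iv D19832) (iv F85599)
theorem F122435 : act 5 n28835 = n19827 := d38_1 D28835 (iv D19827) (iv F85600)
theorem F122436 : act 8 n28835 = n19858 := d44_1 D28835 (iv D19858) (iv D13665) (iv F59972) D19825
def n28836 : Q := act 4 n19826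
theorem D28836 : act 4 n19826 = n28836 := rfl
theorem F122437 : act 1 n28836 = n20088 := d11_1 D28836 (iv D20088) (iv F85601)
theorem F122439 : act 3 n28836 = n20922 := d24_1 D28836 (iv D20922) (iv D14381) (iv F59975) D19826
def n28837 : Q := act 9 n19826
theorem D28837 : act 9 n19826 = n28837 := rfl
theorem F122442 : act 1 n28837 = n20089 := d16_1 D28837 (iv D20089) (iv F85601)
theorem F122443 : act 2 n28837 = n28837 := d23_1 D28837 (iv D28837) F85602
theorem F122444 : act 3 n28837 = n19827 := d29_1 D28837 (iv D19827) D19826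
theorem F122445 : act 6 n28837 = n19896 := d41_1 D28837 (iv D19896) (iv F85603)
def n28838 : Q := act 5 n19828
theorem D28838 : act 5 n19828 = n28838 := rfl
theorem F122446 : act 1 n28838 = n19833 := d12_1 D28838 (iv D19833) (iv F85610)
theorem F122447 : act 4 n28838 = n19897 := d30_1 D28838 (iv D19897) F60172 (iv F59982) (iv F85611)
theorem F122448 : act 6 n28838 = n20924 := d35_2 D19828 D28838 (iv D20924) (iv D14383) (iv F59978)
theorem F122449 : act 9 n28838 = n19861 := d38_2 (iv F85612) D28838 (iv D19861)
def n28839 : Q := act 7 n19828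
theorem D28839 : act 7 n19828 = n28839 := rfl
theorem F122450 : act 1 n28839 = n19834 := d14_1 D28839 (iv D19834) (iv F85610)
theorem F122451 : act 4 n28839 = n19830 := d32_1 D28839 (iv D19830) (iv F85611)
theorem F122452 : act 9 n28839 = n19862 := d43_2 (iv F85612) D28839 (iv D19862)
def n28840 : Q := act 8 n19828
theorem D28840 : act 8 n19828 = n28840 := rfl
theorem F122453 : act 1 n28840 = n19835 := d15_1 D28840 (iv D19835) (iv F85610)
theorem F122454 : act 4 n28840 = n19831 := d33_1 D28840 (iv D19831) (iv F85611)
theorem F122455 : act 6 n28840 = n19829 := d40_1 D28840 (iv D19829) D19828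
def n28841 : Q := act 3 n19829
theorem D28841 : act 3 n19829 = n28841 := rfl
theorem F122456 : act 1 n28841 = n19836 := d10_1 D28841 (iv D19836) (iv F85613)
theorem F122457 : act 4 n28841 = n28841 := d24_2 (iv F85614) D28841 (iv D28841) F85614 F59985
theorem F122458 : act 5 n28841 = n20927 := d25_2 (iv F85615) D28841 (iv D20927)
def n28842 : Q := act 9 n19829
theorem D28842 : act 9 n19829 = n28842 := rfl
theorem F122459 : act 1 n28842 = n19837 := d16_1 D28842 (iv D19837) (iv F85613)
theorem F122460 : act 4 n28842 = n19832 := d34_1 D28842 (iv D19832) (iv F85614)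
theorem F122461 : act 5 n28842 = n20928 := d38_1 D28842 (iv D20928) (iv F85615)
theorem F122462 : act 8 n28842 = n19865 := d44_1 D28842 (iv D19865) (iv D13669) (iv F59979) D19829
def n28843 : Q := act 8 n19830
theorem D28843 : act 8 n19830 = n28843 := rfl
theorem F122463 : act 1 n28843 = n19838 := d15_1 D28843 (iv D19838) (iv F85616)
theorem F122464 : act 3 n28843 = n28843 := d28_1 D28843 (iv D28843) F85617 F59995 (iv F85617)
theorem F122465 : act 5 n28843 = n19902 := d37_1 D28843 (iv D19902) (iv F85618)
theorem F122466 : act 7 n28843 = n19831 := d42_1 D28843 (iv D19831) D19830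
def n28844 : Q := act 9 n19831
theorem D28844 : act 9 n19831 = n28844 := rfl
theorem F122467 : act 1 n28844 = n19839 := d16_1 D28844 (iv D19839) (iv F85620)
theorem F122468 : act 3 n28844 = n28844 := d29_1 D28844 (iv D28844) F85621
theorem F122469 : act 5 n28844 = n19903 := d38_1 D28844 (iv D19903) (iv F85622)
theorem F122470 : act 6 n28844 = n19832 := d41_1 D28844 (iv D19832) (iv F85623)
theorem F122471 : act 8 n28844 = n19867 := d44_1 D28844 (iv D19867) (iv D13671) (iv F59983) D19831
def n28845 : Q := act 7 n19833
theorem D28845 : act 7 n19833 = n28845 := rfl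
theorem F122472 : act 0 n28845 = n28845 := d6_1 D28845 (iv D28845) F85628
theorem F122473 : act 2 n28845 = n20097 := d21_1 D28845 (iv D20097) (iv F85629)
theorem F122474 : act 4 n28845 = n19904 := d32_1 D28845 (iv D19904) (iv F85630)
theorem F122475 : act 5 n28845 = n19834 := d36_1 D28845 (iv D19834) D19833
theorem F122476 : act 9 n28845 = n19868 := d43_2 (iv F85632) D28845 (iv D19868)
def n28846 : Q := act 8 n19833
theorem D28846 : act 8 n19833 = n28846 := rfl
theorem F122477 : act 0 n28846 = n28846 := d7_1 D28846 (iv D28846) F85628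
theorem F122478 : act 2 n28846 = n20098 := d22_1 D28846 (iv D20098) (iv F85629)
theorem F122479 : act 4 n28846 = n19905 := d33_1 D28846 (iv D19905) (iv F85630)
theorem F122480 : act 5 n28846 = n19835 := d37_1 D28846 (iv D19835) D19833
theorem F122481 : act 6 n28846 = n20932 := d40_1 D28846 (iv D20932) (iv F85631)
def n28847 : Q := act 8 n19834
theorem D28847 : act 8 n19834 = n28847 := rfl
theorem F122482 : act 0 n28847 = n28847 := d7_1 D28847 (iv D28847) F85633
theorem F122483 : act 2 n28847 = n20099 := d22_1 D28847 (iv D20099) (iv F85634)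
theorem F122484 : act 4 n28847 = n19838 := d33_1 D28847 (iv D19838) (iv F85635)
theorem F122485 : act 7 n28847 = n19835 := d42_1 D28847 (iv D19835) D19834
def n28848 : Q := act 3 n19835
theorem D28848 : act 3 n19835 = n28848 := rfl
theorem F122486 : act 0 n28848 = n28848 := d2_1 D28848 (iv D28848) F85637
theorem F122487 : act 4 n28848 = n28848 := d24_2 (iv F85639) D28848 (iv D28848) F85639 F60012
theorem F122488 : act 6 n28848 = n19836 := d26_2 (iv F85640) D28848 (iv D19836)
def n28849 : Q := act 9 n19835
theorem D28849 : act 9 n19835 = n28849 := rfl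
theorem F122489 : act 0 n28849 = n28849 := d8_1 D28849 (iv D28849) F85637
theorem F122490 : act 2 n28849 = n20101 := d23_1 D28849 (iv D20101) (iv F85638)
theorem F122491 : act 4 n28849 = n19839 := d34_1 D28849 (iv D19839) (iv F85639)
theorem F122492 : act 6 n28849 = n19837 := d41_1 D28849 (iv D19837) (iv F85640)
theorem F122493 : act 8 n28849 = n19872 := d44_1 D28849 (iv D19872) (iv D13675) (iv F60000) D19835
def n28850 : Q := act 2 n19836
theorem D28850 : act 2 n19836 = n28850 := rfl
theorem F122494 : act 0 n28850 = n28850 := d1_1 D28850 (iv D28850) F85641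
theorem F122495 : act 3 n28850 = n20102 := d17_2 D19836 D28850 (iv D20102) (iv D13830) (iv F60002)
theorem F122496 : act 4 n28850 = n28850 := d18_2 F85642 D28850 (iv D28850)
theorem F122497 : act 5 n28850 = n20936 := d19_2 (iv F85643) D28850 (iv D20936)
def n28851 : Q := act 9 n19836
theorem D28851 : act 9 n19836 = n28851 := rfl
theorem F122498 : act 0 n28851 = n28851 := d8_1 D28851 (iv D28851) F85641
theorem F122499 : act 3 n28851 = n19837 := d29_1 D28851 (iv D19837) D19836
theorem F122500 : act 4 n28851 = n28851 := d34_1 D28851 (iv D28851) F85642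
theorem F122501 : act 5 n28851 = n20937 := d38_1 D28851 (iv D20937) (iv F85643)
def n28852 : Q := act 9 n19838
theorem D28852 : act 9 n19838 = n28852 := rfl
theorem F122502 : act 0 n28852 = n28852 := d8_1 D28852 (iv D28852) F85649
theorem F122503 : act 2 n28852 = n20104 := d23_1 D28852 (iv D20104) (iv F85650)
theorem F122504 : act 3 n28852 = n28852 := d29_1 D28852 (iv D28852) F85651
theorem F122505 : act 5 n28852 = n19911 := d38_1 D28852 (iv D19911) (iv F85652)
theorem F122506 : act 7 n28852 = n19839 := d43_1 D28852 (iv D19839) (iv F85653)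
theorem F122507 : act 8 n28852 = n19875 := d44_1 D28852 (iv D19875) (iv D13678) (iv F60009) D19838
def n28853 : Q := act 4 n19840
theorem D28853 : act 4 n19840 = n28853 := rfl
theorem F122508 : act 0 n28853 = n20105 := d3_1 D28853 (iv D20105) (iv F85660)
theorem F122509 : act 1 n28853 = n19842 := d11_1 D28853 (iv D19842) (iv F85661)
theorem F122510 : act 2 n28853 = n28853 := d18_1 D28853 (iv D28853) F85662
theorem F122511 : act 5 n28853 = n20939 := d30_2 D19840 D28853 (iv D20939) (iv D14395) (iv F60023)
def n28854 : Q := act 6 n19840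
theorem D28854 : act 6 n19840 = n28854 := rfl
theorem F122512 : act 0 n28854 = n20106 := d5_1 D28854 (iv D20106) (iv F85660)
theorem F122513 : act 1 n28854 = n19843 := d13_1 D28854 (iv D19843) (iv F85661)
theorem F122514 : act 2 n28854 = n28854 := d20_1 D28854 (iv D28854) F85662
theorem F122515 : act 3 n28854 = n28854 := d26_1 D28854 (iv D28854) F85663
theorem F122516 : act 5 n28854 = n19913 := d35_1 D28854 (iv D19913) (iv D13705) (iv F60024) D19840
def n28855 : Q := act 8 n19840
theorem D28855 : act 8 n19840 = n28855 := rfl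
theorem F122517 : act 0 n28855 = n20107 := d7_1 D28855 (iv D20107) (iv F85660)
theorem F122518 : act 1 n28855 = n19844 := d15_1 D28855 (iv D19844) (iv F85661)
theorem F122519 : act 2 n28855 = n28855 := d22_1 D28855 (iv D28855) F85662
theorem F122520 : act 5 n28855 = n19841 := d37_1 D28855 (iv D19841) D19840
def n28856 : Q := act 3 n19841
theorem D28856 : act 3 n19841 = n28856 := rfl
theorem F122521 : act 0 n28856 = n20108 := d2_1 D28856 (iv D20108) (iv F85664)
theorem F122522 : act 1 n28856 = n19845 := d10_1 D28856 (iv D19845) (iv F85665)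
theorem F122523 : act 6 n28856 = n19915 := d26_2 (iv F85668) D28856 (iv D19915)
theorem F122524 : act 8 n28856 = n28856 := d28_2 D19841 D28856 (iv D28856) (iv D19841) F60022
def n28857 : Q := act 9 n19841
theorem D28857 : act 9 n19841 = n28857 := rfl
theorem F122525 : act 0 n28857 = n20109 := d8_1 D28857 (iv D20109) (iv F85664)
theorem F122526 : act 1 n28857 = n19846 := d16_1 D28857 (iv D19846) (iv F85665)
theorem F122527 : act 2 n28857 = n28857 := d23_1 D28857 (iv D28857) F85666
theorem F122528 : act 4 n28857 = n20943 := d34_1 D28857 (iv D20943) (iv F85667)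
theorem F122529 : act 6 n28857 = n19916 := d41_1 D28857 (iv D19916) (iv F85668)
def n28858 : Q := act 3 n19842
theorem D28858 : act 3 n19842 = n28858 := rfl
theorem F122530 : act 0 n28858 = n19852 := d2_1 D28858 (iv D19852) (iv F85669)
theorem F122531 : act 4 n28858 = n28858 := d24_2 D19842 D28858 (iv D28858) (iv D19842) F60027
theorem F122532 : act 5 n28858 = n20944 := d25_2 (iv F85671) D28858 (iv D20944)
def n28859 : Q := act 6 n19842
theorem D28859 : act 6 n19842 = n28859 := rfl
theorem F122533 : act 0 n28859 = n19853 := d5_1 D28859 (iv D19853) (iv F85669)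
theorem F122534 : act 2 n28859 = n19847 := d20_1 D28859 (iv D19847) (iv F85670)
theorem F122535 : act 4 n28859 = n19843 := d31_1 D28859 (iv D19843) D19842
def n28860 : Q := act 8 n19842
theorem D28860 : act 8 n19842 = n28860 := rfl
theorem F122536 : act 0 n28860 = n19854 := d7_1 D28860 (iv D19854) (iv F85669)
theorem F122537 : act 2 n28860 = n19848 := d22_1 D28860 (iv D19848) (iv F85670)
theorem F122538 : act 4 n28860 = n19844 := d33_1 D28860 (iv D19844) D19842
theorem F122539 : act 5 n28860 = n20946 := d37_1 D28860 (iv D20946) (iv F85671)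
def n28861 : Q := act 7 n19843
theorem D28861 : act 7 n19843 = n28861 := rfl
theorem F122540 : act 0 n28861 = n19855 := d6_1 D28861 (iv D19855) (iv F85672)
theorem F122541 : act 2 n28861 = n19849 := d21_1 D28861 (iv D19849) (iv F85673)
theorem F122542 : act 3 n28861 = n28861 := d27_1 D28861 (iv D28861) F85674
theorem F122543 : act 5 n28861 = n19920 := d36_1 D28861 (iv D19920) (iv F85675)
def n28862 : Q := act 8 n19843
theorem D28862 : act 8 n19843 = n28862 := rfl
theorem F122544 : act 0 n28862 = n19856 := d7_1 D28862 (iv D19856) (iv F85672)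
theorem F122545 : act 2 n28862 = n19850 := d22_1 D28862 (iv D19850) (iv F85673)
theorem F122546 : act 5 n28862 = n19921 := d37_1 D28862 (iv D19921) (iv F85675)
theorem F122547 : act 6 n28862 = n19844 := d40_1 D28862 (iv D19844) D19843
def n28863 : Q := act 3 n19844
theorem D28863 : act 3 n19844 = n28863 := rfl
theorem F122548 : act 0 n28863 = n19857 := d2_1 D28863 (iv D19857) (iv F85676)
theorem F122549 : act 5 n28863 = n19845 := d25_2 (iv F85678) D28863 (iv D19845)
theorem F122550 : act 8 n28863 = n28863 := d28_2 D19844 D28863 (iv D28863) (iv D19844) F60027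
def n28864 : Q := act 9 n19844
theorem D28864 : act 9 n19844 = n28864 := rfl
theorem F122551 : act 0 n28864 = n19858 := d8_1 D28864 (iv D19858) (iv F85676)
theorem F122552 : act 2 n28864 = n19851 := d23_1 D28864 (iv D19851) (iv F85677)
theorem F122553 : act 5 n28864 = n19846 := d38_1 D28864 (iv D19846) (iv F85678)
def n28865 : Q := act 4 n19845
theorem D28865 : act 4 n19845 = n28865 := rfl
theorem F122554 : act 0 n28865 = n19859 := d3_1 D28865 (iv D19859) (iv F85679)
theorem F122555 : act 3 n28865 = n20951 := d24_1 D28865 (iv D20951) (iv D14400) (iv F60030) D19845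
theorem F122556 : act 6 n28865 = n19924 := d31_2 (iv F85680) D28865 (iv D19924)
theorem F122557 : act 8 n28865 = n28865 := d33_2 F85681 D28865 (iv D28865)
def n28866 : Q := act 9 n19845
theorem D28866 : act 9 n19845 = n28866 := rfl
theorem F122558 : act 0 n28866 = n19860 := d8_1 D28866 (iv D19860) (iv F85679)
theorem F122559 : act 3 n28866 = n19846 := d29_1 D28866 (iv D19846) D19845
theorem F122560 : act 6 n28866 = n19925 := d41_1 D28866 (iv D19925) (iv F85680)
def n28867 : Q := act 5 n19847
theorem D28867 : act 5 n19847 = n28867 := rfl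
theorem F122561 : act 0 n28867 = n19861 := d4_1 D28867 (iv D19861) (iv F85686)
theorem F122562 : act 1 n28867 = n28867 := d12_1 D28867 (iv D28867) F85687
theorem F122563 : act 4 n28867 = n19926 := d30_1 D28867 (iv D19926) F60257 (iv F60038) (iv F85688)
theorem F122564 : act 6 n28867 = n20953 := d35_2 D19847 D28867 (iv D20953) (iv D14402) (iv F60034)
def n28868 : Q := act 7 n19847
theorem D28868 : act 7 n19847 = n28868 := rfl
theorem F122565 : act 0 n28868 = n19862 := d6_1 D28868 (iv D19862) (iv F85686)
theorem F122566 : act 1 n28868 = n28868 := d14_1 D28868 (iv D28868) F85687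
theorem F122567 : act 4 n28868 = n19849 := d32_1 D28868 (iv D19849) (iv F85688)
def n28869 : Q := act 8 n19847
theorem D28869 : act 8 n19847 = n28869 := rfl
theorem F122568 : act 0 n28869 = n19863 := d7_1 D28869 (iv D19863) (iv F85686)
theorem F122569 : act 1 n28869 = n28869 := d15_1 D28869 (iv D28869) F85687
theorem F122570 : act 4 n28869 = n19850 := d33_1 D28869 (iv D19850) (iv F85688)
theorem F122571 : act 6 n28869 = n19848 := d40_1 D28869 (iv D19848) D19847
def n28870 : Q := act 3 n19848
theorem D28870 : act 3 n19848 = n28870 := rfl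
theorem F122572 : act 0 n28870 = n19864 := d2_1 D28870 (iv D19864) (iv F85689)
theorem F122573 : act 1 n28870 = n28870 := d10_1 D28870 (iv D28870) F85690
theorem F122574 : act 5 n28870 = n20956 := d25_2 (iv F85692) D28870 (iv D20956)
def n28871 : Q := act 9 n19848
theorem D28871 : act 9 n19848 = n28871 := rfl
theorem F122575 : act 0 n28871 = n19865 := d8_1 D28871 (iv D19865) (iv F85689)
theorem F122576 : act 1 n28871 = n28871 := d16_1 D28871 (iv D28871) F85690
theorem F122577 : act 4 n28871 = n19851 := d34_1 D28871 (iv D19851) (iv F85691)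
theorem F122578 : act 5 n28871 = n20957 := d38_1 D28871 (iv D20957) (iv F85692)
def n28872 : Q := act 8 n19849
theorem D28872 : act 8 n19849 = n28872 := rfl
theorem F122581 : act 5 n28872 = n19931 := d37_1 D28872 (iv D19931) (iv F85696)
theorem F122582 : act 7 n28872 = n19850 := d42_1 D28872 (iv D19850) D19849
def n28873 : Q := act 9 n19850
theorem D28873 : act 9 n19850 = n28873 := rfl
theorem F122583 : act 0 n28873 = n19867 := d8_1 D28873 (iv D19867) (iv F85697)
theorem F122584 : act 1 n28873 = n28873 := d16_1 D28873 (iv D28873) F85698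
theorem F122585 : act 5 n28873 = n19932 := d38_1 D28873 (iv D19932) (iv F85699)
theorem F122586 : act 6 n28873 = n19851 := d41_1 D28873 (iv D19851) (iv F85700)
def n28874 : Q := act 6 n19852
theorem D28874 : act 6 n19852 = n28874 := rfl
theorem F122587 : act 1 n28874 = n20126 := d13_1 D28874 (iv D20126) (iv F85704)
theorem F122588 : act 3 n28874 = n19853 := d26_1 D28874 (iv D19853) D19852
theorem F122589 : act 4 n28874 = n28874 := d31_1 D28874 (iv D28874) F85705
def n28875 : Q := act 8 n19852
theorem D28875 : act 8 n19852 = n28875 := rfl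
theorem F122590 : act 1 n28875 = n20127 := d15_1 D28875 (iv D20127) (iv F85704)
theorem F122591 : act 4 n28875 = n28875 := d33_1 D28875 (iv D28875) F85705
theorem F122592 : act 5 n28875 = n20961 := d37_1 D28875 (iv D20961) (iv F85706)
def n28876 : Q := act 5 n19853
theorem D28876 : act 5 n19853 = n28876 := rfl
theorem F122593 : act 1 n28876 = n20128 := d12_1 D28876 (iv D20128) (iv F85707)
theorem F122594 : act 2 n28876 = n19861 := d19_1 D28876 (iv D19861) (iv F85708)
theorem F122595 : act 4 n28876 = n19935 := d30_1 D28876 (iv D19935) F60281 (iv F60056) (iv F85709)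
theorem F122596 : act 6 n28876 = n20962 := d35_2 D19853 D28876 (iv D20962) (iv D14408) (iv F60052)
def n28877 : Q := act 7 n19853
theorem D28877 : act 7 n19853 = n28877 := rfl
theorem F122597 : act 1 n28877 = n20129 := d14_1 D28877 (iv D20129) (iv F85707)
theorem F122598 : act 2 n28877 = n19862 := d21_1 D28877 (iv D19862) (iv F85708)
theorem F122599 : act 4 n28877 = n19855 := d32_1 D28877 (iv D19855) (iv F85709)
def n28878 : Q := act 8 n19853
theorem D28878 : act 8 n19853 = n28878 := rfl
theorem F122600 : act 1 n28878 = n20130 := d15_1 D28878 (iv D20130) (iv F85707)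
theorem F122601 : act 2 n28878 = n19863 := d22_1 D28878 (iv D19863) (iv F85708)
theorem F122602 : act 4 n28878 = n19856 := d33_1 D28878 (iv D19856) (iv F85709)
theorem F122603 : act 6 n28878 = n19854 := d40_1 D28878 (iv D19854) D19853
def n28879 : Q := act 3 n19854
theorem D28879 : act 3 n19854 = n28879 := rfl
theorem F122604 : act 1 n28879 = n20131 := d10_1 D28879 (iv D20131) (iv F85710)
theorem F122605 : act 5 n28879 = n20965 := d25_2 (iv F85713) D28879 (iv D20965)
def n28880 : Q := act 9 n19854
theorem D28880 : act 9 n19854 = n28880 := rfl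
theorem F122606 : act 1 n28880 = n20132 := d16_1 D28880 (iv D20132) (iv F85710)
theorem F122607 : act 2 n28880 = n19865 := d23_1 D28880 (iv D19865) (iv F85711)
theorem F122608 : act 4 n28880 = n19858 := d34_1 D28880 (iv D19858) (iv F85712)
theorem F122609 : act 5 n28880 = n20966 := d38_1 D28880 (iv D20966) (iv F85713)
def n28881 : Q := act 8 n19855
theorem D28881 : act 8 n19855 = n28881 := rfl
theorem F122610 : act 1 n28881 = n20133 := d15_1 D28881 (iv D20133) (iv F85714)
theorem F122611 : act 2 n28881 = n19866 := d22_1 D28881 (iv D19866) (iv F85715)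
theorem F122612 : act 5 n28881 = n19940 := d37_1 D28881 (iv D19940) (iv F85717)
theorem F122613 : act 7 n28881 = n19856 := d42_1 D28881 (iv D19856) D19855
def n28882 : Q := act 3 n19856
theorem D28882 : act 3 n19856 = n28882 := rfl
theorem F122614 : act 1 n28882 = n20134 := d10_1 D28882 (iv D20134) (iv F85718)
theorem F122615 : act 5 n28882 = n19941 := d25_2 (iv F85720) D28882 (iv D19941)
theorem F122616 : act 6 n28882 = n19857 := d26_2 (iv F85721) D28882 (iv D19857)
theorem F122617 : act 8 n28882 = n28882 := d28_2 D19856 D28882 (iv D28882) (iv D19856) F60055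
def n28883 : Q := act 9 n19856
theorem D28883 : act 9 n19856 = n28883 := rfl
theorem F122618 : act 1 n28883 = n20135 := d16_1 D28883 (iv D20135) (iv F85718)
theorem F122619 : act 2 n28883 = n19867 := d23_1 D28883 (iv D19867) (iv F85719)
theorem F122620 : act 5 n28883 = n19942 := d38_1 D28883 (iv D19942) (iv F85720)
theorem F122621 : act 6 n28883 = n19858 := d41_1 D28883 (iv D19858) (iv F85721)
def n28884 : Q := act 4 n19857
theorem D28884 : act 4 n19857 = n28884 := rfl
theorem F122622 : act 1 n28884 = n20136 := d11_1 D28884 (iv D20136) (iv F85722)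
theorem F122623 : act 8 n28884 = n28884 := d33_2 F85724 D28884 (iv D28884)
def n28885 : Q := act 9 n19857
theorem D28885 : act 9 n19857 = n28885 := rfl
theorem F122624 : act 1 n28885 = n20137 := d16_1 D28885 (iv D20137) (iv F85722)
theorem F122625 : act 3 n28885 = n19858 := d29_1 D28885 (iv D19858) D19857
theorem F122626 : act 5 n28885 = n19860 := d38_1 D28885 (iv D19860) (iv F85723)
def n28886 : Q := act 5 n19859
theorem D28886 : act 5 n19859 = n28886 := rfl
theorem F122627 : act 1 n28886 = n20138 := d12_1 D28886 (iv D20138) (iv F85728)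
theorem F122628 : act 3 n28886 = n20972 := d25_1 D28886 (iv D20972) (iv F85729)
theorem F122629 : act 8 n28886 = n28886 := d37_2 F85731 D28886 (iv D28886)
def n28887 : Q := act 9 n19859
theorem D28887 : act 9 n19859 = n28887 := rfl
theorem F122630 : act 1 n28887 = n20139 := d16_1 D28887 (iv D20139) (iv F85728)
theorem F122631 : act 3 n28887 = n20973 := d29_1 D28887 (iv D20973) (iv F85729)
theorem F122632 : act 4 n28887 = n19860 := d34_1 D28887 (iv D19860) D19859
theorem F122633 : act 6 n28887 = n19946 := d41_1 D28887 (iv D19946) (iv F85730)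
def n28888 : Q := act 8 n19860
theorem D28888 : act 8 n19860 = n28888 := rfl
theorem F122634 : act 1 n28888 = n20140 := d15_1 D28888 (iv D20140) (iv F85732)
theorem F122635 : act 6 n28888 = n19947 := d40_1 D28888 (iv D19947) (iv F85734)
theorem F122636 : act 9 n28888 = n28888 := d44_2 D19860 D28888 (iv D28888) (iv D19860) F60062
def n28889 : Q := act 7 n19861
theorem D28889 : act 7 n19861 = n28889 := rfl
theorem F122637 : act 1 n28889 = n19868 := d14_1 D28889 (iv D19868) (iv F85735)
theorem F122638 : act 4 n28889 = n19948 := d32_1 D28889 (iv D19948) (iv F85736)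
theorem F122639 : act 5 n28889 = n19862 := d36_1 D28889 (iv D19862) D19861
def n28890 : Q := act 8 n19861
theorem D28890 : act 8 n19861 = n28890 := rfl
theorem F122640 : act 1 n28890 = n19869 := d15_1 D28890 (iv D19869) (iv F85735)
theorem F122641 : act 4 n28890 = n19949 := d33_1 D28890 (iv D19949) (iv F85736)
theorem F122642 : act 5 n28890 = n19863 := d37_1 D28890 (iv D19863) D19861
theorem F122643 : act 6 n28890 = n20976 := d40_1 D28890 (iv D20976) (iv F85737)
def n28891 : Q := act 8 n19862
theorem D28891 : act 8 n19862 = n28891 := rfl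
theorem F122644 : act 1 n28891 = n19870 := d15_1 D28891 (iv D19870) (iv F85738)
theorem F122645 : act 4 n28891 = n19866 := d33_1 D28891 (iv D19866) (iv F85739)
theorem F122646 : act 7 n28891 = n19863 := d42_1 D28891 (iv D19863) D19862
def n28892 : Q := act 3 n19863
theorem D28892 : act 3 n19863 = n28892 := rfl
theorem F122647 : act 1 n28892 = n19871 := d10_1 D28892 (iv D19871) (iv F85740)
theorem F122648 : act 6 n28892 = n19864 := d26_2 (iv F85742) D28892 (iv D19864)
def n28893 : Q := act 9 n19863
theorem D28893 : act 9 n19863 = n28893 := rfl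
theorem F122649 : act 1 n28893 = n19872 := d16_1 D28893 (iv D19872) (iv F85740)
theorem F122650 : act 4 n28893 = n19867 := d34_1 D28893 (iv D19867) (iv F85741)
theorem F122651 : act 6 n28893 = n19865 := d41_1 D28893 (iv D19865) (iv F85742)
def n28894 : Q := act 2 n19864
theorem D28894 : act 2 n19864 = n28894 := rfl
theorem F122652 : act 5 n28894 = n20980 := d19_2 (iv F85744) D28894 (iv D20980)
def n28895 : Q := act 9 n19864
theorem D28895 : act 9 n19864 = n28895 := rfl
theorem F122653 : act 1 n28895 = n19874 := d16_1 D28895 (iv D19874) (iv F85743)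
theorem F122654 : act 3 n28895 = n19865 := d29_1 D28895 (iv D19865) D19864
theorem F122655 : act 5 n28895 = n20981 := d38_1 D28895 (iv D20981) (iv F85744)
def n28896 : Q := act 9 n19866
theorem D28896 : act 9 n19866 = n28896 := rfl
theorem F122656 : act 1 n28896 = n19875 := d16_1 D28896 (iv D19875) (iv F85748)
theorem F122657 : act 5 n28896 = n19955 := d38_1 D28896 (iv D19955) (iv F85749)
theorem F122658 : act 7 n28896 = n19867 := d43_1 D28896 (iv D19867) (iv F85750)
def n28897 : Q := act 6 n19868
theorem D28897 : act 6 n19868 = n28897 := rfl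
theorem F122659 : act 0 n28897 = n28897 := d5_1 D28897 (iv D28897) F85754
theorem F122660 : act 2 n28897 = n20149 := d20_1 D28897 (iv D20149) (iv F85755)
theorem F122661 : act 4 n28897 = n19956 := d31_1 D28897 (iv D19956) (iv F85756)
theorem F122662 : act 7 n28897 = n20983 := d39_2 D19868 D28897 (iv D20983) (iv D14423) (iv F60083)
def n28898 : Q := act 8 n19868
theorem D28898 : act 8 n19868 = n28898 := rfl
theorem F122663 : act 0 n28898 = n28898 := d7_1 D28898 (iv D28898) F85754
theorem F122664 : act 2 n28898 = n20150 := d22_1 D28898 (iv D20150) (iv F85755)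
theorem F122665 : act 4 n28898 = n19957 := d33_1 D28898 (iv D19957) (iv F85756)
theorem F122666 : act 5 n28898 = n19870 := d37_1 D28898 (iv D19870) (iv F85757)
theorem F122667 : act 7 n28898 = n19869 := d42_1 D28898 (iv D19869) D19868
def n28899 : Q := act 3 n19869
theorem D28899 : act 3 n19869 = n28899 := rfl
theorem F122668 : act 0 n28899 = n28899 := d2_1 D28899 (iv D28899) F85758
theorem F122669 : act 5 n28899 = n19871 := d25_2 (iv F85761) D28899 (iv D19871)
theorem F122670 : act 6 n28899 = n20985 := d26_2 (iv F85762) D28899 (iv D20985)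
def n28900 : Q := act 9 n19869
theorem D28900 : act 9 n19869 = n28900 := rfl
theorem F122671 : act 0 n28900 = n28900 := d8_1 D28900 (iv D28900) F85758
theorem F122672 : act 2 n28900 = n20152 := d23_1 D28900 (iv D20152) (iv F85759)
theorem F122673 : act 4 n28900 = n19959 := d34_1 D28900 (iv D19959) (iv F85760)
theorem F122674 : act 5 n28900 = n19872 := d38_1 D28900 (iv D19872) (iv F85761)
theorem F122675 : act 6 n28900 = n20986 := d41_1 D28900 (iv D20986) (iv F85762)
def n28901 : Q := act 3 n19870
theorem D28901 : act 3 n19870 = n28901 := rfl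
theorem F122677 : act 7 n28901 = n19871 := d27_2 (iv F85766) D28901 (iv D19871)
def n28902 : Q := act 9 n19870
theorem D28902 : act 9 n19870 = n28902 := rfl
theorem F122678 : act 0 n28902 = n28902 := d8_1 D28902 (iv D28902) F85763
theorem F122679 : act 2 n28902 = n20154 := d23_1 D28902 (iv D20154) (iv F85764)
theorem F122680 : act 4 n28902 = n19875 := d34_1 D28902 (iv D19875) (iv F85765)
theorem F122681 : act 7 n28902 = n19872 := d43_1 D28902 (iv D19872) (iv F85766)
def n28903 : Q := act 2 n19871
theorem D28903 : act 2 n19871 = n28903 := rfl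
theorem F122684 : act 6 n28903 = n19873 := d20_2 (iv F85768) D28903 (iv D19873)
def n28904 : Q := act 9 n19871
theorem D28904 : act 9 n19871 = n28904 := rfl
theorem F122685 : act 0 n28904 = n28904 := d8_1 D28904 (iv D28904) F85767
theorem F122686 : act 3 n28904 = n19872 := d29_1 D28904 (iv D19872) D19871
theorem F122687 : act 6 n28904 = n19874 := d41_1 D28904 (iv D19874) (iv F85768)
def n28905 : Q := act 1 n19873
theorem D28905 : act 1 n19873 = n28905 := rfl
theorem F122688 : act 3 n28905 = n20157 := d10_2 (iv F85774) D28905 (iv D20157)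
theorem F122689 : act 5 n28905 = n20991 := d12_2 (iv F85775) D28905 (iv D20991)
def n28906 : Q := act 9 n19873
theorem D28906 : act 9 n19873 = n28906 := rfl
theorem F122690 : act 0 n28906 = n28906 := d8_1 D28906 (iv D28906) F85773
theorem F122691 : act 2 n28906 = n19874 := d23_1 D28906 (iv D19874) D19873
theorem F122692 : act 3 n28906 = n20158 := d29_1 D28906 (iv D20158) (iv F85774)
theorem F122693 : act 5 n28906 = n20992 := d38_1 D28906 (iv D20992) (iv F85775)
def n28907 : Q := act 8 n19874
theorem D28907 : act 8 n19874 = n28907 := rfl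
theorem F122694 : act 0 n28907 = n28907 := d7_1 D28907 (iv D28907) F85776
theorem F122695 : act 5 n28907 = n20993 := d37_1 D28907 (iv D20993) (iv F85778)
def n28908 : Q := act 4 n19876
theorem D28908 : act 4 n19876 = n28908 := rfl
theorem F122696 : act 0 n28908 = n20196 := d3_1 D28908 (iv D20196) (iv F85783)
theorem F122699 : act 5 n28908 = n21030 := d30_2 D19876 D28908 (iv D21030) (iv D14456) (iv F60108)
theorem F122701 : act 9 n28908 = n19912 := d34_2 (iv F85788) D28908 (iv D19912)
def n28909 : Q := act 6 n19876
theorem D28909 : act 6 n19876 = n28909 := rfl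
theorem F122702 : act 0 n28909 = n20197 := d5_1 D28909 (iv D20197) (iv F85783)
theorem F122706 : act 9 n28909 = n19913 := d41_2 (iv F85788) D28909 (iv D19913)
def n28910 : Q := act 8 n19876
theorem D28910 : act 8 n19876 = n28910 := rfl
theorem F122707 : act 0 n28910 = n20198 := d7_1 D28910 (iv D20198) (iv F85783)
theorem F122710 : act 5 n28910 = n19877 := d37_1 D28910 (iv D19877) D19876
def n28912 : Q := act 9 n19877
theorem D28912 : act 9 n19877 = n28912 := rfl
theorem F122716 : act 0 n28912 = n20200 := d8_1 D28912 (iv D20200) (iv F85789)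
theorem F122721 : act 8 n28912 = n19916 := d44_1 D28912 (iv D19916) (iv D13706) (iv F60110) D19877
def n28913 : Q := act 3 n19878
theorem D28913 : act 3 n19878 = n28913 := rfl
theorem F122722 : act 0 n28913 = n19888 := d2_1 D28913 (iv D19888) (iv F85794)
theorem F122727 : act 9 n28913 = n19917 := d29_2 (iv F85798) D28913 (iv D19917)
def n28914 : Q := act 6 n19878
theorem D28914 : act 6 n19878 = n28914 := rfl
theorem F122728 : act 0 n28914 = n19889 := d5_1 D28914 (iv D19889) (iv F85794)
theorem F122731 : act 9 n28914 = n19918 := d41_2 (iv F85798) D28914 (iv D19918)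
def n28915 : Q := act 8 n19878
theorem D28915 : act 8 n19878 = n28915 := rfl
theorem F122732 : act 0 n28915 = n19890 := d7_1 D28915 (iv D19890) (iv F85794)
theorem F122735 : act 5 n28915 = n21037 := d37_1 D28915 (iv D21037) (iv F85796)
def n28916 : Q := act 7 n19879
theorem D28916 : act 7 n19879 = n28916 := rfl
theorem F122737 : act 0 n28916 = n19891 := d6_1 D28916 (iv D19891) (iv F85799)
theorem F122741 : act 9 n28916 = n19920 := d43_2 (iv F85802) D28916 (iv D19920)
def n28917 : Q := act 8 n19879
theorem D28917 : act 8 n19879 = n28917 := rfl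
theorem F122742 : act 0 n28917 = n19892 := d7_1 D28917 (iv D19892) (iv F85799)
theorem F122744 : act 6 n28917 = n19880 := d40_1 D28917 (iv D19880) D19879
def n28918 : Q := act 3 n19880
theorem D28918 : act 3 n19880 = n28918 := rfl
theorem F122745 : act 0 n28918 = n19893 := d2_1 D28918 (iv D19893) (iv F85803)
theorem F122747 : act 5 n28918 = n19881 := d25_2 (iv F85805) D28918 (iv D19881)
def n28919 : Q := act 9 n19880
theorem D28919 : act 9 n19880 = n28919 := rfl
theorem F122750 : act 0 n28919 = n19894 := d8_1 D28919 (iv D19894) (iv F85803)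
theorem F122754 : act 8 n28919 = n19923 := d44_1 D28919 (iv D19923) (iv D13709) (iv F60115) D19880
def n28920 : Q := act 4 n19881
theorem D28920 : act 4 n19881 = n28920 := rfl
theorem F122757 : act 3 n28920 = n21042 := d24_1 D28920 (iv D21042) (iv D14461) (iv F60118) D19881
def n28921 : Q := act 9 n19881
theorem D28921 : act 9 n19881 = n28921 := rfl
theorem F122760 : act 0 n28921 = n19896 := d8_1 D28921 (iv D19896) (iv F85807)
theorem F122762 : act 3 n28921 = n19882 := d29_1 D28921 (iv D19882) D19881
def n28922 : Q := act 5 n19883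
theorem D28922 : act 5 n19883 = n28922 := rfl
theorem F122764 : act 0 n28922 = n19897 := d4_1 D28922 (iv D19897) (iv F85816)
theorem F122767 : act 6 n28922 = n21044 := d35_2 D19883 D28922 (iv D21044) (iv D14463) (iv F60123)
theorem F122768 : act 9 n28922 = n19926 := d38_2 (iv F85820) D28922 (iv D19926)
def n28923 : Q := act 7 n19883
theorem D28923 : act 7 n19883 = n28923 := rfl
theorem F122769 : act 0 n28923 = n19898 := d6_1 D28923 (iv D19898) (iv F85816)
theorem F122774 : act 9 n28923 = n19927 := d43_2 (iv F85820) D28923 (iv D19927)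
def n28924 : Q := act 8 n19883
theorem D28924 : act 8 n19883 = n28924 := rfl
theorem F122775 : act 0 n28924 = n19899 := d7_1 D28924 (iv D19899) (iv F85816)
theorem F122778 : act 6 n28924 = n19884 := d40_1 D28924 (iv D19884) D19883
def n28925 : Q := act 3 n19884
theorem D28925 : act 3 n19884 = n28925 := rfl
theorem F122779 : act 0 n28925 = n19900 := d2_1 D28925 (iv D19900) (iv F85821)
theorem F122782 : act 5 n28925 = n21047 := d25_2 (iv F85824) D28925 (iv D21047)
def n28926 : Q := act 9 n19884
theorem D28926 : act 9 n19884 = n28926 := rfl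
theorem F122785 : act 0 n28926 = n19901 := d8_1 D28926 (iv D19901) (iv F85821)
theorem F122790 : act 8 n28926 = n19930 := d44_1 D28926 (iv D19930) (iv D13713) (iv F60125) D19884
def n28927 : Q := act 8 n19885
theorem D28927 : act 8 n19885 = n28927 := rfl
theorem F122791 : act 0 n28927 = n19902 := d7_1 D28927 (iv D19902) (iv F85826)
theorem F122795 : act 7 n28927 = n19886 := d42_1 D28927 (iv D19886) D19885
def n28928 : Q := act 9 n19886
theorem D28928 : act 9 n19886 = n28928 := rfl
theorem F122796 : act 0 n28928 = n19903 := d8_1 D28928 (iv D19903) (iv F85831)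
theorem F122800 : act 8 n28928 = n19932 := d44_1 D28928 (iv D19932) (iv D13715) (iv F60129) D19886
def n28929 : Q := act 6 n19888
theorem D28929 : act 6 n19888 = n28929 := rfl
theorem F122801 : act 1 n28929 = n20217 := d13_1 D28929 (iv D20217) (iv F85841)
theorem F122802 : act 2 n28929 = n28929 := d20_1 D28929 (iv D28929) F85842
theorem F122803 : act 3 n28929 = n19889 := d26_1 D28929 (iv D19889) D19888
theorem F122804 : act 4 n28929 = n28929 := d31_1 D28929 (iv D28929) F85843
theorem F122805 : act 9 n28929 = n19933 := d41_2 (iv F85846) D28929 (iv D19933)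
def n28930 : Q := act 8 n19888
theorem D28930 : act 8 n19888 = n28930 := rfl
theorem F122806 : act 1 n28930 = n20218 := d15_1 D28930 (iv D20218) (iv F85841)
theorem F122807 : act 2 n28930 = n28930 := d22_1 D28930 (iv D28930) F85842
theorem F122808 : act 4 n28930 = n28930 := d33_1 D28930 (iv D28930) F85843
theorem F122809 : act 5 n28930 = n21052 := d37_1 D28930 (iv D21052) (iv F85844)
theorem F122810 : act 7 n28930 = n28930 := d42_1 D28930 (iv D28930) F85845
def n28931 : Q := act 5 n19889
theorem D28931 : act 5 n19889 = n28931 := rfl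
theorem F122811 : act 1 n28931 = n20219 := d12_1 D28931 (iv D20219) (iv F85847)
theorem F122812 : act 2 n28931 = n19897 := d19_1 D28931 (iv D19897) (iv F85848)
theorem F122813 : act 6 n28931 = n21053 := d35_2 D19889 D28931 (iv D21053) (iv D14469) (iv F60150)
theorem F122814 : act 9 n28931 = n19935 := d38_2 (iv F85850) D28931 (iv D19935)
def n28932 : Q := act 7 n19889
theorem D28932 : act 7 n19889 = n28932 := rfl
theorem F122815 : act 1 n28932 = n20220 := d14_1 D28932 (iv D20220) (iv F85847)
theorem F122816 : act 2 n28932 = n19898 := d21_1 D28932 (iv D19898) (iv F85848)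
theorem F122817 : act 4 n28932 = n19891 := d32_1 D28932 (iv D19891) (iv F85849)
theorem F122818 : act 6 n28932 = n28932 := d39_1 D28932 (iv D28932) (iv D19889) F60151 D19889
theorem F122819 : act 9 n28932 = n19936 := d43_2 (iv F85850) D28932 (iv D19936)
def n28933 : Q := act 8 n19889
theorem D28933 : act 8 n19889 = n28933 := rfl
theorem F122820 : act 1 n28933 = n20221 := d15_1 D28933 (iv D20221) (iv F85847)
theorem F122821 : act 2 n28933 = n19899 := d22_1 D28933 (iv D19899) (iv F85848)
theorem F122822 : act 4 n28933 = n19892 := d33_1 D28933 (iv D19892) (iv F85849)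
theorem F122823 : act 6 n28933 = n19890 := d40_1 D28933 (iv D19890) D19889
def n28934 : Q := act 3 n19890
theorem D28934 : act 3 n19890 = n28934 := rfl
theorem F122824 : act 1 n28934 = n20222 := d10_1 D28934 (iv D20222) (iv F85851)
theorem F122825 : act 5 n28934 = n21056 := d25_2 (iv F85854) D28934 (iv D21056)
theorem F122826 : act 7 n28934 = n28934 := d27_2 F85855 D28934 (iv D28934)
def n28935 : Q := act 9 n19890
theorem D28935 : act 9 n19890 = n28935 := rfl
theorem F122827 : act 1 n28935 = n20223 := d16_1 D28935 (iv D20223) (iv F85851)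
theorem F122828 : act 2 n28935 = n19901 := d23_1 D28935 (iv D19901) (iv F85852)
theorem F122829 : act 4 n28935 = n19894 := d34_1 D28935 (iv D19894) (iv F85853)
theorem F122830 : act 5 n28935 = n21057 := d38_1 D28935 (iv D21057) (iv F85854)
theorem F122831 : act 7 n28935 = n28935 := d43_1 D28935 (iv D28935) F85855
theorem F122832 : act 8 n28935 = n19939 := d44_1 D28935 (iv D19939) (iv D13719) (iv F60152) D19890
def n28936 : Q := act 8 n19891
theorem D28936 : act 8 n19891 = n28936 := rfl
theorem F122833 : act 1 n28936 = n20224 := d15_1 D28936 (iv D20224) (iv F85856)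
theorem F122834 : act 2 n28936 = n19902 := d22_1 D28936 (iv D19902) (iv F85857)
theorem F122835 : act 6 n28936 = n28936 := d40_1 D28936 (iv D28936) F85859
theorem F122836 : act 7 n28936 = n19892 := d42_1 D28936 (iv D19892) D19891
def n28937 : Q := act 3 n19892
theorem D28937 : act 3 n19892 = n28937 := rfl
theorem F122837 : act 1 n28937 = n20225 := d10_1 D28937 (iv D20225) (iv F85861)
theorem F122838 : act 2 n28937 = n28937 := d17_1 D28937 (iv D28937) F85862 F60183 (iv F85862)
theorem F122839 : act 6 n28937 = n19893 := d26_2 (iv F85863) D28937 (iv D19893)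
theorem F122840 : act 8 n28937 = n28937 := d28_2 D19892 D28937 (iv D28937) (iv D19892) F60155
def n28938 : Q := act 9 n19892
theorem D28938 : act 9 n19892 = n28938 := rfl
theorem F122841 : act 1 n28938 = n20226 := d16_1 D28938 (iv D20226) (iv F85861)
theorem F122842 : act 2 n28938 = n19903 := d23_1 D28938 (iv D19903) (iv F85862)
theorem F122843 : act 6 n28938 = n19894 := d41_1 D28938 (iv D19894) (iv F85863)
theorem F122844 : act 8 n28938 = n19942 := d44_1 D28938 (iv D19942) (iv D13721) (iv F60156) D19892
def n28939 : Q := act 4 n19893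
theorem D28939 : act 4 n19893 = n28939 := rfl
theorem F122845 : act 1 n28939 = n20227 := d11_1 D28939 (iv D20227) (iv F85864)
theorem F122846 : act 2 n28939 = n28939 := d18_1 D28939 (iv D28939) F85865
theorem F122847 : act 7 n28939 = n28939 := d32_2 F85867 D28939 (iv D28939)
theorem F122848 : act 8 n28939 = n28939 := d33_2 F85868 D28939 (iv D28939)
def n28940 : Q := act 9 n19893
theorem D28940 : act 9 n19893 = n28940 := rfl
theorem F122849 : act 1 n28940 = n20228 := d16_1 D28940 (iv D20228) (iv F85864)
theorem F122850 : act 2 n28940 = n28940 := d23_1 D28940 (iv D28940) F85865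
theorem F122851 : act 3 n28940 = n19894 := d29_1 D28940 (iv D19894) D19893
theorem F122852 : act 5 n28940 = n19896 := d38_1 D28940 (iv D19896) (iv F85866)
theorem F122853 : act 7 n28940 = n28940 := d43_1 D28940 (iv D28940) F85867
def n28941 : Q := act 5 n19895
theorem D28941 : act 5 n19895 = n28941 := rfl
theorem F122854 : act 1 n28941 = n20229 := d12_1 D28941 (iv D20229) (iv F85874)
theorem F122856 : act 3 n28941 = n21063 := d25_1 D28941 (iv D21063) (iv F85876)
def n28942 : Q := act 9 n19895
theorem D28942 : act 9 n19895 = n28942 := rfl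
theorem F122859 : act 1 n28942 = n20230 := d16_1 D28942 (iv D20230) (iv F85874)
theorem F122862 : act 4 n28942 = n19896 := d34_1 D28942 (iv D19896) D19895
def n28943 : Q := act 8 n19896
theorem D28943 : act 8 n19896 = n28943 := rfl
theorem F122864 : act 1 n28943 = n20231 := d15_1 D28943 (iv D20231) (iv F85879)
theorem F122865 : act 2 n28943 = n28943 := d22_1 D28943 (iv D28943) F85880
theorem F122866 : act 3 n28943 = n19947 := d28_1 D28943 (iv D19947) F60307 (iv F60169) (iv F85881)
theorem F122867 : act 7 n28943 = n28943 := d42_1 D28943 (iv D28943) F85882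
theorem F122868 : act 9 n28943 = n28943 := d44_2 D19896 D28943 (iv D28943) (iv D19896) F60164
def n28944 : Q := act 7 n19897
theorem D28944 : act 7 n19897 = n28944 := rfl
theorem F122869 : act 1 n28944 = n19904 := d14_1 D28944 (iv D19904) (iv F85883)
theorem F122870 : act 3 n28944 = n28944 := d27_1 D28944 (iv D28944) F85884
theorem F122871 : act 5 n28944 = n19898 := d36_1 D28944 (iv D19898) D19897
theorem F122872 : act 9 n28944 = n19948 := d43_2 (iv F85886) D28944 (iv D19948)
def n28945 : Q := act 8 n19897
theorem D28945 : act 8 n19897 = n28945 := rfl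
theorem F122873 : act 1 n28945 = n19905 := d15_1 D28945 (iv D19905) (iv F85883)
theorem F122874 : act 5 n28945 = n19899 := d37_1 D28945 (iv D19899) D19897
theorem F122875 : act 6 n28945 = n21067 := d40_1 D28945 (iv D21067) (iv F85885)
def n28946 : Q := act 8 n19898
theorem D28946 : act 8 n19898 = n28946 := rfl
theorem F122876 : act 1 n28946 = n19906 := d15_1 D28946 (iv D19906) (iv F85887)
theorem F122877 : act 4 n28946 = n19902 := d33_1 D28946 (iv D19902) (iv F85889)
theorem F122878 : act 6 n28946 = n28946 := d40_1 D28946 (iv D28946) F85890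
theorem F122879 : act 7 n28946 = n19899 := d42_1 D28946 (iv D19899) D19898
def n28947 : Q := act 3 n19899
theorem D28947 : act 3 n19899 = n28947 := rfl
theorem F122880 : act 1 n28947 = n19907 := d10_1 D28947 (iv D19907) (iv F85892)
theorem F122881 : act 4 n28947 = n28947 := d24_2 (iv F85893) D28947 (iv D28947) F85893 F60183
theorem F122882 : act 6 n28947 = n19900 := d26_2 (iv F85894) D28947 (iv D19900)
theorem F122883 : act 8 n28947 = n28947 := d28_2 D19899 D28947 (iv D28947) (iv D19899) F60171
def n28948 : Q := act 9 n19899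
theorem D28948 : act 9 n19899 = n28948 := rfl
theorem F122884 : act 1 n28948 = n19908 := d16_1 D28948 (iv D19908) (iv F85892)
theorem F122885 : act 4 n28948 = n19903 := d34_1 D28948 (iv D19903) (iv F85893)
theorem F122886 : act 6 n28948 = n19901 := d41_1 D28948 (iv D19901) (iv F85894)
theorem F122887 : act 8 n28948 = n19952 := d44_1 D28948 (iv D19952) (iv D13728) (iv F60173) D19899
def n28949 : Q := act 2 n19900
theorem D28949 : act 2 n19900 = n28949 := rfl
theorem F122888 : act 4 n28949 = n28949 := d18_2 F85896 D28949 (iv D28949)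
theorem F122889 : act 5 n28949 = n21071 := d19_2 (iv F85897) D28949 (iv D21071)
theorem F122890 : act 7 n28949 = n28949 := d21_2 F85898 D28949 (iv D28949)
theorem F122891 : act 8 n28949 = n28949 := d22_2 F85899 D28949 (iv D28949)
def n28950 : Q := act 9 n19900
theorem D28950 : act 9 n19900 = n28950 := rfl
theorem F122892 : act 1 n28950 = n19910 := d16_1 D28950 (iv D19910) (iv F85895)
theorem F122893 : act 3 n28950 = n19901 := d29_1 D28950 (iv D19901) D19900
theorem F122894 : act 4 n28950 = n28950 := d34_1 D28950 (iv D28950) F85896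
theorem F122895 : act 5 n28950 = n21072 := d38_1 D28950 (iv D21072) (iv F85897)
theorem F122896 : act 7 n28950 = n28950 := d43_1 D28950 (iv D28950) F85898
def n28951 : Q := act 9 n19902
theorem D28951 : act 9 n19902 = n28951 := rfl
theorem F122897 : act 1 n28951 = n19911 := d16_1 D28951 (iv D19911) (iv F85905)
theorem F122898 : act 3 n28951 = n28951 := d29_1 D28951 (iv D28951) F85906
theorem F122899 : act 6 n28951 = n28951 := d41_1 D28951 (iv D28951) F85907
theorem F122900 : act 7 n28951 = n19903 := d43_1 D28951 (iv D19903) (iv F85908)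
theorem F122901 : act 8 n28951 = n19955 := d44_1 D28951 (iv D19955) (iv D13731) (iv F60181) D19902
def n28952 : Q := act 6 n19904
theorem D28952 : act 6 n19904 = n28952 := rfl
theorem F122902 : act 0 n28952 = n28952 := d5_1 D28952 (iv D28952) F85913
theorem F122903 : act 2 n28952 = n20240 := d20_1 D28952 (iv D20240) (iv F85914)
theorem F122904 : act 3 n28952 = n28952 := d26_1 D28952 (iv D28952) F85915
theorem F122905 : act 5 n28952 = n28952 := d35_1 D28952 (iv D28952) F85916 F60199 (iv F85916)
theorem F122906 : act 7 n28952 = n21074 := d39_2 D19904 D28952 (iv D21074) (iv D14484) (iv F60193)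
theorem F122907 : act 9 n28952 = n19956 := d41_2 (iv F85917) D28952 (iv D19956)
def n28953 : Q := act 8 n19904
theorem D28953 : act 8 n19904 = n28953 := rfl
theorem F122908 : act 0 n28953 = n28953 := d7_1 D28953 (iv D28953) F85913
theorem F122909 : act 2 n28953 = n20241 := d22_1 D28953 (iv D20241) (iv F85914)
theorem F122910 : act 5 n28953 = n19906 := d37_1 D28953 (iv D19906) (iv F85916)
theorem F122911 : act 7 n28953 = n19905 := d42_1 D28953 (iv D19905) D19904
def n28954 : Q := act 3 n19905
theorem D28954 : act 3 n19905 = n28954 := rfl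
theorem F122912 : act 0 n28954 = n28954 := d2_1 D28954 (iv D28954) F85918
theorem F122913 : act 5 n28954 = n19907 := d25_2 (iv F85920) D28954 (iv D19907)
theorem F122914 : act 6 n28954 = n21076 := d26_2 (iv F85921) D28954 (iv D21076)
theorem F122915 : act 8 n28954 = n28954 := d28_2 D19905 D28954 (iv D28954) (iv D19905) F60192
def n28955 : Q := act 9 n19905
theorem D28955 : act 9 n19905 = n28955 := rfl
theorem F122916 : act 0 n28955 = n28955 := d8_1 D28955 (iv D28955) F85918
theorem F122917 : act 2 n28955 = n20243 := d23_1 D28955 (iv D20243) (iv F85919)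
theorem F122918 : act 5 n28955 = n19908 := d38_1 D28955 (iv D19908) (iv F85920)
theorem F122919 : act 6 n28955 = n21077 := d41_1 D28955 (iv D21077) (iv F85921)
theorem F122920 : act 8 n28955 = n19959 := d44_1 D28955 (iv D19959) (iv D13734) (iv F60194) D19905
def n28956 : Q := act 3 n19906
theorem D28956 : act 3 n19906 = n28956 := rfl
theorem F122921 : act 0 n28956 = n28956 := d2_1 D28956 (iv D28956) F85922
theorem F122922 : act 4 n28956 = n28956 := d24_2 (iv F85924) D28956 (iv D28956) F85924 F60218
theorem F122923 : act 6 n28956 = n28956 := d26_2 F85925 D28956 (iv D28956)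
theorem F122924 : act 7 n28956 = n19907 := d27_2 (iv F85926) D28956 (iv D19907)
theorem F122925 : act 8 n28956 = n28956 := d28_2 D19906 D28956 (iv D28956) (iv D19906) F60197
def n28957 : Q := act 9 n19906
theorem D28957 : act 9 n19906 = n28957 := rfl
theorem F122926 : act 0 n28957 = n28957 := d8_1 D28957 (iv D28957) F85922
theorem F122927 : act 2 n28957 = n20245 := d23_1 D28957 (iv D20245) (iv F85923)
theorem F122928 : act 4 n28957 = n19911 := d34_1 D28957 (iv D19911) (iv F85924)
theorem F122929 : act 6 n28957 = n28957 := d41_1 D28957 (iv D28957) F85925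
theorem F122930 : act 7 n28957 = n19908 := d43_1 D28957 (iv D19908) (iv F85926)
theorem F122931 : act 8 n28957 = n19961 := d44_1 D28957 (iv D19961) (iv D13735) (iv F60200) D19906
def n28958 : Q := act 2 n19907
theorem D28958 : act 2 n19907 = n28958 := rfl
theorem F122932 : act 0 n28958 = n28958 := d1_1 D28958 (iv D28958) F85927
theorem F122933 : act 3 n28958 = n20246 := d17_2 D19907 D28958 (iv D20246) (iv D13926) (iv F60202)
theorem F122934 : act 4 n28958 = n28958 := d18_2 F85928 D28958 (iv D28958)
theorem F122935 : act 6 n28958 = n19909 := d20_2 (iv F85929) D28958 (iv D19909)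
theorem F122936 : act 8 n28958 = n28958 := d22_2 F85930 D28958 (iv D28958)
def n28959 : Q := act 9 n19907
theorem D28959 : act 9 n19907 = n28959 := rfl
theorem F122937 : act 0 n28959 = n28959 := d8_1 D28959 (iv D28959) F85927
theorem F122938 : act 3 n28959 = n19908 := d29_1 D28959 (iv D19908) D19907
theorem F122939 : act 4 n28959 = n28959 := d34_1 D28959 (iv D28959) F85928
theorem F122940 : act 6 n28959 = n19910 := d41_1 D28959 (iv D19910) (iv F85929)
def n28960 : Q := act 1 n19909
theorem D28960 : act 1 n19909 = n28960 := rfl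
theorem F122941 : act 3 n28960 = n20248 := d10_2 (iv F85937) D28960 (iv D20248)
theorem F122942 : act 4 n28960 = n28960 := d11_2 F85938 D28960 (iv D28960)
theorem F122943 : act 5 n28960 = n21082 := d12_2 (iv F85939) D28960 (iv D21082)
theorem F122944 : act 7 n28960 = n28960 := d14_2 F85940 D28960 (iv D28960)
theorem F122945 : act 8 n28960 = n28960 := d15_2 F85941 D28960 (iv D28960)
def n28961 : Q := act 9 n19909
theorem D28961 : act 9 n19909 = n28961 := rfl
theorem F122946 : act 0 n28961 = n28961 := d8_1 D28961 (iv D28961) F85936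
theorem F122947 : act 2 n28961 = n19910 := d23_1 D28961 (iv D19910) D19909
theorem F122948 : act 3 n28961 = n20249 := d29_1 D28961 (iv D20249) (iv F85937)
theorem F122949 : act 4 n28961 = n28961 := d34_1 D28961 (iv D28961) F85938
theorem F122950 : act 5 n28961 = n21083 := d38_1 D28961 (iv D21083) (iv F85939)
theorem F122951 : act 7 n28961 = n28961 := d43_1 D28961 (iv D28961) F85940
def n28962 : Q := act 8 n19910
theorem D28962 : act 8 n19910 = n28962 := rfl
theorem F122952 : act 0 n28962 = n28962 := d7_1 D28962 (iv D28962) F85942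
theorem F122953 : act 3 n28962 = n19966 := d28_1 D28962 (iv D19966) F60358 (iv F60215) (iv F85943)
theorem F122954 : act 4 n28962 = n28962 := d33_1 D28962 (iv D28962) F85944
theorem F122955 : act 5 n28962 = n21084 := d37_1 D28962 (iv D21084) (iv F85945)
theorem F122956 : act 7 n28962 = n28962 := d42_1 D28962 (iv D28962) F85946
theorem F122957 : act 9 n28962 = n28962 := d44_2 D19910 D28962 (iv D28962) (iv D19910) F60209
def n28963 : Q := act 3 n19912
theorem D28963 : act 3 n19912 = n28963 := rfl
theorem F122958 : act 0 n28963 = n20251 := d2_1 D28963 (iv D20251) (iv F85953)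
theorem F122959 : act 1 n28963 = n19917 := d10_1 D28963 (iv D19917) (iv F85954)
theorem F122960 : act 4 n28963 = n28963 := d24_2 D19912 D28963 (iv D28963) (iv D19912) F60229
theorem F122961 : act 5 n28963 = n21085 := d25_2 (iv F85956) D28963 (iv D21085)
theorem F122962 : act 7 n28963 = n28963 := d27_2 F85957 D28963 (iv D28963)
def n28964 : Q := act 6 n19912
theorem D28964 : act 6 n19912 = n28964 := rfl
theorem F122963 : act 0 n28964 = n20252 := d5_1 D28964 (iv D20252) (iv F85953)
theorem F122964 : act 1 n28964 = n19918 := d13_1 D28964 (iv D19918) (iv F85954)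
theorem F122965 : act 2 n28964 = n28964 := d20_1 D28964 (iv D28964) F85955
theorem F122966 : act 4 n28964 = n19913 := d31_1 D28964 (iv D19913) D19912
def n28965 : Q := act 8 n19912
theorem D28965 : act 8 n19912 = n28965 := rfl
theorem F122967 : act 0 n28965 = n20253 := d7_1 D28965 (iv D20253) (iv F85953)
theorem F122968 : act 1 n28965 = n19919 := d15_1 D28965 (iv D19919) (iv F85954)
theorem F122969 : act 2 n28965 = n28965 := d22_1 D28965 (iv D28965) F85955
theorem F122970 : act 4 n28965 = n19914 := d33_1 D28965 (iv D19914) D19912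
theorem F122971 : act 5 n28965 = n21087 := d37_1 D28965 (iv D21087) (iv F85956)
theorem F122972 : act 7 n28965 = n28965 := d42_1 D28965 (iv D28965) F85957
def n28966 : Q := act 7 n19913
theorem D28966 : act 7 n19913 = n28966 := rfl
theorem F122973 : act 0 n28966 = n20254 := d6_1 D28966 (iv D20254) (iv F85958)
theorem F122974 : act 1 n28966 = n19920 := d14_1 D28966 (iv D19920) (iv F85959)
theorem F122975 : act 2 n28966 = n28966 := d21_1 D28966 (iv D28966) F85960
theorem F122976 : act 3 n28966 = n28966 := d27_1 D28966 (iv D28966) F85961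
theorem F122977 : act 6 n28966 = n28966 := d39_1 D28966 (iv D28966) (iv D19913) F60230 D19913
def n28967 : Q := act 8 n19913
theorem D28967 : act 8 n19913 = n28967 := rfl
theorem F122978 : act 0 n28967 = n20255 := d7_1 D28967 (iv D20255) (iv F85958)
theorem F122979 : act 1 n28967 = n19921 := d15_1 D28967 (iv D19921) (iv F85959)
theorem F122980 : act 2 n28967 = n28967 := d22_1 D28967 (iv D28967) F85960
theorem F122981 : act 6 n28967 = n19914 := d40_1 D28967 (iv D19914) D19913
def n28968 : Q := act 3 n19914
theorem D28968 : act 3 n19914 = n28968 := rfl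
theorem F122982 : act 0 n28968 = n20256 := d2_1 D28968 (iv D20256) (iv F85962)
theorem F122983 : act 1 n28968 = n19922 := d10_1 D28968 (iv D19922) (iv F85963)
theorem F122984 : act 5 n28968 = n19915 := d25_2 (iv F85965) D28968 (iv D19915)
theorem F122985 : act 7 n28968 = n28968 := d27_2 F85966 D28968 (iv D28968)
theorem F122986 : act 8 n28968 = n28968 := d28_2 D19914 D28968 (iv D28968) (iv D19914) F60229
def n28969 : Q := act 9 n19914
theorem D28969 : act 9 n19914 = n28969 := rfl
theorem F122987 : act 0 n28969 = n20257 := d8_1 D28969 (iv D20257) (iv F85962)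
theorem F122988 : act 1 n28969 = n19923 := d16_1 D28969 (iv D19923) (iv F85963)
theorem F122989 : act 2 n28969 = n28969 := d23_1 D28969 (iv D28969) F85964
theorem F122990 : act 5 n28969 = n19916 := d38_1 D28969 (iv D19916) (iv F85965)
theorem F122991 : act 7 n28969 = n28969 := d43_1 D28969 (iv D28969) F85966
def n28970 : Q := act 2 n19915
theorem D28970 : act 2 n19915 = n28970 := rfl
theorem F122992 : act 0 n28970 = n20258 := d1_1 D28970 (iv D20258) (iv F85967)
theorem F122993 : act 3 n28970 = n28970 := d17_2 D19915 D28970 (iv D28970) (iv D19915) F60233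
theorem F122994 : act 7 n28970 = n28970 := d21_2 F85969 D28970 (iv D28970)
theorem F122995 : act 8 n28970 = n28970 := d22_2 F85970 D28970 (iv D28970)
def n28971 : Q := act 4 n19915
theorem D28971 : act 4 n19915 = n28971 := rfl
theorem F122997 : act 1 n28971 = n19924 := d11_1 D28971 (iv D19924) (iv F85968)
theorem F122998 : act 3 n28971 = n21093 := d24_1 D28971 (iv D21093) (iv D14495) (iv F60234) D19915
def n28972 : Q := act 9 n19915
theorem D28972 : act 9 n19915 = n28972 := rfl
theorem F123001 : act 0 n28972 = n20260 := d8_1 D28972 (iv D20260) (iv F85967)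
theorem F123002 : act 1 n28972 = n19925 := d16_1 D28972 (iv D19925) (iv F85968)
theorem F123003 : act 3 n28972 = n19916 := d29_1 D28972 (iv D19916) D19915
theorem F123004 : act 7 n28972 = n28972 := d43_1 D28972 (iv D28972) F85969
def n28973 : Q := act 6 n19917
theorem D28973 : act 6 n19917 = n28973 := rfl
theorem F123005 : act 0 n28973 = n19933 := d5_1 D28973 (iv D19933) (iv F85976)
theorem F123006 : act 2 n28973 = n28973 := d20_1 D28973 (iv D28973) F85977
theorem F123007 : act 3 n28973 = n19918 := d26_1 D28973 (iv D19918) D19917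
theorem F123008 : act 4 n28973 = n28973 := d31_1 D28973 (iv D28973) F85978
def n28974 : Q := act 8 n19917
theorem D28974 : act 8 n19917 = n28974 := rfl
theorem F123009 : act 0 n28974 = n19934 := d7_1 D28974 (iv D19934) (iv F85976)
theorem F123010 : act 2 n28974 = n28974 := d22_1 D28974 (iv D28974) F85977
theorem F123011 : act 4 n28974 = n28974 := d33_1 D28974 (iv D28974) F85978
theorem F123012 : act 5 n28974 = n21096 := d37_1 D28974 (iv D21096) (iv F85979)
theorem F123013 : act 7 n28974 = n28974 := d42_1 D28974 (iv D28974) F85980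
def n28975 : Q := act 5 n19918
theorem D28975 : act 5 n19918 = n28975 := rfl
theorem F123014 : act 0 n28975 = n19935 := d4_1 D28975 (iv D19935) (iv F85981)
theorem F123015 : act 2 n28975 = n19926 := d19_1 D28975 (iv D19926) (iv F85982)
theorem F123016 : act 6 n28975 = n21097 := d35_2 D19918 D28975 (iv D21097) (iv D14498) (iv F60238)
def n28976 : Q := act 7 n19918
theorem D28976 : act 7 n19918 = n28976 := rfl
theorem F123017 : act 0 n28976 = n19936 := d6_1 D28976 (iv D19936) (iv F85981)
theorem F123018 : act 2 n28976 = n19927 := d21_1 D28976 (iv D19927) (iv F85982)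
theorem F123019 : act 4 n28976 = n19920 := d32_1 D28976 (iv D19920) (iv F85983)
theorem F123020 : act 6 n28976 = n28976 := d39_1 D28976 (iv D28976) (iv D19918) F60239 D19918
def n28977 : Q := act 8 n19918
theorem D28977 : act 8 n19918 = n28977 := rfl
theorem F123021 : act 0 n28977 = n19937 := d7_1 D28977 (iv D19937) (iv F85981)
theorem F123022 : act 2 n28977 = n19928 := d22_1 D28977 (iv D19928) (iv F85982)
theorem F123023 : act 4 n28977 = n19921 := d33_1 D28977 (iv D19921) (iv F85983)
theorem F123024 : act 6 n28977 = n19919 := d40_1 D28977 (iv D19919) D19918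
def n28978 : Q := act 3 n19919
theorem D28978 : act 3 n19919 = n28978 := rfl
theorem F123025 : act 0 n28978 = n19938 := d2_1 D28978 (iv D19938) (iv F85984)
theorem F123026 : act 5 n28978 = n21100 := d25_2 (iv F85987) D28978 (iv D21100)
theorem F123027 : act 7 n28978 = n28978 := d27_2 F85988 D28978 (iv D28978)
def n28979 : Q := act 9 n19919
theorem D28979 : act 9 n19919 = n28979 := rfl
theorem F123028 : act 0 n28979 = n19939 := d8_1 D28979 (iv D19939) (iv F85984)
theorem F123029 : act 2 n28979 = n19930 := d23_1 D28979 (iv D19930) (iv F85985)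
theorem F123030 : act 4 n28979 = n19923 := d34_1 D28979 (iv D19923) (iv F85986)
theorem F123031 : act 5 n28979 = n21101 := d38_1 D28979 (iv D21101) (iv F85987)
theorem F123032 : act 7 n28979 = n28979 := d43_1 D28979 (iv D28979) F85988
def n28980 : Q := act 8 n19920
theorem D28980 : act 8 n19920 = n28980 := rfl
theorem F123033 : act 0 n28980 = n19940 := d7_1 D28980 (iv D19940) (iv F85989)
theorem F123034 : act 2 n28980 = n19931 := d22_1 D28980 (iv D19931) (iv F85990)
theorem F123035 : act 6 n28980 = n28980 := d40_1 D28980 (iv D28980) F85992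
theorem F123036 : act 7 n28980 = n19921 := d42_1 D28980 (iv D19921) D19920
def n28981 : Q := act 3 n19921
theorem D28981 : act 3 n19921 = n28981 := rfl
theorem F123037 : act 0 n28981 = n19941 := d2_1 D28981 (iv D19941) (iv F85993)
theorem F123038 : act 6 n28981 = n19922 := d26_2 (iv F85995) D28981 (iv D19922)
theorem F123039 : act 8 n28981 = n28981 := d28_2 D19921 D28981 (iv D28981) (iv D19921) F60242
def n28982 : Q := act 9 n19921
theorem D28982 : act 9 n19921 = n28982 := rfl
theorem F123040 : act 0 n28982 = n19942 := d8_1 D28982 (iv D19942) (iv F85993)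
theorem F123041 : act 2 n28982 = n19932 := d23_1 D28982 (iv D19932) (iv F85994)
theorem F123042 : act 6 n28982 = n19923 := d41_1 D28982 (iv D19923) (iv F85995)
def n28983 : Q := act 4 n19922
theorem D28983 : act 4 n19922 = n28983 := rfl
theorem F123043 : act 0 n28983 = n19943 := d3_1 D28983 (iv D19943) (iv F85996)
theorem F123044 : act 7 n28983 = n28983 := d32_2 F85998 D28983 (iv D28983)
theorem F123045 : act 8 n28983 = n28983 := d33_2 F85999 D28983 (iv D28983)
def n28984 : Q := act 9 n19922
theorem D28984 : act 9 n19922 = n28984 := rfl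
theorem F123046 : act 0 n28984 = n19944 := d8_1 D28984 (iv D19944) (iv F85996)
theorem F123047 : act 3 n28984 = n19923 := d29_1 D28984 (iv D19923) D19922
theorem F123048 : act 5 n28984 = n19925 := d38_1 D28984 (iv D19925) (iv F85997)
theorem F123049 : act 7 n28984 = n28984 := d43_1 D28984 (iv D28984) F85998
def n28985 : Q := act 5 n19924
theorem D28985 : act 5 n19924 = n28985 := rfl
theorem F123050 : act 0 n28985 = n19945 := d4_1 D28985 (iv D19945) (iv F86004)
theorem F123052 : act 7 n28985 = n28985 := d36_2 F86006 D28985 (iv D28985)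
theorem F123053 : act 8 n28985 = n28985 := d37_2 F86007 D28985 (iv D28985)
def n28986 : Q := act 9 n19924
theorem D28986 : act 9 n19924 = n28986 := rfl
theorem F123054 : act 0 n28986 = n19946 := d8_1 D28986 (iv D19946) (iv F86004)
theorem F123056 : act 4 n28986 = n19925 := d34_1 D28986 (iv D19925) D19924
theorem F123057 : act 7 n28986 = n28986 := d43_1 D28986 (iv D28986) F86006
def n28987 : Q := act 8 n19925
theorem D28987 : act 8 n19925 = n28987 := rfl
theorem F123058 : act 0 n28987 = n19947 := d7_1 D28987 (iv D19947) (iv F86008)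
theorem F123059 : act 7 n28987 = n28987 := d42_1 D28987 (iv D28987) F86010
theorem F123060 : act 9 n28987 = n28987 := d44_2 D19925 D28987 (iv D28987) (iv D19925) F60249
def n28988 : Q := act 7 n19926
theorem D28988 : act 7 n19926 = n28988 := rfl
theorem F123061 : act 0 n28988 = n19948 := d6_1 D28988 (iv D19948) (iv F86011)
theorem F123062 : act 1 n28988 = n28988 := d14_1 D28988 (iv D28988) F86012
theorem F123063 : act 3 n28988 = n28988 := d27_1 D28988 (iv D28988) F86013
theorem F123064 : act 5 n28988 = n19927 := d36_1 D28988 (iv D19927) D19926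
def n28989 : Q := act 8 n19926
theorem D28989 : act 8 n19926 = n28989 := rfl
theorem F123065 : act 0 n28989 = n19949 := d7_1 D28989 (iv D19949) (iv F86011)
theorem F123066 : act 1 n28989 = n28989 := d15_1 D28989 (iv D28989) F86012
theorem F123067 : act 5 n28989 = n19928 := d37_1 D28989 (iv D19928) D19926
theorem F123068 : act 6 n28989 = n21111 := d40_1 D28989 (iv D21111) (iv F86014)
def n28990 : Q := act 8 n19927
theorem D28990 : act 8 n19927 = n28990 := rfl
theorem F123069 : act 0 n28990 = n19950 := d7_1 D28990 (iv D19950) (iv F86015)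
theorem F123070 : act 1 n28990 = n28990 := d15_1 D28990 (iv D28990) F86016
theorem F123071 : act 4 n28990 = n19931 := d33_1 D28990 (iv D19931) (iv F86018)
theorem F123072 : act 6 n28990 = n28990 := d40_1 D28990 (iv D28990) F86019
theorem F123073 : act 7 n28990 = n19928 := d42_1 D28990 (iv D19928) D19927
def n28991 : Q := act 3 n19928
theorem D28991 : act 3 n19928 = n28991 := rfl
theorem F123074 : act 0 n28991 = n19951 := d2_1 D28991 (iv D19951) (iv F86020)
theorem F123075 : act 1 n28991 = n28991 := d10_1 D28991 (iv D28991) F86021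
theorem F123076 : act 6 n28991 = n19929 := d26_2 (iv F86023) D28991 (iv D19929)
theorem F123077 : act 8 n28991 = n28991 := d28_2 D19928 D28991 (iv D28991) (iv D19928) F60256
def n28992 : Q := act 9 n19928
theorem D28992 : act 9 n19928 = n28992 := rfl
theorem F123078 : act 0 n28992 = n19952 := d8_1 D28992 (iv D19952) (iv F86020)
theorem F123079 : act 1 n28992 = n28992 := d16_1 D28992 (iv D28992) F86021
theorem F123080 : act 4 n28992 = n19932 := d34_1 D28992 (iv D19932) (iv F86022)
theorem F123081 : act 6 n28992 = n19930 := d41_1 D28992 (iv D19930) (iv F86023)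
def n28993 : Q := act 2 n19929
theorem D28993 : act 2 n19929 = n28993 := rfl
theorem F123082 : act 0 n28993 = n19953 := d1_1 D28993 (iv D19953) (iv F86024)
theorem F123083 : act 5 n28993 = n21115 := d19_2 (iv F86026) D28993 (iv D21115)
theorem F123084 : act 7 n28993 = n28993 := d21_2 F86027 D28993 (iv D28993)
theorem F123085 : act 8 n28993 = n28993 := d22_2 F86028 D28993 (iv D28993)
def n28994 : Q := act 9 n19929
theorem D28994 : act 9 n19929 = n28994 := rfl
theorem F123086 : act 0 n28994 = n19954 := d8_1 D28994 (iv D19954) (iv F86024)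
theorem F123087 : act 1 n28994 = n28994 := d16_1 D28994 (iv D28994) F86025
theorem F123088 : act 3 n28994 = n19930 := d29_1 D28994 (iv D19930) D19929
theorem F123089 : act 5 n28994 = n21116 := d38_1 D28994 (iv D21116) (iv F86026)
theorem F123090 : act 7 n28994 = n28994 := d43_1 D28994 (iv D28994) F86027
def n28995 : Q := act 9 n19931
theorem D28995 : act 9 n19931 = n28995 := rfl
theorem F123091 : act 0 n28995 = n19955 := d8_1 D28995 (iv D19955) (iv F86034)
theorem F123092 : act 1 n28995 = n28995 := d16_1 D28995 (iv D28995) F86035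
theorem F123093 : act 6 n28995 = n28995 := d41_1 D28995 (iv D28995) F86036
theorem F123094 : act 7 n28995 = n19932 := d43_1 D28995 (iv D19932) (iv F86037)
def n28996 : Q := act 5 n19933
theorem D28996 : act 5 n19933 = n28996 := rfl
theorem F123095 : act 1 n28996 = n20284 := d12_1 D28996 (iv D20284) (iv F86041)
theorem F123096 : act 2 n28996 = n28996 := d19_1 D28996 (iv D28996) F86042
theorem F123097 : act 3 n28996 = n19935 := d25_1 D28996 (iv D19935) (iv F86043)
theorem F123098 : act 6 n28996 = n21118 := d35_2 D19933 D28996 (iv D21118) (iv D14513) (iv F60277)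
def n28997 : Q := act 7 n19933
theorem D28997 : act 7 n19933 = n28997 := rfl
theorem F123099 : act 1 n28997 = n20285 := d14_1 D28997 (iv D20285) (iv F86041)
theorem F123100 : act 2 n28997 = n28997 := d21_1 D28997 (iv D28997) F86042
theorem F123101 : act 3 n28997 = n19936 := d27_1 D28997 (iv D19936) (iv F86043)
theorem F123102 : act 4 n28997 = n28997 := d32_1 D28997 (iv D28997) F86044
theorem F123103 : act 6 n28997 = n28997 := d39_1 D28997 (iv D28997) (iv D19933) F60278 D19933
def n28998 : Q := act 8 n19933
theorem D28998 : act 8 n19933 = n28998 := rfl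
theorem F123104 : act 1 n28998 = n20286 := d15_1 D28998 (iv D20286) (iv F86041)
theorem F123105 : act 2 n28998 = n28998 := d22_1 D28998 (iv D28998) F86042
theorem F123106 : act 4 n28998 = n28998 := d33_1 D28998 (iv D28998) F86044
theorem F123107 : act 6 n28998 = n19934 := d40_1 D28998 (iv D19934) D19933
def n28999 : Q := act 3 n19934
theorem D28999 : act 3 n19934 = n28999 := rfl
theorem F123108 : act 1 n28999 = n20287 := d10_1 D28999 (iv D20287) (iv F86045)
theorem F123109 : act 5 n28999 = n21121 := d25_2 (iv F86048) D28999 (iv D21121)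
theorem F123110 : act 7 n28999 = n28999 := d27_2 F86049 D28999 (iv D28999)
theorem F123111 : act 8 n28999 = n19938 := d28_2 D19934 D28999 (iv D19938) (iv D13719) D13717
def n29000 : Q := act 9 n19934
theorem D29000 : act 9 n19934 = n29000 := rfl
theorem F123112 : act 1 n29000 = n20288 := d16_1 D29000 (iv D20288) (iv F86045)
theorem F123113 : act 2 n29000 = n29000 := d23_1 D29000 (iv D29000) F86046
theorem F123114 : act 4 n29000 = n29000 := d34_1 D29000 (iv D29000) F86047
theorem F123115 : act 5 n29000 = n21122 := d38_1 D29000 (iv D21122) (iv F86048)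
theorem F123116 : act 7 n29000 = n29000 := d43_1 D29000 (iv D29000) F86049
def n29001 : Q := act 7 n19935
theorem D29001 : act 7 n19935 = n29001 := rfl
theorem F123117 : act 1 n29001 = n20289 := d14_1 D29001 (iv D20289) (iv F86050)
theorem F123118 : act 2 n29001 = n19948 := d21_1 D29001 (iv D19948) (iv F86051)
theorem F123119 : act 5 n29001 = n19936 := d36_1 D29001 (iv D19936) D19935
def n29002 : Q := act 8 n19935
theorem D29002 : act 8 n19935 = n29002 := rfl
theorem F123120 : act 1 n29002 = n20290 := d15_1 D29002 (iv D20290) (iv F86050)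
theorem F123121 : act 2 n29002 = n19949 := d22_1 D29002 (iv D19949) (iv F86051)
theorem F123122 : act 5 n29002 = n19937 := d37_1 D29002 (iv D19937) D19935
theorem F123123 : act 6 n29002 = n21124 := d40_1 D29002 (iv D21124) (iv F86052)
def n29003 : Q := act 8 n19936
theorem D29003 : act 8 n19936 = n29003 := rfl
theorem F123124 : act 1 n29003 = n20291 := d15_1 D29003 (iv D20291) (iv F86053)
theorem F123125 : act 2 n29003 = n19950 := d22_1 D29003 (iv D19950) (iv F86054)
theorem F123126 : act 4 n29003 = n19940 := d33_1 D29003 (iv D19940) (iv F86055)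
theorem F123127 : act 6 n29003 = n29003 := d40_1 D29003 (iv D29003) F86056
theorem F123128 : act 7 n29003 = n19937 := d42_1 D29003 (iv D19937) D19936
def n29004 : Q := act 3 n19937
theorem D29004 : act 3 n19937 = n29004 := rfl
theorem F123129 : act 1 n29004 = n20292 := d10_1 D29004 (iv D20292) (iv F86057)
theorem F123130 : act 6 n29004 = n19938 := d26_2 (iv F86060) D29004 (iv D19938)
def n29005 : Q := act 9 n19937
theorem D29005 : act 9 n19937 = n29005 := rfl
theorem F123131 : act 1 n29005 = n20293 := d16_1 D29005 (iv D20293) (iv F86057)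
theorem F123132 : act 2 n29005 = n19952 := d23_1 D29005 (iv D19952) (iv F86058)
theorem F123133 : act 4 n29005 = n19942 := d34_1 D29005 (iv D19942) (iv F86059)
theorem F123134 : act 6 n29005 = n19939 := d41_1 D29005 (iv D19939) (iv F86060)
def n29006 : Q := act 2 n19938
theorem D29006 : act 2 n19938 = n29006 := rfl
theorem F123135 : act 3 n29006 = n19953 := d17_2 D19938 D29006 (iv D19953) (iv D13729) (iv F60283)
theorem F123136 : act 5 n29006 = n21128 := d19_2 (iv F86062) D29006 (iv D21128)
theorem F123137 : act 7 n29006 = n29006 := d21_2 F86063 D29006 (iv D29006)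
def n29007 : Q := act 4 n19938
theorem D29007 : act 4 n19938 = n29007 := rfl
theorem F123138 : act 1 n29007 = n20295 := d11_1 D29007 (iv D20295) (iv F86061)
theorem F123139 : act 3 n29007 = n19943 := d24_1 D29007 (iv D19943) (iv D13722) (iv F60284) D19938
theorem F123140 : act 7 n29007 = n29007 := d32_2 F86063 D29007 (iv D29007)
def n29008 : Q := act 9 n19938
theorem D29008 : act 9 n19938 = n29008 := rfl
theorem F123141 : act 1 n29008 = n20296 := d16_1 D29008 (iv D20296) (iv F86061)
theorem F123142 : act 3 n29008 = n19939 := d29_1 D29008 (iv D19939) D19938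
theorem F123143 : act 5 n29008 = n21130 := d38_1 D29008 (iv D21130) (iv F86062)
theorem F123144 : act 7 n29008 = n29008 := d43_1 D29008 (iv D29008) F86063
def n29009 : Q := act 3 n19940
theorem D29009 : act 3 n19940 = n29009 := rfl
theorem F123145 : act 1 n29009 = n20297 := d10_1 D29009 (iv D20297) (iv F86069)
theorem F123146 : act 6 n29009 = n29009 := d26_2 F86071 D29009 (iv D29009)
theorem F123147 : act 7 n29009 = n19941 := d27_2 (iv F86072) D29009 (iv D19941)
theorem F123148 : act 8 n29009 = n29009 := d28_2 D19940 D29009 (iv D29009) (iv D19940) F60289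
def n29010 : Q := act 9 n19940
theorem D29010 : act 9 n19940 = n29010 := rfl
theorem F123149 : act 1 n29010 = n20298 := d16_1 D29010 (iv D20298) (iv F86069)
theorem F123150 : act 2 n29010 = n19955 := d23_1 D29010 (iv D19955) (iv F86070)
theorem F123151 : act 6 n29010 = n29010 := d41_1 D29010 (iv D29010) F86071
theorem F123152 : act 7 n29010 = n19942 := d43_1 D29010 (iv D19942) (iv F86072)
def n29011 : Q := act 4 n19941
theorem D29011 : act 4 n19941 = n29011 := rfl
theorem F123153 : act 1 n29011 = n20299 := d11_1 D29011 (iv D20299) (iv F86073)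
theorem F123154 : act 6 n29011 = n19943 := d31_2 (iv F86074) D29011 (iv D19943)
theorem F123155 : act 8 n29011 = n29011 := d33_2 F86075 D29011 (iv D29011)
def n29012 : Q := act 9 n19941
theorem D29012 : act 9 n19941 = n29012 := rfl
theorem F123156 : act 1 n29012 = n20300 := d16_1 D29012 (iv D20300) (iv F86073)
theorem F123157 : act 3 n29012 = n19942 := d29_1 D29012 (iv D19942) D19941
theorem F123158 : act 6 n29012 = n19944 := d41_1 D29012 (iv D19944) (iv F86074)
def n29013 : Q := act 5 n19943
theorem D29013 : act 5 n19943 = n29013 := rfl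
theorem F123159 : act 1 n29013 = n20301 := d12_1 D29013 (iv D20301) (iv F86079)
theorem F123160 : act 4 n29013 = n19945 := d30_1 D29013 (iv D19945) (iv D13724) (iv F60295) D19943
theorem F123161 : act 7 n29013 = n29013 := d36_2 F86080 D29013 (iv D29013)
theorem F123162 : act 8 n29013 = n29013 := d37_2 F86081 D29013 (iv D29013)
def n29014 : Q := act 9 n19943
theorem D29014 : act 9 n19943 = n29014 := rfl
theorem F123163 : act 1 n29014 = n20302 := d16_1 D29014 (iv D20302) (iv F86079)
theorem F123164 : act 4 n29014 = n19944 := d34_1 D29014 (iv D19944) D19943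
theorem F123165 : act 7 n29014 = n29014 := d43_1 D29014 (iv D29014) F86080
def n29015 : Q := act 8 n19944
theorem D29015 : act 8 n19944 = n29015 := rfl
theorem F123166 : act 1 n29015 = n20303 := d15_1 D29015 (iv D20303) (iv F86082)
theorem F123167 : act 5 n29015 = n19947 := d37_1 D29015 (iv D19947) (iv F86084)
theorem F123168 : act 7 n29015 = n29015 := d42_1 D29015 (iv D29015) F86085
theorem F123169 : act 9 n29015 = n29015 := d44_2 D19944 D29015 (iv D29015) (iv D19944) F60297
def n29016 : Q := act 6 n19945
theorem D29016 : act 6 n19945 = n29016 := rfl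
theorem F123170 : act 1 n29016 = n20304 := d13_1 D29016 (iv D20304) (iv F86086)
theorem F123171 : act 3 n29016 = n21138 := d26_1 D29016 (iv D21138) (iv F86087)
theorem F123172 : act 8 n29016 = n29016 := d40_2 F86089 D29016 (iv D29016)
def n29017 : Q := act 9 n19945
theorem D29017 : act 9 n19945 = n29017 := rfl
theorem F123173 : act 1 n29017 = n20305 := d16_1 D29017 (iv D20305) (iv F86086)
theorem F123174 : act 3 n29017 = n21139 := d29_1 D29017 (iv D21139) (iv F86087)
theorem F123175 : act 5 n29017 = n19946 := d38_1 D29017 (iv D19946) D19945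
theorem F123176 : act 7 n29017 = n29017 := d43_1 D29017 (iv D29017) F86088
def n29018 : Q := act 8 n19946
theorem D29018 : act 8 n19946 = n29018 := rfl
theorem F123177 : act 1 n29018 = n20306 := d15_1 D29018 (iv D20306) (iv F86090)
theorem F123178 : act 4 n29018 = n19947 := d33_1 D29018 (iv D19947) (iv F86092)
theorem F123179 : act 7 n29018 = n29018 := d42_1 D29018 (iv D29018) F86093
theorem F123180 : act 9 n29018 = n29018 := d44_2 D19946 D29018 (iv D29018) (iv D19946) F60305
def n29019 : Q := act 6 n19948
theorem D29019 : act 6 n19948 = n29019 := rfl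
theorem F123181 : act 1 n29019 = n19956 := d13_1 D29019 (iv D19956) (iv F86097)
theorem F123182 : act 3 n29019 = n29019 := d26_1 D29019 (iv D29019) F86098
theorem F123183 : act 5 n29019 = n29019 := d35_1 D29019 (iv D29019) F86099 F60315 (iv F86099)
theorem F123184 : act 7 n29019 = n21141 := d39_2 D19948 D29019 (iv D21141) (iv D14528) (iv F60311)
def n29020 : Q := act 8 n19948
theorem D29020 : act 8 n19948 = n29020 := rfl
theorem F123185 : act 1 n29020 = n19957 := d15_1 D29020 (iv D19957) (iv F86097)
theorem F123186 : act 5 n29020 = n19950 := d37_1 D29020 (iv D19950) (iv F86099)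
theorem F123187 : act 7 n29020 = n19949 := d42_1 D29020 (iv D19949) D19948
def n29021 : Q := act 3 n19949
theorem D29021 : act 3 n19949 = n29021 := rfl
theorem F123188 : act 1 n29021 = n19958 := d10_1 D29021 (iv D19958) (iv F86100)
theorem F123189 : act 5 n29021 = n19951 := d25_2 (iv F86101) D29021 (iv D19951)
theorem F123190 : act 6 n29021 = n21143 := d26_2 (iv F86102) D29021 (iv D21143)
theorem F123191 : act 8 n29021 = n29021 := d28_2 D19949 D29021 (iv D29021) (iv D19949) F60310
def n29022 : Q := act 9 n19949
theorem D29022 : act 9 n19949 = n29022 := rfl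
theorem F123192 : act 1 n29022 = n19959 := d16_1 D29022 (iv D19959) (iv F86100)
theorem F123193 : act 5 n29022 = n19952 := d38_1 D29022 (iv D19952) (iv F86101)
theorem F123194 : act 6 n29022 = n21144 := d41_1 D29022 (iv D21144) (iv F86102)
def n29023 : Q := act 3 n19950
theorem D29023 : act 3 n19950 = n29023 := rfl
theorem F123195 : act 1 n29023 = n19960 := d10_1 D29023 (iv D19960) (iv F86103)
theorem F123196 : act 6 n29023 = n29023 := d26_2 F86105 D29023 (iv D29023)
theorem F123197 : act 7 n29023 = n19951 := d27_2 (iv F86106) D29023 (iv D19951)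
theorem F123198 : act 8 n29023 = n29023 := d28_2 D19950 D29023 (iv D29023) (iv D19950) F60313
def n29024 : Q := act 9 n19950
theorem D29024 : act 9 n19950 = n29024 := rfl
theorem F123199 : act 1 n29024 = n19961 := d16_1 D29024 (iv D19961) (iv F86103)
theorem F123200 : act 4 n29024 = n19955 := d34_1 D29024 (iv D19955) (iv F86104)
theorem F123201 : act 6 n29024 = n29024 := d41_1 D29024 (iv D29024) F86105
theorem F123202 : act 7 n29024 = n19952 := d43_1 D29024 (iv D19952) (iv F86106)
def n29025 : Q := act 2 n19951
theorem D29025 : act 2 n19951 = n29025 := rfl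
theorem F123203 : act 6 n29025 = n19953 := d20_2 (iv F86108) D29025 (iv D19953)
theorem F123204 : act 8 n29025 = n29025 := d22_2 F86109 D29025 (iv D29025)
def n29026 : Q := act 9 n19951
theorem D29026 : act 9 n19951 = n29026 := rfl
theorem F123205 : act 1 n29026 = n19963 := d16_1 D29026 (iv D19963) (iv F86107)
theorem F123206 : act 3 n29026 = n19952 := d29_1 D29026 (iv D19952) D19951
theorem F123207 : act 6 n29026 = n19954 := d41_1 D29026 (iv D19954) (iv F86108)
def n29027 : Q := act 1 n19953
theorem D29027 : act 1 n19953 = n29027 := rfl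
theorem F123208 : act 2 n29027 = n19964 := d9_2 D19953 D29027 (iv D19964) (iv D13738) (iv F60319)
theorem F123209 : act 5 n29027 = n21149 := d12_2 (iv F86113) D29027 (iv D21149)
theorem F123210 : act 7 n29027 = n29027 := d14_2 F86114 D29027 (iv D29027)
theorem F123211 : act 8 n29027 = n29027 := d15_2 F86115 D29027 (iv D29027)
def n29028 : Q := act 9 n19953
theorem D29028 : act 9 n19953 = n29028 := rfl
theorem F123212 : act 2 n29028 = n19954 := d23_1 D29028 (iv D19954) D19953
theorem F123213 : act 5 n29028 = n21150 := d38_1 D29028 (iv D21150) (iv F86113)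
theorem F123214 : act 7 n29028 = n29028 := d43_1 D29028 (iv D29028) F86114
def n29029 : Q := act 8 n19954
theorem D29029 : act 8 n19954 = n29029 := rfl
theorem F123215 : act 1 n29029 = n19966 := d15_1 D29029 (iv D19966) (iv F86116)
theorem F123216 : act 5 n29029 = n21151 := d37_1 D29029 (iv D21151) (iv F86118)
theorem F123217 : act 7 n29029 = n29029 := d42_1 D29029 (iv D29029) F86119
theorem F123218 : act 9 n29029 = n29029 := d44_2 D19954 D29029 (iv D29029) (iv D19954) F60322
def n29030 : Q := act 8 n19956
theorem D29030 : act 8 n19956 = n29030 := rfl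
theorem F123219 : act 0 n29030 = n29030 := d7_1 D29030 (iv D29030) F86123
theorem F123220 : act 2 n29030 = n20318 := d22_1 D29030 (iv D20318) (iv F86124)
theorem F123221 : act 5 n29030 = n29030 := d37_1 D29030 (iv D29030) F86126
theorem F123222 : act 6 n29030 = n19957 := d40_1 D29030 (iv D19957) D19956
theorem F123223 : act 7 n29030 = n21152 := d42_1 D29030 (iv D21152) (iv F86127)
def n29031 : Q := act 3 n19957
theorem D29031 : act 3 n19957 = n29031 := rfl
theorem F123224 : act 0 n29031 = n29031 := d2_1 D29031 (iv D29031) F86128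
theorem F123225 : act 5 n29031 = n19960 := d25_2 (iv F86130) D29031 (iv D19960)
theorem F123226 : act 7 n29031 = n19958 := d27_2 (iv F86131) D29031 (iv D19958)
theorem F123227 : act 8 n29031 = n29031 := d28_2 D19957 D29031 (iv D29031) (iv D19957) F60334
def n29032 : Q := act 9 n19957
theorem D29032 : act 9 n19957 = n29032 := rfl
theorem F123228 : act 0 n29032 = n29032 := d8_1 D29032 (iv D29032) F86128
theorem F123229 : act 2 n29032 = n20320 := d23_1 D29032 (iv D20320) (iv F86129)
theorem F123230 : act 5 n29032 = n19961 := d38_1 D29032 (iv D19961) (iv F86130)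
theorem F123231 : act 7 n29032 = n19959 := d43_1 D29032 (iv D19959) (iv F86131)
def n29033 : Q := act 2 n19958
theorem D29033 : act 2 n19958 = n29033 := rfl
theorem F123232 : act 0 n29033 = n29033 := d1_1 D29033 (iv D29033) F86132
theorem F123233 : act 3 n29033 = n20321 := d17_2 D19958 D29033 (iv D20321) (iv D13977) (iv F60337)
theorem F123234 : act 5 n29033 = n19962 := d19_2 (iv F86133) D29033 (iv D19962)
theorem F123235 : act 6 n29033 = n21155 := d20_2 (iv F86134) D29033 (iv D21155)
theorem F123236 : act 8 n29033 = n29033 := d22_2 F86135 D29033 (iv D29033)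
def n29034 : Q := act 4 n19958
theorem D29034 : act 4 n19958 = n29034 := rfl
theorem F123237 : act 0 n29034 = n29034 := d3_1 D29034 (iv D29034) F86132
theorem F123238 : act 6 n29034 = n21156 := d31_2 (iv F86134) D29034 (iv D21156)
theorem F123239 : act 8 n29034 = n29034 := d33_2 F86135 D29034 (iv D29034)
def n29035 : Q := act 9 n19958
theorem D29035 : act 9 n19958 = n29035 := rfl
theorem F123240 : act 0 n29035 = n29035 := d8_1 D29035 (iv D29035) F86132
theorem F123241 : act 3 n29035 = n19959 := d29_1 D29035 (iv D19959) D19958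
theorem F123242 : act 5 n29035 = n19963 := d38_1 D29035 (iv D19963) (iv F86133)
theorem F123243 : act 6 n29035 = n21157 := d41_1 D29035 (iv D21157) (iv F86134)
def n29036 : Q := act 2 n19960
theorem D29036 : act 2 n19960 = n29036 := rfl
theorem F123244 : act 0 n29036 = n29036 := d1_1 D29036 (iv D29036) F86140
theorem F123245 : act 3 n29036 = n20324 := d17_2 D19960 D29036 (iv D20324) (iv D13979) (iv F60341)
theorem F123246 : act 6 n29036 = n29036 := d20_2 F86141 D29036 (iv D29036)
theorem F123247 : act 7 n29036 = n19962 := d21_2 (iv F86142) D29036 (iv D19962)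
theorem F123248 : act 8 n29036 = n29036 := d22_2 F86143 D29036 (iv D29036)
def n29037 : Q := act 9 n19960
theorem D29037 : act 9 n19960 = n29037 := rfl
theorem F123249 : act 0 n29037 = n29037 := d8_1 D29037 (iv D29037) F86140
theorem F123250 : act 3 n29037 = n19961 := d29_1 D29037 (iv D19961) D19960
theorem F123251 : act 6 n29037 = n29037 := d41_1 D29037 (iv D29037) F86141
theorem F123252 : act 7 n29037 = n19963 := d43_1 D29037 (iv D19963) (iv F86142)
def n29038 : Q := act 1 n19962
theorem D29038 : act 1 n19962 = n29038 := rfl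
theorem F123253 : act 3 n29038 = n20326 := d10_2 (iv F86150) D29038 (iv D20326)
theorem F123254 : act 6 n29038 = n19964 := d13_2 (iv F86151) D29038 (iv D19964)
theorem F123255 : act 8 n29038 = n29038 := d15_2 F86152 D29038 (iv D29038)
def n29039 : Q := act 9 n19962
theorem D29039 : act 9 n19962 = n29039 := rfl
theorem F123256 : act 0 n29039 = n29039 := d8_1 D29039 (iv D29039) F86149
theorem F123257 : act 2 n29039 = n19963 := d23_1 D29039 (iv D19963) D19962
theorem F123258 : act 3 n29039 = n20327 := d29_1 D29039 (iv D20327) (iv F86150)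
theorem F123259 : act 6 n29039 = n19965 := d41_1 D29039 (iv D19965) (iv F86151)
def n29040 : Q := act 8 n19963
theorem D29040 : act 8 n19963 = n29040 := rfl
theorem F123260 : act 0 n29040 = n29040 := d7_1 D29040 (iv D29040) F86153
theorem F123261 : act 6 n29040 = n19966 := d40_1 D29040 (iv D19966) (iv F86155)
theorem F123262 : act 9 n29040 = n29040 := d44_2 D19963 D29040 (iv D29040) (iv D19963) F60347
def n29041 : Q := act 0 n19964
theorem D29041 : act 0 n19964 = n29041 := rfl
theorem F123263 : act 1 n29041 = n29041 := d0_2 D19964 D29041 (iv D29041) (iv D19964) F60352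
theorem F123264 : act 3 n29041 = n20329 := d2_2 (iv F86156) D29041 (iv D20329)
theorem F123265 : act 5 n29041 = n21163 := d4_2 (iv F86157) D29041 (iv D21163)
theorem F123266 : act 7 n29041 = n29041 := d6_2 F86158 D29041 (iv D29041)
theorem F123267 : act 8 n29041 = n29041 := d7_2 F86159 D29041 (iv D29041)
def n29042 : Q := act 9 n19964
theorem D29042 : act 9 n19964 = n29042 := rfl
theorem F123268 : act 1 n29042 = n19965 := d16_1 D29042 (iv D19965) D19964
theorem F123269 : act 3 n29042 = n20330 := d29_1 D29042 (iv D20330) (iv F86156)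
theorem F123270 : act 5 n29042 = n21164 := d38_1 D29042 (iv D21164) (iv F86157)
theorem F123271 : act 7 n29042 = n29042 := d43_1 D29042 (iv D29042) F86158
def n29043 : Q := act 8 n19965
theorem D29043 : act 8 n19965 = n29043 := rfl
theorem F123272 : act 0 n29043 = n29043 := d7_1 D29043 (iv D29043) F86160
theorem F123273 : act 2 n29043 = n19966 := d22_1 D29043 (iv D19966) (iv F86161)
theorem F123274 : act 5 n29043 = n21165 := d37_1 D29043 (iv D21165) (iv F86163)
theorem F123275 : act 7 n29043 = n29043 := d42_1 D29043 (iv D29043) F86164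
theorem F123276 : act 9 n29043 = n29043 := d44_2 D19965 D29043 (iv D29043) (iv D19965) F60356
def n29044 : Q := act 1 n19967
theorem D29044 : act 1 n19967 = n29044 := rfl
theorem F123277 : act 0 n29044 = n29044 := d0_1 D29044 (iv D29044) F86169 F60378 (iv F86169)
theorem F123278 : act 2 n29044 = n29044 := d9_2 D19967 D29044 (iv D29044) (iv D19967) F60366
theorem F123279 : act 3 n29044 = n29044 := d10_2 F86170 D29044 (iv D29044)
theorem F123280 : act 4 n29044 = n29044 := d11_2 F86171 D29044 (iv D29044)
theorem F123281 : act 6 n29044 = n29044 := d13_2 F86172 D29044 (iv D29044)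
theorem F123282 : act 7 n29044 = n20044 := d14_2 (iv F86173) D29044 (iv D20044)
theorem F123283 : act 9 n29044 = n29044 := d16_2 F86174 D29044 (iv D29044)
def n29045 : Q := act 5 n19967
theorem D29045 : act 5 n19967 = n29045 := rfl
theorem F123284 : act 0 n29045 = n19971 := d4_1 D29045 (iv D19971) (iv F86169)
theorem F123285 : act 2 n29045 = n19968 := d19_1 D29045 (iv D19968) D19967
theorem F123286 : act 3 n29045 = n29045 := d25_1 D29045 (iv D29045) F86170
theorem F123287 : act 7 n29045 = n20045 := d36_2 (iv F86173) D29045 (iv D20045)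
theorem F123288 : act 9 n29045 = n29045 := d38_2 F86174 D29045 (iv D29045)
def n29046 : Q := act 8 n19967
theorem D29046 : act 8 n19967 = n29046 := rfl
theorem F123289 : act 0 n29046 = n19972 := d7_1 D29046 (iv D19972) (iv F86169)
theorem F123290 : act 2 n29046 = n19969 := d22_1 D29046 (iv D19969) D19967
theorem F123291 : act 4 n29046 = n29046 := d33_1 D29046 (iv D29046) F86171
theorem F123292 : act 6 n29046 = n29046 := d40_1 D29046 (iv D29046) F86172
theorem F123293 : act 7 n29046 = n20046 := d42_1 D29046 (iv D20046) (iv F86173)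
def n29047 : Q := act 4 n19968
theorem D29047 : act 4 n19968 = n29047 := rfl
theorem F123294 : act 0 n29047 = n19973 := d3_1 D29047 (iv D19973) (iv F86175)
theorem F123295 : act 1 n29047 = n29047 := d11_1 D29047 (iv D29047) F86176
theorem F123296 : act 3 n29047 = n29047 := d24_1 D29047 (iv D29047) F86177 F60374 (iv F86177)
theorem F123297 : act 5 n29047 = n29047 := d30_2 D19968 D29047 (iv D29047) (iv D19968) F60367
theorem F123298 : act 7 n29047 = n20047 := d32_2 (iv F86178) D29047 (iv D20047)
theorem F123299 : act 9 n29047 = n29047 := d34_2 F86179 D29047 (iv D29047)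
def n29048 : Q := act 6 n19968
theorem D29048 : act 6 n19968 = n29048 := rfl
theorem F123300 : act 0 n29048 = n19974 := d5_1 D29048 (iv D19974) (iv F86175)
theorem F123301 : act 1 n29048 = n29048 := d13_1 D29048 (iv D29048) F86176
theorem F123302 : act 3 n29048 = n19970 := d26_1 D29048 (iv D19970) (iv F86177)
theorem F123303 : act 5 n29048 = n29048 := d35_1 D29048 (iv D29048) (iv D19968) F60368 D19968
theorem F123304 : act 9 n29048 = n29048 := d41_2 F86179 D29048 (iv D29048)
def n29049 : Q := act 8 n19968
theorem D29049 : act 8 n19968 = n29049 := rfl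
theorem F123305 : act 0 n29049 = n19975 := d7_1 D29049 (iv D19975) (iv F86175)
theorem F123306 : act 1 n29049 = n29049 := d15_1 D29049 (iv D29049) F86176
theorem F123307 : act 3 n29049 = n19988 := d28_1 D29049 (iv D19988) F60437 (iv F60376) (iv F86177)
theorem F123308 : act 5 n29049 = n19969 := d37_1 D29049 (iv D19969) D19968
theorem F123309 : act 7 n29049 = n20049 := d42_1 D29049 (iv D20049) (iv F86178)
def n29050 : Q := act 9 n19969
theorem D29050 : act 9 n19969 = n29050 := rfl
theorem F123310 : act 0 n29050 = n19976 := d8_1 D29050 (iv D19976) (iv F86180)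
theorem F123311 : act 1 n29050 = n29050 := d16_1 D29050 (iv D29050) F86181
theorem F123312 : act 3 n29050 = n19989 := d29_1 D29050 (iv D19989) (iv F86182)
theorem F123313 : act 4 n29050 = n29050 := d34_1 D29050 (iv D29050) F86183
theorem F123314 : act 6 n29050 = n29050 := d41_1 D29050 (iv D29050) F86184
theorem F123315 : act 7 n29050 = n20050 := d43_1 D29050 (iv D20050) (iv F86185)
theorem F123316 : act 8 n29050 = n29050 := d44_1 D29050 (iv D29050) (iv D19969) F60370 D19969
def n29051 : Q := act 7 n19970
theorem D29051 : act 7 n19970 = n29051 := rfl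
theorem F123317 : act 0 n29051 = n19977 := d6_1 D29051 (iv D19977) (iv F86186)
theorem F123318 : act 1 n29051 = n29051 := d14_1 D29051 (iv D29051) F86187
theorem F123319 : act 2 n29051 = n29051 := d21_1 D29051 (iv D29051) F86188
theorem F123320 : act 4 n29051 = n29051 := d32_1 D29051 (iv D29051) F86189
theorem F123321 : act 5 n29051 = n29051 := d36_1 D29051 (iv D29051) F86190
theorem F123322 : act 6 n29051 = n20051 := d39_1 D29051 (iv D20051) (iv D13796) (iv F60375) D19970
theorem F123323 : act 8 n29051 = n19990 := d42_2 (iv F86191) D29051 (iv D19990)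
theorem F123324 : act 9 n29051 = n29051 := d43_2 F86192 D29051 (iv D29051)
def n29052 : Q := act 4 n19971
theorem D29052 : act 4 n19971 = n29052 := rfl
theorem F123326 : act 2 n29052 = n19973 := d18_1 D29052 (iv D19973) (iv F86194)
theorem F123328 : act 7 n29052 = n20052 := d32_2 (iv F86196) D29052 (iv D20052)
def n29053 : Q := act 6 n19971
theorem D29053 : act 6 n19971 = n29053 := rfl
theorem F123331 : act 2 n29053 = n19974 := d20_1 D29053 (iv D19974) (iv F86194)
def n29054 : Q := act 8 n19971
theorem D29054 : act 8 n19971 = n29054 := rfl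
theorem F123335 : act 1 n29054 = n29054 := d15_1 D29054 (iv D29054) F86193
theorem F123336 : act 2 n29054 = n19975 := d22_1 D29054 (iv D19975) (iv F86194)
theorem F123337 : act 5 n29054 = n19972 := d37_1 D29054 (iv D19972) D19971
theorem F123338 : act 7 n29054 = n20054 := d42_1 D29054 (iv D20054) (iv F86196)
def n29055 : Q := act 3 n19972
theorem D29055 : act 3 n19972 = n29055 := rfl
theorem F123339 : act 1 n29055 = n29055 := d10_1 D29055 (iv D29055) F86198
theorem F123340 : act 2 n29055 = n19994 := d17_1 D29055 (iv D19994) F60455 (iv F60389) (iv F86199)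
theorem F123341 : act 6 n29055 = n29055 := d26_2 F86201 D29055 (iv D29055)
theorem F123342 : act 7 n29055 = n20055 := d27_2 (iv F86202) D29055 (iv D20055)
theorem F123343 : act 8 n29055 = n29055 := d28_2 D19972 D29055 (iv D29055) (iv D19972) F60379
def n29056 : Q := act 9 n19972
theorem D29056 : act 9 n19972 = n29056 := rfl
theorem F123344 : act 1 n29056 = n29056 := d16_1 D29056 (iv D29056) F86198
theorem F123345 : act 2 n29056 = n19976 := d23_1 D29056 (iv D19976) (iv F86199)
theorem F123346 : act 4 n29056 = n29056 := d34_1 D29056 (iv D29056) F86200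
theorem F123347 : act 6 n29056 = n29056 := d41_1 D29056 (iv D29056) F86201
theorem F123348 : act 7 n29056 = n20056 := d43_1 D29056 (iv D20056) (iv F86202)
theorem F123349 : act 8 n29056 = n29056 := d44_1 D29056 (iv D29056) (iv D19972) F60383 D19972
def n29057 : Q := act 6 n19973
theorem D29057 : act 6 n19973 = n29057 := rfl
theorem F123350 : act 1 n29057 = n19978 := d13_1 D29057 (iv D19978) (iv F86203)
theorem F123352 : act 4 n29057 = n19974 := d31_1 D29057 (iv D19974) D19973
def n29058 : Q := act 8 n19973
theorem D29058 : act 8 n19973 = n29058 := rfl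
theorem F123354 : act 1 n29058 = n19979 := d15_1 D29058 (iv D19979) (iv F86203)
theorem F123355 : act 4 n29058 = n19975 := d33_1 D29058 (iv D19975) D19973
theorem F123356 : act 5 n29058 = n29058 := d37_1 D29058 (iv D29058) F86205
theorem F123357 : act 7 n29058 = n20058 := d42_1 D29058 (iv D20058) (iv F86206)
def n29059 : Q := act 7 n19974
theorem D29059 : act 7 n19974 = n29059 := rfl
theorem F123358 : act 1 n29059 = n19980 := d14_1 D29059 (iv D19980) (iv F86208)
theorem F123359 : act 3 n29059 = n19977 := d27_1 D29059 (iv D19977) (iv F86209)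
theorem F123360 : act 5 n29059 = n29059 := d36_1 D29059 (iv D29059) F86210
theorem F123361 : act 6 n29059 = n20059 := d39_1 D29059 (iv D20059) (iv D13800) (iv F60386) D19974
theorem F123362 : act 9 n29059 = n29059 := d43_2 F86211 D29059 (iv D29059)
def n29060 : Q := act 8 n19974
theorem D29060 : act 8 n19974 = n29060 := rfl
theorem F123363 : act 1 n29060 = n19981 := d15_1 D29060 (iv D19981) (iv F86208)
theorem F123364 : act 3 n29060 = n19999 := d28_1 D29060 (iv D19999) F60465 (iv F60397) (iv F86209)
theorem F123365 : act 5 n29060 = n29060 := d37_1 D29060 (iv D29060) F86210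
theorem F123366 : act 6 n29060 = n19975 := d40_1 D29060 (iv D19975) D19974
def n29061 : Q := act 9 n19975
theorem D29061 : act 9 n19975 = n29061 := rfl
theorem F123367 : act 1 n29061 = n19982 := d16_1 D29061 (iv D19982) (iv F86212)
theorem F123368 : act 3 n29061 = n20000 := d29_1 D29061 (iv D20000) (iv F86213)
theorem F123369 : act 5 n29061 = n19976 := d38_1 D29061 (iv D19976) (iv F86214)
theorem F123370 : act 7 n29061 = n20061 := d43_1 D29061 (iv D20061) (iv F86215)
theorem F123371 : act 8 n29061 = n29061 := d44_1 D29061 (iv D29061) (iv D19975) F60387 D19975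
def n29062 : Q := act 5 n19978
theorem D29062 : act 5 n19978 = n29062 := rfl
def n29063 : Q := act 7 n19978
theorem D29063 : act 7 n19978 = n29063 := rfl
theorem F123378 : act 0 n29063 = n29063 := d6_1 D29063 (iv D29063) F86229
theorem F123379 : act 2 n29063 = n29063 := d21_1 D29063 (iv D29063) F86230
theorem F123380 : act 3 n29063 = n29063 := d27_1 D29063 (iv D29063) F86231
theorem F123381 : act 4 n29063 = n19980 := d32_1 D29063 (iv D19980) (iv F86232)
theorem F123382 : act 6 n29063 = n20063 := d39_1 D29063 (iv D20063) (iv D13804) (iv F60403) D19978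
theorem F123383 : act 9 n29063 = n29063 := d43_2 F86233 D29063 (iv D29063)
def n29064 : Q := act 8 n19978
theorem D29064 : act 8 n19978 = n29064 := rfl
theorem F123384 : act 0 n29064 = n29064 := d7_1 D29064 (iv D29064) F86229
theorem F123385 : act 2 n29064 = n29064 := d22_1 D29064 (iv D29064) F86230
theorem F123386 : act 4 n29064 = n19981 := d33_1 D29064 (iv D19981) (iv F86232)
theorem F123387 : act 6 n29064 = n19979 := d40_1 D29064 (iv D19979) D19978
def n29065 : Q := act 3 n19979
theorem D29065 : act 3 n19979 = n29065 := rfl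
theorem F123388 : act 0 n29065 = n29065 := d2_1 D29065 (iv D29065) F86234
theorem F123389 : act 4 n29065 = n20004 := d24_2 (iv F86236) D29065 (iv D20004) F60487 (iv F60412)
theorem F123390 : act 5 n29065 = n29065 := d25_2 F86237 D29065 (iv D29065)
theorem F123391 : act 7 n29065 = n20065 := d27_2 (iv F86238) D29065 (iv D20065)
theorem F123392 : act 8 n29065 = n29065 := d28_2 D19979 D29065 (iv D29065) (iv D19979) F60401
def n29066 : Q := act 9 n19979
theorem D29066 : act 9 n19979 = n29066 := rfl
theorem F123393 : act 0 n29066 = n29066 := d8_1 D29066 (iv D29066) F86234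
theorem F123394 : act 2 n29066 = n29066 := d23_1 D29066 (iv D29066) F86235
theorem F123395 : act 4 n29066 = n19982 := d34_1 D29066 (iv D19982) (iv F86236)
theorem F123396 : act 5 n29066 = n29066 := d38_1 D29066 (iv D29066) F86237
theorem F123397 : act 7 n29066 = n20066 := d43_1 D29066 (iv D20066) (iv F86238)
theorem F123398 : act 8 n29066 = n29066 := d44_1 D29066 (iv D29066) (iv D19979) F60404 D19979
def n29067 : Q := act 8 n19980
theorem D29067 : act 8 n19980 = n29067 := rfl
theorem F123399 : act 0 n29067 = n29067 := d7_1 D29067 (iv D29067) F86239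
theorem F123400 : act 2 n29067 = n29067 := d22_1 D29067 (iv D29067) F86240
theorem F123401 : act 3 n29067 = n20006 := d28_1 D29067 (iv D20006) F60491 (iv F60427) (iv F86241)
theorem F123402 : act 5 n29067 = n29067 := d37_1 D29067 (iv D29067) F86242
theorem F123403 : act 6 n29067 = n20067 := d40_1 D29067 (iv D20067) (iv F86243)
theorem F123404 : act 7 n29067 = n19981 := d42_1 D29067 (iv D19981) D19980
def n29068 : Q := act 9 n19981
theorem D29068 : act 9 n19981 = n29068 := rfl
theorem F123405 : act 0 n29068 = n29068 := d8_1 D29068 (iv D29068) F86245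
theorem F123406 : act 2 n29068 = n29068 := d23_1 D29068 (iv D29068) F86246
theorem F123407 : act 3 n29068 = n20007 := d29_1 D29068 (iv D20007) (iv F86247)
theorem F123408 : act 5 n29068 = n29068 := d38_1 D29068 (iv D29068) F86248
theorem F123409 : act 6 n29068 = n19982 := d41_1 D29068 (iv D19982) (iv F86249)
theorem F123410 : act 8 n29068 = n29068 := d44_1 D29068 (iv D29068) (iv D19981) F60409 D19981
def n29069 : Q := act 5 n19983
theorem D29069 : act 5 n19983 = n29069 := rfl
theorem F123411 : act 1 n29069 = n19984 := d12_1 D29069 (iv D19984) D19983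
theorem F123412 : act 2 n29069 = n29069 := d19_1 D29069 (iv D29069) F86256
theorem F123413 : act 3 n29069 = n29069 := d25_1 D29069 (iv D29069) F86257
theorem F123414 : act 7 n29069 = n20069 := d36_2 (iv F86260) D29069 (iv D20069)
theorem F123415 : act 9 n29069 = n20008 := d38_2 (iv F86261) D29069 (iv D20008)
def n29070 : Q := act 8 n19983
theorem D29070 : act 8 n19983 = n29070 := rfl
theorem F123416 : act 1 n29070 = n19985 := d15_1 D29070 (iv D19985) D19983
theorem F123417 : act 2 n29070 = n29070 := d22_1 D29070 (iv D29070) F86256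
theorem F123419 : act 6 n29070 = n29070 := d40_1 D29070 (iv D29070) F86259
theorem F123420 : act 7 n29070 = n20070 := d42_1 D29070 (iv D20070) (iv F86260)
def n29071 : Q := act 4 n19984
theorem D29071 : act 4 n19984 = n29071 := rfl
theorem F123421 : act 0 n29071 = n19991 := d3_1 D29071 (iv D19991) (iv F86262)
theorem F123422 : act 2 n29071 = n19986 := d18_1 D29071 (iv D19986) (iv F86263)
theorem F123423 : act 5 n29071 = n21168 := d30_2 D19984 D29071 (iv D21168) (iv D14548) (iv F60431)
theorem F123424 : act 7 n29071 = n20071 := d32_2 (iv F86265) D29071 (iv D20071)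
theorem F123425 : act 9 n29071 = n20010 := d34_2 (iv F86266) D29071 (iv D20010)
def n29072 : Q := act 6 n19984
theorem D29072 : act 6 n19984 = n29072 := rfl
theorem F123426 : act 0 n29072 = n19992 := d5_1 D29072 (iv D19992) (iv F86262)
theorem F123427 : act 2 n29072 = n19987 := d20_1 D29072 (iv D19987) (iv F86263)
theorem F123428 : act 3 n29072 = n29072 := d26_1 D29072 (iv D29072) F86264
theorem F123429 : act 5 n29072 = n29072 := d35_1 D29072 (iv D29072) (iv D19984) F60432 D19984
theorem F123430 : act 9 n29072 = n20011 := d41_2 (iv F86266) D29072 (iv D20011)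
def n29073 : Q := act 8 n19984
theorem D29073 : act 8 n19984 = n29073 := rfl
theorem F123431 : act 0 n29073 = n19993 := d7_1 D29073 (iv D19993) (iv F86262)
theorem F123432 : act 2 n29073 = n19988 := d22_1 D29073 (iv D19988) (iv F86263)
theorem F123433 : act 5 n29073 = n19985 := d37_1 D29073 (iv D19985) D19984
theorem F123434 : act 7 n29073 = n20073 := d42_1 D29073 (iv D20073) (iv F86265)
def n29074 : Q := act 3 n19985
theorem D29074 : act 3 n19985 = n29074 := rfl
theorem F123435 : act 0 n29074 = n19994 := d2_1 D29074 (iv D19994) (iv F86267)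
theorem F123436 : act 6 n29074 = n29074 := d26_2 F86270 D29074 (iv D29074)
theorem F123437 : act 7 n29074 = n20074 := d27_2 (iv F86271) D29074 (iv D20074)
theorem F123438 : act 8 n29074 = n29074 := d28_2 D19985 D29074 (iv D29074) (iv D19985) F60430
def n29075 : Q := act 9 n19985
theorem D29075 : act 9 n19985 = n29075 := rfl
theorem F123439 : act 0 n29075 = n19995 := d8_1 D29075 (iv D19995) (iv F86267)
theorem F123440 : act 2 n29075 = n19989 := d23_1 D29075 (iv D19989) (iv F86268)
theorem F123441 : act 4 n29075 = n21172 := d34_1 D29075 (iv D21172) (iv F86269)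
theorem F123442 : act 6 n29075 = n29075 := d41_1 D29075 (iv D29075) F86270
theorem F123443 : act 7 n29075 = n20075 := d43_1 D29075 (iv D20075) (iv F86271)
theorem F123444 : act 8 n29075 = n20014 := d44_1 D29075 (iv D20014) (iv D13770) (iv F60434) D19985
def n29076 : Q := act 6 n19986
theorem D29076 : act 6 n19986 = n29076 := rfl
theorem F123445 : act 0 n29076 = n19996 := d5_1 D29076 (iv D19996) (iv F86272)
theorem F123446 : act 1 n29076 = n29076 := d13_1 D29076 (iv D29076) F86273
theorem F123447 : act 3 n29076 = n29076 := d26_1 D29076 (iv D29076) F86274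
theorem F123448 : act 4 n29076 = n19987 := d31_1 D29076 (iv D19987) D19986
theorem F123449 : act 9 n29076 = n20015 := d41_2 (iv F86277) D29076 (iv D20015)
def n29077 : Q := act 8 n19986
theorem D29077 : act 8 n19986 = n29077 := rfl
theorem F123450 : act 0 n29077 = n19997 := d7_1 D29077 (iv D19997) (iv F86272)
theorem F123451 : act 1 n29077 = n29077 := d15_1 D29077 (iv D29077) F86273
theorem F123452 : act 4 n29077 = n19988 := d33_1 D29077 (iv D19988) D19986
theorem F123453 : act 5 n29077 = n21174 := d37_1 D29077 (iv D21174) (iv F86275)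
theorem F123454 : act 7 n29077 = n20077 := d42_1 D29077 (iv D20077) (iv F86276)
def n29078 : Q := act 7 n19987
theorem D29078 : act 7 n19987 = n29078 := rfl
theorem F123455 : act 0 n29078 = n19998 := d6_1 D29078 (iv D19998) (iv F86278)
theorem F123456 : act 1 n29078 = n29078 := d14_1 D29078 (iv D29078) F86279
theorem F123457 : act 3 n29078 = n19990 := d27_1 D29078 (iv D19990) (iv F86280)
theorem F123458 : act 5 n29078 = n29078 := d36_1 D29078 (iv D29078) F86281
theorem F123459 : act 6 n29078 = n20078 := d39_1 D29078 (iv D20078) (iv D13813) (iv F60438) D19987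
theorem F123460 : act 9 n29078 = n20017 := d43_2 (iv F86282) D29078 (iv D20017)
def n29079 : Q := act 8 n19987
theorem D29079 : act 8 n19987 = n29079 := rfl
theorem F123461 : act 0 n29079 = n19999 := d7_1 D29079 (iv D19999) (iv F86278)
theorem F123462 : act 1 n29079 = n29079 := d15_1 D29079 (iv D29079) F86279
theorem F123463 : act 5 n29079 = n29079 := d37_1 D29079 (iv D29079) F86281
theorem F123464 : act 6 n29079 = n19988 := d40_1 D29079 (iv D19988) D19987
def n29080 : Q := act 9 n19988
theorem D29080 : act 9 n19988 = n29080 := rfl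
theorem F123465 : act 0 n29080 = n20000 := d8_1 D29080 (iv D20000) (iv F86283)
theorem F123466 : act 1 n29080 = n29080 := d16_1 D29080 (iv D29080) F86284
theorem F123467 : act 5 n29080 = n19989 := d38_1 D29080 (iv D19989) (iv F86285)
theorem F123468 : act 7 n29080 = n20080 := d43_1 D29080 (iv D20080) (iv F86286)
theorem F123469 : act 8 n29080 = n20019 := d44_1 D29080 (iv D20019) (iv D13773) (iv F60439) D19988
def n29081 : Q := act 3 n19991
theorem D29081 : act 3 n19991 = n29081 := rfl
theorem F123470 : act 2 n29081 = n29081 := d17_1 D29081 (iv D29081) F86300 F60460 (iv F86300)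
theorem F123471 : act 4 n29081 = n29081 := d24_2 D19991 D29081 (iv D29081) (iv D19991) F60452
theorem F123472 : act 5 n29081 = n21178 := d25_2 (iv F86301) D29081 (iv D21178)
theorem F123473 : act 7 n29081 = n20081 := d27_2 (iv F86302) D29081 (iv D20081)
theorem F123474 : act 9 n29081 = n20020 := d29_2 (iv F86303) D29081 (iv D20020)
def n29082 : Q := act 6 n19991
theorem D29082 : act 6 n19991 = n29082 := rfl
theorem F123475 : act 2 n29082 = n19996 := d20_1 D29082 (iv D19996) (iv F86300)
theorem F123476 : act 4 n29082 = n19992 := d31_1 D29082 (iv D19992) D19991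
theorem F123477 : act 9 n29082 = n20021 := d41_2 (iv F86303) D29082 (iv D20021)
def n29083 : Q := act 8 n19991
theorem D29083 : act 8 n19991 = n29083 := rfl
theorem F123478 : act 2 n29083 = n19997 := d22_1 D29083 (iv D19997) (iv F86300)
theorem F123479 : act 4 n29083 = n19993 := d33_1 D29083 (iv D19993) D19991
theorem F123480 : act 5 n29083 = n21180 := d37_1 D29083 (iv D21180) (iv F86301)
theorem F123481 : act 7 n29083 = n20083 := d42_1 D29083 (iv D20083) (iv F86302)
def n29084 : Q := act 7 n19992
theorem D29084 : act 7 n19992 = n29084 := rfl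
theorem F123482 : act 2 n29084 = n19998 := d21_1 D29084 (iv D19998) (iv F86304)
theorem F123483 : act 3 n29084 = n29084 := d27_1 D29084 (iv D29084) F86305
theorem F123484 : act 5 n29084 = n29084 := d36_1 D29084 (iv D29084) F86306
theorem F123485 : act 6 n29084 = n20084 := d39_1 D29084 (iv D20084) (iv D13818) (iv F60453) D19992
theorem F123486 : act 9 n29084 = n20023 := d43_2 (iv F86307) D29084 (iv D20023)
def n29085 : Q := act 8 n19992
theorem D29085 : act 8 n19992 = n29085 := rfl
theorem F123487 : act 2 n29085 = n19999 := d22_1 D29085 (iv D19999) (iv F86304)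
theorem F123488 : act 5 n29085 = n29085 := d37_1 D29085 (iv D29085) F86306
theorem F123489 : act 6 n29085 = n19993 := d40_1 D29085 (iv D19993) D19992
def n29086 : Q := act 3 n19993
theorem D29086 : act 3 n19993 = n29086 := rfl
theorem F123490 : act 5 n29086 = n19994 := d25_2 (iv F86309) D29086 (iv D19994)
theorem F123491 : act 7 n29086 = n20086 := d27_2 (iv F86310) D29086 (iv D20086)
theorem F123492 : act 8 n29086 = n29086 := d28_2 D19993 D29086 (iv D29086) (iv D19993) F60452
def n29087 : Q := act 9 n19993
theorem D29087 : act 9 n19993 = n29087 := rfl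
theorem F123493 : act 2 n29087 = n20000 := d23_1 D29087 (iv D20000) (iv F86308)
theorem F123494 : act 5 n29087 = n19995 := d38_1 D29087 (iv D19995) (iv F86309)
theorem F123495 : act 7 n29087 = n20087 := d43_1 D29087 (iv D20087) (iv F86310)
theorem F123496 : act 8 n29087 = n20026 := d44_1 D29087 (iv D20026) (iv D13778) (iv F60454) D19993
def n29088 : Q := act 4 n19994
theorem D29088 : act 4 n19994 = n29088 := rfl
theorem F123497 : act 3 n29088 = n21185 := d24_1 D29088 (iv D21185) (iv D14558) (iv F60456) D19994
theorem F123498 : act 6 n29088 = n29088 := d31_2 F86311 D29088 (iv D29088)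
theorem F123499 : act 7 n29088 = n20088 := d32_2 (iv F86312) D29088 (iv D20088)
theorem F123500 : act 8 n29088 = n29088 := d33_2 F86313 D29088 (iv D29088)
def n29089 : Q := act 9 n19994
theorem D29089 : act 9 n19994 = n29089 := rfl
theorem F123501 : act 3 n29089 = n19995 := d29_1 D29089 (iv D19995) D19994
theorem F123502 : act 6 n29089 = n29089 := d41_1 D29089 (iv D29089) F86311
theorem F123503 : act 7 n29089 = n20089 := d43_1 D29089 (iv D20089) (iv F86312)
def n29090 : Q := act 5 n19996
theorem D29090 : act 5 n19996 = n29090 := rfl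
theorem F123504 : act 1 n29090 = n20001 := d12_1 D29090 (iv D20001) (iv F86319)
theorem F123505 : act 3 n29090 = n29090 := d25_1 D29090 (iv D29090) F86320
theorem F123506 : act 4 n29090 = n29090 := d30_1 D29090 (iv D29090) F86321 F60466 (iv F86321)
theorem F123507 : act 6 n29090 = n21187 := d35_2 D19996 D29090 (iv D21187) (iv D14560) (iv F60461)
theorem F123508 : act 9 n29090 = n20029 := d38_2 (iv F86322) D29090 (iv D20029)
def n29091 : Q := act 7 n19996
theorem D29091 : act 7 n19996 = n29091 := rfl
theorem F123509 : act 1 n29091 = n20002 := d14_1 D29091 (iv D20002) (iv F86319)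
theorem F123510 : act 3 n29091 = n29091 := d27_1 D29091 (iv D29091) F86320
theorem F123511 : act 4 n29091 = n19998 := d32_1 D29091 (iv D19998) (iv F86321)
theorem F123512 : act 6 n29091 = n20091 := d39_1 D29091 (iv D20091) (iv D13822) (iv F60462) D19996
theorem F123513 : act 9 n29091 = n20030 := d43_2 (iv F86322) D29091 (iv D20030)
def n29092 : Q := act 8 n19996
theorem D29092 : act 8 n19996 = n29092 := rfl
theorem F123514 : act 1 n29092 = n20003 := d15_1 D29092 (iv D20003) (iv F86319)
theorem F123515 : act 4 n29092 = n19999 := d33_1 D29092 (iv D19999) (iv F86321)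
theorem F123516 : act 6 n29092 = n19997 := d40_1 D29092 (iv D19997) D19996
def n29093 : Q := act 3 n19997
theorem D29093 : act 3 n19997 = n29093 := rfl
theorem F123517 : act 1 n29093 = n20004 := d10_1 D29093 (iv D20004) (iv F86323)
theorem F123518 : act 5 n29093 = n21190 := d25_2 (iv F86325) D29093 (iv D21190)
theorem F123519 : act 7 n29093 = n20093 := d27_2 (iv F86326) D29093 (iv D20093)
theorem F123520 : act 8 n29093 = n29093 := d28_2 D19997 D29093 (iv D29093) (iv D19997) F60460
def n29094 : Q := act 9 n19997
theorem D29094 : act 9 n19997 = n29094 := rfl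
theorem F123521 : act 1 n29094 = n20005 := d16_1 D29094 (iv D20005) (iv F86323)
theorem F123522 : act 4 n29094 = n20000 := d34_1 D29094 (iv D20000) (iv F86324)
theorem F123523 : act 5 n29094 = n21191 := d38_1 D29094 (iv D21191) (iv F86325)
theorem F123524 : act 7 n29094 = n20094 := d43_1 D29094 (iv D20094) (iv F86326)
theorem F123525 : act 8 n29094 = n20033 := d44_1 D29094 (iv D20033) (iv D13782) (iv F60463) D19997
def n29095 : Q := act 8 n19998
theorem D29095 : act 8 n19998 = n29095 := rfl
theorem F123526 : act 1 n29095 = n20006 := d15_1 D29095 (iv D20006) (iv F86327)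
theorem F123527 : act 5 n29095 = n29095 := d37_1 D29095 (iv D29095) F86329
theorem F123528 : act 6 n29095 = n20095 := d40_1 D29095 (iv D20095) (iv F86330)
theorem F123529 : act 7 n29095 = n19999 := d42_1 D29095 (iv D19999) D19998
def n29096 : Q := act 9 n19999
theorem D29096 : act 9 n19999 = n29096 := rfl
theorem F123530 : act 1 n29096 = n20007 := d16_1 D29096 (iv D20007) (iv F86332)
theorem F123531 : act 5 n29096 = n29096 := d38_1 D29096 (iv D29096) F86333
theorem F123532 : act 6 n29096 = n20000 := d41_1 D29096 (iv D20000) (iv F86334)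
theorem F123533 : act 8 n29096 = n20035 := d44_1 D29096 (iv D20035) (iv D13784) (iv F60467) D19999
def n29097 : Q := act 7 n20001
theorem D29097 : act 7 n20001 = n29097 := rfl
theorem F123534 : act 0 n29097 = n29097 := d6_1 D29097 (iv D29097) F86339
theorem F123535 : act 3 n29097 = n29097 := d27_1 D29097 (iv D29097) F86340
theorem F123536 : act 4 n29097 = n29097 := d32_1 D29097 (iv D29097) F86341
theorem F123537 : act 5 n29097 = n20002 := d36_1 D29097 (iv D20002) D20001
theorem F123538 : act 9 n29097 = n20036 := d43_2 (iv F86343) D29097 (iv D20036)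
def n29098 : Q := act 8 n20001
theorem D29098 : act 8 n20001 = n29098 := rfl
theorem F123539 : act 0 n29098 = n29098 := d7_1 D29098 (iv D29098) F86339
theorem F123540 : act 4 n29098 = n29098 := d33_1 D29098 (iv D29098) F86341
theorem F123541 : act 5 n29098 = n20003 := d37_1 D29098 (iv D20003) D20001
theorem F123542 : act 6 n29098 = n21195 := d40_1 D29098 (iv D21195) (iv F86342)
def n29099 : Q := act 8 n20002
theorem D29099 : act 8 n20002 = n29099 := rfl
theorem F123543 : act 0 n29099 = n29099 := d7_1 D29099 (iv D29099) F86344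
theorem F123544 : act 4 n29099 = n20006 := d33_1 D29099 (iv D20006) (iv F86346)
theorem F123545 : act 6 n29099 = n20099 := d40_1 D29099 (iv D20099) (iv F86347)
theorem F123546 : act 7 n29099 = n20003 := d42_1 D29099 (iv D20003) D20002
def n29100 : Q := act 3 n20003
theorem D29100 : act 3 n20003 = n29100 := rfl
theorem F123547 : act 0 n29100 = n29100 := d2_1 D29100 (iv D29100) F86349
theorem F123548 : act 6 n29100 = n20004 := d26_2 (iv F86351) D29100 (iv D20004)
theorem F123549 : act 8 n29100 = n29100 := d28_2 D20003 D29100 (iv D29100) (iv D20003) F60483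
def n29101 : Q := act 9 n20003
theorem D29101 : act 9 n20003 = n29101 := rfl
theorem F123550 : act 0 n29101 = n29101 := d8_1 D29101 (iv D29101) F86349
theorem F123551 : act 4 n29101 = n20007 := d34_1 D29101 (iv D20007) (iv F86350)
theorem F123552 : act 6 n29101 = n20005 := d41_1 D29101 (iv D20005) (iv F86351)
theorem F123553 : act 8 n29101 = n20040 := d44_1 D29101 (iv D20040) (iv D13788) (iv F60485) D20003
def n29102 : Q := act 2 n20004
theorem D29102 : act 2 n20004 = n29102 := rfl
theorem F123554 : act 0 n29102 = n29102 := d1_1 D29102 (iv D29102) F86352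
theorem F123555 : act 5 n29102 = n21199 := d19_2 (iv F86353) D29102 (iv D21199)
theorem F123556 : act 7 n29102 = n20102 := d21_2 (iv F86354) D29102 (iv D20102)
theorem F123557 : act 8 n29102 = n29102 := d22_2 F86355 D29102 (iv D29102)
def n29103 : Q := act 9 n20004
theorem D29103 : act 9 n20004 = n29103 := rfl
theorem F123558 : act 0 n29103 = n29103 := d8_1 D29103 (iv D29103) F86352
theorem F123559 : act 3 n29103 = n20005 := d29_1 D29103 (iv D20005) D20004
theorem F123560 : act 5 n29103 = n21200 := d38_1 D29103 (iv D21200) (iv F86353)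
theorem F123561 : act 7 n29103 = n20103 := d43_1 D29103 (iv D20103) (iv F86354)
def n29104 : Q := act 9 n20006
theorem D29104 : act 9 n20006 = n29104 := rfl
theorem F123562 : act 0 n29104 = n29104 := d8_1 D29104 (iv D29104) F86361
theorem F123563 : act 5 n29104 = n29104 := d38_1 D29104 (iv D29104) F86362
theorem F123564 : act 6 n29104 = n20104 := d41_1 D29104 (iv D20104) (iv F86363)
theorem F123565 : act 7 n29104 = n20007 := d43_1 D29104 (iv D20007) (iv F86364)
theorem F123566 : act 8 n29104 = n20043 := d44_1 D29104 (iv D20043) (iv D13791) (iv F60494) D20006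
def n29105 : Q := act 4 n20008
theorem D29105 : act 4 n20008 = n29105 := rfl
theorem F123567 : act 1 n29105 = n20010 := d11_1 D29105 (iv D20010) (iv F86369)
theorem F123568 : act 2 n29105 = n29105 := d18_1 D29105 (iv D29105) F86370
theorem F123569 : act 5 n29105 = n21202 := d30_2 D20008 D29105 (iv D21202) (iv D14572) (iv F60504)
theorem F123570 : act 7 n29105 = n20105 := d32_2 (iv F86372) D29105 (iv D20105)
def n29106 : Q := act 6 n20008
theorem D29106 : act 6 n20008 = n29106 := rfl
theorem F123571 : act 1 n29106 = n20011 := d13_1 D29106 (iv D20011) (iv F86369)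
theorem F123572 : act 2 n29106 = n29106 := d20_1 D29106 (iv D29106) F86370
theorem F123573 : act 3 n29106 = n29106 := d26_1 D29106 (iv D29106) F86371
theorem F123574 : act 5 n29106 = n29106 := d35_1 D29106 (iv D29106) (iv D20008) F60505 D20008
def n29107 : Q := act 8 n20008
theorem D29107 : act 8 n20008 = n29107 := rfl
theorem F123575 : act 1 n29107 = n20012 := d15_1 D29107 (iv D20012) (iv F86369)
theorem F123576 : act 2 n29107 = n29107 := d22_1 D29107 (iv D29107) F86370
theorem F123577 : act 5 n29107 = n20009 := d37_1 D29107 (iv D20009) D20008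
theorem F123578 : act 7 n29107 = n20107 := d42_1 D29107 (iv D20107) (iv F86372)
def n29108 : Q := act 3 n20009
theorem D29108 : act 3 n20009 = n29108 := rfl
theorem F123579 : act 1 n29108 = n20013 := d10_1 D29108 (iv D20013) (iv F86373)
def n29109 : Q := act 9 n20009
theorem D29109 : act 9 n20009 = n29109 := rfl
theorem F123583 : act 1 n29109 = n20014 := d16_1 D29109 (iv D20014) (iv F86373)
theorem F123584 : act 2 n29109 = n29109 := d23_1 D29109 (iv D29109) F86374
theorem F123586 : act 6 n29109 = n29109 := d41_1 D29109 (iv D29109) F86376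
theorem F123587 : act 7 n29109 = n20109 := d43_1 D29109 (iv D20109) (iv F86377)
def n29110 : Q := act 3 n20010
theorem D29110 : act 3 n20010 = n29110 := rfl
theorem F123588 : act 0 n29110 = n20020 := d2_1 D29110 (iv D20020) (iv F86378)
theorem F123589 : act 2 n29110 = n29110 := d17_1 D29110 (iv D29110) F86379 F60518 (iv F86379)
theorem F123590 : act 4 n29110 = n29110 := d24_2 D20010 D29110 (iv D29110) (iv D20010) F60509
theorem F123591 : act 5 n29110 = n21207 := d25_2 (iv F86380) D29110 (iv D21207)
theorem F123592 : act 7 n29110 = n20110 := d27_2 (iv F86381) D29110 (iv D20110)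
def n29111 : Q := act 6 n20010
theorem D29111 : act 6 n20010 = n29111 := rfl
theorem F123593 : act 0 n29111 = n20021 := d5_1 D29111 (iv D20021) (iv F86378)
theorem F123594 : act 2 n29111 = n20015 := d20_1 D29111 (iv D20015) (iv F86379)
theorem F123595 : act 4 n29111 = n20011 := d31_1 D29111 (iv D20011) D20010
def n29112 : Q := act 8 n20010
theorem D29112 : act 8 n20010 = n29112 := rfl
theorem F123596 : act 0 n29112 = n20022 := d7_1 D29112 (iv D20022) (iv F86378)
theorem F123597 : act 2 n29112 = n20016 := d22_1 D29112 (iv D20016) (iv F86379)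
theorem F123598 : act 4 n29112 = n20012 := d33_1 D29112 (iv D20012) D20010
theorem F123599 : act 5 n29112 = n21209 := d37_1 D29112 (iv D21209) (iv F86380)
theorem F123600 : act 7 n29112 = n20112 := d42_1 D29112 (iv D20112) (iv F86381)
def n29113 : Q := act 7 n20011
theorem D29113 : act 7 n20011 = n29113 := rfl
theorem F123601 : act 0 n29113 = n20023 := d6_1 D29113 (iv D20023) (iv F86382)
theorem F123602 : act 2 n29113 = n20017 := d21_1 D29113 (iv D20017) (iv F86383)
theorem F123603 : act 3 n29113 = n29113 := d27_1 D29113 (iv D29113) F86384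
theorem F123604 : act 5 n29113 = n29113 := d36_1 D29113 (iv D29113) F86385
theorem F123605 : act 6 n29113 = n20113 := d39_1 D29113 (iv D20113) (iv D13837) (iv F60510) D20011
def n29114 : Q := act 8 n20011
theorem D29114 : act 8 n20011 = n29114 := rfl
theorem F123606 : act 0 n29114 = n20024 := d7_1 D29114 (iv D20024) (iv F86382)
theorem F123607 : act 2 n29114 = n20018 := d22_1 D29114 (iv D20018) (iv F86383)
theorem F123608 : act 5 n29114 = n29114 := d37_1 D29114 (iv D29114) F86385
theorem F123609 : act 6 n29114 = n20012 := d40_1 D29114 (iv D20012) D20011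
def n29115 : Q := act 3 n20012
theorem D29115 : act 3 n20012 = n29115 := rfl
theorem F123610 : act 0 n29115 = n20025 := d2_1 D29115 (iv D20025) (iv F86386)
theorem F123611 : act 2 n29115 = n29115 := d17_1 D29115 (iv D29115) F86387 F60527 (iv F86387)
theorem F123612 : act 5 n29115 = n20013 := d25_2 (iv F86388) D29115 (iv D20013)
theorem F123613 : act 7 n29115 = n20115 := d27_2 (iv F86389) D29115 (iv D20115)
theorem F123614 : act 8 n29115 = n29115 := d28_2 D20012 D29115 (iv D29115) (iv D20012) F60509
def n29116 : Q := act 9 n20012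
theorem D29116 : act 9 n20012 = n29116 := rfl
theorem F123615 : act 0 n29116 = n20026 := d8_1 D29116 (iv D20026) (iv F86386)
theorem F123616 : act 2 n29116 = n20019 := d23_1 D29116 (iv D20019) (iv F86387)
theorem F123617 : act 5 n29116 = n20014 := d38_1 D29116 (iv D20014) (iv F86388)
theorem F123618 : act 7 n29116 = n20116 := d43_1 D29116 (iv D20116) (iv F86389)
def n29117 : Q := act 4 n20013
theorem D29117 : act 4 n20013 = n29117 := rfl
theorem F123619 : act 0 n29117 = n20027 := d3_1 D29117 (iv D20027) (iv F86390)
theorem F123621 : act 3 n29117 = n21214 := d24_1 D29117 (iv D21214) (iv D14577) (iv F60513) D20013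
def n29118 : Q := act 9 n20013
theorem D29118 : act 9 n20013 = n29118 := rfl
theorem F123625 : act 0 n29118 = n20028 := d8_1 D29118 (iv D20028) (iv F86390)
theorem F123626 : act 2 n29118 = n29118 := d23_1 D29118 (iv D29118) F86391
theorem F123627 : act 3 n29118 = n20014 := d29_1 D29118 (iv D20014) D20013
theorem F123628 : act 6 n29118 = n29118 := d41_1 D29118 (iv D29118) F86392
theorem F123629 : act 7 n29118 = n20118 := d43_1 D29118 (iv D20118) (iv F86393)
def n29119 : Q := act 5 n20015
theorem D29119 : act 5 n20015 = n29119 := rfl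
theorem F123630 : act 0 n29119 = n20029 := d4_1 D29119 (iv D20029) (iv F86400)
theorem F123631 : act 1 n29119 = n29119 := d12_1 D29119 (iv D29119) F86401
theorem F123632 : act 3 n29119 = n29119 := d25_1 D29119 (iv D29119) F86402
theorem F123633 : act 4 n29119 = n29119 := d30_1 D29119 (iv D29119) F86403 F60524 (iv F86403)
theorem F123634 : act 6 n29119 = n21216 := d35_2 D20015 D29119 (iv D21216) (iv D14579) (iv F60519)
def n29120 : Q := act 7 n20015
theorem D29120 : act 7 n20015 = n29120 := rfl
theorem F123635 : act 0 n29120 = n20030 := d6_1 D29120 (iv D20030) (iv F86400)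
theorem F123636 : act 1 n29120 = n29120 := d14_1 D29120 (iv D29120) F86401
theorem F123637 : act 3 n29120 = n29120 := d27_1 D29120 (iv D29120) F86402
theorem F123638 : act 4 n29120 = n20017 := d32_1 D29120 (iv D20017) (iv F86403)
theorem F123639 : act 6 n29120 = n20120 := d39_1 D29120 (iv D20120) (iv D13841) (iv F60520) D20015
def n29121 : Q := act 8 n20015
theorem D29121 : act 8 n20015 = n29121 := rfl
theorem F123640 : act 0 n29121 = n20031 := d7_1 D29121 (iv D20031) (iv F86400)
theorem F123641 : act 1 n29121 = n29121 := d15_1 D29121 (iv D29121) F86401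
theorem F123642 : act 4 n29121 = n20018 := d33_1 D29121 (iv D20018) (iv F86403)
theorem F123643 : act 6 n29121 = n20016 := d40_1 D29121 (iv D20016) D20015
def n29122 : Q := act 3 n20016
theorem D29122 : act 3 n20016 = n29122 := rfl
theorem F123644 : act 0 n29122 = n20032 := d2_1 D29122 (iv D20032) (iv F86404)
theorem F123645 : act 1 n29122 = n29122 := d10_1 D29122 (iv D29122) F86405
theorem F123646 : act 4 n29122 = n29122 := d24_2 (iv F86406) D29122 (iv D29122) F86406 F60527
theorem F123647 : act 5 n29122 = n21219 := d25_2 (iv F86407) D29122 (iv D21219)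
theorem F123648 : act 7 n29122 = n20122 := d27_2 (iv F86408) D29122 (iv D20122)
theorem F123649 : act 8 n29122 = n29122 := d28_2 D20016 D29122 (iv D29122) (iv D20016) F60518
def n29123 : Q := act 9 n20016
theorem D29123 : act 9 n20016 = n29123 := rfl
theorem F123650 : act 0 n29123 = n20033 := d8_1 D29123 (iv D20033) (iv F86404)
theorem F123651 : act 1 n29123 = n29123 := d16_1 D29123 (iv D29123) F86405
theorem F123652 : act 4 n29123 = n20019 := d34_1 D29123 (iv D20019) (iv F86406)
theorem F123653 : act 5 n29123 = n21220 := d38_1 D29123 (iv D21220) (iv F86407)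
theorem F123654 : act 7 n29123 = n20123 := d43_1 D29123 (iv D20123) (iv F86408)
def n29124 : Q := act 8 n20017
theorem D29124 : act 8 n20017 = n29124 := rfl
theorem F123655 : act 0 n29124 = n20034 := d7_1 D29124 (iv D20034) (iv F86409)
theorem F123656 : act 1 n29124 = n29124 := d15_1 D29124 (iv D29124) F86410
theorem F123657 : act 3 n29124 = n29124 := d28_1 D29124 (iv D29124) F86411 F60542 (iv F86411)
theorem F123658 : act 5 n29124 = n29124 := d37_1 D29124 (iv D29124) F86412
theorem F123659 : act 6 n29124 = n20124 := d40_1 D29124 (iv D20124) (iv F86413)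
theorem F123660 : act 7 n29124 = n20018 := d42_1 D29124 (iv D20018) D20017
def n29125 : Q := act 9 n20018
theorem D29125 : act 9 n20018 = n29125 := rfl
theorem F123661 : act 0 n29125 = n20035 := d8_1 D29125 (iv D20035) (iv F86414)
theorem F123662 : act 1 n29125 = n29125 := d16_1 D29125 (iv D29125) F86415
theorem F123663 : act 3 n29125 = n29125 := d29_1 D29125 (iv D29125) F86416
theorem F123664 : act 5 n29125 = n29125 := d38_1 D29125 (iv D29125) F86417
theorem F123665 : act 6 n29125 = n20019 := d41_1 D29125 (iv D20019) (iv F86418)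
def n29126 : Q := act 6 n20020
theorem D29126 : act 6 n20020 = n29126 := rfl
theorem F123666 : act 2 n29126 = n29126 := d20_1 D29126 (iv D29126) F86424
theorem F123667 : act 3 n29126 = n20021 := d26_1 D29126 (iv D20021) D20020
theorem F123668 : act 4 n29126 = n29126 := d31_1 D29126 (iv D29126) F86425
def n29127 : Q := act 8 n20020
theorem D29127 : act 8 n20020 = n29127 := rfl
theorem F123669 : act 2 n29127 = n29127 := d22_1 D29127 (iv D29127) F86424
theorem F123670 : act 4 n29127 = n29127 := d33_1 D29127 (iv D29127) F86425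
theorem F123671 : act 5 n29127 = n21224 := d37_1 D29127 (iv D21224) (iv F86426)
theorem F123672 : act 7 n29127 = n20127 := d42_1 D29127 (iv D20127) (iv F86427)
def n29128 : Q := act 5 n20021
theorem D29128 : act 5 n20021 = n29128 := rfl
theorem F123673 : act 2 n29128 = n20029 := d19_1 D29128 (iv D20029) (iv F86428)
theorem F123674 : act 4 n29128 = n29128 := d30_1 D29128 (iv D29128) F86429 F60548 (iv F86429)
theorem F123675 : act 6 n29128 = n21225 := d35_2 D20021 D29128 (iv D21225) (iv D14585) (iv F60544)
def n29129 : Q := act 7 n20021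
theorem D29129 : act 7 n20021 = n29129 := rfl
theorem F123676 : act 2 n29129 = n20030 := d21_1 D29129 (iv D20030) (iv F86428)
theorem F123677 : act 4 n29129 = n20023 := d32_1 D29129 (iv D20023) (iv F86429)
theorem F123678 : act 6 n29129 = n20129 := d39_1 D29129 (iv D20129) (iv D13847) (iv F60545) D20021
def n29130 : Q := act 8 n20021
theorem D29130 : act 8 n20021 = n29130 := rfl
theorem F123679 : act 2 n29130 = n20031 := d22_1 D29130 (iv D20031) (iv F86428)
theorem F123680 : act 4 n29130 = n20024 := d33_1 D29130 (iv D20024) (iv F86429)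
theorem F123681 : act 6 n29130 = n20022 := d40_1 D29130 (iv D20022) D20021
def n29131 : Q := act 3 n20022
theorem D29131 : act 3 n20022 = n29131 := rfl
theorem F123682 : act 5 n29131 = n21228 := d25_2 (iv F86432) D29131 (iv D21228)
theorem F123683 : act 7 n29131 = n20131 := d27_2 (iv F86433) D29131 (iv D20131)
def n29132 : Q := act 9 n20022
theorem D29132 : act 9 n20022 = n29132 := rfl
theorem F123684 : act 2 n29132 = n20033 := d23_1 D29132 (iv D20033) (iv F86430)
theorem F123685 : act 4 n29132 = n20026 := d34_1 D29132 (iv D20026) (iv F86431)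
theorem F123686 : act 5 n29132 = n21229 := d38_1 D29132 (iv D21229) (iv F86432)
theorem F123687 : act 7 n29132 = n20132 := d43_1 D29132 (iv D20132) (iv F86433)
def n29133 : Q := act 8 n20023
theorem D29133 : act 8 n20023 = n29133 := rfl
theorem F123688 : act 2 n29133 = n20034 := d22_1 D29133 (iv D20034) (iv F86434)
theorem F123689 : act 5 n29133 = n29133 := d37_1 D29133 (iv D29133) F86436
theorem F123690 : act 6 n29133 = n20133 := d40_1 D29133 (iv D20133) (iv F86437)
theorem F123691 : act 7 n29133 = n20024 := d42_1 D29133 (iv D20024) D20023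
def n29134 : Q := act 3 n20024
theorem D29134 : act 3 n20024 = n29134 := rfl
theorem F123692 : act 2 n29134 = n29134 := d17_1 D29134 (iv D29134) F86438 F60572 (iv F86438)
theorem F123693 : act 5 n29134 = n29134 := d25_2 F86439 D29134 (iv D29134)
theorem F123694 : act 6 n29134 = n20025 := d26_2 (iv F86440) D29134 (iv D20025)
theorem F123695 : act 8 n29134 = n29134 := d28_2 D20024 D29134 (iv D29134) (iv D20024) F60547
def n29135 : Q := act 9 n20024
theorem D29135 : act 9 n20024 = n29135 := rfl
theorem F123696 : act 2 n29135 = n20035 := d23_1 D29135 (iv D20035) (iv F86438)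
theorem F123697 : act 5 n29135 = n29135 := d38_1 D29135 (iv D29135) F86439
theorem F123698 : act 6 n29135 = n20026 := d41_1 D29135 (iv D20026) (iv F86440)
def n29136 : Q := act 4 n20025
theorem D29136 : act 4 n20025 = n29136 := rfl
theorem F123699 : act 2 n29136 = n29136 := d18_1 D29136 (iv D29136) F86441
theorem F123700 : act 7 n29136 = n20136 := d32_2 (iv F86443) D29136 (iv D20136)
theorem F123701 : act 8 n29136 = n29136 := d33_2 F86444 D29136 (iv D29136)
def n29137 : Q := act 9 n20025
theorem D29137 : act 9 n20025 = n29137 := rfl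
theorem F123702 : act 2 n29137 = n29137 := d23_1 D29137 (iv D29137) F86441
theorem F123703 : act 3 n29137 = n20026 := d29_1 D29137 (iv D20026) D20025
theorem F123704 : act 5 n29137 = n20028 := d38_1 D29137 (iv D20028) (iv F86442)
theorem F123705 : act 7 n29137 = n20137 := d43_1 D29137 (iv D20137) (iv F86443)
def n29138 : Q := act 5 n20027
theorem D29138 : act 5 n20027 = n29138 := rfl
theorem F123706 : act 2 n29138 = n29138 := d19_1 D29138 (iv D29138) F86448
theorem F123707 : act 3 n29138 = n21235 := d25_1 D29138 (iv D21235) (iv F86449)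
theorem F123708 : act 7 n29138 = n20138 := d36_2 (iv F86451) D29138 (iv D20138)
theorem F123709 : act 8 n29138 = n29138 := d37_2 F86452 D29138 (iv D29138)
def n29139 : Q := act 9 n20027
theorem D29139 : act 9 n20027 = n29139 := rfl
theorem F123710 : act 2 n29139 = n29139 := d23_1 D29139 (iv D29139) F86448
theorem F123711 : act 3 n29139 = n21236 := d29_1 D29139 (iv D21236) (iv F86449)
theorem F123712 : act 4 n29139 = n20028 := d34_1 D29139 (iv D20028) D20027
theorem F123713 : act 6 n29139 = n29139 := d41_1 D29139 (iv D29139) F86450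
theorem F123714 : act 7 n29139 = n20139 := d43_1 D29139 (iv D20139) (iv F86451)
def n29140 : Q := act 8 n20028
theorem D29140 : act 8 n20028 = n29140 := rfl
theorem F123715 : act 2 n29140 = n29140 := d22_1 D29140 (iv D29140) F86453
theorem F123716 : act 6 n29140 = n29140 := d40_1 D29140 (iv D29140) F86455
theorem F123717 : act 7 n29140 = n20140 := d42_1 D29140 (iv D20140) (iv F86456)
theorem F123718 : act 9 n29140 = n29140 := d44_2 D20028 D29140 (iv D29140) (iv D20028) F60555
def n29141 : Q := act 7 n20029
theorem D29141 : act 7 n20029 = n29141 := rfl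
theorem F123719 : act 1 n29141 = n20036 := d14_1 D29141 (iv D20036) (iv F86457)
theorem F123720 : act 3 n29141 = n29141 := d27_1 D29141 (iv D29141) F86458
theorem F123721 : act 4 n29141 = n29141 := d32_1 D29141 (iv D29141) F86459
theorem F123722 : act 5 n29141 = n20030 := d36_1 D29141 (iv D20030) D20029
def n29142 : Q := act 8 n20029
theorem D29142 : act 8 n20029 = n29142 := rfl
theorem F123723 : act 1 n29142 = n20037 := d15_1 D29142 (iv D20037) (iv F86457)
theorem F123724 : act 4 n29142 = n29142 := d33_1 D29142 (iv D29142) F86459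
theorem F123725 : act 5 n29142 = n20031 := d37_1 D29142 (iv D20031) D20029
theorem F123726 : act 6 n29142 = n21239 := d40_1 D29142 (iv D21239) (iv F86460)
def n29143 : Q := act 8 n20030
theorem D29143 : act 8 n20030 = n29143 := rfl
theorem F123727 : act 1 n29143 = n20038 := d15_1 D29143 (iv D20038) (iv F86461)
theorem F123728 : act 4 n29143 = n20034 := d33_1 D29143 (iv D20034) (iv F86463)
theorem F123729 : act 6 n29143 = n20143 := d40_1 D29143 (iv D20143) (iv F86464)
theorem F123730 : act 7 n29143 = n20031 := d42_1 D29143 (iv D20031) D20030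
def n29144 : Q := act 3 n20031
theorem D29144 : act 3 n20031 = n29144 := rfl
theorem F123731 : act 1 n29144 = n20039 := d10_1 D29144 (iv D20039) (iv F86465)
theorem F123732 : act 4 n29144 = n29144 := d24_2 (iv F86466) D29144 (iv D29144) F86466 F60572
theorem F123733 : act 6 n29144 = n20032 := d26_2 (iv F86467) D29144 (iv D20032)
theorem F123734 : act 8 n29144 = n29144 := d28_2 D20031 D29144 (iv D29144) (iv D20031) F60561
def n29145 : Q := act 9 n20031
theorem D29145 : act 9 n20031 = n29145 := rfl
theorem F123735 : act 1 n29145 = n20040 := d16_1 D29145 (iv D20040) (iv F86465)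
theorem F123736 : act 4 n29145 = n20035 := d34_1 D29145 (iv D20035) (iv F86466)
theorem F123737 : act 6 n29145 = n20033 := d41_1 D29145 (iv D20033) (iv F86467)
def n29146 : Q := act 2 n20032
theorem D29146 : act 2 n20032 = n29146 := rfl
theorem F123738 : act 4 n29146 = n29146 := d18_2 F86469 D29146 (iv D29146)
theorem F123739 : act 5 n29146 = n21243 := d19_2 (iv F86470) D29146 (iv D21243)
theorem F123740 : act 7 n29146 = n20146 := d21_2 (iv F86471) D29146 (iv D20146)
theorem F123741 : act 8 n29146 = n29146 := d22_2 F86472 D29146 (iv D29146)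
def n29147 : Q := act 9 n20032
theorem D29147 : act 9 n20032 = n29147 := rfl
theorem F123742 : act 1 n29147 = n20042 := d16_1 D29147 (iv D20042) (iv F86468)
theorem F123743 : act 3 n29147 = n20033 := d29_1 D29147 (iv D20033) D20032
theorem F123744 : act 4 n29147 = n29147 := d34_1 D29147 (iv D29147) F86469
theorem F123745 : act 5 n29147 = n21244 := d38_1 D29147 (iv D21244) (iv F86470)
theorem F123746 : act 7 n29147 = n20147 := d43_1 D29147 (iv D20147) (iv F86471)
def n29148 : Q := act 9 n20034
theorem D29148 : act 9 n20034 = n29148 := rfl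
theorem F123747 : act 1 n29148 = n20043 := d16_1 D29148 (iv D20043) (iv F86477)
theorem F123748 : act 3 n29148 = n29148 := d29_1 D29148 (iv D29148) F86478
theorem F123749 : act 5 n29148 = n29148 := d38_1 D29148 (iv D29148) F86479
theorem F123750 : act 6 n29148 = n20148 := d41_1 D29148 (iv D20148) (iv F86480)
theorem F123751 : act 7 n29148 = n20035 := d43_1 D29148 (iv D20035) (iv F86481)
def n29149 : Q := act 6 n20036
theorem D29149 : act 6 n20036 = n29149 := rfl
theorem F123752 : act 0 n29149 = n29149 := d5_1 D29149 (iv D29149) F86486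
theorem F123753 : act 3 n29149 = n29149 := d26_1 D29149 (iv D29149) F86487
theorem F123754 : act 4 n29149 = n29149 := d31_1 D29149 (iv D29149) F86488
theorem F123755 : act 5 n29149 = n20149 := d35_1 D29149 (iv D20149) F60878 (iv F60586) (iv F86489)
theorem F123756 : act 7 n29149 = n21246 := d39_2 D20036 D29149 (iv D21246) (iv D14600) (iv F60582)
def n29150 : Q := act 8 n20036
theorem D29150 : act 8 n20036 = n29150 := rfl
theorem F123759 : act 5 n29150 = n20038 := d37_1 D29150 (iv D20038) (iv F86489)
theorem F123760 : act 7 n29150 = n20037 := d42_1 D29150 (iv D20037) D20036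
def n29151 : Q := act 3 n20037
theorem D29151 : act 3 n20037 = n29151 := rfl
theorem F123762 : act 5 n29151 = n20039 := d25_2 (iv F86492) D29151 (iv D20039)
theorem F123763 : act 6 n29151 = n21248 := d26_2 (iv F86493) D29151 (iv D21248)
def n29152 : Q := act 9 n20037
theorem D29152 : act 9 n20037 = n29152 := rfl
theorem F123765 : act 0 n29152 = n29152 := d8_1 D29152 (iv D29152) F86490
theorem F123766 : act 4 n29152 = n29152 := d34_1 D29152 (iv D29152) F86491
theorem F123767 : act 5 n29152 = n20040 := d38_1 D29152 (iv D20040) (iv F86492)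
theorem F123768 : act 6 n29152 = n21249 := d41_1 D29152 (iv D21249) (iv F86493)
def n29153 : Q := act 3 n20038
theorem D29153 : act 3 n20038 = n29153 := rfl
theorem F123771 : act 6 n29153 = n20153 := d26_2 (iv F86496) D29153 (iv D20153)
def n29154 : Q := act 9 n20038
theorem D29154 : act 9 n20038 = n29154 := rfl
theorem F123774 : act 0 n29154 = n29154 := d8_1 D29154 (iv D29154) F86494
theorem F123775 : act 4 n29154 = n20043 := d34_1 D29154 (iv D20043) (iv F86495)
theorem F123776 : act 6 n29154 = n20154 := d41_1 D29154 (iv D20154) (iv F86496)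
theorem F123777 : act 7 n29154 = n20040 := d43_1 D29154 (iv D20040) (iv F86497)
def n29155 : Q := act 2 n20039
theorem D29155 : act 2 n20039 = n29155 := rfl
theorem F123780 : act 6 n29155 = n20041 := d20_2 (iv F86500) D29155 (iv D20041)
def n29156 : Q := act 9 n20039
theorem D29156 : act 9 n20039 = n29156 := rfl
theorem F123782 : act 0 n29156 = n29156 := d8_1 D29156 (iv D29156) F86498
theorem F123783 : act 3 n29156 = n20040 := d29_1 D29156 (iv D20040) D20039
theorem F123784 : act 4 n29156 = n29156 := d34_1 D29156 (iv D29156) F86499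
theorem F123785 : act 6 n29156 = n20042 := d41_1 D29156 (iv D20042) (iv F86500)
def n29157 : Q := act 1 n20041
theorem D29157 : act 1 n20041 = n29157 := rfl
theorem F123786 : act 4 n29157 = n29157 := d11_2 F86506 D29157 (iv D29157)
theorem F123787 : act 5 n29157 = n21254 := d12_2 (iv F86507) D29157 (iv D21254)
theorem F123788 : act 7 n29157 = n20157 := d14_2 (iv F86508) D29157 (iv D20157)
theorem F123789 : act 8 n29157 = n29157 := d15_2 F86509 D29157 (iv D29157)
def n29158 : Q := act 9 n20041
theorem D29158 : act 9 n20041 = n29158 := rfl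
theorem F123790 : act 0 n29158 = n29158 := d8_1 D29158 (iv D29158) F86505
theorem F123791 : act 2 n29158 = n20042 := d23_1 D29158 (iv D20042) D20041
theorem F123792 : act 4 n29158 = n29158 := d34_1 D29158 (iv D29158) F86506
theorem F123793 : act 5 n29158 = n21255 := d38_1 D29158 (iv D21255) (iv F86507)
theorem F123794 : act 7 n29158 = n20158 := d43_1 D29158 (iv D20158) (iv F86508)
def n29159 : Q := act 8 n20042
theorem D29159 : act 8 n20042 = n29159 := rfl
theorem F123795 : act 0 n29159 = n29159 := d7_1 D29159 (iv D29159) F86510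
theorem F123796 : act 4 n29159 = n29159 := d33_1 D29159 (iv D29159) F86512
theorem F123797 : act 5 n29159 = n21256 := d37_1 D29159 (iv D21256) (iv F86513)
theorem F123798 : act 7 n29159 = n20159 := d42_1 D29159 (iv D20159) (iv F86514)
theorem F123799 : act 9 n29159 = n29159 := d44_2 D20042 D29159 (iv D29159) (iv D20042) F60594
def n29160 : Q := act 5 n20044
theorem D29160 : act 5 n20044 = n29160 := rfl
theorem F123801 : act 1 n29160 = n20045 := d12_1 D29160 (iv D20045) D20044
def n29161 : Q := act 8 n20044
theorem D29161 : act 8 n20044 = n29161 := rfl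
theorem F123805 : act 0 n29161 = n29161 := d7_1 D29161 (iv D29161) F86520
theorem F123806 : act 1 n29161 = n20046 := d15_1 D29161 (iv D20046) D20044
theorem F123807 : act 2 n29161 = n29161 := d22_1 D29161 (iv D29161) F86521
theorem F123808 : act 4 n29161 = n29161 := d33_1 D29161 (iv D29161) F86523
theorem F123809 : act 6 n29161 = n20161 := d40_1 D29161 (iv D20161) (iv F86524)
def n29162 : Q := act 4 n20045
theorem D29162 : act 4 n20045 = n29162 := rfl
theorem F123810 : act 0 n29162 = n20052 := d3_1 D29162 (iv D20052) (iv F86526)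
theorem F123811 : act 2 n29162 = n20047 := d18_1 D29162 (iv D20047) (iv F86527)
def n29163 : Q := act 6 n20045
theorem D29163 : act 6 n20045 = n29163 := rfl
theorem F123814 : act 0 n29163 = n20053 := d5_1 D29163 (iv D20053) (iv F86526)
theorem F123815 : act 2 n29163 = n20048 := d20_1 D29163 (iv D20048) (iv F86527)
theorem F123816 : act 3 n29163 = n29163 := d26_1 D29163 (iv D29163) F86528
theorem F123817 : act 5 n29163 = n20163 := d35_1 D29163 (iv D20163) (iv D13871) (iv F60611) D20045
theorem F123818 : act 9 n29163 = n29163 := d41_2 F86529 D29163 (iv D29163)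
def n29164 : Q := act 8 n20045
theorem D29164 : act 8 n20045 = n29164 := rfl
theorem F123819 : act 0 n29164 = n20054 := d7_1 D29164 (iv D20054) (iv F86526)
theorem F123820 : act 2 n29164 = n20049 := d22_1 D29164 (iv D20049) (iv F86527)
theorem F123821 : act 5 n29164 = n20046 := d37_1 D29164 (iv D20046) D20045
def n29165 : Q := act 3 n20046
theorem D29165 : act 3 n20046 = n29165 := rfl
theorem F123822 : act 0 n29165 = n20055 := d2_1 D29165 (iv D20055) (iv F86530)
theorem F123823 : act 2 n29165 = n20074 := d17_1 D29165 (iv D20074) F60693 (iv F60619) (iv F86531)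
theorem F123824 : act 6 n29165 = n20165 := d26_2 (iv F86533) D29165 (iv D20165)
theorem F123825 : act 8 n29165 = n29165 := d28_2 D20046 D29165 (iv D29165) (iv D20046) F60609
def n29166 : Q := act 9 n20046
theorem D29166 : act 9 n20046 = n29166 := rfl
theorem F123826 : act 0 n29166 = n20056 := d8_1 D29166 (iv D20056) (iv F86530)
theorem F123827 : act 2 n29166 = n20050 := d23_1 D29166 (iv D20050) (iv F86531)
theorem F123828 : act 4 n29166 = n29166 := d34_1 D29166 (iv D29166) F86532
theorem F123829 : act 6 n29166 = n20166 := d41_1 D29166 (iv D20166) (iv F86533)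
theorem F123830 : act 8 n29166 = n29166 := d44_1 D29166 (iv D29166) (iv D20046) F60612 D20046
def n29167 : Q := act 6 n20047
theorem D29167 : act 6 n20047 = n29167 := rfl
theorem F123831 : act 0 n29167 = n20057 := d5_1 D29167 (iv D20057) (iv F86534)
theorem F123832 : act 1 n29167 = n29167 := d13_1 D29167 (iv D29167) F86535
theorem F123833 : act 3 n29167 = n29167 := d26_1 D29167 (iv D29167) F86536
theorem F123834 : act 4 n29167 = n20048 := d31_1 D29167 (iv D20048) D20047
theorem F123835 : act 9 n29167 = n29167 := d41_2 F86538 D29167 (iv D29167)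
def n29168 : Q := act 8 n20047
theorem D29168 : act 8 n20047 = n29168 := rfl
theorem F123836 : act 0 n29168 = n20058 := d7_1 D29168 (iv D20058) (iv F86534)
theorem F123837 : act 1 n29168 = n29168 := d15_1 D29168 (iv D29168) F86535
theorem F123838 : act 4 n29168 = n20049 := d33_1 D29168 (iv D20049) D20047
theorem F123839 : act 5 n29168 = n29168 := d37_1 D29168 (iv D29168) F86537
def n29169 : Q := act 7 n20048
theorem D29169 : act 7 n20048 = n29169 := rfl
theorem F123840 : act 0 n29169 = n20059 := d6_1 D29169 (iv D20059) (iv F86539)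
theorem F123841 : act 1 n29169 = n29169 := d14_1 D29169 (iv D29169) F86540
theorem F123842 : act 3 n29169 = n20051 := d27_1 D29169 (iv D20051) (iv F86541)
theorem F123843 : act 5 n29169 = n20169 := d36_1 D29169 (iv D20169) (iv F86542)
theorem F123844 : act 9 n29169 = n29169 := d43_2 F86543 D29169 (iv D29169)
def n29170 : Q := act 8 n20048
theorem D29170 : act 8 n20048 = n29170 := rfl
theorem F123845 : act 0 n29170 = n20060 := d7_1 D29170 (iv D20060) (iv F86539)
theorem F123846 : act 1 n29170 = n29170 := d15_1 D29170 (iv D29170) F86540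
theorem F123847 : act 3 n29170 = n20079 := d28_1 D29170 (iv D20079) F60703 (iv F60627) (iv F86541)
theorem F123848 : act 5 n29170 = n20170 := d37_1 D29170 (iv D20170) (iv F86542)
theorem F123849 : act 6 n29170 = n20049 := d40_1 D29170 (iv D20049) D20048
def n29171 : Q := act 9 n20049
theorem D29171 : act 9 n20049 = n29171 := rfl
theorem F123850 : act 0 n29171 = n20061 := d8_1 D29171 (iv D20061) (iv F86544)
theorem F123851 : act 1 n29171 = n29171 := d16_1 D29171 (iv D29171) F86545
theorem F123852 : act 3 n29171 = n20080 := d29_1 D29171 (iv D20080) (iv F86546)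
theorem F123853 : act 5 n29171 = n20050 := d38_1 D29171 (iv D20050) (iv F86547)
theorem F123854 : act 8 n29171 = n29171 := d44_1 D29171 (iv D29171) (iv D20049) F60616 D20049
def n29172 : Q := act 3 n20052
theorem D29172 : act 3 n20052 = n29172 := rfl
def n29173 : Q := act 6 n20052
theorem D29173 : act 6 n20052 = n29173 := rfl
theorem F123861 : act 2 n29173 = n20057 := d20_1 D29173 (iv D20057) (iv F86562)
theorem F123862 : act 4 n29173 = n20053 := d31_1 D29173 (iv D20053) D20052
def n29174 : Q := act 8 n20052
theorem D29174 : act 8 n20052 = n29174 := rfl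
theorem F123864 : act 1 n29174 = n29174 := d15_1 D29174 (iv D29174) F86561
theorem F123865 : act 2 n29174 = n20058 := d22_1 D29174 (iv D20058) (iv F86562)
theorem F123866 : act 4 n29174 = n20054 := d33_1 D29174 (iv D20054) D20052
theorem F123867 : act 5 n29174 = n29174 := d37_1 D29174 (iv D29174) F86563
def n29175 : Q := act 7 n20053
theorem D29175 : act 7 n20053 = n29175 := rfl
theorem F123869 : act 2 n29175 = n20059 := d21_1 D29175 (iv D20059) (iv F86566)
theorem F123871 : act 5 n29175 = n20175 := d36_1 D29175 (iv D20175) (iv F86568)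
def n29176 : Q := act 8 n20053
theorem D29176 : act 8 n20053 = n29176 := rfl
theorem F123873 : act 1 n29176 = n29176 := d15_1 D29176 (iv D29176) F86565
theorem F123874 : act 2 n29176 = n20060 := d22_1 D29176 (iv D20060) (iv F86566)
theorem F123875 : act 5 n29176 = n20176 := d37_1 D29176 (iv D20176) (iv F86568)
theorem F123876 : act 6 n29176 = n20054 := d40_1 D29176 (iv D20054) D20053
def n29177 : Q := act 3 n20054
theorem D29177 : act 3 n20054 = n29177 := rfl
theorem F123877 : act 1 n29177 = n29177 := d10_1 D29177 (iv D29177) F86570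
theorem F123878 : act 2 n29177 = n20086 := d17_1 D29177 (iv D20086) F60727 (iv F60646) (iv F86571)
theorem F123879 : act 5 n29177 = n20055 := d25_2 (iv F86572) D29177 (iv D20055)
theorem F123880 : act 8 n29177 = n29177 := d28_2 D20054 D29177 (iv D29177) (iv D20054) F60631
def n29178 : Q := act 9 n20054
theorem D29178 : act 9 n20054 = n29178 := rfl
theorem F123881 : act 1 n29178 = n29178 := d16_1 D29178 (iv D29178) F86570
theorem F123882 : act 2 n29178 = n20061 := d23_1 D29178 (iv D20061) (iv F86571)
theorem F123883 : act 5 n29178 = n20056 := d38_1 D29178 (iv D20056) (iv F86572)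
theorem F123884 : act 8 n29178 = n29178 := d44_1 D29178 (iv D29178) (iv D20054) F60632 D20054
def n29179 : Q := act 4 n20055
theorem D29179 : act 4 n20055 = n29179 := rfl
theorem F123885 : act 1 n29179 = n29179 := d11_1 D29179 (iv D29179) F86573
theorem F123886 : act 2 n29179 = n20088 := d18_1 D29179 (iv D20088) (iv F86574)
theorem F123887 : act 3 n29179 = n29179 := d24_1 D29179 (iv D29179) (iv D20055) F60635 D20055
theorem F123888 : act 6 n29179 = n20179 := d31_2 (iv F86575) D29179 (iv D20179)
theorem F123889 : act 8 n29179 = n29179 := d33_2 F86576 D29179 (iv D29179)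
def n29180 : Q := act 9 n20055
theorem D29180 : act 9 n20055 = n29180 := rfl
theorem F123890 : act 1 n29180 = n29180 := d16_1 D29180 (iv D29180) F86573
theorem F123891 : act 2 n29180 = n20089 := d23_1 D29180 (iv D20089) (iv F86574)
theorem F123892 : act 3 n29180 = n20056 := d29_1 D29180 (iv D20056) D20055
theorem F123893 : act 6 n29180 = n20180 := d41_1 D29180 (iv D20180) (iv F86575)
def n29181 : Q := act 5 n20057
theorem D29181 : act 5 n20057 = n29181 := rfl
theorem F123894 : act 1 n29181 = n20062 := d12_1 D29181 (iv D20062) (iv F86582)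
theorem F123895 : act 3 n29181 = n29181 := d25_1 D29181 (iv D29181) F86583
theorem F123896 : act 4 n29181 = n20181 := d30_1 D29181 (iv D20181) F60972 (iv F60643) (iv F86584)
theorem F123897 : act 6 n29181 = n29181 := d35_2 D20057 D29181 (iv D29181) (iv D20057) F60639
theorem F123898 : act 9 n29181 = n29181 := d38_2 F86585 D29181 (iv D29181)
def n29182 : Q := act 7 n20057
theorem D29182 : act 7 n20057 = n29182 := rfl
theorem F123899 : act 1 n29182 = n20063 := d14_1 D29182 (iv D20063) (iv F86582)
theorem F123901 : act 4 n29182 = n20059 := d32_1 D29182 (iv D20059) (iv F86584)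
def n29183 : Q := act 8 n20057
theorem D29183 : act 8 n20057 = n29183 := rfl
theorem F123903 : act 1 n29183 = n20064 := d15_1 D29183 (iv D20064) (iv F86582)
theorem F123904 : act 4 n29183 = n20060 := d33_1 D29183 (iv D20060) (iv F86584)
theorem F123905 : act 6 n29183 = n20058 := d40_1 D29183 (iv D20058) D20057
def n29184 : Q := act 3 n20058
theorem D29184 : act 3 n20058 = n29184 := rfl
theorem F123906 : act 1 n29184 = n20065 := d10_1 D29184 (iv D20065) (iv F86586)
theorem F123907 : act 4 n29184 = n20093 := d24_2 (iv F86587) D29184 (iv D20093) F60740 (iv F60646)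
theorem F123908 : act 5 n29184 = n29184 := d25_2 F86588 D29184 (iv D29184)
theorem F123909 : act 8 n29184 = n29184 := d28_2 D20058 D29184 (iv D29184) (iv D20058) F60638
def n29185 : Q := act 9 n20058
theorem D29185 : act 9 n20058 = n29185 := rfl
theorem F123910 : act 1 n29185 = n20066 := d16_1 D29185 (iv D20066) (iv F86586)
theorem F123911 : act 4 n29185 = n20061 := d34_1 D29185 (iv D20061) (iv F86587)
theorem F123912 : act 5 n29185 = n29185 := d38_1 D29185 (iv D29185) F86588
theorem F123913 : act 8 n29185 = n29185 := d44_1 D29185 (iv D29185) (iv D20058) F60640 D20058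
def n29186 : Q := act 8 n20059
theorem D29186 : act 8 n20059 = n29186 := rfl
theorem F123914 : act 1 n29186 = n20067 := d15_1 D29186 (iv D20067) (iv F86589)
theorem F123915 : act 3 n29186 = n20095 := d28_1 D29186 (iv D20095) F60743 (iv F60657) (iv F86590)
theorem F123916 : act 5 n29186 = n20186 := d37_1 D29186 (iv D20186) (iv F86591)
theorem F123917 : act 7 n29186 = n20060 := d42_1 D29186 (iv D20060) D20059
def n29187 : Q := act 9 n20060
theorem D29187 : act 9 n20060 = n29187 := rfl
theorem F123918 : act 1 n29187 = n20068 := d16_1 D29187 (iv D20068) (iv F86593)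
theorem F123919 : act 3 n29187 = n20096 := d29_1 D29187 (iv D20096) (iv F86594)
theorem F123920 : act 5 n29187 = n20187 := d38_1 D29187 (iv D20187) (iv F86595)
theorem F123921 : act 6 n29187 = n20061 := d41_1 D29187 (iv D20061) (iv F86596)
theorem F123922 : act 8 n29187 = n29187 := d44_1 D29187 (iv D29187) (iv D20060) F60644 D20060
def n29188 : Q := act 7 n20062
theorem D29188 : act 7 n20062 = n29188 := rfl
theorem F123923 : act 0 n29188 = n29188 := d6_1 D29188 (iv D29188) F86601
theorem F123924 : act 2 n29188 = n29188 := d21_1 D29188 (iv D29188) F86602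
theorem F123925 : act 3 n29188 = n29188 := d27_1 D29188 (iv D29188) F86603
theorem F123926 : act 4 n29188 = n20188 := d32_1 D29188 (iv D20188) (iv F86604)
theorem F123927 : act 5 n29188 = n20063 := d36_1 D29188 (iv D20063) D20062
theorem F123928 : act 9 n29188 = n29188 := d43_2 F86606 D29188 (iv D29188)
def n29189 : Q := act 8 n20062
theorem D29189 : act 8 n20062 = n29189 := rfl
theorem F123929 : act 0 n29189 = n29189 := d7_1 D29189 (iv D29189) F86601
theorem F123930 : act 2 n29189 = n29189 := d22_1 D29189 (iv D29189) F86602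
theorem F123931 : act 4 n29189 = n20189 := d33_1 D29189 (iv D20189) (iv F86604)
theorem F123932 : act 5 n29189 = n20064 := d37_1 D29189 (iv D20064) D20062
theorem F123933 : act 6 n29189 = n29189 := d40_1 D29189 (iv D29189) F86605
def n29190 : Q := act 8 n20063
theorem D29190 : act 8 n20063 = n29190 := rfl
theorem F123934 : act 0 n29190 = n29190 := d7_1 D29190 (iv D29190) F86607
theorem F123935 : act 2 n29190 = n29190 := d22_1 D29190 (iv D29190) F86608
theorem F123936 : act 4 n29190 = n20067 := d33_1 D29190 (iv D20067) (iv F86610)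
theorem F123937 : act 7 n29190 = n20064 := d42_1 D29190 (iv D20064) D20063
def n29191 : Q := act 3 n20064
theorem D29191 : act 3 n20064 = n29191 := rfl
theorem F123938 : act 0 n29191 = n29191 := d2_1 D29191 (iv D29191) F86612
theorem F123939 : act 4 n29191 = n20100 := d24_2 (iv F86614) D29191 (iv D20100) F60762 (iv F60675)
theorem F123940 : act 6 n29191 = n20065 := d26_2 (iv F86615) D29191 (iv D20065)
theorem F123941 : act 8 n29191 = n29191 := d28_2 D20064 D29191 (iv D29191) (iv D20064) F60661
def n29192 : Q := act 9 n20064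
theorem D29192 : act 9 n20064 = n29192 := rfl
theorem F123942 : act 0 n29192 = n29192 := d8_1 D29192 (iv D29192) F86612
theorem F123943 : act 2 n29192 = n29192 := d23_1 D29192 (iv D29192) F86613
theorem F123944 : act 4 n29192 = n20068 := d34_1 D29192 (iv D20068) (iv F86614)
theorem F123945 : act 6 n29192 = n20066 := d41_1 D29192 (iv D20066) (iv F86615)
theorem F123946 : act 8 n29192 = n29192 := d44_1 D29192 (iv D29192) (iv D20064) F60663 D20064
def n29193 : Q := act 2 n20065
theorem D29193 : act 2 n20065 = n29193 := rfl
theorem F123947 : act 0 n29193 = n29193 := d1_1 D29193 (iv D29193) F86616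
theorem F123948 : act 3 n29193 = n29193 := d17_2 D20065 D29193 (iv D29193) (iv D20065) F60665
theorem F123949 : act 4 n29193 = n20102 := d18_2 (iv F86617) D29193 (iv D20102)
theorem F123950 : act 5 n29193 = n29193 := d19_2 F86618 D29193 (iv D29193)
theorem F123951 : act 8 n29193 = n29193 := d22_2 F86619 D29193 (iv D29193)
def n29194 : Q := act 9 n20065
theorem D29194 : act 9 n20065 = n29194 := rfl
theorem F123952 : act 0 n29194 = n29194 := d8_1 D29194 (iv D29194) F86616
theorem F123953 : act 3 n29194 = n20066 := d29_1 D29194 (iv D20066) D20065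
theorem F123954 : act 4 n29194 = n20103 := d34_1 D29194 (iv D20103) (iv F86617)
theorem F123955 : act 5 n29194 = n29194 := d38_1 D29194 (iv D29194) F86618
def n29195 : Q := act 9 n20067
theorem D29195 : act 9 n20067 = n29195 := rfl
theorem F123956 : act 0 n29195 = n29195 := d8_1 D29195 (iv D29195) F86625
theorem F123957 : act 2 n29195 = n29195 := d23_1 D29195 (iv D29195) F86626
theorem F123958 : act 3 n29195 = n20104 := d29_1 D29195 (iv D20104) (iv F86627)
theorem F123959 : act 5 n29195 = n20195 := d38_1 D29195 (iv D20195) (iv F86628)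
theorem F123960 : act 7 n29195 = n20068 := d43_1 D29195 (iv D20068) (iv F86629)
theorem F123961 : act 8 n29195 = n29195 := d44_1 D29195 (iv D29195) (iv D20067) F60672 D20067
def n29196 : Q := act 4 n20069
theorem D29196 : act 4 n20069 = n29196 := rfl
theorem F123962 : act 1 n29196 = n20071 := d11_1 D29196 (iv D20071) (iv F86636)
theorem F123963 : act 2 n29196 = n29196 := d18_1 D29196 (iv D29196) F86637
theorem F123964 : act 5 n29196 = n21257 := d30_2 D20069 D29196 (iv D21257) (iv D14608) (iv F60685)
theorem F123965 : act 9 n29196 = n20105 := d34_2 (iv F86639) D29196 (iv D20105)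
def n29197 : Q := act 6 n20069
theorem D29197 : act 6 n20069 = n29197 := rfl
theorem F123966 : act 1 n29197 = n20072 := d13_1 D29197 (iv D20072) (iv F86636)
theorem F123967 : act 2 n29197 = n29197 := d20_1 D29197 (iv D29197) F86637
theorem F123968 : act 3 n29197 = n29197 := d26_1 D29197 (iv D29197) F86638
theorem F123969 : act 5 n29197 = n20197 := d35_1 D29197 (iv D20197) (iv D13895) (iv F60686) D20069
theorem F123970 : act 9 n29197 = n20106 := d41_2 (iv F86639) D29197 (iv D20106)
def n29198 : Q := act 8 n20069
theorem D29198 : act 8 n20069 = n29198 := rfl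
theorem F123971 : act 1 n29198 = n20073 := d15_1 D29198 (iv D20073) (iv F86636)
theorem F123972 : act 2 n29198 = n29198 := d22_1 D29198 (iv D29198) F86637
theorem F123973 : act 5 n29198 = n20070 := d37_1 D29198 (iv D20070) D20069
def n29199 : Q := act 3 n20070
theorem D29199 : act 3 n20070 = n29199 := rfl
theorem F123974 : act 1 n29199 = n20074 := d10_1 D29199 (iv D20074) (iv F86640)
def n29200 : Q := act 9 n20070
theorem D29200 : act 9 n20070 = n29200 := rfl
theorem F123977 : act 1 n29200 = n20075 := d16_1 D29200 (iv D20075) (iv F86640)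
theorem F123978 : act 2 n29200 = n29200 := d23_1 D29200 (iv D29200) F86641
theorem F123980 : act 6 n29200 = n20200 := d41_1 D29200 (iv D20200) (iv F86643)
theorem F123981 : act 8 n29200 = n20109 := d44_1 D29200 (iv D20109) (iv D13835) (iv F60687) D20070
def n29201 : Q := act 3 n20071
theorem D29201 : act 3 n20071 = n29201 := rfl
theorem F123982 : act 0 n29201 = n20081 := d2_1 D29201 (iv D20081) (iv F86644)
theorem F123983 : act 2 n29201 = n29201 := d17_1 D29201 (iv D29201) F86645 F60698 (iv F86645)
theorem F123984 : act 4 n29201 = n29201 := d24_2 D20071 D29201 (iv D29201) (iv D20071) F60690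
theorem F123985 : act 5 n29201 = n21262 := d25_2 (iv F86646) D29201 (iv D21262)
theorem F123986 : act 9 n29201 = n20110 := d29_2 (iv F86647) D29201 (iv D20110)
def n29202 : Q := act 6 n20071
theorem D29202 : act 6 n20071 = n29202 := rfl
theorem F123987 : act 0 n29202 = n20082 := d5_1 D29202 (iv D20082) (iv F86644)
theorem F123988 : act 2 n29202 = n20076 := d20_1 D29202 (iv D20076) (iv F86645)
theorem F123989 : act 4 n29202 = n20072 := d31_1 D29202 (iv D20072) D20071
theorem F123990 : act 9 n29202 = n20111 := d41_2 (iv F86647) D29202 (iv D20111)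
def n29203 : Q := act 8 n20071
theorem D29203 : act 8 n20071 = n29203 := rfl
theorem F123991 : act 0 n29203 = n20083 := d7_1 D29203 (iv D20083) (iv F86644)
theorem F123992 : act 2 n29203 = n20077 := d22_1 D29203 (iv D20077) (iv F86645)
theorem F123993 : act 4 n29203 = n20073 := d33_1 D29203 (iv D20073) D20071
theorem F123994 : act 5 n29203 = n21264 := d37_1 D29203 (iv D21264) (iv F86646)
def n29204 : Q := act 7 n20072
theorem D29204 : act 7 n20072 = n29204 := rfl
theorem F123995 : act 0 n29204 = n20084 := d6_1 D29204 (iv D20084) (iv F86648)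
theorem F123996 : act 2 n29204 = n20078 := d21_1 D29204 (iv D20078) (iv F86649)
theorem F123997 : act 3 n29204 = n29204 := d27_1 D29204 (iv D29204) F86650
theorem F123998 : act 5 n29204 = n20204 := d36_1 D29204 (iv D20204) (iv F86651)
theorem F123999 : act 9 n29204 = n20113 := d43_2 (iv F86652) D29204 (iv D20113)
def n29205 : Q := act 8 n20072
theorem D29205 : act 8 n20072 = n29205 := rfl
theorem F124000 : act 0 n29205 = n20085 := d7_1 D29205 (iv D20085) (iv F86648)
theorem F124001 : act 2 n29205 = n20079 := d22_1 D29205 (iv D20079) (iv F86649)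
theorem F124002 : act 5 n29205 = n20205 := d37_1 D29205 (iv D20205) (iv F86651)
theorem F124003 : act 6 n29205 = n20073 := d40_1 D29205 (iv D20073) D20072
def n29206 : Q := act 3 n20073
theorem D29206 : act 3 n20073 = n29206 := rfl
theorem F124004 : act 0 n29206 = n20086 := d2_1 D29206 (iv D20086) (iv F86653)
theorem F124005 : act 5 n29206 = n20074 := d25_2 (iv F86655) D29206 (iv D20074)
theorem F124006 : act 8 n29206 = n29206 := d28_2 D20073 D29206 (iv D29206) (iv D20073) F60690
def n29207 : Q := act 9 n20073
theorem D29207 : act 9 n20073 = n29207 := rfl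
theorem F124007 : act 0 n29207 = n20087 := d8_1 D29207 (iv D20087) (iv F86653)
theorem F124008 : act 2 n29207 = n20080 := d23_1 D29207 (iv D20080) (iv F86654)
theorem F124009 : act 5 n29207 = n20075 := d38_1 D29207 (iv D20075) (iv F86655)
theorem F124010 : act 8 n29207 = n20116 := d44_1 D29207 (iv D20116) (iv D13838) (iv F60691) D20073
def n29208 : Q := act 4 n20074
theorem D29208 : act 4 n20074 = n29208 := rfl
theorem F124012 : act 3 n29208 = n21269 := d24_1 D29208 (iv D21269) (iv D14613) (iv F60694) D20074
def n29209 : Q := act 9 n20074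
theorem D29209 : act 9 n20074 = n29209 := rfl
theorem F124015 : act 0 n29209 = n20089 := d8_1 D29209 (iv D20089) (iv F86656)
theorem F124016 : act 3 n29209 = n20075 := d29_1 D29209 (iv D20075) D20074
theorem F124017 : act 6 n29209 = n20209 := d41_1 D29209 (iv D20209) (iv F86657)
def n29210 : Q := act 5 n20076
theorem D29210 : act 5 n20076 = n29210 := rfl
theorem F124018 : act 0 n29210 = n20090 := d4_1 D29210 (iv D20090) (iv F86664)
theorem F124019 : act 1 n29210 = n29210 := d12_1 D29210 (iv D29210) F86665
theorem F124020 : act 3 n29210 = n29210 := d25_1 D29210 (iv D29210) F86666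
theorem F124021 : act 4 n29210 = n20210 := d30_1 D29210 (iv D20210) F61059 (iv F60704) (iv F86667)
theorem F124022 : act 6 n29210 = n21271 := d35_2 D20076 D29210 (iv D21271) (iv D14615) (iv F60699)
theorem F124023 : act 9 n29210 = n20119 := d38_2 (iv F86668) D29210 (iv D20119)
def n29211 : Q := act 7 n20076
theorem D29211 : act 7 n20076 = n29211 := rfl
theorem F124024 : act 0 n29211 = n20091 := d6_1 D29211 (iv D20091) (iv F86664)
theorem F124025 : act 1 n29211 = n29211 := d14_1 D29211 (iv D29211) F86665
theorem F124026 : act 3 n29211 = n29211 := d27_1 D29211 (iv D29211) F86666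
theorem F124027 : act 4 n29211 = n20078 := d32_1 D29211 (iv D20078) (iv F86667)
theorem F124028 : act 9 n29211 = n20120 := d43_2 (iv F86668) D29211 (iv D20120)
def n29212 : Q := act 8 n20076
theorem D29212 : act 8 n20076 = n29212 := rfl
theorem F124029 : act 0 n29212 = n20092 := d7_1 D29212 (iv D20092) (iv F86664)
theorem F124030 : act 1 n29212 = n29212 := d15_1 D29212 (iv D29212) F86665
theorem F124031 : act 4 n29212 = n20079 := d33_1 D29212 (iv D20079) (iv F86667)
theorem F124032 : act 6 n29212 = n20077 := d40_1 D29212 (iv D20077) D20076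
def n29213 : Q := act 3 n20077
theorem D29213 : act 3 n20077 = n29213 := rfl
theorem F124033 : act 0 n29213 = n20093 := d2_1 D29213 (iv D20093) (iv F86669)
theorem F124034 : act 1 n29213 = n29213 := d10_1 D29213 (iv D29213) F86670
theorem F124035 : act 5 n29213 = n21274 := d25_2 (iv F86672) D29213 (iv D21274)
theorem F124036 : act 8 n29213 = n29213 := d28_2 D20077 D29213 (iv D29213) (iv D20077) F60698
def n29214 : Q := act 9 n20077
theorem D29214 : act 9 n20077 = n29214 := rfl
theorem F124037 : act 0 n29214 = n20094 := d8_1 D29214 (iv D20094) (iv F86669)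
theorem F124038 : act 1 n29214 = n29214 := d16_1 D29214 (iv D29214) F86670
theorem F124039 : act 4 n29214 = n20080 := d34_1 D29214 (iv D20080) (iv F86671)
theorem F124040 : act 5 n29214 = n21275 := d38_1 D29214 (iv D21275) (iv F86672)
theorem F124041 : act 8 n29214 = n20123 := d44_1 D29214 (iv D20123) (iv D13842) (iv F60700) D20077
def n29215 : Q := act 8 n20078
theorem D29215 : act 8 n20078 = n29215 := rfl
theorem F124042 : act 0 n29215 = n20095 := d7_1 D29215 (iv D20095) (iv F86673)
theorem F124043 : act 1 n29215 = n29215 := d15_1 D29215 (iv D29215) F86674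
theorem F124044 : act 5 n29215 = n20215 := d37_1 D29215 (iv D20215) (iv F86676)
theorem F124045 : act 7 n29215 = n20079 := d42_1 D29215 (iv D20079) D20078
def n29216 : Q := act 9 n20079
theorem D29216 : act 9 n20079 = n29216 := rfl
theorem F124046 : act 0 n29216 = n20096 := d8_1 D29216 (iv D20096) (iv F86678)
theorem F124047 : act 1 n29216 = n29216 := d16_1 D29216 (iv D29216) F86679
theorem F124048 : act 5 n29216 = n20216 := d38_1 D29216 (iv D20216) (iv F86680)
theorem F124049 : act 6 n29216 = n20080 := d41_1 D29216 (iv D20080) (iv F86681)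
theorem F124050 : act 8 n29216 = n20125 := d44_1 D29216 (iv D20125) (iv D13844) (iv F60705) D20079
def n29217 : Q := act 6 n20081
theorem D29217 : act 6 n20081 = n29217 := rfl
theorem F124051 : act 2 n29217 = n29217 := d20_1 D29217 (iv D29217) F86686
theorem F124052 : act 3 n29217 = n20082 := d26_1 D29217 (iv D20082) D20081
theorem F124053 : act 4 n29217 = n29217 := d31_1 D29217 (iv D29217) F86687
theorem F124054 : act 9 n29217 = n20126 := d41_2 (iv F86689) D29217 (iv D20126)
def n29218 : Q := act 8 n20081
theorem D29218 : act 8 n20081 = n29218 := rfl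
theorem F124055 : act 2 n29218 = n29218 := d22_1 D29218 (iv D29218) F86686
theorem F124056 : act 4 n29218 = n29218 := d33_1 D29218 (iv D29218) F86687
theorem F124057 : act 5 n29218 = n21279 := d37_1 D29218 (iv D21279) (iv F86688)
def n29219 : Q := act 5 n20082
theorem D29219 : act 5 n20082 = n29219 := rfl
theorem F124058 : act 2 n29219 = n20090 := d19_1 D29219 (iv D20090) (iv F86690)
theorem F124059 : act 4 n29219 = n20219 := d30_1 D29219 (iv D20219) F61085 (iv F60725) (iv F86691)
theorem F124060 : act 6 n29219 = n21280 := d35_2 D20082 D29219 (iv D21280) (iv D14621) (iv F60721)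
theorem F124061 : act 9 n29219 = n20128 := d38_2 (iv F86692) D29219 (iv D20128)
def n29220 : Q := act 7 n20082
theorem D29220 : act 7 n20082 = n29220 := rfl
theorem F124062 : act 2 n29220 = n20091 := d21_1 D29220 (iv D20091) (iv F86690)
theorem F124063 : act 4 n29220 = n20084 := d32_1 D29220 (iv D20084) (iv F86691)
theorem F124064 : act 9 n29220 = n20129 := d43_2 (iv F86692) D29220 (iv D20129)
def n29221 : Q := act 8 n20082
theorem D29221 : act 8 n20082 = n29221 := rfl
theorem F124065 : act 2 n29221 = n20092 := d22_1 D29221 (iv D20092) (iv F86690)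
theorem F124066 : act 4 n29221 = n20085 := d33_1 D29221 (iv D20085) (iv F86691)
theorem F124067 : act 6 n29221 = n20083 := d40_1 D29221 (iv D20083) D20082
def n29222 : Q := act 3 n20083
theorem D29222 : act 3 n20083 = n29222 := rfl
theorem F124068 : act 5 n29222 = n21283 := d25_2 (iv F86695) D29222 (iv D21283)
def n29223 : Q := act 9 n20083
theorem D29223 : act 9 n20083 = n29223 := rfl
theorem F124069 : act 2 n29223 = n20094 := d23_1 D29223 (iv D20094) (iv F86693)
theorem F124070 : act 4 n29223 = n20087 := d34_1 D29223 (iv D20087) (iv F86694)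
theorem F124071 : act 5 n29223 = n21284 := d38_1 D29223 (iv D21284) (iv F86695)
theorem F124072 : act 8 n29223 = n20132 := d44_1 D29223 (iv D20132) (iv D13848) (iv F60722) D20083
def n29224 : Q := act 8 n20084
theorem D29224 : act 8 n20084 = n29224 := rfl
theorem F124073 : act 2 n29224 = n20095 := d22_1 D29224 (iv D20095) (iv F86696)
theorem F124074 : act 5 n29224 = n20224 := d37_1 D29224 (iv D20224) (iv F86698)
theorem F124075 : act 7 n29224 = n20085 := d42_1 D29224 (iv D20085) D20084
def n29225 : Q := act 3 n20085
theorem D29225 : act 3 n20085 = n29225 := rfl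
theorem F124076 : act 5 n29225 = n20225 := d25_2 (iv F86701) D29225 (iv D20225)
theorem F124077 : act 6 n29225 = n20086 := d26_2 (iv F86702) D29225 (iv D20086)
theorem F124078 : act 8 n29225 = n29225 := d28_2 D20085 D29225 (iv D29225) (iv D20085) F60724
def n29226 : Q := act 9 n20085
theorem D29226 : act 9 n20085 = n29226 := rfl
theorem F124079 : act 2 n29226 = n20096 := d23_1 D29226 (iv D20096) (iv F86700)
theorem F124080 : act 5 n29226 = n20226 := d38_1 D29226 (iv D20226) (iv F86701)
theorem F124081 : act 6 n29226 = n20087 := d41_1 D29226 (iv D20087) (iv F86702)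
theorem F124082 : act 8 n29226 = n20135 := d44_1 D29226 (iv D20135) (iv D13850) (iv F60726) D20085
def n29227 : Q := act 4 n20086
theorem D29227 : act 4 n20086 = n29227 := rfl
theorem F124083 : act 8 n29227 = n29227 := d33_2 F86704 D29227 (iv D29227)
def n29228 : Q := act 9 n20086
theorem D29228 : act 9 n20086 = n29228 := rfl
theorem F124084 : act 3 n29228 = n20087 := d29_1 D29228 (iv D20087) D20086
theorem F124085 : act 5 n29228 = n20089 := d38_1 D29228 (iv D20089) (iv F86703)
def n29229 : Q := act 5 n20088
theorem D29229 : act 5 n20088 = n29229 := rfl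
theorem F124087 : act 8 n29229 = n29229 := d37_2 F86710 D29229 (iv D29229)
def n29230 : Q := act 9 n20088
theorem D29230 : act 9 n20088 = n29230 := rfl
theorem F124088 : act 3 n29230 = n21291 := d29_1 D29230 (iv D21291) (iv F86708)
theorem F124089 : act 4 n29230 = n20089 := d34_1 D29230 (iv D20089) D20088
theorem F124090 : act 6 n29230 = n20230 := d41_1 D29230 (iv D20230) (iv F86709)
def n29231 : Q := act 8 n20089
theorem D29231 : act 8 n20089 = n29231 := rfl
theorem F124091 : act 3 n29231 = n20140 := d28_1 D29231 (iv D20140) F60848 (iv F60734) (iv F86711)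
theorem F124092 : act 6 n29231 = n20231 := d40_1 D29231 (iv D20231) (iv F86712)
theorem F124093 : act 9 n29231 = n29231 := d44_2 D20089 D29231 (iv D29231) (iv D20089) F60730
def n29232 : Q := act 7 n20090
theorem D29232 : act 7 n20090 = n29232 := rfl
theorem F124094 : act 1 n29232 = n20097 := d14_1 D29232 (iv D20097) (iv F86713)
theorem F124095 : act 3 n29232 = n29232 := d27_1 D29232 (iv D29232) F86714
theorem F124096 : act 4 n29232 = n20232 := d32_1 D29232 (iv D20232) (iv F86715)
theorem F124097 : act 5 n29232 = n20091 := d36_1 D29232 (iv D20091) D20090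
theorem F124098 : act 9 n29232 = n20141 := d43_2 (iv F86717) D29232 (iv D20141)
def n29233 : Q := act 8 n20090
theorem D29233 : act 8 n20090 = n29233 := rfl
theorem F124099 : act 1 n29233 = n20098 := d15_1 D29233 (iv D20098) (iv F86713)
theorem F124100 : act 4 n29233 = n20233 := d33_1 D29233 (iv D20233) (iv F86715)
theorem F124101 : act 5 n29233 = n20092 := d37_1 D29233 (iv D20092) D20090
theorem F124102 : act 6 n29233 = n21294 := d40_1 D29233 (iv D21294) (iv F86716)
def n29234 : Q := act 8 n20091
theorem D29234 : act 8 n20091 = n29234 := rfl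
theorem F124103 : act 1 n29234 = n20099 := d15_1 D29234 (iv D20099) (iv F86718)
theorem F124104 : act 4 n29234 = n20095 := d33_1 D29234 (iv D20095) (iv F86720)
theorem F124105 : act 7 n29234 = n20092 := d42_1 D29234 (iv D20092) D20091
def n29235 : Q := act 3 n20092
theorem D29235 : act 3 n20092 = n29235 := rfl
theorem F124106 : act 1 n29235 = n20100 := d10_1 D29235 (iv D20100) (iv F86722)
theorem F124107 : act 6 n29235 = n20093 := d26_2 (iv F86724) D29235 (iv D20093)
theorem F124108 : act 8 n29235 = n29235 := d28_2 D20092 D29235 (iv D29235) (iv D20092) F60736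
def n29236 : Q := act 9 n20092
theorem D29236 : act 9 n20092 = n29236 := rfl
theorem F124109 : act 1 n29236 = n20101 := d16_1 D29236 (iv D20101) (iv F86722)
theorem F124110 : act 4 n29236 = n20096 := d34_1 D29236 (iv D20096) (iv F86723)
theorem F124111 : act 6 n29236 = n20094 := d41_1 D29236 (iv D20094) (iv F86724)
theorem F124112 : act 8 n29236 = n20145 := d44_1 D29236 (iv D20145) (iv D13857) (iv F60738) D20092
def n29237 : Q := act 2 n20093
theorem D29237 : act 2 n20093 = n29237 := rfl
theorem F124113 : act 5 n29237 = n21298 := d19_2 (iv F86726) D29237 (iv D21298)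
theorem F124114 : act 8 n29237 = n29237 := d22_2 F86727 D29237 (iv D29237)
def n29238 : Q := act 9 n20093
theorem D29238 : act 9 n20093 = n29238 := rfl
theorem F124115 : act 1 n29238 = n20103 := d16_1 D29238 (iv D20103) (iv F86725)
theorem F124116 : act 3 n29238 = n20094 := d29_1 D29238 (iv D20094) D20093
theorem F124117 : act 5 n29238 = n21299 := d38_1 D29238 (iv D21299) (iv F86726)
def n29239 : Q := act 9 n20095
theorem D29239 : act 9 n20095 = n29239 := rfl
theorem F124118 : act 1 n29239 = n20104 := d16_1 D29239 (iv D20104) (iv F86732)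
theorem F124119 : act 5 n29239 = n20239 := d38_1 D29239 (iv D20239) (iv F86733)
theorem F124120 : act 7 n29239 = n20096 := d43_1 D29239 (iv D20096) (iv F86734)
theorem F124121 : act 8 n29239 = n20148 := d44_1 D29239 (iv D20148) (iv D13860) (iv F60745) D20095
def n29240 : Q := act 6 n20097
theorem D29240 : act 6 n20097 = n29240 := rfl
theorem F124122 : act 0 n29240 = n29240 := d5_1 D29240 (iv D29240) F86739
theorem F124123 : act 3 n29240 = n29240 := d26_1 D29240 (iv D29240) F86740
theorem F124124 : act 4 n29240 = n20240 := d31_1 D29240 (iv D20240) (iv F86741)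
theorem F124125 : act 7 n29240 = n21301 := d39_2 D20097 D29240 (iv D21301) (iv D14636) (iv F60755)
theorem F124126 : act 9 n29240 = n20149 := d41_2 (iv F86743) D29240 (iv D20149)
def n29241 : Q := act 8 n20097
theorem D29241 : act 8 n20097 = n29241 := rfl
theorem F124127 : act 0 n29241 = n29241 := d7_1 D29241 (iv D29241) F86739
theorem F124128 : act 4 n29241 = n20241 := d33_1 D29241 (iv D20241) (iv F86741)
theorem F124129 : act 5 n29241 = n20099 := d37_1 D29241 (iv D20099) (iv F86742)
theorem F124130 : act 7 n29241 = n20098 := d42_1 D29241 (iv D20098) D20097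
def n29242 : Q := act 3 n20098
theorem D29242 : act 3 n20098 = n29242 := rfl
theorem F124131 : act 0 n29242 = n29242 := d2_1 D29242 (iv D29242) F86744
theorem F124132 : act 5 n29242 = n20100 := d25_2 (iv F86746) D29242 (iv D20100)
theorem F124133 : act 6 n29242 = n21303 := d26_2 (iv F86747) D29242 (iv D21303)
theorem F124134 : act 8 n29242 = n29242 := d28_2 D20098 D29242 (iv D29242) (iv D20098) F60753
def n29243 : Q := act 9 n20098
theorem D29243 : act 9 n20098 = n29243 := rfl
theorem F124135 : act 0 n29243 = n29243 := d8_1 D29243 (iv D29243) F86744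
theorem F124136 : act 4 n29243 = n20243 := d34_1 D29243 (iv D20243) (iv F86745)
theorem F124137 : act 5 n29243 = n20101 := d38_1 D29243 (iv D20101) (iv F86746)
theorem F124138 : act 6 n29243 = n21304 := d41_1 D29243 (iv D21304) (iv F86747)
theorem F124139 : act 8 n29243 = n20152 := d44_1 D29243 (iv D20152) (iv D13863) (iv F60756) D20098
def n29244 : Q := act 3 n20099
theorem D29244 : act 3 n20099 = n29244 := rfl
theorem F124140 : act 0 n29244 = n29244 := d2_1 D29244 (iv D29244) F86748
theorem F124141 : act 7 n29244 = n20100 := d27_2 (iv F86750) D29244 (iv D20100)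
theorem F124142 : act 8 n29244 = n29244 := d28_2 D20099 D29244 (iv D29244) (iv D20099) F60758
def n29245 : Q := act 9 n20099
theorem D29245 : act 9 n20099 = n29245 := rfl
theorem F124143 : act 0 n29245 = n29245 := d8_1 D29245 (iv D29245) F86748
theorem F124144 : act 4 n29245 = n20104 := d34_1 D29245 (iv D20104) (iv F86749)
theorem F124145 : act 7 n29245 = n20101 := d43_1 D29245 (iv D20101) (iv F86750)
theorem F124146 : act 8 n29245 = n20154 := d44_1 D29245 (iv D20154) (iv D13864) (iv F60760) D20099
def n29246 : Q := act 2 n20100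
theorem D29246 : act 2 n20100 = n29246 := rfl
theorem F124147 : act 0 n29246 = n29246 := d1_1 D29246 (iv D29246) F86751
theorem F124148 : act 6 n29246 = n20102 := d20_2 (iv F86752) D29246 (iv D20102)
theorem F124149 : act 8 n29246 = n29246 := d22_2 F86753 D29246 (iv D29246)
def n29247 : Q := act 9 n20100
theorem D29247 : act 9 n20100 = n29247 := rfl
theorem F124150 : act 0 n29247 = n29247 := d8_1 D29247 (iv D29247) F86751
theorem F124151 : act 3 n29247 = n20101 := d29_1 D29247 (iv D20101) D20100
theorem F124152 : act 6 n29247 = n20103 := d41_1 D29247 (iv D20103) (iv F86752)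
def n29248 : Q := act 1 n20102
theorem D29248 : act 1 n20102 = n29248 := rfl
theorem F124153 : act 5 n29248 = n21309 := d12_2 (iv F86759) D29248 (iv D21309)
theorem F124154 : act 8 n29248 = n29248 := d15_2 F86760 D29248 (iv D29248)
def n29249 : Q := act 9 n20102
theorem D29249 : act 9 n20102 = n29249 := rfl
theorem F124155 : act 0 n29249 = n29249 := d8_1 D29249 (iv D29249) F86758
theorem F124156 : act 2 n29249 = n20103 := d23_1 D29249 (iv D20103) D20102
theorem F124157 : act 5 n29249 = n21310 := d38_1 D29249 (iv D21310) (iv F86759)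
def n29250 : Q := act 8 n20103
theorem D29250 : act 8 n20103 = n29250 := rfl
theorem F124158 : act 0 n29250 = n29250 := d7_1 D29250 (iv D29250) F86761
theorem F124159 : act 3 n29250 = n20159 := d28_1 D29250 (iv D20159) F60898 (iv F60770) (iv F86762)
theorem F124160 : act 5 n29250 = n21311 := d37_1 D29250 (iv D21311) (iv F86763)
theorem F124161 : act 9 n29250 = n29250 := d44_2 D20103 D29250 (iv D29250) (iv D20103) F60766
def n29251 : Q := act 3 n20105
theorem D29251 : act 3 n20105 = n29251 := rfl
theorem F124162 : act 1 n29251 = n20110 := d10_1 D29251 (iv D20110) (iv F86768)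
theorem F124163 : act 4 n29251 = n29251 := d24_2 D20105 D29251 (iv D29251) (iv D20105) F60780
theorem F124164 : act 5 n29251 = n21312 := d25_2 (iv F86770) D29251 (iv D21312)
def n29252 : Q := act 6 n20105
theorem D29252 : act 6 n20105 = n29252 := rfl
theorem F124165 : act 1 n29252 = n20111 := d13_1 D29252 (iv D20111) (iv F86768)
theorem F124166 : act 2 n29252 = n29252 := d20_1 D29252 (iv D29252) F86769
theorem F124167 : act 4 n29252 = n20106 := d31_1 D29252 (iv D20106) D20105
def n29253 : Q := act 8 n20105
theorem D29253 : act 8 n20105 = n29253 := rfl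
theorem F124168 : act 1 n29253 = n20112 := d15_1 D29253 (iv D20112) (iv F86768)
theorem F124169 : act 2 n29253 = n29253 := d22_1 D29253 (iv D29253) F86769
theorem F124170 : act 4 n29253 = n20107 := d33_1 D29253 (iv D20107) D20105
def n29254 : Q := act 7 n20106
theorem D29254 : act 7 n20106 = n29254 := rfl
theorem F124172 : act 1 n29254 = n20113 := d14_1 D29254 (iv D20113) (iv F86771)
theorem F124173 : act 2 n29254 = n29254 := d21_1 D29254 (iv D29254) F86772
theorem F124174 : act 3 n29254 = n29254 := d27_1 D29254 (iv D29254) F86773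
theorem F124175 : act 5 n29254 = n20254 := d36_1 D29254 (iv D20254) (iv F86774)
def n29255 : Q := act 8 n20106
theorem D29255 : act 8 n20106 = n29255 := rfl
theorem F124176 : act 1 n29255 = n20114 := d15_1 D29255 (iv D20114) (iv F86771)
theorem F124177 : act 2 n29255 = n29255 := d22_1 D29255 (iv D29255) F86772
theorem F124178 : act 5 n29255 = n20255 := d37_1 D29255 (iv D20255) (iv F86774)
theorem F124179 : act 6 n29255 = n20107 := d40_1 D29255 (iv D20107) D20106
def n29256 : Q := act 3 n20107
theorem D29256 : act 3 n20107 = n29256 := rfl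
theorem F124180 : act 1 n29256 = n20115 := d10_1 D29256 (iv D20115) (iv F86775)
theorem F124181 : act 5 n29256 = n20108 := d25_2 (iv F86777) D29256 (iv D20108)
def n29257 : Q := act 9 n20107
theorem D29257 : act 9 n20107 = n29257 := rfl
theorem F124183 : act 1 n29257 = n20116 := d16_1 D29257 (iv D20116) (iv F86775)
theorem F124184 : act 2 n29257 = n29257 := d23_1 D29257 (iv D29257) F86776
theorem F124185 : act 5 n29257 = n20109 := d38_1 D29257 (iv D20109) (iv F86777)
def n29258 : Q := act 2 n20108
theorem D29258 : act 2 n20108 = n29258 := rfl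
def n29260 : Q := act 9 n20108
theorem D29260 : act 9 n20108 = n29260 := rfl
theorem F124194 : act 1 n29260 = n20118 := d16_1 D29260 (iv D20118) (iv F86778)
theorem F124195 : act 3 n29260 = n20109 := d29_1 D29260 (iv D20109) D20108
def n29261 : Q := act 6 n20110
theorem D29261 : act 6 n20110 = n29261 := rfl
theorem F124197 : act 0 n29261 = n20126 := d5_1 D29261 (iv D20126) (iv F86785)
theorem F124198 : act 2 n29261 = n29261 := d20_1 D29261 (iv D29261) F86786
theorem F124199 : act 3 n29261 = n20111 := d26_1 D29261 (iv D20111) D20110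
theorem F124200 : act 4 n29261 = n29261 := d31_1 D29261 (iv D29261) F86787
def n29262 : Q := act 8 n20110
theorem D29262 : act 8 n20110 = n29262 := rfl
theorem F124201 : act 0 n29262 = n20127 := d7_1 D29262 (iv D20127) (iv F86785)
theorem F124202 : act 2 n29262 = n29262 := d22_1 D29262 (iv D29262) F86786
theorem F124203 : act 4 n29262 = n29262 := d33_1 D29262 (iv D29262) F86787
theorem F124204 : act 5 n29262 = n21323 := d37_1 D29262 (iv D21323) (iv F86788)
def n29263 : Q := act 5 n20111
theorem D29263 : act 5 n20111 = n29263 := rfl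
theorem F124205 : act 0 n29263 = n20128 := d4_1 D29263 (iv D20128) (iv F86789)
theorem F124206 : act 2 n29263 = n20119 := d19_1 D29263 (iv D20119) (iv F86790)
theorem F124207 : act 4 n29263 = n20263 := d30_1 D29263 (iv D20263) F61191 (iv F60791) (iv F86791)
theorem F124208 : act 6 n29263 = n21324 := d35_2 D20111 D29263 (iv D21324) (iv D14650) (iv F60787)
def n29264 : Q := act 7 n20111
theorem D29264 : act 7 n20111 = n29264 := rfl
theorem F124209 : act 0 n29264 = n20129 := d6_1 D29264 (iv D20129) (iv F86789)
theorem F124210 : act 2 n29264 = n20120 := d21_1 D29264 (iv D20120) (iv F86790)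
theorem F124211 : act 4 n29264 = n20113 := d32_1 D29264 (iv D20113) (iv F86791)
def n29265 : Q := act 8 n20111
theorem D29265 : act 8 n20111 = n29265 := rfl
theorem F124212 : act 0 n29265 = n20130 := d7_1 D29265 (iv D20130) (iv F86789)
theorem F124213 : act 2 n29265 = n20121 := d22_1 D29265 (iv D20121) (iv F86790)
theorem F124214 : act 4 n29265 = n20114 := d33_1 D29265 (iv D20114) (iv F86791)
theorem F124215 : act 6 n29265 = n20112 := d40_1 D29265 (iv D20112) D20111
def n29266 : Q := act 3 n20112
theorem D29266 : act 3 n20112 = n29266 := rfl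
theorem F124216 : act 0 n29266 = n20131 := d2_1 D29266 (iv D20131) (iv F86792)
theorem F124217 : act 5 n29266 = n21327 := d25_2 (iv F86795) D29266 (iv D21327)
def n29267 : Q := act 9 n20112
theorem D29267 : act 9 n20112 = n29267 := rfl
theorem F124218 : act 0 n29267 = n20132 := d8_1 D29267 (iv D20132) (iv F86792)
theorem F124219 : act 2 n29267 = n20123 := d23_1 D29267 (iv D20123) (iv F86793)
theorem F124220 : act 4 n29267 = n20116 := d34_1 D29267 (iv D20116) (iv F86794)
theorem F124221 : act 5 n29267 = n21328 := d38_1 D29267 (iv D21328) (iv F86795)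
def n29268 : Q := act 8 n20113
theorem D29268 : act 8 n20113 = n29268 := rfl
theorem F124222 : act 0 n29268 = n20133 := d7_1 D29268 (iv D20133) (iv F86796)
theorem F124223 : act 2 n29268 = n20124 := d22_1 D29268 (iv D20124) (iv F86797)
theorem F124224 : act 5 n29268 = n20268 := d37_1 D29268 (iv D20268) (iv F86799)
theorem F124225 : act 7 n29268 = n20114 := d42_1 D29268 (iv D20114) D20113
def n29269 : Q := act 3 n20114
theorem D29269 : act 3 n20114 = n29269 := rfl
theorem F124226 : act 0 n29269 = n20134 := d2_1 D29269 (iv D20134) (iv F86800)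
theorem F124227 : act 2 n29269 = n29269 := d17_1 D29269 (iv D29269) F86801 F60817 (iv F86801)
theorem F124228 : act 5 n29269 = n20269 := d25_2 (iv F86802) D29269 (iv D20269)
theorem F124229 : act 6 n29269 = n20115 := d26_2 (iv F86803) D29269 (iv D20115)
theorem F124230 : act 8 n29269 = n29269 := d28_2 D20114 D29269 (iv D29269) (iv D20114) F60790
def n29270 : Q := act 9 n20114
theorem D29270 : act 9 n20114 = n29270 := rfl
theorem F124231 : act 0 n29270 = n20135 := d8_1 D29270 (iv D20135) (iv F86800)
theorem F124232 : act 2 n29270 = n20125 := d23_1 D29270 (iv D20125) (iv F86801)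
theorem F124233 : act 5 n29270 = n20270 := d38_1 D29270 (iv D20270) (iv F86802)
theorem F124234 : act 6 n29270 = n20116 := d41_1 D29270 (iv D20116) (iv F86803)
def n29271 : Q := act 4 n20115
theorem D29271 : act 4 n20115 = n29271 := rfl
theorem F124235 : act 0 n29271 = n20136 := d3_1 D29271 (iv D20136) (iv F86804)
theorem F124236 : act 2 n29271 = n29271 := d18_1 D29271 (iv D29271) F86805
theorem F124237 : act 8 n29271 = n29271 := d33_2 F86807 D29271 (iv D29271)
def n29272 : Q := act 9 n20115
theorem D29272 : act 9 n20115 = n29272 := rfl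
theorem F124238 : act 0 n29272 = n20137 := d8_1 D29272 (iv D20137) (iv F86804)
theorem F124239 : act 2 n29272 = n29272 := d23_1 D29272 (iv D29272) F86805
theorem F124240 : act 3 n29272 = n20116 := d29_1 D29272 (iv D20116) D20115
theorem F124241 : act 5 n29272 = n20118 := d38_1 D29272 (iv D20118) (iv F86806)
def n29273 : Q := act 5 n20117
theorem D29273 : act 5 n20117 = n29273 := rfl
theorem F124242 : act 0 n29273 = n20138 := d4_1 D29273 (iv D20138) (iv F86811)
theorem F124244 : act 3 n29273 = n21334 := d25_1 D29273 (iv D21334) (iv F86813)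
def n29274 : Q := act 9 n20117
theorem D29274 : act 9 n20117 = n29274 := rfl
theorem F124246 : act 0 n29274 = n20139 := d8_1 D29274 (iv D20139) (iv F86811)
theorem F124248 : act 3 n29274 = n21335 := d29_1 D29274 (iv D21335) (iv F86813)
theorem F124249 : act 4 n29274 = n20118 := d34_1 D29274 (iv D20118) D20117
def n29275 : Q := act 8 n20118
theorem D29275 : act 8 n20118 = n29275 := rfl
theorem F124251 : act 0 n29275 = n20140 := d7_1 D29275 (iv D20140) (iv F86816)
theorem F124252 : act 2 n29275 = n29275 := d22_1 D29275 (iv D29275) F86817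
theorem F124253 : act 6 n29275 = n20275 := d40_1 D29275 (iv D20275) (iv F86819)
theorem F124254 : act 9 n29275 = n29275 := d44_2 D20118 D29275 (iv D29275) (iv D20118) F60798
def n29276 : Q := act 7 n20119
theorem D29276 : act 7 n20119 = n29276 := rfl
theorem F124255 : act 0 n29276 = n20141 := d6_1 D29276 (iv D20141) (iv F86820)
theorem F124256 : act 1 n29276 = n29276 := d14_1 D29276 (iv D29276) F86821
theorem F124257 : act 3 n29276 = n29276 := d27_1 D29276 (iv D29276) F86822
theorem F124258 : act 4 n29276 = n20276 := d32_1 D29276 (iv D20276) (iv F86823)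
theorem F124259 : act 5 n29276 = n20120 := d36_1 D29276 (iv D20120) D20119
def n29277 : Q := act 8 n20119
theorem D29277 : act 8 n20119 = n29277 := rfl
theorem F124260 : act 0 n29277 = n20142 := d7_1 D29277 (iv D20142) (iv F86820)
theorem F124261 : act 1 n29277 = n29277 := d15_1 D29277 (iv D29277) F86821
theorem F124262 : act 4 n29277 = n20277 := d33_1 D29277 (iv D20277) (iv F86823)
theorem F124263 : act 5 n29277 = n20121 := d37_1 D29277 (iv D20121) D20119
theorem F124264 : act 6 n29277 = n21338 := d40_1 D29277 (iv D21338) (iv F86824)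
def n29278 : Q := act 8 n20120
theorem D29278 : act 8 n20120 = n29278 := rfl
theorem F124265 : act 0 n29278 = n20143 := d7_1 D29278 (iv D20143) (iv F86825)
theorem F124266 : act 1 n29278 = n29278 := d15_1 D29278 (iv D29278) F86826
theorem F124267 : act 4 n29278 = n20124 := d33_1 D29278 (iv D20124) (iv F86828)
theorem F124268 : act 7 n29278 = n20121 := d42_1 D29278 (iv D20121) D20120
def n29279 : Q := act 3 n20121
theorem D29279 : act 3 n20121 = n29279 := rfl
theorem F124269 : act 0 n29279 = n20144 := d2_1 D29279 (iv D20144) (iv F86829)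
theorem F124270 : act 1 n29279 = n29279 := d10_1 D29279 (iv D29279) F86830
theorem F124271 : act 4 n29279 = n29279 := d24_2 (iv F86831) D29279 (iv D29279) F86831 F60817
theorem F124272 : act 6 n29279 = n20122 := d26_2 (iv F86832) D29279 (iv D20122)
theorem F124273 : act 8 n29279 = n29279 := d28_2 D20121 D29279 (iv D29279) (iv D20121) F60805
def n29280 : Q := act 9 n20121
theorem D29280 : act 9 n20121 = n29280 := rfl
theorem F124274 : act 0 n29280 = n20145 := d8_1 D29280 (iv D20145) (iv F86829)
theorem F124275 : act 1 n29280 = n29280 := d16_1 D29280 (iv D29280) F86830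
theorem F124276 : act 4 n29280 = n20125 := d34_1 D29280 (iv D20125) (iv F86831)
theorem F124277 : act 6 n29280 = n20123 := d41_1 D29280 (iv D20123) (iv F86832)
def n29281 : Q := act 2 n20122
theorem D29281 : act 2 n20122 = n29281 := rfl
theorem F124278 : act 0 n29281 = n20146 := d1_1 D29281 (iv D20146) (iv F86833)
theorem F124279 : act 4 n29281 = n29281 := d18_2 F86835 D29281 (iv D29281)
theorem F124280 : act 5 n29281 = n21342 := d19_2 (iv F86836) D29281 (iv D21342)
theorem F124281 : act 8 n29281 = n29281 := d22_2 F86837 D29281 (iv D29281)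
def n29282 : Q := act 9 n20122
theorem D29282 : act 9 n20122 = n29282 := rfl
theorem F124282 : act 0 n29282 = n20147 := d8_1 D29282 (iv D20147) (iv F86833)
theorem F124283 : act 1 n29282 = n29282 := d16_1 D29282 (iv D29282) F86834
theorem F124284 : act 3 n29282 = n20123 := d29_1 D29282 (iv D20123) D20122
theorem F124285 : act 4 n29282 = n29282 := d34_1 D29282 (iv D29282) F86835
theorem F124286 : act 5 n29282 = n21343 := d38_1 D29282 (iv D21343) (iv F86836)
def n29283 : Q := act 9 n20124
theorem D29283 : act 9 n20124 = n29283 := rfl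
theorem F124287 : act 0 n29283 = n20148 := d8_1 D29283 (iv D20148) (iv F86842)
theorem F124288 : act 1 n29283 = n29283 := d16_1 D29283 (iv D29283) F86843
theorem F124289 : act 3 n29283 = n29283 := d29_1 D29283 (iv D29283) F86844
theorem F124290 : act 5 n29283 = n20283 := d38_1 D29283 (iv D20283) (iv F86845)
theorem F124291 : act 7 n29283 = n20125 := d43_1 D29283 (iv D20125) (iv F86846)
def n29284 : Q := act 5 n20126
theorem D29284 : act 5 n20126 = n29284 := rfl
theorem F124292 : act 2 n29284 = n29284 := d19_1 D29284 (iv D29284) F86852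
theorem F124293 : act 3 n29284 = n20128 := d25_1 D29284 (iv D20128) (iv F86853)
theorem F124294 : act 6 n29284 = n21345 := d35_2 D20126 D29284 (iv D21345) (iv D14665) (iv F60826)
def n29285 : Q := act 7 n20126
theorem D29285 : act 7 n20126 = n29285 := rfl
theorem F124295 : act 2 n29285 = n29285 := d21_1 D29285 (iv D29285) F86852
theorem F124296 : act 3 n29285 = n20129 := d27_1 D29285 (iv D20129) (iv F86853)
theorem F124297 : act 4 n29285 = n29285 := d32_1 D29285 (iv D29285) F86854
def n29286 : Q := act 8 n20126
theorem D29286 : act 8 n20126 = n29286 := rfl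
theorem F124298 : act 2 n29286 = n29286 := d22_1 D29286 (iv D29286) F86852
theorem F124299 : act 4 n29286 = n29286 := d33_1 D29286 (iv D29286) F86854
theorem F124300 : act 6 n29286 = n20127 := d40_1 D29286 (iv D20127) D20126
def n29287 : Q := act 3 n20127
theorem D29287 : act 3 n20127 = n29287 := rfl
theorem F124301 : act 5 n29287 = n21348 := d25_2 (iv F86857) D29287 (iv D21348)
theorem F124302 : act 8 n29287 = n20131 := d28_2 D20127 D29287 (iv D20131) (iv D13848) D13846
def n29288 : Q := act 9 n20127
theorem D29288 : act 9 n20127 = n29288 := rfl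
theorem F124303 : act 2 n29288 = n29288 := d23_1 D29288 (iv D29288) F86855
theorem F124304 : act 4 n29288 = n29288 := d34_1 D29288 (iv D29288) F86856
theorem F124305 : act 5 n29288 = n21349 := d38_1 D29288 (iv D21349) (iv F86857)
def n29289 : Q := act 7 n20128
theorem D29289 : act 7 n20128 = n29289 := rfl
theorem F124306 : act 2 n29289 = n20141 := d21_1 D29289 (iv D20141) (iv F86858)
theorem F124307 : act 4 n29289 = n20289 := d32_1 D29289 (iv D20289) (iv F86859)
theorem F124308 : act 5 n29289 = n20129 := d36_1 D29289 (iv D20129) D20128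
def n29290 : Q := act 8 n20128
theorem D29290 : act 8 n20128 = n29290 := rfl
theorem F124309 : act 2 n29290 = n20142 := d22_1 D29290 (iv D20142) (iv F86858)
theorem F124310 : act 4 n29290 = n20290 := d33_1 D29290 (iv D20290) (iv F86859)
theorem F124311 : act 5 n29290 = n20130 := d37_1 D29290 (iv D20130) D20128
theorem F124312 : act 6 n29290 = n21351 := d40_1 D29290 (iv D21351) (iv F86860)
def n29291 : Q := act 8 n20129
theorem D29291 : act 8 n20129 = n29291 := rfl
theorem F124313 : act 2 n29291 = n20143 := d22_1 D29291 (iv D20143) (iv F86861)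
theorem F124314 : act 4 n29291 = n20133 := d33_1 D29291 (iv D20133) (iv F86862)
theorem F124315 : act 7 n29291 = n20130 := d42_1 D29291 (iv D20130) D20129
def n29292 : Q := act 3 n20130
theorem D29292 : act 3 n20130 = n29292 := rfl
theorem F124316 : act 6 n29292 = n20131 := d26_2 (iv F86865) D29292 (iv D20131)
def n29293 : Q := act 9 n20130
theorem D29293 : act 9 n20130 = n29293 := rfl
theorem F124317 : act 2 n29293 = n20145 := d23_1 D29293 (iv D20145) (iv F86863)
theorem F124318 : act 4 n29293 = n20135 := d34_1 D29293 (iv D20135) (iv F86864)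
theorem F124319 : act 6 n29293 = n20132 := d41_1 D29293 (iv D20132) (iv F86865)
def n29294 : Q := act 2 n20131
theorem D29294 : act 2 n20131 = n29294 := rfl
theorem F124320 : act 3 n29294 = n20146 := d17_2 D20131 D29294 (iv D20146) (iv D13858) (iv F60829)
theorem F124321 : act 5 n29294 = n21355 := d19_2 (iv F86866) D29294 (iv D21355)
def n29295 : Q := act 4 n20131
theorem D29295 : act 4 n20131 = n29295 := rfl
theorem F124322 : act 3 n29295 = n20136 := d24_1 D29295 (iv D20136) (iv D13851) (iv F60830) D20131
def n29296 : Q := act 9 n20131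
theorem D29296 : act 9 n20131 = n29296 := rfl
theorem F124323 : act 3 n29296 = n20132 := d29_1 D29296 (iv D20132) D20131
theorem F124324 : act 5 n29296 = n21357 := d38_1 D29296 (iv D21357) (iv F86866)
def n29297 : Q := act 3 n20133
theorem D29297 : act 3 n20133 = n29297 := rfl
theorem F124325 : act 2 n29297 = n29297 := d17_1 D29297 (iv D29297) F86870 F60868 (iv F86870)
theorem F124326 : act 5 n29297 = n20297 := d25_2 (iv F86871) D29297 (iv D20297)
theorem F124327 : act 7 n29297 = n20134 := d27_2 (iv F86872) D29297 (iv D20134)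
theorem F124328 : act 8 n29297 = n29297 := d28_2 D20133 D29297 (iv D29297) (iv D20133) F60833
def n29298 : Q := act 9 n20133
theorem D29298 : act 9 n20133 = n29298 := rfl
theorem F124329 : act 2 n29298 = n20148 := d23_1 D29298 (iv D20148) (iv F86870)
theorem F124330 : act 5 n29298 = n20298 := d38_1 D29298 (iv D20298) (iv F86871)
theorem F124331 : act 7 n29298 = n20135 := d43_1 D29298 (iv D20135) (iv F86872)
def n29299 : Q := act 4 n20134
theorem D29299 : act 4 n20134 = n29299 := rfl
theorem F124332 : act 2 n29299 = n29299 := d18_1 D29299 (iv D29299) F86873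
theorem F124333 : act 6 n29299 = n20136 := d31_2 (iv F86875) D29299 (iv D20136)
theorem F124334 : act 8 n29299 = n29299 := d33_2 F86876 D29299 (iv D29299)
def n29300 : Q := act 9 n20134
theorem D29300 : act 9 n20134 = n29300 := rfl
theorem F124335 : act 2 n29300 = n29300 := d23_1 D29300 (iv D29300) F86873
theorem F124336 : act 3 n29300 = n20135 := d29_1 D29300 (iv D20135) D20134
theorem F124337 : act 5 n29300 = n20300 := d38_1 D29300 (iv D20300) (iv F86874)
theorem F124338 : act 6 n29300 = n20137 := d41_1 D29300 (iv D20137) (iv F86875)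
def n29301 : Q := act 5 n20136
theorem D29301 : act 5 n20136 = n29301 := rfl
theorem F124339 : act 2 n29301 = n29301 := d19_1 D29301 (iv D29301) F86880
theorem F124340 : act 4 n29301 = n20138 := d30_1 D29301 (iv D20138) (iv D13853) (iv F60839) D20136
theorem F124341 : act 8 n29301 = n29301 := d37_2 F86881 D29301 (iv D29301)
def n29302 : Q := act 9 n20136
theorem D29302 : act 9 n20136 = n29302 := rfl
theorem F124342 : act 2 n29302 = n29302 := d23_1 D29302 (iv D29302) F86880
theorem F124343 : act 4 n29302 = n20137 := d34_1 D29302 (iv D20137) D20136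
def n29303 : Q := act 8 n20137
theorem D29303 : act 8 n20137 = n29303 := rfl
theorem F124344 : act 2 n29303 = n29303 := d22_1 D29303 (iv D29303) F86882
theorem F124345 : act 5 n29303 = n20140 := d37_1 D29303 (iv D20140) (iv F86884)
theorem F124346 : act 9 n29303 = n29303 := d44_2 D20137 D29303 (iv D29303) (iv D20137) F60840
def n29304 : Q := act 6 n20138
theorem D29304 : act 6 n20138 = n29304 := rfl
theorem F124347 : act 2 n29304 = n29304 := d20_1 D29304 (iv D29304) F86885
theorem F124348 : act 3 n29304 = n21365 := d26_1 D29304 (iv D21365) (iv F86886)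
theorem F124349 : act 5 n29304 = n20304 := d35_1 D29304 (iv D20304) (iv D13964) (iv F60845) D20138
theorem F124350 : act 8 n29304 = n29304 := d40_2 F86887 D29304 (iv D29304)
def n29305 : Q := act 9 n20138
theorem D29305 : act 9 n20138 = n29305 := rfl
theorem F124351 : act 2 n29305 = n29305 := d23_1 D29305 (iv D29305) F86885
theorem F124352 : act 3 n29305 = n21366 := d29_1 D29305 (iv D21366) (iv F86886)
theorem F124353 : act 5 n29305 = n20139 := d38_1 D29305 (iv D20139) D20138
def n29306 : Q := act 8 n20139
theorem D29306 : act 8 n20139 = n29306 := rfl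
theorem F124354 : act 2 n29306 = n29306 := d22_1 D29306 (iv D29306) F86888
theorem F124355 : act 4 n29306 = n20140 := d33_1 D29306 (iv D20140) (iv F86890)
theorem F124356 : act 6 n29306 = n20306 := d40_1 D29306 (iv D20306) (iv F86891)
theorem F124357 : act 9 n29306 = n29306 := d44_2 D20139 D29306 (iv D29306) (iv D20139) F60846
def n29307 : Q := act 6 n20141
theorem D29307 : act 6 n20141 = n29307 := rfl
theorem F124358 : act 1 n29307 = n20149 := d13_1 D29307 (iv D20149) (iv F86895)
theorem F124359 : act 3 n29307 = n29307 := d26_1 D29307 (iv D29307) F86896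
theorem F124360 : act 4 n29307 = n20307 := d31_1 D29307 (iv D20307) (iv F86897)
theorem F124361 : act 7 n29307 = n21368 := d39_2 D20141 D29307 (iv D21368) (iv D14680) (iv F60853)
def n29308 : Q := act 8 n20141
theorem D29308 : act 8 n20141 = n29308 := rfl
theorem F124362 : act 1 n29308 = n20150 := d15_1 D29308 (iv D20150) (iv F86895)
theorem F124363 : act 4 n29308 = n20308 := d33_1 D29308 (iv D20308) (iv F86897)
theorem F124364 : act 5 n29308 = n20143 := d37_1 D29308 (iv D20143) (iv F86898)
theorem F124365 : act 7 n29308 = n20142 := d42_1 D29308 (iv D20142) D20141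
def n29309 : Q := act 3 n20142
theorem D29309 : act 3 n20142 = n29309 := rfl
theorem F124366 : act 1 n29309 = n20151 := d10_1 D29309 (iv D20151) (iv F86899)
theorem F124367 : act 5 n29309 = n20144 := d25_2 (iv F86901) D29309 (iv D20144)
theorem F124368 : act 6 n29309 = n21370 := d26_2 (iv F86902) D29309 (iv D21370)
theorem F124369 : act 8 n29309 = n29309 := d28_2 D20142 D29309 (iv D29309) (iv D20142) F60851
def n29310 : Q := act 9 n20142
theorem D29310 : act 9 n20142 = n29310 := rfl
theorem F124370 : act 1 n29310 = n20152 := d16_1 D29310 (iv D20152) (iv F86899)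
theorem F124371 : act 4 n29310 = n20310 := d34_1 D29310 (iv D20310) (iv F86900)
theorem F124372 : act 5 n29310 = n20145 := d38_1 D29310 (iv D20145) (iv F86901)
theorem F124373 : act 6 n29310 = n21371 := d41_1 D29310 (iv D21371) (iv F86902)
def n29311 : Q := act 3 n20143
theorem D29311 : act 3 n20143 = n29311 := rfl
theorem F124374 : act 1 n29311 = n20153 := d10_1 D29311 (iv D20153) (iv F86903)
theorem F124375 : act 4 n29311 = n29311 := d24_2 (iv F86904) D29311 (iv D29311) F86904 F60868
theorem F124376 : act 7 n29311 = n20144 := d27_2 (iv F86905) D29311 (iv D20144)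
theorem F124377 : act 8 n29311 = n29311 := d28_2 D20143 D29311 (iv D29311) (iv D20143) F60855
def n29312 : Q := act 9 n20143
theorem D29312 : act 9 n20143 = n29312 := rfl
theorem F124378 : act 1 n29312 = n20154 := d16_1 D29312 (iv D20154) (iv F86903)
theorem F124379 : act 4 n29312 = n20148 := d34_1 D29312 (iv D20148) (iv F86904)
theorem F124380 : act 7 n29312 = n20145 := d43_1 D29312 (iv D20145) (iv F86905)
def n29313 : Q := act 2 n20144
theorem D29313 : act 2 n20144 = n29313 := rfl
theorem F124381 : act 4 n29313 = n29313 := d18_2 F86907 D29313 (iv D29313)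
theorem F124382 : act 6 n29313 = n20146 := d20_2 (iv F86908) D29313 (iv D20146)
theorem F124383 : act 8 n29313 = n29313 := d22_2 F86909 D29313 (iv D29313)
def n29314 : Q := act 9 n20144
theorem D29314 : act 9 n20144 = n29314 := rfl
theorem F124384 : act 1 n29314 = n20156 := d16_1 D29314 (iv D20156) (iv F86906)
theorem F124385 : act 3 n29314 = n20145 := d29_1 D29314 (iv D20145) D20144
theorem F124386 : act 4 n29314 = n29314 := d34_1 D29314 (iv D29314) F86907
theorem F124387 : act 6 n29314 = n20147 := d41_1 D29314 (iv D20147) (iv F86908)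
def n29315 : Q := act 1 n20146
theorem D29315 : act 1 n20146 = n29315 := rfl
theorem F124388 : act 2 n29315 = n20157 := d9_2 D20146 D29315 (iv D20157) (iv D13867) (iv F60860)
theorem F124389 : act 4 n29315 = n29315 := d11_2 F86913 D29315 (iv D29315)
theorem F124390 : act 5 n29315 = n21376 := d12_2 (iv F86914) D29315 (iv D21376)
theorem F124391 : act 8 n29315 = n29315 := d15_2 F86915 D29315 (iv D29315)
def n29316 : Q := act 9 n20146
theorem D29316 : act 9 n20146 = n29316 := rfl
theorem F124392 : act 2 n29316 = n20147 := d23_1 D29316 (iv D20147) D20146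
theorem F124393 : act 4 n29316 = n29316 := d34_1 D29316 (iv D29316) F86913
theorem F124394 : act 5 n29316 = n21377 := d38_1 D29316 (iv D21377) (iv F86914)
def n29317 : Q := act 8 n20147
theorem D29317 : act 8 n20147 = n29317 := rfl
theorem F124395 : act 1 n29317 = n20159 := d15_1 D29317 (iv D20159) (iv F86916)
theorem F124396 : act 4 n29317 = n29317 := d33_1 D29317 (iv D29317) F86918
theorem F124397 : act 5 n29317 = n21378 := d37_1 D29317 (iv D21378) (iv F86919)
theorem F124398 : act 9 n29317 = n29317 := d44_2 D20147 D29317 (iv D29317) (iv D20147) F60863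
def n29318 : Q := act 8 n20149
theorem D29318 : act 8 n20149 = n29318 := rfl
theorem F124399 : act 0 n29318 = n29318 := d7_1 D29318 (iv D29318) F86924
theorem F124400 : act 4 n29318 = n20318 := d33_1 D29318 (iv D20318) (iv F86926)
theorem F124401 : act 6 n29318 = n20150 := d40_1 D29318 (iv D20150) D20149
theorem F124402 : act 7 n29318 = n21379 := d42_1 D29318 (iv D21379) (iv F86927)
def n29319 : Q := act 3 n20150
theorem D29319 : act 3 n20150 = n29319 := rfl
theorem F124403 : act 0 n29319 = n29319 := d2_1 D29319 (iv D29319) F86928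
theorem F124404 : act 5 n29319 = n20153 := d25_2 (iv F86930) D29319 (iv D20153)
theorem F124405 : act 7 n29319 = n20151 := d27_2 (iv F86931) D29319 (iv D20151)
theorem F124406 : act 8 n29319 = n29319 := d28_2 D20150 D29319 (iv D29319) (iv D20150) F60876
def n29320 : Q := act 9 n20150
theorem D29320 : act 9 n20150 = n29320 := rfl
theorem F124407 : act 0 n29320 = n29320 := d8_1 D29320 (iv D29320) F86928
theorem F124408 : act 4 n29320 = n20320 := d34_1 D29320 (iv D20320) (iv F86929)
theorem F124409 : act 5 n29320 = n20154 := d38_1 D29320 (iv D20154) (iv F86930)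
theorem F124410 : act 7 n29320 = n20152 := d43_1 D29320 (iv D20152) (iv F86931)
def n29321 : Q := act 2 n20151
theorem D29321 : act 2 n20151 = n29321 := rfl
theorem F124411 : act 0 n29321 = n29321 := d1_1 D29321 (iv D29321) F86932
theorem F124412 : act 5 n29321 = n20155 := d19_2 (iv F86933) D29321 (iv D20155)
theorem F124413 : act 6 n29321 = n21382 := d20_2 (iv F86934) D29321 (iv D21382)
theorem F124414 : act 8 n29321 = n29321 := d22_2 F86935 D29321 (iv D29321)
def n29322 : Q := act 4 n20151
theorem D29322 : act 4 n20151 = n29322 := rfl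
theorem F124415 : act 0 n29322 = n29322 := d3_1 D29322 (iv D29322) F86932
theorem F124416 : act 3 n29322 = n20322 := d24_1 D29322 (iv D20322) (iv D13977) (iv F60880) D20151
theorem F124417 : act 5 n29322 = n29322 := d30_2 (iv F86933) D29322 (iv D29322) F86933 F60887
theorem F124418 : act 6 n29322 = n21383 := d31_2 (iv F86934) D29322 (iv D21383)
theorem F124419 : act 8 n29322 = n29322 := d33_2 F86935 D29322 (iv D29322)
def n29323 : Q := act 9 n20151
theorem D29323 : act 9 n20151 = n29323 := rfl
theorem F124420 : act 0 n29323 = n29323 := d8_1 D29323 (iv D29323) F86932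
theorem F124421 : act 3 n29323 = n20152 := d29_1 D29323 (iv D20152) D20151
theorem F124422 : act 5 n29323 = n20156 := d38_1 D29323 (iv D20156) (iv F86933)
theorem F124423 : act 6 n29323 = n21384 := d41_1 D29323 (iv D21384) (iv F86934)
def n29324 : Q := act 2 n20153
theorem D29324 : act 2 n20153 = n29324 := rfl
theorem F124426 : act 7 n29324 = n20155 := d21_2 (iv F86942) D29324 (iv D20155)
def n29325 : Q := act 9 n20153
theorem D29325 : act 9 n20153 = n29325 := rfl
theorem F124428 : act 0 n29325 = n29325 := d8_1 D29325 (iv D29325) F86940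
theorem F124429 : act 3 n29325 = n20154 := d29_1 D29325 (iv D20154) D20153
theorem F124430 : act 4 n29325 = n29325 := d34_1 D29325 (iv D29325) F86941
theorem F124431 : act 7 n29325 = n20156 := d43_1 D29325 (iv D20156) (iv F86942)
def n29326 : Q := act 1 n20155
theorem D29326 : act 1 n20155 = n29326 := rfl
theorem F124432 : act 4 n29326 = n29326 := d11_2 F86948 D29326 (iv D29326)
theorem F124433 : act 6 n29326 = n20157 := d13_2 (iv F86949) D29326 (iv D20157)
theorem F124434 : act 8 n29326 = n29326 := d15_2 F86950 D29326 (iv D29326)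
def n29327 : Q := act 9 n20155
theorem D29327 : act 9 n20155 = n29327 := rfl
theorem F124435 : act 0 n29327 = n29327 := d8_1 D29327 (iv D29327) F86947
theorem F124436 : act 2 n29327 = n20156 := d23_1 D29327 (iv D20156) D20155
theorem F124437 : act 4 n29327 = n29327 := d34_1 D29327 (iv D29327) F86948
theorem F124438 : act 6 n29327 = n20158 := d41_1 D29327 (iv D20158) (iv F86949)
def n29328 : Q := act 8 n20156
theorem D29328 : act 8 n20156 = n29328 := rfl
theorem F124439 : act 0 n29328 = n29328 := d7_1 D29328 (iv D29328) F86951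
theorem F124440 : act 4 n29328 = n29328 := d33_1 D29328 (iv D29328) F86953
theorem F124441 : act 6 n29328 = n20159 := d40_1 D29328 (iv D20159) (iv F86954)
theorem F124442 : act 9 n29328 = n29328 := d44_2 D20156 D29328 (iv D29328) (iv D20156) F60889
def n29329 : Q := act 0 n20157
theorem D29329 : act 0 n20157 = n29329 := rfl
theorem F124443 : act 1 n29329 = n29329 := d0_2 D20157 D29329 (iv D29329) (iv D20157) F60893
theorem F124444 : act 4 n29329 = n29329 := d3_2 F86955 D29329 (iv D29329)
theorem F124445 : act 5 n29329 = n21390 := d4_2 (iv F86956) D29329 (iv D21390)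
theorem F124446 : act 8 n29329 = n29329 := d7_2 F86957 D29329 (iv D29329)
def n29330 : Q := act 9 n20157
theorem D29330 : act 9 n20157 = n29330 := rfl
theorem F124447 : act 1 n29330 = n20158 := d16_1 D29330 (iv D20158) D20157
theorem F124448 : act 4 n29330 = n29330 := d34_1 D29330 (iv D29330) F86955
theorem F124449 : act 5 n29330 = n21391 := d38_1 D29330 (iv D21391) (iv F86956)
def n29331 : Q := act 8 n20158
theorem D29331 : act 8 n20158 = n29331 := rfl
theorem F124450 : act 0 n29331 = n29331 := d7_1 D29331 (iv D29331) F86958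
theorem F124451 : act 2 n29331 = n20159 := d22_1 D29331 (iv D20159) (iv F86959)
theorem F124452 : act 4 n29331 = n29331 := d33_1 D29331 (iv D29331) F86960
theorem F124453 : act 5 n29331 = n21392 := d37_1 D29331 (iv D21392) (iv F86961)
theorem F124454 : act 9 n29331 = n29331 := d44_2 D20158 D29331 (iv D29331) (iv D20158) F60896
def n29332 : Q := act 4 n20160
theorem D29332 : act 4 n20160 = n29332 := rfl
theorem F124456 : act 1 n29332 = n20162 := d11_1 D29332 (iv D20162) (iv F86967)
def n29333 : Q := act 6 n20160
theorem D29333 : act 6 n20160 = n29333 := rfl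
theorem F124462 : act 1 n29333 = n20163 := d13_1 D29333 (iv D20163) (iv F86967)
def n29334 : Q := act 8 n20160
theorem D29334 : act 8 n20160 = n29334 := rfl
theorem F124466 : act 0 n29334 = n29334 := d7_1 D29334 (iv D29334) F86966
theorem F124467 : act 1 n29334 = n20164 := d15_1 D29334 (iv D20164) (iv F86967)
theorem F124468 : act 2 n29334 = n29334 := d22_1 D29334 (iv D29334) F86968
theorem F124469 : act 5 n29334 = n20161 := d37_1 D29334 (iv D20161) D20160
theorem F124470 : act 7 n29334 = n29334 := d42_1 D29334 (iv D29334) F86970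
def n29335 : Q := act 3 n20161
theorem D29335 : act 3 n20161 = n29335 := rfl
theorem F124471 : act 0 n29335 = n29335 := d2_1 D29335 (iv D29335) F86972
theorem F124472 : act 1 n29335 = n20165 := d10_1 D29335 (iv D20165) (iv F86973)
theorem F124473 : act 7 n29335 = n29335 := d27_2 F86976 D29335 (iv D29335)
theorem F124474 : act 8 n29335 = n29335 := d28_2 D20161 D29335 (iv D29335) (iv D20161) F60907
def n29336 : Q := act 9 n20161
theorem D29336 : act 9 n20161 = n29336 := rfl
theorem F124475 : act 0 n29336 = n29336 := d8_1 D29336 (iv D29336) F86972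
theorem F124476 : act 1 n29336 = n20166 := d16_1 D29336 (iv D20166) (iv F86973)
theorem F124477 : act 2 n29336 = n29336 := d23_1 D29336 (iv D29336) F86974
theorem F124478 : act 4 n29336 = n29336 := d34_1 D29336 (iv D29336) F86975
theorem F124479 : act 7 n29336 = n29336 := d43_1 D29336 (iv D29336) F86976
theorem F124480 : act 8 n29336 = n29336 := d44_1 D29336 (iv D29336) (iv D20161) F60910 D20161
def n29337 : Q := act 3 n20162
theorem D29337 : act 3 n20162 = n29337 := rfl
theorem F124482 : act 2 n29337 = n20373 := d17_1 D29337 (iv D20373) F61522 (iv F60922) (iv F86978)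
def n29338 : Q := act 6 n20162
theorem D29338 : act 6 n20162 = n29338 := rfl
theorem F124487 : act 0 n29338 = n20173 := d5_1 D29338 (iv D20173) (iv F86977)
theorem F124488 : act 2 n29338 = n20167 := d20_1 D29338 (iv D20167) (iv F86978)
theorem F124489 : act 4 n29338 = n20163 := d31_1 D29338 (iv D20163) D20162
def n29339 : Q := act 8 n20162
theorem D29339 : act 8 n20162 = n29339 := rfl
theorem F124491 : act 0 n29339 = n20174 := d7_1 D29339 (iv D20174) (iv F86977)
theorem F124492 : act 2 n29339 = n20168 := d22_1 D29339 (iv D20168) (iv F86978)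
def n29340 : Q := act 7 n20163
theorem D29340 : act 7 n20163 = n29340 := rfl
theorem F124496 : act 0 n29340 = n20175 := d6_1 D29340 (iv D20175) (iv F86982)
theorem F124497 : act 2 n29340 = n20169 := d21_1 D29340 (iv D20169) (iv F86983)
def n29341 : Q := act 8 n20163
theorem D29341 : act 8 n20163 = n29341 := rfl
theorem F124501 : act 0 n29341 = n20176 := d7_1 D29341 (iv D20176) (iv F86982)
theorem F124502 : act 2 n29341 = n20170 := d22_1 D29341 (iv D20170) (iv F86983)
theorem F124503 : act 6 n29341 = n20164 := d40_1 D29341 (iv D20164) D20163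
def n29342 : Q := act 3 n20164
theorem D29342 : act 3 n20164 = n29342 := rfl
theorem F124504 : act 0 n29342 = n20177 := d2_1 D29342 (iv D20177) (iv F86986)
theorem F124505 : act 2 n29342 = n20206 := d17_1 D29342 (iv D20206) F61045 (iv F60932) (iv F86987)
theorem F124506 : act 5 n29342 = n20165 := d25_2 (iv F86988) D29342 (iv D20165)
theorem F124507 : act 7 n29342 = n29342 := d27_2 F86989 D29342 (iv D29342)
theorem F124508 : act 8 n29342 = n29342 := d28_2 D20164 D29342 (iv D29342) (iv D20164) F60913
def n29343 : Q := act 9 n20164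
theorem D29343 : act 9 n20164 = n29343 := rfl
theorem F124509 : act 0 n29343 = n20178 := d8_1 D29343 (iv D20178) (iv F86986)
theorem F124510 : act 2 n29343 = n20171 := d23_1 D29343 (iv D20171) (iv F86987)
theorem F124511 : act 5 n29343 = n20166 := d38_1 D29343 (iv D20166) (iv F86988)
theorem F124512 : act 7 n29343 = n29343 := d43_1 D29343 (iv D29343) F86989
theorem F124513 : act 8 n29343 = n29343 := d44_1 D29343 (iv D29343) (iv D20164) F60915 D20164
def n29344 : Q := act 4 n20165
theorem D29344 : act 4 n20165 = n29344 := rfl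
theorem F124515 : act 2 n29344 = n20208 := d18_1 D29344 (iv D20208) (iv F86991)
def n29345 : Q := act 9 n20165
theorem D29345 : act 9 n20165 = n29345 := rfl
theorem F124519 : act 0 n29345 = n20180 := d8_1 D29345 (iv D20180) (iv F86990)
theorem F124520 : act 2 n29345 = n20209 := d23_1 D29345 (iv D20209) (iv F86991)
theorem F124521 : act 3 n29345 = n20166 := d29_1 D29345 (iv D20166) D20165
theorem F124522 : act 7 n29345 = n29345 := d43_1 D29345 (iv D29345) F86992
def n29346 : Q := act 5 n20167
theorem D29346 : act 5 n20167 = n29346 := rfl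
theorem F124525 : act 3 n29346 = n20382 := d25_1 D29346 (iv D20382) (iv F87001)
def n29347 : Q := act 7 n20167
theorem D29347 : act 7 n20167 = n29347 := rfl
theorem F124530 : act 3 n29347 = n20383 := d27_1 D29347 (iv D20383) (iv F87001)
theorem F124531 : act 4 n29347 = n20169 := d32_1 D29347 (iv D20169) (iv F87002)
def n29348 : Q := act 8 n20167
theorem D29348 : act 8 n20167 = n29348 := rfl
theorem F124536 : act 4 n29348 = n20170 := d33_1 D29348 (iv D20170) (iv F87002)
def n29349 : Q := act 3 n20168
theorem D29349 : act 3 n20168 = n29349 := rfl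
theorem F124543 : act 8 n29349 = n20385 := d28_2 D20168 D29349 (iv D20385) (iv D14019) (iv F60922)
def n29351 : Q := act 8 n20169
theorem D29351 : act 8 n20169 = n29351 := rfl
theorem F124550 : act 0 n29351 = n20186 := d7_1 D29351 (iv D20186) (iv F87009)
theorem F124551 : act 1 n29351 = n29351 := d15_1 D29351 (iv D29351) F87010
theorem F124552 : act 3 n29351 = n20215 := d28_1 D29351 (iv D20215) F61068 (iv F60946) (iv F87011)
theorem F124553 : act 6 n29351 = n29351 := d40_1 D29351 (iv D29351) F87012
theorem F124554 : act 7 n29351 = n20170 := d42_1 D29351 (iv D20170) D20169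
def n29352 : Q := act 9 n20170
theorem D29352 : act 9 n20170 = n29352 := rfl
theorem F124555 : act 0 n29352 = n20187 := d8_1 D29352 (iv D20187) (iv F87014)
theorem F124556 : act 1 n29352 = n29352 := d16_1 D29352 (iv D29352) F87015
theorem F124557 : act 3 n29352 = n20216 := d29_1 D29352 (iv D20216) (iv F87016)
theorem F124558 : act 6 n29352 = n20171 := d41_1 D29352 (iv D20171) (iv F87017)
theorem F124559 : act 8 n29352 = n29352 := d44_1 D29352 (iv D29352) (iv D20170) F60929 D20170
def n29353 : Q := act 6 n20172
theorem D29353 : act 6 n20172 = n29353 := rfl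

end Cfsg.Agent.Helper17.Fi23TC
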