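import Cfsg.Agent.Helper17.Fi23TC.Facts6

set_option autoImplicit false
set_option linter.all false

noncomputable section

namespace Cfsg.Agent.Helper17.Fi23TC

theorem F124561 : act 2 n29353 = n20389 := d20_1 D29353 (iv D20389) (iv F87025)
theorem F124562 : act 3 n29353 = n20173 := d26_1 D29353 (iv D20173) D20172
def n29354 : Q := act 8 n20172
theorem D29354 : act 8 n20172 = n29354 := rfl
def n29355 : Q := act 5 n20173
theorem D29355 : act 5 n20173 = n29355 := rfl
theorem F124571 : act 2 n29355 = n20181 := d19_1 D29355 (iv D20181) (iv F87031)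
def n29356 : Q := act 7 n20173
theorem D29356 : act 7 n20173 = n29356 := rfl
theorem F124576 : act 4 n29356 = n20175 := d32_1 D29356 (iv D20175) (iv F87032)
def n29357 : Q := act 8 n20173
theorem D29357 : act 8 n20173 = n29357 := rfl
theorem F124579 : act 1 n29357 = n29357 := d15_1 D29357 (iv D29357) F87030
theorem F124580 : act 2 n29357 = n20183 := d22_1 D29357 (iv D20183) (iv F87031)
theorem F124581 : act 4 n29357 = n20176 := d33_1 D29357 (iv D20176) (iv F87032)
theorem F124582 : act 6 n29357 = n20174 := d40_1 D29357 (iv D20174) D20173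
def n29358 : Q := act 3 n20174
theorem D29358 : act 3 n20174 = n29358 := rfl
theorem F124583 : act 1 n29358 = n29358 := d10_1 D29358 (iv D29358) F87034
theorem F124584 : act 5 n29358 = n29358 := d25_2 F87037 D29358 (iv D29358)
theorem F124585 : act 7 n29358 = n29358 := d27_2 F87038 D29358 (iv D29358)
def n29359 : Q := act 9 n20174
theorem D29359 : act 9 n20174 = n29359 := rfl
theorem F124586 : act 1 n29359 = n29359 := d16_1 D29359 (iv D29359) F87034
theorem F124587 : act 2 n29359 = n20185 := d23_1 D29359 (iv D20185) (iv F87035)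
theorem F124588 : act 4 n29359 = n20178 := d34_1 D29359 (iv D20178) (iv F87036)
theorem F124589 : act 5 n29359 = n29359 := d38_1 D29359 (iv D29359) F87037
theorem F124590 : act 7 n29359 = n29359 := d43_1 D29359 (iv D29359) F87038
theorem F124591 : act 8 n29359 = n29359 := d44_1 D29359 (iv D29359) (iv D20174) F60952 D20174
def n29360 : Q := act 8 n20175
theorem D29360 : act 8 n20175 = n29360 := rfl
theorem F124592 : act 1 n29360 = n29360 := d15_1 D29360 (iv D29360) F87039
theorem F124593 : act 2 n29360 = n20186 := d22_1 D29360 (iv D20186) (iv F87040)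
theorem F124594 : act 6 n29360 = n29360 := d40_1 D29360 (iv D29360) F87042
theorem F124595 : act 7 n29360 = n20176 := d42_1 D29360 (iv D20176) D20175
def n29361 : Q := act 3 n20176
theorem D29361 : act 3 n20176 = n29361 := rfl
theorem F124596 : act 1 n29361 = n29361 := d10_1 D29361 (iv D29361) F87044
theorem F124597 : act 2 n29361 = n20225 := d17_1 D29361 (iv D20225) F61095 (iv F60983) (iv F87045)
theorem F124598 : act 6 n29361 = n20177 := d26_2 (iv F87046) D29361 (iv D20177)
theorem F124599 : act 8 n29361 = n29361 := d28_2 D20176 D29361 (iv D29361) (iv D20176) F60955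
def n29362 : Q := act 9 n20176
theorem D29362 : act 9 n20176 = n29362 := rfl
theorem F124600 : act 1 n29362 = n29362 := d16_1 D29362 (iv D29362) F87044
theorem F124601 : act 2 n29362 = n20187 := d23_1 D29362 (iv D20187) (iv F87045)
theorem F124602 : act 6 n29362 = n20178 := d41_1 D29362 (iv D20178) (iv F87046)
theorem F124603 : act 8 n29362 = n29362 := d44_1 D29362 (iv D29362) (iv D20176) F60956 D20176
def n29363 : Q := act 4 n20177
theorem D29363 : act 4 n20177 = n29363 := rfl
theorem F124604 : act 1 n29363 = n29363 := d11_1 D29363 (iv D29363) F87047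
theorem F124605 : act 2 n29363 = n20227 := d18_1 D29363 (iv D20227) (iv F87048)
theorem F124606 : act 7 n29363 = n29363 := d32_2 F87050 D29363 (iv D29363)
theorem F124607 : act 8 n29363 = n29363 := d33_2 F87051 D29363 (iv D29363)
def n29364 : Q := act 9 n20177
theorem D29364 : act 9 n20177 = n29364 := rfl
theorem F124608 : act 1 n29364 = n29364 := d16_1 D29364 (iv D29364) F87047
theorem F124609 : act 2 n29364 = n20228 := d23_1 D29364 (iv D20228) (iv F87048)
theorem F124610 : act 3 n29364 = n20178 := d29_1 D29364 (iv D20178) D20177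
theorem F124611 : act 5 n29364 = n20180 := d38_1 D29364 (iv D20180) (iv F87049)
theorem F124612 : act 7 n29364 = n29364 := d43_1 D29364 (iv D29364) F87050
def n29365 : Q := act 5 n20179
theorem D29365 : act 5 n20179 = n29365 := rfl
theorem F124613 : act 1 n29365 = n29365 := d12_1 D29365 (iv D29365) F87057
theorem F124614 : act 2 n29365 = n20229 := d19_1 D29365 (iv D20229) (iv F87058)
theorem F124615 : act 3 n29365 = n29365 := d25_1 D29365 (iv D29365) F87059
theorem F124616 : act 7 n29365 = n29365 := d36_2 F87060 D29365 (iv D29365)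
theorem F124617 : act 8 n29365 = n29365 := d37_2 F87061 D29365 (iv D29365)
def n29366 : Q := act 9 n20179
theorem D29366 : act 9 n20179 = n29366 := rfl
theorem F124618 : act 1 n29366 = n29366 := d16_1 D29366 (iv D29366) F87057
theorem F124619 : act 2 n29366 = n20230 := d23_1 D29366 (iv D20230) (iv F87058)
theorem F124620 : act 3 n29366 = n29366 := d29_1 D29366 (iv D29366) F87059
theorem F124621 : act 4 n29366 = n20180 := d34_1 D29366 (iv D20180) D20179
theorem F124622 : act 7 n29366 = n29366 := d43_1 D29366 (iv D29366) F87060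
def n29367 : Q := act 8 n20180
theorem D29367 : act 8 n20180 = n29367 := rfl
theorem F124623 : act 1 n29367 = n29367 := d15_1 D29367 (iv D29367) F87062
theorem F124624 : act 2 n29367 = n20231 := d22_1 D29367 (iv D20231) (iv F87063)
theorem F124625 : act 3 n29367 = n29367 := d28_1 D29367 (iv D29367) F87064 F60969 (iv F87064)
theorem F124626 : act 7 n29367 = n29367 := d42_1 D29367 (iv D29367) F87065
theorem F124627 : act 9 n29367 = n29367 := d44_2 D20180 D29367 (iv D29367) (iv D20180) F60964
def n29368 : Q := act 7 n20181
theorem D29368 : act 7 n20181 = n29368 := rfl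
theorem F124628 : act 1 n29368 = n20188 := d14_1 D29368 (iv D20188) (iv F87066)
theorem F124629 : act 3 n29368 = n20404 := d27_1 D29368 (iv D20404) (iv F87067)
def n29369 : Q := act 8 n20181
theorem D29369 : act 8 n20181 = n29369 := rfl
theorem F124632 : act 1 n29369 = n20189 := d15_1 D29369 (iv D20189) (iv F87066)
theorem F124633 : act 5 n29369 = n20183 := d37_1 D29369 (iv D20183) D20181
theorem F124634 : act 6 n29369 = n29369 := d40_1 D29369 (iv D29369) F87068
def n29370 : Q := act 8 n20182
theorem D29370 : act 8 n20182 = n29370 := rfl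
theorem F124635 : act 1 n29370 = n20190 := d15_1 D29370 (iv D20190) (iv F87070)
theorem F124636 : act 4 n29370 = n20186 := d33_1 D29370 (iv D20186) (iv F87072)
theorem F124637 : act 6 n29370 = n29370 := d40_1 D29370 (iv D29370) F87073
theorem F124638 : act 7 n29370 = n20183 := d42_1 D29370 (iv D20183) D20182
def n29371 : Q := act 3 n20183
theorem D29371 : act 3 n20183 = n29371 := rfl
theorem F124642 : act 8 n29371 = n20407 := d28_2 D20183 D29371 (iv D20407) (iv D14034) (iv F60971)
def n29372 : Q := act 9 n20183
theorem D29372 : act 9 n20183 = n29372 := rfl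
theorem F124643 : act 1 n29372 = n20192 := d16_1 D29372 (iv D20192) (iv F87075)
theorem F124644 : act 4 n29372 = n20187 := d34_1 D29372 (iv D20187) (iv F87076)
theorem F124645 : act 6 n29372 = n20185 := d41_1 D29372 (iv D20185) (iv F87077)
theorem F124646 : act 8 n29372 = n29372 := d44_1 D29372 (iv D29372) (iv D20183) F60973 D20183
def n29373 : Q := act 2 n20184
theorem D29373 : act 2 n20184 = n29373 := rfl
theorem F124650 : act 8 n29373 = n20409 := d22_2 (iv F87082) D29373 (iv D20409)
def n29375 : Q := act 9 n20186
theorem D29375 : act 9 n20186 = n29375 := rfl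
theorem F124656 : act 1 n29375 = n20195 := d16_1 D29375 (iv D20195) (iv F87088)
theorem F124657 : act 3 n29375 = n20239 := d29_1 D29375 (iv D20239) (iv F87089)
theorem F124658 : act 6 n29375 = n29375 := d41_1 D29375 (iv D29375) F87090
theorem F124659 : act 7 n29375 = n20187 := d43_1 D29375 (iv D20187) (iv F87091)
theorem F124660 : act 8 n29375 = n29375 := d44_1 D29375 (iv D29375) (iv D20186) F60981 D20186
def n29376 : Q := act 6 n20188
theorem D29376 : act 6 n20188 = n29376 := rfl
theorem F124663 : act 3 n29376 = n20412 := d26_1 D29376 (iv D20412) (iv F87098)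
def n29377 : Q := act 8 n20188
theorem D29377 : act 8 n20188 = n29377 := rfl
theorem F124667 : act 0 n29377 = n29377 := d7_1 D29377 (iv D29377) F87096
theorem F124668 : act 2 n29377 = n29377 := d22_1 D29377 (iv D29377) F87097
theorem F124669 : act 5 n29377 = n20190 := d37_1 D29377 (iv D20190) (iv F87099)
theorem F124670 : act 7 n29377 = n20189 := d42_1 D29377 (iv D20189) D20188
def n29378 : Q := act 3 n20189
theorem D29378 : act 3 n20189 = n29378 := rfl
theorem F124671 : act 0 n29378 = n29378 := d2_1 D29378 (iv D29378) F87101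
theorem F124672 : act 5 n29378 = n20191 := d25_2 (iv F87103) D29378 (iv D20191)
theorem F124673 : act 6 n29378 = n29378 := d26_2 F87104 D29378 (iv D29378)
theorem F124674 : act 8 n29378 = n20414 := d28_2 D20189 D29378 (iv D20414) (iv D14040) (iv F60992)
def n29379 : Q := act 9 n20189
theorem D29379 : act 9 n20189 = n29379 := rfl
theorem F124675 : act 0 n29379 = n29379 := d8_1 D29379 (iv D29379) F87101
theorem F124676 : act 2 n29379 = n29379 := d23_1 D29379 (iv D29379) F87102
theorem F124677 : act 5 n29379 = n20192 := d38_1 D29379 (iv D20192) (iv F87103)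
theorem F124678 : act 6 n29379 = n29379 := d41_1 D29379 (iv D29379) F87104
theorem F124679 : act 8 n29379 = n29379 := d44_1 D29379 (iv D29379) (iv D20189) F60994 D20189
def n29380 : Q := act 3 n20190
theorem D29380 : act 3 n20190 = n29380 := rfl
theorem F124680 : act 0 n29380 = n29380 := d2_1 D29380 (iv D29380) F87105
theorem F124681 : act 4 n29380 = n20244 := d24_2 (iv F87107) D29380 (iv D20244) F61144 (iv F61018)
theorem F124682 : act 6 n29380 = n29380 := d26_2 F87108 D29380 (iv D29380)
theorem F124683 : act 7 n29380 = n20191 := d27_2 (iv F87109) D29380 (iv D20191)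
theorem F124684 : act 8 n29380 = n20416 := d28_2 D20190 D29380 (iv D20416) (iv D14041) (iv F60997)
def n29381 : Q := act 9 n20190
theorem D29381 : act 9 n20190 = n29381 := rfl
theorem F124685 : act 0 n29381 = n29381 := d8_1 D29381 (iv D29381) F87105
theorem F124686 : act 2 n29381 = n29381 := d23_1 D29381 (iv D29381) F87106
theorem F124687 : act 4 n29381 = n20195 := d34_1 D29381 (iv D20195) (iv F87107)
theorem F124688 : act 6 n29381 = n29381 := d41_1 D29381 (iv D29381) F87108
theorem F124689 : act 7 n29381 = n20192 := d43_1 D29381 (iv D20192) (iv F87109)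
theorem F124690 : act 8 n29381 = n29381 := d44_1 D29381 (iv D29381) (iv D20190) F61000 D20190
def n29382 : Q := act 2 n20191
theorem D29382 : act 2 n20191 = n29382 := rfl
theorem F124691 : act 0 n29382 = n29382 := d1_1 D29382 (iv D29382) F87110
theorem F124692 : act 3 n29382 = n29382 := d17_2 D20191 D29382 (iv D29382) (iv D20191) F61002
theorem F124693 : act 4 n29382 = n20246 := d18_2 (iv F87111) D29382 (iv D20246)
theorem F124694 : act 6 n29382 = n20193 := d20_2 (iv F87112) D29382 (iv D20193)
theorem F124695 : act 8 n29382 = n20418 := d22_2 (iv F87113) D29382 (iv D20418)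
def n29383 : Q := act 9 n20191
theorem D29383 : act 9 n20191 = n29383 := rfl
theorem F124696 : act 0 n29383 = n29383 := d8_1 D29383 (iv D29383) F87110
theorem F124697 : act 3 n29383 = n20192 := d29_1 D29383 (iv D20192) D20191
theorem F124698 : act 4 n29383 = n20247 := d34_1 D29383 (iv D20247) (iv F87111)
theorem F124699 : act 6 n29383 = n20194 := d41_1 D29383 (iv D20194) (iv F87112)
def n29384 : Q := act 1 n20193
theorem D29384 : act 1 n20193 = n29384 := rfl
theorem F124700 : act 3 n29384 = n29384 := d10_2 F87120 D29384 (iv D29384)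
theorem F124701 : act 4 n29384 = n20248 := d11_2 (iv F87121) D29384 (iv D20248)
theorem F124702 : act 5 n29384 = n29384 := d12_2 F87122 D29384 (iv D29384)
theorem F124703 : act 7 n29384 = n29384 := d14_2 F87123 D29384 (iv D29384)
theorem F124704 : act 8 n29384 = n20420 := d15_2 (iv F87124) D29384 (iv D20420)
def n29385 : Q := act 9 n20193
theorem D29385 : act 9 n20193 = n29385 := rfl
theorem F124705 : act 0 n29385 = n29385 := d8_1 D29385 (iv D29385) F87119
theorem F124706 : act 2 n29385 = n20194 := d23_1 D29385 (iv D20194) D20193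
theorem F124707 : act 3 n29385 = n29385 := d29_1 D29385 (iv D29385) F87120
theorem F124708 : act 4 n29385 = n20249 := d34_1 D29385 (iv D20249) (iv F87121)
theorem F124709 : act 5 n29385 = n29385 := d38_1 D29385 (iv D29385) F87122
theorem F124710 : act 7 n29385 = n29385 := d43_1 D29385 (iv D29385) F87123
def n29386 : Q := act 8 n20194
theorem D29386 : act 8 n20194 = n29386 := rfl
theorem F124713 : act 4 n29386 = n20250 := d33_1 D29386 (iv D20250) (iv F87127)
theorem F124716 : act 9 n29386 = n20422 := d44_2 D20194 D29386 (iv D20422) (iv D14045) (iv F61009)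
def n29387 : Q := act 3 n20196
theorem D29387 : act 3 n20196 = n29387 := rfl
theorem F124719 : act 5 n29387 = n21393 := d25_2 (iv F87138) D29387 (iv D21393)
def n29388 : Q := act 6 n20196
theorem D29388 : act 6 n20196 = n29388 := rfl
theorem F124722 : act 1 n29388 = n20202 := d13_1 D29388 (iv D20202) (iv F87136)
theorem F124723 : act 2 n29388 = n29388 := d20_1 D29388 (iv D29388) F87137
theorem F124724 : act 4 n29388 = n20197 := d31_1 D29388 (iv D20197) D20196
theorem F124725 : act 9 n29388 = n20252 := d41_2 (iv F87140) D29388 (iv D20252)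
def n29389 : Q := act 8 n20196
theorem D29389 : act 8 n20196 = n29389 := rfl
theorem F124726 : act 1 n29389 = n20203 := d15_1 D29389 (iv D20203) (iv F87136)
theorem F124727 : act 2 n29389 = n29389 := d22_1 D29389 (iv D29389) F87137
theorem F124728 : act 4 n29389 = n20198 := d33_1 D29389 (iv D20198) D20196
theorem F124729 : act 5 n29389 = n21395 := d37_1 D29389 (iv D21395) (iv F87138)
theorem F124730 : act 7 n29389 = n29389 := d42_1 D29389 (iv D29389) F87139
def n29390 : Q := act 7 n20197
theorem D29390 : act 7 n20197 = n29390 := rfl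
theorem F124731 : act 1 n29390 = n20204 := d14_1 D29390 (iv D20204) (iv F87141)
theorem F124732 : act 2 n29390 = n29390 := d21_1 D29390 (iv D29390) F87142
theorem F124733 : act 3 n29390 = n29390 := d27_1 D29390 (iv D29390) F87143
theorem F124734 : act 6 n29390 = n29390 := d39_1 D29390 (iv D29390) (iv D20197) F61029 D20197
theorem F124735 : act 9 n29390 = n20254 := d43_2 (iv F87144) D29390 (iv D20254)
def n29391 : Q := act 8 n20197
theorem D29391 : act 8 n20197 = n29391 := rfl
theorem F124736 : act 1 n29391 = n20205 := d15_1 D29391 (iv D20205) (iv F87141)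
theorem F124737 : act 2 n29391 = n29391 := d22_1 D29391 (iv D29391) F87142
theorem F124738 : act 6 n29391 = n20198 := d40_1 D29391 (iv D20198) D20197
def n29392 : Q := act 3 n20198
theorem D29392 : act 3 n20198 = n29392 := rfl
theorem F124739 : act 1 n29392 = n20206 := d10_1 D29392 (iv D20206) (iv F87145)
theorem F124740 : act 5 n29392 = n20199 := d25_2 (iv F87147) D29392 (iv D20199)
def n29393 : Q := act 9 n20198
theorem D29393 : act 9 n20198 = n29393 := rfl
theorem F124743 : act 1 n29393 = n20207 := d16_1 D29393 (iv D20207) (iv F87145)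
theorem F124744 : act 2 n29393 = n29393 := d23_1 D29393 (iv D29393) F87146
theorem F124745 : act 5 n29393 = n20200 := d38_1 D29393 (iv D20200) (iv F87147)
theorem F124746 : act 7 n29393 = n29393 := d43_1 D29393 (iv D29393) F87148
theorem F124747 : act 8 n29393 = n20257 := d44_1 D29393 (iv D20257) (iv D13933) (iv F61030) D20198
def n29394 : Q := act 2 n20199
theorem D29394 : act 2 n20199 = n29394 := rfl
def n29395 : Q := act 4 n20199
theorem D29395 : act 4 n20199 = n29395 := rfl
theorem F124752 : act 3 n29395 = n21401 := d24_1 D29395 (iv D21401) (iv D14702) (iv F61033) D20199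
def n29396 : Q := act 9 n20199
theorem D29396 : act 9 n20199 = n29396 := rfl
theorem F124755 : act 1 n29396 = n20209 := d16_1 D29396 (iv D20209) (iv F87149)
theorem F124756 : act 3 n29396 = n20200 := d29_1 D29396 (iv D20200) D20199
def n29397 : Q := act 6 n20201
theorem D29397 : act 6 n20201 = n29397 := rfl
theorem F124758 : act 0 n29397 = n20217 := d5_1 D29397 (iv D20217) (iv F87157)
theorem F124759 : act 2 n29397 = n20433 := d20_1 D29397 (iv D20433) (iv F87158)
theorem F124760 : act 3 n29397 = n20202 := d26_1 D29397 (iv D20202) D20201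
def n29398 : Q := act 8 n20201
theorem D29398 : act 8 n20201 = n29398 := rfl
theorem F124763 : act 0 n29398 = n20218 := d7_1 D29398 (iv D20218) (iv F87157)
def n29399 : Q := act 5 n20202
theorem D29399 : act 5 n20202 = n29399 := rfl
theorem F124768 : act 0 n29399 = n20219 := d4_1 D29399 (iv D20219) (iv F87163)
theorem F124769 : act 2 n29399 = n20210 := d19_1 D29399 (iv D20210) (iv F87164)
theorem F124770 : act 6 n29399 = n21405 := d35_2 D20202 D29399 (iv D21405) (iv D14705) (iv F61037)
theorem F124771 : act 9 n29399 = n20263 := d38_2 (iv F87166) D29399 (iv D20263)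
def n29400 : Q := act 7 n20202
theorem D29400 : act 7 n20202 = n29400 := rfl
theorem F124772 : act 0 n29400 = n20220 := d6_1 D29400 (iv D20220) (iv F87163)
theorem F124773 : act 2 n29400 = n20211 := d21_1 D29400 (iv D20211) (iv F87164)
theorem F124774 : act 4 n29400 = n20204 := d32_1 D29400 (iv D20204) (iv F87165)
theorem F124775 : act 6 n29400 = n29400 := d39_1 D29400 (iv D29400) (iv D20202) F61038 D20202
theorem F124776 : act 9 n29400 = n20264 := d43_2 (iv F87166) D29400 (iv D20264)
def n29401 : Q := act 8 n20202
theorem D29401 : act 8 n20202 = n29401 := rfl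
theorem F124777 : act 0 n29401 = n20221 := d7_1 D29401 (iv D20221) (iv F87163)
theorem F124778 : act 2 n29401 = n20212 := d22_1 D29401 (iv D20212) (iv F87164)
theorem F124779 : act 4 n29401 = n20205 := d33_1 D29401 (iv D20205) (iv F87165)
theorem F124780 : act 6 n29401 = n20203 := d40_1 D29401 (iv D20203) D20202
def n29402 : Q := act 3 n20203
theorem D29402 : act 3 n20203 = n29402 := rfl
theorem F124781 : act 0 n29402 = n20222 := d2_1 D29402 (iv D20222) (iv F87167)
theorem F124782 : act 5 n29402 = n21408 := d25_2 (iv F87170) D29402 (iv D21408)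
theorem F124783 : act 7 n29402 = n29402 := d27_2 F87171 D29402 (iv D29402)
def n29403 : Q := act 9 n20203
theorem D29403 : act 9 n20203 = n29403 := rfl
theorem F124784 : act 0 n29403 = n20223 := d8_1 D29403 (iv D20223) (iv F87167)
theorem F124785 : act 2 n29403 = n20214 := d23_1 D29403 (iv D20214) (iv F87168)
theorem F124786 : act 4 n29403 = n20207 := d34_1 D29403 (iv D20207) (iv F87169)
theorem F124787 : act 5 n29403 = n21409 := d38_1 D29403 (iv D21409) (iv F87170)
theorem F124788 : act 7 n29403 = n29403 := d43_1 D29403 (iv D29403) F87171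
theorem F124789 : act 8 n29403 = n20267 := d44_1 D29403 (iv D20267) (iv D13938) (iv F61039) D20203
def n29404 : Q := act 8 n20204
theorem D29404 : act 8 n20204 = n29404 := rfl
theorem F124790 : act 0 n29404 = n20224 := d7_1 D29404 (iv D20224) (iv F87172)
theorem F124791 : act 2 n29404 = n20215 := d22_1 D29404 (iv D20215) (iv F87173)
theorem F124792 : act 6 n29404 = n29404 := d40_1 D29404 (iv D29404) F87175
theorem F124793 : act 7 n29404 = n20205 := d42_1 D29404 (iv D20205) D20204
def n29405 : Q := act 3 n20205
theorem D29405 : act 3 n20205 = n29405 := rfl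
theorem F124794 : act 0 n29405 = n20225 := d2_1 D29405 (iv D20225) (iv F87177)
theorem F124795 : act 6 n29405 = n20206 := d26_2 (iv F87179) D29405 (iv D20206)
theorem F124796 : act 8 n29405 = n29405 := d28_2 D20205 D29405 (iv D29405) (iv D20205) F61042
def n29406 : Q := act 9 n20205
theorem D29406 : act 9 n20205 = n29406 := rfl
theorem F124797 : act 0 n29406 = n20226 := d8_1 D29406 (iv D20226) (iv F87177)
theorem F124798 : act 2 n29406 = n20216 := d23_1 D29406 (iv D20216) (iv F87178)
theorem F124799 : act 6 n29406 = n20207 := d41_1 D29406 (iv D20207) (iv F87179)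
theorem F124800 : act 8 n29406 = n20270 := d44_1 D29406 (iv D20270) (iv D13940) (iv F61043) D20205
def n29407 : Q := act 4 n20206
theorem D29407 : act 4 n20206 = n29407 := rfl
theorem F124801 : act 0 n29407 = n20227 := d3_1 D29407 (iv D20227) (iv F87180)
theorem F124802 : act 7 n29407 = n29407 := d32_2 F87182 D29407 (iv D29407)
theorem F124803 : act 8 n29407 = n29407 := d33_2 F87183 D29407 (iv D29407)
def n29408 : Q := act 9 n20206
theorem D29408 : act 9 n20206 = n29408 := rfl
theorem F124804 : act 0 n29408 = n20228 := d8_1 D29408 (iv D20228) (iv F87180)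
theorem F124805 : act 3 n29408 = n20207 := d29_1 D29408 (iv D20207) D20206
theorem F124806 : act 5 n29408 = n20209 := d38_1 D29408 (iv D20209) (iv F87181)
theorem F124807 : act 7 n29408 = n29408 := d43_1 D29408 (iv D29408) F87182
def n29409 : Q := act 5 n20208
theorem D29409 : act 5 n20208 = n29409 := rfl
theorem F124809 : act 3 n29409 = n21415 := d25_1 D29409 (iv D21415) (iv F87190)
def n29410 : Q := act 9 n20208
theorem D29410 : act 9 n20208 = n29410 := rfl
theorem F124814 : act 4 n29410 = n20209 := d34_1 D29410 (iv D20209) D20208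
def n29411 : Q := act 8 n20209
theorem D29411 : act 8 n20209 = n29411 := rfl
theorem F124816 : act 0 n29411 = n20231 := d7_1 D29411 (iv D20231) (iv F87193)
theorem F124817 : act 3 n29411 = n20275 := d28_1 D29411 (iv D20275) F61220 (iv F61055) (iv F87194)
theorem F124818 : act 7 n29411 = n29411 := d42_1 D29411 (iv D29411) F87195
theorem F124819 : act 9 n29411 = n29411 := d44_2 D20209 D29411 (iv D29411) (iv D20209) F61050
def n29412 : Q := act 7 n20210
theorem D29412 : act 7 n20210 = n29412 := rfl
theorem F124820 : act 0 n29412 = n20232 := d6_1 D29412 (iv D20232) (iv F87196)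
theorem F124821 : act 1 n29412 = n29412 := d14_1 D29412 (iv D29412) F87197
theorem F124822 : act 3 n29412 = n20448 := d27_1 D29412 (iv D20448) (iv F87198)
theorem F124823 : act 5 n29412 = n20211 := d36_1 D29412 (iv D20211) D20210
theorem F124824 : act 9 n29412 = n20276 := d43_2 (iv F87200) D29412 (iv D20276)
def n29413 : Q := act 8 n20210
theorem D29413 : act 8 n20210 = n29413 := rfl
theorem F124825 : act 0 n29413 = n20233 := d7_1 D29413 (iv D20233) (iv F87196)
theorem F124826 : act 1 n29413 = n29413 := d15_1 D29413 (iv D29413) F87197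
theorem F124827 : act 5 n29413 = n20212 := d37_1 D29413 (iv D20212) D20210
theorem F124828 : act 6 n29413 = n21419 := d40_1 D29413 (iv D21419) (iv F87199)
def n29414 : Q := act 8 n20211
theorem D29414 : act 8 n20211 = n29414 := rfl
theorem F124829 : act 0 n29414 = n20234 := d7_1 D29414 (iv D20234) (iv F87201)
theorem F124830 : act 1 n29414 = n29414 := d15_1 D29414 (iv D29414) F87202
theorem F124831 : act 4 n29414 = n20215 := d33_1 D29414 (iv D20215) (iv F87204)
theorem F124832 : act 6 n29414 = n29414 := d40_1 D29414 (iv D29414) F87205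
theorem F124833 : act 7 n29414 = n20212 := d42_1 D29414 (iv D20212) D20211
def n29415 : Q := act 3 n20212
theorem D29415 : act 3 n20212 = n29415 := rfl
theorem F124837 : act 8 n29415 = n20451 := d28_2 D20212 D29415 (iv D20451) (iv D14063) (iv F61058)
def n29416 : Q := act 9 n20212
theorem D29416 : act 9 n20212 = n29416 := rfl
theorem F124838 : act 0 n29416 = n20236 := d8_1 D29416 (iv D20236) (iv F87207)
theorem F124839 : act 1 n29416 = n29416 := d16_1 D29416 (iv D29416) F87208
theorem F124840 : act 4 n29416 = n20216 := d34_1 D29416 (iv D20216) (iv F87209)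
theorem F124841 : act 6 n29416 = n20214 := d41_1 D29416 (iv D20214) (iv F87210)
theorem F124842 : act 8 n29416 = n20280 := d44_1 D29416 (iv D20280) (iv D13947) (iv F61060) D20212
def n29419 : Q := act 9 n20215
theorem D29419 : act 9 n20215 = n29419 := rfl
theorem F124852 : act 0 n29419 = n20239 := d8_1 D29419 (iv D20239) (iv F87222)
theorem F124853 : act 1 n29419 = n29419 := d16_1 D29419 (iv D29419) F87223
theorem F124854 : act 6 n29419 = n29419 := d41_1 D29419 (iv D29419) F87224
theorem F124855 : act 7 n29419 = n20216 := d43_1 D29419 (iv D20216) (iv F87225)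
theorem F124856 : act 8 n29419 = n20283 := d44_1 D29419 (iv D20283) (iv D13950) (iv F61070) D20215
def n29420 : Q := act 5 n20217
theorem D29420 : act 5 n20217 = n29420 := rfl
theorem F124857 : act 2 n29420 = n20456 := d19_1 D29420 (iv D20456) (iv F87230)
theorem F124858 : act 3 n29420 = n20219 := d25_1 D29420 (iv D20219) (iv F87231)
theorem F124859 : act 6 n29420 = n21426 := d35_2 D20217 D29420 (iv D21426) (iv D14720) (iv F61081)
theorem F124860 : act 9 n29420 = n20284 := d38_2 (iv F87233) D29420 (iv D20284)
def n29421 : Q := act 7 n20217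
theorem D29421 : act 7 n20217 = n29421 := rfl
theorem F124861 : act 2 n29421 = n20457 := d21_1 D29421 (iv D20457) (iv F87230)
theorem F124862 : act 3 n29421 = n20220 := d27_1 D29421 (iv D20220) (iv F87231)
theorem F124863 : act 4 n29421 = n29421 := d32_1 D29421 (iv D29421) F87232
theorem F124864 : act 6 n29421 = n29421 := d39_1 D29421 (iv D29421) (iv D20217) F61082 D20217
theorem F124865 : act 9 n29421 = n20285 := d43_2 (iv F87233) D29421 (iv D20285)
def n29422 : Q := act 8 n20217
theorem D29422 : act 8 n20217 = n29422 := rfl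
theorem F124866 : act 2 n29422 = n20458 := d22_1 D29422 (iv D20458) (iv F87230)
theorem F124867 : act 4 n29422 = n29422 := d33_1 D29422 (iv D29422) F87232
theorem F124868 : act 6 n29422 = n20218 := d40_1 D29422 (iv D20218) D20217
def n29423 : Q := act 3 n20218
theorem D29423 : act 3 n20218 = n29423 := rfl
theorem F124869 : act 5 n29423 = n21429 := d25_2 (iv F87236) D29423 (iv D21429)
theorem F124870 : act 7 n29423 = n29423 := d27_2 F87237 D29423 (iv D29423)
theorem F124871 : act 8 n29423 = n20222 := d28_2 D20218 D29423 (iv D20222) (iv D13909) D13907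
def n29424 : Q := act 9 n20218
theorem D29424 : act 9 n20218 = n29424 := rfl
theorem F124872 : act 2 n29424 = n20460 := d23_1 D29424 (iv D20460) (iv F87234)
theorem F124873 : act 4 n29424 = n29424 := d34_1 D29424 (iv D29424) F87235
theorem F124874 : act 5 n29424 = n21430 := d38_1 D29424 (iv D21430) (iv F87236)
theorem F124875 : act 7 n29424 = n29424 := d43_1 D29424 (iv D29424) F87237
theorem F124876 : act 8 n29424 = n20288 := d44_1 D29424 (iv D20288) (iv D13953) (iv F61083) D20218
def n29425 : Q := act 7 n20219
theorem D29425 : act 7 n20219 = n29425 := rfl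
theorem F124877 : act 2 n29425 = n20232 := d21_1 D29425 (iv D20232) (iv F87238)
theorem F124878 : act 5 n29425 = n20220 := d36_1 D29425 (iv D20220) D20219
theorem F124879 : act 9 n29425 = n20289 := d43_2 (iv F87240) D29425 (iv D20289)
def n29426 : Q := act 8 n20219
theorem D29426 : act 8 n20219 = n29426 := rfl
theorem F124880 : act 2 n29426 = n20233 := d22_1 D29426 (iv D20233) (iv F87238)
theorem F124881 : act 5 n29426 = n20221 := d37_1 D29426 (iv D20221) D20219
theorem F124882 : act 6 n29426 = n21432 := d40_1 D29426 (iv D21432) (iv F87239)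
def n29427 : Q := act 8 n20220
theorem D29427 : act 8 n20220 = n29427 := rfl
theorem F124883 : act 2 n29427 = n20234 := d22_1 D29427 (iv D20234) (iv F87241)
theorem F124884 : act 4 n29427 = n20224 := d33_1 D29427 (iv D20224) (iv F87242)
theorem F124885 : act 6 n29427 = n29427 := d40_1 D29427 (iv D29427) F87243
theorem F124886 : act 7 n29427 = n20221 := d42_1 D29427 (iv D20221) D20220
def n29428 : Q := act 3 n20221
theorem D29428 : act 3 n20221 = n29428 := rfl
theorem F124887 : act 6 n29428 = n20222 := d26_2 (iv F87247) D29428 (iv D20222)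
def n29429 : Q := act 9 n20221
theorem D29429 : act 9 n20221 = n29429 := rfl
theorem F124888 : act 2 n29429 = n20236 := d23_1 D29429 (iv D20236) (iv F87245)
theorem F124889 : act 4 n29429 = n20226 := d34_1 D29429 (iv D20226) (iv F87246)
theorem F124890 : act 6 n29429 = n20223 := d41_1 D29429 (iv D20223) (iv F87247)
theorem F124891 : act 8 n29429 = n20293 := d44_1 D29429 (iv D20293) (iv D13956) (iv F61086) D20221
def n29430 : Q := act 2 n20222
theorem D29430 : act 2 n20222 = n29430 := rfl
theorem F124892 : act 3 n29430 = n20237 := d17_2 D20222 D29430 (iv D20237) (iv D13919) (iv F61087)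
theorem F124893 : act 5 n29430 = n21436 := d19_2 (iv F87248) D29430 (iv D21436)
theorem F124894 : act 7 n29430 = n29430 := d21_2 F87249 D29430 (iv D29430)
def n29431 : Q := act 4 n20222
theorem D29431 : act 4 n20222 = n29431 := rfl
theorem F124895 : act 3 n29431 = n20227 := d24_1 D29431 (iv D20227) (iv D13912) (iv F61088) D20222
theorem F124896 : act 7 n29431 = n29431 := d32_2 F87249 D29431 (iv D29431)
def n29432 : Q := act 9 n20222
theorem D29432 : act 9 n20222 = n29432 := rfl
theorem F124897 : act 3 n29432 = n20223 := d29_1 D29432 (iv D20223) D20222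
theorem F124898 : act 5 n29432 = n21438 := d38_1 D29432 (iv D21438) (iv F87248)
theorem F124899 : act 7 n29432 = n29432 := d43_1 D29432 (iv D29432) F87249
def n29433 : Q := act 3 n20224
theorem D29433 : act 3 n20224 = n29433 := rfl
theorem F124900 : act 6 n29433 = n29433 := d26_2 F87256 D29433 (iv D29433)
theorem F124901 : act 7 n29433 = n20225 := d27_2 (iv F87257) D29433 (iv D20225)
theorem F124902 : act 8 n29433 = n29433 := d28_2 D20224 D29433 (iv D29433) (iv D20224) F61092
def n29434 : Q := act 9 n20224
theorem D29434 : act 9 n20224 = n29434 := rfl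
theorem F124903 : act 2 n29434 = n20239 := d23_1 D29434 (iv D20239) (iv F87255)
theorem F124904 : act 6 n29434 = n29434 := d41_1 D29434 (iv D29434) F87256
theorem F124905 : act 7 n29434 = n20226 := d43_1 D29434 (iv D20226) (iv F87257)
theorem F124906 : act 8 n29434 = n20298 := d44_1 D29434 (iv D20298) (iv D13959) (iv F61094) D20224
def n29435 : Q := act 4 n20225
theorem D29435 : act 4 n20225 = n29435 := rfl
theorem F124907 : act 6 n29435 = n20227 := d31_2 (iv F87258) D29435 (iv D20227)
theorem F124908 : act 8 n29435 = n29435 := d33_2 F87259 D29435 (iv D29435)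
def n29436 : Q := act 9 n20225
theorem D29436 : act 9 n20225 = n29436 := rfl
theorem F124909 : act 3 n29436 = n20226 := d29_1 D29436 (iv D20226) D20225
theorem F124910 : act 6 n29436 = n20228 := d41_1 D29436 (iv D20228) (iv F87258)
def n29437 : Q := act 5 n20227
theorem D29437 : act 5 n20227 = n29437 := rfl
theorem F124911 : act 4 n29437 = n20229 := d30_1 D29437 (iv D20229) (iv D13914) (iv F61097) D20227
theorem F124912 : act 7 n29437 = n29437 := d36_2 F87263 D29437 (iv D29437)
theorem F124913 : act 8 n29437 = n29437 := d37_2 F87264 D29437 (iv D29437)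
def n29438 : Q := act 9 n20227
theorem D29438 : act 9 n20227 = n29438 := rfl
theorem F124914 : act 4 n29438 = n20228 := d34_1 D29438 (iv D20228) D20227
theorem F124915 : act 7 n29438 = n29438 := d43_1 D29438 (iv D29438) F87263
def n29439 : Q := act 8 n20228
theorem D29439 : act 8 n20228 = n29439 := rfl
theorem F124916 : act 3 n29439 = n20303 := d28_1 D29439 (iv D20303) F61288 (iv F61103) (iv F87265)
theorem F124917 : act 5 n29439 = n20231 := d37_1 D29439 (iv D20231) (iv F87266)
theorem F124918 : act 7 n29439 = n29439 := d42_1 D29439 (iv D29439) F87267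
theorem F124919 : act 9 n29439 = n29439 := d44_2 D20228 D29439 (iv D29439) (iv D20228) F61099
def n29440 : Q := act 6 n20229
theorem D29440 : act 6 n20229 = n29440 := rfl
theorem F124921 : act 8 n29440 = n29440 := d40_2 F87270 D29440 (iv D29440)
def n29441 : Q := act 9 n20229
theorem D29441 : act 9 n20229 = n29441 := rfl
theorem F124922 : act 3 n29441 = n21447 := d29_1 D29441 (iv D21447) (iv F87268)
theorem F124923 : act 5 n29441 = n20230 := d38_1 D29441 (iv D20230) D20229
theorem F124924 : act 7 n29441 = n29441 := d43_1 D29441 (iv D29441) F87269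
def n29442 : Q := act 8 n20230
theorem D29442 : act 8 n20230 = n29442 := rfl
theorem F124925 : act 4 n29442 = n20231 := d33_1 D29442 (iv D20231) (iv F87272)
theorem F124926 : act 7 n29442 = n29442 := d42_1 D29442 (iv D29442) F87273
theorem F124927 : act 9 n29442 = n29442 := d44_2 D20230 D29442 (iv D29442) (iv D20230) F61106
def n29443 : Q := act 6 n20232
theorem D29443 : act 6 n20232 = n29443 := rfl
theorem F124928 : act 1 n29443 = n20240 := d13_1 D29443 (iv D20240) (iv F87277)
theorem F124929 : act 3 n29443 = n20479 := d26_1 D29443 (iv D20479) (iv F87278)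
theorem F124930 : act 5 n29443 = n29443 := d35_1 D29443 (iv D29443) F87279 F61116 (iv F87279)
theorem F124931 : act 7 n29443 = n21449 := d39_2 D20232 D29443 (iv D21449) (iv D14735) (iv F61111)
theorem F124932 : act 9 n29443 = n20307 := d41_2 (iv F87280) D29443 (iv D20307)
def n29444 : Q := act 8 n20232
theorem D29444 : act 8 n20232 = n29444 := rfl
theorem F124933 : act 1 n29444 = n20241 := d15_1 D29444 (iv D20241) (iv F87277)
theorem F124934 : act 5 n29444 = n20234 := d37_1 D29444 (iv D20234) (iv F87279)
theorem F124935 : act 7 n29444 = n20233 := d42_1 D29444 (iv D20233) D20232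
def n29445 : Q := act 3 n20233
theorem D29445 : act 3 n20233 = n29445 := rfl
theorem F124936 : act 1 n29445 = n20242 := d10_1 D29445 (iv D20242) (iv F87281)
theorem F124937 : act 5 n29445 = n20235 := d25_2 (iv F87282) D29445 (iv D20235)
theorem F124938 : act 6 n29445 = n21451 := d26_2 (iv F87283) D29445 (iv D21451)
theorem F124939 : act 8 n29445 = n20481 := d28_2 D20233 D29445 (iv D20481) (iv D14084) (iv F61110)
def n29446 : Q := act 9 n20233
theorem D29446 : act 9 n20233 = n29446 := rfl
theorem F124940 : act 1 n29446 = n20243 := d16_1 D29446 (iv D20243) (iv F87281)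
theorem F124941 : act 5 n29446 = n20236 := d38_1 D29446 (iv D20236) (iv F87282)
theorem F124942 : act 6 n29446 = n21452 := d41_1 D29446 (iv D21452) (iv F87283)
theorem F124943 : act 8 n29446 = n20310 := d44_1 D29446 (iv D20310) (iv D13968) (iv F61112) D20233
def n29447 : Q := act 3 n20234
theorem D29447 : act 3 n20234 = n29447 := rfl
theorem F124944 : act 1 n29447 = n20244 := d10_1 D29447 (iv D20244) (iv F87284)
theorem F124945 : act 6 n29447 = n29447 := d26_2 F87286 D29447 (iv D29447)
theorem F124946 : act 7 n29447 = n20235 := d27_2 (iv F87287) D29447 (iv D20235)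
theorem F124947 : act 8 n29447 = n20483 := d28_2 D20234 D29447 (iv D20483) (iv D14085) (iv F61114)
def n29448 : Q := act 9 n20234
theorem D29448 : act 9 n20234 = n29448 := rfl
theorem F124948 : act 1 n29448 = n20245 := d16_1 D29448 (iv D20245) (iv F87284)
theorem F124949 : act 4 n29448 = n20239 := d34_1 D29448 (iv D20239) (iv F87285)
theorem F124950 : act 6 n29448 = n29448 := d41_1 D29448 (iv D29448) F87286
theorem F124951 : act 7 n29448 = n20236 := d43_1 D29448 (iv D20236) (iv F87287)
theorem F124952 : act 8 n29448 = n20312 := d44_1 D29448 (iv D20312) (iv D13969) (iv F61117) D20234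
def n29449 : Q := act 2 n20235
theorem D29449 : act 2 n20235 = n29449 := rfl
theorem F124953 : act 6 n29449 = n20237 := d20_2 (iv F87289) D29449 (iv D20237)
theorem F124954 : act 8 n29449 = n20485 := d22_2 (iv F87290) D29449 (iv D20485)
def n29450 : Q := act 9 n20235
theorem D29450 : act 9 n20235 = n29450 := rfl
theorem F124955 : act 1 n29450 = n20247 := d16_1 D29450 (iv D20247) (iv F87288)
theorem F124956 : act 3 n29450 = n20236 := d29_1 D29450 (iv D20236) D20235
theorem F124957 : act 6 n29450 = n20238 := d41_1 D29450 (iv D20238) (iv F87289)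
def n29451 : Q := act 1 n20237
theorem D29451 : act 1 n20237 = n29451 := rfl
theorem F124958 : act 2 n29451 = n20248 := d9_2 D20237 D29451 (iv D20248) (iv D13928) (iv F61121)
theorem F124959 : act 5 n29451 = n21457 := d12_2 (iv F87295) D29451 (iv D21457)
theorem F124960 : act 7 n29451 = n29451 := d14_2 F87296 D29451 (iv D29451)
theorem F124961 : act 8 n29451 = n20487 := d15_2 (iv F87297) D29451 (iv D20487)
def n29452 : Q := act 9 n20237
theorem D29452 : act 9 n20237 = n29452 := rfl
theorem F124962 : act 2 n29452 = n20238 := d23_1 D29452 (iv D20238) D20237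
theorem F124963 : act 5 n29452 = n21458 := d38_1 D29452 (iv D21458) (iv F87295)
theorem F124964 : act 7 n29452 = n29452 := d43_1 D29452 (iv D29452) F87296
def n29453 : Q := act 8 n20238
theorem D29453 : act 8 n20238 = n29453 := rfl
theorem F124965 : act 1 n29453 = n20250 := d15_1 D29453 (iv D20250) (iv F87298)
theorem F124969 : act 9 n29453 = n20489 := d44_2 D20238 D29453 (iv D20489) (iv D14089) (iv F61124)
def n29454 : Q := act 8 n20240
theorem D29454 : act 8 n20240 = n29454 := rfl
theorem F124970 : act 0 n29454 = n29454 := d7_1 D29454 (iv D29454) F87306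
theorem F124971 : act 5 n29454 = n29454 := d37_1 D29454 (iv D29454) F87308
theorem F124972 : act 6 n29454 = n20241 := d40_1 D29454 (iv D20241) D20240
theorem F124973 : act 7 n29454 = n21460 := d42_1 D29454 (iv D21460) (iv F87309)
def n29455 : Q := act 3 n20241
theorem D29455 : act 3 n20241 = n29455 := rfl
theorem F124974 : act 0 n29455 = n29455 := d2_1 D29455 (iv D29455) F87311
theorem F124975 : act 5 n29455 = n20244 := d25_2 (iv F87312) D29455 (iv D20244)
theorem F124976 : act 7 n29455 = n20242 := d27_2 (iv F87313) D29455 (iv D20242)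
theorem F124977 : act 8 n29455 = n20491 := d28_2 D20241 D29455 (iv D20491) (iv D14092) (iv F61137)
def n29456 : Q := act 9 n20241
theorem D29456 : act 9 n20241 = n29456 := rfl
theorem F124978 : act 0 n29456 = n29456 := d8_1 D29456 (iv D29456) F87311
theorem F124979 : act 5 n29456 = n20245 := d38_1 D29456 (iv D20245) (iv F87312)
theorem F124980 : act 7 n29456 = n20243 := d43_1 D29456 (iv D20243) (iv F87313)
theorem F124981 : act 8 n29456 = n20320 := d44_1 D29456 (iv D20320) (iv D13976) (iv F61139) D20241
def n29457 : Q := act 2 n20242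
theorem D29457 : act 2 n20242 = n29457 := rfl
theorem F124982 : act 0 n29457 = n29457 := d1_1 D29457 (iv D29457) F87314
theorem F124983 : act 5 n29457 = n20246 := d19_2 (iv F87315) D29457 (iv D20246)
theorem F124984 : act 6 n29457 = n21463 := d20_2 (iv F87316) D29457 (iv D21463)
theorem F124985 : act 8 n29457 = n20493 := d22_2 (iv F87317) D29457 (iv D20493)
def n29458 : Q := act 4 n20242
theorem D29458 : act 4 n20242 = n29458 := rfl
theorem F124986 : act 0 n29458 = n29458 := d3_1 D29458 (iv D29458) F87314
theorem F124987 : act 6 n29458 = n21464 := d31_2 (iv F87316) D29458 (iv D21464)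
theorem F124988 : act 8 n29458 = n20494 := d33_2 (iv F87317) D29458 (iv D20494)
def n29459 : Q := act 9 n20242
theorem D29459 : act 9 n20242 = n29459 := rfl
theorem F124989 : act 0 n29459 = n29459 := d8_1 D29459 (iv D29459) F87314
theorem F124990 : act 3 n29459 = n20243 := d29_1 D29459 (iv D20243) D20242
theorem F124991 : act 5 n29459 = n20247 := d38_1 D29459 (iv D20247) (iv F87315)
theorem F124992 : act 6 n29459 = n21465 := d41_1 D29459 (iv D21465) (iv F87316)
def n29460 : Q := act 2 n20244
theorem D29460 : act 2 n20244 = n29460 := rfl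
theorem F124993 : act 0 n29460 = n29460 := d1_1 D29460 (iv D29460) F87322
theorem F124994 : act 6 n29460 = n29460 := d20_2 F87323 D29460 (iv D29460)
theorem F124995 : act 7 n29460 = n20246 := d21_2 (iv F87324) D29460 (iv D20246)
theorem F124996 : act 8 n29460 = n20496 := d22_2 (iv F87325) D29460 (iv D20496)
def n29461 : Q := act 9 n20244
theorem D29461 : act 9 n20244 = n29461 := rfl
theorem F124997 : act 0 n29461 = n29461 := d8_1 D29461 (iv D29461) F87322
theorem F124998 : act 3 n29461 = n20245 := d29_1 D29461 (iv D20245) D20244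
theorem F124999 : act 6 n29461 = n29461 := d41_1 D29461 (iv D29461) F87323
theorem F125000 : act 7 n29461 = n20247 := d43_1 D29461 (iv D20247) (iv F87324)
def n29462 : Q := act 1 n20246
theorem D29462 : act 1 n20246 = n29462 := rfl
theorem F125001 : act 6 n29462 = n20248 := d13_2 (iv F87332) D29462 (iv D20248)
theorem F125002 : act 8 n29462 = n20498 := d15_2 (iv F87333) D29462 (iv D20498)
def n29463 : Q := act 9 n20246
theorem D29463 : act 9 n20246 = n29463 := rfl
theorem F125003 : act 0 n29463 = n29463 := d8_1 D29463 (iv D29463) F87331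
theorem F125004 : act 2 n29463 = n20247 := d23_1 D29463 (iv D20247) D20246
theorem F125005 : act 6 n29463 = n20249 := d41_1 D29463 (iv D20249) (iv F87332)
def n29464 : Q := act 8 n20247
theorem D29464 : act 8 n20247 = n29464 := rfl
theorem F125006 : act 0 n29464 = n29464 := d7_1 D29464 (iv D29464) F87334
theorem F125007 : act 3 n29464 = n20328 := d28_1 D29464 (iv D20328) F61360 (iv F61153) (iv F87335)
theorem F125008 : act 6 n29464 = n20250 := d40_1 D29464 (iv D20250) (iv F87336)
theorem F125009 : act 9 n29464 = n20500 := d44_2 D20247 D29464 (iv D20500) (iv D14098) (iv F61149)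
def n29465 : Q := act 0 n20248
theorem D29465 : act 0 n20248 = n29465 := rfl
theorem F125010 : act 1 n29465 = n29465 := d0_2 D20248 D29465 (iv D29465) (iv D20248) F61154
theorem F125011 : act 5 n29465 = n21471 := d4_2 (iv F87337) D29465 (iv D21471)
theorem F125012 : act 7 n29465 = n29465 := d6_2 F87338 D29465 (iv D29465)
theorem F125013 : act 8 n29465 = n20501 := d7_2 (iv F87339) D29465 (iv D20501)
def n29466 : Q := act 9 n20248
theorem D29466 : act 9 n20248 = n29466 := rfl
theorem F125014 : act 1 n29466 = n20249 := d16_1 D29466 (iv D20249) D20248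
theorem F125015 : act 5 n29466 = n21472 := d38_1 D29466 (iv D21472) (iv F87337)
theorem F125016 : act 7 n29466 = n29466 := d43_1 D29466 (iv D29466) F87338
def n29467 : Q := act 8 n20249
theorem D29467 : act 8 n20249 = n29467 := rfl
theorem F125017 : act 0 n29467 = n29467 := d7_1 D29467 (iv D29467) F87340
theorem F125018 : act 2 n29467 = n20250 := d22_1 D29467 (iv D20250) (iv F87341)
theorem F125019 : act 5 n29467 = n21473 := d37_1 D29467 (iv D21473) (iv F87342)
theorem F125020 : act 7 n29467 = n29467 := d42_1 D29467 (iv D29467) F87343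
theorem F125021 : act 9 n29467 = n20503 := d44_2 D20249 D29467 (iv D20503) (iv D14100) (iv F61157)
def n29468 : Q := act 2 n20251
theorem D29468 : act 2 n20251 = n29468 := rfl
theorem F125025 : act 5 n29468 = n21474 := d19_2 (iv F87351) D29468 (iv D21474)
def n29469 : Q := act 6 n20251
theorem D29469 : act 6 n20251 = n29469 := rfl
theorem F125027 : act 1 n29469 = n20261 := d13_1 D29469 (iv D20261) (iv F87349)
theorem F125028 : act 3 n29469 = n20252 := d26_1 D29469 (iv D20252) D20251
theorem F125029 : act 4 n29469 = n29469 := d31_1 D29469 (iv D29469) F87350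
def n29470 : Q := act 8 n20251
theorem D29470 : act 8 n20251 = n29470 := rfl
theorem F125030 : act 1 n29470 = n20262 := d15_1 D29470 (iv D20262) (iv F87349)
theorem F125031 : act 4 n29470 = n29470 := d33_1 D29470 (iv D29470) F87350
theorem F125032 : act 5 n29470 = n21476 := d37_1 D29470 (iv D21476) (iv F87351)
theorem F125033 : act 7 n29470 = n29470 := d42_1 D29470 (iv D29470) F87352
def n29471 : Q := act 5 n20252
theorem D29471 : act 5 n20252 = n29471 := rfl
theorem F125034 : act 1 n29471 = n20263 := d12_1 D29471 (iv D20263) (iv F87353)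
theorem F125035 : act 2 n29471 = n29471 := d19_1 D29471 (iv D29471) F87354
theorem F125036 : act 6 n29471 = n21477 := d35_2 D20252 D29471 (iv D21477) (iv D14755) (iv F61168)
def n29472 : Q := act 7 n20252
theorem D29472 : act 7 n20252 = n29472 := rfl
theorem F125037 : act 1 n29472 = n20264 := d14_1 D29472 (iv D20264) (iv F87353)
theorem F125038 : act 2 n29472 = n29472 := d21_1 D29472 (iv D29472) F87354
theorem F125039 : act 4 n29472 = n20254 := d32_1 D29472 (iv D20254) (iv F87355)
theorem F125040 : act 6 n29472 = n29472 := d39_1 D29472 (iv D29472) (iv D20252) F61169 D20252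
def n29473 : Q := act 8 n20252
theorem D29473 : act 8 n20252 = n29473 := rfl
theorem F125041 : act 1 n29473 = n20265 := d15_1 D29473 (iv D20265) (iv F87353)
theorem F125042 : act 2 n29473 = n29473 := d22_1 D29473 (iv D29473) F87354
theorem F125043 : act 4 n29473 = n20255 := d33_1 D29473 (iv D20255) (iv F87355)
theorem F125044 : act 6 n29473 = n20253 := d40_1 D29473 (iv D20253) D20252
def n29474 : Q := act 3 n20253
theorem D29474 : act 3 n20253 = n29474 := rfl
theorem F125045 : act 1 n29474 = n20266 := d10_1 D29474 (iv D20266) (iv F87356)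
theorem F125047 : act 7 n29474 = n29474 := d27_2 F87360 D29474 (iv D29474)
def n29475 : Q := act 9 n20253
theorem D29475 : act 9 n20253 = n29475 := rfl
theorem F125048 : act 1 n29475 = n20267 := d16_1 D29475 (iv D20267) (iv F87356)
theorem F125049 : act 2 n29475 = n29475 := d23_1 D29475 (iv D29475) F87357
theorem F125050 : act 4 n29475 = n20257 := d34_1 D29475 (iv D20257) (iv F87358)
theorem F125052 : act 7 n29475 = n29475 := d43_1 D29475 (iv D29475) F87360
def n29476 : Q := act 8 n20254
theorem D29476 : act 8 n20254 = n29476 := rfl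
theorem F125053 : act 1 n29476 = n20268 := d15_1 D29476 (iv D20268) (iv F87361)
theorem F125054 : act 2 n29476 = n29476 := d22_1 D29476 (iv D29476) F87362
theorem F125055 : act 6 n29476 = n29476 := d40_1 D29476 (iv D29476) F87364
theorem F125056 : act 7 n29476 = n20255 := d42_1 D29476 (iv D20255) D20254
def n29477 : Q := act 3 n20255
theorem D29477 : act 3 n20255 = n29477 := rfl
theorem F125057 : act 1 n29477 = n20269 := d10_1 D29477 (iv D20269) (iv F87365)
theorem F125058 : act 6 n29477 = n20256 := d26_2 (iv F87367) D29477 (iv D20256)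
def n29478 : Q := act 9 n20255
theorem D29478 : act 9 n20255 = n29478 := rfl
theorem F125060 : act 1 n29478 = n20270 := d16_1 D29478 (iv D20270) (iv F87365)
theorem F125061 : act 2 n29478 = n29478 := d23_1 D29478 (iv D29478) F87366
theorem F125062 : act 6 n29478 = n20257 := d41_1 D29478 (iv D20257) (iv F87367)
def n29479 : Q := act 2 n20256
theorem D29479 : act 2 n20256 = n29479 := rfl
theorem F125065 : act 5 n29479 = n20258 := d19_2 (iv F87369) D29479 (iv D20258)
def n29480 : Q := act 4 n20256
theorem D29480 : act 4 n20256 = n29480 := rfl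
theorem F125068 : act 1 n29480 = n20271 := d11_1 D29480 (iv D20271) (iv F87368)
def n29481 : Q := act 9 n20256
theorem D29481 : act 9 n20256 = n29481 := rfl
theorem F125071 : act 1 n29481 = n20272 := d16_1 D29481 (iv D20272) (iv F87368)
theorem F125072 : act 3 n29481 = n20257 := d29_1 D29481 (iv D20257) D20256
theorem F125073 : act 5 n29481 = n20260 := d38_1 D29481 (iv D20260) (iv F87369)
def n29483 : Q := act 9 n20258
theorem D29483 : act 9 n20258 = n29483 := rfl
theorem F125080 : act 2 n29483 = n20260 := d23_1 D29483 (iv D20260) D20258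
def n29486 : Q := act 8 n20260
theorem D29486 : act 8 n20260 = n29486 := rfl
def n29487 : Q := act 5 n20261
theorem D29487 : act 5 n20261 = n29487 := rfl
theorem F125094 : act 0 n29487 = n20284 := d4_1 D29487 (iv D20284) (iv F87387)
theorem F125095 : act 2 n29487 = n20520 := d19_1 D29487 (iv D20520) (iv F87388)
theorem F125096 : act 3 n29487 = n20263 := d25_1 D29487 (iv D20263) (iv F87389)
theorem F125097 : act 6 n29487 = n21493 := d35_2 D20261 D29487 (iv D21493) (iv D14764) (iv F61187)
def n29488 : Q := act 7 n20261
theorem D29488 : act 7 n20261 = n29488 := rfl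
theorem F125098 : act 0 n29488 = n20285 := d6_1 D29488 (iv D20285) (iv F87387)
theorem F125099 : act 2 n29488 = n20521 := d21_1 D29488 (iv D20521) (iv F87388)
theorem F125100 : act 3 n29488 = n20264 := d27_1 D29488 (iv D20264) (iv F87389)
theorem F125101 : act 4 n29488 = n29488 := d32_1 D29488 (iv D29488) F87390
theorem F125102 : act 6 n29488 = n29488 := d39_1 D29488 (iv D29488) (iv D20261) F61188 D20261
def n29489 : Q := act 8 n20261
theorem D29489 : act 8 n20261 = n29489 := rfl
theorem F125103 : act 0 n29489 = n20286 := d7_1 D29489 (iv D20286) (iv F87387)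
theorem F125104 : act 2 n29489 = n20522 := d22_1 D29489 (iv D20522) (iv F87388)
theorem F125105 : act 4 n29489 = n29489 := d33_1 D29489 (iv D29489) F87390
theorem F125106 : act 6 n29489 = n20262 := d40_1 D29489 (iv D20262) D20261
def n29490 : Q := act 3 n20262
theorem D29490 : act 3 n20262 = n29490 := rfl
theorem F125107 : act 0 n29490 = n20287 := d2_1 D29490 (iv D20287) (iv F87391)
theorem F125108 : act 5 n29490 = n21496 := d25_2 (iv F87394) D29490 (iv D21496)
theorem F125109 : act 7 n29490 = n29490 := d27_2 F87395 D29490 (iv D29490)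
theorem F125110 : act 8 n29490 = n20266 := d28_2 D20262 D29490 (iv D20266) (iv D13938) D13936
def n29491 : Q := act 9 n20262
theorem D29491 : act 9 n20262 = n29491 := rfl
theorem F125111 : act 0 n29491 = n20288 := d8_1 D29491 (iv D20288) (iv F87391)
theorem F125112 : act 2 n29491 = n20524 := d23_1 D29491 (iv D20524) (iv F87392)
theorem F125113 : act 4 n29491 = n29491 := d34_1 D29491 (iv D29491) F87393
theorem F125114 : act 5 n29491 = n21497 := d38_1 D29491 (iv D21497) (iv F87394)
theorem F125115 : act 7 n29491 = n29491 := d43_1 D29491 (iv D29491) F87395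
def n29492 : Q := act 7 n20263
theorem D29492 : act 7 n20263 = n29492 := rfl
theorem F125116 : act 0 n29492 = n20289 := d6_1 D29492 (iv D20289) (iv F87396)
theorem F125117 : act 2 n29492 = n20276 := d21_1 D29492 (iv D20276) (iv F87397)
theorem F125118 : act 5 n29492 = n20264 := d36_1 D29492 (iv D20264) D20263
def n29493 : Q := act 8 n20263
theorem D29493 : act 8 n20263 = n29493 := rfl
theorem F125119 : act 0 n29493 = n20290 := d7_1 D29493 (iv D20290) (iv F87396)
theorem F125120 : act 2 n29493 = n20277 := d22_1 D29493 (iv D20277) (iv F87397)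
theorem F125121 : act 5 n29493 = n20265 := d37_1 D29493 (iv D20265) D20263
theorem F125122 : act 6 n29493 = n21499 := d40_1 D29493 (iv D21499) (iv F87398)
def n29494 : Q := act 8 n20264
theorem D29494 : act 8 n20264 = n29494 := rfl
theorem F125123 : act 0 n29494 = n20291 := d7_1 D29494 (iv D20291) (iv F87399)
theorem F125124 : act 2 n29494 = n20278 := d22_1 D29494 (iv D20278) (iv F87400)
theorem F125125 : act 4 n29494 = n20268 := d33_1 D29494 (iv D20268) (iv F87401)
theorem F125126 : act 6 n29494 = n29494 := d40_1 D29494 (iv D29494) F87402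
theorem F125127 : act 7 n29494 = n20265 := d42_1 D29494 (iv D20265) D20264
def n29495 : Q := act 3 n20265
theorem D29495 : act 3 n20265 = n29495 := rfl
theorem F125128 : act 0 n29495 = n20292 := d2_1 D29495 (iv D20292) (iv F87403)
theorem F125129 : act 6 n29495 = n20266 := d26_2 (iv F87406) D29495 (iv D20266)
def n29496 : Q := act 9 n20265
theorem D29496 : act 9 n20265 = n29496 := rfl
theorem F125130 : act 0 n29496 = n20293 := d8_1 D29496 (iv D20293) (iv F87403)
theorem F125131 : act 2 n29496 = n20280 := d23_1 D29496 (iv D20280) (iv F87404)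
theorem F125132 : act 4 n29496 = n20270 := d34_1 D29496 (iv D20270) (iv F87405)
theorem F125133 : act 6 n29496 = n20267 := d41_1 D29496 (iv D20267) (iv F87406)
def n29497 : Q := act 2 n20266
theorem D29497 : act 2 n20266 = n29497 := rfl
theorem F125134 : act 0 n29497 = n20294 := d1_1 D29497 (iv D20294) (iv F87407)
theorem F125135 : act 3 n29497 = n20281 := d17_2 D20266 D29497 (iv D20281) (iv D13948) (iv F61193)
theorem F125136 : act 5 n29497 = n21503 := d19_2 (iv F87408) D29497 (iv D21503)
theorem F125137 : act 7 n29497 = n29497 := d21_2 F87409 D29497 (iv D29497)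
def n29498 : Q := act 4 n20266
theorem D29498 : act 4 n20266 = n29498 := rfl
theorem F125138 : act 0 n29498 = n20295 := d3_1 D29498 (iv D20295) (iv F87407)
theorem F125139 : act 3 n29498 = n20271 := d24_1 D29498 (iv D20271) (iv D13941) (iv F61194) D20266
theorem F125140 : act 7 n29498 = n29498 := d32_2 F87409 D29498 (iv D29498)
def n29499 : Q := act 9 n20266
theorem D29499 : act 9 n20266 = n29499 := rfl
theorem F125141 : act 0 n29499 = n20296 := d8_1 D29499 (iv D20296) (iv F87407)
theorem F125142 : act 3 n29499 = n20267 := d29_1 D29499 (iv D20267) D20266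
theorem F125143 : act 5 n29499 = n21505 := d38_1 D29499 (iv D21505) (iv F87408)
theorem F125144 : act 7 n29499 = n29499 := d43_1 D29499 (iv D29499) F87409
def n29500 : Q := act 3 n20268
theorem D29500 : act 3 n20268 = n29500 := rfl
theorem F125145 : act 0 n29500 = n20297 := d2_1 D29500 (iv D20297) (iv F87415)
theorem F125146 : act 2 n29500 = n29500 := d17_1 D29500 (iv D29500) F87416 F61248 (iv F87416)
theorem F125147 : act 6 n29500 = n29500 := d26_2 F87417 D29500 (iv D29500)
theorem F125148 : act 7 n29500 = n20269 := d27_2 (iv F87418) D29500 (iv D20269)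
theorem F125149 : act 8 n29500 = n29500 := d28_2 D20268 D29500 (iv D29500) (iv D20268) F61199
def n29501 : Q := act 9 n20268
theorem D29501 : act 9 n20268 = n29501 := rfl
theorem F125150 : act 0 n29501 = n20298 := d8_1 D29501 (iv D20298) (iv F87415)
theorem F125151 : act 2 n29501 = n20283 := d23_1 D29501 (iv D20283) (iv F87416)
theorem F125152 : act 6 n29501 = n29501 := d41_1 D29501 (iv D29501) F87417
theorem F125153 : act 7 n29501 = n20270 := d43_1 D29501 (iv D20270) (iv F87418)
def n29502 : Q := act 4 n20269
theorem D29502 : act 4 n20269 = n29502 := rfl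
theorem F125154 : act 0 n29502 = n20299 := d3_1 D29502 (iv D20299) (iv F87419)
theorem F125155 : act 2 n29502 = n29502 := d18_1 D29502 (iv D29502) F87420
theorem F125156 : act 6 n29502 = n20271 := d31_2 (iv F87421) D29502 (iv D20271)
theorem F125157 : act 8 n29502 = n29502 := d33_2 F87422 D29502 (iv D29502)
def n29503 : Q := act 9 n20269
theorem D29503 : act 9 n20269 = n29503 := rfl
theorem F125158 : act 0 n29503 = n20300 := d8_1 D29503 (iv D20300) (iv F87419)
theorem F125159 : act 2 n29503 = n29503 := d23_1 D29503 (iv D29503) F87420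
theorem F125160 : act 3 n29503 = n20270 := d29_1 D29503 (iv D20270) D20269
theorem F125161 : act 6 n29503 = n20272 := d41_1 D29503 (iv D20272) (iv F87421)
def n29504 : Q := act 5 n20271
theorem D29504 : act 5 n20271 = n29504 := rfl
theorem F125162 : act 0 n29504 = n20301 := d4_1 D29504 (iv D20301) (iv F87426)
theorem F125164 : act 4 n29504 = n20273 := d30_1 D29504 (iv D20273) (iv D13943) (iv F61206) D20271
def n29505 : Q := act 9 n20271
theorem D29505 : act 9 n20271 = n29505 := rfl
theorem F125167 : act 0 n29505 = n20302 := d8_1 D29505 (iv D20302) (iv F87426)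
theorem F125168 : act 2 n29505 = n29505 := d23_1 D29505 (iv D29505) F87427
theorem F125169 : act 4 n29505 = n20272 := d34_1 D29505 (iv D20272) D20271
theorem F125170 : act 7 n29505 = n29505 := d43_1 D29505 (iv D29505) F87428
def n29506 : Q := act 8 n20272
theorem D29506 : act 8 n20272 = n29506 := rfl
theorem F125171 : act 0 n29506 = n20303 := d7_1 D29506 (iv D20303) (iv F87430)
theorem F125172 : act 2 n29506 = n29506 := d22_1 D29506 (iv D29506) F87431
theorem F125173 : act 5 n29506 = n20275 := d37_1 D29506 (iv D20275) (iv F87433)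
theorem F125174 : act 7 n29506 = n29506 := d42_1 D29506 (iv D29506) F87434
theorem F125175 : act 9 n29506 = n29506 := d44_2 D20272 D29506 (iv D29506) (iv D20272) F61208
def n29507 : Q := act 6 n20273
theorem D29507 : act 6 n20273 = n29507 := rfl
theorem F125176 : act 0 n29507 = n20304 := d5_1 D29507 (iv D20304) (iv F87435)
theorem F125178 : act 3 n29507 = n21513 := d26_1 D29507 (iv D21513) (iv F87437)
def n29508 : Q := act 9 n20273
theorem D29508 : act 9 n20273 = n29508 := rfl
theorem F125180 : act 0 n29508 = n20305 := d8_1 D29508 (iv D20305) (iv F87435)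
theorem F125182 : act 3 n29508 = n21514 := d29_1 D29508 (iv D21514) (iv F87437)
def n29510 : Q := act 6 n20276
theorem D29510 : act 6 n20276 = n29510 := rfl
theorem F125190 : act 0 n29510 = n20307 := d5_1 D29510 (iv D20307) (iv F87449)
theorem F125191 : act 1 n29510 = n29510 := d13_1 D29510 (iv D29510) F87450
theorem F125192 : act 3 n29510 = n20539 := d26_1 D29510 (iv D20539) (iv F87451)
theorem F125193 : act 5 n29510 = n29510 := d35_1 D29510 (iv D29510) F87452 F61230 (iv F87452)
theorem F125194 : act 7 n29510 = n21516 := d39_2 D20276 D29510 (iv D21516) (iv D14779) (iv F61225)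
def n29511 : Q := act 8 n20276
theorem D29511 : act 8 n20276 = n29511 := rfl
theorem F125195 : act 0 n29511 = n20308 := d7_1 D29511 (iv D20308) (iv F87449)
theorem F125196 : act 1 n29511 = n29511 := d15_1 D29511 (iv D29511) F87450
theorem F125197 : act 5 n29511 = n20278 := d37_1 D29511 (iv D20278) (iv F87452)
theorem F125198 : act 7 n29511 = n20277 := d42_1 D29511 (iv D20277) D20276
def n29512 : Q := act 3 n20277
theorem D29512 : act 3 n20277 = n29512 := rfl
theorem F125199 : act 0 n29512 = n20309 := d2_1 D29512 (iv D20309) (iv F87453)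
theorem F125200 : act 1 n29512 = n29512 := d10_1 D29512 (iv D29512) F87454
theorem F125201 : act 5 n29512 = n20279 := d25_2 (iv F87455) D29512 (iv D20279)
theorem F125202 : act 6 n29512 = n21518 := d26_2 (iv F87456) D29512 (iv D21518)
theorem F125203 : act 8 n29512 = n20541 := d28_2 D20277 D29512 (iv D20541) (iv D14125) (iv F61224)
def n29513 : Q := act 9 n20277
theorem D29513 : act 9 n20277 = n29513 := rfl
theorem F125204 : act 0 n29513 = n20310 := d8_1 D29513 (iv D20310) (iv F87453)
theorem F125205 : act 1 n29513 = n29513 := d16_1 D29513 (iv D29513) F87454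
theorem F125206 : act 5 n29513 = n20280 := d38_1 D29513 (iv D20280) (iv F87455)
theorem F125207 : act 6 n29513 = n21519 := d41_1 D29513 (iv D21519) (iv F87456)
def n29514 : Q := act 3 n20278
theorem D29514 : act 3 n20278 = n29514 := rfl
theorem F125208 : act 0 n29514 = n20311 := d2_1 D29514 (iv D20311) (iv F87457)
theorem F125209 : act 1 n29514 = n29514 := d10_1 D29514 (iv D29514) F87458
theorem F125210 : act 4 n29514 = n29514 := d24_2 (iv F87459) D29514 (iv D29514) F87459 F61248
theorem F125211 : act 6 n29514 = n29514 := d26_2 F87460 D29514 (iv D29514)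
theorem F125212 : act 7 n29514 = n20279 := d27_2 (iv F87461) D29514 (iv D20279)
theorem F125213 : act 8 n29514 = n20543 := d28_2 D20278 D29514 (iv D20543) (iv D14126) (iv F61228)
def n29515 : Q := act 9 n20278
theorem D29515 : act 9 n20278 = n29515 := rfl
theorem F125214 : act 0 n29515 = n20312 := d8_1 D29515 (iv D20312) (iv F87457)
theorem F125215 : act 1 n29515 = n29515 := d16_1 D29515 (iv D29515) F87458
theorem F125216 : act 4 n29515 = n20283 := d34_1 D29515 (iv D20283) (iv F87459)
theorem F125217 : act 6 n29515 = n29515 := d41_1 D29515 (iv D29515) F87460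
theorem F125218 : act 7 n29515 = n20280 := d43_1 D29515 (iv D20280) (iv F87461)
def n29516 : Q := act 2 n20279
theorem D29516 : act 2 n20279 = n29516 := rfl
theorem F125219 : act 0 n29516 = n20313 := d1_1 D29516 (iv D20313) (iv F87462)
theorem F125220 : act 4 n29516 = n29516 := d18_2 F87464 D29516 (iv D29516)
theorem F125221 : act 6 n29516 = n20281 := d20_2 (iv F87465) D29516 (iv D20281)
theorem F125222 : act 8 n29516 = n20545 := d22_2 (iv F87466) D29516 (iv D20545)
def n29517 : Q := act 9 n20279
theorem D29517 : act 9 n20279 = n29517 := rfl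
theorem F125223 : act 0 n29517 = n20314 := d8_1 D29517 (iv D20314) (iv F87462)
theorem F125224 : act 1 n29517 = n29517 := d16_1 D29517 (iv D29517) F87463
theorem F125225 : act 3 n29517 = n20280 := d29_1 D29517 (iv D20280) D20279
theorem F125226 : act 4 n29517 = n29517 := d34_1 D29517 (iv D29517) F87464
theorem F125227 : act 6 n29517 = n20282 := d41_1 D29517 (iv D20282) (iv F87465)
def n29518 : Q := act 1 n20281
theorem D29518 : act 1 n20281 = n29518 := rfl
theorem F125228 : act 2 n29518 = n29518 := d9_2 D20281 D29518 (iv D29518) (iv D20281) F61236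
theorem F125229 : act 4 n29518 = n29518 := d11_2 F87472 D29518 (iv D29518)
theorem F125230 : act 5 n29518 = n21524 := d12_2 (iv F87473) D29518 (iv D21524)
theorem F125231 : act 7 n29518 = n29518 := d14_2 F87474 D29518 (iv D29518)
theorem F125232 : act 8 n29518 = n20547 := d15_2 (iv F87475) D29518 (iv D20547)
def n29519 : Q := act 9 n20281
theorem D29519 : act 9 n20281 = n29519 := rfl
theorem F125233 : act 0 n29519 = n20316 := d8_1 D29519 (iv D20316) (iv F87471)
theorem F125234 : act 2 n29519 = n20282 := d23_1 D29519 (iv D20282) D20281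
theorem F125235 : act 4 n29519 = n29519 := d34_1 D29519 (iv D29519) F87472
theorem F125236 : act 5 n29519 = n21525 := d38_1 D29519 (iv D21525) (iv F87473)
theorem F125237 : act 7 n29519 = n29519 := d43_1 D29519 (iv D29519) F87474
def n29521 : Q := act 4 n20284
theorem D29521 : act 4 n20284 = n29521 := rfl
theorem F125244 : act 2 n29521 = n20550 := d18_1 D29521 (iv D20550) (iv F87487)
theorem F125245 : act 5 n29521 = n29521 := d30_2 D20284 D29521 (iv D29521) (iv D20284) F61257
theorem F125246 : act 6 n29521 = n21527 := d31_2 (iv F87489) D29521 (iv D21527)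
def n29522 : Q := act 7 n20284
theorem D29522 : act 7 n20284 = n29522 := rfl
theorem F125247 : act 2 n29522 = n20551 := d21_1 D29522 (iv D20551) (iv F87487)
theorem F125248 : act 3 n29522 = n20289 := d27_1 D29522 (iv D20289) (iv F87488)
theorem F125249 : act 5 n29522 = n20285 := d36_1 D29522 (iv D20285) D20284
def n29523 : Q := act 8 n20284
theorem D29523 : act 8 n20284 = n29523 := rfl
theorem F125250 : act 2 n29523 = n20552 := d22_1 D29523 (iv D20552) (iv F87487)
theorem F125251 : act 5 n29523 = n20286 := d37_1 D29523 (iv D20286) D20284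
theorem F125252 : act 6 n29523 = n21529 := d40_1 D29523 (iv D21529) (iv F87489)
def n29524 : Q := act 8 n20285
theorem D29524 : act 8 n20285 = n29524 := rfl
theorem F125253 : act 2 n29524 = n20553 := d22_1 D29524 (iv D20553) (iv F87490)
theorem F125254 : act 4 n29524 = n29524 := d33_1 D29524 (iv D29524) F87492
theorem F125255 : act 6 n29524 = n29524 := d40_1 D29524 (iv D29524) F87493
theorem F125256 : act 7 n29524 = n20286 := d42_1 D29524 (iv D20286) D20285
def n29525 : Q := act 3 n20286
theorem D29525 : act 3 n20286 = n29525 := rfl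
theorem F125257 : act 6 n29525 = n20287 := d26_2 (iv F87496) D29525 (iv D20287)
theorem F125258 : act 8 n29525 = n20292 := d28_2 D20286 D29525 (iv D20292) (iv D13956) (iv F61256)
def n29526 : Q := act 9 n20286
theorem D29526 : act 9 n20286 = n29526 := rfl
theorem F125259 : act 2 n29526 = n20555 := d23_1 D29526 (iv D20555) (iv F87494)
theorem F125260 : act 4 n29526 = n29526 := d34_1 D29526 (iv D29526) F87495
theorem F125261 : act 6 n29526 = n20288 := d41_1 D29526 (iv D20288) (iv F87496)
def n29527 : Q := act 2 n20287
theorem D29527 : act 2 n20287 = n29527 := rfl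
theorem F125262 : act 3 n29527 = n20556 := d17_2 D20287 D29527 (iv D20556) (iv D14135) (iv F61258)
theorem F125263 : act 5 n29527 = n21533 := d19_2 (iv F87497) D29527 (iv D21533)
theorem F125264 : act 7 n29527 = n29527 := d21_2 F87498 D29527 (iv D29527)
theorem F125265 : act 8 n29527 = n20294 := d22_2 (iv F87499) D29527 (iv D20294)
def n29528 : Q := act 4 n20287
theorem D29528 : act 4 n20287 = n29528 := rfl
theorem F125266 : act 3 n29528 = n29528 := d24_1 D29528 (iv D29528) (iv D20287) F61259 D20287
theorem F125267 : act 7 n29528 = n29528 := d32_2 F87498 D29528 (iv D29528)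
theorem F125268 : act 8 n29528 = n20295 := d33_2 (iv F87499) D29528 (iv D20295)
def n29529 : Q := act 9 n20287
theorem D29529 : act 9 n20287 = n29529 := rfl
theorem F125269 : act 3 n29529 = n20288 := d29_1 D29529 (iv D20288) D20287
theorem F125270 : act 5 n29529 = n21535 := d38_1 D29529 (iv D21535) (iv F87497)
theorem F125271 : act 7 n29529 = n29529 := d43_1 D29529 (iv D29529) F87498
def n29530 : Q := act 6 n20289
theorem D29530 : act 6 n20289 = n29530 := rfl
theorem F125272 : act 2 n29530 = n20307 := d20_1 D29530 (iv D20307) (iv F87504)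
theorem F125273 : act 5 n29530 = n29530 := d35_1 D29530 (iv D29530) F87505 F61266 (iv F87505)
theorem F125274 : act 7 n29530 = n21536 := d39_2 D20289 D29530 (iv D21536) (iv D14792) (iv F61263)
def n29531 : Q := act 8 n20289
theorem D29531 : act 8 n20289 = n29531 := rfl
theorem F125275 : act 2 n29531 = n20308 := d22_1 D29531 (iv D20308) (iv F87504)
theorem F125276 : act 5 n29531 = n20291 := d37_1 D29531 (iv D20291) (iv F87505)
theorem F125277 : act 7 n29531 = n20290 := d42_1 D29531 (iv D20290) D20289
def n29532 : Q := act 3 n20290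
theorem D29532 : act 3 n20290 = n29532 := rfl
theorem F125278 : act 5 n29532 = n20292 := d25_2 (iv F87507) D29532 (iv D20292)
theorem F125279 : act 6 n29532 = n21538 := d26_2 (iv F87508) D29532 (iv D21538)
def n29533 : Q := act 9 n20290
theorem D29533 : act 9 n20290 = n29533 := rfl
theorem F125280 : act 2 n29533 = n20310 := d23_1 D29533 (iv D20310) (iv F87506)
theorem F125281 : act 5 n29533 = n20293 := d38_1 D29533 (iv D20293) (iv F87507)
theorem F125282 : act 6 n29533 = n21539 := d41_1 D29533 (iv D21539) (iv F87508)
def n29534 : Q := act 3 n20291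
theorem D29534 : act 3 n20291 = n29534 := rfl
theorem F125283 : act 6 n29534 = n29534 := d26_2 F87511 D29534 (iv D29534)
theorem F125284 : act 7 n29534 = n20292 := d27_2 (iv F87512) D29534 (iv D20292)
def n29535 : Q := act 9 n20291
theorem D29535 : act 9 n20291 = n29535 := rfl
theorem F125285 : act 2 n29535 = n20312 := d23_1 D29535 (iv D20312) (iv F87509)
theorem F125286 : act 4 n29535 = n20298 := d34_1 D29535 (iv D20298) (iv F87510)
theorem F125287 : act 6 n29535 = n29535 := d41_1 D29535 (iv D29535) F87511
theorem F125288 : act 7 n29535 = n20293 := d43_1 D29535 (iv D20293) (iv F87512)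
def n29536 : Q := act 2 n20292
theorem D29536 : act 2 n20292 = n29536 := rfl
theorem F125289 : act 3 n29536 = n20313 := d17_2 D20292 D29536 (iv D20313) (iv D13970) (iv F61267)
theorem F125290 : act 6 n29536 = n20294 := d20_2 (iv F87513) D29536 (iv D20294)
def n29537 : Q := act 4 n20292
theorem D29537 : act 4 n20292 = n29537 := rfl
theorem F125291 : act 3 n29537 = n20299 := d24_1 D29537 (iv D20299) (iv D13960) (iv F61268) D20292
theorem F125292 : act 6 n29537 = n20295 := d31_2 (iv F87513) D29537 (iv D20295)
def n29538 : Q := act 9 n20292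
theorem D29538 : act 9 n20292 = n29538 := rfl
theorem F125293 : act 3 n29538 = n20293 := d29_1 D29538 (iv D20293) D20292
theorem F125294 : act 6 n29538 = n20296 := d41_1 D29538 (iv D20296) (iv F87513)
def n29539 : Q := act 1 n20294
theorem D29539 : act 1 n20294 = n29539 := rfl
theorem F125295 : act 3 n29539 = n20315 := d10_2 (iv F87517) D29539 (iv D20315)
theorem F125296 : act 5 n29539 = n21545 := d12_2 (iv F87518) D29539 (iv D21545)
theorem F125297 : act 7 n29539 = n29539 := d14_2 F87519 D29539 (iv D29539)
def n29540 : Q := act 4 n20294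
theorem D29540 : act 4 n20294 = n29540 := rfl
theorem F125298 : act 2 n29540 = n20295 := d18_1 D29540 (iv D20295) D20294
theorem F125299 : act 3 n29540 = n29540 := d24_1 D29540 (iv D29540) F87517 F61319 (iv F87517)
theorem F125300 : act 7 n29540 = n29540 := d32_2 F87519 D29540 (iv D29540)
def n29541 : Q := act 9 n20294
theorem D29541 : act 9 n20294 = n29541 := rfl
theorem F125301 : act 2 n29541 = n20296 := d23_1 D29541 (iv D20296) D20294
theorem F125302 : act 3 n29541 = n20316 := d29_1 D29541 (iv D20316) (iv F87517)
theorem F125303 : act 5 n29541 = n21547 := d38_1 D29541 (iv D21547) (iv F87518)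
theorem F125304 : act 7 n29541 = n29541 := d43_1 D29541 (iv D29541) F87519
def n29542 : Q := act 5 n20295
theorem D29542 : act 5 n20295 = n29542 := rfl
theorem F125305 : act 3 n29542 = n20301 := d25_1 D29542 (iv D20301) (iv F87520)
theorem F125306 : act 4 n29542 = n21548 := d30_1 D29542 (iv D21548) (iv D14798) (iv F61270) D20295
theorem F125307 : act 7 n29542 = n29542 := d36_2 F87521 D29542 (iv D29542)
def n29543 : Q := act 9 n20295
theorem D29543 : act 9 n20295 = n29543 := rfl
theorem F125308 : act 3 n29543 = n20302 := d29_1 D29543 (iv D20302) (iv F87520)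
theorem F125309 : act 4 n29543 = n20296 := d34_1 D29543 (iv D20296) D20295
theorem F125310 : act 7 n29543 = n29543 := d43_1 D29543 (iv D29543) F87521
def n29544 : Q := act 8 n20296
theorem D29544 : act 8 n20296 = n29544 := rfl
theorem F125311 : act 5 n29544 = n21550 := d37_1 D29544 (iv D21550) (iv F87523)
theorem F125312 : act 7 n29544 = n29544 := d42_1 D29544 (iv D29544) F87524
def n29545 : Q := act 4 n20297
theorem D29545 : act 4 n20297 = n29545 := rfl
theorem F125313 : act 2 n29545 = n29545 := d18_1 D29545 (iv D29545) F87525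
theorem F125314 : act 6 n29545 = n29545 := d31_2 F87526 D29545 (iv D29545)
theorem F125315 : act 7 n29545 = n20299 := d32_2 (iv F87527) D29545 (iv D20299)
theorem F125316 : act 8 n29545 = n29545 := d33_2 F87528 D29545 (iv D29545)
def n29546 : Q := act 9 n20297
theorem D29546 : act 9 n20297 = n29546 := rfl
theorem F125317 : act 2 n29546 = n29546 := d23_1 D29546 (iv D29546) F87525
theorem F125318 : act 3 n29546 = n20298 := d29_1 D29546 (iv D20298) D20297
theorem F125319 : act 6 n29546 = n29546 := d41_1 D29546 (iv D29546) F87526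
theorem F125320 : act 7 n29546 = n20300 := d43_1 D29546 (iv D20300) (iv F87527)
def n29547 : Q := act 5 n20299
theorem D29547 : act 5 n20299 = n29547 := rfl
theorem F125321 : act 2 n29547 = n29547 := d19_1 D29547 (iv D29547) F87532
theorem F125322 : act 8 n29547 = n29547 := d37_2 F87534 D29547 (iv D29547)
def n29548 : Q := act 9 n20299
theorem D29548 : act 9 n20299 = n29548 := rfl
theorem F125323 : act 2 n29548 = n29548 := d23_1 D29548 (iv D29548) F87532
theorem F125324 : act 4 n29548 = n20300 := d34_1 D29548 (iv D20300) D20299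
theorem F125325 : act 6 n29548 = n20302 := d41_1 D29548 (iv D20302) (iv F87533)
def n29549 : Q := act 8 n20300
theorem D29549 : act 8 n20300 = n29549 := rfl
theorem F125326 : act 2 n29549 = n29549 := d22_1 D29549 (iv D29549) F87535
theorem F125327 : act 6 n29549 = n20303 := d40_1 D29549 (iv D20303) (iv F87537)
theorem F125328 : act 9 n29549 = n29549 := d44_2 D20300 D29549 (iv D29549) (iv D20300) F61281
def n29550 : Q := act 6 n20301
theorem D29550 : act 6 n20301 = n29550 := rfl
theorem F125329 : act 2 n29550 = n29550 := d20_1 D29550 (iv D29550) F87538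
theorem F125330 : act 4 n29550 = n20304 := d31_1 D29550 (iv D20304) (iv F87539)
theorem F125331 : act 8 n29550 = n29550 := d40_2 F87541 D29550 (iv D29550)
def n29551 : Q := act 9 n20301
theorem D29551 : act 9 n20301 = n29551 := rfl
theorem F125332 : act 2 n29551 = n29551 := d23_1 D29551 (iv D29551) F87538
theorem F125333 : act 4 n29551 = n20305 := d34_1 D29551 (iv D20305) (iv F87539)
theorem F125334 : act 5 n29551 = n20302 := d38_1 D29551 (iv D20302) D20301
theorem F125335 : act 7 n29551 = n29551 := d43_1 D29551 (iv D29551) F87540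
def n29552 : Q := act 8 n20302
theorem D29552 : act 8 n20302 = n29552 := rfl
theorem F125336 : act 2 n29552 = n29552 := d22_1 D29552 (iv D29552) F87542
theorem F125337 : act 4 n29552 = n20303 := d33_1 D29552 (iv D20303) (iv F87543)
theorem F125338 : act 7 n29552 = n29552 := d42_1 D29552 (iv D29552) F87544
theorem F125339 : act 9 n29552 = n29552 := d44_2 D20302 D29552 (iv D29552) (iv D20302) F61286
def n29553 : Q := act 7 n20304
theorem D29553 : act 7 n20304 = n29553 := rfl
theorem F125340 : act 2 n29553 = n29553 := d21_1 D29553 (iv D29553) F87549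
theorem F125341 : act 3 n29553 = n21559 := d27_1 D29553 (iv D21559) (iv F87550)
theorem F125342 : act 6 n29553 = n29553 := d39_1 D29553 (iv D29553) (iv D20304) F61293 D20304
theorem F125343 : act 8 n29553 = n29553 := d42_2 F87551 D29553 (iv D29553)
def n29554 : Q := act 9 n20304
theorem D29554 : act 9 n20304 = n29554 := rfl
theorem F125344 : act 2 n29554 = n29554 := d23_1 D29554 (iv D29554) F87549
theorem F125345 : act 3 n29554 = n21560 := d29_1 D29554 (iv D21560) (iv F87550)
theorem F125346 : act 6 n29554 = n20305 := d41_1 D29554 (iv D20305) D20304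
def n29555 : Q := act 8 n20305
theorem D29555 : act 8 n20305 = n29555 := rfl
theorem F125347 : act 2 n29555 = n29555 := d22_1 D29555 (iv D29555) F87552
theorem F125348 : act 5 n29555 = n20306 := d37_1 D29555 (iv D20306) (iv F87554)
theorem F125349 : act 7 n29555 = n29555 := d42_1 D29555 (iv D29555) F87555
theorem F125350 : act 9 n29555 = n29555 := d44_2 D20305 D29555 (iv D29555) (iv D20305) F61294
def n29557 : Q := act 8 n20307
theorem D29557 : act 8 n20307 = n29557 := rfl
theorem F125354 : act 1 n29557 = n20318 := d15_1 D29557 (iv D20318) (iv F87560)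
theorem F125355 : act 5 n29557 = n29557 := d37_1 D29557 (iv D29557) F87562
theorem F125356 : act 6 n29557 = n20308 := d40_1 D29557 (iv D20308) D20307
theorem F125357 : act 7 n29557 = n21563 := d42_1 D29557 (iv D21563) (iv F87563)
def n29558 : Q := act 3 n20308
theorem D29558 : act 3 n20308 = n29558 := rfl
theorem F125358 : act 1 n29558 = n20319 := d10_1 D29558 (iv D20319) (iv F87564)
theorem F125359 : act 5 n29558 = n20311 := d25_2 (iv F87565) D29558 (iv D20311)
theorem F125360 : act 7 n29558 = n20309 := d27_2 (iv F87566) D29558 (iv D20309)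
theorem F125361 : act 8 n29558 = n20580 := d28_2 D20308 D29558 (iv D20580) (iv D14152) (iv F61303)
def n29559 : Q := act 9 n20308
theorem D29559 : act 9 n20308 = n29559 := rfl
theorem F125362 : act 1 n29559 = n20320 := d16_1 D29559 (iv D20320) (iv F87564)
theorem F125363 : act 5 n29559 = n20312 := d38_1 D29559 (iv D20312) (iv F87565)
theorem F125364 : act 7 n29559 = n20310 := d43_1 D29559 (iv D20310) (iv F87566)
def n29560 : Q := act 2 n20309
theorem D29560 : act 2 n20309 = n29560 := rfl
theorem F125365 : act 5 n29560 = n20313 := d19_2 (iv F87568) D29560 (iv D20313)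
theorem F125366 : act 6 n29560 = n21566 := d20_2 (iv F87569) D29560 (iv D21566)
theorem F125367 : act 8 n29560 = n20582 := d22_2 (iv F87570) D29560 (iv D20582)
def n29561 : Q := act 4 n20309
theorem D29561 : act 4 n20309 = n29561 := rfl
theorem F125368 : act 1 n29561 = n20322 := d11_1 D29561 (iv D20322) (iv F87567)
theorem F125369 : act 5 n29561 = n29561 := d30_2 (iv F87568) D29561 (iv D29561) F87568 F61313
theorem F125370 : act 6 n29561 = n21567 := d31_2 (iv F87569) D29561 (iv D21567)
theorem F125371 : act 8 n29561 = n20583 := d33_2 (iv F87570) D29561 (iv D20583)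
def n29562 : Q := act 9 n20309
theorem D29562 : act 9 n20309 = n29562 := rfl
theorem F125372 : act 1 n29562 = n20323 := d16_1 D29562 (iv D20323) (iv F87567)
theorem F125373 : act 3 n29562 = n20310 := d29_1 D29562 (iv D20310) D20309
theorem F125374 : act 5 n29562 = n20314 := d38_1 D29562 (iv D20314) (iv F87568)
theorem F125375 : act 6 n29562 = n21568 := d41_1 D29562 (iv D21568) (iv F87569)
def n29563 : Q := act 2 n20311
theorem D29563 : act 2 n20311 = n29563 := rfl
theorem F125376 : act 4 n29563 = n29563 := d18_2 F87575 D29563 (iv D29563)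
theorem F125377 : act 6 n29563 = n29563 := d20_2 F87576 D29563 (iv D29563)
theorem F125378 : act 7 n29563 = n20313 := d21_2 (iv F87577) D29563 (iv D20313)
theorem F125379 : act 8 n29563 = n20585 := d22_2 (iv F87578) D29563 (iv D20585)
def n29564 : Q := act 9 n20311
theorem D29564 : act 9 n20311 = n29564 := rfl
theorem F125380 : act 1 n29564 = n20325 := d16_1 D29564 (iv D20325) (iv F87574)
theorem F125381 : act 3 n29564 = n20312 := d29_1 D29564 (iv D20312) D20311
theorem F125382 : act 4 n29564 = n29564 := d34_1 D29564 (iv D29564) F87575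
theorem F125383 : act 6 n29564 = n29564 := d41_1 D29564 (iv D29564) F87576
theorem F125384 : act 7 n29564 = n20314 := d43_1 D29564 (iv D20314) (iv F87577)
def n29565 : Q := act 1 n20313
theorem D29565 : act 1 n20313 = n29565 := rfl
theorem F125385 : act 2 n29565 = n20326 := d9_2 D20313 D29565 (iv D20326) (iv D13981) (iv F61312)
theorem F125386 : act 4 n29565 = n29565 := d11_2 F87583 D29565 (iv D29565)
theorem F125387 : act 6 n29565 = n20315 := d13_2 (iv F87584) D29565 (iv D20315)
theorem F125388 : act 8 n29565 = n20587 := d15_2 (iv F87585) D29565 (iv D20587)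
def n29566 : Q := act 9 n20313
theorem D29566 : act 9 n20313 = n29566 := rfl
theorem F125389 : act 2 n29566 = n20314 := d23_1 D29566 (iv D20314) D20313
theorem F125390 : act 4 n29566 = n29566 := d34_1 D29566 (iv D29566) F87583
theorem F125391 : act 6 n29566 = n20316 := d41_1 D29566 (iv D20316) (iv F87584)
def n29567 : Q := act 8 n20314
theorem D29567 : act 8 n20314 = n29567 := rfl
theorem F125392 : act 1 n29567 = n20328 := d15_1 D29567 (iv D20328) (iv F87586)
theorem F125393 : act 4 n29567 = n29567 := d33_1 D29567 (iv D29567) F87588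
theorem F125394 : act 6 n29567 = n20317 := d40_1 D29567 (iv D20317) (iv F87589)
theorem F125395 : act 9 n29567 = n20589 := d44_2 D20314 D29567 (iv D20589) (iv D14158) (iv F61315)
def n29568 : Q := act 0 n20315
theorem D29568 : act 0 n20315 = n29568 := rfl
theorem F125396 : act 2 n29568 = n20329 := d1_2 (iv F87590) D29568 (iv D20329)
theorem F125397 : act 4 n29568 = n29568 := d3_2 F87591 D29568 (iv D29568)
theorem F125398 : act 5 n29568 = n21574 := d4_2 (iv F87592) D29568 (iv D21574)
theorem F125399 : act 7 n29568 = n29568 := d6_2 F87593 D29568 (iv D29568)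
theorem F125400 : act 8 n29568 = n20590 := d7_2 (iv F87594) D29568 (iv D20590)
def n29569 : Q := act 9 n20315
theorem D29569 : act 9 n20315 = n29569 := rfl
theorem F125401 : act 1 n29569 = n20316 := d16_1 D29569 (iv D20316) D20315
theorem F125402 : act 2 n29569 = n20330 := d23_1 D29569 (iv D20330) (iv F87590)
theorem F125403 : act 4 n29569 = n29569 := d34_1 D29569 (iv D29569) F87591
theorem F125404 : act 5 n29569 = n21575 := d38_1 D29569 (iv D21575) (iv F87592)
theorem F125405 : act 7 n29569 = n29569 := d43_1 D29569 (iv D29569) F87593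
def n29570 : Q := act 8 n20316
theorem D29570 : act 8 n20316 = n29570 := rfl
theorem F125406 : act 2 n29570 = n20317 := d22_1 D29570 (iv D20317) (iv F87595)
theorem F125407 : act 4 n29570 = n29570 := d33_1 D29570 (iv D29570) F87596
theorem F125408 : act 5 n29570 = n21576 := d37_1 D29570 (iv D21576) (iv F87597)
theorem F125409 : act 7 n29570 = n29570 := d42_1 D29570 (iv D29570) F87598
theorem F125410 : act 9 n29570 = n20592 := d44_2 D20316 D29570 (iv D20592) (iv D14160) (iv F61322)
def n29571 : Q := act 3 n20318
theorem D29571 : act 3 n20318 = n29571 := rfl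
theorem F125411 : act 0 n29571 = n29571 := d2_1 D29571 (iv D29571) F87604
theorem F125412 : act 5 n29571 = n29571 := d25_2 F87605 D29571 (iv D29571)
theorem F125413 : act 6 n29571 = n20319 := d26_2 (iv F87606) D29571 (iv D20319)
theorem F125414 : act 7 n29571 = n21577 := d27_2 (iv F87607) D29571 (iv D21577)
theorem F125415 : act 8 n29571 = n20593 := d28_2 D20318 D29571 (iv D20593) (iv D14162) (iv F61333)
def n29572 : Q := act 9 n20318
theorem D29572 : act 9 n20318 = n29572 := rfl
theorem F125416 : act 0 n29572 = n29572 := d8_1 D29572 (iv D29572) F87604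
theorem F125417 : act 5 n29572 = n29572 := d38_1 D29572 (iv D29572) F87605
theorem F125418 : act 6 n29572 = n20320 := d41_1 D29572 (iv D20320) (iv F87606)
theorem F125419 : act 7 n29572 = n21578 := d43_1 D29572 (iv D21578) (iv F87607)
def n29573 : Q := act 2 n20319
theorem D29573 : act 2 n20319 = n29573 := rfl
theorem F125420 : act 0 n29573 = n29573 := d1_1 D29573 (iv D29573) F87608
theorem F125421 : act 5 n29573 = n20324 := d19_2 (iv F87609) D29573 (iv D20324)
theorem F125422 : act 7 n29573 = n20321 := d21_2 (iv F87610) D29573 (iv D20321)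
theorem F125423 : act 8 n29573 = n20595 := d22_2 (iv F87611) D29573 (iv D20595)
def n29574 : Q := act 4 n20319
theorem D29574 : act 4 n20319 = n29574 := rfl
theorem F125424 : act 0 n29574 = n29574 := d3_1 D29574 (iv D29574) F87608
theorem F125425 : act 5 n29574 = n29574 := d30_2 (iv F87609) D29574 (iv D29574) F87609 F61347
theorem F125426 : act 7 n29574 = n20322 := d32_2 (iv F87610) D29574 (iv D20322)
theorem F125427 : act 8 n29574 = n20596 := d33_2 (iv F87611) D29574 (iv D20596)
def n29575 : Q := act 9 n20319
theorem D29575 : act 9 n20319 = n29575 := rfl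
theorem F125428 : act 0 n29575 = n29575 := d8_1 D29575 (iv D29575) F87608
theorem F125429 : act 3 n29575 = n20320 := d29_1 D29575 (iv D20320) D20319
theorem F125430 : act 5 n29575 = n20325 := d38_1 D29575 (iv D20325) (iv F87609)
theorem F125431 : act 7 n29575 = n20323 := d43_1 D29575 (iv D20323) (iv F87610)
def n29576 : Q := act 1 n20321
theorem D29576 : act 1 n20321 = n29576 := rfl
theorem F125432 : act 5 n29576 = n20326 := d12_2 (iv F87616) D29576 (iv D20326)
theorem F125433 : act 6 n29576 = n21582 := d13_2 (iv F87617) D29576 (iv D21582)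
theorem F125434 : act 8 n29576 = n20598 := d15_2 (iv F87618) D29576 (iv D20598)
def n29577 : Q := act 4 n20321
theorem D29577 : act 4 n20321 = n29577 := rfl
theorem F125435 : act 0 n29577 = n29577 := d3_1 D29577 (iv D29577) F87615
theorem F125436 : act 2 n29577 = n20322 := d18_1 D29577 (iv D20322) D20321
theorem F125437 : act 5 n29577 = n29577 := d30_2 (iv F87616) D29577 (iv D29577) F87616 F61356
theorem F125438 : act 6 n29577 = n21583 := d31_2 (iv F87617) D29577 (iv D21583)
theorem F125439 : act 8 n29577 = n20599 := d33_2 (iv F87618) D29577 (iv D20599)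
def n29578 : Q := act 9 n20321
theorem D29578 : act 9 n20321 = n29578 := rfl
theorem F125440 : act 0 n29578 = n29578 := d8_1 D29578 (iv D29578) F87615
theorem F125441 : act 2 n29578 = n20323 := d23_1 D29578 (iv D20323) D20321
theorem F125442 : act 5 n29578 = n20327 := d38_1 D29578 (iv D20327) (iv F87616)
theorem F125443 : act 6 n29578 = n21584 := d41_1 D29578 (iv D21584) (iv F87617)
def n29579 : Q := act 9 n20322
theorem D29579 : act 9 n20322 = n29579 := rfl
theorem F125444 : act 0 n29579 = n29579 := d8_1 D29579 (iv D29579) F87619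
theorem F125445 : act 4 n29579 = n20323 := d34_1 D29579 (iv D20323) D20322
theorem F125446 : act 5 n29579 = n29579 := d38_1 D29579 (iv D29579) F87620
theorem F125447 : act 6 n29579 = n21585 := d41_1 D29579 (iv D21585) (iv F87621)
def n29580 : Q := act 8 n20323
theorem D29580 : act 8 n20323 = n29580 := rfl
theorem F125448 : act 0 n29580 = n29580 := d7_1 D29580 (iv D29580) F87623
theorem F125449 : act 5 n29580 = n20328 := d37_1 D29580 (iv D20328) (iv F87625)
theorem F125450 : act 6 n29580 = n21586 := d40_1 D29580 (iv D21586) (iv F87626)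
theorem F125451 : act 9 n29580 = n20602 := d44_2 D20323 D29580 (iv D20602) (iv D14167) (iv F61342)
def n29581 : Q := act 1 n20324
theorem D29581 : act 1 n20324 = n29581 := rfl
theorem F125452 : act 4 n29581 = n29581 := d11_2 F87628 D29581 (iv D29581)
theorem F125453 : act 6 n29581 = n29581 := d13_2 F87629 D29581 (iv D29581)
theorem F125454 : act 7 n29581 = n20326 := d14_2 (iv F87630) D29581 (iv D20326)
theorem F125455 : act 8 n29581 = n20603 := d15_2 (iv F87631) D29581 (iv D20603)
def n29582 : Q := act 9 n20324
theorem D29582 : act 9 n20324 = n29582 := rfl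
theorem F125456 : act 0 n29582 = n29582 := d8_1 D29582 (iv D29582) F87627
theorem F125457 : act 2 n29582 = n20325 := d23_1 D29582 (iv D20325) D20324
theorem F125458 : act 4 n29582 = n29582 := d34_1 D29582 (iv D29582) F87628
theorem F125459 : act 6 n29582 = n29582 := d41_1 D29582 (iv D29582) F87629
theorem F125460 : act 7 n29582 = n20327 := d43_1 D29582 (iv D20327) (iv F87630)
def n29583 : Q := act 8 n20325
theorem D29583 : act 8 n20325 = n29583 := rfl
theorem F125461 : act 0 n29583 = n29583 := d7_1 D29583 (iv D29583) F87632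
theorem F125462 : act 4 n29583 = n29583 := d33_1 D29583 (iv D29583) F87634
theorem F125463 : act 6 n29583 = n29583 := d40_1 D29583 (iv D29583) F87635
theorem F125464 : act 7 n29583 = n20328 := d42_1 D29583 (iv D20328) (iv F87636)
theorem F125465 : act 9 n29583 = n20605 := d44_2 D20325 D29583 (iv D20605) (iv D14169) (iv F61350)
def n29584 : Q := act 0 n20326
theorem D29584 : act 0 n20326 = n29584 := rfl
theorem F125466 : act 1 n29584 = n29584 := d0_2 D20326 D29584 (iv D29584) (iv D20326) F61355
theorem F125467 : act 4 n29584 = n29584 := d3_2 F87637 D29584 (iv D29584)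
theorem F125468 : act 6 n29584 = n20329 := d5_2 (iv F87638) D29584 (iv D20329)
theorem F125469 : act 8 n29584 = n20606 := d7_2 (iv F87639) D29584 (iv D20606)
def n29585 : Q := act 9 n20326
theorem D29585 : act 9 n20326 = n29585 := rfl
theorem F125470 : act 1 n29585 = n20327 := d16_1 D29585 (iv D20327) D20326
theorem F125471 : act 4 n29585 = n29585 := d34_1 D29585 (iv D29585) F87637
theorem F125472 : act 6 n29585 = n20330 := d41_1 D29585 (iv D20330) (iv F87638)
def n29586 : Q := act 8 n20327
theorem D29586 : act 8 n20327 = n29586 := rfl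
theorem F125473 : act 0 n29586 = n29586 := d7_1 D29586 (iv D29586) F87640
theorem F125474 : act 2 n29586 = n20328 := d22_1 D29586 (iv D20328) (iv F87641)
theorem F125475 : act 4 n29586 = n29586 := d33_1 D29586 (iv D29586) F87642
theorem F125476 : act 6 n29586 = n20331 := d40_1 D29586 (iv D20331) (iv F87643)
theorem F125477 : act 9 n29586 = n20608 := d44_2 D20327 D29586 (iv D20608) (iv D14171) (iv F61358)
def n29587 : Q := act 9 n20329
theorem D29587 : act 9 n20329 = n29587 := rfl
theorem F125478 : act 0 n29587 = n20330 := d8_1 D29587 (iv D20330) D20329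
theorem F125479 : act 1 n29587 = n29587 := d16_1 D29587 (iv D29587) F87648
theorem F125480 : act 4 n29587 = n29587 := d34_1 D29587 (iv D29587) F87649
theorem F125481 : act 5 n29587 = n21593 := d38_1 D29587 (iv D21593) (iv F87650)
theorem F125482 : act 7 n29587 = n29587 := d43_1 D29587 (iv D29587) F87651
def n29588 : Q := act 8 n20330
theorem D29588 : act 8 n20330 = n29588 := rfl
theorem F125483 : act 1 n29588 = n20331 := d15_1 D29588 (iv D20331) (iv F87653)
theorem F125484 : act 4 n29588 = n29588 := d33_1 D29588 (iv D29588) F87654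
theorem F125485 : act 5 n29588 = n21594 := d37_1 D29588 (iv D21594) (iv F87655)
theorem F125486 : act 7 n29588 = n29588 := d42_1 D29588 (iv D29588) F87656
theorem F125487 : act 9 n29588 = n20610 := d44_2 D20330 D29588 (iv D20610) (iv D14174) (iv F61366)
def n29589 : Q := act 3 n20331
theorem D29589 : act 3 n20331 = n29589 := rfl
theorem F125488 : act 0 n29589 = n29589 := d2_1 D29589 (iv D29589) F87657
theorem F125489 : act 5 n29589 = n21595 := d25_2 (iv F87660) D29589 (iv D21595)
theorem F125490 : act 7 n29589 = n29589 := d27_2 F87661 D29589 (iv D29589)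
theorem F125491 : act 9 n29589 = n20611 := d29_2 (iv F87662) D29589 (iv D20611)
def n29591 : Q := act 6 n20332
theorem D29591 : act 6 n20332 = n29591 := rfl
theorem F125502 : act 5 n29591 = n29591 := d35_1 D29591 (iv D29591) (iv D20332) F61381 D20332
def n29596 : Q := act 6 n20334
theorem D29596 : act 6 n20334 = n29596 := rfl
theorem F125529 : act 4 n29596 = n20335 := d31_1 D29596 (iv D20335) D20334
def n29599 : Q := act 8 n20335
theorem D29599 : act 8 n20335 = n29599 := rfl
def n29606 : Q := act 8 n20339
theorem D29606 : act 8 n20339 = n29606 := rfl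
def n29613 : Q := act 5 n20345
theorem D29613 : act 5 n20345 = n29613 := rfl
theorem F125618 : act 2 n29613 = n20353 := d19_1 D29613 (iv D20353) (iv F87734)
theorem F125619 : act 4 n29613 = n29613 := d30_1 D29613 (iv D29613) F87735 F61433 (iv F87735)
def n29619 : Q := act 3 n20348
theorem D29619 : act 3 n20348 = n29619 := rfl
theorem F125647 : act 5 n29619 = n29619 := d25_2 F87750 D29619 (iv D29619)
def n29623 : Q := act 5 n20351
theorem D29623 : act 5 n20351 = n29623 := rfl
def n29626 : Q := act 7 n20353
theorem D29626 : act 7 n20353 = n29626 := rfl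
theorem F125681 : act 1 n29626 = n20360 := d14_1 D29626 (iv D20360) (iv F87773)
theorem F125684 : act 5 n29626 = n20354 := d36_1 D29626 (iv D20354) D20353
def n29627 : Q := act 8 n20353
theorem D29627 : act 8 n20353 = n29627 := rfl
theorem F125686 : act 1 n29627 = n20361 := d15_1 D29627 (iv D20361) (iv F87773)
def n29628 : Q := act 8 n20354
theorem D29628 : act 8 n20354 = n29628 := rfl
theorem F125691 : act 4 n29628 = n20358 := d33_1 D29628 (iv D20358) (iv F87780)
theorem F125693 : act 7 n29628 = n20355 := d42_1 D29628 (iv D20355) D20354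
def n29633 : Q := act 9 n20358
theorem D29633 : act 9 n20358 = n29633 := rfl
def n29634 : Q := act 6 n20360
theorem D29634 : act 6 n20360 = n29634 := rfl
def n29635 : Q := act 8 n20360
theorem D29635 : act 8 n20360 = n29635 := rfl
theorem F125725 : act 2 n29635 = n20413 := d22_1 D29635 (iv D20413) (iv F87807)
theorem F125727 : act 5 n29635 = n20362 := d37_1 D29635 (iv D20362) (iv F87810)
def n29636 : Q := act 3 n20361
theorem D29636 : act 3 n20361 = n29636 := rfl
theorem F125730 : act 5 n29636 = n20363 := d25_2 (iv F87815) D29636 (iv D20363)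
def n29638 : Q := act 3 n20362
theorem D29638 : act 3 n20362 = n29638 := rfl
theorem F125742 : act 7 n29638 = n20363 := d27_2 (iv F87821) D29638 (iv D20363)
def n29639 : Q := act 9 n20362
theorem D29639 : act 9 n20362 = n29639 := rfl
theorem F125748 : act 7 n29639 = n20364 := d43_1 D29639 (iv D20364) (iv F87821)
def n29641 : Q := act 9 n20363
theorem D29641 : act 9 n20363 = n29641 := rfl
def n29643 : Q := act 9 n20365
theorem D29643 : act 9 n20365 = n29643 := rfl
def n29645 : Q := act 3 n20368
theorem D29645 : act 3 n20368 = n29645 := rfl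
def n29647 : Q := act 8 n20368
theorem D29647 : act 8 n20368 = n29647 := rfl
def n29648 : Q := act 7 n20369
theorem D29648 : act 7 n20369 = n29648 := rfl
theorem F125790 : act 1 n29648 = n20376 := d14_1 D29648 (iv D20376) (iv F87854)
def n29655 : Q := act 6 n20373
theorem D29655 : act 6 n20373 = n29655 := rfl
def n29657 : Q := act 5 n20374
theorem D29657 : act 5 n20374 = n29657 := rfl
theorem F125832 : act 2 n29657 = n20382 := d19_1 D29657 (iv D20382) (iv F87879)
def n29658 : Q := act 7 n20374
theorem D29658 : act 7 n20374 = n29658 := rfl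
theorem F125836 : act 0 n29658 = n20392 := d6_1 D29658 (iv D20392) (iv F87878)
theorem F125837 : act 2 n29658 = n20383 := d21_1 D29658 (iv D20383) (iv F87879)
def n29659 : Q := act 8 n20374
theorem D29659 : act 8 n20374 = n29659 := rfl
theorem F125842 : act 2 n29659 = n20384 := d22_1 D29659 (iv D20384) (iv F87879)
theorem F125844 : act 6 n29659 = n20375 := d40_1 D29659 (iv D20375) D20374
def n29660 : Q := act 3 n20375
theorem D29660 : act 3 n20375 = n29660 := rfl
def n29662 : Q := act 8 n20376
theorem D29662 : act 8 n20376 = n29662 := rfl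
theorem F125854 : act 0 n29662 = n20396 := d7_1 D29662 (iv D20396) (iv F87887)
theorem F125855 : act 2 n29662 = n20387 := d22_1 D29662 (iv D20387) (iv F87888)
def n29663 : Q := act 3 n20377
theorem D29663 : act 3 n20377 = n29663 := rfl
theorem F125861 : act 5 n29663 = n29663 := d25_2 F87895 D29663 (iv D29663)
theorem F125862 : act 6 n29663 = n20378 := d26_2 (iv F87896) D29663 (iv D20378)
def n29665 : Q := act 4 n20378
theorem D29665 : act 4 n20378 = n29665 := rfl
def n29671 : Q := act 8 n20382
theorem D29671 : act 8 n20382 = n29671 := rfl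
theorem F125903 : act 5 n29671 = n20384 := d37_1 D29671 (iv D20384) D20382
def n29672 : Q := act 8 n20383
theorem D29672 : act 8 n20383 = n29672 := rfl
theorem F125905 : act 0 n29672 = n20406 := d7_1 D29672 (iv D20406) (iv F87923)
theorem F125907 : act 4 n29672 = n20387 := d33_1 D29672 (iv D20387) (iv F87925)
def n29673 : Q := act 3 n20384
theorem D29673 : act 3 n20384 = n29673 := rfl
theorem F125912 : act 4 n29673 = n20451 := d24_2 (iv F87930) D29673 (iv D20451) F61755 (iv F61563)
def n29675 : Q := act 2 n20385
theorem D29675 : act 2 n20385 = n29675 := rfl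
theorem F125920 : act 4 n29675 = n20453 := d18_2 (iv F87934) D29675 (iv D20453)
def n29676 : Q := act 9 n20385
theorem D29676 : act 9 n20385 = n29676 := rfl
theorem F125925 : act 3 n29676 = n20386 := d29_1 D29676 (iv D20386) D20385
def n29677 : Q := act 9 n20387
theorem D29677 : act 9 n20387 = n29677 := rfl
theorem F125931 : act 3 n29677 = n20455 := d29_1 D29677 (iv D20455) (iv F87945)
def n29678 : Q := act 5 n20389
theorem D29678 : act 5 n20389 = n29678 := rfl
def n29679 : Q := act 7 n20389
theorem D29679 : act 7 n20389 = n29679 := rfl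
def n29680 : Q := act 8 n20389
theorem D29680 : act 8 n20389 = n29680 := rfl
def n29683 : Q := act 7 n20391
theorem D29683 : act 7 n20391 = n29683 := rfl
theorem F125952 : act 2 n29683 = n20404 := d21_1 D29683 (iv D20404) (iv F87961)
theorem F125954 : act 5 n29683 = n20392 := d36_1 D29683 (iv D20392) D20391
def n29684 : Q := act 8 n20391
theorem D29684 : act 8 n20391 = n29684 := rfl
theorem F125956 : act 2 n29684 = n20405 := d22_1 D29684 (iv D20405) (iv F87961)
theorem F125958 : act 5 n29684 = n20393 := d37_1 D29684 (iv D20393) D20391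
def n29685 : Q := act 8 n20392
theorem D29685 : act 8 n20392 = n29685 := rfl
theorem F125963 : act 7 n29685 = n20393 := d42_1 D29685 (iv D20393) D20392
def n29686 : Q := act 3 n20393
theorem D29686 : act 3 n20393 = n29686 := rfl
def n29688 : Q := act 2 n20394
theorem D29688 : act 2 n20394 = n29688 := rfl
theorem F125969 : act 3 n29688 = n20409 := d17_2 D20394 D29688 (iv D20409) (iv D14035) (iv F61579)
def n29691 : Q := act 3 n20396
theorem D29691 : act 3 n20396 = n29691 := rfl
theorem F125980 : act 7 n29691 = n20397 := d27_2 (iv F87982) D29691 (iv D20397)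
def n29692 : Q := act 9 n20396
theorem D29692 : act 9 n20396 = n29692 := rfl
theorem F125982 : act 2 n29692 = n20411 := d23_1 D29692 (iv D20411) (iv F87979)
theorem F125985 : act 7 n29692 = n20398 := d43_1 D29692 (iv D20398) (iv F87982)
def n29693 : Q := act 4 n20397
theorem D29693 : act 4 n20397 = n29693 := rfl
theorem F125988 : act 6 n29693 = n20399 := d31_2 (iv F87985) D29693 (iv D20399)
def n29701 : Q := act 6 n20404
theorem D29701 : act 6 n20404 = n29701 := rfl
theorem F126019 : act 1 n29701 = n20412 := d13_1 D29701 (iv D20412) (iv F88012)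
def n29702 : Q := act 8 n20404
theorem D29702 : act 8 n20404 = n29702 := rfl
theorem F126024 : act 1 n29702 = n20413 := d15_1 D29702 (iv D20413) (iv F88012)
theorem F126026 : act 5 n29702 = n20406 := d37_1 D29702 (iv D20406) (iv F88014)
def n29703 : Q := act 3 n20405
theorem D29703 : act 3 n20405 = n29703 := rfl
theorem F126029 : act 5 n29703 = n20407 := d25_2 (iv F88018) D29703 (iv D20407)
def n29704 : Q := act 9 n20405
theorem D29704 : act 9 n20405 = n29704 := rfl
theorem F126031 : act 1 n29704 = n20415 := d16_1 D29704 (iv D20415) (iv F88016)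
theorem F126033 : act 5 n29704 = n20408 := d38_1 D29704 (iv D20408) (iv F88018)
def n29705 : Q := act 3 n20406
theorem D29705 : act 3 n20406 = n29705 := rfl
theorem F126037 : act 4 n29705 = n20483 := d24_2 (iv F88021) D29705 (iv D20483) F61852 (iv F61629)
def n29706 : Q := act 9 n20406
theorem D29706 : act 9 n20406 = n29706 := rfl
theorem F126040 : act 1 n29706 = n20417 := d16_1 D29706 (iv D20417) (iv F88020)
theorem F126043 : act 7 n29706 = n20408 := d43_1 D29706 (iv D20408) (iv F88023)
def n29707 : Q := act 2 n20407
theorem D29707 : act 2 n20407 = n29707 := rfl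
theorem F126046 : act 6 n29707 = n20409 := d20_2 (iv F88026) D29707 (iv D20409)
def n29708 : Q := act 9 n20407
theorem D29708 : act 9 n20407 = n29708 := rfl
theorem F126047 : act 1 n29708 = n20419 := d16_1 D29708 (iv D20419) (iv F88024)
def n29709 : Q := act 1 n20409
theorem D29709 : act 1 n20409 = n29709 := rfl
theorem F126051 : act 2 n29709 = n20420 := d9_2 D20409 D29709 (iv D20420) (iv D14044) (iv F61619)
theorem F126052 : act 4 n29709 = n20487 := d11_2 (iv F88031) D29709 (iv D20487)
def n29710 : Q := act 9 n20409
theorem D29710 : act 9 n20409 = n29710 := rfl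
theorem F126055 : act 2 n29710 = n20410 := d23_1 D29710 (iv D20410) D20409
def n29712 : Q := act 8 n20412
theorem D29712 : act 8 n20412 = n29712 := rfl
theorem F126067 : act 6 n29712 = n20413 := d40_1 D29712 (iv D20413) D20412
def n29713 : Q := act 3 n20413
theorem D29713 : act 3 n20413 = n29713 := rfl
theorem F126070 : act 5 n29713 = n20416 := d25_2 (iv F88052) D29713 (iv D20416)
def n29714 : Q := act 9 n20413
theorem D29714 : act 9 n20413 = n29714 := rfl
def n29715 : Q := act 2 n20414
theorem D29715 : act 2 n20414 = n29715 := rfl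
theorem F126078 : act 5 n29715 = n20418 := d19_2 (iv F88055) D29715 (iv D20418)
def n29716 : Q := act 4 n20414
theorem D29716 : act 4 n20414 = n29716 := rfl
theorem F126080 : act 0 n29716 = n29716 := d3_1 D29716 (iv D29716) F88054
theorem F126081 : act 3 n29716 = n29716 := d24_1 D29716 (iv D29716) (iv D20414) F61643 D20414
theorem F126082 : act 5 n29716 = n20494 := d30_2 (iv F88055) D29716 (iv D20494) F61884 (iv F61651)
theorem F126083 : act 6 n29716 = n29716 := d31_2 F88056 D29716 (iv D29716)
def n29717 : Q := act 9 n20414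
theorem D29717 : act 9 n20414 = n29717 := rfl
theorem F126085 : act 3 n29717 = n20415 := d29_1 D29717 (iv D20415) D20414
def n29718 : Q := act 2 n20416
theorem D29718 : act 2 n20416 = n29718 := rfl
theorem F126089 : act 4 n29718 = n20496 := d18_2 (iv F88063) D29718 (iv D20496)
theorem F126091 : act 7 n29718 = n20418 := d21_2 (iv F88065) D29718 (iv D20418)
def n29719 : Q := act 9 n20416
theorem D29719 : act 9 n20416 = n29719 := rfl
theorem F126093 : act 3 n29719 = n20417 := d29_1 D29719 (iv D20417) D20416
theorem F126094 : act 4 n29719 = n20497 := d34_1 D29719 (iv D20497) (iv F88063)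
def n29720 : Q := act 1 n20418
theorem D29720 : act 1 n20418 = n29720 := rfl
theorem F126098 : act 6 n29720 = n20420 := d13_2 (iv F88073) D29720 (iv D20420)
def n29721 : Q := act 9 n20418
theorem D29721 : act 9 n20418 = n29721 := rfl
def n29722 : Q := act 8 n20419
theorem D29722 : act 8 n20419 = n29722 := rfl
def n29724 : Q := act 9 n20420
theorem D29724 : act 9 n20420 = n29724 := rfl
theorem F126111 : act 1 n29724 = n20421 := d16_1 D29724 (iv D20421) D20420
theorem F126112 : act 4 n29724 = n20502 := d34_1 D29724 (iv D20502) (iv F88078)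
def n29725 : Q := act 8 n20421
theorem D29725 : act 8 n20421 = n29725 := rfl
def n29732 : Q := act 3 n20425
theorem D29732 : act 3 n20425 = n29732 := rfl
theorem F126155 : act 5 n29732 = n21602 := d25_2 (iv F88106) D29732 (iv D21602)
def n29738 : Q := act 4 n20428
theorem D29738 : act 4 n20428 = n29738 := rfl
theorem F126187 : act 1 n29738 = n20443 := d11_1 D29738 (iv D20443) (iv F88121)
def n29742 : Q := act 5 n20431
theorem D29742 : act 5 n20431 = n29742 := rfl
theorem F126207 : act 3 n29742 = n21612 := d25_1 D29742 (iv D21612) (iv F88138)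
def n29745 : Q := act 5 n20433
theorem D29745 : act 5 n20433 = n29745 := rfl
theorem F126222 : act 0 n29745 = n20456 := d4_1 D29745 (iv D20456) (iv F88147)
theorem F126224 : act 6 n29745 = n21614 := d35_2 D20433 D29745 (iv D21614) (iv D14845) (iv F61703)
def n29746 : Q := act 7 n20433
theorem D29746 : act 7 n20433 = n29746 := rfl
theorem F126226 : act 0 n29746 = n20457 := d6_1 D29746 (iv D20457) (iv F88147)
theorem F126227 : act 3 n29746 = n20436 := d27_1 D29746 (iv D20436) (iv F88148)
def n29747 : Q := act 8 n20433
theorem D29747 : act 8 n20433 = n29747 := rfl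
def n29748 : Q := act 3 n20434
theorem D29748 : act 3 n20434 = n29748 := rfl
theorem F126237 : act 8 n29748 = n20438 := d28_2 D20434 D29748 (iv D20438) (iv D14054) D14052
def n29749 : Q := act 9 n20434
theorem D29749 : act 9 n20434 = n29749 := rfl
theorem F126242 : act 8 n29749 = n20524 := d44_1 D29749 (iv D20524) (iv D14112) (iv F61705) D20434
def n29750 : Q := act 7 n20435
theorem D29750 : act 7 n20435 = n29750 := rfl
theorem F126247 : act 9 n29750 = n20525 := d43_2 (iv F88159) D29750 (iv D20525)
def n29751 : Q := act 8 n20435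
theorem D29751 : act 8 n20435 = n29751 := rfl
theorem F126251 : act 5 n29751 = n20437 := d37_1 D29751 (iv D20437) D20435
def n29752 : Q := act 8 n20436
theorem D29752 : act 8 n20436 = n29752 := rfl
theorem F126255 : act 4 n29752 = n20440 := d33_1 D29752 (iv D20440) (iv F88162)
theorem F126257 : act 7 n29752 = n20437 := d42_1 D29752 (iv D20437) D20436
def n29753 : Q := act 3 n20437
theorem D29753 : act 3 n20437 = n29753 := rfl
def n29754 : Q := act 9 n20437
theorem D29754 : act 9 n20437 = n29754 := rfl
theorem F126263 : act 6 n29754 = n20439 := d41_1 D29754 (iv D20439) (iv F88168)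
theorem F126264 : act 8 n29754 = n20529 := d44_1 D29754 (iv D20529) (iv D14115) (iv F61709) D20437
def n29755 : Q := act 2 n20438
theorem D29755 : act 2 n20438 = n29755 := rfl
theorem F126266 : act 3 n29755 = n20453 := d17_2 D20438 D29755 (iv D20453) (iv D14064) (iv F61711)
theorem F126267 : act 5 n29755 = n21624 := d19_2 (iv F88170) D29755 (iv D21624)
def n29756 : Q := act 4 n20438
theorem D29756 : act 4 n20438 = n29756 := rfl
theorem F126270 : act 3 n29756 = n20443 := d24_1 D29756 (iv D20443) (iv D14057) (iv F61712) D20438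
def n29757 : Q := act 9 n20438
theorem D29757 : act 9 n20438 = n29757 := rfl
theorem F126273 : act 3 n29757 = n20439 := d29_1 D29757 (iv D20439) D20438
def n29758 : Q := act 3 n20440
theorem D29758 : act 3 n20440 = n29758 := rfl
theorem F126276 : act 0 n29758 = n20469 := d2_1 D29758 (iv D20469) (iv F88178)
def n29759 : Q := act 9 n20440
theorem D29759 : act 9 n20440 = n29759 := rfl
theorem F126286 : act 8 n29759 = n20534 := d44_1 D29759 (iv D20534) (iv D14118) (iv F61720) D20440
def n29760 : Q := act 4 n20441
theorem D29760 : act 4 n20441 = n29760 := rfl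
theorem F126288 : act 6 n29760 = n20443 := d31_2 (iv F88185) D29760 (iv D20443)
def n29761 : Q := act 9 n20441
theorem D29761 : act 9 n20441 = n29761 := rfl
theorem F126291 : act 3 n29761 = n20442 := d29_1 D29761 (iv D20442) D20441
def n29762 : Q := act 5 n20443
theorem D29762 : act 5 n20443 = n29762 := rfl
theorem F126295 : act 4 n29762 = n20445 := d30_1 D29762 (iv D20445) (iv D14059) (iv F61726) D20443
def n29763 : Q := act 9 n20443
theorem D29763 : act 9 n20443 = n29763 := rfl
theorem F126299 : act 4 n29763 = n20444 := d34_1 D29763 (iv D20444) D20443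
def n29765 : Q := act 6 n20445
theorem D29765 : act 6 n20445 = n29765 := rfl
theorem F126307 : act 3 n29765 = n21633 := d26_1 D29765 (iv D21633) (iv F88200)
def n29766 : Q := act 9 n20445
theorem D29766 : act 9 n20445 = n29766 := rfl
theorem F126312 : act 5 n29766 = n20446 := d38_1 D29766 (iv D20446) D20445
def n29768 : Q := act 6 n20448
theorem D29768 : act 6 n20448 = n29768 := rfl
theorem F126320 : act 0 n29768 = n20479 := d5_1 D29768 (iv D20479) (iv F88213)
theorem F126321 : act 1 n29768 = n29768 := d13_1 D29768 (iv D29768) F88214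
theorem F126322 : act 4 n29768 = n29768 := d31_1 D29768 (iv D29768) F88215
theorem F126323 : act 5 n29768 = n29768 := d35_1 D29768 (iv D29768) F88216 F61751 (iv F88216)
theorem F126324 : act 7 n29768 = n21635 := d39_2 D20448 D29768 (iv D21635) (iv D14859) (iv F61746)
theorem F126325 : act 9 n29768 = n20539 := d41_2 (iv F88217) D29768 (iv D20539)
def n29769 : Q := act 8 n20448
theorem D29769 : act 8 n20448 = n29769 := rfl
theorem F126329 : act 5 n29769 = n20450 := d37_1 D29769 (iv D20450) (iv F88216)
def n29770 : Q := act 3 n20449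
theorem D29770 : act 3 n20449 = n29770 := rfl
theorem F126333 : act 5 n29770 = n20451 := d25_2 (iv F88221) D29770 (iv D20451)
theorem F126334 : act 6 n29770 = n21637 := d26_2 (iv F88222) D29770 (iv D21637)
def n29772 : Q := act 3 n20450
theorem D29772 : act 3 n20450 = n29772 := rfl
def n29773 : Q := act 9 n20450
theorem D29773 : act 9 n20450 = n29773 := rfl
theorem F126347 : act 4 n29773 = n20455 := d34_1 D29773 (iv D20455) (iv F88225)
theorem F126350 : act 8 n29773 = n20544 := d44_1 D29773 (iv D20544) (iv D14126) (iv F61752) D20450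
def n29777 : Q := act 9 n20453
theorem D29777 : act 9 n20453 = n29777 := rfl
def n29779 : Q := act 4 n20456
theorem D29779 : act 4 n20456 = n29779 := rfl
theorem F126369 : act 1 n29779 = n29779 := d11_1 D29779 (iv D29779) F88250
theorem F126370 : act 3 n29779 = n29779 := d24_1 D29779 (iv D29779) F88251 F61787 (iv F88251)
theorem F126371 : act 5 n29779 = n29779 := d30_2 D20456 D29779 (iv D29779) (iv D20456) F61779
theorem F126372 : act 6 n29779 = n21646 := d31_2 (iv F88252) D29779 (iv D21646)
theorem F126373 : act 9 n29779 = n20550 := d34_2 (iv F88253) D29779 (iv D20550)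
def n29780 : Q := act 7 n20456
theorem D29780 : act 7 n20456 = n29780 := rfl
theorem F126374 : act 1 n29780 = n29780 := d14_1 D29780 (iv D29780) F88250
theorem F126375 : act 3 n29780 = n20461 := d27_1 D29780 (iv D20461) (iv F88251)
theorem F126376 : act 5 n29780 = n20457 := d36_1 D29780 (iv D20457) D20456
theorem F126377 : act 9 n29780 = n20551 := d43_2 (iv F88253) D29780 (iv D20551)
def n29781 : Q := act 8 n20456
theorem D29781 : act 8 n20456 = n29781 := rfl
theorem F126378 : act 1 n29781 = n29781 := d15_1 D29781 (iv D29781) F88250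
theorem F126379 : act 5 n29781 = n20458 := d37_1 D29781 (iv D20458) D20456
theorem F126380 : act 6 n29781 = n21648 := d40_1 D29781 (iv D21648) (iv F88252)
def n29782 : Q := act 8 n20457
theorem D29782 : act 8 n20457 = n29782 := rfl
theorem F126381 : act 1 n29782 = n29782 := d15_1 D29782 (iv D29782) F88254
theorem F126382 : act 4 n29782 = n29782 := d33_1 D29782 (iv D29782) F88256
theorem F126383 : act 6 n29782 = n29782 := d40_1 D29782 (iv D29782) F88257
theorem F126384 : act 7 n29782 = n20458 := d42_1 D29782 (iv D20458) D20457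
def n29783 : Q := act 3 n20458
theorem D29783 : act 3 n20458 = n29783 := rfl
theorem F126387 : act 8 n29783 = n20464 := d28_2 D20458 D29783 (iv D20464) (iv D14072) (iv F61778)
def n29784 : Q := act 9 n20458
theorem D29784 : act 9 n20458 = n29784 := rfl
theorem F126388 : act 1 n29784 = n29784 := d16_1 D29784 (iv D29784) F88259
theorem F126389 : act 4 n29784 = n29784 := d34_1 D29784 (iv D29784) F88260
theorem F126390 : act 6 n29784 = n20460 := d41_1 D29784 (iv D20460) (iv F88261)
theorem F126391 : act 8 n29784 = n20555 := d44_1 D29784 (iv D20555) (iv D14134) (iv F61780) D20458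
def n29785 : Q := act 2 n20459
theorem D29785 : act 2 n20459 = n29785 := rfl
theorem F126394 : act 8 n29785 = n20466 := d22_2 (iv F88265) D29785 (iv D20466)
def n29788 : Q := act 6 n20461
theorem D29788 : act 6 n20461 = n29788 := rfl
theorem F126403 : act 1 n29788 = n29788 := d13_1 D29788 (iv D29788) F88271
theorem F126404 : act 2 n29788 = n20479 := d20_1 D29788 (iv D20479) (iv F88272)
theorem F126405 : act 4 n29788 = n29788 := d31_1 D29788 (iv D29788) F88273
theorem F126406 : act 5 n29788 = n29788 := d35_1 D29788 (iv D29788) F88274 F61793 (iv F88274)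
theorem F126407 : act 7 n29788 = n21655 := d39_2 D20461 D29788 (iv D21655) (iv D14872) (iv F61788)
theorem F126408 : act 9 n29788 = n20559 := d41_2 (iv F88275) D29788 (iv D20559)
def n29789 : Q := act 8 n20461
theorem D29789 : act 8 n20461 = n29789 := rfl
theorem F126412 : act 5 n29789 = n20463 := d37_1 D29789 (iv D20463) (iv F88274)
def n29790 : Q := act 3 n20462
theorem D29790 : act 3 n20462 = n29790 := rfl
theorem F126415 : act 5 n29790 = n20464 := d25_2 (iv F88279) D29790 (iv D20464)
theorem F126416 : act 6 n29790 = n21657 := d26_2 (iv F88280) D29790 (iv D21657)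
def n29791 : Q := act 9 n20462
theorem D29791 : act 9 n20462 = n29791 := rfl
theorem F126420 : act 5 n29791 = n20465 := d38_1 D29791 (iv D20465) (iv F88279)
theorem F126421 : act 6 n29791 = n21658 := d41_1 D29791 (iv D21658) (iv F88280)
theorem F126422 : act 8 n29791 = n20562 := d44_1 D29791 (iv D20562) (iv D14138) (iv F61789) D20462
def n29792 : Q := act 3 n20463
theorem D29792 : act 3 n20463 = n29792 := rfl
def n29793 : Q := act 9 n20463
theorem D29793 : act 9 n20463 = n29793 := rfl
theorem F126428 : act 4 n29793 = n20470 := d34_1 D29793 (iv D20470) (iv F88283)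
theorem F126431 : act 8 n29793 = n20564 := d44_1 D29793 (iv D20564) (iv D14139) (iv F61794) D20463
def n29794 : Q := act 2 n20464
theorem D29794 : act 2 n20464 = n29794 := rfl
theorem F126432 : act 3 n29794 = n20485 := d17_2 D20464 D29794 (iv D20485) (iv D14086) (iv F61796)
theorem F126433 : act 6 n29794 = n20466 := d20_2 (iv F88287) D29794 (iv D20466)
def n29795 : Q := act 4 n20464
theorem D29795 : act 4 n20464 = n29795 := rfl
def n29796 : Q := act 9 n20464
theorem D29796 : act 9 n20464 = n29796 := rfl
theorem F126438 : act 3 n29796 = n20465 := d29_1 D29796 (iv D20465) D20464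
theorem F126439 : act 6 n29796 = n20468 := d41_1 D29796 (iv D20468) (iv F88287)
def n29797 : Q := act 1 n20466
theorem D29797 : act 1 n20466 = n29797 := rfl
theorem F126441 : act 3 n29797 = n20487 := d10_2 (iv F88293) D29797 (iv D20487)
theorem F126442 : act 5 n29797 = n21664 := d12_2 (iv F88294) D29797 (iv D21664)
def n29798 : Q := act 4 n20466
theorem D29798 : act 4 n20466 = n29798 := rfl
def n29799 : Q := act 9 n20466
theorem D29799 : act 9 n20466 = n29799 := rfl
theorem F126447 : act 3 n29799 = n20488 := d29_1 D29799 (iv D20488) (iv F88293)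
def n29800 : Q := act 5 n20467
theorem D29800 : act 5 n20467 = n29800 := rfl
theorem F126452 : act 4 n29800 = n21667 := d30_1 D29800 (iv D21667) (iv D14878) (iv F61800) D20467
def n29802 : Q := act 8 n20468
theorem D29802 : act 8 n20468 = n29802 := rfl
theorem F126459 : act 3 n29802 = n20572 := d28_1 D29802 (iv D20572) F62109 (iv F61807) (iv F88300)
def n29803 : Q := act 4 n20469
theorem D29803 : act 4 n20469 = n29803 := rfl
theorem F126464 : act 7 n29803 = n20471 := d32_2 (iv F88306) D29803 (iv D20471)
def n29804 : Q := act 9 n20469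
theorem D29804 : act 9 n20469 = n29804 := rfl
theorem F126467 : act 3 n29804 = n20470 := d29_1 D29804 (iv D20470) D20469
def n29805 : Q := act 5 n20471
theorem D29805 : act 5 n20471 = n29805 := rfl
def n29808 : Q := act 6 n20473
theorem D29808 : act 6 n20473 = n29808 := rfl
def n29814 : Q := act 8 n20479
theorem D29814 : act 8 n20479 = n29814 := rfl
theorem F126507 : act 1 n29814 = n20490 := d15_1 D29814 (iv D20490) (iv F88347)
theorem F126508 : act 4 n29814 = n29814 := d33_1 D29814 (iv D29814) F88348
theorem F126509 : act 5 n29814 = n29814 := d37_1 D29814 (iv D29814) F88349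
theorem F126510 : act 6 n29814 = n20480 := d40_1 D29814 (iv D20480) D20479
theorem F126511 : act 7 n29814 = n21678 := d42_1 D29814 (iv D21678) (iv F88350)
def n29815 : Q := act 3 n20480
theorem D29815 : act 3 n20480 = n29815 := rfl
theorem F126512 : act 1 n29815 = n20491 := d10_1 D29815 (iv D20491) (iv F88352)
theorem F126513 : act 5 n29815 = n20483 := d25_2 (iv F88354) D29815 (iv D20483)
theorem F126514 : act 7 n29815 = n20481 := d27_2 (iv F88355) D29815 (iv D20481)
def n29816 : Q := act 9 n20480
theorem D29816 : act 9 n20480 = n29816 := rfl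
theorem F126517 : act 5 n29816 = n20484 := d38_1 D29816 (iv D20484) (iv F88354)
theorem F126519 : act 8 n29816 = n20581 := d44_1 D29816 (iv D20581) (iv D14152) (iv F61846) D20480
def n29817 : Q := act 2 n20481
theorem D29817 : act 2 n20481 = n29817 := rfl
theorem F126520 : act 5 n29817 = n20485 := d19_2 (iv F88357) D29817 (iv D20485)
theorem F126521 : act 6 n29817 = n21681 := d20_2 (iv F88358) D29817 (iv D21681)
def n29818 : Q := act 4 n20481
theorem D29818 : act 4 n20481 = n29818 := rfl
theorem F126522 : act 1 n29818 = n20494 := d11_1 D29818 (iv D20494) (iv F88356)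
theorem F126523 : act 3 n29818 = n29818 := d24_1 D29818 (iv D29818) (iv D20481) F61848 D20481
theorem F126524 : act 6 n29818 = n21682 := d31_2 (iv F88358) D29818 (iv D21682)
def n29819 : Q := act 9 n20481
theorem D29819 : act 9 n20481 = n29819 := rfl
theorem F126526 : act 3 n29819 = n20482 := d29_1 D29819 (iv D20482) D20481
theorem F126527 : act 5 n29819 = n20486 := d38_1 D29819 (iv D20486) (iv F88357)
theorem F126528 : act 6 n29819 = n21683 := d41_1 D29819 (iv D21683) (iv F88358)
def n29820 : Q := act 2 n20483
theorem D29820 : act 2 n20483 = n29820 := rfl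
theorem F126529 : act 6 n29820 = n29820 := d20_2 F88365 D29820 (iv D29820)
theorem F126530 : act 7 n29820 = n20485 := d21_2 (iv F88366) D29820 (iv D20485)
def n29821 : Q := act 9 n20483
theorem D29821 : act 9 n20483 = n29821 := rfl
theorem F126532 : act 3 n29821 = n20484 := d29_1 D29821 (iv D20484) D20483
def n29822 : Q := act 1 n20485
theorem D29822 : act 1 n20485 = n29822 := rfl
theorem F126535 : act 2 n29822 = n20498 := d9_2 D20485 D29822 (iv D20498) (iv D14097) (iv F61855)
theorem F126536 : act 6 n29822 = n20487 := d13_2 (iv F88372) D29822 (iv D20487)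
def n29823 : Q := act 9 n20485
theorem D29823 : act 9 n20485 = n29823 := rfl
theorem F126537 : act 2 n29823 = n20486 := d23_1 D29823 (iv D20486) D20485
def n29824 : Q := act 8 n20486
theorem D29824 : act 8 n20486 = n29824 := rfl
theorem F126540 : act 3 n29824 = n20589 := d28_1 D29824 (iv D20589) F62168 (iv F61860) (iv F88374)
def n29825 : Q := act 0 n20487
theorem D29825 : act 0 n20487 = n29825 := rfl
theorem F126542 : act 2 n29825 = n20501 := d1_2 (iv F88376) D29825 (iv D20501)
def n29826 : Q := act 9 n20487
theorem D29826 : act 9 n20487 = n29826 := rfl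
theorem F126546 : act 2 n29826 = n20502 := d23_1 D29826 (iv D20502) (iv F88376)
def n29827 : Q := act 8 n20488
theorem D29827 : act 8 n20488 = n29827 := rfl
theorem F126549 : act 2 n29827 = n20489 := d22_1 D29827 (iv D20489) (iv F88379)
def n29828 : Q := act 3 n20490
theorem D29828 : act 3 n20490 = n29828 := rfl
theorem F126552 : act 0 n29828 = n29828 := d2_1 D29828 (iv D29828) F88386
theorem F126553 : act 5 n29828 = n29828 := d25_2 F88389 D29828 (iv D29828)
theorem F126554 : act 6 n29828 = n20491 := d26_2 (iv F88390) D29828 (iv D20491)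
theorem F126555 : act 7 n29828 = n21692 := d27_2 (iv F88391) D29828 (iv D21692)
def n29829 : Q := act 9 n20490
theorem D29829 : act 9 n20490 = n29829 := rfl
theorem F126556 : act 0 n29829 = n29829 := d8_1 D29829 (iv D29829) F88386
theorem F126557 : act 2 n29829 = n29829 := d23_1 D29829 (iv D29829) F88387
theorem F126558 : act 4 n29829 = n29829 := d34_1 D29829 (iv D29829) F88388
theorem F126559 : act 5 n29829 = n29829 := d38_1 D29829 (iv D29829) F88389
theorem F126560 : act 6 n29829 = n20492 := d41_1 D29829 (iv D20492) (iv F88390)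
theorem F126561 : act 7 n29829 = n21693 := d43_1 D29829 (iv D21693) (iv F88391)
theorem F126562 : act 8 n29829 = n20594 := d44_1 D29829 (iv D20594) (iv D14162) (iv F61877) D20490
def n29830 : Q := act 2 n20491
theorem D29830 : act 2 n20491 = n29830 := rfl
theorem F126563 : act 0 n29830 = n29830 := d1_1 D29830 (iv D29830) F88392
theorem F126564 : act 3 n29830 = n29830 := d17_2 D20491 D29830 (iv D29830) (iv D20491) F61879
theorem F126565 : act 5 n29830 = n20496 := d19_2 (iv F88393) D29830 (iv D20496)
theorem F126566 : act 7 n29830 = n20493 := d21_2 (iv F88394) D29830 (iv D20493)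
def n29831 : Q := act 4 n20491
theorem D29831 : act 4 n20491 = n29831 := rfl
theorem F126567 : act 0 n29831 = n29831 := d3_1 D29831 (iv D29831) F88392
theorem F126568 : act 3 n29831 = n29831 := d24_1 D29831 (iv D29831) (iv D20491) F61880 D20491
theorem F126569 : act 7 n29831 = n20494 := d32_2 (iv F88394) D29831 (iv D20494)
def n29832 : Q := act 9 n20491
theorem D29832 : act 9 n20491 = n29832 := rfl
theorem F126570 : act 0 n29832 = n29832 := d8_1 D29832 (iv D29832) F88392
theorem F126571 : act 3 n29832 = n20492 := d29_1 D29832 (iv D20492) D20491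
theorem F126572 : act 5 n29832 = n20497 := d38_1 D29832 (iv D20497) (iv F88393)
theorem F126573 : act 7 n29832 = n20495 := d43_1 D29832 (iv D20495) (iv F88394)
def n29833 : Q := act 1 n20493
theorem D29833 : act 1 n20493 = n29833 := rfl
theorem F126574 : act 3 n29833 = n29833 := d10_2 F88402 D29833 (iv D29833)
theorem F126575 : act 5 n29833 = n20498 := d12_2 (iv F88403) D29833 (iv D20498)
theorem F126576 : act 6 n29833 = n21697 := d13_2 (iv F88404) D29833 (iv D21697)
def n29834 : Q := act 4 n20493
theorem D29834 : act 4 n20493 = n29834 := rfl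
theorem F126578 : act 2 n29834 = n20494 := d18_1 D29834 (iv D20494) D20493
theorem F126579 : act 6 n29834 = n21698 := d31_2 (iv F88404) D29834 (iv D21698)
def n29835 : Q := act 9 n20493
theorem D29835 : act 9 n20493 = n29835 := rfl
theorem F126581 : act 2 n29835 = n20495 := d23_1 D29835 (iv D20495) D20493
theorem F126583 : act 5 n29835 = n20499 := d38_1 D29835 (iv D20499) (iv F88403)
theorem F126584 : act 6 n29835 = n21699 := d41_1 D29835 (iv D21699) (iv F88404)
def n29836 : Q := act 9 n20494
theorem D29836 : act 9 n20494 = n29836 := rfl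
theorem F126587 : act 4 n29836 = n20495 := d34_1 D29836 (iv D20495) D20494
theorem F126588 : act 6 n29836 = n21700 := d41_1 D29836 (iv D21700) (iv F88407)
def n29837 : Q := act 8 n20495
theorem D29837 : act 8 n20495 = n29837 := rfl
theorem F126589 : act 0 n29837 = n29837 := d7_1 D29837 (iv D29837) F88408
theorem F126590 : act 3 n29837 = n20602 := d28_1 D29837 (iv D20602) F62206 (iv F61891) (iv F88409)
theorem F126591 : act 5 n29837 = n20500 := d37_1 D29837 (iv D20500) (iv F88410)
theorem F126592 : act 6 n29837 = n21701 := d40_1 D29837 (iv D21701) (iv F88411)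
def n29838 : Q := act 1 n20496
theorem D29838 : act 1 n20496 = n29838 := rfl
theorem F126595 : act 7 n29838 = n20498 := d14_2 (iv F88415) D29838 (iv D20498)
def n29839 : Q := act 9 n20496
theorem D29839 : act 9 n20496 = n29839 := rfl
theorem F126597 : act 2 n29839 = n20497 := d23_1 D29839 (iv D20497) D20496
theorem F126600 : act 7 n29839 = n20499 := d43_1 D29839 (iv D20499) (iv F88415)
def n29840 : Q := act 8 n20497
theorem D29840 : act 8 n20497 = n29840 := rfl
theorem F126601 : act 0 n29840 = n29840 := d7_1 D29840 (iv D29840) F88416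
theorem F126602 : act 3 n29840 = n20605 := d28_1 D29840 (iv D20605) F62215 (iv F61900) (iv F88417)
theorem F126603 : act 6 n29840 = n29840 := d40_1 D29840 (iv D29840) F88418
theorem F126604 : act 7 n29840 = n20500 := d42_1 D29840 (iv D20500) (iv F88419)
def n29841 : Q := act 0 n20498
theorem D29841 : act 0 n20498 = n29841 := rfl
theorem F126607 : act 6 n29841 = n20501 := d5_2 (iv F88421) D29841 (iv D20501)
def n29842 : Q := act 9 n20498
theorem D29842 : act 9 n20498 = n29842 := rfl
theorem F126608 : act 1 n29842 = n20499 := d16_1 D29842 (iv D20499) D20498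
theorem F126609 : act 3 n29842 = n29842 := d29_1 D29842 (iv D29842) F88420
theorem F126610 : act 6 n29842 = n20502 := d41_1 D29842 (iv D20502) (iv F88421)
def n29843 : Q := act 8 n20499
theorem D29843 : act 8 n20499 = n29843 := rfl
theorem F126611 : act 0 n29843 = n29843 := d7_1 D29843 (iv D29843) F88422
theorem F126612 : act 2 n29843 = n20500 := d22_1 D29843 (iv D20500) (iv F88423)
theorem F126613 : act 6 n29843 = n20503 := d40_1 D29843 (iv D20503) (iv F88425)
def n29844 : Q := act 9 n20501
theorem D29844 : act 9 n20501 = n29844 := rfl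
theorem F126614 : act 0 n29844 = n20502 := d8_1 D29844 (iv D20502) D20501
theorem F126615 : act 1 n29844 = n29844 := d16_1 D29844 (iv D29844) F88429
theorem F126616 : act 3 n29844 = n29844 := d29_1 D29844 (iv D29844) F88430
theorem F126617 : act 5 n29844 = n21708 := d38_1 D29844 (iv D21708) (iv F88431)
theorem F126618 : act 7 n29844 = n29844 := d43_1 D29844 (iv D29844) F88432
def n29845 : Q := act 8 n20502
theorem D29845 : act 8 n20502 = n29845 := rfl
theorem F126619 : act 1 n29845 = n20503 := d15_1 D29845 (iv D20503) (iv F88433)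
theorem F126620 : act 5 n29845 = n21709 := d37_1 D29845 (iv D21709) (iv F88435)
theorem F126621 : act 7 n29845 = n29845 := d42_1 D29845 (iv D29845) F88436
def n29846 : Q := act 3 n20503
theorem D29846 : act 3 n20503 = n29846 := rfl
theorem F126622 : act 0 n29846 = n29846 := d2_1 D29846 (iv D29846) F88437
theorem F126623 : act 2 n29846 = n20611 := d17_1 D29846 (iv D20611) F62241 (iv F61916) (iv F88438)
theorem F126624 : act 5 n29846 = n21710 := d25_2 (iv F88439) D29846 (iv D21710)
theorem F126625 : act 7 n29846 = n29846 := d27_2 F88440 D29846 (iv D29846)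
theorem F126626 : act 8 n29846 = n29846 := d28_2 D20503 D29846 (iv D29846) (iv D20503) F61912
def n29872 : Q := act 4 n20520
theorem D29872 : act 4 n20520 = n29872 := rfl
theorem F126754 : act 0 n29872 = n20550 := d3_1 D29872 (iv D20550) (iv F88525)
theorem F126755 : act 3 n29872 = n29872 := d24_1 D29872 (iv D29872) F88526 F61977 (iv F88526)
theorem F126756 : act 5 n29872 = n29872 := d30_2 D20520 D29872 (iv D29872) (iv D20520) F61970
theorem F126757 : act 6 n29872 = n21726 := d31_2 (iv F88527) D29872 (iv D21726)
def n29873 : Q := act 7 n20520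
theorem D29873 : act 7 n20520 = n29873 := rfl
theorem F126758 : act 0 n29873 = n20551 := d6_1 D29873 (iv D20551) (iv F88525)
theorem F126759 : act 3 n29873 = n20525 := d27_1 D29873 (iv D20525) (iv F88526)
theorem F126760 : act 5 n29873 = n20521 := d36_1 D29873 (iv D20521) D20520
def n29874 : Q := act 8 n20520
theorem D29874 : act 8 n20520 = n29874 := rfl
theorem F126761 : act 0 n29874 = n20552 := d7_1 D29874 (iv D20552) (iv F88525)
theorem F126762 : act 5 n29874 = n20522 := d37_1 D29874 (iv D20522) D20520
theorem F126763 : act 6 n29874 = n21728 := d40_1 D29874 (iv D21728) (iv F88527)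
def n29875 : Q := act 8 n20521
theorem D29875 : act 8 n20521 = n29875 := rfl
theorem F126764 : act 0 n29875 = n20553 := d7_1 D29875 (iv D20553) (iv F88528)
theorem F126765 : act 4 n29875 = n29875 := d33_1 D29875 (iv D29875) F88530
theorem F126766 : act 6 n29875 = n29875 := d40_1 D29875 (iv D29875) F88531
theorem F126767 : act 7 n29875 = n20522 := d42_1 D29875 (iv D20522) D20521
def n29876 : Q := act 3 n20522
theorem D29876 : act 3 n20522 = n29876 := rfl
theorem F126768 : act 0 n29876 = n20554 := d2_1 D29876 (iv D20554) (iv F88532)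
theorem F126769 : act 6 n29876 = n20523 := d26_2 (iv F88534) D29876 (iv D20523)
theorem F126770 : act 8 n29876 = n20528 := d28_2 D20522 D29876 (iv D20528) (iv D14115) (iv F61969)
def n29877 : Q := act 9 n20522
theorem D29877 : act 9 n20522 = n29877 := rfl
theorem F126771 : act 0 n29877 = n20555 := d8_1 D29877 (iv D20555) (iv F88532)
theorem F126772 : act 4 n29877 = n29877 := d34_1 D29877 (iv D29877) F88533
theorem F126773 : act 6 n29877 = n20524 := d41_1 D29877 (iv D20524) (iv F88534)
def n29878 : Q := act 2 n20523
theorem D29878 : act 2 n20523 = n29878 := rfl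
theorem F126774 : act 0 n29878 = n20556 := d1_1 D29878 (iv D20556) (iv F88535)
theorem F126777 : act 8 n29878 = n20530 := d22_2 (iv F88538) D29878 (iv D20530)
def n29880 : Q := act 9 n20523
theorem D29880 : act 9 n20523 = n29880 := rfl
theorem F126784 : act 3 n29880 = n20524 := d29_1 D29880 (iv D20524) D20523
def n29881 : Q := act 6 n20525
theorem D29881 : act 6 n20525 = n29881 := rfl
theorem F126787 : act 0 n29881 = n20559 := d5_1 D29881 (iv D20559) (iv F88543)
theorem F126788 : act 2 n29881 = n20539 := d20_1 D29881 (iv D20539) (iv F88544)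
theorem F126789 : act 4 n29881 = n29881 := d31_1 D29881 (iv D29881) F88545
theorem F126790 : act 5 n29881 = n29881 := d35_1 D29881 (iv D29881) F88546 F61982 (iv F88546)
theorem F126791 : act 7 n29881 = n21734 := d39_2 D20525 D29881 (iv D21734) (iv D14928) (iv F61978)
def n29882 : Q := act 8 n20525
theorem D29882 : act 8 n20525 = n29882 := rfl
theorem F126792 : act 0 n29882 = n20560 := d7_1 D29882 (iv D20560) (iv F88543)
theorem F126793 : act 2 n29882 = n20540 := d22_1 D29882 (iv D20540) (iv F88544)
theorem F126795 : act 5 n29882 = n20527 := d37_1 D29882 (iv D20527) (iv F88546)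
def n29884 : Q := act 9 n20526
theorem D29884 : act 9 n20526 = n29884 := rfl
def n29885 : Q := act 3 n20527
theorem D29885 : act 3 n20527 = n29885 := rfl
theorem F126805 : act 0 n29885 = n20563 := d2_1 D29885 (iv D20563) (iv F88552)
def n29886 : Q := act 9 n20527
theorem D29886 : act 9 n20527 = n29886 := rfl
def n29887 : Q := act 2 n20528
theorem D29887 : act 2 n20528 = n29887 := rfl
def n29889 : Q := act 9 n20528
theorem D29889 : act 9 n20528 = n29889 := rfl
theorem F126820 : act 3 n29889 = n20529 := d29_1 D29889 (iv D20529) D20528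
def n29892 : Q := act 9 n20530
theorem D29892 : act 9 n20530 = n29892 := rfl
theorem F126831 : act 2 n29892 = n20532 := d23_1 D29892 (iv D20532) D20530
def n29894 : Q := act 8 n20532
theorem D29894 : act 8 n20532 = n29894 := rfl
def n29901 : Q := act 8 n20539
theorem D29901 : act 8 n20539 = n29901 := rfl
theorem F126874 : act 0 n29901 = n20579 := d7_1 D29901 (iv D20579) (iv F88605)
theorem F126875 : act 1 n29901 = n29901 := d15_1 D29901 (iv D29901) F88606
theorem F126876 : act 4 n29901 = n29901 := d33_1 D29901 (iv D29901) F88607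
theorem F126877 : act 5 n29901 = n29901 := d37_1 D29901 (iv D29901) F88608
theorem F126878 : act 6 n29901 = n20540 := d40_1 D29901 (iv D20540) D20539
theorem F126879 : act 7 n29901 = n21745 := d42_1 D29901 (iv D21745) (iv F88609)
def n29902 : Q := act 3 n20540
theorem D29902 : act 3 n20540 = n29902 := rfl
theorem F126880 : act 0 n29902 = n20580 := d2_1 D29902 (iv D20580) (iv F88610)
theorem F126881 : act 1 n29902 = n29902 := d10_1 D29902 (iv D29902) F88611
theorem F126882 : act 5 n29902 = n20543 := d25_2 (iv F88613) D29902 (iv D20543)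
theorem F126883 : act 7 n29902 = n20541 := d27_2 (iv F88614) D29902 (iv D20541)
def n29903 : Q := act 9 n20540
theorem D29903 : act 9 n20540 = n29903 := rfl
def n29904 : Q := act 2 n20541
theorem D29904 : act 2 n20541 = n29904 := rfl
theorem F126889 : act 0 n29904 = n20582 := d1_1 D29904 (iv D20582) (iv F88615)
theorem F126890 : act 5 n29904 = n20545 := d19_2 (iv F88617) D29904 (iv D20545)
theorem F126891 : act 6 n29904 = n21748 := d20_2 (iv F88618) D29904 (iv D21748)
def n29905 : Q := act 4 n20541
theorem D29905 : act 4 n20541 = n29905 := rfl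
theorem F126892 : act 0 n29905 = n20583 := d3_1 D29905 (iv D20583) (iv F88615)
theorem F126893 : act 1 n29905 = n29905 := d11_1 D29905 (iv D29905) F88616
theorem F126894 : act 3 n29905 = n29905 := d24_1 D29905 (iv D29905) (iv D20541) F62031 D20541
theorem F126895 : act 5 n29905 = n29905 := d30_2 (iv F88617) D29905 (iv D29905) F88617 F62041
theorem F126896 : act 6 n29905 = n21749 := d31_2 (iv F88618) D29905 (iv D21749)
def n29907 : Q := act 2 n20543
theorem D29907 : act 2 n20543 = n29907 := rfl
theorem F126902 : act 0 n29907 = n20585 := d1_1 D29907 (iv D20585) (iv F88624)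
theorem F126903 : act 4 n29907 = n29907 := d18_2 F88626 D29907 (iv D29907)
theorem F126904 : act 6 n29907 = n29907 := d20_2 F88627 D29907 (iv D29907)
theorem F126905 : act 7 n29907 = n20545 := d21_2 (iv F88628) D29907 (iv D20545)
def n29908 : Q := act 9 n20543
theorem D29908 : act 9 n20543 = n29908 := rfl
theorem F126906 : act 0 n29908 = n20586 := d8_1 D29908 (iv D20586) (iv F88624)
theorem F126908 : act 3 n29908 = n20544 := d29_1 D29908 (iv D20544) D20543
def n29909 : Q := act 1 n20545
theorem D29909 : act 1 n20545 = n29909 := rfl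
theorem F126912 : act 2 n29909 = n29909 := d9_2 D20545 D29909 (iv D29909) (iv D20545) F62040
theorem F126913 : act 4 n29909 = n29909 := d11_2 F88635 D29909 (iv D29909)
theorem F126914 : act 6 n29909 = n20547 := d13_2 (iv F88636) D29909 (iv D20547)
def n29912 : Q := act 0 n20547
theorem D29912 : act 0 n20547 = n29912 := rfl
theorem F126923 : act 1 n29912 = n20590 := d0_2 D20547 D29912 (iv D20590) (iv D14159) (iv F62047)
theorem F126924 : act 2 n29912 = n29912 := d1_2 F88642 D29912 (iv D29912)
theorem F126925 : act 4 n29912 = n29912 := d3_2 F88643 D29912 (iv D29912)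
theorem F126926 : act 5 n29912 = n21756 := d4_2 (iv F88644) D29912 (iv D21756)
theorem F126927 : act 7 n29912 = n29912 := d6_2 F88645 D29912 (iv D29912)
def n29914 : Q := act 8 n20548
theorem D29914 : act 8 n20548 = n29914 := rfl
theorem F126933 : act 0 n29914 = n20592 := d7_1 D29914 (iv D20592) (iv F88646)
def n29915 : Q := act 7 n20550
theorem D29915 : act 7 n20550 = n29915 := rfl
theorem F126938 : act 1 n29915 = n29915 := d14_1 D29915 (iv D29915) F88656
theorem F126939 : act 3 n29915 = n29915 := d27_1 D29915 (iv D29915) F88657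
theorem F126940 : act 4 n29915 = n20551 := d32_1 D29915 (iv D20551) D20550
theorem F126941 : act 5 n29915 = n29915 := d36_1 D29915 (iv D29915) F88658
def n29916 : Q := act 8 n20550
theorem D29916 : act 8 n20550 = n29916 := rfl
theorem F126942 : act 1 n29916 = n29916 := d15_1 D29916 (iv D29916) F88656
theorem F126943 : act 4 n29916 = n20552 := d33_1 D29916 (iv D20552) D20550
theorem F126944 : act 5 n29916 = n29916 := d37_1 D29916 (iv D29916) F88658
theorem F126945 : act 6 n29916 = n21760 := d40_1 D29916 (iv D21760) (iv F88659)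
def n29917 : Q := act 6 n20551
theorem D29917 : act 6 n20551 = n29917 := rfl
theorem F126946 : act 1 n29917 = n29917 := d13_1 D29917 (iv D29917) F88660
theorem F126947 : act 3 n29917 = n20559 := d26_1 D29917 (iv D20559) (iv F88661)
theorem F126948 : act 5 n29917 = n29917 := d35_1 D29917 (iv D29917) F88662 F62069 (iv F88662)
theorem F126949 : act 7 n29917 = n21761 := d39_2 D20551 D29917 (iv D21761) (iv D14948) (iv F62065)
def n29918 : Q := act 8 n20551
theorem D29918 : act 8 n20551 = n29918 := rfl
theorem F126950 : act 1 n29918 = n29918 := d15_1 D29918 (iv D29918) F88660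
theorem F126951 : act 5 n29918 = n20553 := d37_1 D29918 (iv D20553) (iv F88662)
theorem F126952 : act 7 n29918 = n20552 := d42_1 D29918 (iv D20552) D20551
def n29919 : Q := act 3 n20552
theorem D29919 : act 3 n20552 = n29919 := rfl
theorem F126953 : act 1 n29919 = n29919 := d10_1 D29919 (iv D29919) F88663
theorem F126954 : act 5 n29919 = n20554 := d25_2 (iv F88664) D29919 (iv D20554)
theorem F126955 : act 6 n29919 = n21763 := d26_2 (iv F88665) D29919 (iv D21763)
theorem F126956 : act 8 n29919 = n20561 := d28_2 D20552 D29919 (iv D20561) (iv D14138) (iv F62064)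
def n29920 : Q := act 9 n20552
theorem D29920 : act 9 n20552 = n29920 := rfl
theorem F126957 : act 1 n29920 = n29920 := d16_1 D29920 (iv D29920) F88663
theorem F126958 : act 5 n29920 = n20555 := d38_1 D29920 (iv D20555) (iv F88664)
theorem F126959 : act 6 n29920 = n21764 := d41_1 D29920 (iv D21764) (iv F88665)
def n29921 : Q := act 3 n20553
theorem D29921 : act 3 n20553 = n29921 := rfl
theorem F126960 : act 1 n29921 = n29921 := d10_1 D29921 (iv D29921) F88666
theorem F126961 : act 6 n29921 = n29921 := d26_2 F88668 D29921 (iv D29921)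
theorem F126962 : act 7 n29921 = n20554 := d27_2 (iv F88669) D29921 (iv D20554)
theorem F126963 : act 8 n29921 = n20563 := d28_2 D20553 D29921 (iv D20563) (iv D14139) (iv F62067)
def n29922 : Q := act 9 n20553
theorem D29922 : act 9 n20553 = n29922 := rfl
theorem F126964 : act 1 n29922 = n29922 := d16_1 D29922 (iv D29922) F88666
theorem F126965 : act 4 n29922 = n29922 := d34_1 D29922 (iv D29922) F88667
theorem F126966 : act 6 n29922 = n29922 := d41_1 D29922 (iv D29922) F88668
theorem F126967 : act 7 n29922 = n20555 := d43_1 D29922 (iv D20555) (iv F88669)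
def n29923 : Q := act 2 n20554
theorem D29923 : act 2 n20554 = n29923 := rfl
theorem F126968 : act 6 n29923 = n20556 := d20_2 (iv F88671) D29923 (iv D20556)
theorem F126969 : act 8 n29923 = n20565 := d22_2 (iv F88672) D29923 (iv D20565)
def n29924 : Q := act 4 n20554
theorem D29924 : act 4 n20554 = n29924 := rfl
def n29925 : Q := act 9 n20554
theorem D29925 : act 9 n20554 = n29925 := rfl
theorem F126974 : act 1 n29925 = n29925 := d16_1 D29925 (iv D29925) F88670
theorem F126975 : act 3 n29925 = n20555 := d29_1 D29925 (iv D20555) D20554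
theorem F126976 : act 6 n29925 = n20558 := d41_1 D29925 (iv D20558) (iv F88671)
def n29926 : Q := act 1 n20556
theorem D29926 : act 1 n20556 = n29926 := rfl
theorem F126977 : act 2 n29926 = n29926 := d9_2 D20556 D29926 (iv D29926) (iv D20556) F62073
theorem F126978 : act 5 n29926 = n21769 := d12_2 (iv F88676) D29926 (iv D21769)
theorem F126979 : act 7 n29926 = n29926 := d14_2 F88677 D29926 (iv D29926)
theorem F126980 : act 8 n29926 = n20568 := d15_2 (iv F88678) D29926 (iv D20568)
def n29927 : Q := act 4 n20556
theorem D29927 : act 4 n20556 = n29927 := rfl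
def n29928 : Q := act 9 n20556
theorem D29928 : act 9 n20556 = n29928 := rfl
theorem F126985 : act 2 n29928 = n20558 := d23_1 D29928 (iv D20558) D20556
theorem F126986 : act 5 n29928 = n21770 := d38_1 D29928 (iv D21770) (iv F88676)
theorem F126987 : act 7 n29928 = n29928 := d43_1 D29928 (iv D29928) F88677
def n29929 : Q := act 9 n20557
theorem D29929 : act 9 n20557 = n29929 := rfl
theorem F126990 : act 4 n29929 = n20558 := d34_1 D29929 (iv D20558) D20557
def n29930 : Q := act 8 n20558
theorem D29930 : act 8 n20558 = n29930 := rfl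
theorem F126996 : act 9 n29930 = n20572 := d44_2 D20558 D29930 (iv D20572) (iv D14144) (iv F62076)
def n29931 : Q := act 8 n20559
theorem D29931 : act 8 n20559 = n29931 := rfl
theorem F126997 : act 1 n29931 = n29931 := d15_1 D29931 (iv D29931) F88688
theorem F126998 : act 2 n29931 = n20579 := d22_1 D29931 (iv D20579) (iv F88689)
theorem F126999 : act 4 n29931 = n29931 := d33_1 D29931 (iv D29931) F88690
theorem F127000 : act 5 n29931 = n29931 := d37_1 D29931 (iv D29931) F88691
theorem F127001 : act 6 n29931 = n20560 := d40_1 D29931 (iv D20560) D20559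
theorem F127002 : act 7 n29931 = n21772 := d42_1 D29931 (iv D21772) (iv F88692)
def n29932 : Q := act 3 n20560
theorem D29932 : act 3 n20560 = n29932 := rfl
theorem F127003 : act 1 n29932 = n29932 := d10_1 D29932 (iv D29932) F88693
theorem F127004 : act 5 n29932 = n20563 := d25_2 (iv F88696) D29932 (iv D20563)
theorem F127005 : act 7 n29932 = n20561 := d27_2 (iv F88697) D29932 (iv D20561)
def n29933 : Q := act 9 n20560
theorem D29933 : act 9 n20560 = n29933 := rfl
def n29934 : Q := act 2 n20561
theorem D29934 : act 2 n20561 = n29934 := rfl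
theorem F127011 : act 3 n29934 = n20582 := d17_2 D20561 D29934 (iv D20582) (iv D14153) (iv F62086)
theorem F127012 : act 5 n29934 = n20565 := d19_2 (iv F88699) D29934 (iv D20565)
theorem F127013 : act 6 n29934 = n21775 := d20_2 (iv F88700) D29934 (iv D21775)
def n29935 : Q := act 4 n20561
theorem D29935 : act 4 n20561 = n29935 := rfl
theorem F127014 : act 1 n29935 = n29935 := d11_1 D29935 (iv D29935) F88698
theorem F127015 : act 3 n29935 = n29935 := d24_1 D29935 (iv D29935) (iv D20561) F62087 D20561
theorem F127016 : act 6 n29935 = n21776 := d31_2 (iv F88700) D29935 (iv D21776)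
def n29936 : Q := act 9 n20561
theorem D29936 : act 9 n20561 = n29936 := rfl
theorem F127019 : act 5 n29936 = n20567 := d38_1 D29936 (iv D20567) (iv F88699)
theorem F127020 : act 6 n29936 = n21777 := d41_1 D29936 (iv D21777) (iv F88700)
def n29937 : Q := act 2 n20563
theorem D29937 : act 2 n20563 = n29937 := rfl
theorem F127021 : act 3 n29937 = n20585 := d17_2 D20563 D29937 (iv D20585) (iv D14155) (iv F62091)
theorem F127022 : act 6 n29937 = n29937 := d20_2 F88707 D29937 (iv D29937)
theorem F127023 : act 7 n29937 = n20565 := d21_2 (iv F88708) D29937 (iv D20565)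
def n29938 : Q := act 4 n20563
theorem D29938 : act 4 n20563 = n29938 := rfl
def n29939 : Q := act 9 n20563
theorem D29939 : act 9 n20563 = n29939 := rfl
theorem F127029 : act 3 n29939 = n20564 := d29_1 D29939 (iv D20564) D20563
def n29940 : Q := act 1 n20565
theorem D29940 : act 1 n20565 = n29940 := rfl
theorem F127032 : act 2 n29940 = n29940 := d9_2 D20565 D29940 (iv D29940) (iv D20565) F62095
theorem F127033 : act 3 n29940 = n20587 := d10_2 (iv F88714) D29940 (iv D20587)
theorem F127034 : act 6 n29940 = n20568 := d13_2 (iv F88715) D29940 (iv D20568)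
def n29941 : Q := act 4 n20565
theorem D29941 : act 4 n20565 = n29941 := rfl
theorem F127035 : act 2 n29941 = n20566 := d18_1 D29941 (iv D20566) D20565
def n29942 : Q := act 9 n20565
theorem D29942 : act 9 n20565 = n29942 := rfl
theorem F127038 : act 2 n29942 = n20567 := d23_1 D29942 (iv D20567) D20565
theorem F127039 : act 3 n29942 = n20588 := d29_1 D29942 (iv D20588) (iv F88714)
def n29943 : Q := act 5 n20566
theorem D29943 : act 5 n20566 = n29943 := rfl
def n29944 : Q := act 9 n20566
theorem D29944 : act 9 n20566 = n29944 := rfl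
theorem F127047 : act 6 n29944 = n20571 := d41_1 D29944 (iv D20571) (iv F88718)
def n29945 : Q := act 8 n20567
theorem D29945 : act 8 n20567 = n29945 := rfl
def n29946 : Q := act 0 n20568
theorem D29946 : act 0 n20568 = n29946 := rfl
theorem F127050 : act 2 n29946 = n29946 := d1_2 F88722 D29946 (iv D29946)
theorem F127051 : act 3 n29946 = n20590 := d2_2 (iv F88723) D29946 (iv D20590)
theorem F127052 : act 5 n29946 = n21783 := d4_2 (iv F88724) D29946 (iv D21783)
theorem F127053 : act 7 n29946 = n29946 := d6_2 F88725 D29946 (iv D29946)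
def n29947 : Q := act 4 n20568
theorem D29947 : act 4 n20568 = n29947 := rfl
def n29948 : Q := act 9 n20568
theorem D29948 : act 9 n20568 = n29948 := rfl
theorem F127059 : act 1 n29948 = n20570 := d16_1 D29948 (iv D20570) D20568
def n29949 : Q := act 9 n20569
theorem D29949 : act 9 n20569 = n29949 := rfl
theorem F127066 : act 4 n29949 = n20570 := d34_1 D29949 (iv D20570) D20569
def n29950 : Q := act 8 n20570
theorem D29950 : act 8 n20570 = n29950 := rfl
theorem F127069 : act 2 n29950 = n20572 := d22_1 D29950 (iv D20572) (iv F88730)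
def n29951 : Q := act 8 n20571
theorem D29951 : act 8 n20571 = n29951 := rfl
theorem F127073 : act 4 n29951 = n20572 := d33_1 D29951 (iv D20572) (iv F88736)
def n29958 : Q := act 3 n20579
theorem D29958 : act 3 n20579 = n29958 := rfl
theorem F127106 : act 1 n29958 = n20593 := d10_1 D29958 (iv D20593) (iv F88773)
theorem F127107 : act 5 n29958 = n29958 := d25_2 F88775 D29958 (iv D29958)
theorem F127108 : act 6 n29958 = n20580 := d26_2 (iv F88776) D29958 (iv D20580)
theorem F127109 : act 7 n29958 = n21786 := d27_2 (iv F88777) D29958 (iv D21786)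
def n29959 : Q := act 9 n20579
theorem D29959 : act 9 n20579 = n29959 := rfl
theorem F127110 : act 1 n29959 = n20594 := d16_1 D29959 (iv D20594) (iv F88773)
theorem F127111 : act 4 n29959 = n29959 := d34_1 D29959 (iv D29959) F88774
theorem F127112 : act 5 n29959 = n29959 := d38_1 D29959 (iv D29959) F88775
theorem F127113 : act 6 n29959 = n20581 := d41_1 D29959 (iv D20581) (iv F88776)
theorem F127114 : act 7 n29959 = n21787 := d43_1 D29959 (iv D21787) (iv F88777)
def n29960 : Q := act 2 n20580
theorem D29960 : act 2 n20580 = n29960 := rfl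
theorem F127115 : act 5 n29960 = n20585 := d19_2 (iv F88779) D29960 (iv D20585)
theorem F127116 : act 7 n29960 = n20582 := d21_2 (iv F88780) D29960 (iv D20582)
def n29961 : Q := act 4 n20580
theorem D29961 : act 4 n20580 = n29961 := rfl
theorem F127117 : act 1 n29961 = n20596 := d11_1 D29961 (iv D20596) (iv F88778)
theorem F127118 : act 3 n29961 = n29961 := d24_1 D29961 (iv D29961) (iv D20580) F62147 D20580
theorem F127119 : act 5 n29961 = n29961 := d30_2 (iv F88779) D29961 (iv D29961) F88779 F62158
theorem F127120 : act 7 n29961 = n20583 := d32_2 (iv F88780) D29961 (iv D20583)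
def n29962 : Q := act 9 n20580
theorem D29962 : act 9 n20580 = n29962 := rfl
theorem F127121 : act 1 n29962 = n20597 := d16_1 D29962 (iv D20597) (iv F88778)
theorem F127122 : act 3 n29962 = n20581 := d29_1 D29962 (iv D20581) D20580
theorem F127123 : act 5 n29962 = n20586 := d38_1 D29962 (iv D20586) (iv F88779)
theorem F127124 : act 7 n29962 = n20584 := d43_1 D29962 (iv D20584) (iv F88780)
def n29963 : Q := act 1 n20582
theorem D29963 : act 1 n20582 = n29963 := rfl
theorem F127125 : act 2 n29963 = n20598 := d9_2 D20582 D29963 (iv D20598) (iv D14165) (iv F62150)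
theorem F127126 : act 5 n29963 = n20587 := d12_2 (iv F88785) D29963 (iv D20587)
theorem F127127 : act 6 n29963 = n21791 := d13_2 (iv F88786) D29963 (iv D21791)
def n29964 : Q := act 4 n20582
theorem D29964 : act 4 n20582 = n29964 := rfl
theorem F127128 : act 2 n29964 = n20583 := d18_1 D29964 (iv D20583) D20582
theorem F127129 : act 5 n29964 = n29964 := d30_2 (iv F88785) D29964 (iv D29964) F88785 F62165
theorem F127130 : act 6 n29964 = n21792 := d31_2 (iv F88786) D29964 (iv D21792)
def n29965 : Q := act 9 n20582
theorem D29965 : act 9 n20582 = n29965 := rfl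
theorem F127131 : act 2 n29965 = n20584 := d23_1 D29965 (iv D20584) D20582
theorem F127132 : act 5 n29965 = n20588 := d38_1 D29965 (iv D20588) (iv F88785)
theorem F127133 : act 6 n29965 = n21793 := d41_1 D29965 (iv D21793) (iv F88786)
def n29966 : Q := act 9 n20583
theorem D29966 : act 9 n20583 = n29966 := rfl
theorem F127134 : act 1 n29966 = n20601 := d16_1 D29966 (iv D20601) (iv F88787)
theorem F127135 : act 3 n29966 = n29966 := d29_1 D29966 (iv D29966) F88788
theorem F127136 : act 4 n29966 = n20584 := d34_1 D29966 (iv D20584) D20583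
theorem F127137 : act 5 n29966 = n29966 := d38_1 D29966 (iv D29966) F88789
theorem F127138 : act 6 n29966 = n21794 := d41_1 D29966 (iv D21794) (iv F88790)
def n29967 : Q := act 8 n20584
theorem D29967 : act 8 n20584 = n29967 := rfl
theorem F127139 : act 1 n29967 = n20602 := d15_1 D29967 (iv D20602) (iv F88791)
theorem F127140 : act 5 n29967 = n20589 := d37_1 D29967 (iv D20589) (iv F88793)
theorem F127141 : act 6 n29967 = n21795 := d40_1 D29967 (iv D21795) (iv F88794)
def n29968 : Q := act 1 n20585
theorem D29968 : act 1 n20585 = n29968 := rfl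
theorem F127142 : act 2 n29968 = n20603 := d9_2 D20585 D29968 (iv D20603) (iv D14168) (iv F62157)
theorem F127143 : act 4 n29968 = n29968 := d11_2 F88795 D29968 (iv D29968)
theorem F127144 : act 6 n29968 = n29968 := d13_2 F88796 D29968 (iv D29968)
theorem F127145 : act 7 n29968 = n20587 := d14_2 (iv F88797) D29968 (iv D20587)
def n29969 : Q := act 9 n20585
theorem D29969 : act 9 n20585 = n29969 := rfl
theorem F127146 : act 2 n29969 = n20586 := d23_1 D29969 (iv D20586) D20585
theorem F127147 : act 4 n29969 = n29969 := d34_1 D29969 (iv D29969) F88795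
theorem F127148 : act 6 n29969 = n29969 := d41_1 D29969 (iv D29969) F88796
theorem F127149 : act 7 n29969 = n20588 := d43_1 D29969 (iv D20588) (iv F88797)
def n29970 : Q := act 8 n20586
theorem D29970 : act 8 n20586 = n29970 := rfl
theorem F127150 : act 1 n29970 = n20605 := d15_1 D29970 (iv D20605) (iv F88798)
theorem F127151 : act 4 n29970 = n29970 := d33_1 D29970 (iv D29970) F88800
theorem F127152 : act 6 n29970 = n29970 := d40_1 D29970 (iv D29970) F88801
theorem F127153 : act 7 n29970 = n20589 := d42_1 D29970 (iv D20589) (iv F88802)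
def n29971 : Q := act 0 n20587
theorem D29971 : act 0 n20587 = n29971 := rfl
theorem F127154 : act 2 n29971 = n20606 := d1_2 (iv F88803) D29971 (iv D20606)
theorem F127155 : act 4 n29971 = n29971 := d3_2 F88804 D29971 (iv D29971)
theorem F127156 : act 6 n29971 = n20590 := d5_2 (iv F88805) D29971 (iv D20590)
def n29972 : Q := act 9 n20587
theorem D29972 : act 9 n20587 = n29972 := rfl
theorem F127157 : act 1 n29972 = n20588 := d16_1 D29972 (iv D20588) D20587
theorem F127158 : act 2 n29972 = n20607 := d23_1 D29972 (iv D20607) (iv F88803)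
theorem F127159 : act 4 n29972 = n29972 := d34_1 D29972 (iv D29972) F88804
theorem F127160 : act 6 n29972 = n20591 := d41_1 D29972 (iv D20591) (iv F88805)
def n29973 : Q := act 8 n20588
theorem D29973 : act 8 n20588 = n29973 := rfl
theorem F127161 : act 2 n29973 = n20589 := d22_1 D29973 (iv D20589) (iv F88806)
theorem F127162 : act 4 n29973 = n29973 := d33_1 D29973 (iv D29973) F88807
theorem F127163 : act 6 n29973 = n20592 := d40_1 D29973 (iv D20592) (iv F88808)
def n29974 : Q := act 9 n20590
theorem D29974 : act 9 n20590 = n29974 := rfl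
theorem F127164 : act 0 n29974 = n20591 := d8_1 D29974 (iv D20591) D20590
theorem F127165 : act 2 n29974 = n20609 := d23_1 D29974 (iv D20609) (iv F88812)
theorem F127166 : act 4 n29974 = n29974 := d34_1 D29974 (iv D29974) F88813
theorem F127167 : act 5 n29974 = n21802 := d38_1 D29974 (iv D21802) (iv F88814)
theorem F127168 : act 7 n29974 = n29974 := d43_1 D29974 (iv D29974) F88815
def n29975 : Q := act 8 n20591
theorem D29975 : act 8 n20591 = n29975 := rfl
theorem F127169 : act 1 n29975 = n20592 := d15_1 D29975 (iv D20592) (iv F88816)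
theorem F127170 : act 2 n29975 = n20610 := d22_1 D29975 (iv D20610) (iv F88817)
theorem F127171 : act 4 n29975 = n29975 := d33_1 D29975 (iv D29975) F88818
theorem F127172 : act 5 n29975 = n21803 := d37_1 D29975 (iv D21803) (iv F88819)
theorem F127173 : act 7 n29975 = n29975 := d42_1 D29975 (iv D29975) F88820
def n29976 : Q := act 3 n20592
theorem D29976 : act 3 n20592 = n29976 := rfl
theorem F127174 : act 5 n29976 = n21804 := d25_2 (iv F88823) D29976 (iv D21804)
theorem F127175 : act 7 n29976 = n29976 := d27_2 F88824 D29976 (iv D29976)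
def n29977 : Q := act 2 n20593
theorem D29977 : act 2 n20593 = n29977 := rfl
theorem F127176 : act 0 n29977 = n29977 := d1_1 D29977 (iv D29977) F88825
theorem F127177 : act 3 n29977 = n29977 := d17_2 D20593 D29977 (iv D29977) (iv D20593) F62184
theorem F127178 : act 5 n29977 = n29977 := d19_2 F88826 D29977 (iv D29977)
theorem F127179 : act 6 n29977 = n20595 := d20_2 (iv F88827) D29977 (iv D20595)
theorem F127180 : act 7 n29977 = n21805 := d21_2 (iv F88828) D29977 (iv D21805)
def n29978 : Q := act 4 n20593
theorem D29978 : act 4 n20593 = n29978 := rfl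
theorem F127181 : act 0 n29978 = n29978 := d3_1 D29978 (iv D29978) F88825
theorem F127182 : act 3 n29978 = n29978 := d24_1 D29978 (iv D29978) (iv D20593) F62185 D20593
theorem F127183 : act 6 n29978 = n20596 := d31_2 (iv F88827) D29978 (iv D20596)
theorem F127184 : act 7 n29978 = n21806 := d32_2 (iv F88828) D29978 (iv D21806)
def n29979 : Q := act 9 n20593
theorem D29979 : act 9 n20593 = n29979 := rfl
theorem F127185 : act 0 n29979 = n29979 := d8_1 D29979 (iv D29979) F88825
theorem F127186 : act 3 n29979 = n20594 := d29_1 D29979 (iv D20594) D20593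
theorem F127187 : act 5 n29979 = n29979 := d38_1 D29979 (iv D29979) F88826
theorem F127188 : act 6 n29979 = n20597 := d41_1 D29979 (iv D20597) (iv F88827)
def n29980 : Q := act 1 n20595
theorem D29980 : act 1 n20595 = n29980 := rfl
theorem F127190 : act 3 n29980 = n29980 := d10_2 F88836 D29980 (iv D29980)
theorem F127191 : act 5 n29980 = n20603 := d12_2 (iv F88837) D29980 (iv D20603)
theorem F127192 : act 7 n29980 = n20598 := d14_2 (iv F88838) D29980 (iv D20598)
def n29981 : Q := act 4 n20595
theorem D29981 : act 4 n20595 = n29981 := rfl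
theorem F127194 : act 2 n29981 = n20596 := d18_1 D29981 (iv D20596) D20595
theorem F127196 : act 7 n29981 = n20599 := d32_2 (iv F88838) D29981 (iv D20599)
def n29982 : Q := act 9 n20595
theorem D29982 : act 9 n20595 = n29982 := rfl
theorem F127198 : act 2 n29982 = n20597 := d23_1 D29982 (iv D20597) D20595
theorem F127200 : act 5 n29982 = n20604 := d38_1 D29982 (iv D20604) (iv F88837)
theorem F127201 : act 7 n29982 = n20600 := d43_1 D29982 (iv D20600) (iv F88838)
def n29983 : Q := act 9 n20596
theorem D29983 : act 9 n20596 = n29983 := rfl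
theorem F127204 : act 4 n29983 = n20597 := d34_1 D29983 (iv D20597) D20596
theorem F127206 : act 7 n29983 = n20601 := d43_1 D29983 (iv D20601) (iv F88842)
def n29984 : Q := act 8 n20597
theorem D29984 : act 8 n20597 = n29984 := rfl
theorem F127207 : act 0 n29984 = n29984 := d7_1 D29984 (iv D29984) F88843
theorem F127208 : act 5 n29984 = n20605 := d37_1 D29984 (iv D20605) (iv F88845)
theorem F127209 : act 7 n29984 = n20602 := d42_1 D29984 (iv D20602) (iv F88846)
def n29985 : Q := act 0 n20598
theorem D29985 : act 0 n20598 = n29985 := rfl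
theorem F127210 : act 1 n29985 = n29985 := d0_2 D20598 D29985 (iv D29985) (iv D20598) F62197
theorem F127211 : act 3 n29985 = n29985 := d2_2 F88847 D29985 (iv D29985)
theorem F127212 : act 5 n29985 = n20606 := d4_2 (iv F88848) D29985 (iv D20606)
theorem F127213 : act 6 n29985 = n21813 := d5_2 (iv F88849) D29985 (iv D21813)
def n29986 : Q := act 4 n20598
theorem D29986 : act 4 n20598 = n29986 := rfl
theorem F127214 : act 1 n29986 = n20599 := d11_1 D29986 (iv D20599) D20598
theorem F127215 : act 5 n29986 = n29986 := d30_2 (iv F88848) D29986 (iv D29986) F88848 F62220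
theorem F127216 : act 6 n29986 = n21814 := d31_2 (iv F88849) D29986 (iv D21814)
def n29987 : Q := act 9 n20598
theorem D29987 : act 9 n20598 = n29987 := rfl
theorem F127217 : act 1 n29987 = n20600 := d16_1 D29987 (iv D20600) D20598
theorem F127218 : act 3 n29987 = n29987 := d29_1 D29987 (iv D29987) F88847
theorem F127219 : act 5 n29987 = n20607 := d38_1 D29987 (iv D20607) (iv F88848)
def n29988 : Q := act 3 n20599
theorem D29988 : act 3 n20599 = n29988 := rfl
theorem F127225 : act 6 n29988 = n21816 := d26_2 (iv F88853) D29988 (iv D21816)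
def n29989 : Q := act 9 n20599
theorem D29989 : act 9 n20599 = n29989 := rfl
theorem F127227 : act 2 n29989 = n20601 := d23_1 D29989 (iv D20601) (iv F88851)
theorem F127228 : act 4 n29989 = n20600 := d34_1 D29989 (iv D20600) D20599
theorem F127230 : act 6 n29989 = n21817 := d41_1 D29989 (iv D21817) (iv F88853)
def n29990 : Q := act 8 n20600
theorem D29990 : act 8 n20600 = n29990 := rfl
theorem F127231 : act 0 n29990 = n29990 := d7_1 D29990 (iv D29990) F88854
theorem F127232 : act 2 n29990 = n20602 := d22_1 D29990 (iv D20602) (iv F88855)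
theorem F127233 : act 5 n29990 = n20608 := d37_1 D29990 (iv D20608) (iv F88857)
theorem F127234 : act 6 n29990 = n21818 := d40_1 D29990 (iv D21818) (iv F88858)
def n29991 : Q := act 8 n20601
theorem D29991 : act 8 n20601 = n29991 := rfl
theorem F127235 : act 0 n29991 = n29991 := d7_1 D29991 (iv D29991) F88859
theorem F127236 : act 4 n29991 = n20602 := d33_1 D29991 (iv D20602) (iv F88861)
theorem F127237 : act 5 n29991 = n29991 := d37_1 D29991 (iv D29991) F88862
theorem F127238 : act 6 n29991 = n21819 := d40_1 D29991 (iv D21819) (iv F88863)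
def n29992 : Q := act 0 n20603
theorem D29992 : act 0 n20603 = n29992 := rfl
theorem F127239 : act 1 n29992 = n29992 := d0_2 D20603 D29992 (iv D29992) (iv D20603) F62209
theorem F127240 : act 3 n29992 = n29992 := d2_2 F88867 D29992 (iv D29992)
theorem F127241 : act 4 n29992 = n29992 := d3_2 F88868 D29992 (iv D29992)
theorem F127242 : act 6 n29992 = n29992 := d5_2 F88869 D29992 (iv D29992)
theorem F127243 : act 7 n29992 = n20606 := d6_2 (iv F88870) D29992 (iv D20606)
def n29993 : Q := act 9 n20603
theorem D29993 : act 9 n20603 = n29993 := rfl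
theorem F127244 : act 1 n29993 = n20604 := d16_1 D29993 (iv D20604) D20603
theorem F127245 : act 3 n29993 = n29993 := d29_1 D29993 (iv D29993) F88867
theorem F127246 : act 4 n29993 = n29993 := d34_1 D29993 (iv D29993) F88868
theorem F127247 : act 6 n29993 = n29993 := d41_1 D29993 (iv D29993) F88869
theorem F127248 : act 7 n29993 = n20607 := d43_1 D29993 (iv D20607) (iv F88870)
def n29994 : Q := act 8 n20604
theorem D29994 : act 8 n20604 = n29994 := rfl
theorem F127249 : act 0 n29994 = n29994 := d7_1 D29994 (iv D29994) F88871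
theorem F127250 : act 2 n29994 = n20605 := d22_1 D29994 (iv D20605) (iv F88872)
theorem F127251 : act 4 n29994 = n29994 := d33_1 D29994 (iv D29994) F88874
theorem F127252 : act 6 n29994 = n29994 := d40_1 D29994 (iv D29994) F88875
theorem F127253 : act 7 n29994 = n20608 := d42_1 D29994 (iv D20608) (iv F88876)
def n29995 : Q := act 9 n20606
theorem D29995 : act 9 n20606 = n29995 := rfl
theorem F127254 : act 0 n29995 = n20607 := d8_1 D29995 (iv D20607) D20606
theorem F127255 : act 1 n29995 = n29995 := d16_1 D29995 (iv D29995) F88881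
theorem F127256 : act 3 n29995 = n29995 := d29_1 D29995 (iv D29995) F88882
theorem F127257 : act 4 n29995 = n29995 := d34_1 D29995 (iv D29995) F88883
theorem F127258 : act 6 n29995 = n20609 := d41_1 D29995 (iv D20609) (iv F88884)
def n29996 : Q := act 8 n20607
theorem D29996 : act 8 n20607 = n29996 := rfl
theorem F127259 : act 1 n29996 = n20608 := d15_1 D29996 (iv D20608) (iv F88885)
theorem F127260 : act 4 n29996 = n29996 := d33_1 D29996 (iv D29996) F88887
theorem F127261 : act 6 n29996 = n20610 := d40_1 D29996 (iv D20610) (iv F88888)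
def n29997 : Q := act 3 n20608
theorem D29997 : act 3 n20608 = n29997 := rfl
theorem F127262 : act 0 n29997 = n29997 := d2_1 D29997 (iv D29997) F88889
theorem F127263 : act 6 n29997 = n20611 := d26_2 (iv F88892) D29997 (iv D20611)
theorem F127264 : act 8 n29997 = n29997 := d28_2 D20608 D29997 (iv D29997) (iv D20608) F62224
def n29998 : Q := act 8 n20609
theorem D29998 : act 8 n20609 = n29998 := rfl
theorem F127265 : act 0 n29998 = n20610 := d7_1 D29998 (iv D20610) (iv F88893)
theorem F127266 : act 1 n29998 = n29998 := d15_1 D29998 (iv D29998) F88894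
theorem F127267 : act 4 n29998 = n29998 := d33_1 D29998 (iv D29998) F88896
theorem F127268 : act 5 n29998 = n21826 := d37_1 D29998 (iv D21826) (iv F88897)
theorem F127269 : act 7 n29998 = n29998 := d42_1 D29998 (iv D29998) F88898
def n29999 : Q := act 3 n20610
theorem D29999 : act 3 n20610 = n29999 := rfl
theorem F127270 : act 1 n29999 = n20611 := d10_1 D29999 (iv D20611) (iv F88899)
theorem F127271 : act 5 n29999 = n21827 := d25_2 (iv F88901) D29999 (iv D21827)
theorem F127272 : act 7 n29999 = n29999 := d27_2 F88902 D29999 (iv D29999)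
theorem F127273 : act 8 n29999 = n29999 := d28_2 D20610 D29999 (iv D29999) (iv D20610) F62236
def n30000 : Q := act 4 n20611
theorem D30000 : act 4 n20611 = n30000 := rfl
theorem F127274 : act 0 n30000 = n30000 := d3_1 D30000 (iv D30000) F88903
theorem F127275 : act 3 n30000 = n30000 := d24_1 D30000 (iv D30000) (iv D20611) F62242 D20611
theorem F127276 : act 7 n30000 = n30000 := d32_2 F88905 D30000 (iv D30000)
theorem F127277 : act 8 n30000 = n30000 := d33_2 F88906 D30000 (iv D30000)
def n30005 : Q := act 6 n20614
theorem D30005 : act 6 n20614 = n30005 := rfl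
theorem F127305 : act 1 n30005 = n22329 := d13_1 D30005 (iv D22329) (iv F88921)
def n30012 : Q := act 7 n20619
theorem D30012 : act 7 n20619 = n30012 := rfl
def n30013 : Q := act 3 n20620
theorem D30013 : act 3 n20620 = n30013 := rfl
def n30014 : Q := act 5 n20620
theorem D30014 : act 5 n20620 = n30014 := rfl
theorem F127357 : act 0 n30014 = n20622 := d4_1 D30014 (iv D20622) (iv F88957)
theorem F127362 : act 8 n30014 = n20628 := d37_2 (iv F88962) D30014 (iv D20628)
def n30016 : Q := act 5 n20621
theorem D30016 : act 5 n20621 = n30016 := rfl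
theorem F127370 : act 3 n30016 = n20622 := d25_1 D30016 (iv D20622) D20621
def n30017 : Q := act 8 n20621
theorem D30017 : act 8 n20621 = n30017 := rfl
theorem F127374 : act 3 n30017 = n20631 := d28_1 D30017 (iv D20631) (iv D14187) (iv F62289) D20621
def n30018 : Q := act 6 n20622
theorem D30018 : act 6 n20622 = n30018 := rfl
theorem F127381 : act 5 n30018 = n20666 := d35_1 D30018 (iv D20666) (iv D14211) (iv F62287) D20622
theorem F127382 : act 8 n30018 = n20632 := d40_2 (iv F88973) D30018 (iv D20632)
def n30023 : Q := act 7 n20625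
theorem D30023 : act 7 n20625 = n30023 := rfl
theorem F127408 : act 8 n30023 = n20637 := d42_2 (iv F88988) D30023 (iv D20637)
def n30025 : Q := act 5 n20627
theorem D30025 : act 5 n20627 = n30025 := rfl
theorem F127415 : act 0 n30025 = n20630 := d4_1 D30025 (iv D20630) (iv F88997)
theorem F127417 : act 3 n30025 = n20628 := d25_1 D30025 (iv D20628) D20627
theorem F127419 : act 9 n30025 = n20639 := d38_2 (iv F89001) D30025 (iv D20639)
def n30026 : Q := act 8 n20627
theorem D30026 : act 8 n20627 = n30026 := rfl
theorem F127420 : act 0 n30026 = n20631 := d7_1 D30026 (iv D20631) (iv F88997)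
theorem F127422 : act 6 n30026 = n20674 := d40_1 D30026 (iv D20674) (iv F88999)
def n30027 : Q := act 6 n20628
theorem D30027 : act 6 n20628 = n30027 := rfl
theorem F127429 : act 9 n30027 = n20641 := d41_2 (iv F89007) D30027 (iv D20641)
def n30028 : Q := act 5 n20629
theorem D30028 : act 5 n20629 = n30028 := rfl
theorem F127431 : act 2 n30028 = n20630 := d19_1 D30028 (iv D20630) D20629
def n30029 : Q := act 8 n20629
theorem D30029 : act 8 n20629 = n30029 := rfl
theorem F127436 : act 2 n30029 = n20631 := d22_1 D30029 (iv D20631) D20629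
theorem F127437 : act 6 n30029 = n20677 := d40_1 D30029 (iv D20677) (iv F89010)
def n30030 : Q := act 4 n20630
theorem D30030 : act 4 n20630 = n30030 := rfl
theorem F127442 : act 9 n30030 = n20644 := d34_2 (iv F89016) D30030 (iv D20644)
def n30031 : Q := act 6 n20630
theorem D30031 : act 6 n20630 = n30031 := rfl
theorem F127444 : act 3 n30031 = n20632 := d26_1 D30031 (iv D20632) (iv F89014)
theorem F127446 : act 9 n30031 = n20645 := d41_2 (iv F89016) D30031 (iv D20645)
def n30033 : Q := act 9 n20631
theorem D30033 : act 9 n20631 = n30033 := rfl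
theorem F127451 : act 6 n30033 = n20681 := d41_1 D30033 (iv D20681) (iv F89018)
theorem F127453 : act 8 n30033 = n20647 := d44_1 D30033 (iv D20647) (iv D14197) (iv F62317) D20631
def n30037 : Q := act 7 n20634
theorem D30037 : act 7 n20634 = n30037 := rfl
theorem F127471 : act 3 n30037 = n20637 := d27_1 D30037 (iv D20637) (iv F89032)
theorem F127474 : act 9 n30037 = n20651 := d43_2 (iv F89034) D30037 (iv D20651)
def n30043 : Q := act 4 n20639
theorem D30043 : act 4 n20639 = n30043 := rfl
theorem F127497 : act 0 n30043 = n20644 := d3_1 D30043 (iv D20644) (iv F89054)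
def n30045 : Q := act 8 n20639
theorem D30045 : act 8 n20639 = n30045 := rfl
theorem F127505 : act 0 n30045 = n20646 := d7_1 D30045 (iv D20646) (iv F89054)
def n30048 : Q := act 4 n20642
theorem D30048 : act 4 n20642 = n30048 := rfl
theorem F127523 : act 2 n30048 = n20644 := d18_1 D30048 (iv D20644) (iv F89070)
def n30049 : Q := act 6 n20642
theorem D30049 : act 6 n20642 = n30049 := rfl
theorem F127528 : act 5 n30049 = n20697 := d35_1 D30049 (iv D20697) (iv D14231) (iv F62356) D20642
def n30050 : Q := act 8 n20642
theorem D30050 : act 8 n20642 = n30050 := rfl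
theorem F127530 : act 2 n30050 = n20646 := d22_1 D30050 (iv D20646) (iv F89070)
theorem F127531 : act 5 n30050 = n20643 := d37_1 D30050 (iv D20643) D20642
def n30051 : Q := act 3 n20643
theorem D30051 : act 3 n20643 = n30051 := rfl
def n30052 : Q := act 9 n20643
theorem D30052 : act 9 n20643 = n30052 := rfl
def n30053 : Q := act 6 n20644
theorem D30053 : act 6 n20644 = n30053 := rfl
theorem F127544 : act 4 n30053 = n20645 := d31_1 D30053 (iv D20645) D20644
def n30054 : Q := act 8 n20644
theorem D30054 : act 8 n20644 = n30054 := rfl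
theorem F127546 : act 4 n30054 = n20646 := d33_1 D30054 (iv D20646) D20644
def n30056 : Q := act 8 n20645
theorem D30056 : act 8 n20645 = n30056 := rfl
theorem F127554 : act 5 n30056 = n20704 := d37_1 D30056 (iv D20704) (iv F89082)
def n30079 : Q := act 6 n20662
theorem D30079 : act 6 n20662 = n30079 := rfl
theorem F127667 : act 4 n30079 = n20804 := d31_1 D30079 (iv D20804) (iv F89166)
theorem F127668 : act 8 n30079 = n20675 := d40_2 (iv F89168) D30079 (iv D20675)
def n30083 : Q := act 6 n20664
theorem D30083 : act 6 n20664 = n30083 := rfl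
theorem F127683 : act 3 n30083 = n20666 := d26_1 D30083 (iv D20666) (iv F89175)
def n30084 : Q := act 8 n20664
theorem D30084 : act 8 n20664 = n30084 := rfl
theorem F127686 : act 3 n30084 = n20680 := d28_1 D30084 (iv D20680) F62473 (iv F62437) (iv F89175)
def n30085 : Q := act 9 n20665
theorem D30085 : act 9 n20665 = n30085 := rfl
theorem F127689 : act 1 n30085 = n20670 := d16_1 D30085 (iv D20670) (iv F89178)
theorem F127690 : act 3 n30085 = n20681 := d29_1 D30085 (iv D20681) (iv F89179)
def n30086 : Q := act 7 n20666
theorem D30086 : act 7 n20666 = n30086 := rfl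
theorem F127697 : act 6 n30086 = n20734 := d39_1 D30086 (iv D20734) (iv D14255) (iv F62436) D20666
theorem F127698 : act 8 n30086 = n20682 := d42_2 (iv F89185) D30086 (iv D20682)
def n30088 : Q := act 8 n20667
theorem D30088 : act 8 n20667 = n30088 := rfl
theorem F127705 : act 4 n30088 = n20669 := d33_1 D30088 (iv D20669) D20667
def n30089 : Q := act 7 n20668
theorem D30089 : act 7 n20668 = n30089 := rfl
theorem F127710 : act 6 n30089 = n20737 := d39_1 D30089 (iv D20737) (iv D14257) (iv F62441) D20668
def n30090 : Q := act 8 n20668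
theorem D30090 : act 8 n20668 = n30090 := rfl
theorem F127713 : act 3 n30090 = n20686 := d28_1 D30090 (iv D20686) F62489 (iv F62450) (iv F89193)
def n30095 : Q := act 4 n20673
theorem D30095 : act 4 n20673 = n30095 := rfl
theorem F127733 : act 0 n30095 = n20678 := d3_1 D30095 (iv D20678) (iv F89214)
theorem F127737 : act 9 n30095 = n20691 := d34_2 (iv F89218) D30095 (iv D20691)
def n30096 : Q := act 6 n20673
theorem D30096 : act 6 n20673 = n30096 := rfl
theorem F127738 : act 0 n30096 = n20679 := d5_1 D30096 (iv D20679) (iv F89214)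
theorem F127740 : act 3 n30096 = n20675 := d26_1 D30096 (iv D20675) (iv F89216)
theorem F127741 : act 9 n30096 = n20692 := d41_2 (iv F89218) D30096 (iv D20692)
def n30097 : Q := act 8 n20673
theorem D30097 : act 8 n20673 = n30097 := rfl
theorem F127742 : act 0 n30097 = n20680 := d7_1 D30097 (iv D20680) (iv F89214)
theorem F127744 : act 5 n30097 = n20674 := d37_1 D30097 (iv D20674) D20673
theorem F127745 : act 7 n30097 = n20745 := d42_1 D30097 (iv D20745) (iv F89217)
def n30098 : Q := act 9 n20674
theorem D30098 : act 9 n20674 = n30098 := rfl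
theorem F127746 : act 0 n30098 = n20681 := d8_1 D30098 (iv D20681) (iv F89219)
theorem F127749 : act 8 n30098 = n20694 := d44_1 D30098 (iv D20694) (iv D14229) (iv F62461) D20674
def n30099 : Q := act 7 n20675
theorem D30099 : act 7 n20675 = n30099 := rfl
theorem F127755 : act 9 n30099 = n20695 := d43_2 (iv F89226) D30099 (iv D20695)
def n30100 : Q := act 4 n20676
theorem D30100 : act 4 n20676 = n30100 := rfl
theorem F127756 : act 1 n30100 = n30100 := d11_1 D30100 (iv D30100) F89227
theorem F127757 : act 2 n30100 = n20678 := d18_1 D30100 (iv D20678) (iv F89228)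
theorem F127758 : act 7 n30100 = n20748 := d32_2 (iv F89230) D30100 (iv D20748)
theorem F127759 : act 9 n30100 = n20696 := d34_2 (iv F89231) D30100 (iv D20696)
def n30101 : Q := act 6 n20676
theorem D30101 : act 6 n20676 = n30101 := rfl
theorem F127761 : act 2 n30101 = n20679 := d20_1 D30101 (iv D20679) (iv F89228)
def n30102 : Q := act 8 n20676
theorem D30102 : act 8 n20676 = n30102 := rfl
theorem F127765 : act 2 n30102 = n20680 := d22_1 D30102 (iv D20680) (iv F89228)
theorem F127766 : act 5 n30102 = n20677 := d37_1 D30102 (iv D20677) D20676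
theorem F127767 : act 7 n30102 = n20750 := d42_1 D30102 (iv D20750) (iv F89230)
def n30103 : Q := act 3 n20677
theorem D30103 : act 3 n20677 = n30103 := rfl
theorem F127770 : act 8 n30103 = n22453 := d28_2 D20677 D30103 (iv D22453) (iv D15430) (iv F62469)
def n30104 : Q := act 9 n20677
theorem D30104 : act 9 n20677 = n30104 := rfl
theorem F127772 : act 2 n30104 = n20681 := d23_1 D30104 (iv D20681) (iv F89233)
def n30105 : Q := act 6 n20678
theorem D30105 : act 6 n20678 = n30105 := rfl
theorem F127776 : act 3 n30105 = n20830 := d26_1 D30105 (iv D20830) (iv F89236)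
theorem F127777 : act 4 n30105 = n20679 := d31_1 D30105 (iv D20679) D20678
theorem F127778 : act 9 n30105 = n20701 := d41_2 (iv F89238) D30105 (iv D20701)
def n30106 : Q := act 8 n20678
theorem D30106 : act 8 n20678 = n30106 := rfl
theorem F127780 : act 4 n30106 = n20680 := d33_1 D30106 (iv D20680) D20678
theorem F127781 : act 7 n30106 = n20754 := d42_1 D30106 (iv D20754) (iv F89237)
def n30107 : Q := act 7 n20679
theorem D30107 : act 7 n20679 = n30107 := rfl
theorem F127783 : act 3 n30107 = n20682 := d27_1 D30107 (iv D20682) (iv F89240)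
def n30108 : Q := act 8 n20679
theorem D30108 : act 8 n20679 = n30108 := rfl
def n30109 : Q := act 9 n20680
theorem D30109 : act 9 n20680 = n30109 := rfl
theorem F127790 : act 7 n30109 = n20757 := d43_1 D30109 (iv D20757) (iv F89244)
theorem F127791 : act 8 n30109 = n20705 := d44_1 D30109 (iv D20705) (iv D14235) (iv F62475) D20680
def n30111 : Q := act 7 n20683
theorem D30111 : act 7 n20683 = n30111 := rfl
theorem F127798 : act 3 n30111 = n20836 := d27_1 D30111 (iv D20836) (iv F89255)
theorem F127801 : act 9 n30111 = n20707 := d43_2 (iv F89257) D30111 (iv D20707)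
def n30113 : Q := act 3 n20684
theorem D30113 : act 3 n20684 = n30113 := rfl
def n30114 : Q := act 9 n20684
theorem D30114 : act 9 n20684 = n30114 := rfl
theorem F127812 : act 7 n30114 = n20762 := d43_1 D30114 (iv D20762) (iv F89261)
theorem F127813 : act 8 n30114 = n20710 := d44_1 D30114 (iv D20710) (iv D14239) (iv F62486) D20684
def n30116 : Q := act 9 n20686
theorem D30116 : act 9 n20686 = n30116 := rfl
theorem F127821 : act 8 n30116 = n20712 := d44_1 D30116 (iv D20712) (iv D14241) (iv F62490) D20686
def n30119 : Q := act 4 n20689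
theorem D30119 : act 4 n20689 = n30119 := rfl
def n30121 : Q := act 8 n20689
theorem D30121 : act 8 n20689 = n30121 := rfl
theorem F127838 : act 2 n30121 = n20693 := d22_1 D30121 (iv D20693) (iv F89280)
def n30124 : Q := act 6 n20691
theorem D30124 : act 6 n20691 = n30124 := rfl
theorem F127848 : act 0 n30124 = n20701 := d5_1 D30124 (iv D20701) (iv F89286)
theorem F127850 : act 3 n30124 = n20849 := d26_1 D30124 (iv D20849) (iv F89288)
theorem F127851 : act 4 n30124 = n20692 := d31_1 D30124 (iv D20692) D20691
def n30125 : Q := act 8 n20691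
theorem D30125 : act 8 n20691 = n30125 := rfl
theorem F127855 : act 7 n30125 = n20773 := d42_1 D30125 (iv D20773) (iv F89289)
def n30126 : Q := act 7 n20692
theorem D30126 : act 7 n20692 = n30126 := rfl
def n30127 : Q := act 8 n20692
theorem D30127 : act 8 n20692 = n30127 := rfl
theorem F127860 : act 0 n30127 = n20704 := d7_1 D30127 (iv D20704) (iv F89290)
def n30128 : Q := act 9 n20693
theorem D30128 : act 9 n20693 = n30128 := rfl
theorem F127864 : act 0 n30128 = n20705 := d8_1 D30128 (iv D20705) (iv F89293)
def n30129 : Q := act 3 n20696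
theorem D30129 : act 3 n20696 = n30129 := rfl
theorem F127870 : act 2 n30129 = n20854 := d17_1 D30129 (iv D20854) F62971 (iv F62528) (iv F89309)
theorem F127871 : act 4 n30129 = n22479 := d24_2 D20696 D30129 (iv D22479) (iv D15449) (iv F62522)
def n30130 : Q := act 6 n20696
theorem D30130 : act 6 n20696 = n30130 := rfl
theorem F127874 : act 2 n30130 = n20701 := d20_1 D30130 (iv D20701) (iv F89309)
theorem F127875 : act 4 n30130 = n20697 := d31_1 D30130 (iv D20697) D20696
def n30131 : Q := act 8 n20696
theorem D30131 : act 8 n20696 = n30131 := rfl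
theorem F127878 : act 4 n30131 = n20698 := d33_1 D30131 (iv D20698) D20696
def n30132 : Q := act 7 n20697
theorem D30132 : act 7 n20697 = n30132 := rfl
theorem F127883 : act 6 n30132 = n20780 := d39_1 D30132 (iv D20780) (iv D14286) (iv F62523) D20697
def n30133 : Q := act 8 n20697
theorem D30133 : act 8 n20697 = n30133 := rfl
theorem F127885 : act 2 n30133 = n20704 := d22_1 D30133 (iv D20704) (iv F89312)
theorem F127886 : act 6 n30133 = n20698 := d40_1 D30133 (iv D20698) D20697
def n30134 : Q := act 3 n20698
theorem D30134 : act 3 n20698 = n30134 := rfl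
def n30135 : Q := act 9 n20698
theorem D30135 : act 9 n20698 = n30135 := rfl
def n30138 : Q := act 5 n20701
theorem D30138 : act 5 n20701 = n30138 := rfl
theorem F127904 : act 1 n30138 = n20706 := d12_1 D30138 (iv D20706) (iv F89325)
theorem F127905 : act 3 n30138 = n20863 := d25_1 D30138 (iv D20863) (iv F89326)
def n30139 : Q := act 7 n20701
theorem D30139 : act 7 n20701 = n30139 := rfl
theorem F127906 : act 1 n30139 = n20707 := d14_1 D30139 (iv D20707) (iv F89325)
theorem F127907 : act 3 n30139 = n20864 := d27_1 D30139 (iv D20864) (iv F89326)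
theorem F127909 : act 6 n30139 = n20787 := d39_1 D30139 (iv D20787) (iv D14290) (iv F62529) D20701
def n30140 : Q := act 8 n20701
theorem D30140 : act 8 n20701 = n30140 := rfl
theorem F127910 : act 1 n30140 = n20708 := d15_1 D30140 (iv D20708) (iv F89325)
theorem F127911 : act 4 n30140 = n20704 := d33_1 D30140 (iv D20704) (iv F89327)
theorem F127912 : act 6 n30140 = n20702 := d40_1 D30140 (iv D20702) D20701
def n30141 : Q := act 3 n20702
theorem D30141 : act 3 n20702 = n30141 := rfl
theorem F127913 : act 1 n30141 = n20709 := d10_1 D30141 (iv D20709) (iv F89328)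
theorem F127914 : act 4 n30141 = n30141 := d24_2 (iv F89329) D30141 (iv D30141) F89329 F62533
theorem F127915 : act 7 n30141 = n20789 := d27_2 (iv F89330) D30141 (iv D20789)
theorem F127916 : act 8 n30141 = n20866 := d28_2 D20702 D30141 (iv D20866) (iv D14343) (iv F62528)
def n30142 : Q := act 9 n20702
theorem D30142 : act 9 n20702 = n30142 := rfl
theorem F127918 : act 4 n30142 = n20705 := d34_1 D30142 (iv D20705) (iv F89329)
theorem F127919 : act 7 n30142 = n20790 := d43_1 D30142 (iv D20790) (iv F89330)
def n30143 : Q := act 8 n20703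
theorem D30143 : act 8 n20703 = n30143 := rfl
theorem F127920 : act 1 n30143 = n20711 := d15_1 D30143 (iv D20711) (iv F89331)
theorem F127922 : act 6 n30143 = n20791 := d40_1 D30143 (iv D20791) (iv F89333)
theorem F127923 : act 7 n30143 = n20704 := d42_1 D30143 (iv D20704) D20703
def n30144 : Q := act 9 n20704
theorem D30144 : act 9 n20704 = n30144 := rfl
theorem F127926 : act 6 n30144 = n20705 := d41_1 D30144 (iv D20705) (iv F89336)
def n30145 : Q := act 7 n20706
theorem D30145 : act 7 n20706 = n30145 := rfl
theorem F127930 : act 5 n30145 = n20707 := d36_1 D30145 (iv D20707) D20706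
def n30146 : Q := act 8 n20706
theorem D30146 : act 8 n20706 = n30146 := rfl
theorem F127933 : act 5 n30146 = n20708 := d37_1 D30146 (iv D20708) D20706
def n30147 : Q := act 8 n20707
theorem D30147 : act 8 n20707 = n30147 := rfl
theorem F127937 : act 6 n30147 = n20795 := d40_1 D30147 (iv D20795) (iv F89348)
theorem F127938 : act 7 n30147 = n20708 := d42_1 D30147 (iv D20708) D20707
def n30148 : Q := act 3 n20708
theorem D30148 : act 3 n20708 = n30148 := rfl
theorem F127941 : act 6 n30148 = n20709 := d26_2 (iv F89352) D30148 (iv D20709)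
theorem F127942 : act 8 n30148 = n20873 := d28_2 D20708 D30148 (iv D20873) (iv D14349) (iv F62546)
def n30150 : Q := act 2 n20709
theorem D30150 : act 2 n20709 = n30150 := rfl
theorem F127950 : act 7 n30150 = n20798 := d21_2 (iv F89355) D30150 (iv D20798)
theorem F127951 : act 8 n30150 = n20875 := d22_2 (iv F89356) D30150 (iv D20875)
def n30151 : Q := act 9 n20709
theorem D30151 : act 9 n20709 = n30151 := rfl
theorem F127955 : act 7 n30151 = n20799 := d43_1 D30151 (iv D20799) (iv F89355)
def n30157 : Q := act 5 n20715
theorem D30157 : act 5 n20715 = n30157 := rfl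
theorem F127983 : act 2 n30157 = n20716 := d19_1 D30157 (iv D20716) D20715
theorem F127984 : act 3 n30157 = n22546 := d25_1 D30157 (iv D22546) (iv F89382)
def n30164 : Q := act 6 n20719
theorem D30164 : act 6 n20719 = n30164 := rfl
theorem F128013 : act 2 n30164 = n20735 := d20_1 D30164 (iv D20735) (iv F89400)
theorem F128015 : act 4 n30164 = n20720 := d31_1 D30164 (iv D20720) D20719
def n30176 : Q := act 7 n20727
theorem D30176 : act 7 n20727 = n30176 := rfl
theorem F128074 : act 8 n30176 = n20747 := d42_2 (iv F89444) D30176 (iv D20747)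
def n30183 : Q := act 8 n20730
theorem D30183 : act 8 n20730 = n30183 := rfl
theorem F128097 : act 4 n30183 = n20732 := d33_1 D30183 (iv D20732) D20730
def n30184 : Q := act 7 n20731
theorem D30184 : act 7 n20731 = n30184 := rfl
theorem F128100 : act 3 n30184 = n20734 := d27_1 D30184 (iv D20734) (iv F89457)
def n30185 : Q := act 8 n20731
theorem D30185 : act 8 n20731 = n30185 := rfl
theorem F128104 : act 3 n30185 = n20756 := d28_1 D30185 (iv D20756) F62680 (iv F62628) (iv F89457)
def n30186 : Q := act 9 n20732
theorem D30186 : act 9 n20732 = n30186 := rfl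
theorem F128107 : act 1 n30186 = n20739 := d16_1 D30186 (iv D20739) (iv F89460)
theorem F128108 : act 3 n30186 = n20757 := d29_1 D30186 (iv D20757) (iv F89461)
def n30187 : Q := act 5 n20735
theorem D30187 : act 5 n20735 = n30187 := rfl
theorem F128112 : act 3 n30187 = n20896 := d25_1 D30187 (iv D20896) (iv F89475)
def n30188 : Q := act 7 n20735
theorem D30188 : act 7 n20735 = n30188 := rfl
theorem F128118 : act 4 n30188 = n20737 := d32_1 D30188 (iv D20737) (iv F89476)
def n30190 : Q := act 3 n20736
theorem D30190 : act 3 n20736 = n30190 := rfl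
theorem F128124 : act 4 n30190 = n20761 := d24_2 (iv F89479) D30190 (iv D20761) F62700 (iv F62639)
def n30192 : Q := act 8 n20737
theorem D30192 : act 8 n20737 = n30192 := rfl
theorem F128132 : act 3 n30192 = n20763 := d28_1 D30192 (iv D20763) F62703 (iv F62650) (iv F89482)
def n30196 : Q := act 4 n20741
theorem D30196 : act 4 n20741 = n30196 := rfl
theorem F128149 : act 0 n30196 = n20748 := d3_1 D30196 (iv D20748) (iv F89498)
theorem F128151 : act 9 n30196 = n20767 := d34_2 (iv F89501) D30196 (iv D20767)
def n30201 : Q := act 6 n20743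
theorem D30201 : act 6 n20743 = n30201 := rfl
theorem F128167 : act 0 n30201 = n20753 := d5_1 D30201 (iv D20753) (iv F89505)
theorem F128170 : act 4 n30201 = n20744 := d31_1 D30201 (iv D20744) D20743
theorem F128171 : act 9 n30201 = n20772 := d41_2 (iv F89508) D30201 (iv D20772)
def n30202 : Q := act 8 n20743
theorem D30202 : act 8 n20743 = n30202 := rfl
theorem F128172 : act 0 n30202 = n20754 := d7_1 D30202 (iv D20754) (iv F89505)
def n30203 : Q := act 7 n20744
theorem D30203 : act 7 n20744 = n30203 := rfl
theorem F128175 : act 0 n30203 = n20755 := d6_1 D30203 (iv D20755) (iv F89509)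
theorem F128177 : act 3 n30203 = n20747 := d27_1 D30203 (iv D20747) (iv F89511)
theorem F128179 : act 9 n30203 = n20774 := d43_2 (iv F89513) D30203 (iv D20774)
def n30204 : Q := act 8 n20744
theorem D30204 : act 8 n20744 = n30204 := rfl
theorem F128180 : act 0 n30204 = n20756 := d7_1 D30204 (iv D20756) (iv F89509)
theorem F128183 : act 6 n30204 = n20745 := d40_1 D30204 (iv D20745) D20744
def n30205 : Q := act 9 n20745
theorem D30205 : act 9 n20745 = n30205 := rfl
theorem F128184 : act 0 n30205 = n20757 := d8_1 D30205 (iv D20757) (iv F89514)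
theorem F128187 : act 8 n30205 = n20776 := d44_1 D30205 (iv D20776) (iv D14282) (iv F62659) D20745
def n30206 : Q := act 3 n20748
theorem D30206 : act 3 n20748 = n30206 := rfl
theorem F128188 : act 1 n30206 = n30206 := d10_1 D30206 (iv D30206) F89527
theorem F128189 : act 2 n30206 = n20915 := d17_1 D30206 (iv D20915) F63140 (iv F62677) (iv F89528)
theorem F128191 : act 9 n30206 = n20777 := d29_2 (iv F89529) D30206 (iv D20777)
def n30207 : Q := act 6 n20748
theorem D30207 : act 6 n20748 = n30207 := rfl
theorem F128192 : act 1 n30207 = n30207 := d13_1 D30207 (iv D30207) F89527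
theorem F128193 : act 2 n30207 = n20753 := d20_1 D30207 (iv D20753) (iv F89528)
theorem F128194 : act 4 n30207 = n20749 := d31_1 D30207 (iv D20749) D20748
theorem F128195 : act 9 n30207 = n20778 := d41_2 (iv F89529) D30207 (iv D20778)
def n30208 : Q := act 8 n20748
theorem D30208 : act 8 n20748 = n30208 := rfl
theorem F128196 : act 1 n30208 = n30208 := d15_1 D30208 (iv D30208) F89527
theorem F128197 : act 2 n30208 = n20754 := d22_1 D30208 (iv D20754) (iv F89528)
theorem F128198 : act 4 n30208 = n20750 := d33_1 D30208 (iv D20750) D20748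
def n30209 : Q := act 7 n20749
theorem D30209 : act 7 n20749 = n30209 := rfl
theorem F128200 : act 2 n30209 = n20755 := d21_1 D30209 (iv D20755) (iv F89531)
def n30210 : Q := act 8 n20749
theorem D30210 : act 8 n20749 = n30210 := rfl
theorem F128205 : act 2 n30210 = n20756 := d22_1 D30210 (iv D20756) (iv F89531)
theorem F128207 : act 6 n30210 = n20750 := d40_1 D30210 (iv D20750) D20749
def n30211 : Q := act 3 n20750
theorem D30211 : act 3 n20750 = n30211 := rfl
theorem F128210 : act 8 n30211 = n22600 := d28_2 D20750 D30211 (iv D22600) (iv D15529) (iv F62671)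
def n30212 : Q := act 9 n20750
theorem D30212 : act 9 n20750 = n30212 := rfl
theorem F128212 : act 2 n30212 = n20757 := d23_1 D30212 (iv D20757) (iv F89536)
def n30215 : Q := act 5 n20753
theorem D30215 : act 5 n20753 = n30215 := rfl
theorem F128221 : act 1 n30215 = n20758 := d12_1 D30215 (iv D20758) (iv F89545)
theorem F128222 : act 3 n30215 = n20924 := d25_1 D30215 (iv D20924) (iv F89546)
theorem F128223 : act 4 n30215 = n30215 := d30_1 D30215 (iv D30215) F89547 F62681 (iv F89547)
theorem F128224 : act 9 n30215 = n20786 := d38_2 (iv F89548) D30215 (iv D20786)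
def n30216 : Q := act 7 n20753
theorem D30216 : act 7 n20753 = n30216 := rfl
theorem F128226 : act 3 n30216 = n20925 := d27_1 D30216 (iv D20925) (iv F89546)
theorem F128227 : act 4 n30216 = n20755 := d32_1 D30216 (iv D20755) (iv F89547)
theorem F128228 : act 9 n30216 = n20787 := d43_2 (iv F89548) D30216 (iv D20787)
def n30217 : Q := act 8 n20753
theorem D30217 : act 8 n20753 = n30217 := rfl
theorem F128230 : act 4 n30217 = n20756 := d33_1 D30217 (iv D20756) (iv F89547)
theorem F128231 : act 6 n30217 = n20754 := d40_1 D30217 (iv D20754) D20753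
def n30218 : Q := act 3 n20754
theorem D30218 : act 3 n20754 = n30218 := rfl
theorem F128233 : act 8 n30218 = n20927 := d28_2 D20754 D30218 (iv D20927) (iv D14384) (iv F62677)
def n30219 : Q := act 9 n20754
theorem D30219 : act 9 n20754 = n30219 := rfl
theorem F128234 : act 1 n30219 = n20762 := d16_1 D30219 (iv D20762) (iv F89549)
theorem F128235 : act 4 n30219 = n20757 := d34_1 D30219 (iv D20757) (iv F89550)
theorem F128236 : act 8 n30219 = n20790 := d44_1 D30219 (iv D20790) (iv D14291) (iv F62678) D20754
def n30220 : Q := act 8 n20755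
theorem D30220 : act 8 n20755 = n30220 := rfl
def n30221 : Q := act 9 n20756
theorem D30221 : act 9 n20756 = n30221 := rfl
theorem F128243 : act 8 n30221 = n20792 := d44_1 D30221 (iv D20792) (iv D14293) (iv F62682) D20756
def n30222 : Q := act 7 n20758
theorem D30222 : act 7 n20758 = n30222 := rfl
theorem F128246 : act 3 n30222 = n20931 := d27_1 D30222 (iv D20931) (iv F89563)
theorem F128249 : act 9 n30222 = n20793 := d43_2 (iv F89565) D30222 (iv D20793)
def n30223 : Q := act 8 n20758
theorem D30223 : act 8 n20758 = n30223 := rfl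
theorem F128253 : act 5 n30223 = n20760 := d37_1 D30223 (iv D20760) D20758
def n30224 : Q := act 8 n20759
theorem D30224 : act 8 n20759 = n30224 := rfl
def n30226 : Q := act 9 n20760
theorem D30226 : act 9 n20760 = n30226 := rfl
theorem F128265 : act 8 n30226 = n20797 := d44_1 D30226 (iv D20797) (iv D14297) (iv F62697) D20760
def n30227 : Q := act 2 n20761
theorem D30227 : act 2 n20761 = n30227 := rfl
def n30228 : Q := act 9 n20761
theorem D30228 : act 9 n20761 = n30228 := rfl
theorem F128270 : act 3 n30228 = n20762 := d29_1 D30228 (iv D20762) D20761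
def n30229 : Q := act 9 n20763
theorem D30229 : act 9 n20763 = n30229 := rfl
theorem F128275 : act 8 n30229 = n20800 := d44_1 D30229 (iv D20800) (iv D14300) (iv F62705) D20763
def n30235 : Q := act 3 n20767
theorem D30235 : act 3 n20767 = n30235 := rfl
theorem F128296 : act 0 n30235 = n20777 := d2_1 D30235 (iv D20777) (iv F89598)
theorem F128298 : act 4 n30235 = n22624 := d24_2 D20767 D30235 (iv D22624) (iv D15546) (iv F62720)
def n30236 : Q := act 6 n20767
theorem D30236 : act 6 n20767 = n30236 := rfl
theorem F128299 : act 0 n30236 = n20778 := d5_1 D30236 (iv D20778) (iv F89598)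
theorem F128300 : act 2 n30236 = n20772 := d20_1 D30236 (iv D20772) (iv F89599)
theorem F128301 : act 4 n30236 = n20768 := d31_1 D30236 (iv D20768) D20767
def n30239 : Q := act 8 n20768
theorem D30239 : act 8 n20768 = n30239 := rfl
theorem F128310 : act 2 n30239 = n20775 := d22_1 D30239 (iv D20775) (iv F89601)
def n30240 : Q := act 3 n20769
theorem D30240 : act 3 n20769 = n30240 := rfl
theorem F128316 : act 8 n30240 = n22629 := d28_2 D20769 D30240 (iv D22629) (iv D15548) (iv F62720)
def n30241 : Q := act 9 n20769
theorem D30241 : act 9 n20769 = n30241 := rfl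
def n30244 : Q := act 5 n20772
theorem D30244 : act 5 n20772 = n30244 := rfl
theorem F128328 : act 0 n30244 = n20786 := d4_1 D30244 (iv D20786) (iv F89614)
theorem F128329 : act 1 n30244 = n30244 := d12_1 D30244 (iv D30244) F89615
theorem F128330 : act 3 n30244 = n20953 := d25_1 D30244 (iv D20953) (iv F89616)
theorem F128331 : act 4 n30244 = n30244 := d30_1 D30244 (iv D30244) F89617 F62730 (iv F89617)
def n30245 : Q := act 7 n20772
theorem D30245 : act 7 n20772 = n30245 := rfl
theorem F128332 : act 0 n30245 = n20787 := d6_1 D30245 (iv D20787) (iv F89614)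
def n30246 : Q := act 8 n20772
theorem D30246 : act 8 n20772 = n30246 := rfl
theorem F128336 : act 0 n30246 = n20788 := d7_1 D30246 (iv D20788) (iv F89614)
theorem F128338 : act 4 n30246 = n20775 := d33_1 D30246 (iv D20775) (iv F89617)
theorem F128339 : act 6 n30246 = n20773 := d40_1 D30246 (iv D20773) D20772
def n30247 : Q := act 3 n20773
theorem D30247 : act 3 n20773 = n30247 := rfl
theorem F128343 : act 8 n30247 = n20956 := d28_2 D20773 D30247 (iv D20956) (iv D14403) (iv F62726)
def n30248 : Q := act 9 n20773
theorem D30248 : act 9 n20773 = n30248 := rfl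
def n30249 : Q := act 8 n20774
theorem D30249 : act 8 n20774 = n30249 := rfl
theorem F128347 : act 0 n30249 = n20791 := d7_1 D30249 (iv D20791) (iv F89621)
def n30250 : Q := act 9 n20775
theorem D30250 : act 9 n20775 = n30250 := rfl
theorem F128352 : act 0 n30250 = n20792 := d8_1 D30250 (iv D20792) (iv F89625)
def n30251 : Q := act 6 n20777
theorem D30251 : act 6 n20777 = n30251 := rfl
theorem F128358 : act 2 n30251 = n20960 := d20_1 D30251 (iv D20960) (iv F89635)
theorem F128359 : act 3 n30251 = n20778 := d26_1 D30251 (iv D20778) D20777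
theorem F128360 : act 4 n30251 = n22640 := d31_1 D30251 (iv D22640) (iv F89636)
def n30252 : Q := act 8 n20777
theorem D30252 : act 8 n20777 = n30252 := rfl
theorem F128362 : act 2 n30252 = n20961 := d22_1 D30252 (iv D20961) (iv F89635)
theorem F128363 : act 4 n30252 = n22641 := d33_1 D30252 (iv D22641) (iv F89636)
def n30253 : Q := act 5 n20778
theorem D30253 : act 5 n20778 = n30253 := rfl
theorem F128364 : act 1 n30253 = n30253 := d12_1 D30253 (iv D30253) F89637
theorem F128365 : act 2 n30253 = n20786 := d19_1 D30253 (iv D20786) (iv F89638)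
theorem F128366 : act 4 n30253 = n30253 := d30_1 D30253 (iv D30253) F89639 F62750 (iv F89639)
def n30254 : Q := act 7 n20778
theorem D30254 : act 7 n20778 = n30254 := rfl
theorem F128368 : act 2 n30254 = n20787 := d21_1 D30254 (iv D20787) (iv F89638)
theorem F128369 : act 4 n30254 = n20780 := d32_1 D30254 (iv D20780) (iv F89639)
def n30255 : Q := act 8 n20778
theorem D30255 : act 8 n20778 = n30255 := rfl
theorem F128372 : act 4 n30255 = n20781 := d33_1 D30255 (iv D20781) (iv F89639)
def n30258 : Q := act 8 n20780
theorem D30258 : act 8 n20780 = n30258 := rfl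
theorem F128379 : act 2 n30258 = n20791 := d22_1 D30258 (iv D20791) (iv F89644)
theorem F128381 : act 7 n30258 = n20781 := d42_1 D30258 (iv D20781) D20780
def n30259 : Q := act 3 n20781
theorem D30259 : act 3 n20781 = n30259 := rfl
def n30260 : Q := act 9 n20781
theorem D30260 : act 9 n20781 = n30260 := rfl
def n30266 : Q := act 7 n20786
theorem D30266 : act 7 n20786 = n30266 := rfl
theorem F128409 : act 1 n30266 = n20793 := d14_1 D30266 (iv D20793) (iv F89666)
theorem F128410 : act 3 n30266 = n20975 := d27_1 D30266 (iv D20975) (iv F89667)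
theorem F128411 : act 4 n30266 = n30266 := d32_1 D30266 (iv D30266) F89668
theorem F128412 : act 5 n30266 = n20787 := d36_1 D30266 (iv D20787) D20786
def n30267 : Q := act 8 n20786
theorem D30267 : act 8 n20786 = n30267 := rfl
theorem F128413 : act 1 n30267 = n20794 := d15_1 D30267 (iv D20794) (iv F89666)
theorem F128414 : act 4 n30267 = n30267 := d33_1 D30267 (iv D30267) F89668
theorem F128415 : act 5 n30267 = n20788 := d37_1 D30267 (iv D20788) D20786
def n30268 : Q := act 8 n20787
theorem D30268 : act 8 n20787 = n30268 := rfl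
theorem F128416 : act 1 n30268 = n20795 := d15_1 D30268 (iv D20795) (iv F89669)
theorem F128417 : act 4 n30268 = n20791 := d33_1 D30268 (iv D20791) (iv F89671)
theorem F128418 : act 7 n30268 = n20788 := d42_1 D30268 (iv D20788) D20787
def n30269 : Q := act 3 n20788
theorem D30269 : act 3 n20788 = n30269 := rfl
theorem F128419 : act 1 n30269 = n20796 := d10_1 D30269 (iv D20796) (iv F89672)
theorem F128420 : act 4 n30269 = n30269 := d24_2 (iv F89673) D30269 (iv D30269) F89673 F62770
theorem F128421 : act 6 n30269 = n20789 := d26_2 (iv F89674) D30269 (iv D20789)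
theorem F128422 : act 8 n30269 = n20978 := d28_2 D20788 D30269 (iv D20978) (iv D14418) (iv F62762)
def n30270 : Q := act 9 n20788
theorem D30270 : act 9 n20788 = n30270 := rfl
theorem F128423 : act 1 n30270 = n20797 := d16_1 D30270 (iv D20797) (iv F89672)
theorem F128424 : act 4 n30270 = n20792 := d34_1 D30270 (iv D20792) (iv F89673)
theorem F128425 : act 6 n30270 = n20790 := d41_1 D30270 (iv D20790) (iv F89674)
def n30271 : Q := act 2 n20789
theorem D30271 : act 2 n20789 = n30271 := rfl
theorem F128427 : act 8 n30271 = n20980 := d22_2 (iv F89677) D30271 (iv D20980)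
def n30272 : Q := act 9 n20789
theorem D30272 : act 9 n20789 = n30272 := rfl
theorem F128428 : act 1 n30272 = n20799 := d16_1 D30272 (iv D20799) (iv F89675)
theorem F128429 : act 3 n30272 = n20790 := d29_1 D30272 (iv D20790) D20789
theorem F128430 : act 4 n30272 = n30272 := d34_1 D30272 (iv D30272) F89676
def n30273 : Q := act 9 n20791
theorem D30273 : act 9 n20791 = n30273 := rfl
theorem F128434 : act 7 n30273 = n20792 := d43_1 D30273 (iv D20792) (iv F89683)
def n30274 : Q := act 6 n20793
theorem D30274 : act 6 n20793 = n30274 := rfl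
theorem F128435 : act 0 n30274 = n30274 := d5_1 D30274 (iv D30274) F89688
theorem F128436 : act 2 n30274 = n30274 := d20_1 D30274 (iv D30274) F89689
theorem F128437 : act 3 n30274 = n20983 := d26_1 D30274 (iv D20983) (iv F89690)
theorem F128438 : act 4 n30274 = n30274 := d31_1 D30274 (iv D30274) F89691
def n30275 : Q := act 8 n20793
theorem D30275 : act 8 n20793 = n30275 := rfl
theorem F128439 : act 0 n30275 = n30275 := d7_1 D30275 (iv D30275) F89688
theorem F128440 : act 2 n30275 = n30275 := d22_1 D30275 (iv D30275) F89689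
theorem F128441 : act 4 n30275 = n30275 := d33_1 D30275 (iv D30275) F89691
theorem F128442 : act 5 n30275 = n20795 := d37_1 D30275 (iv D20795) (iv F89692)
theorem F128443 : act 7 n30275 = n20794 := d42_1 D30275 (iv D20794) D20793
def n30276 : Q := act 3 n20794
theorem D30276 : act 3 n20794 = n30276 := rfl
theorem F128444 : act 0 n30276 = n30276 := d2_1 D30276 (iv D30276) F89693
theorem F128445 : act 5 n30276 = n20796 := d25_2 (iv F89696) D30276 (iv D20796)
theorem F128446 : act 8 n30276 = n20985 := d28_2 D20794 D30276 (iv D20985) (iv D14424) (iv F62778)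
def n30277 : Q := act 9 n20794
theorem D30277 : act 9 n20794 = n30277 := rfl
theorem F128450 : act 5 n30277 = n20797 := d38_1 D30277 (iv D20797) (iv F89696)
def n30278 : Q := act 3 n20795
theorem D30278 : act 3 n20795 = n30278 := rfl
theorem F128451 : act 0 n30278 = n30278 := d2_1 D30278 (iv D30278) F89697
theorem F128452 : act 4 n30278 = n30278 := d24_2 (iv F89699) D30278 (iv D30278) F89699 F62796
theorem F128453 : act 7 n30278 = n20796 := d27_2 (iv F89700) D30278 (iv D20796)
theorem F128454 : act 8 n30278 = n20987 := d28_2 D20795 D30278 (iv D20987) (iv D14425) (iv F62782)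
def n30279 : Q := act 9 n20795
theorem D30279 : act 9 n20795 = n30279 := rfl
def n30280 : Q := act 2 n20796
theorem D30280 : act 2 n20796 = n30280 := rfl
theorem F128459 : act 0 n30280 = n30280 := d1_1 D30280 (iv D30280) F89701
theorem F128460 : act 3 n30280 = n30280 := d17_2 D20796 D30280 (iv D30280) (iv D20796) F62785
theorem F128461 : act 4 n30280 = n30280 := d18_2 F89702 D30280 (iv D30280)
theorem F128462 : act 6 n30280 = n20798 := d20_2 (iv F89703) D30280 (iv D20798)
theorem F128463 : act 8 n30280 = n20989 := d22_2 (iv F89704) D30280 (iv D20989)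
def n30281 : Q := act 9 n20796
theorem D30281 : act 9 n20796 = n30281 := rfl
theorem F128464 : act 0 n30281 = n30281 := d8_1 D30281 (iv D30281) F89701
theorem F128465 : act 3 n30281 = n20797 := d29_1 D30281 (iv D20797) D20796
theorem F128466 : act 4 n30281 = n30281 := d34_1 D30281 (iv D30281) F89702
theorem F128467 : act 6 n30281 = n20799 := d41_1 D30281 (iv D20799) (iv F89703)
def n30282 : Q := act 1 n20798
theorem D30282 : act 1 n20798 = n30282 := rfl
theorem F128468 : act 3 n30282 = n30282 := d10_2 F89710 D30282 (iv D30282)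
theorem F128469 : act 4 n30282 = n30282 := d11_2 F89711 D30282 (iv D30282)
theorem F128470 : act 8 n30282 = n20991 := d15_2 (iv F89712) D30282 (iv D20991)
def n30283 : Q := act 9 n20798
theorem D30283 : act 9 n20798 = n30283 := rfl
theorem F128472 : act 2 n30283 = n20799 := d23_1 D30283 (iv D20799) D20798
def n30284 : Q := act 8 n20799
theorem D30284 : act 8 n20799 = n30284 := rfl
theorem F128475 : act 0 n30284 = n30284 := d7_1 D30284 (iv D30284) F89713
theorem F128476 : act 4 n30284 = n30284 := d33_1 D30284 (iv D30284) F89715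
theorem F128477 : act 9 n30284 = n20993 := d44_2 D20799 D30284 (iv D20993) (iv D14429) (iv F62790)
def n30292 : Q := act 7 n20804
theorem D30292 : act 7 n20804 = n30292 := rfl
theorem F128521 : act 6 n30292 = n20885 := d39_1 D30292 (iv D20885) (iv D14357) (iv F62813) D20804
theorem F128522 : act 8 n30292 = n20824 := d42_2 (iv F89742) D30292 (iv D20824)
def n30299 : Q := act 8 n20807
theorem D30299 : act 8 n20807 = n30299 := rfl
theorem F128552 : act 1 n30299 = n20813 := d15_1 D30299 (iv D20813) (iv F89754)
theorem F128553 : act 4 n30299 = n20809 := d33_1 D30299 (iv D20809) D20807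
def n30301 : Q := act 8 n20808
theorem D30301 : act 8 n20808 = n30301 := rfl
theorem F128561 : act 1 n30301 = n20815 := d15_1 D30301 (iv D20815) (iv F89758)
theorem F128562 : act 3 n30301 = n20833 := d28_1 D30301 (iv D20833) F62896 (iv F62834) (iv F89759)
def n30302 : Q := act 9 n20809
theorem D30302 : act 9 n20809 = n30302 := rfl
theorem F128565 : act 1 n30302 = n20816 := d16_1 D30302 (iv D20816) (iv F89762)
theorem F128566 : act 3 n30302 = n20834 := d29_1 D30302 (iv D20834) (iv F89763)
def n30306 : Q := act 3 n20813
theorem D30306 : act 3 n20813 = n30306 := rfl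
theorem F128585 : act 4 n30306 = n20838 := d24_2 (iv F89784) D30306 (iv D20838) F62917 (iv F62848)
def n30307 : Q := act 9 n20813
theorem D30307 : act 9 n20813 = n30307 := rfl
theorem F128592 : act 7 n30307 = n20900 := d43_1 D30307 (iv D20900) (iv F89786)
def n30308 : Q := act 8 n20814
theorem D30308 : act 8 n20814 = n30308 := rfl
theorem F128598 : act 6 n30308 = n20901 := d40_1 D30308 (iv D20901) (iv F89791)
theorem F128599 : act 7 n30308 = n20815 := d42_1 D30308 (iv D20815) D20814
def n30309 : Q := act 9 n20815
theorem D30309 : act 9 n20815 = n30309 := rfl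
def n30310 : Q := act 5 n20817
theorem D30310 : act 5 n20817 = n30310 := rfl
theorem F128606 : act 0 n30310 = n21166 := d4_1 D30310 (iv D21166) (iv F89804)
theorem F128607 : act 1 n30310 = n20818 := d12_1 D30310 (iv D20818) D20817
theorem F128610 : act 7 n30310 = n20903 := d36_2 (iv F89808) D30310 (iv D20903)
theorem F128611 : act 9 n30310 = n20842 := d38_2 (iv F89809) D30310 (iv D20842)
def n30311 : Q := act 8 n20817
theorem D30311 : act 8 n20817 = n30311 := rfl
def n30312 : Q := act 4 n20818
theorem D30312 : act 4 n20818 = n30312 := rfl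
theorem F128617 : act 0 n30312 = n20825 := d3_1 D30312 (iv D20825) (iv F89810)
theorem F128619 : act 7 n30312 = n20905 := d32_2 (iv F89813) D30312 (iv D20905)
theorem F128620 : act 9 n30312 = n20844 := d34_2 (iv F89814) D30312 (iv D20844)
def n30313 : Q := act 6 n20818
theorem D30313 : act 6 n20818 = n30313 := rfl
theorem F128621 : act 0 n30313 = n20826 := d5_1 D30313 (iv D20826) (iv F89810)
theorem F128622 : act 2 n30313 = n20821 := d20_1 D30313 (iv D20821) (iv F89811)
theorem F128625 : act 9 n30313 = n20845 := d41_2 (iv F89814) D30313 (iv D20845)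
def n30314 : Q := act 8 n20818
theorem D30314 : act 8 n20818 = n30314 := rfl
theorem F128626 : act 0 n30314 = n20827 := d7_1 D30314 (iv D20827) (iv F89810)
theorem F128627 : act 2 n30314 = n20822 := d22_1 D30314 (iv D20822) (iv F89811)
def n30315 : Q := act 3 n20819
theorem D30315 : act 3 n20819 = n30315 := rfl
theorem F128633 : act 8 n30315 = n22720 := d28_2 D20819 D30315 (iv D22720) (iv D15609) (iv F62865)
def n30316 : Q := act 9 n20819
theorem D30316 : act 9 n20819 = n30316 := rfl
theorem F128634 : act 0 n30316 = n20829 := d8_1 D30316 (iv D20829) (iv F89815)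
theorem F128638 : act 8 n30316 = n20848 := d44_1 D30316 (iv D20848) (iv D14331) (iv F62868) D20819
def n30317 : Q := act 6 n20820
theorem D30317 : act 6 n20820 = n30317 := rfl
theorem F128639 : act 0 n30317 = n20830 := d5_1 D30317 (iv D20830) (iv F89819)
theorem F128641 : act 4 n30317 = n20821 := d31_1 D30317 (iv D20821) D20820
theorem F128642 : act 9 n30317 = n20849 := d41_2 (iv F89822) D30317 (iv D20849)
def n30318 : Q := act 8 n20820
theorem D30318 : act 8 n20820 = n30318 := rfl
theorem F128643 : act 0 n30318 = n20831 := d7_1 D30318 (iv D20831) (iv F89819)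
theorem F128645 : act 4 n30318 = n20822 := d33_1 D30318 (iv D20822) D20820
def n30319 : Q := act 7 n20821
theorem D30319 : act 7 n20821 = n30319 := rfl
theorem F128647 : act 0 n30319 = n20832 := d6_1 D30319 (iv D20832) (iv F89823)
theorem F128649 : act 3 n30319 = n20824 := d27_1 D30319 (iv D20824) (iv F89825)
theorem F128652 : act 9 n30319 = n20851 := d43_2 (iv F89827) D30319 (iv D20851)
def n30320 : Q := act 8 n20821
theorem D30320 : act 8 n20821 = n30320 := rfl
theorem F128653 : act 0 n30320 = n20833 := d7_1 D30320 (iv D20833) (iv F89823)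
def n30321 : Q := act 9 n20822
theorem D30321 : act 9 n20822 = n30321 := rfl
theorem F128657 : act 0 n30321 = n20834 := d8_1 D30321 (iv D20834) (iv F89828)
theorem F128661 : act 8 n30321 = n20853 := d44_1 D30321 (iv D20853) (iv D14334) (iv F62873) D20822
def n30322 : Q := act 3 n20825
theorem D30322 : act 3 n20825 = n30322 := rfl
theorem F128662 : act 1 n30322 = n21178 := d10_1 D30322 (iv D21178) (iv F89843)
theorem F128664 : act 7 n30322 = n20915 := d27_2 (iv F89845) D30322 (iv D20915)
theorem F128665 : act 9 n30322 = n20854 := d29_2 (iv F89846) D30322 (iv D20854)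
def n30323 : Q := act 6 n20825
theorem D30323 : act 6 n20825 = n30323 := rfl
theorem F128666 : act 1 n30323 = n21179 := d13_1 D30323 (iv D21179) (iv F89843)
theorem F128667 : act 2 n30323 = n20830 := d20_1 D30323 (iv D20830) (iv F89844)
theorem F128668 : act 4 n30323 = n20826 := d31_1 D30323 (iv D20826) D20825
theorem F128669 : act 9 n30323 = n20855 := d41_2 (iv F89846) D30323 (iv D20855)
def n30324 : Q := act 8 n20825
theorem D30324 : act 8 n20825 = n30324 := rfl
theorem F128670 : act 1 n30324 = n21180 := d15_1 D30324 (iv D21180) (iv F89843)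
theorem F128671 : act 2 n30324 = n20831 := d22_1 D30324 (iv D20831) (iv F89844)
theorem F128672 : act 4 n30324 = n20827 := d33_1 D30324 (iv D20827) D20825
theorem F128673 : act 7 n30324 = n20917 := d42_1 D30324 (iv D20917) (iv F89845)
def n30325 : Q := act 7 n20826
theorem D30325 : act 7 n20826 = n30325 := rfl
theorem F128674 : act 1 n30325 = n21181 := d14_1 D30325 (iv D21181) (iv F89847)
theorem F128675 : act 2 n30325 = n20832 := d21_1 D30325 (iv D20832) (iv F89848)
def n30326 : Q := act 8 n20826
theorem D30326 : act 8 n20826 = n30326 := rfl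
theorem F128680 : act 1 n30326 = n21182 := d15_1 D30326 (iv D21182) (iv F89847)
theorem F128681 : act 2 n30326 = n20833 := d22_1 D30326 (iv D20833) (iv F89848)
theorem F128682 : act 5 n30326 = n30326 := d37_1 D30326 (iv D30326) F89850
theorem F128683 : act 6 n30326 = n20827 := d40_1 D30326 (iv D20827) D20826
def n30327 : Q := act 3 n20827
theorem D30327 : act 3 n20827 = n30327 := rfl
theorem F128684 : act 1 n30327 = n21183 := d10_1 D30327 (iv D21183) (iv F89852)
theorem F128687 : act 8 n30327 = n22732 := d28_2 D20827 D30327 (iv D22732) (iv D15617) (iv F62885)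
def n30328 : Q := act 9 n20827
theorem D30328 : act 9 n20827 = n30328 := rfl
theorem F128688 : act 1 n30328 = n21184 := d16_1 D30328 (iv D21184) (iv F89852)
theorem F128689 : act 2 n30328 = n20834 := d23_1 D30328 (iv D20834) (iv F89853)
theorem F128690 : act 5 n30328 = n20829 := d38_1 D30328 (iv D20829) (iv F89854)
theorem F128691 : act 7 n30328 = n20921 := d43_1 D30328 (iv D20921) (iv F89855)
theorem F128692 : act 8 n30328 = n20860 := d44_1 D30328 (iv D20860) (iv D14339) (iv F62887) D20827
def n30329 : Q := act 4 n20828
theorem D30329 : act 4 n20828 = n30329 := rfl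
theorem F128696 : act 8 n30329 = n22734 := d33_2 (iv F89859) D30329 (iv D22734)
def n30330 : Q := act 9 n20828
theorem D30330 : act 9 n20828 = n30330 := rfl
theorem F128697 : act 1 n30330 = n21186 := d16_1 D30330 (iv D21186) (iv F89856)
theorem F128698 : act 3 n30330 = n20829 := d29_1 D30330 (iv D20829) D20828
def n30331 : Q := act 5 n20830
theorem D30331 : act 5 n20830 = n30331 := rfl
theorem F128703 : act 9 n30331 = n20863 := d38_2 (iv F89867) D30331 (iv D20863)
def n30332 : Q := act 7 n20830
theorem D30332 : act 7 n20830 = n30332 := rfl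
theorem F128705 : act 4 n30332 = n20832 := d32_1 D30332 (iv D20832) (iv F89866)
theorem F128706 : act 6 n30332 = n20925 := d39_1 D30332 (iv D20925) (iv D14383) (iv F62893) D20830
theorem F128707 : act 9 n30332 = n20864 := d43_2 (iv F89867) D30332 (iv D20864)
def n30333 : Q := act 8 n20830
theorem D30333 : act 8 n20830 = n30333 := rfl
theorem F128709 : act 4 n30333 = n20833 := d33_1 D30333 (iv D20833) (iv F89866)
theorem F128710 : act 6 n30333 = n20831 := d40_1 D30333 (iv D20831) D20830
def n30334 : Q := act 3 n20831
theorem D30334 : act 3 n20831 = n30334 := rfl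
theorem F128712 : act 7 n30334 = n20927 := d27_2 (iv F89870) D30334 (iv D20927)
def n30335 : Q := act 9 n20831
theorem D30335 : act 9 n20831 = n30335 := rfl
theorem F128713 : act 1 n30335 = n20839 := d16_1 D30335 (iv D20839) (iv F89868)
theorem F128714 : act 4 n30335 = n20834 := d34_1 D30335 (iv D20834) (iv F89869)
theorem F128715 : act 7 n30335 = n20928 := d43_1 D30335 (iv D20928) (iv F89870)
theorem F128716 : act 8 n30335 = n20867 := d44_1 D30335 (iv D20867) (iv D14343) (iv F62894) D20831
def n30336 : Q := act 8 n20832
theorem D30336 : act 8 n20832 = n30336 := rfl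
theorem F128719 : act 6 n30336 = n20929 := d40_1 D30336 (iv D20929) (iv F89874)
theorem F128720 : act 7 n30336 = n20833 := d42_1 D30336 (iv D20833) D20832
def n30337 : Q := act 9 n20833
theorem D30337 : act 9 n20833 = n30337 := rfl
theorem F128721 : act 1 n30337 = n20841 := d16_1 D30337 (iv D20841) (iv F89876)
theorem F128722 : act 5 n30337 = n30337 := d38_1 D30337 (iv D30337) F89877
theorem F128723 : act 6 n30337 = n20834 := d41_1 D30337 (iv D20834) (iv F89878)
theorem F128724 : act 8 n30337 = n20869 := d44_1 D30337 (iv D20869) (iv D14345) (iv F62898) D20833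
def n30338 : Q := act 7 n20835
theorem D30338 : act 7 n20835 = n30338 := rfl
theorem F128728 : act 5 n30338 = n20836 := d36_1 D30338 (iv D20836) D20835
theorem F128729 : act 9 n30338 = n20870 := d43_2 (iv F89886) D30338 (iv D20870)
def n30339 : Q := act 8 n20835
theorem D30339 : act 8 n20835 = n30339 := rfl
def n30340 : Q := act 8 n20836
theorem D30340 : act 8 n20836 = n30340 := rfl
theorem F128737 : act 6 n30340 = n20933 := d40_1 D30340 (iv D20933) (iv F89890)
theorem F128738 : act 7 n30340 = n20837 := d42_1 D30340 (iv D20837) D20836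
def n30342 : Q := act 9 n20837
theorem D30342 : act 9 n20837 = n30342 := rfl
theorem F128743 : act 4 n30342 = n20841 := d34_1 D30342 (iv D20841) (iv F89894)
theorem F128745 : act 8 n30342 = n20874 := d44_1 D30342 (iv D20874) (iv D14349) (iv F62914) D20837
def n30343 : Q := act 2 n20838
theorem D30343 : act 2 n20838 = n30343 := rfl
theorem F128747 : act 3 n30343 = n21199 := d17_2 D20838 D30343 (iv D21199) (iv D14568) (iv F62916)
def n30344 : Q := act 9 n20838
theorem D30344 : act 9 n20838 = n30344 := rfl
theorem F128751 : act 7 n30344 = n20937 := d43_1 D30344 (iv D20937) (iv F89897)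
def n30345 : Q := act 9 n20840
theorem D30345 : act 9 n20840 = n30345 := rfl
theorem F128755 : act 6 n30345 = n20938 := d41_1 D30345 (iv D20938) (iv F89906)
theorem F128757 : act 8 n30345 = n20877 := d44_1 D30345 (iv D20877) (iv D14352) (iv F62924) D20840
def n30346 : Q := act 4 n20842
theorem D30346 : act 4 n20842 = n30346 := rfl
theorem F128758 : act 0 n30346 = n21202 := d3_1 D30346 (iv D21202) (iv F89913)
theorem F128759 : act 1 n30346 = n20844 := d11_1 D30346 (iv D20844) (iv F89914)
theorem F128760 : act 2 n30346 = n30346 := d18_1 D30346 (iv D30346) F89915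
theorem F128761 : act 7 n30346 = n20939 := d32_2 (iv F89917) D30346 (iv D20939)
def n30347 : Q := act 6 n20842
theorem D30347 : act 6 n20842 = n30347 := rfl
theorem F128762 : act 0 n30347 = n21203 := d5_1 D30347 (iv D21203) (iv F89913)
theorem F128763 : act 1 n30347 = n20845 := d13_1 D30347 (iv D20845) (iv F89914)
def n30348 : Q := act 8 n20842
theorem D30348 : act 8 n20842 = n30348 := rfl
theorem F128767 : act 0 n30348 = n21204 := d7_1 D30348 (iv D21204) (iv F89913)
theorem F128768 : act 1 n30348 = n20846 := d15_1 D30348 (iv D20846) (iv F89914)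
theorem F128769 : act 2 n30348 = n30348 := d22_1 D30348 (iv D30348) F89915
theorem F128770 : act 5 n30348 = n20843 := d37_1 D30348 (iv D20843) D20842
theorem F128771 : act 7 n30348 = n20941 := d42_1 D30348 (iv D20941) (iv F89917)
def n30349 : Q := act 3 n20843
theorem D30349 : act 3 n20843 = n30349 := rfl
theorem F128773 : act 1 n30349 = n20847 := d10_1 D30349 (iv D20847) (iv F89919)
theorem F128776 : act 8 n30349 = n22754 := d28_2 D20843 D30349 (iv D22754) (iv D15633) (iv F62936)
def n30350 : Q := act 9 n20843
theorem D30350 : act 9 n20843 = n30350 := rfl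
theorem F128777 : act 0 n30350 = n21206 := d8_1 D30350 (iv D21206) (iv F89918)
theorem F128778 : act 1 n30350 = n20848 := d16_1 D30350 (iv D20848) (iv F89919)
theorem F128779 : act 2 n30350 = n30350 := d23_1 D30350 (iv D30350) F89920
theorem F128780 : act 6 n30350 = n30350 := d41_1 D30350 (iv D30350) F89921
theorem F128781 : act 7 n30350 = n20943 := d43_1 D30350 (iv D20943) (iv F89922)
def n30351 : Q := act 3 n20844
theorem D30351 : act 3 n20844 = n30351 := rfl
theorem F128782 : act 0 n30351 = n20854 := d2_1 D30351 (iv D20854) (iv F89923)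
theorem F128783 : act 4 n30351 = n22756 := d24_2 D20844 D30351 (iv D22756) (iv D15634) (iv F62941)
theorem F128784 : act 7 n30351 = n20944 := d27_2 (iv F89925) D30351 (iv D20944)
def n30352 : Q := act 6 n20844
theorem D30352 : act 6 n20844 = n30352 := rfl
theorem F128785 : act 0 n30352 = n20855 := d5_1 D30352 (iv D20855) (iv F89923)
theorem F128786 : act 2 n30352 = n20849 := d20_1 D30352 (iv D20849) (iv F89924)
theorem F128787 : act 4 n30352 = n20845 := d31_1 D30352 (iv D20845) D20844
def n30353 : Q := act 8 n20844
theorem D30353 : act 8 n20844 = n30353 := rfl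
theorem F128788 : act 0 n30353 = n20856 := d7_1 D30353 (iv D20856) (iv F89923)
theorem F128789 : act 2 n30353 = n20850 := d22_1 D30353 (iv D20850) (iv F89924)
theorem F128790 : act 4 n30353 = n20846 := d33_1 D30353 (iv D20846) D20844
theorem F128791 : act 7 n30353 = n20946 := d42_1 D30353 (iv D20946) (iv F89925)
def n30354 : Q := act 7 n20845
theorem D30354 : act 7 n20845 = n30354 := rfl
theorem F128793 : act 2 n30354 = n20851 := d21_1 D30354 (iv D20851) (iv F89927)
def n30355 : Q := act 8 n20845
theorem D30355 : act 8 n20845 = n30355 := rfl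
theorem F128797 : act 0 n30355 = n20858 := d7_1 D30355 (iv D20858) (iv F89926)
theorem F128798 : act 2 n30355 = n20852 := d22_1 D30355 (iv D20852) (iv F89927)
theorem F128799 : act 5 n30355 = n30355 := d37_1 D30355 (iv D30355) F89929
theorem F128800 : act 6 n30355 = n20846 := d40_1 D30355 (iv D20846) D20845
def n30356 : Q := act 3 n20846
theorem D30356 : act 3 n20846 = n30356 := rfl
theorem F128801 : act 0 n30356 = n20859 := d2_1 D30356 (iv D20859) (iv F89930)
theorem F128802 : act 2 n30356 = n30356 := d17_1 D30356 (iv D30356) F89931 F62956 (iv F89931)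
theorem F128803 : act 5 n30356 = n20847 := d25_2 (iv F89932) D30356 (iv D20847)
theorem F128804 : act 7 n30356 = n20949 := d27_2 (iv F89933) D30356 (iv D20949)
theorem F128805 : act 8 n30356 = n22761 := d28_2 D20846 D30356 (iv D22761) (iv D15636) (iv F62941)
def n30357 : Q := act 9 n20846
theorem D30357 : act 9 n20846 = n30357 := rfl
theorem F128806 : act 0 n30357 = n20860 := d8_1 D30357 (iv D20860) (iv F89930)
theorem F128807 : act 2 n30357 = n20853 := d23_1 D30357 (iv D20853) (iv F89931)
theorem F128808 : act 5 n30357 = n20848 := d38_1 D30357 (iv D20848) (iv F89932)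
theorem F128809 : act 7 n30357 = n20950 := d43_1 D30357 (iv D20950) (iv F89933)
def n30358 : Q := act 4 n20847
theorem D30358 : act 4 n20847 = n30358 := rfl
theorem F128810 : act 0 n30358 = n20861 := d3_1 D30358 (iv D20861) (iv F89934)
def n30359 : Q := act 9 n20847
theorem D30359 : act 9 n20847 = n30359 := rfl
theorem F128815 : act 0 n30359 = n20862 := d8_1 D30359 (iv D20862) (iv F89934)
theorem F128816 : act 2 n30359 = n30359 := d23_1 D30359 (iv D30359) F89935
theorem F128817 : act 3 n30359 = n20848 := d29_1 D30359 (iv D20848) D20847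
theorem F128818 : act 6 n30359 = n30359 := d41_1 D30359 (iv D30359) F89936
theorem F128819 : act 7 n30359 = n20952 := d43_1 D30359 (iv D20952) (iv F89937)
def n30360 : Q := act 5 n20849
theorem D30360 : act 5 n20849 = n30360 := rfl
theorem F128820 : act 0 n30360 = n20863 := d4_1 D30360 (iv D20863) (iv F89943)
theorem F128821 : act 1 n30360 = n30360 := d12_1 D30360 (iv D30360) F89944
theorem F128822 : act 4 n30360 = n30360 := d30_1 D30360 (iv D30360) F89945 F62953 (iv F89945)
def n30361 : Q := act 7 n20849
theorem D30361 : act 7 n20849 = n30361 := rfl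
theorem F128823 : act 0 n30361 = n20864 := d6_1 D30361 (iv D20864) (iv F89943)
theorem F128825 : act 4 n30361 = n20851 := d32_1 D30361 (iv D20851) (iv F89945)
theorem F128826 : act 6 n30361 = n20954 := d39_1 D30361 (iv D20954) (iv D14402) (iv F62949) D20849
def n30362 : Q := act 8 n20849
theorem D30362 : act 8 n20849 = n30362 := rfl
theorem F128827 : act 0 n30362 = n20865 := d7_1 D30362 (iv D20865) (iv F89943)
theorem F128828 : act 1 n30362 = n30362 := d15_1 D30362 (iv D30362) F89944
theorem F128829 : act 4 n30362 = n20852 := d33_1 D30362 (iv D20852) (iv F89945)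
theorem F128830 : act 6 n30362 = n20850 := d40_1 D30362 (iv D20850) D20849
def n30363 : Q := act 3 n20850
theorem D30363 : act 3 n20850 = n30363 := rfl
theorem F128831 : act 0 n30363 = n20866 := d2_1 D30363 (iv D20866) (iv F89946)
theorem F128832 : act 1 n30363 = n30363 := d10_1 D30363 (iv D30363) F89947
theorem F128833 : act 4 n30363 = n30363 := d24_2 (iv F89948) D30363 (iv D30363) F89948 F62956
theorem F128834 : act 7 n30363 = n20956 := d27_2 (iv F89949) D30363 (iv D20956)
def n30364 : Q := act 9 n20850
theorem D30364 : act 9 n20850 = n30364 := rfl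
theorem F128835 : act 0 n30364 = n20867 := d8_1 D30364 (iv D20867) (iv F89946)
theorem F128836 : act 1 n30364 = n30364 := d16_1 D30364 (iv D30364) F89947
theorem F128837 : act 4 n30364 = n20853 := d34_1 D30364 (iv D20853) (iv F89948)
theorem F128838 : act 7 n30364 = n20957 := d43_1 D30364 (iv D20957) (iv F89949)
def n30365 : Q := act 8 n20851
theorem D30365 : act 8 n20851 = n30365 := rfl
theorem F128839 : act 0 n30365 = n20868 := d7_1 D30365 (iv D20868) (iv F89950)
theorem F128840 : act 1 n30365 = n30365 := d15_1 D30365 (iv D30365) F89951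
theorem F128841 : act 3 n30365 = n30365 := d28_1 D30365 (iv D30365) F89952 F62969 (iv F89952)
theorem F128842 : act 5 n30365 = n30365 := d37_1 D30365 (iv D30365) F89953
theorem F128843 : act 6 n30365 = n20958 := d40_1 D30365 (iv D20958) (iv F89954)
theorem F128844 : act 7 n30365 = n20852 := d42_1 D30365 (iv D20852) D20851
def n30366 : Q := act 9 n20852
theorem D30366 : act 9 n20852 = n30366 := rfl
theorem F128845 : act 0 n30366 = n20869 := d8_1 D30366 (iv D20869) (iv F89955)
theorem F128846 : act 1 n30366 = n30366 := d16_1 D30366 (iv D30366) F89956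
theorem F128847 : act 3 n30366 = n30366 := d29_1 D30366 (iv D30366) F89957
theorem F128848 : act 5 n30366 = n30366 := d38_1 D30366 (iv D30366) F89958
theorem F128849 : act 6 n30366 = n20853 := d41_1 D30366 (iv D20853) (iv F89959)
def n30367 : Q := act 6 n20854
theorem D30367 : act 6 n20854 = n30367 := rfl
theorem F128850 : act 1 n30367 = n21223 := d13_1 D30367 (iv D21223) (iv F89965)
theorem F128851 : act 3 n30367 = n20855 := d26_1 D30367 (iv D20855) D20854
theorem F128852 : act 4 n30367 = n22772 := d31_1 D30367 (iv D22772) (iv F89966)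
def n30368 : Q := act 8 n20854
theorem D30368 : act 8 n20854 = n30368 := rfl
theorem F128853 : act 1 n30368 = n21224 := d15_1 D30368 (iv D21224) (iv F89965)
theorem F128855 : act 7 n30368 = n20961 := d42_1 D30368 (iv D20961) (iv F89967)
def n30369 : Q := act 5 n20855
theorem D30369 : act 5 n20855 = n30369 := rfl
theorem F128856 : act 1 n30369 = n21225 := d12_1 D30369 (iv D21225) (iv F89968)
theorem F128857 : act 2 n30369 = n20863 := d19_1 D30369 (iv D20863) (iv F89969)
theorem F128858 : act 4 n30369 = n30369 := d30_1 D30369 (iv D30369) F89970 F62976 (iv F89970)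
def n30370 : Q := act 7 n20855
theorem D30370 : act 7 n20855 = n30370 := rfl
theorem F128859 : act 1 n30370 = n21226 := d14_1 D30370 (iv D21226) (iv F89968)
def n30371 : Q := act 8 n20855
theorem D30371 : act 8 n20855 = n30371 := rfl
theorem F128863 : act 1 n30371 = n21227 := d15_1 D30371 (iv D21227) (iv F89968)
theorem F128864 : act 2 n30371 = n20865 := d22_1 D30371 (iv D20865) (iv F89969)
theorem F128865 : act 4 n30371 = n20858 := d33_1 D30371 (iv D20858) (iv F89970)
theorem F128866 : act 6 n30371 = n20856 := d40_1 D30371 (iv D20856) D20855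
def n30372 : Q := act 3 n20856
theorem D30372 : act 3 n20856 = n30372 := rfl
theorem F128867 : act 1 n30372 = n21228 := d10_1 D30372 (iv D21228) (iv F89971)
theorem F128868 : act 7 n30372 = n20965 := d27_2 (iv F89974) D30372 (iv D20965)
def n30373 : Q := act 9 n20856
theorem D30373 : act 9 n20856 = n30373 := rfl
theorem F128869 : act 1 n30373 = n21229 := d16_1 D30373 (iv D21229) (iv F89971)
theorem F128870 : act 2 n30373 = n20867 := d23_1 D30373 (iv D20867) (iv F89972)
theorem F128871 : act 4 n30373 = n20860 := d34_1 D30373 (iv D20860) (iv F89973)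
theorem F128872 : act 7 n30373 = n20966 := d43_1 D30373 (iv D20966) (iv F89974)
def n30374 : Q := act 8 n20857
theorem D30374 : act 8 n20857 = n30374 := rfl
theorem F128873 : act 1 n30374 = n21230 := d15_1 D30374 (iv D21230) (iv F89975)
theorem F128877 : act 7 n30374 = n20858 := d42_1 D30374 (iv D20858) D20857
def n30376 : Q := act 9 n20858
theorem D30376 : act 9 n20858 = n30376 := rfl
theorem F128883 : act 1 n30376 = n21232 := d16_1 D30376 (iv D21232) (iv F89980)
theorem F128884 : act 2 n30376 = n20869 := d23_1 D30376 (iv D20869) (iv F89981)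
theorem F128885 : act 5 n30376 = n30376 := d38_1 D30376 (iv D30376) F89982
theorem F128886 : act 6 n30376 = n20860 := d41_1 D30376 (iv D20860) (iv F89983)
def n30377 : Q := act 4 n20859
theorem D30377 : act 4 n20859 = n30377 := rfl
theorem F128887 : act 1 n30377 = n21233 := d11_1 D30377 (iv D21233) (iv F89984)
theorem F128888 : act 2 n30377 = n30377 := d18_1 D30377 (iv D30377) F89985
theorem F128889 : act 7 n30377 = n20970 := d32_2 (iv F89987) D30377 (iv D20970)
def n30378 : Q := act 9 n20859
theorem D30378 : act 9 n20859 = n30378 := rfl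
theorem F128891 : act 1 n30378 = n21234 := d16_1 D30378 (iv D21234) (iv F89984)
theorem F128892 : act 2 n30378 = n30378 := d23_1 D30378 (iv D30378) F89985
theorem F128893 : act 3 n30378 = n20860 := d29_1 D30378 (iv D20860) D20859
theorem F128894 : act 5 n30378 = n20862 := d38_1 D30378 (iv D20862) (iv F89986)
theorem F128895 : act 7 n30378 = n20971 := d43_1 D30378 (iv D20971) (iv F89987)
def n30379 : Q := act 5 n20861
theorem D30379 : act 5 n20861 = n30379 := rfl
theorem F128896 : act 1 n30379 = n21235 := d12_1 D30379 (iv D21235) (iv F89993)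
theorem F128897 : act 2 n30379 = n30379 := d19_1 D30379 (iv D30379) F89994
theorem F128898 : act 7 n30379 = n20972 := d36_2 (iv F89996) D30379 (iv D20972)
theorem F128899 : act 8 n30379 = n22784 := d37_2 (iv F89997) D30379 (iv D22784)
def n30380 : Q := act 9 n20861
theorem D30380 : act 9 n20861 = n30380 := rfl
theorem F128900 : act 1 n30380 = n21236 := d16_1 D30380 (iv D21236) (iv F89993)
theorem F128901 : act 2 n30380 = n30380 := d23_1 D30380 (iv D30380) F89994
theorem F128902 : act 4 n30380 = n20862 := d34_1 D30380 (iv D20862) D20861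
theorem F128903 : act 6 n30380 = n30380 := d41_1 D30380 (iv D30380) F89995
theorem F128904 : act 7 n30380 = n20973 := d43_1 D30380 (iv D20973) (iv F89996)
def n30382 : Q := act 7 n20863
theorem D30382 : act 7 n20863 = n30382 := rfl
theorem F128912 : act 5 n30382 = n20864 := d36_1 D30382 (iv D20864) D20863
def n30383 : Q := act 8 n20863
theorem D30383 : act 8 n20863 = n30383 := rfl
theorem F128913 : act 1 n30383 = n20871 := d15_1 D30383 (iv D20871) (iv F90003)
theorem F128914 : act 4 n30383 = n30383 := d33_1 D30383 (iv D30383) F90004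
theorem F128915 : act 5 n30383 = n20865 := d37_1 D30383 (iv D20865) D20863
def n30384 : Q := act 8 n20864
theorem D30384 : act 8 n20864 = n30384 := rfl
theorem F128916 : act 1 n30384 = n20872 := d15_1 D30384 (iv D20872) (iv F90005)
theorem F128917 : act 4 n30384 = n20868 := d33_1 D30384 (iv D20868) (iv F90006)
theorem F128918 : act 6 n30384 = n20977 := d40_1 D30384 (iv D20977) (iv F90007)
theorem F128919 : act 7 n30384 = n20865 := d42_1 D30384 (iv D20865) D20864
def n30385 : Q := act 3 n20865
theorem D30385 : act 3 n20865 = n30385 := rfl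
theorem F128920 : act 1 n30385 = n20873 := d10_1 D30385 (iv D20873) (iv F90008)
theorem F128921 : act 4 n30385 = n30385 := d24_2 (iv F90009) D30385 (iv D30385) F90009 F63000
theorem F128922 : act 6 n30385 = n20866 := d26_2 (iv F90010) D30385 (iv D20866)
def n30386 : Q := act 9 n20865
theorem D30386 : act 9 n20865 = n30386 := rfl
theorem F128923 : act 1 n30386 = n20874 := d16_1 D30386 (iv D20874) (iv F90008)
theorem F128924 : act 4 n30386 = n20869 := d34_1 D30386 (iv D20869) (iv F90009)
theorem F128925 : act 6 n30386 = n20867 := d41_1 D30386 (iv D20867) (iv F90010)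
def n30387 : Q := act 2 n20866
theorem D30387 : act 2 n20866 = n30387 := rfl
theorem F128926 : act 4 n30387 = n30387 := d18_2 F90012 D30387 (iv D30387)
theorem F128927 : act 7 n30387 = n20980 := d21_2 (iv F90013) D30387 (iv D20980)
def n30388 : Q := act 9 n20866
theorem D30388 : act 9 n20866 = n30388 := rfl
theorem F128928 : act 1 n30388 = n20876 := d16_1 D30388 (iv D20876) (iv F90011)
theorem F128929 : act 3 n30388 = n20867 := d29_1 D30388 (iv D20867) D20866
theorem F128930 : act 4 n30388 = n30388 := d34_1 D30388 (iv D30388) F90012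
theorem F128931 : act 7 n30388 = n20981 := d43_1 D30388 (iv D20981) (iv F90013)
def n30389 : Q := act 9 n20868
theorem D30389 : act 9 n20868 = n30389 := rfl
theorem F128932 : act 1 n30389 = n20877 := d16_1 D30389 (iv D20877) (iv F90017)
theorem F128933 : act 3 n30389 = n30389 := d29_1 D30389 (iv D30389) F90018
theorem F128934 : act 5 n30389 = n30389 := d38_1 D30389 (iv D30389) F90019
theorem F128935 : act 6 n30389 = n20982 := d41_1 D30389 (iv D20982) (iv F90020)
theorem F128936 : act 7 n30389 = n20869 := d43_1 D30389 (iv D20869) (iv F90021)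
def n30390 : Q := act 6 n20870
theorem D30390 : act 6 n20870 = n30390 := rfl
theorem F128938 : act 2 n30390 = n21246 := d20_1 D30390 (iv D21246) (iv F90027)
theorem F128940 : act 5 n30390 = n20983 := d35_1 D30390 (iv D20983) F63294 (iv F63013) (iv F90029)
def n30391 : Q := act 8 n20870
theorem D30391 : act 8 n20870 = n30391 := rfl
theorem F128944 : act 5 n30391 = n20872 := d37_1 D30391 (iv D20872) (iv F90029)
theorem F128945 : act 7 n30391 = n20871 := d42_1 D30391 (iv D20871) D20870
def n30392 : Q := act 3 n20871
theorem D30392 : act 3 n20871 = n30392 := rfl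
theorem F128947 : act 5 n30392 = n20873 := d25_2 (iv F90033) D30392 (iv D20873)
def n30393 : Q := act 9 n20871
theorem D30393 : act 9 n20871 = n30393 := rfl
theorem F128948 : act 0 n30393 = n30393 := d8_1 D30393 (iv D30393) F90030
theorem F128949 : act 2 n30393 = n21249 := d23_1 D30393 (iv D21249) (iv F90031)
theorem F128950 : act 4 n30393 = n30393 := d34_1 D30393 (iv D30393) F90032
theorem F128951 : act 5 n30393 = n20874 := d38_1 D30393 (iv D20874) (iv F90033)
def n30394 : Q := act 3 n20872
theorem D30394 : act 3 n20872 = n30394 := rfl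
theorem F128952 : act 0 n30394 = n30394 := d2_1 D30394 (iv D30394) F90034
theorem F128953 : act 4 n30394 = n30394 := d24_2 (iv F90036) D30394 (iv D30394) F90036 F63027
theorem F128954 : act 6 n30394 = n20987 := d26_2 (iv F90037) D30394 (iv D20987)
theorem F128955 : act 7 n30394 = n20873 := d27_2 (iv F90038) D30394 (iv D20873)
def n30395 : Q := act 9 n20872
theorem D30395 : act 9 n20872 = n30395 := rfl
theorem F128958 : act 4 n30395 = n20877 := d34_1 D30395 (iv D20877) (iv F90036)
theorem F128959 : act 6 n30395 = n20988 := d41_1 D30395 (iv D20988) (iv F90037)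
def n30396 : Q := act 2 n20873
theorem D30396 : act 2 n20873 = n30396 := rfl
theorem F128962 : act 3 n30396 = n21252 := d17_2 D20873 D30396 (iv D21252) (iv D14603) (iv F63015)
theorem F128964 : act 6 n30396 = n20875 := d20_2 (iv F90041) D30396 (iv D20875)
def n30397 : Q := act 9 n20873
theorem D30397 : act 9 n20873 = n30397 := rfl
theorem F128965 : act 0 n30397 = n30397 := d8_1 D30397 (iv D30397) F90039
theorem F128966 : act 3 n30397 = n20874 := d29_1 D30397 (iv D20874) D20873
theorem F128967 : act 4 n30397 = n30397 := d34_1 D30397 (iv D30397) F90040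
theorem F128968 : act 6 n30397 = n20876 := d41_1 D30397 (iv D20876) (iv F90041)
def n30398 : Q := act 1 n20875
theorem D30398 : act 1 n20875 = n30398 := rfl
theorem F128969 : act 3 n30398 = n21254 := d10_2 (iv F90047) D30398 (iv D21254)
theorem F128970 : act 4 n30398 = n30398 := d11_2 F90048 D30398 (iv D30398)
theorem F128971 : act 7 n30398 = n20991 := d14_2 (iv F90049) D30398 (iv D20991)
def n30399 : Q := act 9 n20875
theorem D30399 : act 9 n20875 = n30399 := rfl
theorem F128972 : act 0 n30399 = n30399 := d8_1 D30399 (iv D30399) F90046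
theorem F128973 : act 2 n30399 = n20876 := d23_1 D30399 (iv D20876) D20875
theorem F128974 : act 3 n30399 = n21255 := d29_1 D30399 (iv D21255) (iv F90047)
theorem F128975 : act 4 n30399 = n30399 := d34_1 D30399 (iv D30399) F90048
theorem F128976 : act 7 n30399 = n20992 := d43_1 D30399 (iv D20992) (iv F90049)
def n30400 : Q := act 8 n20876
theorem D30400 : act 8 n20876 = n30400 := rfl
theorem F128979 : act 7 n30400 = n20993 := d42_1 D30400 (iv D20993) (iv F90053)
def n30424 : Q := act 8 n20891
theorem D30424 : act 8 n20891 = n30424 := rfl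
theorem F129079 : act 1 n30424 = n20898 := d15_1 D30424 (iv D20898) (iv F90120)
theorem F129080 : act 4 n30424 = n20894 := d33_1 D30424 (iv D20894) (iv F90121)
def n30425 : Q := act 3 n20892
theorem D30425 : act 3 n20892 = n30425 := rfl
theorem F129082 : act 1 n30425 = n20899 := d10_1 D30425 (iv D20899) (iv F90123)
theorem F129083 : act 4 n30425 = n20927 := d24_2 (iv F90124) D30425 (iv D20927) F63161 (iv F63072)
def n30426 : Q := act 9 n20892
theorem D30426 : act 9 n20892 = n30426 := rfl
theorem F129085 : act 1 n30426 = n20900 := d16_1 D30426 (iv D20900) (iv F90123)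
def n30427 : Q := act 8 n20893
theorem D30427 : act 8 n20893 = n30427 := rfl
theorem F129089 : act 1 n30427 = n20901 := d15_1 D30427 (iv D20901) (iv F90126)
theorem F129090 : act 3 n30427 = n20929 := d28_1 D30427 (iv D20929) F63163 (iv F63082) (iv F90127)
def n30428 : Q := act 9 n20894
theorem D30428 : act 9 n20894 = n30428 := rfl
theorem F129093 : act 1 n30428 = n20902 := d16_1 D30428 (iv D20902) (iv F90130)
theorem F129094 : act 3 n30428 = n20930 := d29_1 D30428 (iv D20930) (iv F90131)
def n30429 : Q := act 7 n20896
theorem D30429 : act 7 n20896 = n30429 := rfl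
theorem F129100 : act 4 n30429 = n21022 := d32_1 D30429 (iv D21022) (iv F90140)
theorem F129101 : act 5 n30429 = n20897 := d36_1 D30429 (iv D20897) D20896
def n30431 : Q := act 8 n20897
theorem D30431 : act 8 n20897 = n30431 := rfl
theorem F129110 : act 4 n30431 = n20901 := d33_1 D30431 (iv D20901) (iv F90145)
def n30432 : Q := act 3 n20898
theorem D30432 : act 3 n20898 = n30432 := rfl
theorem F129113 : act 4 n30432 = n20934 := d24_2 (iv F90149) D30432 (iv D20934) F63182 (iv F63099)
def n30433 : Q := act 9 n20898
theorem D30433 : act 9 n20898 = n30433 := rfl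
def n30434 : Q := act 2 n20899
theorem D30434 : act 2 n20899 = n30434 := rfl
theorem F129122 : act 4 n30434 = n20936 := d18_2 (iv F90152) D30434 (iv D20936)
def n30435 : Q := act 9 n20899
theorem D30435 : act 9 n20899 = n30435 := rfl
theorem F129125 : act 3 n30435 = n20900 := d29_1 D30435 (iv D20900) D20899
theorem F129126 : act 4 n30435 = n20937 := d34_1 D30435 (iv D20937) (iv F90152)
def n30436 : Q := act 9 n20901
theorem D30436 : act 9 n20901 = n30436 := rfl
theorem F129131 : act 5 n30436 = n21029 := d38_1 D30436 (iv D21029) (iv F90162)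
def n30437 : Q := act 4 n20903
theorem D30437 : act 4 n20903 = n30437 := rfl
theorem F129134 : act 0 n30437 = n21257 := d3_1 D30437 (iv D21257) (iv F90170)
theorem F129135 : act 1 n30437 = n20905 := d11_1 D30437 (iv D20905) (iv F90171)
theorem F129137 : act 9 n30437 = n20939 := d34_2 (iv F90174) D30437 (iv D20939)
def n30438 : Q := act 6 n20903
theorem D30438 : act 6 n20903 = n30438 := rfl
theorem F129138 : act 0 n30438 = n21258 := d5_1 D30438 (iv D21258) (iv F90170)
theorem F129139 : act 1 n30438 = n20906 := d13_1 D30438 (iv D20906) (iv F90171)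
theorem F129142 : act 5 n30438 = n21031 := d35_1 D30438 (iv D21031) (iv D14456) (iv F63110) D20903
theorem F129143 : act 9 n30438 = n20940 := d41_2 (iv F90174) D30438 (iv D20940)
def n30439 : Q := act 8 n20903
theorem D30439 : act 8 n20903 = n30439 := rfl
def n30440 : Q := act 3 n20904
theorem D30440 : act 3 n20904 = n30440 := rfl
theorem F129151 : act 8 n30440 = n22870 := d28_2 D20904 D30440 (iv D22870) (iv D15710) (iv F63109)
def n30441 : Q := act 9 n20904
theorem D30441 : act 9 n20904 = n30441 := rfl
theorem F129156 : act 8 n30441 = n20943 := d44_1 D30441 (iv D20943) (iv D14396) (iv F63111) D20904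
def n30442 : Q := act 3 n20905
theorem D30442 : act 3 n20905 = n30442 := rfl
theorem F129157 : act 0 n30442 = n20915 := d2_1 D30442 (iv D20915) (iv F90179)
theorem F129159 : act 9 n30442 = n20944 := d29_2 (iv F90181) D30442 (iv D20944)
def n30443 : Q := act 6 n20905
theorem D30443 : act 6 n20905 = n30443 := rfl
theorem F129160 : act 0 n30443 = n20916 := d5_1 D30443 (iv D20916) (iv F90179)
theorem F129162 : act 4 n30443 = n20906 := d31_1 D30443 (iv D20906) D20905
theorem F129163 : act 9 n30443 = n20945 := d41_2 (iv F90181) D30443 (iv D20945)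
def n30444 : Q := act 8 n20905
theorem D30444 : act 8 n20905 = n30444 := rfl
theorem F129164 : act 0 n30444 = n20917 := d7_1 D30444 (iv D20917) (iv F90179)
theorem F129166 : act 4 n30444 = n20907 := d33_1 D30444 (iv D20907) D20905
def n30445 : Q := act 7 n20906
theorem D30445 : act 7 n20906 = n30445 := rfl
theorem F129167 : act 0 n30445 = n20918 := d6_1 D30445 (iv D20918) (iv F90182)
theorem F129168 : act 2 n30445 = n20912 := d21_1 D30445 (iv D20912) (iv F90183)
theorem F129171 : act 9 n30445 = n20947 := d43_2 (iv F90186) D30445 (iv D20947)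
def n30446 : Q := act 8 n20906
theorem D30446 : act 8 n20906 = n30446 := rfl
theorem F129172 : act 0 n30446 = n20919 := d7_1 D30446 (iv D20919) (iv F90182)
def n30447 : Q := act 3 n20907
theorem D30447 : act 3 n20907 = n30447 := rfl
theorem F129178 : act 8 n30447 = n22877 := d28_2 D20907 D30447 (iv D22877) (iv D15713) (iv F63114)
def n30448 : Q := act 9 n20907
theorem D30448 : act 9 n20907 = n30448 := rfl
theorem F129179 : act 0 n30448 = n20921 := d8_1 D30448 (iv D20921) (iv F90187)
theorem F129182 : act 8 n30448 = n20950 := d44_1 D30448 (iv D20950) (iv D14399) (iv F63115) D20907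
def n30449 : Q := act 4 n20908
theorem D30449 : act 4 n20908 = n30449 := rfl
theorem F129185 : act 8 n30449 = n22879 := d33_2 (iv F90192) D30449 (iv D22879)
def n30451 : Q := act 5 n20910
theorem D30451 : act 5 n20910 = n30451 := rfl
theorem F129189 : act 0 n30451 = n20924 := d4_1 D30451 (iv D20924) (iv F90197)
theorem F129191 : act 4 n30451 = n21044 := d30_1 D30451 (iv D21044) F63474 (iv F63125) (iv F90199)
theorem F129192 : act 9 n30451 = n20953 := d38_2 (iv F90200) D30451 (iv D20953)
def n30452 : Q := act 7 n20910
theorem D30452 : act 7 n20910 = n30452 := rfl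
theorem F129193 : act 0 n30452 = n20925 := d6_1 D30452 (iv D20925) (iv F90197)
theorem F129195 : act 4 n30452 = n20912 := d32_1 D30452 (iv D20912) (iv F90199)
theorem F129196 : act 9 n30452 = n20954 := d43_2 (iv F90200) D30452 (iv D20954)
def n30453 : Q := act 8 n20910
theorem D30453 : act 8 n20910 = n30453 := rfl
theorem F129197 : act 0 n30453 = n20926 := d7_1 D30453 (iv D20926) (iv F90197)
def n30454 : Q := act 3 n20911
theorem D30454 : act 3 n20911 = n30454 := rfl
theorem F129201 : act 0 n30454 = n20927 := d2_1 D30454 (iv D20927) (iv F90201)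
def n30455 : Q := act 9 n20911
theorem D30455 : act 9 n20911 = n30455 := rfl
theorem F129203 : act 0 n30455 = n20928 := d8_1 D30455 (iv D20928) (iv F90201)
theorem F129206 : act 8 n30455 = n20957 := d44_1 D30455 (iv D20957) (iv D14403) (iv F63121) D20911
def n30456 : Q := act 8 n20912
theorem D30456 : act 8 n20912 = n30456 := rfl
theorem F129207 : act 0 n30456 = n20929 := d7_1 D30456 (iv D20929) (iv F90204)
def n30457 : Q := act 9 n20913
theorem D30457 : act 9 n20913 = n30457 := rfl
theorem F129211 : act 0 n30457 = n20930 := d8_1 D30457 (iv D20930) (iv F90209)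
theorem F129215 : act 8 n30457 = n20959 := d44_1 D30457 (iv D20959) (iv D14405) (iv F63126) D20913
def n30458 : Q := act 6 n20915
theorem D30458 : act 6 n20915 = n30458 := rfl
theorem F129216 : act 1 n30458 = n21278 := d13_1 D30458 (iv D21278) (iv F90217)
theorem F129217 : act 3 n30458 = n20916 := d26_1 D30458 (iv D20916) D20915
theorem F129219 : act 9 n30458 = n20960 := d41_2 (iv F90219) D30458 (iv D20960)
def n30459 : Q := act 8 n20915
theorem D30459 : act 8 n20915 = n30459 := rfl
theorem F129220 : act 1 n30459 = n21279 := d15_1 D30459 (iv D21279) (iv F90217)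
theorem F129221 : act 4 n30459 = n22889 := d33_1 D30459 (iv D22889) (iv F90218)
def n30460 : Q := act 5 n20916
theorem D30460 : act 5 n20916 = n30460 := rfl
theorem F129222 : act 1 n30460 = n21280 := d12_1 D30460 (iv D21280) (iv F90220)
theorem F129223 : act 2 n30460 = n20924 := d19_1 D30460 (iv D20924) (iv F90221)
theorem F129224 : act 4 n30460 = n21053 := d30_1 D30460 (iv D21053) F63500 (iv F63145) (iv F90222)
theorem F129225 : act 9 n30460 = n20962 := d38_2 (iv F90223) D30460 (iv D20962)
def n30461 : Q := act 7 n20916
theorem D30461 : act 7 n20916 = n30461 := rfl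
theorem F129226 : act 1 n30461 = n21281 := d14_1 D30461 (iv D21281) (iv F90220)
theorem F129227 : act 2 n30461 = n20925 := d21_1 D30461 (iv D20925) (iv F90221)
theorem F129228 : act 4 n30461 = n20918 := d32_1 D30461 (iv D20918) (iv F90222)
theorem F129229 : act 9 n30461 = n20963 := d43_2 (iv F90223) D30461 (iv D20963)
def n30462 : Q := act 8 n20916
theorem D30462 : act 8 n20916 = n30462 := rfl
theorem F129230 : act 1 n30462 = n21282 := d15_1 D30462 (iv D21282) (iv F90220)
theorem F129231 : act 2 n30462 = n20926 := d22_1 D30462 (iv D20926) (iv F90221)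
theorem F129232 : act 4 n30462 = n20919 := d33_1 D30462 (iv D20919) (iv F90222)
theorem F129233 : act 6 n30462 = n20917 := d40_1 D30462 (iv D20917) D20916
def n30463 : Q := act 3 n20917
theorem D30463 : act 3 n20917 = n30463 := rfl
theorem F129234 : act 1 n30463 = n21283 := d10_1 D30463 (iv D21283) (iv F90224)
def n30464 : Q := act 9 n20917
theorem D30464 : act 9 n20917 = n30464 := rfl
theorem F129235 : act 1 n30464 = n21284 := d16_1 D30464 (iv D21284) (iv F90224)
theorem F129236 : act 2 n30464 = n20928 := d23_1 D30464 (iv D20928) (iv F90225)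
theorem F129237 : act 4 n30464 = n20921 := d34_1 D30464 (iv D20921) (iv F90226)
theorem F129238 : act 8 n30464 = n20966 := d44_1 D30464 (iv D20966) (iv D14409) (iv F63141) D20917
def n30465 : Q := act 8 n20918
theorem D30465 : act 8 n20918 = n30465 := rfl
theorem F129239 : act 1 n30465 = n21285 := d15_1 D30465 (iv D21285) (iv F90227)
theorem F129240 : act 2 n30465 = n20929 := d22_1 D30465 (iv D20929) (iv F90228)
theorem F129241 : act 5 n30465 = n21058 := d37_1 D30465 (iv D21058) (iv F90230)
theorem F129242 : act 7 n30465 = n20919 := d42_1 D30465 (iv D20919) D20918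
def n30466 : Q := act 3 n20919
theorem D30466 : act 3 n20919 = n30466 := rfl
theorem F129243 : act 1 n30466 = n21286 := d10_1 D30466 (iv D21286) (iv F90232)
def n30467 : Q := act 9 n20919
theorem D30467 : act 9 n20919 = n30467 := rfl
theorem F129247 : act 1 n30467 = n21287 := d16_1 D30467 (iv D21287) (iv F90232)
theorem F129248 : act 2 n30467 = n20930 := d23_1 D30467 (iv D20930) (iv F90233)
theorem F129249 : act 5 n30467 = n21060 := d38_1 D30467 (iv D21060) (iv F90234)
theorem F129250 : act 6 n30467 = n20921 := d41_1 D30467 (iv D20921) (iv F90235)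
theorem F129251 : act 8 n30467 = n20969 := d44_1 D30467 (iv D20969) (iv D14411) (iv F63146) D20919
def n30468 : Q := act 4 n20920
theorem D30468 : act 4 n20920 = n30468 := rfl
theorem F129252 : act 1 n30468 = n21288 := d11_1 D30468 (iv D21288) (iv F90236)
theorem F129253 : act 8 n30468 = n22898 := d33_2 (iv F90238) D30468 (iv D22898)
def n30469 : Q := act 9 n20920
theorem D30469 : act 9 n20920 = n30469 := rfl
theorem F129254 : act 1 n30469 = n21289 := d16_1 D30469 (iv D21289) (iv F90236)
theorem F129255 : act 3 n30469 = n20921 := d29_1 D30469 (iv D20921) D20920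
def n30470 : Q := act 5 n20922
theorem D30470 : act 5 n20922 = n30470 := rfl
theorem F129258 : act 8 n30470 = n22900 := d37_2 (iv F90245) D30470 (iv D22900)
def n30473 : Q := act 7 n20924
theorem D30473 : act 7 n20924 = n30473 := rfl
theorem F129266 : act 1 n30473 = n20931 := d14_1 D30473 (iv D20931) (iv F90249)
theorem F129267 : act 4 n30473 = n21066 := d32_1 D30473 (iv D21066) (iv F90250)
theorem F129268 : act 5 n30473 = n20925 := d36_1 D30473 (iv D20925) D20924
theorem F129269 : act 9 n30473 = n20975 := d43_2 (iv F90251) D30473 (iv D20975)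
def n30474 : Q := act 8 n20924
theorem D30474 : act 8 n20924 = n30474 := rfl
theorem F129270 : act 1 n30474 = n20932 := d15_1 D30474 (iv D20932) (iv F90249)
theorem F129271 : act 4 n30474 = n21067 := d33_1 D30474 (iv D21067) (iv F90250)
theorem F129272 : act 5 n30474 = n20926 := d37_1 D30474 (iv D20926) D20924
def n30475 : Q := act 8 n20925
theorem D30475 : act 8 n20925 = n30475 := rfl
theorem F129274 : act 4 n30475 = n20929 := d33_1 D30475 (iv D20929) (iv F90253)
theorem F129275 : act 7 n30475 = n20926 := d42_1 D30475 (iv D20926) D20925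
def n30476 : Q := act 3 n20926
theorem D30476 : act 3 n20926 = n30476 := rfl
theorem F129277 : act 6 n30476 = n20927 := d26_2 (iv F90257) D30476 (iv D20927)
def n30477 : Q := act 9 n20926
theorem D30477 : act 9 n20926 = n30477 := rfl
theorem F129278 : act 1 n30477 = n20935 := d16_1 D30477 (iv D20935) (iv F90255)
theorem F129279 : act 4 n30477 = n20930 := d34_1 D30477 (iv D20930) (iv F90256)
theorem F129280 : act 6 n30477 = n20928 := d41_1 D30477 (iv D20928) (iv F90257)
theorem F129281 : act 8 n30477 = n20979 := d44_1 D30477 (iv D20979) (iv D14418) (iv F63159) D20926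
def n30478 : Q := act 2 n20927
theorem D30478 : act 2 n20927 = n30478 := rfl
def n30479 : Q := act 9 n20927
theorem D30479 : act 9 n20927 = n30479 := rfl
theorem F129282 : act 1 n30479 = n20937 := d16_1 D30479 (iv D20937) (iv F90258)
theorem F129283 : act 3 n30479 = n20928 := d29_1 D30479 (iv D20928) D20927
def n30480 : Q := act 9 n20929
theorem D30480 : act 9 n20929 = n30480 := rfl
theorem F129284 : act 1 n30480 = n20938 := d16_1 D30480 (iv D20938) (iv F90262)
theorem F129285 : act 5 n30480 = n21073 := d38_1 D30480 (iv D21073) (iv F90263)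
theorem F129286 : act 7 n30480 = n20930 := d43_1 D30480 (iv D20930) (iv F90264)
theorem F129287 : act 8 n30480 = n20982 := d44_1 D30480 (iv D20982) (iv D14421) (iv F63165) D20929
def n30481 : Q := act 6 n20931
theorem D30481 : act 6 n20931 = n30481 := rfl
theorem F129290 : act 4 n30481 = n21074 := d31_1 D30481 (iv D21074) (iv F90271)
theorem F129291 : act 9 n30481 = n20983 := d41_2 (iv F90273) D30481 (iv D20983)
def n30482 : Q := act 8 n20931
theorem D30482 : act 8 n20931 = n30482 := rfl
theorem F129293 : act 2 n30482 = n21302 := d22_1 D30482 (iv D21302) (iv F90270)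
theorem F129294 : act 4 n30482 = n21075 := d33_1 D30482 (iv D21075) (iv F90271)
theorem F129296 : act 7 n30482 = n20932 := d42_1 D30482 (iv D20932) D20931
def n30483 : Q := act 3 n20932
theorem D30483 : act 3 n20932 = n30483 := rfl
theorem F129298 : act 5 n30483 = n20934 := d25_2 (iv F90277) D30483 (iv D20934)
def n30484 : Q := act 9 n20932
theorem D30484 : act 9 n20932 = n30484 := rfl
theorem F129299 : act 0 n30484 = n30484 := d8_1 D30484 (iv D30484) F90274
theorem F129300 : act 2 n30484 = n21304 := d23_1 D30484 (iv D21304) (iv F90275)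
theorem F129301 : act 4 n30484 = n21077 := d34_1 D30484 (iv D21077) (iv F90276)
theorem F129302 : act 5 n30484 = n20935 := d38_1 D30484 (iv D20935) (iv F90277)
theorem F129303 : act 8 n30484 = n20986 := d44_1 D30484 (iv D20986) (iv D14424) (iv F63175) D20932
def n30485 : Q := act 3 n20933
theorem D30485 : act 3 n20933 = n30485 := rfl
def n30486 : Q := act 9 n20933
theorem D30486 : act 9 n20933 = n30486 := rfl
theorem F129308 : act 4 n30486 = n20938 := d34_1 D30486 (iv D20938) (iv F90280)
theorem F129310 : act 8 n30486 = n20988 := d44_1 D30486 (iv D20988) (iv D14425) (iv F63179) D20933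
def n30487 : Q := act 2 n20934
theorem D30487 : act 2 n20934 = n30487 := rfl
theorem F129312 : act 3 n30487 = n21307 := d17_2 D20934 D30487 (iv D21307) (iv D14639) (iv F63181)
def n30488 : Q := act 9 n20934
theorem D30488 : act 9 n20934 = n30488 := rfl
theorem F129315 : act 3 n30488 = n20935 := d29_1 D30488 (iv D20935) D20934
theorem F129316 : act 6 n30488 = n20937 := d41_1 D30488 (iv D20937) (iv F90283)
def n30489 : Q := act 1 n20936
theorem D30489 : act 1 n20936 = n30489 := rfl
theorem F129317 : act 3 n30489 = n21309 := d10_2 (iv F90290) D30489 (iv D21309)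
def n30490 : Q := act 9 n20936
theorem D30490 : act 9 n20936 = n30490 := rfl
theorem F129319 : act 2 n30490 = n20937 := d23_1 D30490 (iv D20937) D20936
def n30491 : Q := act 8 n20937
theorem D30491 : act 8 n20937 = n30491 := rfl
theorem F129321 : act 0 n30491 = n30491 := d7_1 D30491 (iv D30491) F90291
theorem F129322 : act 3 n30491 = n20993 := d28_1 D30491 (iv D20993) F63314 (iv F63188) (iv F90292)
def n30492 : Q := act 3 n20939
theorem D30492 : act 3 n20939 = n30492 := rfl
theorem F129323 : act 0 n30492 = n21312 := d2_1 D30492 (iv D21312) (iv F90298)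
theorem F129324 : act 1 n30492 = n20944 := d10_1 D30492 (iv D20944) (iv F90299)
theorem F129325 : act 4 n30492 = n22922 := d24_2 D20939 D30492 (iv D22922) (iv D15745) (iv F63201)
def n30493 : Q := act 6 n20939
theorem D30493 : act 6 n20939 = n30493 := rfl
theorem F129326 : act 0 n30493 = n21313 := d5_1 D30493 (iv D21313) (iv F90298)
theorem F129327 : act 1 n30493 = n20945 := d13_1 D30493 (iv D20945) (iv F90299)
theorem F129328 : act 2 n30493 = n30493 := d20_1 D30493 (iv D30493) F90300
theorem F129329 : act 4 n30493 = n20940 := d31_1 D30493 (iv D20940) D20939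
def n30494 : Q := act 8 n20939
theorem D30494 : act 8 n20939 = n30494 := rfl
theorem F129330 : act 0 n30494 = n21314 := d7_1 D30494 (iv D21314) (iv F90298)
theorem F129331 : act 1 n30494 = n20946 := d15_1 D30494 (iv D20946) (iv F90299)
theorem F129332 : act 2 n30494 = n30494 := d22_1 D30494 (iv D30494) F90300
theorem F129333 : act 4 n30494 = n20941 := d33_1 D30494 (iv D20941) D20939
def n30495 : Q := act 7 n20940
theorem D30495 : act 7 n20940 = n30495 := rfl
theorem F129335 : act 1 n30495 = n20947 := d14_1 D30495 (iv D20947) (iv F90302)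
def n30496 : Q := act 8 n20940
theorem D30496 : act 8 n20940 = n30496 := rfl
theorem F129339 : act 0 n30496 = n21316 := d7_1 D30496 (iv D21316) (iv F90301)
theorem F129340 : act 1 n30496 = n20948 := d15_1 D30496 (iv D20948) (iv F90302)
theorem F129341 : act 2 n30496 = n30496 := d22_1 D30496 (iv D30496) F90303
theorem F129342 : act 5 n30496 = n21089 := d37_1 D30496 (iv D21089) (iv F90305)
theorem F129343 : act 6 n30496 = n20941 := d40_1 D30496 (iv D20941) D20940
def n30497 : Q := act 3 n20941
theorem D30497 : act 3 n20941 = n30497 := rfl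
theorem F129345 : act 1 n30497 = n20949 := d10_1 D30497 (iv D20949) (iv F90307)
theorem F129347 : act 8 n30497 = n22927 := d28_2 D20941 D30497 (iv D22927) (iv D15747) (iv F63201)
def n30498 : Q := act 9 n20941
theorem D30498 : act 9 n20941 = n30498 := rfl
theorem F129348 : act 0 n30498 = n21318 := d8_1 D30498 (iv D21318) (iv F90306)
theorem F129349 : act 1 n30498 = n20950 := d16_1 D30498 (iv D20950) (iv F90307)
theorem F129350 : act 2 n30498 = n30498 := d23_1 D30498 (iv D30498) F90308
theorem F129351 : act 5 n30498 = n20943 := d38_1 D30498 (iv D20943) (iv F90309)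
def n30500 : Q := act 4 n20942
theorem D30500 : act 4 n20942 = n30500 := rfl
theorem F129360 : act 8 n30500 = n22930 := d33_2 (iv F90313) D30500 (iv D22930)
def n30501 : Q := act 9 n20942
theorem D30501 : act 9 n20942 = n30501 := rfl
theorem F129362 : act 1 n30501 = n20952 := d16_1 D30501 (iv D20952) (iv F90311)
theorem F129363 : act 3 n30501 = n20943 := d29_1 D30501 (iv D20943) D20942
def n30502 : Q := act 6 n20944
theorem D30502 : act 6 n20944 = n30502 := rfl
theorem F129365 : act 0 n30502 = n20960 := d5_1 D30502 (iv D20960) (iv F90318)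
theorem F129366 : act 3 n30502 = n20945 := d26_1 D30502 (iv D20945) D20944
theorem F129367 : act 4 n30502 = n22932 := d31_1 D30502 (iv D22932) (iv F90319)
def n30503 : Q := act 8 n20944
theorem D30503 : act 8 n20944 = n30503 := rfl
theorem F129368 : act 0 n30503 = n20961 := d7_1 D30503 (iv D20961) (iv F90318)
theorem F129369 : act 4 n30503 = n22933 := d33_1 D30503 (iv D22933) (iv F90319)
def n30504 : Q := act 5 n20945
theorem D30504 : act 5 n20945 = n30504 := rfl
theorem F129370 : act 0 n30504 = n20962 := d4_1 D30504 (iv D20962) (iv F90320)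
theorem F129371 : act 2 n30504 = n20953 := d19_1 D30504 (iv D20953) (iv F90321)
theorem F129372 : act 4 n30504 = n21097 := d30_1 D30504 (iv D21097) F63613 (iv F63211) (iv F90322)
def n30505 : Q := act 7 n20945
theorem D30505 : act 7 n20945 = n30505 := rfl
theorem F129373 : act 0 n30505 = n20963 := d6_1 D30505 (iv D20963) (iv F90320)
theorem F129374 : act 2 n30505 = n20954 := d21_1 D30505 (iv D20954) (iv F90321)
theorem F129375 : act 4 n30505 = n20947 := d32_1 D30505 (iv D20947) (iv F90322)
def n30506 : Q := act 8 n20945
theorem D30506 : act 8 n20945 = n30506 := rfl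
theorem F129376 : act 0 n30506 = n20964 := d7_1 D30506 (iv D20964) (iv F90320)
theorem F129377 : act 2 n30506 = n20955 := d22_1 D30506 (iv D20955) (iv F90321)
theorem F129378 : act 4 n30506 = n20948 := d33_1 D30506 (iv D20948) (iv F90322)
theorem F129379 : act 6 n30506 = n20946 := d40_1 D30506 (iv D20946) D20945
def n30507 : Q := act 3 n20946
theorem D30507 : act 3 n20946 = n30507 := rfl
theorem F129380 : act 0 n30507 = n20965 := d2_1 D30507 (iv D20965) (iv F90323)
def n30508 : Q := act 9 n20946
theorem D30508 : act 9 n20946 = n30508 := rfl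
theorem F129381 : act 0 n30508 = n20966 := d8_1 D30508 (iv D20966) (iv F90323)
theorem F129382 : act 2 n30508 = n20957 := d23_1 D30508 (iv D20957) (iv F90324)
theorem F129383 : act 4 n30508 = n20950 := d34_1 D30508 (iv D20950) (iv F90325)
def n30509 : Q := act 8 n20947
theorem D30509 : act 8 n20947 = n30509 := rfl
theorem F129384 : act 0 n30509 = n20967 := d7_1 D30509 (iv D20967) (iv F90326)
theorem F129385 : act 2 n30509 = n20958 := d22_1 D30509 (iv D20958) (iv F90327)
theorem F129386 : act 5 n30509 = n21102 := d37_1 D30509 (iv D21102) (iv F90329)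
theorem F129387 : act 7 n30509 = n20948 := d42_1 D30509 (iv D20948) D20947
def n30510 : Q := act 3 n20948
theorem D30510 : act 3 n20948 = n30510 := rfl
theorem F129388 : act 0 n30510 = n20968 := d2_1 D30510 (iv D20968) (iv F90330)
theorem F129389 : act 2 n30510 = n30510 := d17_1 D30510 (iv D30510) F90331 F63234 (iv F90331)
theorem F129390 : act 5 n30510 = n21103 := d25_2 (iv F90332) D30510 (iv D21103)
theorem F129391 : act 6 n30510 = n20949 := d26_2 (iv F90333) D30510 (iv D20949)
def n30511 : Q := act 9 n20948
theorem D30511 : act 9 n20948 = n30511 := rfl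
theorem F129393 : act 0 n30511 = n20969 := d8_1 D30511 (iv D20969) (iv F90330)
theorem F129394 : act 2 n30511 = n20959 := d23_1 D30511 (iv D20959) (iv F90331)
theorem F129395 : act 5 n30511 = n21104 := d38_1 D30511 (iv D21104) (iv F90332)
theorem F129396 : act 6 n30511 = n20950 := d41_1 D30511 (iv D20950) (iv F90333)
def n30512 : Q := act 4 n20949
theorem D30512 : act 4 n20949 = n30512 := rfl
theorem F129397 : act 0 n30512 = n20970 := d3_1 D30512 (iv D20970) (iv F90334)
theorem F129398 : act 2 n30512 = n30512 := d18_1 D30512 (iv D30512) F90335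
def n30513 : Q := act 9 n20949
theorem D30513 : act 9 n20949 = n30513 := rfl
theorem F129400 : act 0 n30513 = n20971 := d8_1 D30513 (iv D20971) (iv F90334)
theorem F129401 : act 2 n30513 = n30513 := d23_1 D30513 (iv D30513) F90335
theorem F129402 : act 3 n30513 = n20950 := d29_1 D30513 (iv D20950) D20949
theorem F129403 : act 5 n30513 = n20952 := d38_1 D30513 (iv D20952) (iv F90336)
def n30514 : Q := act 5 n20951
theorem D30514 : act 5 n20951 = n30514 := rfl
theorem F129404 : act 0 n30514 = n20972 := d4_1 D30514 (iv D20972) (iv F90341)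
def n30515 : Q := act 9 n20951
theorem D30515 : act 9 n20951 = n30515 := rfl
theorem F129409 : act 4 n30515 = n20952 := d34_1 D30515 (iv D20952) D20951
def n30516 : Q := act 8 n20952
theorem D30516 : act 8 n20952 = n30516 := rfl
theorem F129414 : act 9 n30516 = n22946 := d44_2 D20952 D30516 (iv D22946) (iv D15758) (iv F63218)
def n30517 : Q := act 7 n20953
theorem D30517 : act 7 n20953 = n30517 := rfl
theorem F129415 : act 0 n30517 = n20975 := d6_1 D30517 (iv D20975) (iv F90349)
theorem F129416 : act 1 n30517 = n30517 := d14_1 D30517 (iv D30517) F90350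
theorem F129417 : act 4 n30517 = n21110 := d32_1 D30517 (iv D21110) (iv F90351)
theorem F129418 : act 5 n30517 = n20954 := d36_1 D30517 (iv D20954) D20953
def n30518 : Q := act 8 n20953
theorem D30518 : act 8 n20953 = n30518 := rfl
theorem F129419 : act 0 n30518 = n20976 := d7_1 D30518 (iv D20976) (iv F90349)
theorem F129420 : act 1 n30518 = n30518 := d15_1 D30518 (iv D30518) F90350
theorem F129421 : act 4 n30518 = n21111 := d33_1 D30518 (iv D21111) (iv F90351)
theorem F129422 : act 5 n30518 = n20955 := d37_1 D30518 (iv D20955) D20953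
def n30519 : Q := act 8 n20954
theorem D30519 : act 8 n20954 = n30519 := rfl
theorem F129423 : act 0 n30519 = n20977 := d7_1 D30519 (iv D20977) (iv F90352)
theorem F129424 : act 1 n30519 = n30519 := d15_1 D30519 (iv D30519) F90353
theorem F129425 : act 4 n30519 = n20958 := d33_1 D30519 (iv D20958) (iv F90354)
theorem F129426 : act 7 n30519 = n20955 := d42_1 D30519 (iv D20955) D20954
def n30520 : Q := act 3 n20955
theorem D30520 : act 3 n20955 = n30520 := rfl
theorem F129427 : act 0 n30520 = n20978 := d2_1 D30520 (iv D20978) (iv F90355)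
theorem F129428 : act 1 n30520 = n30520 := d10_1 D30520 (iv D30520) F90356
theorem F129429 : act 4 n30520 = n30520 := d24_2 (iv F90357) D30520 (iv D30520) F90357 F63234
theorem F129430 : act 6 n30520 = n20956 := d26_2 (iv F90358) D30520 (iv D20956)
def n30521 : Q := act 9 n20955
theorem D30521 : act 9 n20955 = n30521 := rfl
theorem F129431 : act 0 n30521 = n20979 := d8_1 D30521 (iv D20979) (iv F90355)
theorem F129432 : act 1 n30521 = n30521 := d16_1 D30521 (iv D30521) F90356
theorem F129433 : act 4 n30521 = n20959 := d34_1 D30521 (iv D20959) (iv F90357)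
theorem F129434 : act 6 n30521 = n20957 := d41_1 D30521 (iv D20957) (iv F90358)
def n30522 : Q := act 2 n20956
theorem D30522 : act 2 n20956 = n30522 := rfl
theorem F129435 : act 0 n30522 = n20980 := d1_1 D30522 (iv D20980) (iv F90359)
def n30523 : Q := act 9 n20956
theorem D30523 : act 9 n20956 = n30523 := rfl
theorem F129437 : act 0 n30523 = n20981 := d8_1 D30523 (iv D20981) (iv F90359)
theorem F129438 : act 1 n30523 = n30523 := d16_1 D30523 (iv D30523) F90360
theorem F129439 : act 3 n30523 = n20957 := d29_1 D30523 (iv D20957) D20956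
theorem F129440 : act 4 n30523 = n30523 := d34_1 D30523 (iv D30523) F90361
def n30524 : Q := act 9 n20958
theorem D30524 : act 9 n20958 = n30524 := rfl
theorem F129441 : act 0 n30524 = n20982 := d8_1 D30524 (iv D20982) (iv F90365)
theorem F129442 : act 1 n30524 = n30524 := d16_1 D30524 (iv D30524) F90366
theorem F129443 : act 3 n30524 = n30524 := d29_1 D30524 (iv D30524) F90367
theorem F129444 : act 5 n30524 = n21117 := d38_1 D30524 (iv D21117) (iv F90368)
theorem F129445 : act 7 n30524 = n20959 := d43_1 D30524 (iv D20959) (iv F90369)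
def n30525 : Q := act 5 n20960
theorem D30525 : act 5 n20960 = n30525 := rfl
theorem F129446 : act 1 n30525 = n21345 := d12_1 D30525 (iv D21345) (iv F90375)
theorem F129447 : act 3 n30525 = n20962 := d25_1 D30525 (iv D20962) (iv F90376)
def n30526 : Q := act 7 n20960
theorem D30526 : act 7 n20960 = n30526 := rfl
theorem F129449 : act 3 n30526 = n20963 := d27_1 D30526 (iv D20963) (iv F90376)
def n30527 : Q := act 8 n20960
theorem D30527 : act 8 n20960 = n30527 := rfl
theorem F129451 : act 1 n30527 = n21347 := d15_1 D30527 (iv D21347) (iv F90375)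
theorem F129453 : act 6 n30527 = n20961 := d40_1 D30527 (iv D20961) D20960
def n30528 : Q := act 3 n20961
theorem D30528 : act 3 n20961 = n30528 := rfl
theorem F129454 : act 1 n30528 = n21348 := d10_1 D30528 (iv D21348) (iv F90378)
theorem F129455 : act 8 n30528 = n20965 := d28_2 D20961 D30528 (iv D20965) (iv D14409) D14407
def n30529 : Q := act 9 n20961
theorem D30529 : act 9 n20961 = n30529 := rfl
theorem F129456 : act 1 n30529 = n21349 := d16_1 D30529 (iv D21349) (iv F90378)
theorem F129457 : act 4 n30529 = n22959 := d34_1 D30529 (iv D22959) (iv F90379)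
def n30530 : Q := act 7 n20962
theorem D30530 : act 7 n20962 = n30530 := rfl
theorem F129458 : act 1 n30530 = n21350 := d14_1 D30530 (iv D21350) (iv F90380)
theorem F129459 : act 2 n30530 = n20975 := d21_1 D30530 (iv D20975) (iv F90381)
theorem F129460 : act 4 n30530 = n21123 := d32_1 D30530 (iv D21123) (iv F90382)
theorem F129461 : act 5 n30530 = n20963 := d36_1 D30530 (iv D20963) D20962
def n30531 : Q := act 8 n20962
theorem D30531 : act 8 n20962 = n30531 := rfl
theorem F129462 : act 1 n30531 = n21351 := d15_1 D30531 (iv D21351) (iv F90380)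
theorem F129463 : act 2 n30531 = n20976 := d22_1 D30531 (iv D20976) (iv F90381)
theorem F129464 : act 4 n30531 = n21124 := d33_1 D30531 (iv D21124) (iv F90382)
theorem F129465 : act 5 n30531 = n20964 := d37_1 D30531 (iv D20964) D20962
def n30532 : Q := act 8 n20963
theorem D30532 : act 8 n20963 = n30532 := rfl
theorem F129466 : act 1 n30532 = n21352 := d15_1 D30532 (iv D21352) (iv F90383)
theorem F129467 : act 2 n30532 = n20977 := d22_1 D30532 (iv D20977) (iv F90384)
theorem F129468 : act 4 n30532 = n20967 := d33_1 D30532 (iv D20967) (iv F90385)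
theorem F129469 : act 7 n30532 = n20964 := d42_1 D30532 (iv D20964) D20963
def n30533 : Q := act 3 n20964
theorem D30533 : act 3 n20964 = n30533 := rfl
theorem F129470 : act 1 n30533 = n21353 := d10_1 D30533 (iv D21353) (iv F90386)
theorem F129471 : act 6 n30533 = n20965 := d26_2 (iv F90389) D30533 (iv D20965)
def n30534 : Q := act 9 n20964
theorem D30534 : act 9 n20964 = n30534 := rfl
theorem F129472 : act 1 n30534 = n21354 := d16_1 D30534 (iv D21354) (iv F90386)
theorem F129473 : act 2 n30534 = n20979 := d23_1 D30534 (iv D20979) (iv F90387)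
theorem F129474 : act 4 n30534 = n20969 := d34_1 D30534 (iv D20969) (iv F90388)
theorem F129475 : act 6 n30534 = n20966 := d41_1 D30534 (iv D20966) (iv F90389)
def n30535 : Q := act 2 n20965
theorem D30535 : act 2 n20965 = n30535 := rfl
theorem F129476 : act 3 n30535 = n20980 := d17_2 D20965 D30535 (iv D20980) (iv D14419) (iv F63247)
def n30536 : Q := act 4 n20965
theorem D30536 : act 4 n20965 = n30536 := rfl
theorem F129477 : act 1 n30536 = n21356 := d11_1 D30536 (iv D21356) (iv F90390)
theorem F129478 : act 3 n30536 = n20970 := d24_1 D30536 (iv D20970) (iv D14412) (iv F63248) D20965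
def n30537 : Q := act 9 n20965
theorem D30537 : act 9 n20965 = n30537 := rfl
theorem F129479 : act 1 n30537 = n21357 := d16_1 D30537 (iv D21357) (iv F90390)
theorem F129480 : act 3 n30537 = n20966 := d29_1 D30537 (iv D20966) D20965
def n30539 : Q := act 9 n20967
theorem D30539 : act 9 n20967 = n30539 := rfl
theorem F129486 : act 1 n30539 = n21359 := d16_1 D30539 (iv D21359) (iv F90394)
theorem F129487 : act 2 n30539 = n20982 := d23_1 D30539 (iv D20982) (iv F90395)
theorem F129488 : act 5 n30539 = n21132 := d38_1 D30539 (iv D21132) (iv F90396)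
theorem F129489 : act 7 n30539 = n20969 := d43_1 D30539 (iv D20969) (iv F90397)
def n30540 : Q := act 4 n20968
theorem D30540 : act 4 n20968 = n30540 := rfl
theorem F129490 : act 1 n30540 = n21360 := d11_1 D30540 (iv D21360) (iv F90398)
theorem F129491 : act 2 n30540 = n30540 := d18_1 D30540 (iv D30540) F90399
theorem F129492 : act 6 n30540 = n20970 := d31_2 (iv F90401) D30540 (iv D20970)
def n30541 : Q := act 9 n20968
theorem D30541 : act 9 n20968 = n30541 := rfl
theorem F129494 : act 1 n30541 = n21361 := d16_1 D30541 (iv D21361) (iv F90398)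
theorem F129495 : act 2 n30541 = n30541 := d23_1 D30541 (iv D30541) F90399
theorem F129496 : act 3 n30541 = n20969 := d29_1 D30541 (iv D20969) D20968
theorem F129497 : act 5 n30541 = n21134 := d38_1 D30541 (iv D21134) (iv F90400)
theorem F129498 : act 6 n30541 = n20971 := d41_1 D30541 (iv D20971) (iv F90401)
def n30542 : Q := act 5 n20970
theorem D30542 : act 5 n20970 = n30542 := rfl
theorem F129499 : act 1 n30542 = n21362 := d12_1 D30542 (iv D21362) (iv F90407)
theorem F129500 : act 2 n30542 = n30542 := d19_1 D30542 (iv D30542) F90408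
theorem F129501 : act 4 n30542 = n20972 := d30_1 D30542 (iv D20972) (iv D14414) (iv F63259) D20970
theorem F129502 : act 8 n30542 = n22972 := d37_2 (iv F90409) D30542 (iv D22972)
def n30543 : Q := act 9 n20970
theorem D30543 : act 9 n20970 = n30543 := rfl
theorem F129503 : act 1 n30543 = n21363 := d16_1 D30543 (iv D21363) (iv F90407)
theorem F129504 : act 2 n30543 = n30543 := d23_1 D30543 (iv D30543) F90408
theorem F129505 : act 4 n30543 = n20971 := d34_1 D30543 (iv D20971) D20970
def n30545 : Q := act 6 n20972
theorem D30545 : act 6 n20972 = n30545 := rfl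
theorem F129510 : act 1 n30545 = n21365 := d13_1 D30545 (iv D21365) (iv F90414)
theorem F129511 : act 2 n30545 = n30545 := d20_1 D30545 (iv D30545) F90415
theorem F129512 : act 5 n30545 = n21138 := d35_1 D30545 (iv D21138) (iv D14525) (iv F63266) D20972
theorem F129513 : act 8 n30545 = n22975 := d40_2 (iv F90416) D30545 (iv D22975)
def n30546 : Q := act 9 n20972
theorem D30546 : act 9 n20972 = n30546 := rfl
theorem F129514 : act 1 n30546 = n21366 := d16_1 D30546 (iv D21366) (iv F90414)
theorem F129515 : act 2 n30546 = n30546 := d23_1 D30546 (iv D30546) F90415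
theorem F129516 : act 5 n30546 = n20973 := d38_1 D30546 (iv D20973) D20972
def n30548 : Q := act 6 n20975
theorem D30548 : act 6 n20975 = n30548 := rfl
theorem F129522 : act 1 n30548 = n20983 := d13_1 D30548 (iv D20983) (iv F90425)
theorem F129523 : act 4 n30548 = n21141 := d31_1 D30548 (iv D21141) (iv F90426)
def n30549 : Q := act 8 n20975
theorem D30549 : act 8 n20975 = n30549 := rfl
theorem F129524 : act 1 n30549 = n20984 := d15_1 D30549 (iv D20984) (iv F90425)
theorem F129525 : act 4 n30549 = n21142 := d33_1 D30549 (iv D21142) (iv F90426)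
theorem F129526 : act 5 n30549 = n20977 := d37_1 D30549 (iv D20977) (iv F90427)
theorem F129527 : act 7 n30549 = n20976 := d42_1 D30549 (iv D20976) D20975
def n30550 : Q := act 3 n20976
theorem D30550 : act 3 n20976 = n30550 := rfl
theorem F129528 : act 1 n30550 = n20985 := d10_1 D30550 (iv D20985) (iv F90428)
theorem F129529 : act 5 n30550 = n20978 := d25_2 (iv F90430) D30550 (iv D20978)
def n30551 : Q := act 9 n20976
theorem D30551 : act 9 n20976 = n30551 := rfl
theorem F129530 : act 1 n30551 = n20986 := d16_1 D30551 (iv D20986) (iv F90428)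
theorem F129531 : act 4 n30551 = n21144 := d34_1 D30551 (iv D21144) (iv F90429)
theorem F129532 : act 5 n30551 = n20979 := d38_1 D30551 (iv D20979) (iv F90430)
def n30552 : Q := act 3 n20977
theorem D30552 : act 3 n20977 = n30552 := rfl
theorem F129533 : act 1 n30552 = n20987 := d10_1 D30552 (iv D20987) (iv F90431)
theorem F129534 : act 4 n30552 = n30552 := d24_2 (iv F90432) D30552 (iv D30552) F90432 F63284
theorem F129535 : act 7 n30552 = n20978 := d27_2 (iv F90433) D30552 (iv D20978)
def n30553 : Q := act 9 n20977
theorem D30553 : act 9 n20977 = n30553 := rfl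
theorem F129536 : act 1 n30553 = n20988 := d16_1 D30553 (iv D20988) (iv F90431)
theorem F129537 : act 4 n30553 = n20982 := d34_1 D30553 (iv D20982) (iv F90432)
theorem F129538 : act 7 n30553 = n20979 := d43_1 D30553 (iv D20979) (iv F90433)
def n30554 : Q := act 2 n20978
theorem D30554 : act 2 n20978 = n30554 := rfl
theorem F129539 : act 4 n30554 = n30554 := d18_2 F90435 D30554 (iv D30554)
theorem F129540 : act 6 n30554 = n20980 := d20_2 (iv F90436) D30554 (iv D20980)
def n30555 : Q := act 9 n20978
theorem D30555 : act 9 n20978 = n30555 := rfl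
theorem F129541 : act 1 n30555 = n20990 := d16_1 D30555 (iv D20990) (iv F90434)
theorem F129542 : act 3 n30555 = n20979 := d29_1 D30555 (iv D20979) D20978
theorem F129543 : act 4 n30555 = n30555 := d34_1 D30555 (iv D30555) F90435
theorem F129544 : act 6 n30555 = n20981 := d41_1 D30555 (iv D20981) (iv F90436)
def n30556 : Q := act 1 n20980
theorem D30556 : act 1 n20980 = n30556 := rfl
theorem F129545 : act 2 n30556 = n20991 := d9_2 D20980 D30556 (iv D20991) (iv D14428) (iv F63279)
theorem F129546 : act 4 n30556 = n30556 := d11_2 F90440 D30556 (iv D30556)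
def n30557 : Q := act 9 n20980
theorem D30557 : act 9 n20980 = n30557 := rfl
theorem F129547 : act 2 n30557 = n20981 := d23_1 D30557 (iv D20981) D20980
theorem F129548 : act 4 n30557 = n30557 := d34_1 D30557 (iv D30557) F90440
def n30558 : Q := act 8 n20981
theorem D30558 : act 8 n20981 = n30558 := rfl
theorem F129549 : act 1 n30558 = n20993 := d15_1 D30558 (iv D20993) (iv F90441)
theorem F129550 : act 4 n30558 = n30558 := d33_1 D30558 (iv D30558) F90443
def n30559 : Q := act 8 n20983
theorem D30559 : act 8 n20983 = n30559 := rfl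
theorem F129551 : act 0 n30559 = n30559 := d7_1 D30559 (iv D30559) F90448
theorem F129552 : act 2 n30559 = n21379 := d22_1 D30559 (iv D21379) (iv F90449)
theorem F129553 : act 4 n30559 = n21152 := d33_1 D30559 (iv D21152) (iv F90450)
theorem F129554 : act 6 n30559 = n20984 := d40_1 D30559 (iv D20984) D20983
def n30560 : Q := act 3 n20984
theorem D30560 : act 3 n20984 = n30560 := rfl
theorem F129555 : act 0 n30560 = n30560 := d2_1 D30560 (iv D30560) F90451
theorem F129556 : act 5 n30560 = n20987 := d25_2 (iv F90454) D30560 (iv D20987)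
theorem F129557 : act 7 n30560 = n20985 := d27_2 (iv F90455) D30560 (iv D20985)
def n30561 : Q := act 9 n20984
theorem D30561 : act 9 n20984 = n30561 := rfl
theorem F129558 : act 0 n30561 = n30561 := d8_1 D30561 (iv D30561) F90451
theorem F129559 : act 2 n30561 = n21381 := d23_1 D30561 (iv D21381) (iv F90452)
theorem F129560 : act 4 n30561 = n21154 := d34_1 D30561 (iv D21154) (iv F90453)
theorem F129561 : act 5 n30561 = n20988 := d38_1 D30561 (iv D20988) (iv F90454)
theorem F129562 : act 7 n30561 = n20986 := d43_1 D30561 (iv D20986) (iv F90455)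
def n30562 : Q := act 2 n20985
theorem D30562 : act 2 n20985 = n30562 := rfl
theorem F129563 : act 0 n30562 = n30562 := d1_1 D30562 (iv D30562) F90456
theorem F129564 : act 3 n30562 = n21382 := d17_2 D20985 D30562 (iv D21382) (iv D14690) (iv F63296)
theorem F129565 : act 5 n30562 = n20989 := d19_2 (iv F90457) D30562 (iv D20989)
def n30563 : Q := act 4 n20985
theorem D30563 : act 4 n20985 = n30563 := rfl
theorem F129566 : act 0 n30563 = n30563 := d3_1 D30563 (iv D30563) F90456
theorem F129567 : act 3 n30563 = n21156 := d24_1 D30563 (iv D21156) (iv D14538) (iv F63297) D20985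
theorem F129568 : act 5 n30563 = n30563 := d30_2 (iv F90457) D30563 (iv D30563) F90457 F63304
def n30564 : Q := act 9 n20985
theorem D30564 : act 9 n20985 = n30564 := rfl
theorem F129569 : act 0 n30564 = n30564 := d8_1 D30564 (iv D30564) F90456
theorem F129570 : act 3 n30564 = n20986 := d29_1 D30564 (iv D20986) D20985
theorem F129571 : act 5 n30564 = n20990 := d38_1 D30564 (iv D20990) (iv F90457)
def n30565 : Q := act 2 n20987
theorem D30565 : act 2 n20987 = n30565 := rfl
theorem F129572 : act 0 n30565 = n30565 := d1_1 D30565 (iv D30565) F90462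
theorem F129573 : act 3 n30565 = n21385 := d17_2 D20987 D30565 (iv D21385) (iv D14692) (iv F63300)
theorem F129574 : act 4 n30565 = n30565 := d18_2 F90463 D30565 (iv D30565)
theorem F129575 : act 7 n30565 = n20989 := d21_2 (iv F90464) D30565 (iv D20989)
def n30566 : Q := act 9 n20987
theorem D30566 : act 9 n20987 = n30566 := rfl
theorem F129576 : act 0 n30566 = n30566 := d8_1 D30566 (iv D30566) F90462
theorem F129577 : act 3 n30566 = n20988 := d29_1 D30566 (iv D20988) D20987
theorem F129578 : act 4 n30566 = n30566 := d34_1 D30566 (iv D30566) F90463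
theorem F129579 : act 7 n30566 = n20990 := d43_1 D30566 (iv D20990) (iv F90464)
def n30567 : Q := act 1 n20989
theorem D30567 : act 1 n20989 = n30567 := rfl
theorem F129580 : act 3 n30567 = n21387 := d10_2 (iv F90470) D30567 (iv D21387)
theorem F129581 : act 4 n30567 = n30567 := d11_2 F90471 D30567 (iv D30567)
theorem F129582 : act 6 n30567 = n20991 := d13_2 (iv F90472) D30567 (iv D20991)
def n30568 : Q := act 9 n20989
theorem D30568 : act 9 n20989 = n30568 := rfl
theorem F129583 : act 0 n30568 = n30568 := d8_1 D30568 (iv D30568) F90469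
theorem F129584 : act 2 n30568 = n20990 := d23_1 D30568 (iv D20990) D20989
theorem F129585 : act 3 n30568 = n21388 := d29_1 D30568 (iv D21388) (iv F90470)
theorem F129586 : act 4 n30568 = n30568 := d34_1 D30568 (iv D30568) F90471
theorem F129587 : act 6 n30568 = n20992 := d41_1 D30568 (iv D20992) (iv F90472)
def n30569 : Q := act 8 n20990
theorem D30569 : act 8 n20990 = n30569 := rfl
theorem F129588 : act 0 n30569 = n30569 := d7_1 D30569 (iv D30569) F90473
theorem F129589 : act 4 n30569 = n30569 := d33_1 D30569 (iv D30569) F90475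
theorem F129590 : act 6 n30569 = n20993 := d40_1 D30569 (iv D20993) (iv F90476)
def n30570 : Q := act 0 n20991
theorem D30570 : act 0 n20991 = n30570 := rfl
theorem F129591 : act 1 n30570 = n30570 := d0_2 D20991 D30570 (iv D30570) (iv D20991) F63310
theorem F129592 : act 3 n30570 = n21390 := d2_2 (iv F90477) D30570 (iv D21390)
theorem F129593 : act 4 n30570 = n30570 := d3_2 F90478 D30570 (iv D30570)
def n30571 : Q := act 9 n20991
theorem D30571 : act 9 n20991 = n30571 := rfl
theorem F129594 : act 1 n30571 = n20992 := d16_1 D30571 (iv D20992) D20991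
theorem F129595 : act 3 n30571 = n21391 := d29_1 D30571 (iv D21391) (iv F90477)
theorem F129596 : act 4 n30571 = n30571 := d34_1 D30571 (iv D30571) F90478
def n30572 : Q := act 8 n20992
theorem D30572 : act 8 n20992 = n30572 := rfl
theorem F129597 : act 0 n30572 = n30572 := d7_1 D30572 (iv D30572) F90479
theorem F129598 : act 2 n30572 = n20993 := d22_1 D30572 (iv D20993) (iv F90480)
theorem F129599 : act 4 n30572 = n30572 := d33_1 D30572 (iv D30572) F90482
def n30598 : Q := act 8 n21007
theorem D30598 : act 8 n21007 = n30598 := rfl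
theorem F129726 : act 4 n30598 = n21010 := d33_1 D30598 (iv D21010) (iv F90551)
theorem F129727 : act 6 n30598 = n21008 := d40_1 D30598 (iv D21008) D21007
def n30599 : Q := act 3 n21008
theorem D30599 : act 3 n21008 = n30599 := rfl
def n30601 : Q := act 8 n21009
theorem D30601 : act 8 n21009 = n30601 := rfl
theorem F129738 : act 2 n30601 = n21020 := d22_1 D30601 (iv D21020) (iv F90559)
theorem F129740 : act 7 n30601 = n21010 := d42_1 D30601 (iv D21010) D21009
def n30602 : Q := act 3 n21010
theorem D30602 : act 3 n21010 = n30602 := rfl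
theorem F129744 : act 8 n30602 = n23068 := d28_2 D21010 D30602 (iv D23068) (iv D15841) (iv F63371)
def n30604 : Q := act 4 n21011
theorem D30604 : act 4 n21011 = n30604 := rfl
theorem F129752 : act 8 n30604 = n23070 := d33_2 (iv F90570) D30604 (iv D23070)
def n30609 : Q := act 7 n21015
theorem D30609 : act 7 n21015 = n30609 := rfl
theorem F129773 : act 1 n30609 = n21022 := d14_1 D30609 (iv D21022) (iv F90585)
theorem F129775 : act 5 n30609 = n21016 := d36_1 D30609 (iv D21016) D21015
def n30610 : Q := act 8 n21015
theorem D30610 : act 8 n21015 = n30610 := rfl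
theorem F129777 : act 1 n30610 = n21023 := d15_1 D30610 (iv D21023) (iv F90585)
theorem F129778 : act 5 n30610 = n21017 := d37_1 D30610 (iv D21017) D21015
def n30611 : Q := act 8 n21016
theorem D30611 : act 8 n21016 = n30611 := rfl
theorem F129780 : act 1 n30611 = n21024 := d15_1 D30611 (iv D21024) (iv F90589)
theorem F129781 : act 4 n30611 = n21020 := d33_1 D30611 (iv D21020) (iv F90591)
def n30612 : Q := act 3 n21017
theorem D30612 : act 3 n21017 = n30612 := rfl
theorem F129784 : act 1 n30612 = n21025 := d10_1 D30612 (iv D21025) (iv F90594)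
theorem F129785 : act 4 n30612 = n21069 := d24_2 (iv F90595) D30612 (iv D21069) F63538 (iv F63399)
def n30613 : Q := act 9 n21017
theorem D30613 : act 9 n21017 = n30613 := rfl
theorem F129788 : act 1 n30613 = n21026 := d16_1 D30613 (iv D21026) (iv F90594)
def n30614 : Q := act 2 n21018
theorem D30614 : act 2 n21018 = n30614 := rfl
theorem F129792 : act 4 n30614 = n21071 := d18_2 (iv F90598) D30614 (iv D21071)
def n30615 : Q := act 9 n21018
theorem D30615 : act 9 n21018 = n30615 := rfl
theorem F129796 : act 1 n30615 = n21028 := d16_1 D30615 (iv D21028) (iv F90597)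
theorem F129798 : act 4 n30615 = n21072 := d34_1 D30615 (iv D21072) (iv F90598)
def n30616 : Q := act 9 n21020
theorem D30616 : act 9 n21020 = n30616 := rfl
theorem F129801 : act 1 n30616 = n21029 := d16_1 D30616 (iv D21029) (iv F90607)
theorem F129802 : act 3 n30616 = n21073 := d29_1 D30616 (iv D21073) (iv F90608)
def n30618 : Q := act 8 n21022
theorem D30618 : act 8 n21022 = n30618 := rfl
theorem F129814 : act 5 n30618 = n21024 := d37_1 D30618 (iv D21024) (iv F90618)
def n30619 : Q := act 3 n21023
theorem D30619 : act 3 n21023 = n30619 := rfl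
theorem F129817 : act 5 n30619 = n21025 := d25_2 (iv F90622) D30619 (iv D21025)
def n30620 : Q := act 9 n21023
theorem D30620 : act 9 n21023 = n30620 := rfl
def n30621 : Q := act 3 n21024
theorem D30621 : act 3 n21024 = n30621 := rfl
theorem F129826 : act 4 n30621 = n21078 := d24_2 (iv F90626) D30621 (iv D21078) F63563 (iv F63434)
theorem F129828 : act 7 n30621 = n21025 := d27_2 (iv F90628) D30621 (iv D21025)
def n30622 : Q := act 9 n21024
theorem D30622 : act 9 n21024 = n30622 := rfl
def n30623 : Q := act 2 n21025
theorem D30623 : act 2 n21025 = n30623 := rfl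
theorem F129836 : act 0 n30623 = n30623 := d1_1 D30623 (iv D30623) F90629
theorem F129837 : act 3 n30623 = n30623 := d17_2 D21025 D30623 (iv D30623) (iv D21025) F63418
theorem F129838 : act 4 n30623 = n21080 := d18_2 (iv F90630) D30623 (iv D21080)
theorem F129839 : act 6 n30623 = n21027 := d20_2 (iv F90631) D30623 (iv D21027)
theorem F129840 : act 8 n30623 = n30623 := d22_2 F90632 D30623 (iv D30623)
def n30624 : Q := act 9 n21025
theorem D30624 : act 9 n21025 = n30624 := rfl
theorem F129841 : act 0 n30624 = n30624 := d8_1 D30624 (iv D30624) F90629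
theorem F129842 : act 3 n30624 = n21026 := d29_1 D30624 (iv D21026) D21025
theorem F129843 : act 4 n30624 = n21081 := d34_1 D30624 (iv D21081) (iv F90630)
theorem F129844 : act 6 n30624 = n21028 := d41_1 D30624 (iv D21028) (iv F90631)
def n30625 : Q := act 1 n21027
theorem D30625 : act 1 n21027 = n30625 := rfl
theorem F129845 : act 3 n30625 = n30625 := d10_2 F90639 D30625 (iv D30625)
theorem F129846 : act 4 n30625 = n21082 := d11_2 (iv F90640) D30625 (iv D21082)
theorem F129847 : act 5 n30625 = n30625 := d12_2 F90641 D30625 (iv D30625)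
theorem F129848 : act 7 n30625 = n30625 := d14_2 F90642 D30625 (iv D30625)
theorem F129849 : act 8 n30625 = n30625 := d15_2 F90643 D30625 (iv D30625)
def n30626 : Q := act 9 n21027
theorem D30626 : act 9 n21027 = n30626 := rfl
theorem F129850 : act 0 n30626 = n30626 := d8_1 D30626 (iv D30626) F90638
theorem F129851 : act 2 n30626 = n21028 := d23_1 D30626 (iv D21028) D21027
theorem F129852 : act 3 n30626 = n30626 := d29_1 D30626 (iv D30626) F90639
theorem F129853 : act 4 n30626 = n21083 := d34_1 D30626 (iv D21083) (iv F90640)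
theorem F129854 : act 5 n30626 = n30626 := d38_1 D30626 (iv D30626) F90641
theorem F129855 : act 7 n30626 = n30626 := d43_1 D30626 (iv D30626) F90642
def n30627 : Q := act 8 n21028
theorem D30627 : act 8 n21028 = n30627 := rfl
theorem F129856 : act 0 n30627 = n30627 := d7_1 D30627 (iv D30627) F90644
theorem F129857 : act 3 n30627 = n30627 := d28_1 D30627 (iv D30627) F90645 F63431 (iv F90645)
theorem F129858 : act 4 n30627 = n21084 := d33_1 D30627 (iv D21084) (iv F90646)
theorem F129859 : act 5 n30627 = n30627 := d37_1 D30627 (iv D30627) F90647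
theorem F129860 : act 7 n30627 = n30627 := d42_1 D30627 (iv D30627) F90648
theorem F129861 : act 9 n30627 = n30627 := d44_2 D21028 D30627 (iv D30627) (iv D21028) F63425
def n30628 : Q := act 3 n21030
theorem D30628 : act 3 n21030 = n30628 := rfl
theorem F129862 : act 0 n30628 = n21393 := d2_1 D30628 (iv D21393) (iv F90655)
def n30629 : Q := act 6 n21030
theorem D30629 : act 6 n21030 = n30629 := rfl
theorem F129867 : act 0 n30629 = n21394 := d5_1 D30629 (iv D21394) (iv F90655)
theorem F129870 : act 4 n30629 = n21031 := d31_1 D30629 (iv D21031) D21030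
theorem F129871 : act 9 n30629 = n21086 := d41_2 (iv F90659) D30629 (iv D21086)
def n30630 : Q := act 8 n21030
theorem D30630 : act 8 n21030 = n30630 := rfl
theorem F129875 : act 4 n30630 = n21032 := d33_1 D30630 (iv D21032) D21030
def n30631 : Q := act 7 n21031
theorem D30631 : act 7 n21031 = n30631 := rfl
theorem F129877 : act 0 n30631 = n21396 := d6_1 D30631 (iv D21396) (iv F90660)
theorem F129878 : act 1 n30631 = n21038 := d14_1 D30631 (iv D21038) (iv F90661)
theorem F129882 : act 9 n30631 = n21088 := d43_2 (iv F90664) D30631 (iv D21088)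
def n30632 : Q := act 8 n21031
theorem D30632 : act 8 n21031 = n30632 := rfl
def n30633 : Q := act 3 n21032
theorem D30633 : act 3 n21032 = n30633 := rfl
theorem F129891 : act 8 n30633 = n23099 := d28_2 D21032 D30633 (iv D23099) (iv D15863) (iv F63445)
def n30634 : Q := act 9 n21032
theorem D30634 : act 9 n21032 = n30634 := rfl
theorem F129897 : act 8 n30634 = n21091 := d44_1 D30634 (iv D21091) (iv D14494) (iv F63447) D21032
def n30638 : Q := act 6 n21035
theorem D30638 : act 6 n21035 = n30638 := rfl
theorem F129910 : act 0 n30638 = n21051 := d5_1 D30638 (iv D21051) (iv F90679)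
theorem F129912 : act 3 n30638 = n21036 := d26_1 D30638 (iv D21036) D21035
theorem F129914 : act 9 n30638 = n21095 := d41_2 (iv F90683) D30638 (iv D21095)
def n30639 : Q := act 8 n21035
theorem D30639 : act 8 n21035 = n30639 := rfl
theorem F129915 : act 0 n30639 = n21052 := d7_1 D30639 (iv D21052) (iv F90679)
def n30640 : Q := act 5 n21036
theorem D30640 : act 5 n21036 = n30640 := rfl
theorem F129919 : act 0 n30640 = n21053 := d4_1 D30640 (iv D21053) (iv F90684)
theorem F129921 : act 9 n30640 = n21097 := d38_2 (iv F90687) D30640 (iv D21097)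
def n30641 : Q := act 7 n21036
theorem D30641 : act 7 n21036 = n30641 := rfl
theorem F129922 : act 0 n30641 = n21054 := d6_1 D30641 (iv D21054) (iv F90684)
theorem F129924 : act 4 n30641 = n21038 := d32_1 D30641 (iv D21038) (iv F90686)
theorem F129926 : act 9 n30641 = n21098 := d43_2 (iv F90687) D30641 (iv D21098)
def n30642 : Q := act 8 n21036
theorem D30642 : act 8 n21036 = n30642 := rfl
theorem F129927 : act 0 n30642 = n21055 := d7_1 D30642 (iv D21055) (iv F90684)
def n30643 : Q := act 3 n21037
theorem D30643 : act 3 n21037 = n30643 := rfl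
theorem F129931 : act 0 n30643 = n21056 := d2_1 D30643 (iv D21056) (iv F90688)
def n30644 : Q := act 9 n21037
theorem D30644 : act 9 n21037 = n30644 := rfl
theorem F129933 : act 0 n30644 = n21057 := d8_1 D30644 (iv D21057) (iv F90688)
theorem F129937 : act 8 n30644 = n21101 := d44_1 D30644 (iv D21101) (iv D14499) (iv F63455) D21037
def n30645 : Q := act 8 n21038
theorem D30645 : act 8 n21038 = n30645 := rfl
theorem F129938 : act 0 n30645 = n21058 := d7_1 D30645 (iv D21058) (iv F90692)
theorem F129941 : act 7 n30645 = n21039 := d42_1 D30645 (iv D21039) D21038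
def n30647 : Q := act 9 n21039
theorem D30647 : act 9 n21039 = n30647 := rfl
theorem F129945 : act 0 n30647 = n21060 := d8_1 D30647 (iv D21060) (iv F90697)
theorem F129948 : act 8 n30647 = n21104 := d44_1 D30647 (iv D21104) (iv D14501) (iv F63459) D21039
def n30648 : Q := act 4 n21040
theorem D30648 : act 4 n21040 = n30648 := rfl
theorem F129951 : act 8 n30648 = n23114 := d33_2 (iv F90703) D30648 (iv D23114)
def n30653 : Q := act 7 n21044
theorem D30653 : act 7 n21044 = n30653 := rfl
theorem F129966 : act 0 n30653 = n21066 := d6_1 D30653 (iv D21066) (iv F90715)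
theorem F129970 : act 9 n30653 = n21110 := d43_2 (iv F90718) D30653 (iv D21110)
def n30654 : Q := act 8 n21044
theorem D30654 : act 8 n21044 = n30654 := rfl
theorem F129971 : act 0 n30654 = n21067 := d7_1 D30654 (iv D21067) (iv F90715)
def n30655 : Q := act 8 n21045
theorem D30655 : act 8 n21045 = n30655 := rfl
theorem F129974 : act 0 n30655 = n21068 := d7_1 D30655 (iv D21068) (iv F90719)
def n30656 : Q := act 3 n21046
theorem D30656 : act 3 n21046 = n30656 := rfl
theorem F129979 : act 0 n30656 = n21069 := d2_1 D30656 (iv D21069) (iv F90725)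
def n30657 : Q := act 9 n21046
theorem D30657 : act 9 n21046 = n30657 := rfl
theorem F129983 : act 0 n30657 = n21070 := d8_1 D30657 (iv D21070) (iv F90725)
theorem F129987 : act 8 n30657 = n21114 := d44_1 D30657 (iv D21114) (iv D14508) (iv F63475) D21046
def n30658 : Q := act 2 n21047
theorem D30658 : act 2 n21047 = n30658 := rfl
theorem F129988 : act 0 n30658 = n21071 := d1_1 D30658 (iv D21071) (iv F90729)
def n30659 : Q := act 9 n21047
theorem D30659 : act 9 n21047 = n30659 := rfl
theorem F129991 : act 0 n30659 = n21072 := d8_1 D30659 (iv D21072) (iv F90729)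
theorem F129993 : act 3 n30659 = n21048 := d29_1 D30659 (iv D21048) D21047
def n30660 : Q := act 9 n21049
theorem D30660 : act 9 n21049 = n30660 := rfl
theorem F129995 : act 0 n30660 = n21073 := d8_1 D30660 (iv D21073) (iv F90738)
theorem F129999 : act 8 n30660 = n21117 := d44_1 D30660 (iv D21117) (iv D14511) (iv F63484) D21049
def n30661 : Q := act 5 n21051
theorem D30661 : act 5 n21051 = n30661 := rfl
theorem F130000 : act 1 n30661 = n21426 := d12_1 D30661 (iv D21426) (iv F90746)
theorem F130001 : act 2 n30661 = n30661 := d19_1 D30661 (iv D30661) F90747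
theorem F130002 : act 3 n30661 = n21053 := d25_1 D30661 (iv D21053) (iv F90748)
theorem F130003 : act 9 n30661 = n21118 := d38_2 (iv F90750) D30661 (iv D21118)
def n30662 : Q := act 7 n21051
theorem D30662 : act 7 n21051 = n30662 := rfl
theorem F130004 : act 1 n30662 = n21427 := d14_1 D30662 (iv D21427) (iv F90746)
theorem F130005 : act 2 n30662 = n30662 := d21_1 D30662 (iv D30662) F90747
theorem F130006 : act 3 n30662 = n21054 := d27_1 D30662 (iv D21054) (iv F90748)
theorem F130007 : act 4 n30662 = n23128 := d32_1 D30662 (iv D23128) (iv F90749)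
theorem F130008 : act 6 n30662 = n30662 := d39_1 D30662 (iv D30662) (iv D21051) F63496 D21051
theorem F130009 : act 9 n30662 = n21119 := d43_2 (iv F90750) D30662 (iv D21119)
def n30663 : Q := act 8 n21051
theorem D30663 : act 8 n21051 = n30663 := rfl
theorem F130010 : act 1 n30663 = n21428 := d15_1 D30663 (iv D21428) (iv F90746)
theorem F130011 : act 2 n30663 = n30663 := d22_1 D30663 (iv D30663) F90747
theorem F130012 : act 4 n30663 = n23129 := d33_1 D30663 (iv D23129) (iv F90749)
theorem F130013 : act 6 n30663 = n21052 := d40_1 D30663 (iv D21052) D21051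
def n30664 : Q := act 3 n21052
theorem D30664 : act 3 n21052 = n30664 := rfl
theorem F130014 : act 1 n30664 = n21429 := d10_1 D30664 (iv D21429) (iv F90751)
theorem F130015 : act 7 n30664 = n30664 := d27_2 F90754 D30664 (iv D30664)
theorem F130016 : act 8 n30664 = n21056 := d28_2 D21052 D30664 (iv D21056) (iv D14470) D14468
def n30665 : Q := act 9 n21052
theorem D30665 : act 9 n21052 = n30665 := rfl
theorem F130017 : act 1 n30665 = n21430 := d16_1 D30665 (iv D21430) (iv F90751)
theorem F130018 : act 2 n30665 = n30665 := d23_1 D30665 (iv D30665) F90752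
theorem F130019 : act 4 n30665 = n23131 := d34_1 D30665 (iv D23131) (iv F90753)
theorem F130020 : act 7 n30665 = n30665 := d43_1 D30665 (iv D30665) F90754
theorem F130021 : act 8 n30665 = n21122 := d44_1 D30665 (iv D21122) (iv D14514) (iv F63497) D21052
def n30666 : Q := act 7 n21053
theorem D30666 : act 7 n21053 = n30666 := rfl
theorem F130022 : act 1 n30666 = n21431 := d14_1 D30666 (iv D21431) (iv F90755)
theorem F130023 : act 2 n30666 = n21066 := d21_1 D30666 (iv D21066) (iv F90756)
theorem F130024 : act 5 n30666 = n21054 := d36_1 D30666 (iv D21054) D21053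
theorem F130025 : act 9 n30666 = n21123 := d43_2 (iv F90757) D30666 (iv D21123)
def n30667 : Q := act 8 n21053
theorem D30667 : act 8 n21053 = n30667 := rfl
theorem F130026 : act 1 n30667 = n21432 := d15_1 D30667 (iv D21432) (iv F90755)
theorem F130027 : act 2 n30667 = n21067 := d22_1 D30667 (iv D21067) (iv F90756)
theorem F130028 : act 5 n30667 = n21055 := d37_1 D30667 (iv D21055) D21053
def n30668 : Q := act 8 n21054
theorem D30668 : act 8 n21054 = n30668 := rfl
theorem F130029 : act 1 n30668 = n21433 := d15_1 D30668 (iv D21433) (iv F90758)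
theorem F130030 : act 2 n30668 = n21068 := d22_1 D30668 (iv D21068) (iv F90759)
theorem F130031 : act 4 n30668 = n21058 := d33_1 D30668 (iv D21058) (iv F90760)
theorem F130032 : act 6 n30668 = n30668 := d40_1 D30668 (iv D30668) F90761
theorem F130033 : act 7 n30668 = n21055 := d42_1 D30668 (iv D21055) D21054
def n30669 : Q := act 3 n21055
theorem D30669 : act 3 n21055 = n30669 := rfl
theorem F130034 : act 1 n30669 = n21434 := d10_1 D30669 (iv D21434) (iv F90763)
theorem F130035 : act 6 n30669 = n21056 := d26_2 (iv F90766) D30669 (iv D21056)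
def n30670 : Q := act 9 n21055
theorem D30670 : act 9 n21055 = n30670 := rfl
theorem F130036 : act 1 n30670 = n21435 := d16_1 D30670 (iv D21435) (iv F90763)
theorem F130037 : act 2 n30670 = n21070 := d23_1 D30670 (iv D21070) (iv F90764)
theorem F130038 : act 4 n30670 = n21060 := d34_1 D30670 (iv D21060) (iv F90765)
theorem F130039 : act 6 n30670 = n21057 := d41_1 D30670 (iv D21057) (iv F90766)
theorem F130040 : act 8 n30670 = n21127 := d44_1 D30670 (iv D21127) (iv D14517) (iv F63501) D21055
def n30671 : Q := act 2 n21056
theorem D30671 : act 2 n21056 = n30671 := rfl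
theorem F130041 : act 3 n30671 = n21071 := d17_2 D21056 D30671 (iv D21071) (iv D14480) (iv F63503)
theorem F130042 : act 7 n30671 = n30671 := d21_2 F90768 D30671 (iv D30671)
def n30672 : Q := act 4 n21056
theorem D30672 : act 4 n21056 = n30672 := rfl
theorem F130043 : act 1 n30672 = n21437 := d11_1 D30672 (iv D21437) (iv F90767)
theorem F130044 : act 3 n30672 = n21061 := d24_1 D30672 (iv D21061) (iv D14473) (iv F63504) D21056
def n30673 : Q := act 9 n21056
theorem D30673 : act 9 n21056 = n30673 := rfl
theorem F130046 : act 1 n30673 = n21438 := d16_1 D30673 (iv D21438) (iv F90767)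
theorem F130047 : act 3 n30673 = n21057 := d29_1 D30673 (iv D21057) D21056
theorem F130048 : act 7 n30673 = n30673 := d43_1 D30673 (iv D30673) F90768
def n30674 : Q := act 3 n21058
theorem D30674 : act 3 n21058 = n30674 := rfl
theorem F130051 : act 7 n30674 = n21059 := d27_2 (iv F90777) D30674 (iv D21059)
def n30675 : Q := act 9 n21058
theorem D30675 : act 9 n21058 = n30675 := rfl
theorem F130053 : act 1 n30675 = n21440 := d16_1 D30675 (iv D21440) (iv F90774)
theorem F130054 : act 2 n30675 = n21073 := d23_1 D30675 (iv D21073) (iv F90775)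
theorem F130055 : act 6 n30675 = n30675 := d41_1 D30675 (iv D30675) F90776
theorem F130056 : act 7 n30675 = n21060 := d43_1 D30675 (iv D21060) (iv F90777)
theorem F130057 : act 8 n30675 = n21132 := d44_1 D30675 (iv D21132) (iv D14520) (iv F63510) D21058
def n30676 : Q := act 4 n21059
theorem D30676 : act 4 n21059 = n30676 := rfl
theorem F130058 : act 1 n30676 = n21441 := d11_1 D30676 (iv D21441) (iv F90778)
def n30677 : Q := act 9 n21059
theorem D30677 : act 9 n21059 = n30677 := rfl
theorem F130061 : act 1 n30677 = n21442 := d16_1 D30677 (iv D21442) (iv F90778)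
theorem F130062 : act 3 n30677 = n21060 := d29_1 D30677 (iv D21060) D21059
def n30678 : Q := act 5 n21061
theorem D30678 : act 5 n21061 = n30678 := rfl
theorem F130067 : act 8 n30678 = n23144 := d37_2 (iv F90787) D30678 (iv D23144)
def n30679 : Q := act 9 n21061
theorem D30679 : act 9 n21061 = n30679 := rfl
theorem F130068 : act 1 n30679 = n21444 := d16_1 D30679 (iv D21444) (iv F90785)
def n30681 : Q := act 6 n21063
theorem D30681 : act 6 n21063 = n30681 := rfl
theorem F130077 : act 8 n30681 = n23147 := d40_2 (iv F90794) D30681 (iv D23147)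
def n30684 : Q := act 6 n21066
theorem D30684 : act 6 n21066 = n30684 := rfl
theorem F130085 : act 1 n30684 = n21074 := d13_1 D30684 (iv D21074) (iv F90802)
theorem F130086 : act 3 n30684 = n30684 := d26_1 D30684 (iv D30684) F90803
theorem F130087 : act 5 n30684 = n30684 := d35_1 D30684 (iv D30684) F90804 F63535 (iv F90804)
theorem F130088 : act 9 n30684 = n21141 := d41_2 (iv F90805) D30684 (iv D21141)
def n30685 : Q := act 8 n21066
theorem D30685 : act 8 n21066 = n30685 := rfl
theorem F130089 : act 1 n30685 = n21075 := d15_1 D30685 (iv D21075) (iv F90802)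
theorem F130090 : act 5 n30685 = n21068 := d37_1 D30685 (iv D21068) (iv F90804)
theorem F130091 : act 7 n30685 = n21067 := d42_1 D30685 (iv D21067) D21066
def n30686 : Q := act 3 n21067
theorem D30686 : act 3 n21067 = n30686 := rfl
theorem F130092 : act 1 n30686 = n21076 := d10_1 D30686 (iv D21076) (iv F90806)
theorem F130093 : act 5 n30686 = n21069 := d25_2 (iv F90807) D30686 (iv D21069)
theorem F130094 : act 8 n30686 = n30686 := d28_2 D21067 D30686 (iv D30686) (iv D21067) F63530
def n30687 : Q := act 9 n21067
theorem D30687 : act 9 n21067 = n30687 := rfl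
theorem F130095 : act 1 n30687 = n21077 := d16_1 D30687 (iv D21077) (iv F90806)
theorem F130096 : act 5 n30687 = n21070 := d38_1 D30687 (iv D21070) (iv F90807)
theorem F130097 : act 8 n30687 = n21144 := d44_1 D30687 (iv D21144) (iv D14529) (iv F63531) D21067
def n30688 : Q := act 3 n21068
theorem D30688 : act 3 n21068 = n30688 := rfl
theorem F130098 : act 1 n30688 = n21078 := d10_1 D30688 (iv D21078) (iv F90808)
theorem F130099 : act 6 n30688 = n30688 := d26_2 F90810 D30688 (iv D30688)
theorem F130100 : act 7 n30688 = n21069 := d27_2 (iv F90811) D30688 (iv D21069)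
theorem F130101 : act 8 n30688 = n30688 := d28_2 D21068 D30688 (iv D30688) (iv D21068) F63533
def n30689 : Q := act 9 n21068
theorem D30689 : act 9 n21068 = n30689 := rfl
theorem F130102 : act 1 n30689 = n21079 := d16_1 D30689 (iv D21079) (iv F90808)
theorem F130103 : act 4 n30689 = n21073 := d34_1 D30689 (iv D21073) (iv F90809)
theorem F130104 : act 6 n30689 = n30689 := d41_1 D30689 (iv D30689) F90810
theorem F130105 : act 7 n30689 = n21070 := d43_1 D30689 (iv D21070) (iv F90811)
theorem F130106 : act 8 n30689 = n21146 := d44_1 D30689 (iv D21146) (iv D14530) (iv F63536) D21068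
def n30690 : Q := act 2 n21069
theorem D30690 : act 2 n21069 = n30690 := rfl
theorem F130107 : act 6 n30690 = n21071 := d20_2 (iv F90813) D30690 (iv D21071)
theorem F130108 : act 8 n30690 = n30690 := d22_2 F90814 D30690 (iv D30690)
def n30691 : Q := act 9 n21069
theorem D30691 : act 9 n21069 = n30691 := rfl
theorem F130109 : act 1 n30691 = n21081 := d16_1 D30691 (iv D21081) (iv F90812)
theorem F130110 : act 3 n30691 = n21070 := d29_1 D30691 (iv D21070) D21069
theorem F130111 : act 6 n30691 = n21072 := d41_1 D30691 (iv D21072) (iv F90813)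
def n30692 : Q := act 1 n21071
theorem D30692 : act 1 n21071 = n30692 := rfl
theorem F130112 : act 2 n30692 = n21082 := d9_2 D21071 D30692 (iv D21082) (iv D14489) (iv F63540)
theorem F130113 : act 7 n30692 = n30692 := d14_2 F90819 D30692 (iv D30692)
theorem F130114 : act 8 n30692 = n30692 := d15_2 F90820 D30692 (iv D30692)
def n30693 : Q := act 9 n21071
theorem D30693 : act 9 n21071 = n30693 := rfl
theorem F130115 : act 2 n30693 = n21072 := d23_1 D30693 (iv D21072) D21071
theorem F130116 : act 7 n30693 = n30693 := d43_1 D30693 (iv D30693) F90819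
def n30694 : Q := act 8 n21072
theorem D30694 : act 8 n21072 = n30694 := rfl
theorem F130117 : act 1 n30694 = n21084 := d15_1 D30694 (iv D21084) (iv F90821)
theorem F130118 : act 3 n30694 = n21151 := d28_1 D30694 (iv D21151) F63748 (iv F63546) (iv F90822)
theorem F130119 : act 7 n30694 = n30694 := d42_1 D30694 (iv D30694) F90823
theorem F130120 : act 9 n30694 = n30694 := d44_2 D21072 D30694 (iv D30694) (iv D21072) F63542
def n30695 : Q := act 8 n21074
theorem D30695 : act 8 n21074 = n30695 := rfl
theorem F130122 : act 2 n30695 = n21460 := d22_1 D30695 (iv D21460) (iv F90829)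
theorem F130124 : act 6 n30695 = n21075 := d40_1 D30695 (iv D21075) D21074
def n30696 : Q := act 3 n21075
theorem D30696 : act 3 n21075 = n30696 := rfl
theorem F130126 : act 5 n30696 = n21078 := d25_2 (iv F90835) D30696 (iv D21078)
theorem F130127 : act 7 n30696 = n21076 := d27_2 (iv F90836) D30696 (iv D21076)
def n30697 : Q := act 9 n21075
theorem D30697 : act 9 n21075 = n30697 := rfl
theorem F130129 : act 0 n30697 = n30697 := d8_1 D30697 (iv D30697) F90833
theorem F130130 : act 2 n30697 = n21462 := d23_1 D30697 (iv D21462) (iv F90834)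
theorem F130131 : act 5 n30697 = n21079 := d38_1 D30697 (iv D21079) (iv F90835)
theorem F130132 : act 7 n30697 = n21077 := d43_1 D30697 (iv D21077) (iv F90836)
theorem F130133 : act 8 n30697 = n21154 := d44_1 D30697 (iv D21154) (iv D14537) (iv F63557) D21075
def n30698 : Q := act 2 n21076
theorem D30698 : act 2 n21076 = n30698 := rfl
theorem F130134 : act 0 n30698 = n30698 := d1_1 D30698 (iv D30698) F90837
theorem F130135 : act 3 n30698 = n21463 := d17_2 D21076 D30698 (iv D21463) (iv D14745) (iv F63559)
theorem F130136 : act 5 n30698 = n21080 := d19_2 (iv F90838) D30698 (iv D21080)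
theorem F130137 : act 8 n30698 = n30698 := d22_2 F90839 D30698 (iv D30698)
def n30699 : Q := act 4 n21076
theorem D30699 : act 4 n21076 = n30699 := rfl
def n30700 : Q := act 9 n21076
theorem D30700 : act 9 n21076 = n30700 := rfl
theorem F130140 : act 0 n30700 = n30700 := d8_1 D30700 (iv D30700) F90837
theorem F130141 : act 3 n30700 = n21077 := d29_1 D30700 (iv D21077) D21076
theorem F130142 : act 5 n30700 = n21081 := d38_1 D30700 (iv D21081) (iv F90838)
def n30701 : Q := act 2 n21078
theorem D30701 : act 2 n21078 = n30701 := rfl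
theorem F130143 : act 0 n30701 = n30701 := d1_1 D30701 (iv D30701) F90844
theorem F130144 : act 3 n30701 = n21466 := d17_2 D21078 D30701 (iv D21466) (iv D14747) (iv F63562)
theorem F130145 : act 6 n30701 = n30701 := d20_2 F90845 D30701 (iv D30701)
theorem F130146 : act 7 n30701 = n21080 := d21_2 (iv F90846) D30701 (iv D21080)
theorem F130147 : act 8 n30701 = n30701 := d22_2 F90847 D30701 (iv D30701)
def n30702 : Q := act 9 n21078
theorem D30702 : act 9 n21078 = n30702 := rfl
theorem F130148 : act 0 n30702 = n30702 := d8_1 D30702 (iv D30702) F90844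
theorem F130149 : act 3 n30702 = n21079 := d29_1 D30702 (iv D21079) D21078
theorem F130150 : act 6 n30702 = n30702 := d41_1 D30702 (iv D30702) F90845
theorem F130151 : act 7 n30702 = n21081 := d43_1 D30702 (iv D21081) (iv F90846)
def n30703 : Q := act 1 n21080
theorem D30703 : act 1 n21080 = n30703 := rfl
theorem F130152 : act 3 n30703 = n21468 := d10_2 (iv F90855) D30703 (iv D21468)
theorem F130153 : act 6 n30703 = n21082 := d13_2 (iv F90856) D30703 (iv D21082)
theorem F130154 : act 8 n30703 = n30703 := d15_2 F90857 D30703 (iv D30703)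
def n30704 : Q := act 9 n21080
theorem D30704 : act 9 n21080 = n30704 := rfl
theorem F130155 : act 0 n30704 = n30704 := d8_1 D30704 (iv D30704) F90854
theorem F130156 : act 2 n30704 = n21081 := d23_1 D30704 (iv D21081) D21080
theorem F130157 : act 3 n30704 = n21469 := d29_1 D30704 (iv D21469) (iv F90855)
theorem F130158 : act 6 n30704 = n21083 := d41_1 D30704 (iv D21083) (iv F90856)
def n30705 : Q := act 8 n21081
theorem D30705 : act 8 n21081 = n30705 := rfl
theorem F130159 : act 0 n30705 = n30705 := d7_1 D30705 (iv D30705) F90858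
theorem F130160 : act 3 n30705 = n21162 := d28_1 D30705 (iv D21162) F63785 (iv F63573) (iv F90859)
theorem F130161 : act 6 n30705 = n21084 := d40_1 D30705 (iv D21084) (iv F90860)
theorem F130162 : act 9 n30705 = n30705 := d44_2 D21081 D30705 (iv D30705) (iv D21081) F63568
def n30706 : Q := act 0 n21082
theorem D30706 : act 0 n21082 = n30706 := rfl
theorem F130163 : act 1 n30706 = n30706 := d0_2 D21082 D30706 (iv D30706) (iv D21082) F63574
theorem F130164 : act 3 n30706 = n21471 := d2_2 (iv F90861) D30706 (iv D21471)
theorem F130165 : act 7 n30706 = n30706 := d6_2 F90862 D30706 (iv D30706)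
theorem F130166 : act 8 n30706 = n30706 := d7_2 F90863 D30706 (iv D30706)
def n30707 : Q := act 9 n21082
theorem D30707 : act 9 n21082 = n30707 := rfl
theorem F130167 : act 1 n30707 = n21083 := d16_1 D30707 (iv D21083) D21082
theorem F130168 : act 3 n30707 = n21472 := d29_1 D30707 (iv D21472) (iv F90861)
theorem F130169 : act 7 n30707 = n30707 := d43_1 D30707 (iv D30707) F90862
def n30708 : Q := act 8 n21083
theorem D30708 : act 8 n21083 = n30708 := rfl
theorem F130170 : act 0 n30708 = n30708 := d7_1 D30708 (iv D30708) F90864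
theorem F130171 : act 2 n30708 = n21084 := d22_1 D30708 (iv D21084) (iv F90865)
theorem F130172 : act 7 n30708 = n30708 := d42_1 D30708 (iv D30708) F90867
theorem F130173 : act 9 n30708 = n30708 := d44_2 D21083 D30708 (iv D30708) (iv D21083) F63577
def n30709 : Q := act 2 n21085
theorem D30709 : act 2 n21085 = n30709 := rfl
theorem F130177 : act 4 n30709 = n23175 := d18_2 (iv F90874) D30709 (iv D23175)
def n30710 : Q := act 6 n21085
theorem D30710 : act 6 n21085 = n30710 := rfl
theorem F130179 : act 0 n30710 = n21475 := d5_1 D30710 (iv D21475) (iv F90872)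
theorem F130180 : act 1 n30710 = n21095 := d13_1 D30710 (iv D21095) (iv F90873)
theorem F130181 : act 3 n30710 = n21086 := d26_1 D30710 (iv D21086) D21085
theorem F130182 : act 4 n30710 = n23176 := d31_1 D30710 (iv D23176) (iv F90874)
def n30711 : Q := act 8 n21085
theorem D30711 : act 8 n21085 = n30711 := rfl
theorem F130183 : act 0 n30711 = n21476 := d7_1 D30711 (iv D21476) (iv F90872)
theorem F130184 : act 1 n30711 = n21096 := d15_1 D30711 (iv D21096) (iv F90873)
theorem F130185 : act 4 n30711 = n23177 := d33_1 D30711 (iv D23177) (iv F90874)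
theorem F130186 : act 7 n30711 = n30711 := d42_1 D30711 (iv D30711) F90875
def n30712 : Q := act 5 n21086
theorem D30712 : act 5 n21086 = n30712 := rfl
theorem F130187 : act 0 n30712 = n21477 := d4_1 D30712 (iv D21477) (iv F90876)
theorem F130188 : act 1 n30712 = n21097 := d12_1 D30712 (iv D21097) (iv F90877)
theorem F130189 : act 2 n30712 = n30712 := d19_1 D30712 (iv D30712) F90878
def n30713 : Q := act 7 n21086
theorem D30713 : act 7 n21086 = n30713 := rfl
theorem F130190 : act 0 n30713 = n21478 := d6_1 D30713 (iv D21478) (iv F90876)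
theorem F130191 : act 1 n30713 = n21098 := d14_1 D30713 (iv D21098) (iv F90877)
theorem F130192 : act 2 n30713 = n30713 := d21_1 D30713 (iv D30713) F90878
theorem F130193 : act 4 n30713 = n21088 := d32_1 D30713 (iv D21088) (iv F90879)
theorem F130194 : act 6 n30713 = n30713 := d39_1 D30713 (iv D30713) (iv D21086) F63589 D21086
def n30714 : Q := act 8 n21086
theorem D30714 : act 8 n21086 = n30714 := rfl
theorem F130195 : act 0 n30714 = n21479 := d7_1 D30714 (iv D21479) (iv F90876)
theorem F130196 : act 1 n30714 = n21099 := d15_1 D30714 (iv D21099) (iv F90877)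
theorem F130197 : act 2 n30714 = n30714 := d22_1 D30714 (iv D30714) F90878
theorem F130198 : act 4 n30714 = n21089 := d33_1 D30714 (iv D21089) (iv F90879)
theorem F130199 : act 6 n30714 = n21087 := d40_1 D30714 (iv D21087) D21086
def n30715 : Q := act 3 n21087
theorem D30715 : act 3 n21087 = n30715 := rfl
theorem F130200 : act 0 n30715 = n21480 := d2_1 D30715 (iv D21480) (iv F90880)
theorem F130201 : act 1 n30715 = n21100 := d10_1 D30715 (iv D21100) (iv F90881)
theorem F130202 : act 7 n30715 = n30715 := d27_2 F90884 D30715 (iv D30715)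
def n30716 : Q := act 9 n21087
theorem D30716 : act 9 n21087 = n30716 := rfl
theorem F130203 : act 0 n30716 = n21481 := d8_1 D30716 (iv D21481) (iv F90880)
theorem F130204 : act 1 n30716 = n21101 := d16_1 D30716 (iv D21101) (iv F90881)
theorem F130205 : act 2 n30716 = n30716 := d23_1 D30716 (iv D30716) F90882
theorem F130206 : act 4 n30716 = n21091 := d34_1 D30716 (iv D21091) (iv F90883)
theorem F130207 : act 7 n30716 = n30716 := d43_1 D30716 (iv D30716) F90884
def n30717 : Q := act 8 n21088
theorem D30717 : act 8 n21088 = n30717 := rfl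
theorem F130208 : act 0 n30717 = n21482 := d7_1 D30717 (iv D21482) (iv F90885)
theorem F130209 : act 1 n30717 = n21102 := d15_1 D30717 (iv D21102) (iv F90886)
theorem F130210 : act 2 n30717 = n30717 := d22_1 D30717 (iv D30717) F90887
theorem F130211 : act 6 n30717 = n30717 := d40_1 D30717 (iv D30717) F90889
theorem F130212 : act 7 n30717 = n21089 := d42_1 D30717 (iv D21089) D21088
def n30718 : Q := act 3 n21089
theorem D30718 : act 3 n21089 = n30718 := rfl
theorem F130214 : act 1 n30718 = n21103 := d10_1 D30718 (iv D21103) (iv F90891)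
theorem F130216 : act 8 n30718 = n23184 := d28_2 D21089 D30718 (iv D23184) (iv D15920) (iv F63593)
def n30719 : Q := act 9 n21089
theorem D30719 : act 9 n21089 = n30719 := rfl
theorem F130217 : act 0 n30719 = n21484 := d8_1 D30719 (iv D21484) (iv F90890)
theorem F130218 : act 1 n30719 = n21104 := d16_1 D30719 (iv D21104) (iv F90891)
theorem F130219 : act 2 n30719 = n30719 := d23_1 D30719 (iv D30719) F90892
theorem F130220 : act 6 n30719 = n21091 := d41_1 D30719 (iv D21091) (iv F90893)
def n30721 : Q := act 4 n21090
theorem D30721 : act 4 n21090 = n30721 := rfl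
theorem F130228 : act 1 n30721 = n21105 := d11_1 D30721 (iv D21105) (iv F90895)
theorem F130230 : act 8 n30721 = n23187 := d33_2 (iv F90898) D30721 (iv D23187)
def n30722 : Q := act 9 n21090
theorem D30722 : act 9 n21090 = n30722 := rfl
theorem F130232 : act 1 n30722 = n21106 := d16_1 D30722 (iv D21106) (iv F90895)
theorem F130233 : act 3 n30722 = n21091 := d29_1 D30722 (iv D21091) D21090
def n30725 : Q := act 5 n21093
theorem D30725 : act 5 n21093 = n30725 := rfl
theorem F130249 : act 8 n30725 = n23191 := d37_2 (iv F90912) D30725 (iv D23191)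
def n30728 : Q := act 5 n21095
theorem D30728 : act 5 n21095 = n30728 := rfl
theorem F130258 : act 0 n30728 = n21118 := d4_1 D30728 (iv D21118) (iv F90917)
theorem F130259 : act 2 n30728 = n30728 := d19_1 D30728 (iv D30728) F90918
theorem F130260 : act 3 n30728 = n21097 := d25_1 D30728 (iv D21097) (iv F90919)
def n30729 : Q := act 7 n21095
theorem D30729 : act 7 n21095 = n30729 := rfl
theorem F130261 : act 0 n30729 = n21119 := d6_1 D30729 (iv D21119) (iv F90917)
theorem F130262 : act 2 n30729 = n30729 := d21_1 D30729 (iv D30729) F90918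
theorem F130263 : act 3 n30729 = n21098 := d27_1 D30729 (iv D21098) (iv F90919)
theorem F130264 : act 4 n30729 = n23195 := d32_1 D30729 (iv D23195) (iv F90920)
theorem F130265 : act 6 n30729 = n30729 := d39_1 D30729 (iv D30729) (iv D21095) F63610 D21095
def n30730 : Q := act 8 n21095
theorem D30730 : act 8 n21095 = n30730 := rfl
theorem F130266 : act 0 n30730 = n21120 := d7_1 D30730 (iv D21120) (iv F90917)
theorem F130267 : act 2 n30730 = n30730 := d22_1 D30730 (iv D30730) F90918
theorem F130268 : act 4 n30730 = n23196 := d33_1 D30730 (iv D23196) (iv F90920)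
theorem F130269 : act 6 n30730 = n21096 := d40_1 D30730 (iv D21096) D21095
def n30731 : Q := act 3 n21096
theorem D30731 : act 3 n21096 = n30731 := rfl
theorem F130270 : act 0 n30731 = n21121 := d2_1 D30731 (iv D21121) (iv F90921)
theorem F130271 : act 7 n30731 = n30731 := d27_2 F90924 D30731 (iv D30731)
theorem F130272 : act 8 n30731 = n21100 := d28_2 D21096 D30731 (iv D21100) (iv D14499) D14497
def n30732 : Q := act 9 n21096
theorem D30732 : act 9 n21096 = n30732 := rfl
theorem F130273 : act 0 n30732 = n21122 := d8_1 D30732 (iv D21122) (iv F90921)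
theorem F130274 : act 2 n30732 = n30732 := d23_1 D30732 (iv D30732) F90922
theorem F130275 : act 4 n30732 = n23198 := d34_1 D30732 (iv D23198) (iv F90923)
theorem F130276 : act 7 n30732 = n30732 := d43_1 D30732 (iv D30732) F90924
def n30733 : Q := act 7 n21097
theorem D30733 : act 7 n21097 = n30733 := rfl
theorem F130277 : act 0 n30733 = n21123 := d6_1 D30733 (iv D21123) (iv F90925)
theorem F130278 : act 2 n30733 = n21110 := d21_1 D30733 (iv D21110) (iv F90926)
theorem F130279 : act 5 n30733 = n21098 := d36_1 D30733 (iv D21098) D21097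
def n30734 : Q := act 8 n21097
theorem D30734 : act 8 n21097 = n30734 := rfl
theorem F130280 : act 0 n30734 = n21124 := d7_1 D30734 (iv D21124) (iv F90925)
theorem F130281 : act 2 n30734 = n21111 := d22_1 D30734 (iv D21111) (iv F90926)
theorem F130282 : act 5 n30734 = n21099 := d37_1 D30734 (iv D21099) D21097
def n30735 : Q := act 8 n21098
theorem D30735 : act 8 n21098 = n30735 := rfl
theorem F130283 : act 0 n30735 = n21125 := d7_1 D30735 (iv D21125) (iv F90927)
theorem F130284 : act 2 n30735 = n21112 := d22_1 D30735 (iv D21112) (iv F90928)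
theorem F130285 : act 4 n30735 = n21102 := d33_1 D30735 (iv D21102) (iv F90929)
theorem F130286 : act 6 n30735 = n30735 := d40_1 D30735 (iv D30735) F90930
theorem F130287 : act 7 n30735 = n21099 := d42_1 D30735 (iv D21099) D21098
def n30736 : Q := act 3 n21099
theorem D30736 : act 3 n21099 = n30736 := rfl
theorem F130288 : act 0 n30736 = n21126 := d2_1 D30736 (iv D21126) (iv F90931)
theorem F130289 : act 6 n30736 = n21100 := d26_2 (iv F90934) D30736 (iv D21100)
def n30737 : Q := act 9 n21099
theorem D30737 : act 9 n21099 = n30737 := rfl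
theorem F130290 : act 0 n30737 = n21127 := d8_1 D30737 (iv D21127) (iv F90931)
theorem F130291 : act 2 n30737 = n21114 := d23_1 D30737 (iv D21114) (iv F90932)
theorem F130292 : act 4 n30737 = n21104 := d34_1 D30737 (iv D21104) (iv F90933)
theorem F130293 : act 6 n30737 = n21101 := d41_1 D30737 (iv D21101) (iv F90934)
def n30738 : Q := act 2 n21100
theorem D30738 : act 2 n21100 = n30738 := rfl
theorem F130294 : act 0 n30738 = n21128 := d1_1 D30738 (iv D21128) (iv F90935)
theorem F130295 : act 3 n30738 = n21115 := d17_2 D21100 D30738 (iv D21115) (iv D14509) (iv F63615)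
theorem F130296 : act 7 n30738 = n30738 := d21_2 F90936 D30738 (iv D30738)
def n30739 : Q := act 4 n21100
theorem D30739 : act 4 n21100 = n30739 := rfl
theorem F130297 : act 0 n30739 = n21129 := d3_1 D30739 (iv D21129) (iv F90935)
theorem F130298 : act 3 n30739 = n21105 := d24_1 D30739 (iv D21105) (iv D14502) (iv F63616) D21100
theorem F130299 : act 7 n30739 = n30739 := d32_2 F90936 D30739 (iv D30739)
def n30740 : Q := act 9 n21100
theorem D30740 : act 9 n21100 = n30740 := rfl
theorem F130300 : act 0 n30740 = n21130 := d8_1 D30740 (iv D21130) (iv F90935)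
theorem F130301 : act 3 n30740 = n21101 := d29_1 D30740 (iv D21101) D21100
theorem F130302 : act 7 n30740 = n30740 := d43_1 D30740 (iv D30740) F90936
def n30741 : Q := act 3 n21102
theorem D30741 : act 3 n21102 = n30741 := rfl
theorem F130303 : act 0 n30741 = n21131 := d2_1 D30741 (iv D21131) (iv F90941)
theorem F130304 : act 2 n30741 = n30741 := d17_1 D30741 (iv D30741) F90942 F63665 (iv F90942)
theorem F130305 : act 6 n30741 = n30741 := d26_2 F90943 D30741 (iv D30741)
theorem F130306 : act 7 n30741 = n21103 := d27_2 (iv F90944) D30741 (iv D21103)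
def n30742 : Q := act 9 n21102
theorem D30742 : act 9 n21102 = n30742 := rfl
theorem F130308 : act 0 n30742 = n21132 := d8_1 D30742 (iv D21132) (iv F90941)
theorem F130309 : act 2 n30742 = n21117 := d23_1 D30742 (iv D21117) (iv F90942)
theorem F130310 : act 6 n30742 = n30742 := d41_1 D30742 (iv D30742) F90943
theorem F130311 : act 7 n30742 = n21104 := d43_1 D30742 (iv D21104) (iv F90944)
def n30743 : Q := act 4 n21103
theorem D30743 : act 4 n21103 = n30743 := rfl
theorem F130312 : act 0 n30743 = n21133 := d3_1 D30743 (iv D21133) (iv F90945)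
theorem F130313 : act 2 n30743 = n30743 := d18_1 D30743 (iv D30743) F90946
theorem F130314 : act 6 n30743 = n21105 := d31_2 (iv F90947) D30743 (iv D21105)
def n30744 : Q := act 9 n21103
theorem D30744 : act 9 n21103 = n30744 := rfl
theorem F130316 : act 0 n30744 = n21134 := d8_1 D30744 (iv D21134) (iv F90945)
theorem F130317 : act 2 n30744 = n30744 := d23_1 D30744 (iv D30744) F90946
theorem F130318 : act 3 n30744 = n21104 := d29_1 D30744 (iv D21104) D21103
theorem F130319 : act 6 n30744 = n21106 := d41_1 D30744 (iv D21106) (iv F90947)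
def n30745 : Q := act 5 n21105
theorem D30745 : act 5 n21105 = n30745 := rfl
theorem F130320 : act 0 n30745 = n21135 := d4_1 D30745 (iv D21135) (iv F90952)
def n30746 : Q := act 9 n21105
theorem D30746 : act 9 n21105 = n30746 := rfl
theorem F130325 : act 0 n30746 = n21136 := d8_1 D30746 (iv D21136) (iv F90952)
theorem F130326 : act 2 n30746 = n30746 := d23_1 D30746 (iv D30746) F90953
theorem F130327 : act 4 n30746 = n21106 := d34_1 D30746 (iv D21106) D21105
theorem F130328 : act 7 n30746 = n30746 := d43_1 D30746 (iv D30746) F90954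
def n30747 : Q := act 8 n21106
theorem D30747 : act 8 n21106 = n30747 := rfl
theorem F130333 : act 9 n30747 = n23213 := d44_2 D21106 D30747 (iv D23213) (iv D15937) (iv F63629)
def n30748 : Q := act 6 n21107
theorem D30748 : act 6 n21107 = n30748 := rfl
theorem F130334 : act 0 n30748 = n21138 := d5_1 D30748 (iv D21138) (iv F90961)
def n30749 : Q := act 9 n21107
theorem D30749 : act 9 n21107 = n30749 := rfl
theorem F130339 : act 5 n30749 = n21108 := d38_1 D30749 (iv D21108) D21107
def n30750 : Q := act 8 n21108
theorem D30750 : act 8 n21108 = n30750 := rfl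
theorem F130343 : act 4 n30750 = n21109 := d33_1 D30750 (iv D21109) (iv F90967)
theorem F130345 : act 9 n30750 = n23216 := d44_2 D21108 D30750 (iv D23216) (iv D15939) (iv F63637)
def n30751 : Q := act 6 n21110
theorem D30751 : act 6 n21110 = n30751 := rfl
theorem F130346 : act 0 n30751 = n21141 := d5_1 D30751 (iv D21141) (iv F90973)
theorem F130347 : act 1 n30751 = n30751 := d13_1 D30751 (iv D30751) F90974
theorem F130348 : act 3 n30751 = n30751 := d26_1 D30751 (iv D30751) F90975
theorem F130349 : act 5 n30751 = n30751 := d35_1 D30751 (iv D30751) F90976 F63649 (iv F90976)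
def n30752 : Q := act 8 n21110
theorem D30752 : act 8 n21110 = n30752 := rfl
theorem F130350 : act 0 n30752 = n21142 := d7_1 D30752 (iv D21142) (iv F90973)
theorem F130351 : act 1 n30752 = n30752 := d15_1 D30752 (iv D30752) F90974
theorem F130352 : act 5 n30752 = n21112 := d37_1 D30752 (iv D21112) (iv F90976)
theorem F130353 : act 7 n30752 = n21111 := d42_1 D30752 (iv D21111) D21110
def n30753 : Q := act 3 n21111
theorem D30753 : act 3 n21111 = n30753 := rfl
theorem F130354 : act 0 n30753 = n21143 := d2_1 D30753 (iv D21143) (iv F90977)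
theorem F130355 : act 1 n30753 = n30753 := d10_1 D30753 (iv D30753) F90978
theorem F130356 : act 5 n30753 = n21113 := d25_2 (iv F90979) D30753 (iv D21113)
theorem F130357 : act 8 n30753 = n30753 := d28_2 D21111 D30753 (iv D30753) (iv D21111) F63644
def n30754 : Q := act 9 n21111
theorem D30754 : act 9 n21111 = n30754 := rfl
theorem F130358 : act 0 n30754 = n21144 := d8_1 D30754 (iv D21144) (iv F90977)
theorem F130359 : act 1 n30754 = n30754 := d16_1 D30754 (iv D30754) F90978
theorem F130360 : act 5 n30754 = n21114 := d38_1 D30754 (iv D21114) (iv F90979)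
def n30755 : Q := act 3 n21112
theorem D30755 : act 3 n21112 = n30755 := rfl
theorem F130361 : act 0 n30755 = n21145 := d2_1 D30755 (iv D21145) (iv F90980)
theorem F130362 : act 1 n30755 = n30755 := d10_1 D30755 (iv D30755) F90981
theorem F130363 : act 4 n30755 = n30755 := d24_2 (iv F90982) D30755 (iv D30755) F90982 F63665
theorem F130364 : act 6 n30755 = n30755 := d26_2 F90983 D30755 (iv D30755)
theorem F130365 : act 7 n30755 = n21113 := d27_2 (iv F90984) D30755 (iv D21113)
theorem F130366 : act 8 n30755 = n30755 := d28_2 D21112 D30755 (iv D30755) (iv D21112) F63647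
def n30756 : Q := act 9 n21112
theorem D30756 : act 9 n21112 = n30756 := rfl
theorem F130367 : act 0 n30756 = n21146 := d8_1 D30756 (iv D21146) (iv F90980)
theorem F130368 : act 1 n30756 = n30756 := d16_1 D30756 (iv D30756) F90981
theorem F130369 : act 4 n30756 = n21117 := d34_1 D30756 (iv D21117) (iv F90982)
theorem F130370 : act 6 n30756 = n30756 := d41_1 D30756 (iv D30756) F90983
theorem F130371 : act 7 n30756 = n21114 := d43_1 D30756 (iv D21114) (iv F90984)
def n30757 : Q := act 2 n21113
theorem D30757 : act 2 n21113 = n30757 := rfl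
theorem F130372 : act 0 n30757 = n21147 := d1_1 D30757 (iv D21147) (iv F90985)
theorem F130373 : act 4 n30757 = n30757 := d18_2 F90987 D30757 (iv D30757)
theorem F130374 : act 6 n30757 = n21115 := d20_2 (iv F90988) D30757 (iv D21115)
theorem F130375 : act 8 n30757 = n30757 := d22_2 F90989 D30757 (iv D30757)
def n30758 : Q := act 9 n21113
theorem D30758 : act 9 n21113 = n30758 := rfl
theorem F130376 : act 0 n30758 = n21148 := d8_1 D30758 (iv D21148) (iv F90985)
theorem F130377 : act 1 n30758 = n30758 := d16_1 D30758 (iv D30758) F90986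
theorem F130378 : act 3 n30758 = n21114 := d29_1 D30758 (iv D21114) D21113
theorem F130379 : act 4 n30758 = n30758 := d34_1 D30758 (iv D30758) F90987
theorem F130380 : act 6 n30758 = n21116 := d41_1 D30758 (iv D21116) (iv F90988)
def n30759 : Q := act 1 n21115
theorem D30759 : act 1 n21115 = n30759 := rfl
theorem F130381 : act 2 n30759 = n30759 := d9_2 D21115 D30759 (iv D30759) (iv D21115) F63655
theorem F130382 : act 4 n30759 = n30759 := d11_2 F90995 D30759 (iv D30759)
theorem F130383 : act 7 n30759 = n30759 := d14_2 F90996 D30759 (iv D30759)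
theorem F130384 : act 8 n30759 = n30759 := d15_2 F90997 D30759 (iv D30759)
def n30760 : Q := act 9 n21115
theorem D30760 : act 9 n21115 = n30760 := rfl
theorem F130385 : act 0 n30760 = n21150 := d8_1 D30760 (iv D21150) (iv F90994)
theorem F130386 : act 2 n30760 = n21116 := d23_1 D30760 (iv D21116) D21115
theorem F130387 : act 4 n30760 = n30760 := d34_1 D30760 (iv D30760) F90995
theorem F130388 : act 7 n30760 = n30760 := d43_1 D30760 (iv D30760) F90996
def n30761 : Q := act 8 n21116
theorem D30761 : act 8 n21116 = n30761 := rfl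
theorem F130389 : act 0 n30761 = n21151 := d7_1 D30761 (iv D21151) (iv F90998)
theorem F130390 : act 1 n30761 = n30761 := d15_1 D30761 (iv D30761) F90999
theorem F130391 : act 4 n30761 = n30761 := d33_1 D30761 (iv D30761) F91001
theorem F130392 : act 7 n30761 = n30761 := d42_1 D30761 (iv D30761) F91002
theorem F130393 : act 9 n30761 = n30761 := d44_2 D21116 D30761 (iv D30761) (iv D21116) F63658
def n30762 : Q := act 4 n21118
theorem D30762 : act 4 n21118 = n30762 := rfl
theorem F130394 : act 1 n30762 = n21527 := d11_1 D30762 (iv D21527) (iv F91008)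
theorem F130395 : act 2 n30762 = n30762 := d18_1 D30762 (iv D30762) F91009
theorem F130396 : act 5 n30762 = n23228 := d30_2 D21118 D30762 (iv D23228) (iv D15949) (iv F63675)
def n30763 : Q := act 7 n21118
theorem D30763 : act 7 n21118 = n30763 := rfl
theorem F130397 : act 1 n30763 = n21528 := d14_1 D30763 (iv D21528) (iv F91008)
theorem F130398 : act 2 n30763 = n30763 := d21_1 D30763 (iv D30763) F91009
theorem F130399 : act 3 n30763 = n21123 := d27_1 D30763 (iv D21123) (iv F91010)
theorem F130400 : act 5 n30763 = n21119 := d36_1 D30763 (iv D21119) D21118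
def n30764 : Q := act 8 n21118
theorem D30764 : act 8 n21118 = n30764 := rfl
theorem F130401 : act 1 n30764 = n21529 := d15_1 D30764 (iv D21529) (iv F91008)
theorem F130402 : act 2 n30764 = n30764 := d22_1 D30764 (iv D30764) F91009
theorem F130403 : act 5 n30764 = n21120 := d37_1 D30764 (iv D21120) D21118
def n30765 : Q := act 8 n21119
theorem D30765 : act 8 n21119 = n30765 := rfl
theorem F130404 : act 1 n30765 = n21530 := d15_1 D30765 (iv D21530) (iv F91011)
theorem F130405 : act 2 n30765 = n30765 := d22_1 D30765 (iv D30765) F91012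
theorem F130406 : act 4 n30765 = n23231 := d33_1 D30765 (iv D23231) (iv F91014)
theorem F130407 : act 6 n30765 = n30765 := d40_1 D30765 (iv D30765) F91015
theorem F130408 : act 7 n30765 = n21120 := d42_1 D30765 (iv D21120) D21119
def n30766 : Q := act 3 n21120
theorem D30766 : act 3 n21120 = n30766 := rfl
theorem F130409 : act 1 n30766 = n21531 := d10_1 D30766 (iv D21531) (iv F91016)
theorem F130410 : act 6 n30766 = n21121 := d26_2 (iv F91019) D30766 (iv D21121)
theorem F130411 : act 8 n30766 = n21126 := d28_2 D21120 D30766 (iv D21126) (iv D14517) (iv F63674)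
def n30767 : Q := act 9 n21120
theorem D30767 : act 9 n21120 = n30767 := rfl
theorem F130412 : act 1 n30767 = n21532 := d16_1 D30767 (iv D21532) (iv F91016)
theorem F130413 : act 2 n30767 = n30767 := d23_1 D30767 (iv D30767) F91017
theorem F130414 : act 4 n30767 = n23233 := d34_1 D30767 (iv D23233) (iv F91018)
theorem F130415 : act 6 n30767 = n21122 := d41_1 D30767 (iv D21122) (iv F91019)
def n30768 : Q := act 2 n21121
theorem D30768 : act 2 n21121 = n30768 := rfl
theorem F130416 : act 3 n30768 = n30768 := d17_2 D21121 D30768 (iv D30768) (iv D21121) F63677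
theorem F130417 : act 7 n30768 = n30768 := d21_2 F91021 D30768 (iv D30768)
theorem F130418 : act 8 n30768 = n21128 := d22_2 (iv F91022) D30768 (iv D21128)
def n30769 : Q := act 4 n21121
theorem D30769 : act 4 n21121 = n30769 := rfl
theorem F130419 : act 1 n30769 = n21534 := d11_1 D30769 (iv D21534) (iv F91020)
theorem F130420 : act 3 n30769 = n23235 := d24_1 D30769 (iv D23235) (iv D15952) (iv F63678) D21121
theorem F130421 : act 7 n30769 = n30769 := d32_2 F91021 D30769 (iv D30769)
theorem F130422 : act 8 n30769 = n21129 := d33_2 (iv F91022) D30769 (iv D21129)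
def n30770 : Q := act 9 n21121
theorem D30770 : act 9 n21121 = n30770 := rfl
theorem F130423 : act 1 n30770 = n21535 := d16_1 D30770 (iv D21535) (iv F91020)
theorem F130424 : act 3 n30770 = n21122 := d29_1 D30770 (iv D21122) D21121
theorem F130425 : act 7 n30770 = n30770 := d43_1 D30770 (iv D30770) F91021
def n30771 : Q := act 6 n21123
theorem D30771 : act 6 n21123 = n30771 := rfl
theorem F130426 : act 1 n30771 = n21536 := d13_1 D30771 (iv D21536) (iv F91027)
theorem F130427 : act 2 n30771 = n21141 := d20_1 D30771 (iv D21141) (iv F91028)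
theorem F130428 : act 5 n30771 = n30771 := d35_1 D30771 (iv D30771) F91029 F63685 (iv F91029)
def n30772 : Q := act 8 n21123
theorem D30772 : act 8 n21123 = n30772 := rfl
theorem F130429 : act 1 n30772 = n21537 := d15_1 D30772 (iv D21537) (iv F91027)
theorem F130430 : act 2 n30772 = n21142 := d22_1 D30772 (iv D21142) (iv F91028)
theorem F130431 : act 5 n30772 = n21125 := d37_1 D30772 (iv D21125) (iv F91029)
theorem F130432 : act 7 n30772 = n21124 := d42_1 D30772 (iv D21124) D21123
def n30773 : Q := act 3 n21124
theorem D30773 : act 3 n21124 = n30773 := rfl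
theorem F130433 : act 1 n30773 = n21538 := d10_1 D30773 (iv D21538) (iv F91030)
theorem F130434 : act 5 n30773 = n21126 := d25_2 (iv F91032) D30773 (iv D21126)
def n30774 : Q := act 9 n21124
theorem D30774 : act 9 n21124 = n30774 := rfl
theorem F130435 : act 1 n30774 = n21539 := d16_1 D30774 (iv D21539) (iv F91030)
theorem F130436 : act 2 n30774 = n21144 := d23_1 D30774 (iv D21144) (iv F91031)
theorem F130437 : act 5 n30774 = n21127 := d38_1 D30774 (iv D21127) (iv F91032)
def n30775 : Q := act 3 n21125
theorem D30775 : act 3 n21125 = n30775 := rfl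
theorem F130438 : act 1 n30775 = n21540 := d10_1 D30775 (iv D21540) (iv F91033)
theorem F130439 : act 6 n30775 = n30775 := d26_2 F91036 D30775 (iv D30775)
theorem F130440 : act 7 n30775 = n21126 := d27_2 (iv F91037) D30775 (iv D21126)
def n30776 : Q := act 9 n21125
theorem D30776 : act 9 n21125 = n30776 := rfl
theorem F130441 : act 1 n30776 = n21541 := d16_1 D30776 (iv D21541) (iv F91033)
theorem F130442 : act 2 n30776 = n21146 := d23_1 D30776 (iv D21146) (iv F91034)
theorem F130443 : act 4 n30776 = n21132 := d34_1 D30776 (iv D21132) (iv F91035)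
theorem F130444 : act 6 n30776 = n30776 := d41_1 D30776 (iv D30776) F91036
theorem F130445 : act 7 n30776 = n21127 := d43_1 D30776 (iv D21127) (iv F91037)
def n30777 : Q := act 2 n21126
theorem D30777 : act 2 n21126 = n30777 := rfl
theorem F130446 : act 3 n30777 = n21147 := d17_2 D21126 D30777 (iv D21147) (iv D14531) (iv F63687)
theorem F130447 : act 6 n30777 = n21128 := d20_2 (iv F91039) D30777 (iv D21128)
def n30778 : Q := act 4 n21126
theorem D30778 : act 4 n21126 = n30778 := rfl
theorem F130448 : act 1 n30778 = n21543 := d11_1 D30778 (iv D21543) (iv F91038)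
theorem F130449 : act 3 n30778 = n21133 := d24_1 D30778 (iv D21133) (iv D14521) (iv F63688) D21126
theorem F130450 : act 6 n30778 = n21129 := d31_2 (iv F91039) D30778 (iv D21129)
def n30779 : Q := act 9 n21126
theorem D30779 : act 9 n21126 = n30779 := rfl
theorem F130451 : act 1 n30779 = n21544 := d16_1 D30779 (iv D21544) (iv F91038)
theorem F130452 : act 3 n30779 = n21127 := d29_1 D30779 (iv D21127) D21126
theorem F130453 : act 6 n30779 = n21130 := d41_1 D30779 (iv D21130) (iv F91039)
def n30780 : Q := act 1 n21128
theorem D30780 : act 1 n21128 = n30780 := rfl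
theorem F130454 : act 2 n30780 = n21545 := d9_2 D21128 D30780 (iv D21545) (iv D14797) (iv F63690)
theorem F130455 : act 3 n30780 = n21149 := d10_2 (iv F91044) D30780 (iv D21149)
theorem F130456 : act 7 n30780 = n30780 := d14_2 F91045 D30780 (iv D30780)
def n30781 : Q := act 4 n21128
theorem D30781 : act 4 n21128 = n30781 := rfl
theorem F130457 : act 2 n30781 = n21129 := d18_1 D30781 (iv D21129) D21128
theorem F130458 : act 3 n30781 = n30781 := d24_1 D30781 (iv D30781) F91044 F63744 (iv F91044)
theorem F130459 : act 7 n30781 = n30781 := d32_2 F91045 D30781 (iv D30781)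
def n30782 : Q := act 9 n21128
theorem D30782 : act 9 n21128 = n30782 := rfl
theorem F130460 : act 2 n30782 = n21130 := d23_1 D30782 (iv D21130) D21128
theorem F130461 : act 3 n30782 = n21150 := d29_1 D30782 (iv D21150) (iv F91044)
theorem F130462 : act 7 n30782 = n30782 := d43_1 D30782 (iv D30782) F91045
def n30783 : Q := act 5 n21129
theorem D30783 : act 5 n21129 = n30783 := rfl
theorem F130463 : act 1 n30783 = n21548 := d12_1 D30783 (iv D21548) (iv F91046)
theorem F130464 : act 3 n30783 = n21135 := d25_1 D30783 (iv D21135) (iv F91047)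
theorem F130465 : act 7 n30783 = n30783 := d36_2 F91048 D30783 (iv D30783)
def n30784 : Q := act 9 n21129
theorem D30784 : act 9 n21129 = n30784 := rfl
theorem F130466 : act 1 n30784 = n21549 := d16_1 D30784 (iv D21549) (iv F91046)
theorem F130467 : act 3 n30784 = n21136 := d29_1 D30784 (iv D21136) (iv F91047)
theorem F130468 : act 4 n30784 = n21130 := d34_1 D30784 (iv D21130) D21129
theorem F130469 : act 7 n30784 = n30784 := d43_1 D30784 (iv D30784) F91048
def n30785 : Q := act 8 n21130
theorem D30785 : act 8 n21130 = n30785 := rfl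
theorem F130470 : act 1 n30785 = n21550 := d15_1 D30785 (iv D21550) (iv F91049)
theorem F130471 : act 7 n30785 = n30785 := d42_1 D30785 (iv D30785) F91051
def n30786 : Q := act 4 n21131
theorem D30786 : act 4 n21131 = n30786 := rfl
theorem F130472 : act 1 n30786 = n21551 := d11_1 D30786 (iv D21551) (iv F91052)
theorem F130473 : act 2 n30786 = n30786 := d18_1 D30786 (iv D30786) F91053
theorem F130474 : act 6 n30786 = n30786 := d31_2 F91054 D30786 (iv D30786)
theorem F130475 : act 7 n30786 = n21133 := d32_2 (iv F91055) D30786 (iv D21133)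
theorem F130476 : act 8 n30786 = n23251 := d33_2 (iv F91056) D30786 (iv D23251)
def n30787 : Q := act 9 n21131
theorem D30787 : act 9 n21131 = n30787 := rfl
theorem F130477 : act 1 n30787 = n21552 := d16_1 D30787 (iv D21552) (iv F91052)
theorem F130478 : act 2 n30787 = n30787 := d23_1 D30787 (iv D30787) F91053
theorem F130479 : act 3 n30787 = n21132 := d29_1 D30787 (iv D21132) D21131
theorem F130480 : act 6 n30787 = n30787 := d41_1 D30787 (iv D30787) F91054
theorem F130481 : act 7 n30787 = n21134 := d43_1 D30787 (iv D21134) (iv F91055)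
def n30788 : Q := act 5 n21133
theorem D30788 : act 5 n21133 = n30788 := rfl
theorem F130482 : act 1 n30788 = n21553 := d12_1 D30788 (iv D21553) (iv F91061)
theorem F130483 : act 2 n30788 = n30788 := d19_1 D30788 (iv D30788) F91062
theorem F130484 : act 8 n30788 = n23253 := d37_2 (iv F91064) D30788 (iv D23253)
def n30789 : Q := act 9 n21133
theorem D30789 : act 9 n21133 = n30789 := rfl
theorem F130485 : act 1 n30789 = n21554 := d16_1 D30789 (iv D21554) (iv F91061)
theorem F130486 : act 2 n30789 = n30789 := d23_1 D30789 (iv D30789) F91062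
theorem F130487 : act 4 n30789 = n21134 := d34_1 D30789 (iv D21134) D21133
theorem F130488 : act 6 n30789 = n21136 := d41_1 D30789 (iv D21136) (iv F91063)
def n30791 : Q := act 6 n21135
theorem D30791 : act 6 n21135 = n30791 := rfl
theorem F130493 : act 1 n30791 = n21556 := d13_1 D30791 (iv D21556) (iv F91069)
theorem F130494 : act 2 n30791 = n30791 := d20_1 D30791 (iv D30791) F91070
theorem F130495 : act 4 n30791 = n21138 := d31_1 D30791 (iv D21138) (iv F91071)
theorem F130496 : act 8 n30791 = n23256 := d40_2 (iv F91073) D30791 (iv D23256)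
def n30792 : Q := act 9 n21135
theorem D30792 : act 9 n21135 = n30792 := rfl
theorem F130497 : act 1 n30792 = n21557 := d16_1 D30792 (iv D21557) (iv F91069)
theorem F130498 : act 2 n30792 = n30792 := d23_1 D30792 (iv D30792) F91070
theorem F130499 : act 4 n30792 = n21139 := d34_1 D30792 (iv D21139) (iv F91071)
theorem F130500 : act 5 n30792 = n21136 := d38_1 D30792 (iv D21136) D21135
theorem F130501 : act 7 n30792 = n30792 := d43_1 D30792 (iv D30792) F91072
def n30794 : Q := act 7 n21138
theorem D30794 : act 7 n21138 = n30794 := rfl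
theorem F130507 : act 1 n30794 = n21559 := d14_1 D30794 (iv D21559) (iv F91083)
theorem F130508 : act 2 n30794 = n30794 := d21_1 D30794 (iv D30794) F91084
theorem F130509 : act 6 n30794 = n30794 := d39_1 D30794 (iv D30794) (iv D21138) F63718 D21138
theorem F130510 : act 8 n30794 = n23259 := d42_2 (iv F91085) D30794 (iv D23259)
def n30795 : Q := act 9 n21138
theorem D30795 : act 9 n21138 = n30795 := rfl
theorem F130511 : act 1 n30795 = n21560 := d16_1 D30795 (iv D21560) (iv F91083)
theorem F130512 : act 2 n30795 = n30795 := d23_1 D30795 (iv D30795) F91084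
theorem F130513 : act 6 n30795 = n21139 := d41_1 D30795 (iv D21139) D21138
def n30797 : Q := act 3 n21140
theorem D30797 : act 3 n21140 = n30797 := rfl
theorem F130521 : act 9 n30797 = n23262 := d29_2 (iv F91094) D30797 (iv D23262)
def n30798 : Q := act 8 n21141
theorem D30798 : act 8 n21141 = n30798 := rfl
theorem F130522 : act 1 n30798 = n21152 := d15_1 D30798 (iv D21152) (iv F91095)
theorem F130523 : act 5 n30798 = n30798 := d37_1 D30798 (iv D30798) F91097
theorem F130524 : act 6 n30798 = n21142 := d40_1 D30798 (iv D21142) D21141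
def n30799 : Q := act 3 n21142
theorem D30799 : act 3 n21142 = n30799 := rfl
theorem F130525 : act 1 n30799 = n21153 := d10_1 D30799 (iv D21153) (iv F91098)
theorem F130526 : act 5 n30799 = n21145 := d25_2 (iv F91099) D30799 (iv D21145)
theorem F130527 : act 7 n30799 = n21143 := d27_2 (iv F91100) D30799 (iv D21143)
theorem F130528 : act 8 n30799 = n30799 := d28_2 D21142 D30799 (iv D30799) (iv D21142) F63729
def n30800 : Q := act 9 n21142
theorem D30800 : act 9 n21142 = n30800 := rfl
theorem F130529 : act 1 n30800 = n21154 := d16_1 D30800 (iv D21154) (iv F91098)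
theorem F130530 : act 5 n30800 = n21146 := d38_1 D30800 (iv D21146) (iv F91099)
theorem F130531 : act 7 n30800 = n21144 := d43_1 D30800 (iv D21144) (iv F91100)
def n30801 : Q := act 2 n21143
theorem D30801 : act 2 n21143 = n30801 := rfl
theorem F130532 : act 5 n30801 = n21147 := d19_2 (iv F91102) D30801 (iv D21147)
theorem F130533 : act 8 n30801 = n30801 := d22_2 F91103 D30801 (iv D30801)
def n30802 : Q := act 4 n21143
theorem D30802 : act 4 n21143 = n30802 := rfl
theorem F130534 : act 1 n30802 = n21156 := d11_1 D30802 (iv D21156) (iv F91101)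
theorem F130535 : act 5 n30802 = n30802 := d30_2 (iv F91102) D30802 (iv D30802) F91102 F63738
theorem F130536 : act 8 n30802 = n30802 := d33_2 F91103 D30802 (iv D30802)
def n30803 : Q := act 9 n21143
theorem D30803 : act 9 n21143 = n30803 := rfl
theorem F130537 : act 1 n30803 = n21157 := d16_1 D30803 (iv D21157) (iv F91101)
theorem F130538 : act 3 n30803 = n21144 := d29_1 D30803 (iv D21144) D21143
theorem F130539 : act 5 n30803 = n21148 := d38_1 D30803 (iv D21148) (iv F91102)
def n30804 : Q := act 2 n21145
theorem D30804 : act 2 n21145 = n30804 := rfl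
theorem F130540 : act 4 n30804 = n30804 := d18_2 F91107 D30804 (iv D30804)
theorem F130541 : act 6 n30804 = n30804 := d20_2 F91108 D30804 (iv D30804)
theorem F130542 : act 7 n30804 = n21147 := d21_2 (iv F91109) D30804 (iv D21147)
theorem F130543 : act 8 n30804 = n30804 := d22_2 F91110 D30804 (iv D30804)
def n30805 : Q := act 9 n21145
theorem D30805 : act 9 n21145 = n30805 := rfl
theorem F130544 : act 1 n30805 = n21159 := d16_1 D30805 (iv D21159) (iv F91106)
theorem F130545 : act 3 n30805 = n21146 := d29_1 D30805 (iv D21146) D21145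
theorem F130546 : act 4 n30805 = n30805 := d34_1 D30805 (iv D30805) F91107
theorem F130547 : act 6 n30805 = n30805 := d41_1 D30805 (iv D30805) F91108
theorem F130548 : act 7 n30805 = n21148 := d43_1 D30805 (iv D21148) (iv F91109)
def n30806 : Q := act 1 n21147
theorem D30806 : act 1 n21147 = n30806 := rfl
theorem F130549 : act 2 n30806 = n21160 := d9_2 D21147 D30806 (iv D21160) (iv D14542) (iv F63737)
theorem F130550 : act 4 n30806 = n30806 := d11_2 F91115 D30806 (iv D30806)
theorem F130551 : act 6 n30806 = n21149 := d13_2 (iv F91116) D30806 (iv D21149)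
theorem F130552 : act 8 n30806 = n30806 := d15_2 F91117 D30806 (iv D30806)
def n30807 : Q := act 9 n21147
theorem D30807 : act 9 n21147 = n30807 := rfl
theorem F130553 : act 2 n30807 = n21148 := d23_1 D30807 (iv D21148) D21147
theorem F130554 : act 4 n30807 = n30807 := d34_1 D30807 (iv D30807) F91115
theorem F130555 : act 6 n30807 = n21150 := d41_1 D30807 (iv D21150) (iv F91116)
def n30808 : Q := act 8 n21148
theorem D30808 : act 8 n21148 = n30808 := rfl
theorem F130556 : act 1 n30808 = n21162 := d15_1 D30808 (iv D21162) (iv F91118)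
theorem F130557 : act 4 n30808 = n30808 := d33_1 D30808 (iv D30808) F91120
theorem F130558 : act 6 n30808 = n21151 := d40_1 D30808 (iv D21151) (iv F91121)
theorem F130559 : act 9 n30808 = n30808 := d44_2 D21148 D30808 (iv D30808) (iv D21148) F63740
def n30809 : Q := act 0 n21149
theorem D30809 : act 0 n21149 = n30809 := rfl
theorem F130560 : act 2 n30809 = n21163 := d1_2 (iv F91122) D30809 (iv D21163)
theorem F130561 : act 4 n30809 = n30809 := d3_2 F91123 D30809 (iv D30809)
theorem F130562 : act 7 n30809 = n30809 := d6_2 F91124 D30809 (iv D30809)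
theorem F130563 : act 8 n30809 = n30809 := d7_2 F91125 D30809 (iv D30809)
def n30810 : Q := act 9 n21149
theorem D30810 : act 9 n21149 = n30810 := rfl
theorem F130564 : act 1 n30810 = n21150 := d16_1 D30810 (iv D21150) D21149
theorem F130565 : act 2 n30810 = n21164 := d23_1 D30810 (iv D21164) (iv F91122)
theorem F130566 : act 4 n30810 = n30810 := d34_1 D30810 (iv D30810) F91123
theorem F130567 : act 7 n30810 = n30810 := d43_1 D30810 (iv D30810) F91124
def n30811 : Q := act 8 n21150
theorem D30811 : act 8 n21150 = n30811 := rfl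
theorem F130568 : act 2 n30811 = n21151 := d22_1 D30811 (iv D21151) (iv F91126)
theorem F130569 : act 4 n30811 = n30811 := d33_1 D30811 (iv D30811) F91127
theorem F130570 : act 7 n30811 = n30811 := d42_1 D30811 (iv D30811) F91128
theorem F130571 : act 9 n30811 = n30811 := d44_2 D21150 D30811 (iv D30811) (iv D21150) F63746
def n30812 : Q := act 3 n21152
theorem D30812 : act 3 n21152 = n30812 := rfl
theorem F130572 : act 0 n30812 = n30812 := d2_1 D30812 (iv D30812) F91133
theorem F130573 : act 5 n30812 = n30812 := d25_2 F91135 D30812 (iv D30812)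
theorem F130574 : act 6 n30812 = n21153 := d26_2 (iv F91136) D30812 (iv D21153)
theorem F130575 : act 8 n30812 = n30812 := d28_2 D21152 D30812 (iv D30812) (iv D21152) F63757
def n30813 : Q := act 9 n21152
theorem D30813 : act 9 n21152 = n30813 := rfl
theorem F130576 : act 0 n30813 = n30813 := d8_1 D30813 (iv D30813) F91133
theorem F130577 : act 2 n30813 = n21578 := d23_1 D30813 (iv D21578) (iv F91134)
theorem F130578 : act 5 n30813 = n30813 := d38_1 D30813 (iv D30813) F91135
theorem F130579 : act 6 n30813 = n21154 := d41_1 D30813 (iv D21154) (iv F91136)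
def n30814 : Q := act 2 n21153
theorem D30814 : act 2 n21153 = n30814 := rfl
theorem F130580 : act 0 n30814 = n30814 := d1_1 D30814 (iv D30814) F91137
theorem F130581 : act 3 n30814 = n21579 := d17_2 D21153 D30814 (iv D21579) (iv D14822) (iv F63760)
theorem F130582 : act 5 n30814 = n21158 := d19_2 (iv F91138) D30814 (iv D21158)
theorem F130583 : act 7 n30814 = n21155 := d21_2 (iv F91139) D30814 (iv D21155)
theorem F130584 : act 8 n30814 = n30814 := d22_2 F91140 D30814 (iv D30814)
def n30815 : Q := act 4 n21153
theorem D30815 : act 4 n21153 = n30815 := rfl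
theorem F130585 : act 0 n30815 = n30815 := d3_1 D30815 (iv D30815) F91137
theorem F130586 : act 5 n30815 = n30815 := d30_2 (iv F91138) D30815 (iv D30815) F91138 F63770
theorem F130587 : act 7 n30815 = n21156 := d32_2 (iv F91139) D30815 (iv D21156)
theorem F130588 : act 8 n30815 = n30815 := d33_2 F91140 D30815 (iv D30815)
def n30816 : Q := act 9 n21153
theorem D30816 : act 9 n21153 = n30816 := rfl
theorem F130589 : act 0 n30816 = n30816 := d8_1 D30816 (iv D30816) F91137
theorem F130590 : act 3 n30816 = n21154 := d29_1 D30816 (iv D21154) D21153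
theorem F130591 : act 5 n30816 = n21159 := d38_1 D30816 (iv D21159) (iv F91138)
theorem F130592 : act 7 n30816 = n21157 := d43_1 D30816 (iv D21157) (iv F91139)
def n30817 : Q := act 1 n21155
theorem D30817 : act 1 n21155 = n30817 := rfl
theorem F130593 : act 3 n30817 = n21582 := d10_2 (iv F91146) D30817 (iv D21582)
theorem F130594 : act 5 n30817 = n21160 := d12_2 (iv F91147) D30817 (iv D21160)
theorem F130595 : act 8 n30817 = n30817 := d15_2 F91148 D30817 (iv D30817)
def n30818 : Q := act 4 n21155
theorem D30818 : act 4 n21155 = n30818 := rfl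
theorem F130596 : act 0 n30818 = n30818 := d3_1 D30818 (iv D30818) F91145
theorem F130597 : act 2 n30818 = n21156 := d18_1 D30818 (iv D21156) D21155
theorem F130598 : act 5 n30818 = n30818 := d30_2 (iv F91147) D30818 (iv D30818) F91147 F63781
theorem F130599 : act 8 n30818 = n30818 := d33_2 F91148 D30818 (iv D30818)
def n30819 : Q := act 9 n21155
theorem D30819 : act 9 n21155 = n30819 := rfl
theorem F130600 : act 0 n30819 = n30819 := d8_1 D30819 (iv D30819) F91145
theorem F130601 : act 2 n30819 = n21157 := d23_1 D30819 (iv D21157) D21155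
theorem F130602 : act 3 n30819 = n21584 := d29_1 D30819 (iv D21584) (iv F91146)
theorem F130603 : act 5 n30819 = n21161 := d38_1 D30819 (iv D21161) (iv F91147)
def n30820 : Q := act 9 n21156
theorem D30820 : act 9 n21156 = n30820 := rfl
theorem F130604 : act 0 n30820 = n30820 := d8_1 D30820 (iv D30820) F91149
theorem F130605 : act 4 n30820 = n21157 := d34_1 D30820 (iv D21157) D21156
theorem F130606 : act 5 n30820 = n30820 := d38_1 D30820 (iv D30820) F91150
def n30821 : Q := act 8 n21157
theorem D30821 : act 8 n21157 = n30821 := rfl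
theorem F130607 : act 0 n30821 = n30821 := d7_1 D30821 (iv D30821) F91152
theorem F130608 : act 5 n30821 = n21162 := d37_1 D30821 (iv D21162) (iv F91154)
theorem F130609 : act 9 n30821 = n30821 := d44_2 D21157 D30821 (iv D30821) (iv D21157) F63765
def n30822 : Q := act 1 n21158
theorem D30822 : act 1 n21158 = n30822 := rfl
theorem F130610 : act 3 n30822 = n21587 := d10_2 (iv F91156) D30822 (iv D21587)
theorem F130611 : act 4 n30822 = n30822 := d11_2 F91157 D30822 (iv D30822)
theorem F130612 : act 6 n30822 = n30822 := d13_2 F91158 D30822 (iv D30822)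
theorem F130613 : act 7 n30822 = n21160 := d14_2 (iv F91159) D30822 (iv D21160)
theorem F130614 : act 8 n30822 = n30822 := d15_2 F91160 D30822 (iv D30822)
def n30823 : Q := act 9 n21158
theorem D30823 : act 9 n21158 = n30823 := rfl
theorem F130615 : act 0 n30823 = n30823 := d8_1 D30823 (iv D30823) F91155
theorem F130616 : act 2 n30823 = n21159 := d23_1 D30823 (iv D21159) D21158
theorem F130617 : act 3 n30823 = n21588 := d29_1 D30823 (iv D21588) (iv F91156)
theorem F130618 : act 4 n30823 = n30823 := d34_1 D30823 (iv D30823) F91157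
theorem F130619 : act 6 n30823 = n30823 := d41_1 D30823 (iv D30823) F91158
theorem F130620 : act 7 n30823 = n21161 := d43_1 D30823 (iv D21161) (iv F91159)
def n30824 : Q := act 8 n21159
theorem D30824 : act 8 n21159 = n30824 := rfl
theorem F130621 : act 0 n30824 = n30824 := d7_1 D30824 (iv D30824) F91161
theorem F130622 : act 4 n30824 = n30824 := d33_1 D30824 (iv D30824) F91163
theorem F130623 : act 6 n30824 = n30824 := d40_1 D30824 (iv D30824) F91164
theorem F130624 : act 7 n30824 = n21162 := d42_1 D30824 (iv D21162) (iv F91165)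
theorem F130625 : act 9 n30824 = n30824 := d44_2 D21159 D30824 (iv D30824) (iv D21159) F63773
def n30825 : Q := act 0 n21160
theorem D30825 : act 0 n21160 = n30825 := rfl
theorem F130626 : act 1 n30825 = n30825 := d0_2 D21160 D30825 (iv D30825) (iv D21160) F63779
theorem F130627 : act 3 n30825 = n21590 := d2_2 (iv F91166) D30825 (iv D21590)
theorem F130628 : act 4 n30825 = n30825 := d3_2 F91167 D30825 (iv D30825)
theorem F130629 : act 6 n30825 = n21163 := d5_2 (iv F91168) D30825 (iv D21163)
theorem F130630 : act 8 n30825 = n30825 := d7_2 F91169 D30825 (iv D30825)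
def n30826 : Q := act 9 n21160
theorem D30826 : act 9 n21160 = n30826 := rfl
theorem F130631 : act 1 n30826 = n21161 := d16_1 D30826 (iv D21161) D21160
theorem F130632 : act 3 n30826 = n21591 := d29_1 D30826 (iv D21591) (iv F91166)
theorem F130633 : act 4 n30826 = n30826 := d34_1 D30826 (iv D30826) F91167
theorem F130634 : act 6 n30826 = n21164 := d41_1 D30826 (iv D21164) (iv F91168)
def n30827 : Q := act 8 n21161
theorem D30827 : act 8 n21161 = n30827 := rfl
theorem F130635 : act 0 n30827 = n30827 := d7_1 D30827 (iv D30827) F91170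
theorem F130636 : act 2 n30827 = n21162 := d22_1 D30827 (iv D21162) (iv F91171)
theorem F130637 : act 4 n30827 = n30827 := d33_1 D30827 (iv D30827) F91173
theorem F130638 : act 6 n30827 = n21165 := d40_1 D30827 (iv D21165) (iv F91174)
theorem F130639 : act 9 n30827 = n30827 := d44_2 D21161 D30827 (iv D30827) (iv D21161) F63783
def n30828 : Q := act 9 n21163
theorem D30828 : act 9 n21163 = n30828 := rfl
theorem F130640 : act 0 n30828 = n21164 := d8_1 D30828 (iv D21164) D21163
theorem F130641 : act 1 n30828 = n30828 := d16_1 D30828 (iv D30828) F91179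
theorem F130642 : act 3 n30828 = n21593 := d29_1 D30828 (iv D21593) (iv F91180)
theorem F130643 : act 4 n30828 = n30828 := d34_1 D30828 (iv D30828) F91181
theorem F130644 : act 7 n30828 = n30828 := d43_1 D30828 (iv D30828) F91182
def n30829 : Q := act 8 n21164
theorem D30829 : act 8 n21164 = n30829 := rfl
theorem F130645 : act 1 n30829 = n21165 := d15_1 D30829 (iv D21165) (iv F91184)
theorem F130646 : act 4 n30829 = n30829 := d33_1 D30829 (iv D30829) F91186
theorem F130647 : act 7 n30829 = n30829 := d42_1 D30829 (iv D30829) F91187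
theorem F130648 : act 9 n30829 = n30829 := d44_2 D21164 D30829 (iv D30829) (iv D21164) F63791
def n30830 : Q := act 3 n21165
theorem D30830 : act 3 n21165 = n30830 := rfl
theorem F130649 : act 0 n30830 = n30830 := d2_1 D30830 (iv D30830) F91188
theorem F130650 : act 7 n30830 = n30830 := d27_2 F91191 D30830 (iv D30830)
theorem F130651 : act 8 n30830 = n21595 := d28_2 D21165 D30830 (iv D21595) (iv D14834) (iv F63794)
theorem F130652 : act 9 n30830 = n30830 := d29_2 F91192 D30830 (iv D30830)
def n30831 : Q := act 4 n21166
theorem D30831 : act 4 n21166 = n30831 := rfl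
theorem F130653 : act 1 n30831 = n21168 := d11_1 D30831 (iv D21168) (iv F91193)
theorem F130654 : act 2 n30831 = n30831 := d18_1 D30831 (iv D30831) F91194
theorem F130655 : act 7 n30831 = n21257 := d32_2 (iv F91196) D30831 (iv D21257)
theorem F130656 : act 9 n30831 = n21202 := d34_2 (iv F91197) D30831 (iv D21202)
def n30832 : Q := act 6 n21166
theorem D30832 : act 6 n21166 = n30832 := rfl
theorem F130657 : act 1 n30832 = n21169 := d13_1 D30832 (iv D21169) (iv F91193)
theorem F130661 : act 9 n30832 = n21203 := d41_2 (iv F91197) D30832 (iv D21203)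
def n30833 : Q := act 8 n21166
theorem D30833 : act 8 n21166 = n30833 := rfl
theorem F130662 : act 1 n30833 = n21170 := d15_1 D30833 (iv D21170) (iv F91193)
def n30834 : Q := act 3 n21167
theorem D30834 : act 3 n21167 = n30834 := rfl
theorem F130669 : act 8 n30834 = n23284 := d28_2 D21167 D30834 (iv D23284) (iv D15990) (iv F63802)
def n30836 : Q := act 3 n21168
theorem D30836 : act 3 n21168 = n30836 := rfl
theorem F130675 : act 0 n30836 = n21178 := d2_1 D30836 (iv D21178) (iv F91202)
theorem F130676 : act 2 n30836 = n30836 := d17_1 D30836 (iv D30836) F91203 F63817 (iv F91203)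
theorem F130678 : act 7 n30836 = n21262 := d27_2 (iv F91204) D30836 (iv D21262)
theorem F130679 : act 9 n30836 = n21207 := d29_2 (iv F91205) D30836 (iv D21207)
def n30837 : Q := act 6 n21168
theorem D30837 : act 6 n21168 = n30837 := rfl
theorem F130680 : act 0 n30837 = n21179 := d5_1 D30837 (iv D21179) (iv F91202)
theorem F130681 : act 2 n30837 = n21173 := d20_1 D30837 (iv D21173) (iv F91203)
theorem F130682 : act 4 n30837 = n21169 := d31_1 D30837 (iv D21169) D21168
theorem F130683 : act 9 n30837 = n21208 := d41_2 (iv F91205) D30837 (iv D21208)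
def n30838 : Q := act 8 n21168
theorem D30838 : act 8 n21168 = n30838 := rfl
theorem F130684 : act 0 n30838 = n21180 := d7_1 D30838 (iv D21180) (iv F91202)
theorem F130685 : act 2 n30838 = n21174 := d22_1 D30838 (iv D21174) (iv F91203)
theorem F130686 : act 4 n30838 = n21170 := d33_1 D30838 (iv D21170) D21168
theorem F130687 : act 7 n30838 = n21264 := d42_1 D30838 (iv D21264) (iv F91204)
def n30839 : Q := act 7 n21169
theorem D30839 : act 7 n21169 = n30839 := rfl
theorem F130688 : act 0 n30839 = n21181 := d6_1 D30839 (iv D21181) (iv F91206)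
theorem F130689 : act 2 n30839 = n21175 := d21_1 D30839 (iv D21175) (iv F91207)
theorem F130693 : act 9 n30839 = n21210 := d43_2 (iv F91210) D30839 (iv D21210)
def n30840 : Q := act 8 n21169
theorem D30840 : act 8 n21169 = n30840 := rfl
theorem F130694 : act 0 n30840 = n21182 := d7_1 D30840 (iv D21182) (iv F91206)
theorem F130695 : act 2 n30840 = n21176 := d22_1 D30840 (iv D21176) (iv F91207)
theorem F130696 : act 5 n30840 = n30840 := d37_1 D30840 (iv D30840) F91209
theorem F130697 : act 6 n30840 = n21170 := d40_1 D30840 (iv D21170) D21169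
def n30841 : Q := act 3 n21170
theorem D30841 : act 3 n21170 = n30841 := rfl
theorem F130702 : act 8 n30841 = n23291 := d28_2 D21170 D30841 (iv D23291) (iv D15993) (iv F63808)
def n30842 : Q := act 9 n21170
theorem D30842 : act 9 n21170 = n30842 := rfl
theorem F130703 : act 0 n30842 = n21184 := d8_1 D30842 (iv D21184) (iv F91211)
theorem F130704 : act 2 n30842 = n21177 := d23_1 D30842 (iv D21177) (iv F91212)
theorem F130705 : act 5 n30842 = n21172 := d38_1 D30842 (iv D21172) (iv F91213)
theorem F130706 : act 7 n30842 = n21268 := d43_1 D30842 (iv D21268) (iv F91214)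
theorem F130707 : act 8 n30842 = n21213 := d44_1 D30842 (iv D21213) (iv D14576) (iv F63810) D21170
def n30843 : Q := act 4 n21171
theorem D30843 : act 4 n21171 = n30843 := rfl
theorem F130712 : act 8 n30843 = n23293 := d33_2 (iv F91219) D30843 (iv D23293)
def n30845 : Q := act 5 n21173
theorem D30845 : act 5 n21173 = n30845 := rfl
theorem F130718 : act 0 n30845 = n21187 := d4_1 D30845 (iv D21187) (iv F91225)
theorem F130719 : act 1 n30845 = n30845 := d12_1 D30845 (iv D30845) F91226
theorem F130720 : act 3 n30845 = n30845 := d25_1 D30845 (iv D30845) F91227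
theorem F130721 : act 4 n30845 = n30845 := d30_1 D30845 (iv D30845) F91228 F63823 (iv F91228)
theorem F130722 : act 9 n30845 = n21216 := d38_2 (iv F91229) D30845 (iv D21216)
def n30846 : Q := act 7 n21173
theorem D30846 : act 7 n21173 = n30846 := rfl
theorem F130723 : act 0 n30846 = n21188 := d6_1 D30846 (iv D21188) (iv F91225)
theorem F130724 : act 1 n30846 = n30846 := d14_1 D30846 (iv D30846) F91226
theorem F130725 : act 3 n30846 = n30846 := d27_1 D30846 (iv D30846) F91227
theorem F130726 : act 4 n30846 = n21175 := d32_1 D30846 (iv D21175) (iv F91228)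
theorem F130727 : act 6 n30846 = n21272 := d39_1 D30846 (iv D21272) (iv D14615) (iv F63818) D21173
theorem F130728 : act 9 n30846 = n21217 := d43_2 (iv F91229) D30846 (iv D21217)
def n30847 : Q := act 8 n21173
theorem D30847 : act 8 n21173 = n30847 := rfl
theorem F130729 : act 0 n30847 = n21189 := d7_1 D30847 (iv D21189) (iv F91225)
theorem F130730 : act 1 n30847 = n30847 := d15_1 D30847 (iv D30847) F91226
theorem F130731 : act 4 n30847 = n21176 := d33_1 D30847 (iv D21176) (iv F91228)
theorem F130732 : act 6 n30847 = n21174 := d40_1 D30847 (iv D21174) D21173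
def n30848 : Q := act 3 n21174
theorem D30848 : act 3 n21174 = n30848 := rfl
theorem F130733 : act 0 n30848 = n21190 := d2_1 D30848 (iv D21190) (iv F91230)
theorem F130734 : act 1 n30848 = n30848 := d10_1 D30848 (iv D30848) F91231
theorem F130735 : act 4 n30848 = n30848 := d24_2 (iv F91232) D30848 (iv D30848) F91232 F63827
theorem F130736 : act 7 n30848 = n21274 := d27_2 (iv F91233) D30848 (iv D21274)
theorem F130737 : act 8 n30848 = n30848 := d28_2 D21174 D30848 (iv D30848) (iv D21174) F63817
def n30849 : Q := act 9 n21174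
theorem D30849 : act 9 n21174 = n30849 := rfl
theorem F130738 : act 0 n30849 = n21191 := d8_1 D30849 (iv D21191) (iv F91230)
theorem F130739 : act 1 n30849 = n30849 := d16_1 D30849 (iv D30849) F91231
theorem F130740 : act 4 n30849 = n21177 := d34_1 D30849 (iv D21177) (iv F91232)
theorem F130741 : act 7 n30849 = n21275 := d43_1 D30849 (iv D21275) (iv F91233)
theorem F130742 : act 8 n30849 = n21220 := d44_1 D30849 (iv D21220) (iv D14580) (iv F63819) D21174
def n30850 : Q := act 8 n21175
theorem D30850 : act 8 n21175 = n30850 := rfl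
theorem F130743 : act 0 n30850 = n21192 := d7_1 D30850 (iv D21192) (iv F91234)
theorem F130744 : act 1 n30850 = n30850 := d15_1 D30850 (iv D30850) F91235
theorem F130745 : act 3 n30850 = n30850 := d28_1 D30850 (iv D30850) F91236 F63842 (iv F91236)
theorem F130746 : act 5 n30850 = n30850 := d37_1 D30850 (iv D30850) F91237
theorem F130747 : act 6 n30850 = n21276 := d40_1 D30850 (iv D21276) (iv F91238)
theorem F130748 : act 7 n30850 = n21176 := d42_1 D30850 (iv D21176) D21175
def n30851 : Q := act 9 n21176
theorem D30851 : act 9 n21176 = n30851 := rfl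
theorem F130749 : act 0 n30851 = n21193 := d8_1 D30851 (iv D21193) (iv F91240)
theorem F130750 : act 1 n30851 = n30851 := d16_1 D30851 (iv D30851) F91241
theorem F130751 : act 3 n30851 = n30851 := d29_1 D30851 (iv D30851) F91242
theorem F130752 : act 5 n30851 = n30851 := d38_1 D30851 (iv D30851) F91243
theorem F130753 : act 6 n30851 = n21177 := d41_1 D30851 (iv D21177) (iv F91244)
theorem F130754 : act 8 n30851 = n21222 := d44_1 D30851 (iv D21222) (iv D14582) (iv F63824) D21176
def n30852 : Q := act 6 n21178
theorem D30852 : act 6 n21178 = n30852 := rfl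
theorem F130756 : act 3 n30852 = n21179 := d26_1 D30852 (iv D21179) D21178
theorem F130758 : act 9 n30852 = n21223 := d41_2 (iv F91254) D30852 (iv D21223)
def n30853 : Q := act 8 n21178
theorem D30853 : act 8 n21178 = n30853 := rfl
theorem F130759 : act 2 n30853 = n30853 := d22_1 D30853 (iv D30853) F91251
theorem F130760 : act 4 n30853 = n23303 := d33_1 D30853 (iv D23303) (iv F91252)
theorem F130761 : act 7 n30853 = n21279 := d42_1 D30853 (iv D21279) (iv F91253)
def n30854 : Q := act 5 n21179
theorem D30854 : act 5 n21179 = n30854 := rfl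
theorem F130762 : act 2 n30854 = n21187 := d19_1 D30854 (iv D21187) (iv F91255)
theorem F130763 : act 4 n30854 = n30854 := d30_1 D30854 (iv D30854) F91256 F63849 (iv F91256)
theorem F130764 : act 9 n30854 = n21225 := d38_2 (iv F91257) D30854 (iv D21225)
def n30855 : Q := act 7 n21179
theorem D30855 : act 7 n21179 = n30855 := rfl
theorem F130765 : act 2 n30855 = n21188 := d21_1 D30855 (iv D21188) (iv F91255)
theorem F130766 : act 4 n30855 = n21181 := d32_1 D30855 (iv D21181) (iv F91256)
theorem F130767 : act 6 n30855 = n21281 := d39_1 D30855 (iv D21281) (iv D14621) (iv F63845) D21179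
theorem F130768 : act 9 n30855 = n21226 := d43_2 (iv F91257) D30855 (iv D21226)
def n30856 : Q := act 8 n21179
theorem D30856 : act 8 n21179 = n30856 := rfl
theorem F130769 : act 2 n30856 = n21189 := d22_1 D30856 (iv D21189) (iv F91255)
theorem F130770 : act 4 n30856 = n21182 := d33_1 D30856 (iv D21182) (iv F91256)
theorem F130771 : act 6 n30856 = n21180 := d40_1 D30856 (iv D21180) D21179
def n30857 : Q := act 3 n21180
theorem D30857 : act 3 n21180 = n30857 := rfl
theorem F130772 : act 7 n30857 = n21283 := d27_2 (iv F91260) D30857 (iv D21283)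
def n30858 : Q := act 9 n21180
theorem D30858 : act 9 n21180 = n30858 := rfl
theorem F130773 : act 2 n30858 = n21191 := d23_1 D30858 (iv D21191) (iv F91258)
theorem F130774 : act 4 n30858 = n21184 := d34_1 D30858 (iv D21184) (iv F91259)
theorem F130775 : act 7 n30858 = n21284 := d43_1 D30858 (iv D21284) (iv F91260)
theorem F130776 : act 8 n30858 = n21229 := d44_1 D30858 (iv D21229) (iv D14586) (iv F63846) D21180
def n30859 : Q := act 8 n21181
theorem D30859 : act 8 n21181 = n30859 := rfl
theorem F130777 : act 2 n30859 = n21192 := d22_1 D30859 (iv D21192) (iv F91261)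
theorem F130778 : act 5 n30859 = n30859 := d37_1 D30859 (iv D30859) F91263
theorem F130779 : act 6 n30859 = n21285 := d40_1 D30859 (iv D21285) (iv F91264)
theorem F130780 : act 7 n30859 = n21182 := d42_1 D30859 (iv D21182) D21181
def n30860 : Q := act 3 n21182
theorem D30860 : act 3 n21182 = n30860 := rfl
theorem F130781 : act 2 n30860 = n30860 := d17_1 D30860 (iv D30860) F91266 F63875 (iv F91266)
theorem F130782 : act 5 n30860 = n30860 := d25_2 F91267 D30860 (iv D30860)
theorem F130783 : act 6 n30860 = n21183 := d26_2 (iv F91268) D30860 (iv D21183)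
def n30861 : Q := act 9 n21182
theorem D30861 : act 9 n21182 = n30861 := rfl
theorem F130785 : act 2 n30861 = n21193 := d23_1 D30861 (iv D21193) (iv F91266)
theorem F130786 : act 5 n30861 = n30861 := d38_1 D30861 (iv D30861) F91267
theorem F130787 : act 6 n30861 = n21184 := d41_1 D30861 (iv D21184) (iv F91268)
theorem F130788 : act 8 n30861 = n21232 := d44_1 D30861 (iv D21232) (iv D14588) (iv F63850) D21182
def n30862 : Q := act 4 n21183
theorem D30862 : act 4 n21183 = n30862 := rfl
theorem F130789 : act 2 n30862 = n30862 := d18_1 D30862 (iv D30862) F91269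
theorem F130790 : act 7 n30862 = n21288 := d32_2 (iv F91271) D30862 (iv D21288)
theorem F130791 : act 8 n30862 = n23312 := d33_2 (iv F91272) D30862 (iv D23312)
def n30863 : Q := act 9 n21183
theorem D30863 : act 9 n21183 = n30863 := rfl
theorem F130792 : act 2 n30863 = n30863 := d23_1 D30863 (iv D30863) F91269
theorem F130793 : act 3 n30863 = n21184 := d29_1 D30863 (iv D21184) D21183
theorem F130794 : act 5 n30863 = n21186 := d38_1 D30863 (iv D21186) (iv F91270)
theorem F130795 : act 7 n30863 = n21289 := d43_1 D30863 (iv D21289) (iv F91271)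
def n30864 : Q := act 5 n21185
theorem D30864 : act 5 n21185 = n30864 := rfl
theorem F130798 : act 8 n30864 = n23314 := d37_2 (iv F91280) D30864 (iv D23314)
def n30865 : Q := act 9 n21185
theorem D30865 : act 9 n21185 = n30865 := rfl
theorem F130800 : act 4 n30865 = n21186 := d34_1 D30865 (iv D21186) D21185
def n30866 : Q := act 8 n21186
theorem D30866 : act 8 n21186 = n30866 := rfl
theorem F130807 : act 9 n30866 = n23316 := d44_2 D21186 D30866 (iv D23316) (iv D16009) (iv F63857)
def n30867 : Q := act 7 n21187
theorem D30867 : act 7 n21187 = n30867 := rfl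
theorem F130808 : act 1 n30867 = n21194 := d14_1 D30867 (iv D21194) (iv F91285)
theorem F130811 : act 5 n30867 = n21188 := d36_1 D30867 (iv D21188) D21187
theorem F130812 : act 9 n30867 = n21238 := d43_2 (iv F91288) D30867 (iv D21238)
def n30868 : Q := act 8 n21187
theorem D30868 : act 8 n21187 = n30868 := rfl
theorem F130815 : act 5 n30868 = n21189 := d37_1 D30868 (iv D21189) D21187
def n30869 : Q := act 8 n21188
theorem D30869 : act 8 n21188 = n30869 := rfl
theorem F130817 : act 4 n30869 = n21192 := d33_1 D30869 (iv D21192) (iv F91291)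
theorem F130818 : act 6 n30869 = n21295 := d40_1 D30869 (iv D21295) (iv F91292)
theorem F130819 : act 7 n30869 = n21189 := d42_1 D30869 (iv D21189) D21188
def n30870 : Q := act 3 n21189
theorem D30870 : act 3 n21189 = n30870 := rfl
theorem F130822 : act 6 n30870 = n21190 := d26_2 (iv F91296) D30870 (iv D21190)
def n30871 : Q := act 9 n21189
theorem D30871 : act 9 n21189 = n30871 := rfl
theorem F130824 : act 1 n30871 = n21198 := d16_1 D30871 (iv D21198) (iv F91294)
theorem F130825 : act 4 n30871 = n21193 := d34_1 D30871 (iv D21193) (iv F91295)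
theorem F130826 : act 6 n30871 = n21191 := d41_1 D30871 (iv D21191) (iv F91296)
theorem F130827 : act 8 n30871 = n21242 := d44_1 D30871 (iv D21242) (iv D14595) (iv F63865) D21189
def n30872 : Q := act 2 n21190
theorem D30872 : act 2 n21190 = n30872 := rfl
theorem F130828 : act 4 n30872 = n30872 := d18_2 F91298 D30872 (iv D30872)
theorem F130829 : act 7 n30872 = n21298 := d21_2 (iv F91299) D30872 (iv D21298)
theorem F130830 : act 8 n30872 = n30872 := d22_2 F91300 D30872 (iv D30872)
def n30873 : Q := act 9 n21190
theorem D30873 : act 9 n21190 = n30873 := rfl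
theorem F130831 : act 1 n30873 = n21200 := d16_1 D30873 (iv D21200) (iv F91297)
theorem F130832 : act 3 n30873 = n21191 := d29_1 D30873 (iv D21191) D21190
theorem F130833 : act 4 n30873 = n30873 := d34_1 D30873 (iv D30873) F91298
theorem F130834 : act 7 n30873 = n21299 := d43_1 D30873 (iv D21299) (iv F91299)
def n30874 : Q := act 9 n21192
theorem D30874 : act 9 n21192 = n30874 := rfl
theorem F130835 : act 1 n30874 = n21201 := d16_1 D30874 (iv D21201) (iv F91305)
theorem F130836 : act 3 n30874 = n30874 := d29_1 D30874 (iv D30874) F91306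
theorem F130837 : act 5 n30874 = n30874 := d38_1 D30874 (iv D30874) F91307
theorem F130838 : act 6 n30874 = n21300 := d41_1 D30874 (iv D21300) (iv F91308)
theorem F130839 : act 7 n30874 = n21193 := d43_1 D30874 (iv D21193) (iv F91309)
theorem F130840 : act 8 n30874 = n21245 := d44_1 D30874 (iv D21245) (iv D14598) (iv F63873) D21192
def n30875 : Q := act 6 n21194
theorem D30875 : act 6 n21194 = n30875 := rfl
theorem F130844 : act 5 n30875 = n21301 := d35_1 D30875 (iv D21301) F64156 (iv F63890) (iv F91318)
theorem F130845 : act 9 n30875 = n21246 := d41_2 (iv F91319) D30875 (iv D21246)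
def n30876 : Q := act 8 n21194
theorem D30876 : act 8 n21194 = n30876 := rfl
theorem F130848 : act 5 n30876 = n21196 := d37_1 D30876 (iv D21196) (iv F91318)
theorem F130849 : act 7 n30876 = n21195 := d42_1 D30876 (iv D21195) D21194
def n30877 : Q := act 3 n21195
theorem D30877 : act 3 n21195 = n30877 := rfl
def n30878 : Q := act 9 n21195
theorem D30878 : act 9 n21195 = n30878 := rfl
theorem F130855 : act 5 n30878 = n21198 := d38_1 D30878 (iv D21198) (iv F91322)
theorem F130856 : act 8 n30878 = n21249 := d44_1 D30878 (iv D21249) (iv D14601) (iv F63886) D21195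
def n30879 : Q := act 3 n21196
theorem D30879 : act 3 n21196 = n30879 := rfl
theorem F130859 : act 6 n30879 = n21305 := d26_2 (iv F91325) D30879 (iv D21305)
theorem F130860 : act 7 n30879 = n21197 := d27_2 (iv F91326) D30879 (iv D21197)
def n30880 : Q := act 9 n21196
theorem D30880 : act 9 n21196 = n30880 := rfl
theorem F130863 : act 4 n30880 = n21201 := d34_1 D30880 (iv D21201) (iv F91324)
theorem F130864 : act 6 n30880 = n21306 := d41_1 D30880 (iv D21306) (iv F91325)
theorem F130866 : act 8 n30880 = n21251 := d44_1 D30880 (iv D21251) (iv D14602) (iv F63891) D21196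
def n30882 : Q := act 9 n21197
theorem D30882 : act 9 n21197 = n30882 := rfl
theorem F130872 : act 3 n30882 = n21198 := d29_1 D30882 (iv D21198) D21197
theorem F130874 : act 6 n30882 = n21200 := d41_1 D30882 (iv D21200) (iv F91329)
def n30883 : Q := act 1 n21199
theorem D30883 : act 1 n21199 = n30883 := rfl
theorem F130876 : act 7 n30883 = n21309 := d14_2 (iv F91337) D30883 (iv D21309)
def n30884 : Q := act 9 n21199
theorem D30884 : act 9 n21199 = n30884 := rfl
theorem F130879 : act 2 n30884 = n21200 := d23_1 D30884 (iv D21200) D21199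
theorem F130881 : act 7 n30884 = n21310 := d43_1 D30884 (iv D21310) (iv F91337)
def n30885 : Q := act 8 n21200
theorem D30885 : act 8 n21200 = n30885 := rfl
theorem F130882 : act 0 n30885 = n30885 := d7_1 D30885 (iv D30885) F91339
theorem F130883 : act 3 n30885 = n21256 := d28_1 D30885 (iv D21256) F64043 (iv F63902) (iv F91340)
theorem F130884 : act 4 n30885 = n30885 := d33_1 D30885 (iv D30885) F91341
theorem F130885 : act 7 n30885 = n21311 := d42_1 D30885 (iv D21311) (iv F91342)
theorem F130886 : act 9 n30885 = n30885 := d44_2 D21200 D30885 (iv D30885) (iv D21200) F63898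
def n30886 : Q := act 3 n21202
theorem D30886 : act 3 n21202 = n30886 := rfl
theorem F130887 : act 1 n30886 = n21207 := d10_1 D30886 (iv D21207) (iv F91349)
theorem F130888 : act 4 n30886 = n23336 := d24_2 D21202 D30886 (iv D23336) (iv D16025) (iv F63915)
theorem F130889 : act 7 n30886 = n21312 := d27_2 (iv F91351) D30886 (iv D21312)
def n30887 : Q := act 6 n21202
theorem D30887 : act 6 n21202 = n30887 := rfl
theorem F130890 : act 1 n30887 = n21208 := d13_1 D30887 (iv D21208) (iv F91349)
theorem F130892 : act 4 n30887 = n21203 := d31_1 D30887 (iv D21203) D21202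
def n30888 : Q := act 8 n21202
theorem D30888 : act 8 n21202 = n30888 := rfl
theorem F130893 : act 1 n30888 = n21209 := d15_1 D30888 (iv D21209) (iv F91349)
def n30889 : Q := act 7 n21203
theorem D30889 : act 7 n21203 = n30889 := rfl
theorem F130897 : act 1 n30889 = n21210 := d14_1 D30889 (iv D21210) (iv F91352)
def n30890 : Q := act 8 n21203
theorem D30890 : act 8 n21203 = n30890 := rfl
theorem F130902 : act 1 n30890 = n21211 := d15_1 D30890 (iv D21211) (iv F91352)
def n30892 : Q := act 9 n21204
theorem D30892 : act 9 n21204 = n30892 := rfl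
def n30896 : Q := act 6 n21207
theorem D30896 : act 6 n21207 = n30896 := rfl
theorem F130927 : act 0 n30896 = n21223 := d5_1 D30896 (iv D21223) (iv F91368)
theorem F130929 : act 3 n30896 = n21208 := d26_1 D30896 (iv D21208) D21207
theorem F130930 : act 4 n30896 = n23346 := d31_1 D30896 (iv D23346) (iv F91370)
def n30897 : Q := act 8 n21207
theorem D30897 : act 8 n21207 = n30897 := rfl
theorem F130931 : act 0 n30897 = n21224 := d7_1 D30897 (iv D21224) (iv F91368)
theorem F130932 : act 2 n30897 = n30897 := d22_1 D30897 (iv D30897) F91369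
theorem F130933 : act 4 n30897 = n23347 := d33_1 D30897 (iv D23347) (iv F91370)
theorem F130934 : act 7 n30897 = n21323 := d42_1 D30897 (iv D21323) (iv F91371)
def n30898 : Q := act 5 n21208
theorem D30898 : act 5 n21208 = n30898 := rfl
theorem F130935 : act 0 n30898 = n21225 := d4_1 D30898 (iv D21225) (iv F91372)
theorem F130936 : act 2 n30898 = n21216 := d19_1 D30898 (iv D21216) (iv F91373)
theorem F130937 : act 4 n30898 = n30898 := d30_1 D30898 (iv D30898) F91374 F63927 (iv F91374)
def n30899 : Q := act 7 n21208
theorem D30899 : act 7 n21208 = n30899 := rfl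
theorem F130938 : act 0 n30899 = n21226 := d6_1 D30899 (iv D21226) (iv F91372)
theorem F130939 : act 2 n30899 = n21217 := d21_1 D30899 (iv D21217) (iv F91373)
theorem F130940 : act 4 n30899 = n21210 := d32_1 D30899 (iv D21210) (iv F91374)
theorem F130941 : act 6 n30899 = n21325 := d39_1 D30899 (iv D21325) (iv D14650) (iv F63923) D21208
def n30900 : Q := act 8 n21208
theorem D30900 : act 8 n21208 = n30900 := rfl
theorem F130942 : act 0 n30900 = n21227 := d7_1 D30900 (iv D21227) (iv F91372)
theorem F130943 : act 2 n30900 = n21218 := d22_1 D30900 (iv D21218) (iv F91373)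
theorem F130944 : act 4 n30900 = n21211 := d33_1 D30900 (iv D21211) (iv F91374)
theorem F130945 : act 6 n30900 = n21209 := d40_1 D30900 (iv D21209) D21208
def n30901 : Q := act 3 n21209
theorem D30901 : act 3 n21209 = n30901 := rfl
theorem F130946 : act 0 n30901 = n21228 := d2_1 D30901 (iv D21228) (iv F91375)
theorem F130947 : act 7 n30901 = n21327 := d27_2 (iv F91378) D30901 (iv D21327)
def n30902 : Q := act 9 n21209
theorem D30902 : act 9 n21209 = n30902 := rfl
theorem F130948 : act 0 n30902 = n21229 := d8_1 D30902 (iv D21229) (iv F91375)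
theorem F130949 : act 2 n30902 = n21220 := d23_1 D30902 (iv D21220) (iv F91376)
theorem F130950 : act 4 n30902 = n21213 := d34_1 D30902 (iv D21213) (iv F91377)
theorem F130951 : act 7 n30902 = n21328 := d43_1 D30902 (iv D21328) (iv F91378)
def n30903 : Q := act 8 n21210
theorem D30903 : act 8 n21210 = n30903 := rfl
theorem F130952 : act 0 n30903 = n21230 := d7_1 D30903 (iv D21230) (iv F91379)
theorem F130953 : act 2 n30903 = n21221 := d22_1 D30903 (iv D21221) (iv F91380)
theorem F130954 : act 5 n30903 = n30903 := d37_1 D30903 (iv D30903) F91382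
theorem F130955 : act 6 n30903 = n21329 := d40_1 D30903 (iv D21329) (iv F91383)
theorem F130956 : act 7 n30903 = n21211 := d42_1 D30903 (iv D21211) D21210
def n30904 : Q := act 3 n21211
theorem D30904 : act 3 n21211 = n30904 := rfl
theorem F130957 : act 0 n30904 = n21231 := d2_1 D30904 (iv D21231) (iv F91384)
theorem F130961 : act 8 n30904 = n23354 := d28_2 D21211 D30904 (iv D23354) (iv D16034) (iv F63926)
def n30905 : Q := act 9 n21211
theorem D30905 : act 9 n21211 = n30905 := rfl
theorem F130962 : act 0 n30905 = n21232 := d8_1 D30905 (iv D21232) (iv F91384)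
theorem F130963 : act 2 n30905 = n21222 := d23_1 D30905 (iv D21222) (iv F91385)
theorem F130964 : act 5 n30905 = n30905 := d38_1 D30905 (iv D30905) F91386
theorem F130965 : act 6 n30905 = n21213 := d41_1 D30905 (iv D21213) (iv F91387)
def n30906 : Q := act 4 n21212
theorem D30906 : act 4 n21212 = n30906 := rfl
theorem F130966 : act 0 n30906 = n21233 := d3_1 D30906 (iv D21233) (iv F91388)
theorem F130969 : act 8 n30906 = n23356 := d33_2 (iv F91392) D30906 (iv D23356)
def n30908 : Q := act 5 n21214
theorem D30908 : act 5 n21214 = n30908 := rfl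
theorem F130975 : act 0 n30908 = n21235 := d4_1 D30908 (iv D21235) (iv F91397)
theorem F130978 : act 8 n30908 = n23358 := d37_2 (iv F91401) D30908 (iv D23358)
def n30909 : Q := act 9 n21214
theorem D30909 : act 9 n21214 = n30909 := rfl
def n30911 : Q := act 7 n21216
theorem D30911 : act 7 n21216 = n30911 := rfl
theorem F130989 : act 0 n30911 = n21238 := d6_1 D30911 (iv D21238) (iv F91407)
theorem F130990 : act 1 n30911 = n30911 := d14_1 D30911 (iv D30911) F91408
theorem F130991 : act 3 n30911 = n30911 := d27_1 D30911 (iv D30911) F91409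
theorem F130992 : act 4 n30911 = n30911 := d32_1 D30911 (iv D30911) F91410
theorem F130993 : act 5 n30911 = n21217 := d36_1 D30911 (iv D21217) D21216
def n30912 : Q := act 8 n21216
theorem D30912 : act 8 n21216 = n30912 := rfl
theorem F130994 : act 0 n30912 = n21239 := d7_1 D30912 (iv D21239) (iv F91407)
theorem F130995 : act 1 n30912 = n30912 := d15_1 D30912 (iv D30912) F91408
theorem F130996 : act 4 n30912 = n30912 := d33_1 D30912 (iv D30912) F91410
theorem F130997 : act 5 n30912 = n21218 := d37_1 D30912 (iv D21218) D21216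
def n30913 : Q := act 8 n21217
theorem D30913 : act 8 n21217 = n30913 := rfl
theorem F130998 : act 0 n30913 = n21240 := d7_1 D30913 (iv D21240) (iv F91411)
theorem F130999 : act 1 n30913 = n30913 := d15_1 D30913 (iv D30913) F91412
theorem F131000 : act 4 n30913 = n21221 := d33_1 D30913 (iv D21221) (iv F91414)
theorem F131001 : act 6 n30913 = n21339 := d40_1 D30913 (iv D21339) (iv F91415)
theorem F131002 : act 7 n30913 = n21218 := d42_1 D30913 (iv D21218) D21217
def n30914 : Q := act 3 n21218
theorem D30914 : act 3 n21218 = n30914 := rfl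
theorem F131003 : act 0 n30914 = n21241 := d2_1 D30914 (iv D21241) (iv F91416)
theorem F131004 : act 1 n30914 = n30914 := d10_1 D30914 (iv D30914) F91417
theorem F131005 : act 4 n30914 = n21857 := d24_2 (iv F91418) D30914 (iv D21857) F65604 (iv F63956)
theorem F131006 : act 6 n30914 = n21219 := d26_2 (iv F91419) D30914 (iv D21219)
theorem F131007 : act 8 n30914 = n30914 := d28_2 D21218 D30914 (iv D30914) (iv D21218) F63943
def n30915 : Q := act 9 n21218
theorem D30915 : act 9 n21218 = n30915 := rfl
theorem F131008 : act 0 n30915 = n21242 := d8_1 D30915 (iv D21242) (iv F91416)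
theorem F131009 : act 1 n30915 = n30915 := d16_1 D30915 (iv D30915) F91417
theorem F131010 : act 4 n30915 = n21222 := d34_1 D30915 (iv D21222) (iv F91418)
theorem F131011 : act 6 n30915 = n21220 := d41_1 D30915 (iv D21220) (iv F91419)
def n30916 : Q := act 2 n21219
theorem D30916 : act 2 n21219 = n30916 := rfl
theorem F131012 : act 0 n30916 = n21243 := d1_1 D30916 (iv D21243) (iv F91420)
theorem F131013 : act 4 n30916 = n21859 := d18_2 (iv F91422) D30916 (iv D21859)
theorem F131014 : act 7 n30916 = n21342 := d21_2 (iv F91423) D30916 (iv D21342)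
theorem F131015 : act 8 n30916 = n30916 := d22_2 F91424 D30916 (iv D30916)
def n30917 : Q := act 9 n21219
theorem D30917 : act 9 n21219 = n30917 := rfl
theorem F131016 : act 0 n30917 = n21244 := d8_1 D30917 (iv D21244) (iv F91420)
theorem F131017 : act 1 n30917 = n30917 := d16_1 D30917 (iv D30917) F91421
theorem F131018 : act 3 n30917 = n21220 := d29_1 D30917 (iv D21220) D21219
theorem F131019 : act 4 n30917 = n21860 := d34_1 D30917 (iv D21860) (iv F91422)
theorem F131020 : act 7 n30917 = n21343 := d43_1 D30917 (iv D21343) (iv F91423)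
def n30918 : Q := act 9 n21221
theorem D30918 : act 9 n21221 = n30918 := rfl
theorem F131021 : act 0 n30918 = n21245 := d8_1 D30918 (iv D21245) (iv F91429)
theorem F131022 : act 1 n30918 = n30918 := d16_1 D30918 (iv D30918) F91430
theorem F131023 : act 3 n30918 = n21861 := d29_1 D30918 (iv D21861) (iv F91431)
theorem F131024 : act 5 n30918 = n30918 := d38_1 D30918 (iv D30918) F91432
theorem F131025 : act 6 n30918 = n21344 := d41_1 D30918 (iv D21344) (iv F91433)
theorem F131026 : act 7 n30918 = n21222 := d43_1 D30918 (iv D21222) (iv F91434)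
def n30919 : Q := act 5 n21223
theorem D30919 : act 5 n21223 = n30919 := rfl
theorem F131027 : act 2 n30919 = n30919 := d19_1 D30919 (iv D30919) F91440
theorem F131028 : act 3 n30919 = n21225 := d25_1 D30919 (iv D21225) (iv F91441)
def n30920 : Q := act 7 n21223
theorem D30920 : act 7 n21223 = n30920 := rfl
theorem F131030 : act 3 n30920 = n21226 := d27_1 D30920 (iv D21226) (iv F91441)
theorem F131032 : act 6 n30920 = n21346 := d39_1 D30920 (iv D21346) (iv D14665) (iv F63966) D21223
def n30921 : Q := act 8 n21223
theorem D30921 : act 8 n21223 = n30921 := rfl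
theorem F131034 : act 4 n30921 = n23371 := d33_1 D30921 (iv D23371) (iv F91442)
theorem F131035 : act 6 n30921 = n21224 := d40_1 D30921 (iv D21224) D21223
def n30922 : Q := act 3 n21224
theorem D30922 : act 3 n21224 = n30922 := rfl
theorem F131036 : act 7 n30922 = n21348 := d27_2 (iv F91445) D30922 (iv D21348)
theorem F131037 : act 8 n30922 = n21228 := d28_2 D21224 D30922 (iv D21228) (iv D14586) D14584
def n30923 : Q := act 9 n21224
theorem D30923 : act 9 n21224 = n30923 := rfl
theorem F131038 : act 2 n30923 = n30923 := d23_1 D30923 (iv D30923) F91443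
theorem F131039 : act 4 n30923 = n23373 := d34_1 D30923 (iv D23373) (iv F91444)
theorem F131040 : act 7 n30923 = n21349 := d43_1 D30923 (iv D21349) (iv F91445)
def n30924 : Q := act 7 n21225
theorem D30924 : act 7 n21225 = n30924 := rfl
theorem F131041 : act 2 n30924 = n21238 := d21_1 D30924 (iv D21238) (iv F91446)
theorem F131042 : act 4 n30924 = n30924 := d32_1 D30924 (iv D30924) F91447
theorem F131043 : act 5 n30924 = n21226 := d36_1 D30924 (iv D21226) D21225
def n30925 : Q := act 8 n21225
theorem D30925 : act 8 n21225 = n30925 := rfl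
theorem F131044 : act 2 n30925 = n21239 := d22_1 D30925 (iv D21239) (iv F91446)
theorem F131045 : act 4 n30925 = n30925 := d33_1 D30925 (iv D30925) F91447
theorem F131046 : act 5 n30925 = n21227 := d37_1 D30925 (iv D21227) D21225
def n30926 : Q := act 8 n21226
theorem D30926 : act 8 n21226 = n30926 := rfl
theorem F131047 : act 2 n30926 = n21240 := d22_1 D30926 (iv D21240) (iv F91448)
theorem F131048 : act 4 n30926 = n21230 := d33_1 D30926 (iv D21230) (iv F91449)
theorem F131049 : act 6 n30926 = n21352 := d40_1 D30926 (iv D21352) (iv F91450)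
theorem F131050 : act 7 n30926 = n21227 := d42_1 D30926 (iv D21227) D21226
def n30927 : Q := act 3 n21227
theorem D30927 : act 3 n21227 = n30927 := rfl
theorem F131051 : act 6 n30927 = n21228 := d26_2 (iv F91453) D30927 (iv D21228)
def n30928 : Q := act 9 n21227
theorem D30928 : act 9 n21227 = n30928 := rfl
theorem F131052 : act 2 n30928 = n21242 := d23_1 D30928 (iv D21242) (iv F91451)
theorem F131053 : act 4 n30928 = n21232 := d34_1 D30928 (iv D21232) (iv F91452)
theorem F131054 : act 6 n30928 = n21229 := d41_1 D30928 (iv D21229) (iv F91453)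
def n30929 : Q := act 2 n21228
theorem D30929 : act 2 n21228 = n30929 := rfl
theorem F131055 : act 3 n30929 = n21243 := d17_2 D21228 D30929 (iv D21243) (iv D14596) (iv F63969)
theorem F131056 : act 7 n30929 = n21355 := d21_2 (iv F91454) D30929 (iv D21355)
def n30930 : Q := act 4 n21228
theorem D30930 : act 4 n21228 = n30930 := rfl
theorem F131057 : act 3 n30930 = n21233 := d24_1 D30930 (iv D21233) (iv D14589) (iv F63970) D21228
theorem F131058 : act 7 n30930 = n21356 := d32_2 (iv F91454) D30930 (iv D21356)
def n30931 : Q := act 9 n21228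
theorem D30931 : act 9 n21228 = n30931 := rfl
theorem F131059 : act 3 n30931 = n21229 := d29_1 D30931 (iv D21229) D21228
theorem F131060 : act 7 n30931 = n21357 := d43_1 D30931 (iv D21357) (iv F91454)
def n30932 : Q := act 3 n21230
theorem D30932 : act 3 n21230 = n30932 := rfl
theorem F131064 : act 7 n30932 = n21231 := d27_2 (iv F91461) D30932 (iv D21231)
theorem F131065 : act 8 n30932 = n23382 := d28_2 D21230 D30932 (iv D23382) (iv D16053) (iv F63973)
def n30933 : Q := act 9 n21230
theorem D30933 : act 9 n21230 = n30933 := rfl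
theorem F131066 : act 2 n30933 = n21245 := d23_1 D30933 (iv D21245) (iv F91458)
theorem F131067 : act 5 n30933 = n30933 := d38_1 D30933 (iv D30933) F91459
theorem F131068 : act 6 n30933 = n21359 := d41_1 D30933 (iv D21359) (iv F91460)
theorem F131069 : act 7 n30933 = n21232 := d43_1 D30933 (iv D21232) (iv F91461)
def n30934 : Q := act 4 n21231
theorem D30934 : act 4 n21231 = n30934 := rfl
theorem F131070 : act 2 n30934 = n21877 := d18_1 D30934 (iv D21877) (iv F91462)
theorem F131071 : act 6 n30934 = n21233 := d31_2 (iv F91464) D30934 (iv D21233)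
theorem F131072 : act 8 n30934 = n23384 := d33_2 (iv F91465) D30934 (iv D23384)
def n30935 : Q := act 9 n21231
theorem D30935 : act 9 n21231 = n30935 := rfl
theorem F131073 : act 2 n30935 = n21878 := d23_1 D30935 (iv D21878) (iv F91462)
theorem F131074 : act 3 n30935 = n21232 := d29_1 D30935 (iv D21232) D21231
theorem F131075 : act 5 n30935 = n30935 := d38_1 D30935 (iv D30935) F91463
theorem F131076 : act 6 n30935 = n21234 := d41_1 D30935 (iv D21234) (iv F91464)
def n30936 : Q := act 5 n21233
theorem D30936 : act 5 n21233 = n30936 := rfl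
theorem F131077 : act 2 n30936 = n21879 := d19_1 D30936 (iv D21879) (iv F91469)
theorem F131078 : act 4 n30936 = n21235 := d30_1 D30936 (iv D21235) (iv D14591) (iv F63980) D21233
theorem F131079 : act 7 n30936 = n21362 := d36_2 (iv F91470) D30936 (iv D21362)
theorem F131080 : act 8 n30936 = n23386 := d37_2 (iv F91471) D30936 (iv D23386)
def n30937 : Q := act 9 n21233
theorem D30937 : act 9 n21233 = n30937 := rfl
theorem F131081 : act 2 n30937 = n21880 := d23_1 D30937 (iv D21880) (iv F91469)
theorem F131082 : act 4 n30937 = n21234 := d34_1 D30937 (iv D21234) D21233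
theorem F131083 : act 7 n30937 = n21363 := d43_1 D30937 (iv D21363) (iv F91470)
def n30939 : Q := act 6 n21235
theorem D30939 : act 6 n21235 = n30939 := rfl
theorem F131088 : act 2 n30939 = n21882 := d20_1 D30939 (iv D21882) (iv F91476)
theorem F131089 : act 5 n30939 = n30939 := d35_1 D30939 (iv D30939) (iv D21235) F63987 D21235
theorem F131090 : act 8 n30939 = n23389 := d40_2 (iv F91478) D30939 (iv D23389)
def n30940 : Q := act 9 n21235
theorem D30940 : act 9 n21235 = n30940 := rfl
theorem F131091 : act 2 n30940 = n21883 := d23_1 D30940 (iv D21883) (iv F91476)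
theorem F131092 : act 5 n30940 = n21236 := d38_1 D30940 (iv D21236) D21235
theorem F131093 : act 7 n30940 = n21366 := d43_1 D30940 (iv D21366) (iv F91477)
def n30942 : Q := act 6 n21238
theorem D30942 : act 6 n21238 = n30942 := rfl
theorem F131099 : act 1 n30942 = n21246 := d13_1 D30942 (iv D21246) (iv F91487)
theorem F131100 : act 3 n30942 = n30942 := d26_1 D30942 (iv D30942) F91488
theorem F131101 : act 4 n30942 = n30942 := d31_1 D30942 (iv D30942) F91489
theorem F131102 : act 5 n30942 = n21368 := d35_1 D30942 (iv D21368) F64299 (iv F64000) (iv F91490)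
def n30943 : Q := act 8 n21238
theorem D30943 : act 8 n21238 = n30943 := rfl
theorem F131103 : act 1 n30943 = n21247 := d15_1 D30943 (iv D21247) (iv F91487)
theorem F131104 : act 4 n30943 = n30943 := d33_1 D30943 (iv D30943) F91489
theorem F131105 : act 5 n30943 = n21240 := d37_1 D30943 (iv D21240) (iv F91490)
theorem F131106 : act 7 n30943 = n21239 := d42_1 D30943 (iv D21239) D21238
def n30944 : Q := act 3 n21239
theorem D30944 : act 3 n21239 = n30944 := rfl
theorem F131107 : act 1 n30944 = n21248 := d10_1 D30944 (iv D21248) (iv F91491)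
theorem F131108 : act 5 n30944 = n21241 := d25_2 (iv F91493) D30944 (iv D21241)
theorem F131109 : act 8 n30944 = n30944 := d28_2 D21239 D30944 (iv D30944) (iv D21239) F63995
def n30945 : Q := act 9 n21239
theorem D30945 : act 9 n21239 = n30945 := rfl
theorem F131110 : act 1 n30945 = n21249 := d16_1 D30945 (iv D21249) (iv F91491)
theorem F131111 : act 4 n30945 = n30945 := d34_1 D30945 (iv D30945) F91492
theorem F131112 : act 5 n30945 = n21242 := d38_1 D30945 (iv D21242) (iv F91493)
def n30946 : Q := act 3 n21240
theorem D30946 : act 3 n21240 = n30946 := rfl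
theorem F131113 : act 1 n30946 = n21250 := d10_1 D30946 (iv D21250) (iv F91494)
theorem F131114 : act 4 n30946 = n21889 := d24_2 (iv F91495) D30946 (iv D21889) F65705 (iv F64012)
theorem F131115 : act 6 n30946 = n21372 := d26_2 (iv F91496) D30946 (iv D21372)
theorem F131116 : act 7 n30946 = n21241 := d27_2 (iv F91497) D30946 (iv D21241)
theorem F131117 : act 8 n30946 = n30946 := d28_2 D21240 D30946 (iv D30946) (iv D21240) F63998
def n30947 : Q := act 9 n21240
theorem D30947 : act 9 n21240 = n30947 := rfl
theorem F131118 : act 1 n30947 = n21251 := d16_1 D30947 (iv D21251) (iv F91494)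
theorem F131119 : act 4 n30947 = n21245 := d34_1 D30947 (iv D21245) (iv F91495)
theorem F131120 : act 6 n30947 = n21373 := d41_1 D30947 (iv D21373) (iv F91496)
theorem F131121 : act 7 n30947 = n21242 := d43_1 D30947 (iv D21242) (iv F91497)
def n30948 : Q := act 2 n21241
theorem D30948 : act 2 n21241 = n30948 := rfl
theorem F131122 : act 4 n30948 = n21891 := d18_2 (iv F91499) D30948 (iv D21891)
theorem F131123 : act 6 n30948 = n21243 := d20_2 (iv F91500) D30948 (iv D21243)
theorem F131124 : act 8 n30948 = n30948 := d22_2 F91501 D30948 (iv D30948)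
def n30949 : Q := act 9 n21241
theorem D30949 : act 9 n21241 = n30949 := rfl
theorem F131125 : act 1 n30949 = n21253 := d16_1 D30949 (iv D21253) (iv F91498)
theorem F131126 : act 3 n30949 = n21242 := d29_1 D30949 (iv D21242) D21241
theorem F131127 : act 4 n30949 = n21892 := d34_1 D30949 (iv D21892) (iv F91499)
theorem F131128 : act 6 n30949 = n21244 := d41_1 D30949 (iv D21244) (iv F91500)
def n30950 : Q := act 1 n21243
theorem D30950 : act 1 n21243 = n30950 := rfl
theorem F131129 : act 2 n30950 = n21254 := d9_2 D21243 D30950 (iv D21254) (iv D14605) (iv F64004)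
theorem F131130 : act 4 n30950 = n21893 := d11_2 (iv F91505) D30950 (iv D21893)
theorem F131131 : act 7 n30950 = n21376 := d14_2 (iv F91506) D30950 (iv D21376)
theorem F131132 : act 8 n30950 = n30950 := d15_2 F91507 D30950 (iv D30950)
def n30951 : Q := act 9 n21243
theorem D30951 : act 9 n21243 = n30951 := rfl
theorem F131133 : act 2 n30951 = n21244 := d23_1 D30951 (iv D21244) D21243
theorem F131134 : act 4 n30951 = n21894 := d34_1 D30951 (iv D21894) (iv F91505)
theorem F131135 : act 7 n30951 = n21377 := d43_1 D30951 (iv D21377) (iv F91506)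
def n30952 : Q := act 8 n21244
theorem D30952 : act 8 n21244 = n30952 := rfl
theorem F131136 : act 1 n30952 = n21256 := d15_1 D30952 (iv D21256) (iv F91508)
theorem F131137 : act 4 n30952 = n21895 := d33_1 D30952 (iv D21895) (iv F91510)
theorem F131138 : act 7 n30952 = n21378 := d42_1 D30952 (iv D21378) (iv F91511)
theorem F131139 : act 9 n30952 = n30952 := d44_2 D21244 D30952 (iv D30952) (iv D21244) F64007
def n30953 : Q := act 8 n21246
theorem D30953 : act 8 n21246 = n30953 := rfl
theorem F131140 : act 0 n30953 = n30953 := d7_1 D30953 (iv D30953) F91517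
theorem F131141 : act 4 n30953 = n30953 := d33_1 D30953 (iv D30953) F91519
theorem F131142 : act 5 n30953 = n21379 := d37_1 D30953 (iv D21379) (iv F91520)
theorem F131143 : act 6 n30953 = n21247 := d40_1 D30953 (iv D21247) D21246
def n30954 : Q := act 3 n21247
theorem D30954 : act 3 n21247 = n30954 := rfl
theorem F131144 : act 0 n30954 = n30954 := d2_1 D30954 (iv D30954) F91521
theorem F131145 : act 5 n30954 = n21250 := d25_2 (iv F91523) D30954 (iv D21250)
theorem F131146 : act 7 n30954 = n21248 := d27_2 (iv F91524) D30954 (iv D21248)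
theorem F131147 : act 8 n30954 = n30954 := d28_2 D21247 D30954 (iv D30954) (iv D21247) F64021
def n30955 : Q := act 9 n21247
theorem D30955 : act 9 n21247 = n30955 := rfl
theorem F131150 : act 5 n30955 = n21251 := d38_1 D30955 (iv D21251) (iv F91523)
def n30956 : Q := act 2 n21248
theorem D30956 : act 2 n21248 = n30956 := rfl
theorem F131153 : act 5 n30956 = n21252 := d19_2 (iv F91526) D30956 (iv D21252)
def n30957 : Q := act 4 n21248
theorem D30957 : act 4 n21248 = n30957 := rfl
theorem F131155 : act 0 n30957 = n30957 := d3_1 D30957 (iv D30957) F91525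
theorem F131156 : act 3 n30957 = n30957 := d24_1 D30957 (iv D30957) (iv D21248) F64025 D21248
theorem F131157 : act 5 n30957 = n21900 := d30_2 (iv F91526) D30957 (iv D21900) F65740 (iv F64032)
theorem F131158 : act 8 n30957 = n30957 := d33_2 F91527 D30957 (iv D30957)
def n30958 : Q := act 9 n21248
theorem D30958 : act 9 n21248 = n30958 := rfl
theorem F131159 : act 0 n30958 = n30958 := d8_1 D30958 (iv D30958) F91525
theorem F131160 : act 3 n30958 = n21249 := d29_1 D30958 (iv D21249) D21248
theorem F131161 : act 5 n30958 = n21253 := d38_1 D30958 (iv D21253) (iv F91526)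
def n30959 : Q := act 2 n21250
theorem D30959 : act 2 n21250 = n30959 := rfl
theorem F131162 : act 0 n30959 = n30959 := d1_1 D30959 (iv D30959) F91531
theorem F131163 : act 4 n30959 = n21902 := d18_2 (iv F91532) D30959 (iv D21902)
theorem F131164 : act 6 n30959 = n21385 := d20_2 (iv F91533) D30959 (iv D21385)
theorem F131165 : act 7 n30959 = n21252 := d21_2 (iv F91534) D30959 (iv D21252)
theorem F131166 : act 8 n30959 = n30959 := d22_2 F91535 D30959 (iv D30959)
def n30960 : Q := act 9 n21250
theorem D30960 : act 9 n21250 = n30960 := rfl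
theorem F131167 : act 0 n30960 = n30960 := d8_1 D30960 (iv D30960) F91531
theorem F131168 : act 3 n30960 = n21251 := d29_1 D30960 (iv D21251) D21250
theorem F131169 : act 4 n30960 = n21903 := d34_1 D30960 (iv D21903) (iv F91532)
theorem F131170 : act 6 n30960 = n21386 := d41_1 D30960 (iv D21386) (iv F91533)
theorem F131171 : act 7 n30960 = n21253 := d43_1 D30960 (iv D21253) (iv F91534)
def n30961 : Q := act 1 n21252
theorem D30961 : act 1 n21252 = n30961 := rfl
theorem F131172 : act 4 n30961 = n21904 := d11_2 (iv F91541) D30961 (iv D21904)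
theorem F131173 : act 6 n30961 = n21254 := d13_2 (iv F91542) D30961 (iv D21254)
theorem F131174 : act 8 n30961 = n30961 := d15_2 F91543 D30961 (iv D30961)
def n30962 : Q := act 9 n21252
theorem D30962 : act 9 n21252 = n30962 := rfl
theorem F131175 : act 0 n30962 = n30962 := d8_1 D30962 (iv D30962) F91540
theorem F131176 : act 2 n30962 = n21253 := d23_1 D30962 (iv D21253) D21252
theorem F131177 : act 4 n30962 = n21905 := d34_1 D30962 (iv D21905) (iv F91541)
theorem F131178 : act 6 n30962 = n21255 := d41_1 D30962 (iv D21255) (iv F91542)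
def n30963 : Q := act 8 n21253
theorem D30963 : act 8 n21253 = n30963 := rfl
theorem F131179 : act 0 n30963 = n30963 := d7_1 D30963 (iv D30963) F91544
theorem F131180 : act 4 n30963 = n21906 := d33_1 D30963 (iv D21906) (iv F91546)
theorem F131181 : act 6 n30963 = n21256 := d40_1 D30963 (iv D21256) (iv F91547)
theorem F131182 : act 9 n30963 = n30963 := d44_2 D21253 D30963 (iv D30963) (iv D21253) F64034
def n30964 : Q := act 0 n21254
theorem D30964 : act 0 n21254 = n30964 := rfl
theorem F131183 : act 1 n30964 = n30964 := d0_2 D21254 D30964 (iv D30964) (iv D21254) F64038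
theorem F131184 : act 4 n30964 = n21907 := d3_2 (iv F91548) D30964 (iv D21907)
theorem F131185 : act 7 n30964 = n21390 := d6_2 (iv F91549) D30964 (iv D21390)
theorem F131186 : act 8 n30964 = n30964 := d7_2 F91550 D30964 (iv D30964)
def n30965 : Q := act 9 n21254
theorem D30965 : act 9 n21254 = n30965 := rfl
theorem F131187 : act 1 n30965 = n21255 := d16_1 D30965 (iv D21255) D21254
theorem F131188 : act 4 n30965 = n21908 := d34_1 D30965 (iv D21908) (iv F91548)
theorem F131189 : act 7 n30965 = n21391 := d43_1 D30965 (iv D21391) (iv F91549)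
def n30966 : Q := act 8 n21255
theorem D30966 : act 8 n21255 = n30966 := rfl
theorem F131190 : act 0 n30966 = n30966 := d7_1 D30966 (iv D30966) F91551
theorem F131191 : act 2 n30966 = n21256 := d22_1 D30966 (iv D21256) (iv F91552)
theorem F131192 : act 4 n30966 = n21909 := d33_1 D30966 (iv D21909) (iv F91553)
theorem F131193 : act 7 n30966 = n21392 := d42_1 D30966 (iv D21392) (iv F91554)
theorem F131194 : act 9 n30966 = n30966 := d44_2 D21255 D30966 (iv D30966) (iv D21255) F64041
def n30967 : Q := act 3 n21257
theorem D30967 : act 3 n21257 = n30967 := rfl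
theorem F131195 : act 1 n30967 = n21262 := d10_1 D30967 (iv D21262) (iv F91559)
theorem F131197 : act 9 n30967 = n21312 := d29_2 (iv F91561) D30967 (iv D21312)
def n30968 : Q := act 6 n21257
theorem D30968 : act 6 n21257 = n30968 := rfl
theorem F131198 : act 1 n30968 = n21263 := d13_1 D30968 (iv D21263) (iv F91559)
theorem F131199 : act 2 n30968 = n30968 := d20_1 D30968 (iv D30968) F91560
theorem F131200 : act 4 n30968 = n21258 := d31_1 D30968 (iv D21258) D21257
theorem F131201 : act 9 n30968 = n21313 := d41_2 (iv F91561) D30968 (iv D21313)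
def n30969 : Q := act 8 n21257
theorem D30969 : act 8 n21257 = n30969 := rfl
theorem F131202 : act 1 n30969 = n21264 := d15_1 D30969 (iv D21264) (iv F91559)
theorem F131204 : act 4 n30969 = n21259 := d33_1 D30969 (iv D21259) D21257
def n30970 : Q := act 7 n21258
theorem D30970 : act 7 n21258 = n30970 := rfl
theorem F131205 : act 1 n30970 = n21265 := d14_1 D30970 (iv D21265) (iv F91562)
theorem F131209 : act 9 n30970 = n21315 := d43_2 (iv F91566) D30970 (iv D21315)
def n30971 : Q := act 8 n21258
theorem D30971 : act 8 n21258 = n30971 := rfl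
theorem F131210 : act 1 n30971 = n21266 := d15_1 D30971 (iv D21266) (iv F91562)
def n30972 : Q := act 3 n21259
theorem D30972 : act 3 n21259 = n30972 := rfl
theorem F131216 : act 8 n30972 = n23422 := d28_2 D21259 D30972 (iv D23422) (iv D16082) (iv F64053)
def n30973 : Q := act 9 n21259
theorem D30973 : act 9 n21259 = n30973 := rfl
def n30975 : Q := act 4 n21260
theorem D30975 : act 4 n21260 = n30975 := rfl
theorem F131227 : act 8 n30975 = n23425 := d33_2 (iv F91572) D30975 (iv D23425)
def n30977 : Q := act 6 n21262
theorem D30977 : act 6 n21262 = n30977 := rfl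
theorem F131231 : act 0 n30977 = n21278 := d5_1 D30977 (iv D21278) (iv F91577)
theorem F131232 : act 2 n30977 = n30977 := d20_1 D30977 (iv D30977) F91578
theorem F131233 : act 3 n30977 = n21263 := d26_1 D30977 (iv D21263) D21262
theorem F131235 : act 9 n30977 = n21322 := d41_2 (iv F91580) D30977 (iv D21322)
def n30978 : Q := act 8 n21262
theorem D30978 : act 8 n21262 = n30978 := rfl
theorem F131236 : act 0 n30978 = n21279 := d7_1 D30978 (iv D21279) (iv F91577)
theorem F131237 : act 2 n30978 = n30978 := d22_1 D30978 (iv D30978) F91578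
theorem F131238 : act 4 n30978 = n23428 := d33_1 D30978 (iv D23428) (iv F91579)
def n30979 : Q := act 5 n21263
theorem D30979 : act 5 n21263 = n30979 := rfl
theorem F131239 : act 0 n30979 = n21280 := d4_1 D30979 (iv D21280) (iv F91581)
theorem F131240 : act 2 n30979 = n21271 := d19_1 D30979 (iv D21271) (iv F91582)
theorem F131241 : act 4 n30979 = n21405 := d30_1 D30979 (iv D21405) F64384 (iv F64064) (iv F91583)
theorem F131242 : act 9 n30979 = n21324 := d38_2 (iv F91584) D30979 (iv D21324)
def n30980 : Q := act 7 n21263
theorem D30980 : act 7 n21263 = n30980 := rfl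
theorem F131243 : act 0 n30980 = n21281 := d6_1 D30980 (iv D21281) (iv F91581)
theorem F131244 : act 2 n30980 = n21272 := d21_1 D30980 (iv D21272) (iv F91582)
theorem F131245 : act 4 n30980 = n21265 := d32_1 D30980 (iv D21265) (iv F91583)
theorem F131246 : act 9 n30980 = n21325 := d43_2 (iv F91584) D30980 (iv D21325)
def n30981 : Q := act 8 n21263
theorem D30981 : act 8 n21263 = n30981 := rfl
theorem F131247 : act 0 n30981 = n21282 := d7_1 D30981 (iv D21282) (iv F91581)
theorem F131248 : act 2 n30981 = n21273 := d22_1 D30981 (iv D21273) (iv F91582)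
theorem F131249 : act 4 n30981 = n21266 := d33_1 D30981 (iv D21266) (iv F91583)
theorem F131250 : act 6 n30981 = n21264 := d40_1 D30981 (iv D21264) D21263
def n30982 : Q := act 3 n21264
theorem D30982 : act 3 n21264 = n30982 := rfl
theorem F131251 : act 0 n30982 = n21283 := d2_1 D30982 (iv D21283) (iv F91585)
def n30983 : Q := act 9 n21264
theorem D30983 : act 9 n21264 = n30983 := rfl
theorem F131252 : act 0 n30983 = n21284 := d8_1 D30983 (iv D21284) (iv F91585)
theorem F131253 : act 2 n30983 = n21275 := d23_1 D30983 (iv D21275) (iv F91586)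
theorem F131254 : act 4 n30983 = n21268 := d34_1 D30983 (iv D21268) (iv F91587)
theorem F131255 : act 8 n30983 = n21328 := d44_1 D30983 (iv D21328) (iv D14651) (iv F64060) D21264
def n30984 : Q := act 8 n21265
theorem D30984 : act 8 n21265 = n30984 := rfl
theorem F131256 : act 0 n30984 = n21285 := d7_1 D30984 (iv D21285) (iv F91588)
theorem F131257 : act 2 n30984 = n21276 := d22_1 D30984 (iv D21276) (iv F91589)
theorem F131258 : act 5 n30984 = n21410 := d37_1 D30984 (iv D21410) (iv F91591)
theorem F131259 : act 7 n30984 = n21266 := d42_1 D30984 (iv D21266) D21265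
def n30985 : Q := act 3 n21266
theorem D30985 : act 3 n21266 = n30985 := rfl
theorem F131264 : act 8 n30985 = n23435 := d28_2 D21266 D30985 (iv D23435) (iv D16089) (iv F64063)
def n30986 : Q := act 9 n21266
theorem D30986 : act 9 n21266 = n30986 := rfl
theorem F131265 : act 0 n30986 = n21287 := d8_1 D30986 (iv D21287) (iv F91593)
theorem F131266 : act 2 n30986 = n21277 := d23_1 D30986 (iv D21277) (iv F91594)
theorem F131267 : act 5 n30986 = n21412 := d38_1 D30986 (iv D21412) (iv F91595)
theorem F131268 : act 6 n30986 = n21268 := d41_1 D30986 (iv D21268) (iv F91596)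
theorem F131269 : act 8 n30986 = n21331 := d44_1 D30986 (iv D21331) (iv D14653) (iv F64065) D21266
def n30987 : Q := act 4 n21267
theorem D30987 : act 4 n21267 = n30987 := rfl
theorem F131272 : act 8 n30987 = n23437 := d33_2 (iv F91600) D30987 (iv D23437)
def n30992 : Q := act 7 n21271
theorem D30992 : act 7 n21271 = n30992 := rfl
theorem F131289 : act 0 n30992 = n21293 := d6_1 D30992 (iv D21293) (iv F91613)
theorem F131290 : act 1 n30992 = n30992 := d14_1 D30992 (iv D30992) F91614
theorem F131291 : act 3 n30992 = n30992 := d27_1 D30992 (iv D30992) F91615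
theorem F131292 : act 4 n30992 = n21418 := d32_1 D30992 (iv D21418) (iv F91616)
theorem F131293 : act 5 n30992 = n21272 := d36_1 D30992 (iv D21272) D21271
theorem F131294 : act 9 n30992 = n21337 := d43_2 (iv F91617) D30992 (iv D21337)
def n30993 : Q := act 8 n21271
theorem D30993 : act 8 n21271 = n30993 := rfl
theorem F131295 : act 0 n30993 = n21294 := d7_1 D30993 (iv D21294) (iv F91613)
theorem F131296 : act 1 n30993 = n30993 := d15_1 D30993 (iv D30993) F91614
theorem F131297 : act 4 n30993 = n21419 := d33_1 D30993 (iv D21419) (iv F91616)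
theorem F131298 : act 5 n30993 = n21273 := d37_1 D30993 (iv D21273) D21271
def n30994 : Q := act 8 n21272
theorem D30994 : act 8 n21272 = n30994 := rfl
theorem F131299 : act 0 n30994 = n21295 := d7_1 D30994 (iv D21295) (iv F91618)
theorem F131300 : act 1 n30994 = n30994 := d15_1 D30994 (iv D30994) F91619
theorem F131301 : act 4 n30994 = n21276 := d33_1 D30994 (iv D21276) (iv F91621)
theorem F131302 : act 7 n30994 = n21273 := d42_1 D30994 (iv D21273) D21272
def n30995 : Q := act 3 n21273
theorem D30995 : act 3 n21273 = n30995 := rfl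
theorem F131303 : act 0 n30995 = n21296 := d2_1 D30995 (iv D21296) (iv F91623)
theorem F131304 : act 1 n30995 = n30995 := d10_1 D30995 (iv D30995) F91624
theorem F131305 : act 4 n30995 = n30995 := d24_2 (iv F91625) D30995 (iv D30995) F91625 F64092
theorem F131306 : act 6 n30995 = n21274 := d26_2 (iv F91626) D30995 (iv D21274)
theorem F131307 : act 8 n30995 = n30995 := d28_2 D21273 D30995 (iv D30995) (iv D21273) F64079
def n30996 : Q := act 9 n21273
theorem D30996 : act 9 n21273 = n30996 := rfl
theorem F131308 : act 0 n30996 = n21297 := d8_1 D30996 (iv D21297) (iv F91623)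
theorem F131309 : act 1 n30996 = n30996 := d16_1 D30996 (iv D30996) F91624
theorem F131310 : act 4 n30996 = n21277 := d34_1 D30996 (iv D21277) (iv F91625)
theorem F131311 : act 6 n30996 = n21275 := d41_1 D30996 (iv D21275) (iv F91626)
theorem F131312 : act 8 n30996 = n21341 := d44_1 D30996 (iv D21341) (iv D14660) (iv F64081) D21273
def n30997 : Q := act 2 n21274
theorem D30997 : act 2 n21274 = n30997 := rfl
theorem F131313 : act 0 n30997 = n21298 := d1_1 D30997 (iv D21298) (iv F91627)
theorem F131314 : act 4 n30997 = n30997 := d18_2 F91629 D30997 (iv D30997)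
theorem F131315 : act 8 n30997 = n30997 := d22_2 F91630 D30997 (iv D30997)
def n30998 : Q := act 9 n21274
theorem D30998 : act 9 n21274 = n30998 := rfl
theorem F131316 : act 0 n30998 = n21299 := d8_1 D30998 (iv D21299) (iv F91627)
theorem F131317 : act 1 n30998 = n30998 := d16_1 D30998 (iv D30998) F91628
theorem F131318 : act 3 n30998 = n21275 := d29_1 D30998 (iv D21275) D21274
theorem F131319 : act 4 n30998 = n30998 := d34_1 D30998 (iv D30998) F91629
def n30999 : Q := act 9 n21276
theorem D30999 : act 9 n21276 = n30999 := rfl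
theorem F131320 : act 0 n30999 = n21300 := d8_1 D30999 (iv D21300) (iv F91635)
theorem F131321 : act 1 n30999 = n30999 := d16_1 D30999 (iv D30999) F91636
theorem F131322 : act 3 n30999 = n30999 := d29_1 D30999 (iv D30999) F91637
theorem F131323 : act 5 n30999 = n21425 := d38_1 D30999 (iv D21425) (iv F91638)
theorem F131324 : act 7 n30999 = n21277 := d43_1 D30999 (iv D21277) (iv F91639)
theorem F131325 : act 8 n30999 = n21344 := d44_1 D30999 (iv D21344) (iv D14663) (iv F64089) D21276
def n31000 : Q := act 5 n21278
theorem D31000 : act 5 n21278 = n31000 := rfl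
theorem F131326 : act 2 n31000 = n31000 := d19_1 D31000 (iv D31000) F91646
theorem F131327 : act 3 n31000 = n21280 := d25_1 D31000 (iv D21280) (iv F91647)
theorem F131328 : act 9 n31000 = n21345 := d38_2 (iv F91649) D31000 (iv D21345)
def n31001 : Q := act 7 n21278
theorem D31001 : act 7 n21278 = n31001 := rfl
theorem F131330 : act 3 n31001 = n21281 := d27_1 D31001 (iv D21281) (iv F91647)
def n31002 : Q := act 8 n21278
theorem D31002 : act 8 n21278 = n31002 := rfl
theorem F131333 : act 2 n31002 = n31002 := d22_1 D31002 (iv D31002) F91646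
theorem F131334 : act 4 n31002 = n23452 := d33_1 D31002 (iv D23452) (iv F91648)
theorem F131335 : act 6 n31002 = n21279 := d40_1 D31002 (iv D21279) D21278
def n31003 : Q := act 3 n21279
theorem D31003 : act 3 n21279 = n31003 := rfl
theorem F131336 : act 8 n31003 = n21283 := d28_2 D21279 D31003 (iv D21283) (iv D14622) D14620
def n31004 : Q := act 9 n21279
theorem D31004 : act 9 n21279 = n31004 := rfl
theorem F131337 : act 2 n31004 = n31004 := d23_1 D31004 (iv D31004) F91650
theorem F131338 : act 4 n31004 = n23454 := d34_1 D31004 (iv D23454) (iv F91651)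
theorem F131339 : act 8 n31004 = n21349 := d44_1 D31004 (iv D21349) (iv D14666) (iv F64102) D21279
def n31005 : Q := act 7 n21280
theorem D31005 : act 7 n21280 = n31005 := rfl
theorem F131340 : act 2 n31005 = n21293 := d21_1 D31005 (iv D21293) (iv F91652)
theorem F131341 : act 4 n31005 = n21431 := d32_1 D31005 (iv D21431) (iv F91653)
theorem F131342 : act 5 n31005 = n21281 := d36_1 D31005 (iv D21281) D21280
theorem F131343 : act 9 n31005 = n21350 := d43_2 (iv F91654) D31005 (iv D21350)
def n31006 : Q := act 8 n21280
theorem D31006 : act 8 n21280 = n31006 := rfl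
theorem F131344 : act 2 n31006 = n21294 := d22_1 D31006 (iv D21294) (iv F91652)
theorem F131345 : act 4 n31006 = n21432 := d33_1 D31006 (iv D21432) (iv F91653)
theorem F131346 : act 5 n31006 = n21282 := d37_1 D31006 (iv D21282) D21280
def n31007 : Q := act 8 n21281
theorem D31007 : act 8 n21281 = n31007 := rfl
theorem F131347 : act 2 n31007 = n21295 := d22_1 D31007 (iv D21295) (iv F91655)
theorem F131348 : act 4 n31007 = n21285 := d33_1 D31007 (iv D21285) (iv F91656)
theorem F131349 : act 7 n31007 = n21282 := d42_1 D31007 (iv D21282) D21281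
def n31008 : Q := act 3 n21282
theorem D31008 : act 3 n21282 = n31008 := rfl
theorem F131350 : act 6 n31008 = n21283 := d26_2 (iv F91660) D31008 (iv D21283)
def n31009 : Q := act 9 n21282
theorem D31009 : act 9 n21282 = n31009 := rfl
theorem F131351 : act 2 n31009 = n21297 := d23_1 D31009 (iv D21297) (iv F91658)
theorem F131352 : act 4 n31009 = n21287 := d34_1 D31009 (iv D21287) (iv F91659)
theorem F131353 : act 6 n31009 = n21284 := d41_1 D31009 (iv D21284) (iv F91660)
theorem F131354 : act 8 n31009 = n21354 := d44_1 D31009 (iv D21354) (iv D14669) (iv F64105) D21282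
def n31010 : Q := act 2 n21283
theorem D31010 : act 2 n21283 = n31010 := rfl
theorem F131355 : act 3 n31010 = n21298 := d17_2 D21283 D31010 (iv D21298) (iv D14632) (iv F64106)
def n31011 : Q := act 4 n21283
theorem D31011 : act 4 n21283 = n31011 := rfl
theorem F131356 : act 3 n31011 = n21288 := d24_1 D31011 (iv D21288) (iv D14625) (iv F64107) D21283
def n31012 : Q := act 9 n21283
theorem D31012 : act 9 n21283 = n31012 := rfl
theorem F131357 : act 3 n31012 = n21284 := d29_1 D31012 (iv D21284) D21283
def n31013 : Q := act 3 n21285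
theorem D31013 : act 3 n21285 = n31013 := rfl
theorem F131358 : act 2 n31013 = n31013 := d17_1 D31013 (iv D31013) F91664 F64145 (iv F91664)
theorem F131359 : act 5 n31013 = n21439 := d25_2 (iv F91665) D31013 (iv D21439)
theorem F131360 : act 7 n31013 = n21286 := d27_2 (iv F91666) D31013 (iv D21286)
def n31014 : Q := act 9 n21285
theorem D31014 : act 9 n21285 = n31014 := rfl
theorem F131362 : act 2 n31014 = n21300 := d23_1 D31014 (iv D21300) (iv F91664)
theorem F131363 : act 5 n31014 = n21440 := d38_1 D31014 (iv D21440) (iv F91665)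
theorem F131364 : act 7 n31014 = n21287 := d43_1 D31014 (iv D21287) (iv F91666)
theorem F131365 : act 8 n31014 = n21359 := d44_1 D31014 (iv D21359) (iv D14672) (iv F64111) D21285
def n31015 : Q := act 4 n21286
theorem D31015 : act 4 n21286 = n31015 := rfl
theorem F131366 : act 2 n31015 = n31015 := d18_1 D31015 (iv D31015) F91667
theorem F131367 : act 6 n31015 = n21288 := d31_2 (iv F91669) D31015 (iv D21288)
theorem F131368 : act 8 n31015 = n23465 := d33_2 (iv F91670) D31015 (iv D23465)
def n31016 : Q := act 9 n21286
theorem D31016 : act 9 n21286 = n31016 := rfl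
theorem F131369 : act 2 n31016 = n31016 := d23_1 D31016 (iv D31016) F91667
theorem F131370 : act 3 n31016 = n21287 := d29_1 D31016 (iv D21287) D21286
theorem F131371 : act 5 n31016 = n21442 := d38_1 D31016 (iv D21442) (iv F91668)
theorem F131372 : act 6 n31016 = n21289 := d41_1 D31016 (iv D21289) (iv F91669)
def n31017 : Q := act 5 n21288
theorem D31017 : act 5 n21288 = n31017 := rfl
theorem F131375 : act 8 n31017 = n23467 := d37_2 (iv F91676) D31017 (iv D23467)
def n31018 : Q := act 9 n21288
theorem D31018 : act 9 n21288 = n31018 := rfl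
theorem F131376 : act 2 n31018 = n31018 := d23_1 D31018 (iv D31018) F91675
theorem F131377 : act 4 n31018 = n21289 := d34_1 D31018 (iv D21289) D21288
def n31019 : Q := act 8 n21289
theorem D31019 : act 8 n21289 = n31019 := rfl
theorem F131379 : act 3 n31019 = n21364 := d28_1 D31019 (iv D21364) F64286 (iv F64120) (iv F91678)
theorem F131381 : act 9 n31019 = n23469 := d44_2 D21289 D31019 (iv D23469) (iv D16112) (iv F64117)
def n31022 : Q := act 8 n21291
theorem D31022 : act 8 n21291 = n31022 := rfl
theorem F131388 : act 4 n31022 = n21292 := d33_1 D31022 (iv D21292) (iv F91683)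
theorem F131390 : act 9 n31022 = n23472 := d44_2 D21291 D31022 (iv D23472) (iv D16114) (iv F64123)
def n31023 : Q := act 6 n21293
theorem D31023 : act 6 n21293 = n31023 := rfl
theorem F131391 : act 1 n31023 = n21301 := d13_1 D31023 (iv D21301) (iv F91689)
theorem F131392 : act 3 n31023 = n31023 := d26_1 D31023 (iv D31023) F91690
theorem F131393 : act 4 n31023 = n21449 := d31_1 D31023 (iv D21449) (iv F91691)
theorem F131394 : act 9 n31023 = n21368 := d41_2 (iv F91693) D31023 (iv D21368)
def n31024 : Q := act 8 n21293
theorem D31024 : act 8 n21293 = n31024 := rfl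
theorem F131395 : act 1 n31024 = n21302 := d15_1 D31024 (iv D21302) (iv F91689)
theorem F131396 : act 4 n31024 = n21450 := d33_1 D31024 (iv D21450) (iv F91691)
theorem F131397 : act 5 n31024 = n21295 := d37_1 D31024 (iv D21295) (iv F91692)
theorem F131398 : act 7 n31024 = n21294 := d42_1 D31024 (iv D21294) D21293
def n31025 : Q := act 3 n21294
theorem D31025 : act 3 n21294 = n31025 := rfl
theorem F131399 : act 1 n31025 = n21303 := d10_1 D31025 (iv D21303) (iv F91694)
theorem F131400 : act 5 n31025 = n21296 := d25_2 (iv F91696) D31025 (iv D21296)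
theorem F131401 : act 8 n31025 = n31025 := d28_2 D21294 D31025 (iv D31025) (iv D21294) F64128
def n31026 : Q := act 9 n21294
theorem D31026 : act 9 n21294 = n31026 := rfl
theorem F131402 : act 1 n31026 = n21304 := d16_1 D31026 (iv D21304) (iv F91694)
theorem F131403 : act 4 n31026 = n21452 := d34_1 D31026 (iv D21452) (iv F91695)
theorem F131404 : act 5 n31026 = n21297 := d38_1 D31026 (iv D21297) (iv F91696)
theorem F131405 : act 8 n31026 = n21371 := d44_1 D31026 (iv D21371) (iv D14681) (iv F64130) D21294
def n31027 : Q := act 3 n21295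
theorem D31027 : act 3 n21295 = n31027 := rfl
theorem F131406 : act 1 n31027 = n21305 := d10_1 D31027 (iv D21305) (iv F91697)
theorem F131408 : act 7 n31027 = n21296 := d27_2 (iv F91699) D31027 (iv D21296)
def n31028 : Q := act 9 n21295
theorem D31028 : act 9 n21295 = n31028 := rfl
theorem F131410 : act 1 n31028 = n21306 := d16_1 D31028 (iv D21306) (iv F91697)
theorem F131411 : act 4 n31028 = n21300 := d34_1 D31028 (iv D21300) (iv F91698)
theorem F131412 : act 7 n31028 = n21297 := d43_1 D31028 (iv D21297) (iv F91699)
theorem F131413 : act 8 n31028 = n21373 := d44_1 D31028 (iv D21373) (iv D14682) (iv F64134) D21295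
def n31029 : Q := act 2 n21296
theorem D31029 : act 2 n21296 = n31029 := rfl
theorem F131414 : act 4 n31029 = n31029 := d18_2 F91701 D31029 (iv D31029)
theorem F131415 : act 6 n31029 = n21298 := d20_2 (iv F91702) D31029 (iv D21298)
theorem F131416 : act 8 n31029 = n31029 := d22_2 F91703 D31029 (iv D31029)
def n31030 : Q := act 9 n21296
theorem D31030 : act 9 n21296 = n31030 := rfl
theorem F131417 : act 1 n31030 = n21308 := d16_1 D31030 (iv D21308) (iv F91700)
theorem F131418 : act 3 n31030 = n21297 := d29_1 D31030 (iv D21297) D21296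
theorem F131419 : act 4 n31030 = n31030 := d34_1 D31030 (iv D31030) F91701
theorem F131420 : act 6 n31030 = n21299 := d41_1 D31030 (iv D21299) (iv F91702)
def n31031 : Q := act 1 n21298
theorem D31031 : act 1 n21298 = n31031 := rfl
theorem F131421 : act 2 n31031 = n21309 := d9_2 D21298 D31031 (iv D21309) (iv D14641) (iv F64138)
theorem F131422 : act 4 n31031 = n31031 := d11_2 F91708 D31031 (iv D31031)
theorem F131423 : act 8 n31031 = n31031 := d15_2 F91709 D31031 (iv D31031)
def n31032 : Q := act 9 n21298
theorem D31032 : act 9 n21298 = n31032 := rfl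
theorem F131424 : act 2 n31032 = n21299 := d23_1 D31032 (iv D21299) D21298
theorem F131425 : act 4 n31032 = n31032 := d34_1 D31032 (iv D31032) F91708
def n31033 : Q := act 8 n21299
theorem D31033 : act 8 n21299 = n31033 := rfl
theorem F131426 : act 1 n31033 = n21311 := d15_1 D31033 (iv D21311) (iv F91710)
theorem F131427 : act 3 n31033 = n21378 := d28_1 D31033 (iv D21378) F64316 (iv F64143) (iv F91711)
theorem F131428 : act 4 n31033 = n31033 := d33_1 D31033 (iv D31033) F91712
theorem F131429 : act 9 n31033 = n31033 := d44_2 D21299 D31033 (iv D31033) (iv D21299) F64140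
def n31034 : Q := act 8 n21301
theorem D31034 : act 8 n21301 = n31034 := rfl
theorem F131431 : act 4 n31034 = n21460 := d33_1 D31034 (iv D21460) (iv F91720)
theorem F131432 : act 6 n31034 = n21302 := d40_1 D31034 (iv D21302) D21301
def n31035 : Q := act 3 n21302
theorem D31035 : act 3 n21302 = n31035 := rfl
theorem F131435 : act 7 n31035 = n21303 := d27_2 (iv F91725) D31035 (iv D21303)
def n31036 : Q := act 9 n21302
theorem D31036 : act 9 n21302 = n31036 := rfl
theorem F131437 : act 0 n31036 = n31036 := d8_1 D31036 (iv D31036) F91722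
theorem F131438 : act 4 n31036 = n21462 := d34_1 D31036 (iv D21462) (iv F91723)
theorem F131439 : act 5 n31036 = n21306 := d38_1 D31036 (iv D21306) (iv F91724)
theorem F131440 : act 7 n31036 = n21304 := d43_1 D31036 (iv D21304) (iv F91725)
theorem F131441 : act 8 n31036 = n21381 := d44_1 D31036 (iv D21381) (iv D14689) (iv F64157) D21302
def n31037 : Q := act 2 n21303
theorem D31037 : act 2 n21303 = n31037 := rfl
theorem F131443 : act 5 n31037 = n21307 := d19_2 (iv F91727) D31037 (iv D21307)
def n31038 : Q := act 4 n21303
theorem D31038 : act 4 n21303 = n31038 := rfl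
theorem F131445 : act 0 n31038 = n31038 := d3_1 D31038 (iv D31038) F91726
theorem F131446 : act 3 n31038 = n21464 := d24_1 D31038 (iv D21464) (iv D14745) (iv F64159) D21303
theorem F131447 : act 5 n31038 = n31038 := d30_2 (iv F91727) D31038 (iv D31038) F91727 F64165
theorem F131448 : act 8 n31038 = n31038 := d33_2 F91728 D31038 (iv D31038)
def n31039 : Q := act 9 n21303
theorem D31039 : act 9 n21303 = n31039 := rfl
theorem F131449 : act 0 n31039 = n31039 := d8_1 D31039 (iv D31039) F91726
theorem F131450 : act 3 n31039 = n21304 := d29_1 D31039 (iv D21304) D21303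
theorem F131451 : act 5 n31039 = n21308 := d38_1 D31039 (iv D21308) (iv F91727)
def n31040 : Q := act 2 n21305
theorem D31040 : act 2 n21305 = n31040 := rfl
def n31041 : Q := act 9 n21305
theorem D31041 : act 9 n21305 = n31041 := rfl
theorem F131457 : act 3 n31041 = n21306 := d29_1 D31041 (iv D21306) D21305
theorem F131459 : act 7 n31041 = n21308 := d43_1 D31041 (iv D21308) (iv F91735)
def n31042 : Q := act 1 n21307
theorem D31042 : act 1 n21307 = n31042 := rfl
theorem F131461 : act 6 n31042 = n21309 := d13_2 (iv F91743) D31042 (iv D21309)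
def n31043 : Q := act 9 n21307
theorem D31043 : act 9 n21307 = n31043 := rfl
theorem F131464 : act 2 n31043 = n21308 := d23_1 D31043 (iv D21308) D21307
theorem F131466 : act 6 n31043 = n21310 := d41_1 D31043 (iv D21310) (iv F91743)
def n31044 : Q := act 8 n21308
theorem D31044 : act 8 n21308 = n31044 := rfl
theorem F131467 : act 0 n31044 = n31044 := d7_1 D31044 (iv D31044) F91745
theorem F131468 : act 3 n31044 = n21389 := d28_1 D31044 (iv D21389) F64347 (iv F64171) (iv F91746)
theorem F131469 : act 4 n31044 = n31044 := d33_1 D31044 (iv D31044) F91747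
theorem F131470 : act 6 n31044 = n21311 := d40_1 D31044 (iv D21311) (iv F91748)
theorem F131471 : act 9 n31044 = n31044 := d44_2 D21308 D31044 (iv D31044) (iv D21308) F64167
def n31045 : Q := act 0 n21309
theorem D31045 : act 0 n21309 = n31045 := rfl
theorem F131472 : act 1 n31045 = n31045 := d0_2 D21309 D31045 (iv D31045) (iv D21309) F64172
theorem F131473 : act 4 n31045 = n31045 := d3_2 F91749 D31045 (iv D31045)
theorem F131474 : act 8 n31045 = n31045 := d7_2 F91750 D31045 (iv D31045)
def n31046 : Q := act 9 n21309
theorem D31046 : act 9 n21309 = n31046 := rfl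
theorem F131475 : act 1 n31046 = n21310 := d16_1 D31046 (iv D21310) D21309
theorem F131476 : act 4 n31046 = n31046 := d34_1 D31046 (iv D31046) F91749
def n31047 : Q := act 8 n21310
theorem D31047 : act 8 n21310 = n31047 := rfl
theorem F131477 : act 0 n31047 = n31047 := d7_1 D31047 (iv D31047) F91751
theorem F131478 : act 2 n31047 = n21311 := d22_1 D31047 (iv D21311) (iv F91752)
theorem F131479 : act 4 n31047 = n31047 := d33_1 D31047 (iv D31047) F91753
theorem F131480 : act 9 n31047 = n31047 := d44_2 D21310 D31047 (iv D31047) (iv D21310) F64174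
def n31048 : Q := act 2 n21312
theorem D31048 : act 2 n21312 = n31048 := rfl
theorem F131483 : act 4 n31048 = n23498 := d18_2 (iv F91759) D31048 (iv D23498)
def n31049 : Q := act 6 n21312
theorem D31049 : act 6 n21312 = n31049 := rfl
theorem F131484 : act 1 n31049 = n21322 := d13_1 D31049 (iv D21322) (iv F91758)
theorem F131485 : act 3 n31049 = n21313 := d26_1 D31049 (iv D21313) D21312
theorem F131486 : act 4 n31049 = n23499 := d31_1 D31049 (iv D23499) (iv F91759)
def n31050 : Q := act 8 n21312
theorem D31050 : act 8 n21312 = n31050 := rfl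
theorem F131487 : act 1 n31050 = n21323 := d15_1 D31050 (iv D21323) (iv F91758)
theorem F131488 : act 4 n31050 = n23500 := d33_1 D31050 (iv D23500) (iv F91759)
def n31051 : Q := act 5 n21313
theorem D31051 : act 5 n21313 = n31051 := rfl
theorem F131489 : act 1 n31051 = n21324 := d12_1 D31051 (iv D21324) (iv F91760)
theorem F131490 : act 2 n31051 = n31051 := d19_1 D31051 (iv D31051) F91761
theorem F131491 : act 4 n31051 = n21477 := d30_1 D31051 (iv D21477) F64575 (iv F64188) (iv F91762)
def n31052 : Q := act 7 n21313
theorem D31052 : act 7 n21313 = n31052 := rfl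
theorem F131492 : act 1 n31052 = n21325 := d14_1 D31052 (iv D21325) (iv F91760)
theorem F131494 : act 4 n31052 = n21315 := d32_1 D31052 (iv D21315) (iv F91762)
def n31053 : Q := act 8 n21313
theorem D31053 : act 8 n21313 = n31053 := rfl
theorem F131495 : act 1 n31053 = n21326 := d15_1 D31053 (iv D21326) (iv F91760)
def n31054 : Q := act 3 n21314
theorem D31054 : act 3 n21314 = n31054 := rfl
theorem F131499 : act 1 n31054 = n21327 := d10_1 D31054 (iv D21327) (iv F91763)
def n31055 : Q := act 9 n21314
theorem D31055 : act 9 n21314 = n31055 := rfl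
def n31056 : Q := act 8 n21315
theorem D31056 : act 8 n21315 = n31056 := rfl
theorem F131503 : act 1 n31056 = n21329 := d15_1 D31056 (iv D21329) (iv F91766)
def n31058 : Q := act 9 n21316
theorem D31058 : act 9 n21316 = n31058 := rfl
def n31067 : Q := act 5 n21322
theorem D31067 : act 5 n21322 = n31067 := rfl
theorem F131540 : act 0 n31067 = n21345 := d4_1 D31067 (iv D21345) (iv F91790)
theorem F131541 : act 2 n31067 = n31067 := d19_1 D31067 (iv D31067) F91791
theorem F131542 : act 3 n31067 = n21324 := d25_1 D31067 (iv D21324) (iv F91792)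
def n31068 : Q := act 7 n21322
theorem D31068 : act 7 n21322 = n31068 := rfl
theorem F131543 : act 0 n31068 = n21346 := d6_1 D31068 (iv D21346) (iv F91790)
theorem F131545 : act 3 n31068 = n21325 := d27_1 D31068 (iv D21325) (iv F91792)
def n31069 : Q := act 8 n21322
theorem D31069 : act 8 n21322 = n31069 := rfl
theorem F131547 : act 0 n31069 = n21347 := d7_1 D31069 (iv D21347) (iv F91790)
theorem F131548 : act 2 n31069 = n31069 := d22_1 D31069 (iv D31069) F91791
theorem F131549 : act 4 n31069 = n23519 := d33_1 D31069 (iv D23519) (iv F91793)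
theorem F131550 : act 6 n31069 = n21323 := d40_1 D31069 (iv D21323) D21322
def n31070 : Q := act 3 n21323
theorem D31070 : act 3 n21323 = n31070 := rfl
theorem F131551 : act 0 n31070 = n21348 := d2_1 D31070 (iv D21348) (iv F91794)
theorem F131552 : act 8 n31070 = n21327 := d28_2 D21323 D31070 (iv D21327) (iv D14651) D14649
def n31071 : Q := act 9 n21323
theorem D31071 : act 9 n21323 = n31071 := rfl
theorem F131553 : act 0 n31071 = n21349 := d8_1 D31071 (iv D21349) (iv F91794)
theorem F131554 : act 2 n31071 = n31071 := d23_1 D31071 (iv D31071) F91795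
theorem F131555 : act 4 n31071 = n23521 := d34_1 D31071 (iv D23521) (iv F91796)
def n31072 : Q := act 7 n21324
theorem D31072 : act 7 n21324 = n31072 := rfl
theorem F131556 : act 0 n31072 = n21350 := d6_1 D31072 (iv D21350) (iv F91797)
theorem F131557 : act 2 n31072 = n21337 := d21_1 D31072 (iv D21337) (iv F91798)
theorem F131558 : act 4 n31072 = n21498 := d32_1 D31072 (iv D21498) (iv F91799)
theorem F131559 : act 5 n31072 = n21325 := d36_1 D31072 (iv D21325) D21324
def n31073 : Q := act 8 n21324
theorem D31073 : act 8 n21324 = n31073 := rfl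
theorem F131560 : act 0 n31073 = n21351 := d7_1 D31073 (iv D21351) (iv F91797)
theorem F131561 : act 2 n31073 = n21338 := d22_1 D31073 (iv D21338) (iv F91798)
theorem F131562 : act 4 n31073 = n21499 := d33_1 D31073 (iv D21499) (iv F91799)
theorem F131563 : act 5 n31073 = n21326 := d37_1 D31073 (iv D21326) D21324
def n31074 : Q := act 8 n21325
theorem D31074 : act 8 n21325 = n31074 := rfl
theorem F131564 : act 0 n31074 = n21352 := d7_1 D31074 (iv D21352) (iv F91800)
theorem F131565 : act 2 n31074 = n21339 := d22_1 D31074 (iv D21339) (iv F91801)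
theorem F131566 : act 4 n31074 = n21329 := d33_1 D31074 (iv D21329) (iv F91802)
theorem F131567 : act 7 n31074 = n21326 := d42_1 D31074 (iv D21326) D21325
def n31075 : Q := act 3 n21326
theorem D31075 : act 3 n21326 = n31075 := rfl
theorem F131568 : act 0 n31075 = n21353 := d2_1 D31075 (iv D21353) (iv F91803)
theorem F131569 : act 6 n31075 = n21327 := d26_2 (iv F91806) D31075 (iv D21327)
def n31076 : Q := act 9 n21326
theorem D31076 : act 9 n21326 = n31076 := rfl
theorem F131570 : act 0 n31076 = n21354 := d8_1 D31076 (iv D21354) (iv F91803)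
theorem F131571 : act 2 n31076 = n21341 := d23_1 D31076 (iv D21341) (iv F91804)
theorem F131572 : act 4 n31076 = n21331 := d34_1 D31076 (iv D21331) (iv F91805)
theorem F131573 : act 6 n31076 = n21328 := d41_1 D31076 (iv D21328) (iv F91806)
def n31077 : Q := act 2 n21327
theorem D31077 : act 2 n21327 = n31077 := rfl
theorem F131574 : act 0 n31077 = n21355 := d1_1 D31077 (iv D21355) (iv F91807)
theorem F131575 : act 3 n31077 = n21342 := d17_2 D21327 D31077 (iv D21342) (iv D14661) (iv F64205)
def n31078 : Q := act 4 n21327
theorem D31078 : act 4 n21327 = n31078 := rfl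
theorem F131576 : act 0 n31078 = n21356 := d3_1 D31078 (iv D21356) (iv F91807)
theorem F131577 : act 3 n31078 = n21332 := d24_1 D31078 (iv D21332) (iv D14654) (iv F64206) D21327
def n31079 : Q := act 9 n21327
theorem D31079 : act 9 n21327 = n31079 := rfl
theorem F131578 : act 0 n31079 = n21357 := d8_1 D31079 (iv D21357) (iv F91807)
theorem F131579 : act 3 n31079 = n21328 := d29_1 D31079 (iv D21328) D21327
def n31080 : Q := act 3 n21329
theorem D31080 : act 3 n21329 = n31080 := rfl
theorem F131580 : act 0 n31080 = n21358 := d2_1 D31080 (iv D21358) (iv F91811)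
theorem F131582 : act 5 n31080 = n21506 := d25_2 (iv F91813) D31080 (iv D21506)
theorem F131583 : act 7 n31080 = n21330 := d27_2 (iv F91814) D31080 (iv D21330)
def n31081 : Q := act 9 n21329
theorem D31081 : act 9 n21329 = n31081 := rfl
theorem F131585 : act 0 n31081 = n21359 := d8_1 D31081 (iv D21359) (iv F91811)
theorem F131586 : act 2 n31081 = n21344 := d23_1 D31081 (iv D21344) (iv F91812)
theorem F131587 : act 5 n31081 = n21507 := d38_1 D31081 (iv D21507) (iv F91813)
theorem F131588 : act 7 n31081 = n21331 := d43_1 D31081 (iv D21331) (iv F91814)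
def n31082 : Q := act 4 n21330
theorem D31082 : act 4 n21330 = n31082 := rfl
theorem F131589 : act 0 n31082 = n21360 := d3_1 D31082 (iv D21360) (iv F91815)
def n31084 : Q := act 5 n21332
theorem D31084 : act 5 n21332 = n31084 := rfl
theorem F131598 : act 0 n31084 = n21362 := d4_1 D31084 (iv D21362) (iv F91824)
theorem F131601 : act 8 n31084 = n23534 := d37_2 (iv F91826) D31084 (iv D23534)
def n31087 : Q := act 6 n21334
theorem D31087 : act 6 n21334 = n31087 := rfl
theorem F131609 : act 0 n31087 = n21365 := d5_1 D31087 (iv D21365) (iv F91831)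
theorem F131612 : act 8 n31087 = n23537 := d40_2 (iv F91833) D31087 (iv D23537)
def n31088 : Q := act 9 n21334
theorem D31088 : act 9 n21334 = n31088 := rfl
def n31089 : Q := act 8 n21335
theorem D31089 : act 8 n21335 = n31089 := rfl
theorem F131620 : act 9 n31089 = n23539 := d44_2 D21335 D31089 (iv D23539) (iv D16158) (iv F64225)
def n31090 : Q := act 6 n21337
theorem D31090 : act 6 n21337 = n31090 := rfl
theorem F131621 : act 0 n31090 = n21368 := d5_1 D31090 (iv D21368) (iv F91842)
theorem F131622 : act 1 n31090 = n31090 := d13_1 D31090 (iv D31090) F91843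
theorem F131623 : act 3 n31090 = n31090 := d26_1 D31090 (iv D31090) F91844
theorem F131624 : act 4 n31090 = n21516 := d31_1 D31090 (iv D21516) (iv F91845)
def n31091 : Q := act 8 n21337
theorem D31091 : act 8 n21337 = n31091 := rfl
theorem F131625 : act 0 n31091 = n21369 := d7_1 D31091 (iv D21369) (iv F91842)
theorem F131626 : act 1 n31091 = n31091 := d15_1 D31091 (iv D31091) F91843
theorem F131627 : act 4 n31091 = n21517 := d33_1 D31091 (iv D21517) (iv F91845)
theorem F131628 : act 5 n31091 = n21339 := d37_1 D31091 (iv D21339) (iv F91846)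
theorem F131629 : act 7 n31091 = n21338 := d42_1 D31091 (iv D21338) D21337
def n31092 : Q := act 3 n21338
theorem D31092 : act 3 n21338 = n31092 := rfl
theorem F131630 : act 0 n31092 = n21370 := d2_1 D31092 (iv D21370) (iv F91847)
theorem F131631 : act 1 n31092 = n31092 := d10_1 D31092 (iv D31092) F91848
theorem F131632 : act 5 n31092 = n21340 := d25_2 (iv F91850) D31092 (iv D21340)
theorem F131633 : act 8 n31092 = n31092 := d28_2 D21338 D31092 (iv D31092) (iv D21338) F64232
def n31093 : Q := act 9 n21338
theorem D31093 : act 9 n21338 = n31093 := rfl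
theorem F131634 : act 0 n31093 = n21371 := d8_1 D31093 (iv D21371) (iv F91847)
theorem F131635 : act 1 n31093 = n31093 := d16_1 D31093 (iv D31093) F91848
theorem F131636 : act 4 n31093 = n21519 := d34_1 D31093 (iv D21519) (iv F91849)
theorem F131637 : act 5 n31093 = n21341 := d38_1 D31093 (iv D21341) (iv F91850)
def n31094 : Q := act 3 n21339
theorem D31094 : act 3 n21339 = n31094 := rfl
theorem F131638 : act 0 n31094 = n21372 := d2_1 D31094 (iv D21372) (iv F91851)
theorem F131639 : act 1 n31094 = n31094 := d10_1 D31094 (iv D31094) F91852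
theorem F131640 : act 4 n31094 = n21956 := d24_2 (iv F91853) D31094 (iv D21956) F65899 (iv F64251)
theorem F131641 : act 7 n31094 = n21340 := d27_2 (iv F91854) D31094 (iv D21340)
theorem F131642 : act 8 n31094 = n31094 := d28_2 D21339 D31094 (iv D31094) (iv D21339) F64236
def n31095 : Q := act 9 n21339
theorem D31095 : act 9 n21339 = n31095 := rfl
theorem F131643 : act 0 n31095 = n21373 := d8_1 D31095 (iv D21373) (iv F91851)
theorem F131644 : act 1 n31095 = n31095 := d16_1 D31095 (iv D31095) F91852
theorem F131645 : act 4 n31095 = n21344 := d34_1 D31095 (iv D21344) (iv F91853)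
theorem F131646 : act 7 n31095 = n21341 := d43_1 D31095 (iv D21341) (iv F91854)
def n31096 : Q := act 2 n21340
theorem D31096 : act 2 n21340 = n31096 := rfl
theorem F131647 : act 0 n31096 = n21374 := d1_1 D31096 (iv D21374) (iv F91855)
theorem F131648 : act 4 n31096 = n21958 := d18_2 (iv F91857) D31096 (iv D21958)
theorem F131649 : act 6 n31096 = n21342 := d20_2 (iv F91858) D31096 (iv D21342)
theorem F131650 : act 8 n31096 = n31096 := d22_2 F91859 D31096 (iv D31096)
def n31097 : Q := act 9 n21340
theorem D31097 : act 9 n21340 = n31097 := rfl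
theorem F131651 : act 0 n31097 = n21375 := d8_1 D31097 (iv D21375) (iv F91855)
theorem F131652 : act 1 n31097 = n31097 := d16_1 D31097 (iv D31097) F91856
theorem F131653 : act 3 n31097 = n21341 := d29_1 D31097 (iv D21341) D21340
theorem F131654 : act 4 n31097 = n21959 := d34_1 D31097 (iv D21959) (iv F91857)
theorem F131655 : act 6 n31097 = n21343 := d41_1 D31097 (iv D21343) (iv F91858)
def n31098 : Q := act 1 n21342
theorem D31098 : act 1 n21342 = n31098 := rfl
theorem F131656 : act 2 n31098 = n31098 := d9_2 D21342 D31098 (iv D31098) (iv D21342) F64243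
theorem F131657 : act 4 n31098 = n21960 := d11_2 (iv F91865) D31098 (iv D21960)
theorem F131658 : act 8 n31098 = n31098 := d15_2 F91866 D31098 (iv D31098)
def n31099 : Q := act 9 n21342
theorem D31099 : act 9 n21342 = n31099 := rfl
theorem F131659 : act 0 n31099 = n21377 := d8_1 D31099 (iv D21377) (iv F91864)
theorem F131660 : act 2 n31099 = n21343 := d23_1 D31099 (iv D21343) D21342
theorem F131661 : act 4 n31099 = n21961 := d34_1 D31099 (iv D21961) (iv F91865)
def n31100 : Q := act 8 n21343
theorem D31100 : act 8 n21343 = n31100 := rfl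
theorem F131662 : act 0 n31100 = n21378 := d7_1 D31100 (iv D21378) (iv F91867)
theorem F131663 : act 1 n31100 = n31100 := d15_1 D31100 (iv D31100) F91868
theorem F131664 : act 4 n31100 = n21962 := d33_1 D31100 (iv D21962) (iv F91870)
theorem F131665 : act 9 n31100 = n31100 := d44_2 D21343 D31100 (iv D31100) (iv D21343) F64245
def n31101 : Q := act 4 n21345
theorem D31101 : act 4 n21345 = n31101 := rfl
theorem F131666 : act 2 n31101 = n31101 := d18_1 D31101 (iv D31101) F91876
theorem F131667 : act 3 n31101 = n21527 := d24_1 D31101 (iv D21527) F64697 (iv F64265) (iv F91877)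
theorem F131668 : act 5 n31101 = n23551 := d30_2 D21345 D31101 (iv D23551) (iv D16168) (iv F64261)
def n31102 : Q := act 7 n21345
theorem D31102 : act 7 n21345 = n31102 := rfl
theorem F131669 : act 2 n31102 = n31102 := d21_1 D31102 (iv D31102) F91876
theorem F131670 : act 3 n31102 = n21350 := d27_1 D31102 (iv D21350) (iv F91877)
theorem F131671 : act 5 n31102 = n21346 := d36_1 D31102 (iv D21346) D21345
def n31103 : Q := act 8 n21345
theorem D31103 : act 8 n21345 = n31103 := rfl
theorem F131672 : act 2 n31103 = n31103 := d22_1 D31103 (iv D31103) F91876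
theorem F131673 : act 5 n31103 = n21347 := d37_1 D31103 (iv D21347) D21345
def n31104 : Q := act 8 n21346
theorem D31104 : act 8 n21346 = n31104 := rfl
theorem F131675 : act 4 n31104 = n23554 := d33_1 D31104 (iv D23554) (iv F91880)
theorem F131676 : act 7 n31104 = n21347 := d42_1 D31104 (iv D21347) D21346
def n31105 : Q := act 3 n21347
theorem D31105 : act 3 n21347 = n31105 := rfl
theorem F131677 : act 6 n31105 = n21348 := d26_2 (iv F91883) D31105 (iv D21348)
theorem F131678 : act 8 n31105 = n21353 := d28_2 D21347 D31105 (iv D21353) (iv D14669) (iv F64260)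
def n31106 : Q := act 9 n21347
theorem D31106 : act 9 n21347 = n31106 := rfl
theorem F131679 : act 2 n31106 = n31106 := d23_1 D31106 (iv D31106) F91881
theorem F131680 : act 4 n31106 = n23556 := d34_1 D31106 (iv D23556) (iv F91882)
theorem F131681 : act 6 n31106 = n21349 := d41_1 D31106 (iv D21349) (iv F91883)
def n31107 : Q := act 2 n21348
theorem D31107 : act 2 n21348 = n31107 := rfl
theorem F131682 : act 3 n31107 = n31107 := d17_2 D21348 D31107 (iv D31107) (iv D21348) F64262
theorem F131683 : act 8 n31107 = n21355 := d22_2 (iv F91884) D31107 (iv D21355)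
def n31108 : Q := act 4 n21348
theorem D31108 : act 4 n21348 = n31108 := rfl
theorem F131684 : act 3 n31108 = n23558 := d24_1 D31108 (iv D23558) (iv D16171) (iv F64263) D21348
theorem F131685 : act 8 n31108 = n21356 := d33_2 (iv F91884) D31108 (iv D21356)
def n31109 : Q := act 9 n21348
theorem D31109 : act 9 n21348 = n31109 := rfl
theorem F131686 : act 3 n31109 = n21349 := d29_1 D31109 (iv D21349) D21348
def n31110 : Q := act 6 n21350
theorem D31110 : act 6 n21350 = n31110 := rfl
theorem F131687 : act 2 n31110 = n21368 := d20_1 D31110 (iv D21368) (iv F91887)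
theorem F131688 : act 4 n31110 = n21536 := d31_1 D31110 (iv D21536) (iv F91888)
def n31111 : Q := act 8 n21350
theorem D31111 : act 8 n21350 = n31111 := rfl
theorem F131689 : act 2 n31111 = n21369 := d22_1 D31111 (iv D21369) (iv F91887)
theorem F131690 : act 4 n31111 = n21537 := d33_1 D31111 (iv D21537) (iv F91888)
theorem F131691 : act 5 n31111 = n21352 := d37_1 D31111 (iv D21352) (iv F91889)
theorem F131692 : act 7 n31111 = n21351 := d42_1 D31111 (iv D21351) D21350
def n31112 : Q := act 3 n21351
theorem D31112 : act 3 n21351 = n31112 := rfl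
theorem F131693 : act 5 n31112 = n21353 := d25_2 (iv F91892) D31112 (iv D21353)
def n31113 : Q := act 9 n21351
theorem D31113 : act 9 n21351 = n31113 := rfl
theorem F131694 : act 2 n31113 = n21371 := d23_1 D31113 (iv D21371) (iv F91890)
theorem F131695 : act 4 n31113 = n21539 := d34_1 D31113 (iv D21539) (iv F91891)
theorem F131696 : act 5 n31113 = n21354 := d38_1 D31113 (iv D21354) (iv F91892)
def n31114 : Q := act 3 n21352
theorem D31114 : act 3 n21352 = n31114 := rfl
theorem F131697 : act 7 n31114 = n21353 := d27_2 (iv F91895) D31114 (iv D21353)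
def n31115 : Q := act 9 n21352
theorem D31115 : act 9 n21352 = n31115 := rfl
theorem F131698 : act 2 n31115 = n21373 := d23_1 D31115 (iv D21373) (iv F91893)
theorem F131699 : act 4 n31115 = n21359 := d34_1 D31115 (iv D21359) (iv F91894)
theorem F131700 : act 7 n31115 = n21354 := d43_1 D31115 (iv D21354) (iv F91895)
def n31116 : Q := act 2 n21353
theorem D31116 : act 2 n21353 = n31116 := rfl
theorem F131701 : act 3 n31116 = n21374 := d17_2 D21353 D31116 (iv D21374) (iv D14683) (iv F64268)
theorem F131702 : act 6 n31116 = n21355 := d20_2 (iv F91896) D31116 (iv D21355)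
def n31117 : Q := act 4 n21353
theorem D31117 : act 4 n21353 = n31117 := rfl
theorem F131703 : act 3 n31117 = n21360 := d24_1 D31117 (iv D21360) (iv D14673) (iv F64269) D21353
theorem F131704 : act 6 n31117 = n21356 := d31_2 (iv F91896) D31117 (iv D21356)
def n31118 : Q := act 9 n21353
theorem D31118 : act 9 n21353 = n31118 := rfl
theorem F131705 : act 3 n31118 = n21354 := d29_1 D31118 (iv D21354) D21353
theorem F131706 : act 6 n31118 = n21357 := d41_1 D31118 (iv D21357) (iv F91896)
def n31119 : Q := act 1 n21355
theorem D31119 : act 1 n21355 = n31119 := rfl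
theorem F131707 : act 3 n31119 = n21376 := d10_2 (iv F91900) D31119 (iv D21376)
def n31120 : Q := act 4 n21355
theorem D31120 : act 4 n21355 = n31120 := rfl
theorem F131708 : act 2 n31120 = n21356 := d18_1 D31120 (iv D21356) D21355
theorem F131709 : act 3 n31120 = n21981 := d24_1 D31120 (iv D21981) F65966 (iv F64313) (iv F91900)
def n31121 : Q := act 9 n21355
theorem D31121 : act 9 n21355 = n31121 := rfl
theorem F131710 : act 2 n31121 = n21357 := d23_1 D31121 (iv D21357) D21355
theorem F131711 : act 3 n31121 = n21377 := d29_1 D31121 (iv D21377) (iv F91900)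
def n31122 : Q := act 5 n21356
theorem D31122 : act 5 n21356 = n31122 := rfl
theorem F131712 : act 3 n31122 = n21362 := d25_1 D31122 (iv D21362) (iv F91901)
def n31123 : Q := act 9 n21356
theorem D31123 : act 9 n21356 = n31123 := rfl
theorem F131713 : act 3 n31123 = n21363 := d29_1 D31123 (iv D21363) (iv F91901)
theorem F131714 : act 4 n31123 = n21357 := d34_1 D31123 (iv D21357) D21356
def n31124 : Q := act 8 n21357
theorem D31124 : act 8 n21357 = n31124 := rfl
def n31125 : Q := act 4 n21358
theorem D31125 : act 4 n21358 = n31125 := rfl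
theorem F131715 : act 2 n31125 = n21986 := d18_1 D31125 (iv D21986) (iv F91903)
theorem F131716 : act 7 n31125 = n21360 := d32_2 (iv F91905) D31125 (iv D21360)
theorem F131717 : act 8 n31125 = n23575 := d33_2 (iv F91906) D31125 (iv D23575)
def n31126 : Q := act 9 n21358
theorem D31126 : act 9 n21358 = n31126 := rfl
theorem F131718 : act 2 n31126 = n21987 := d23_1 D31126 (iv D21987) (iv F91903)
theorem F131719 : act 3 n31126 = n21359 := d29_1 D31126 (iv D21359) D21358
theorem F131720 : act 5 n31126 = n21552 := d38_1 D31126 (iv D21552) (iv F91904)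
theorem F131721 : act 7 n31126 = n21361 := d43_1 D31126 (iv D21361) (iv F91905)
def n31127 : Q := act 5 n21360
theorem D31127 : act 5 n21360 = n31127 := rfl
theorem F131722 : act 2 n31127 = n21988 := d19_1 D31127 (iv D21988) (iv F91910)
theorem F131723 : act 4 n31127 = n21553 := d30_1 D31127 (iv D21553) (iv D14802) (iv F64277) D21360
theorem F131724 : act 8 n31127 = n23577 := d37_2 (iv F91912) D31127 (iv D23577)
def n31128 : Q := act 9 n21360
theorem D31128 : act 9 n21360 = n31128 := rfl
theorem F131725 : act 2 n31128 = n21989 := d23_1 D31128 (iv D21989) (iv F91910)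
theorem F131726 : act 4 n31128 = n21361 := d34_1 D31128 (iv D21361) D21360
theorem F131727 : act 6 n31128 = n21363 := d41_1 D31128 (iv D21363) (iv F91911)
def n31130 : Q := act 6 n21362
theorem D31130 : act 6 n21362 = n31130 := rfl
theorem F131732 : act 2 n31130 = n21991 := d20_1 D31130 (iv D21991) (iv F91917)
theorem F131733 : act 4 n31130 = n21365 := d31_1 D31130 (iv D21365) (iv F91918)
theorem F131734 : act 8 n31130 = n23580 := d40_2 (iv F91919) D31130 (iv D23580)
def n31131 : Q := act 9 n21362
theorem D31131 : act 9 n21362 = n31131 := rfl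
theorem F131735 : act 2 n31131 = n21992 := d23_1 D31131 (iv D21992) (iv F91917)
theorem F131736 : act 4 n31131 = n21366 := d34_1 D31131 (iv D21366) (iv F91918)
theorem F131737 : act 5 n31131 = n21363 := d38_1 D31131 (iv D21363) D21362
def n31133 : Q := act 7 n21365
theorem D31133 : act 7 n21365 = n31133 := rfl
theorem F131741 : act 2 n31133 = n21994 := d21_1 D31133 (iv D21994) (iv F91925)
theorem F131742 : act 5 n31133 = n21559 := d36_1 D31133 (iv D21559) (iv F91926)
theorem F131743 : act 8 n31133 = n23583 := d42_2 (iv F91927) D31133 (iv D23583)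
def n31134 : Q := act 9 n21365
theorem D31134 : act 9 n21365 = n31134 := rfl
theorem F131744 : act 2 n31134 = n21995 := d23_1 D31134 (iv D21995) (iv F91925)
theorem F131745 : act 5 n31134 = n21560 := d38_1 D31134 (iv D21560) (iv F91926)
theorem F131746 : act 6 n31134 = n21366 := d41_1 D31134 (iv D21366) D21365
def n31136 : Q := act 3 n21367
theorem D31136 : act 3 n21367 = n31136 := rfl
theorem F131751 : act 9 n31136 = n23586 := d29_2 (iv F91933) D31136 (iv D23586)
def n31137 : Q := act 8 n21368
theorem D31137 : act 8 n21368 = n31137 := rfl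
theorem F131752 : act 1 n31137 = n21379 := d15_1 D31137 (iv D21379) (iv F91934)
theorem F131753 : act 4 n31137 = n21563 := d33_1 D31137 (iv D21563) (iv F91936)
theorem F131754 : act 6 n31137 = n21369 := d40_1 D31137 (iv D21369) D21368
def n31138 : Q := act 3 n21369
theorem D31138 : act 3 n21369 = n31138 := rfl
theorem F131755 : act 1 n31138 = n21380 := d10_1 D31138 (iv D21380) (iv F91937)
theorem F131756 : act 5 n31138 = n21372 := d25_2 (iv F91939) D31138 (iv D21372)
theorem F131757 : act 7 n31138 = n21370 := d27_2 (iv F91940) D31138 (iv D21370)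
theorem F131758 : act 8 n31138 = n31138 := d28_2 D21369 D31138 (iv D31138) (iv D21369) F64297
def n31139 : Q := act 9 n21369
theorem D31139 : act 9 n21369 = n31139 := rfl
theorem F131759 : act 1 n31139 = n21381 := d16_1 D31139 (iv D21381) (iv F91937)
theorem F131760 : act 4 n31139 = n21565 := d34_1 D31139 (iv D21565) (iv F91938)
theorem F131761 : act 5 n31139 = n21373 := d38_1 D31139 (iv D21373) (iv F91939)
theorem F131762 : act 7 n31139 = n21371 := d43_1 D31139 (iv D21371) (iv F91940)
def n31140 : Q := act 2 n21370
theorem D31140 : act 2 n21370 = n31140 := rfl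
theorem F131763 : act 5 n31140 = n21374 := d19_2 (iv F91942) D31140 (iv D21374)
theorem F131764 : act 8 n31140 = n31140 := d22_2 F91943 D31140 (iv D31140)
def n31141 : Q := act 4 n21370
theorem D31141 : act 4 n21370 = n31141 := rfl
theorem F131765 : act 1 n31141 = n21383 := d11_1 D31141 (iv D21383) (iv F91941)
theorem F131766 : act 3 n31141 = n21567 := d24_1 D31141 (iv D21567) (iv D14812) (iv F64301) D21370
theorem F131767 : act 5 n31141 = n22002 := d30_2 (iv F91942) D31141 (iv D22002) F66019 (iv F64307)
theorem F131768 : act 8 n31141 = n31141 := d33_2 F91943 D31141 (iv D31141)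
def n31142 : Q := act 9 n21370
theorem D31142 : act 9 n21370 = n31142 := rfl
theorem F131769 : act 1 n31142 = n21384 := d16_1 D31142 (iv D21384) (iv F91941)
theorem F131770 : act 3 n31142 = n21371 := d29_1 D31142 (iv D21371) D21370
theorem F131771 : act 5 n31142 = n21375 := d38_1 D31142 (iv D21375) (iv F91942)
def n31143 : Q := act 2 n21372
theorem D31143 : act 2 n21372 = n31143 := rfl
theorem F131772 : act 4 n31143 = n22004 := d18_2 (iv F91948) D31143 (iv D22004)
theorem F131773 : act 7 n31143 = n21374 := d21_2 (iv F91949) D31143 (iv D21374)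
theorem F131774 : act 8 n31143 = n31143 := d22_2 F91950 D31143 (iv D31143)
def n31144 : Q := act 9 n21372
theorem D31144 : act 9 n21372 = n31144 := rfl
theorem F131775 : act 1 n31144 = n21386 := d16_1 D31144 (iv D21386) (iv F91947)
theorem F131776 : act 3 n31144 = n21373 := d29_1 D31144 (iv D21373) D21372
theorem F131777 : act 4 n31144 = n22005 := d34_1 D31144 (iv D22005) (iv F91948)
theorem F131778 : act 7 n31144 = n21375 := d43_1 D31144 (iv D21375) (iv F91949)
def n31145 : Q := act 1 n21374
theorem D31145 : act 1 n21374 = n31145 := rfl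
theorem F131779 : act 2 n31145 = n21387 := d9_2 D21374 D31145 (iv D21387) (iv D14694) (iv F64306)
theorem F131780 : act 4 n31145 = n22006 := d11_2 (iv F91954) D31145 (iv D22006)
theorem F131781 : act 6 n31145 = n21376 := d13_2 (iv F91955) D31145 (iv D21376)
theorem F131782 : act 8 n31145 = n31145 := d15_2 F91956 D31145 (iv D31145)
def n31146 : Q := act 9 n21374
theorem D31146 : act 9 n21374 = n31146 := rfl
theorem F131783 : act 2 n31146 = n21375 := d23_1 D31146 (iv D21375) D21374
theorem F131784 : act 4 n31146 = n22007 := d34_1 D31146 (iv D22007) (iv F91954)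
theorem F131785 : act 6 n31146 = n21377 := d41_1 D31146 (iv D21377) (iv F91955)
def n31147 : Q := act 8 n21375
theorem D31147 : act 8 n21375 = n31147 := rfl
theorem F131786 : act 1 n31147 = n21389 := d15_1 D31147 (iv D21389) (iv F91957)
theorem F131787 : act 4 n31147 = n22008 := d33_1 D31147 (iv D22008) (iv F91959)
theorem F131788 : act 6 n31147 = n21378 := d40_1 D31147 (iv D21378) (iv F91960)
theorem F131789 : act 9 n31147 = n31147 := d44_2 D21375 D31147 (iv D31147) (iv D21375) F64309
def n31148 : Q := act 0 n21376
theorem D31148 : act 0 n21376 = n31148 := rfl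
theorem F131790 : act 2 n31148 = n21390 := d1_2 (iv F91961) D31148 (iv D21390)
theorem F131791 : act 4 n31148 = n22009 := d3_2 (iv F91962) D31148 (iv D22009)
theorem F131792 : act 8 n31148 = n31148 := d7_2 F91963 D31148 (iv D31148)
def n31149 : Q := act 9 n21376
theorem D31149 : act 9 n21376 = n31149 := rfl
theorem F131793 : act 1 n31149 = n21377 := d16_1 D31149 (iv D21377) D21376
theorem F131794 : act 2 n31149 = n21391 := d23_1 D31149 (iv D21391) (iv F91961)
theorem F131795 : act 4 n31149 = n22010 := d34_1 D31149 (iv D22010) (iv F91962)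
def n31150 : Q := act 8 n21377
theorem D31150 : act 8 n21377 = n31150 := rfl
theorem F131796 : act 2 n31150 = n21378 := d22_1 D31150 (iv D21378) (iv F91964)
theorem F131797 : act 4 n31150 = n22011 := d33_1 D31150 (iv D22011) (iv F91965)
theorem F131798 : act 9 n31150 = n31150 := d44_2 D21377 D31150 (iv D31150) (iv D21377) F64314
def n31151 : Q := act 3 n21379
theorem D31151 : act 3 n21379 = n31151 := rfl
theorem F131799 : act 0 n31151 = n31151 := d2_1 D31151 (iv D31151) F91969
theorem F131800 : act 6 n31151 = n21380 := d26_2 (iv F91971) D31151 (iv D21380)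
theorem F131801 : act 8 n31151 = n31151 := d28_2 D21379 D31151 (iv D31151) (iv D21379) F64323
def n31152 : Q := act 9 n21379
theorem D31152 : act 9 n21379 = n31152 := rfl
theorem F131802 : act 0 n31152 = n31152 := d8_1 D31152 (iv D31152) F91969
theorem F131803 : act 4 n31152 = n21578 := d34_1 D31152 (iv D21578) (iv F91970)
theorem F131804 : act 6 n31152 = n21381 := d41_1 D31152 (iv D21381) (iv F91971)
def n31153 : Q := act 2 n21380
theorem D31153 : act 2 n21380 = n31153 := rfl
theorem F131805 : act 0 n31153 = n31153 := d1_1 D31153 (iv D31153) F91972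
theorem F131806 : act 5 n31153 = n21385 := d19_2 (iv F91973) D31153 (iv D21385)
theorem F131807 : act 7 n31153 = n21382 := d21_2 (iv F91974) D31153 (iv D21382)
theorem F131808 : act 8 n31153 = n31153 := d22_2 F91975 D31153 (iv D31153)
def n31154 : Q := act 4 n21380
theorem D31154 : act 4 n21380 = n31154 := rfl
theorem F131809 : act 0 n31154 = n31154 := d3_1 D31154 (iv D31154) F91972
theorem F131810 : act 3 n31154 = n21580 := d24_1 D31154 (iv D21580) (iv D14822) (iv F64326) D21380
theorem F131811 : act 5 n31154 = n22015 := d30_2 (iv F91973) D31154 (iv D22015) F66054 (iv F64336)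
theorem F131812 : act 7 n31154 = n21383 := d32_2 (iv F91974) D31154 (iv D21383)
theorem F131813 : act 8 n31154 = n31154 := d33_2 F91975 D31154 (iv D31154)
def n31155 : Q := act 9 n21380
theorem D31155 : act 9 n21380 = n31155 := rfl
theorem F131814 : act 0 n31155 = n31155 := d8_1 D31155 (iv D31155) F91972
theorem F131815 : act 3 n31155 = n21381 := d29_1 D31155 (iv D21381) D21380
theorem F131816 : act 5 n31155 = n21386 := d38_1 D31155 (iv D21386) (iv F91973)
theorem F131817 : act 7 n31155 = n21384 := d43_1 D31155 (iv D21384) (iv F91974)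
def n31156 : Q := act 1 n21382
theorem D31156 : act 1 n21382 = n31156 := rfl
theorem F131818 : act 5 n31156 = n21387 := d12_2 (iv F91981) D31156 (iv D21387)
theorem F131819 : act 8 n31156 = n31156 := d15_2 F91982 D31156 (iv D31156)
def n31157 : Q := act 4 n21382
theorem D31157 : act 4 n21382 = n31157 := rfl
theorem F131820 : act 0 n31157 = n31157 := d3_1 D31157 (iv D31157) F91980
theorem F131821 : act 2 n31157 = n21383 := d18_1 D31157 (iv D21383) D21382
theorem F131822 : act 5 n31157 = n22018 := d30_2 (iv F91981) D31157 (iv D22018) F66065 (iv F64343)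
theorem F131823 : act 8 n31157 = n31157 := d33_2 F91982 D31157 (iv D31157)
def n31158 : Q := act 9 n21382
theorem D31158 : act 9 n21382 = n31158 := rfl
theorem F131824 : act 0 n31158 = n31158 := d8_1 D31158 (iv D31158) F91980
theorem F131825 : act 2 n31158 = n21384 := d23_1 D31158 (iv D21384) D21382
theorem F131826 : act 5 n31158 = n21388 := d38_1 D31158 (iv D21388) (iv F91981)
def n31159 : Q := act 9 n21383
theorem D31159 : act 9 n21383 = n31159 := rfl
theorem F131827 : act 0 n31159 = n31159 := d8_1 D31159 (iv D31159) F91983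
theorem F131828 : act 3 n31159 = n21585 := d29_1 D31159 (iv D21585) (iv F91984)
theorem F131829 : act 4 n31159 = n21384 := d34_1 D31159 (iv D21384) D21383
theorem F131830 : act 5 n31159 = n22020 := d38_1 D31159 (iv D22020) (iv F91985)
def n31160 : Q := act 8 n21384
theorem D31160 : act 8 n21384 = n31160 := rfl
theorem F131831 : act 0 n31160 = n31160 := d7_1 D31160 (iv D31160) F91987
theorem F131832 : act 5 n31160 = n21389 := d37_1 D31160 (iv D21389) (iv F91989)
theorem F131833 : act 9 n31160 = n31160 := d44_2 D21384 D31160 (iv D31160) (iv D21384) F64331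
def n31161 : Q := act 1 n21385
theorem D31161 : act 1 n21385 = n31161 := rfl
theorem F131834 : act 4 n31161 = n22022 := d11_2 (iv F91991) D31161 (iv D22022)
theorem F131835 : act 7 n31161 = n21387 := d14_2 (iv F91992) D31161 (iv D21387)
theorem F131836 : act 8 n31161 = n31161 := d15_2 F91993 D31161 (iv D31161)
def n31162 : Q := act 9 n21385
theorem D31162 : act 9 n21385 = n31162 := rfl
theorem F131837 : act 0 n31162 = n31162 := d8_1 D31162 (iv D31162) F91990
theorem F131838 : act 2 n31162 = n21386 := d23_1 D31162 (iv D21386) D21385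
theorem F131839 : act 4 n31162 = n22023 := d34_1 D31162 (iv D22023) (iv F91991)
theorem F131840 : act 7 n31162 = n21388 := d43_1 D31162 (iv D21388) (iv F91992)
def n31163 : Q := act 8 n21386
theorem D31163 : act 8 n21386 = n31163 := rfl
theorem F131841 : act 0 n31163 = n31163 := d7_1 D31163 (iv D31163) F91994
theorem F131842 : act 4 n31163 = n22024 := d33_1 D31163 (iv D22024) (iv F91996)
theorem F131843 : act 7 n31163 = n21389 := d42_1 D31163 (iv D21389) (iv F91997)
theorem F131844 : act 9 n31163 = n31163 := d44_2 D21386 D31163 (iv D31163) (iv D21386) F64338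
def n31164 : Q := act 0 n21387
theorem D31164 : act 0 n21387 = n31164 := rfl
theorem F131845 : act 1 n31164 = n31164 := d0_2 D21387 D31164 (iv D31164) (iv D21387) F64342
theorem F131846 : act 4 n31164 = n22025 := d3_2 (iv F91998) D31164 (iv D22025)
theorem F131847 : act 6 n31164 = n21390 := d5_2 (iv F91999) D31164 (iv D21390)
theorem F131848 : act 8 n31164 = n31164 := d7_2 F92000 D31164 (iv D31164)
def n31165 : Q := act 9 n21387
theorem D31165 : act 9 n21387 = n31165 := rfl
theorem F131849 : act 1 n31165 = n21388 := d16_1 D31165 (iv D21388) D21387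
theorem F131850 : act 4 n31165 = n22026 := d34_1 D31165 (iv D22026) (iv F91998)
theorem F131851 : act 6 n31165 = n21391 := d41_1 D31165 (iv D21391) (iv F91999)
def n31166 : Q := act 8 n21388
theorem D31166 : act 8 n21388 = n31166 := rfl
theorem F131852 : act 0 n31166 = n31166 := d7_1 D31166 (iv D31166) F92001
theorem F131853 : act 2 n31166 = n21389 := d22_1 D31166 (iv D21389) (iv F92002)
theorem F131854 : act 4 n31166 = n22027 := d33_1 D31166 (iv D22027) (iv F92003)
theorem F131855 : act 6 n31166 = n21392 := d40_1 D31166 (iv D21392) (iv F92004)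
theorem F131856 : act 9 n31166 = n31166 := d44_2 D21388 D31166 (iv D31166) (iv D21388) F64345
def n31167 : Q := act 9 n21390
theorem D31167 : act 9 n21390 = n31167 := rfl
theorem F131857 : act 0 n31167 = n21391 := d8_1 D31167 (iv D21391) D21390
theorem F131858 : act 1 n31167 = n31167 := d16_1 D31167 (iv D31167) F92009
theorem F131859 : act 4 n31167 = n22028 := d34_1 D31167 (iv D22028) (iv F92010)
def n31168 : Q := act 8 n21391
theorem D31168 : act 8 n21391 = n31168 := rfl
theorem F131860 : act 1 n31168 = n21392 := d15_1 D31168 (iv D21392) (iv F92012)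
theorem F131861 : act 4 n31168 = n22029 := d33_1 D31168 (iv D22029) (iv F92013)
theorem F131862 : act 9 n31168 = n31168 := d44_2 D21391 D31168 (iv D31168) (iv D21391) F64351
def n31169 : Q := act 3 n21392
theorem D31169 : act 3 n21392 = n31169 := rfl
theorem F131863 : act 0 n31169 = n31169 := d2_1 D31169 (iv D31169) F92014
theorem F131864 : act 9 n31169 = n31169 := d29_2 F92017 D31169 (iv D31169)
def n31170 : Q := act 2 n21393
theorem D31170 : act 2 n21393 = n31170 := rfl
def n31171 : Q := act 6 n21393
theorem D31171 : act 6 n21393 = n31171 := rfl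
theorem F131870 : act 1 n31171 = n21403 := d13_1 D31171 (iv D21403) (iv F92018)
theorem F131871 : act 3 n31171 = n21394 := d26_1 D31171 (iv D21394) D21393
theorem F131872 : act 4 n31171 = n23617 := d31_1 D31171 (iv D23617) (iv F92019)
theorem F131873 : act 9 n31171 = n21475 := d41_2 (iv F92021) D31171 (iv D21475)
def n31172 : Q := act 8 n21393
theorem D31172 : act 8 n21393 = n31172 := rfl
theorem F131875 : act 4 n31172 = n23618 := d33_1 D31172 (iv D23618) (iv F92019)
def n31173 : Q := act 5 n21394
theorem D31173 : act 5 n21394 = n31173 := rfl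
theorem F131877 : act 1 n31173 = n21405 := d12_1 D31173 (iv D21405) (iv F92022)
theorem F131878 : act 2 n31173 = n31173 := d19_1 D31173 (iv D31173) F92023
theorem F131879 : act 9 n31173 = n21477 := d38_2 (iv F92025) D31173 (iv D21477)
def n31174 : Q := act 7 n21394
theorem D31174 : act 7 n21394 = n31174 := rfl
theorem F131880 : act 1 n31174 = n21406 := d14_1 D31174 (iv D21406) (iv F92022)
theorem F131881 : act 2 n31174 = n31174 := d21_1 D31174 (iv D31174) F92023
theorem F131882 : act 4 n31174 = n21396 := d32_1 D31174 (iv D21396) (iv F92024)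
theorem F131883 : act 6 n31174 = n31174 := d39_1 D31174 (iv D31174) (iv D21394) F64360 D21394
theorem F131884 : act 9 n31174 = n21478 := d43_2 (iv F92025) D31174 (iv D21478)
def n31175 : Q := act 8 n21394
theorem D31175 : act 8 n21394 = n31175 := rfl
theorem F131885 : act 1 n31175 = n21407 := d15_1 D31175 (iv D21407) (iv F92022)
theorem F131887 : act 4 n31175 = n21397 := d33_1 D31175 (iv D21397) (iv F92024)
def n31176 : Q := act 3 n21395
theorem D31176 : act 3 n21395 = n31176 := rfl
theorem F131889 : act 1 n31176 = n21408 := d10_1 D31176 (iv D21408) (iv F92026)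
def n31178 : Q := act 8 n21396
theorem D31178 : act 8 n21396 = n31178 := rfl
theorem F131896 : act 1 n31178 = n21410 := d15_1 D31178 (iv D21410) (iv F92030)
def n31179 : Q := act 3 n21397
theorem D31179 : act 3 n21397 = n31179 := rfl
theorem F131902 : act 8 n31179 = n23625 := d28_2 D21397 D31179 (iv D23625) (iv D16219) (iv F64364)
def n31180 : Q := act 9 n21397
theorem D31180 : act 9 n21397 = n31180 := rfl
def n31182 : Q := act 4 n21398
theorem D31182 : act 4 n21398 = n31182 := rfl
theorem F131914 : act 8 n31182 = n23628 := d33_2 (iv F92041) D31182 (iv D23628)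
def n31189 : Q := act 5 n21403
theorem D31189 : act 5 n21403 = n31189 := rfl
theorem F131937 : act 0 n31189 = n21426 := d4_1 D31189 (iv D21426) (iv F92057)
theorem F131939 : act 3 n31189 = n21405 := d25_1 D31189 (iv D21405) (iv F92059)
theorem F131940 : act 9 n31189 = n21493 := d38_2 (iv F92061) D31189 (iv D21493)
def n31190 : Q := act 7 n21403
theorem D31190 : act 7 n21403 = n31190 := rfl
theorem F131941 : act 0 n31190 = n21427 := d6_1 D31190 (iv D21427) (iv F92057)
theorem F131943 : act 3 n31190 = n21406 := d27_1 D31190 (iv D21406) (iv F92059)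
theorem F131944 : act 4 n31190 = n23636 := d32_1 D31190 (iv D23636) (iv F92060)
def n31191 : Q := act 8 n21403
theorem D31191 : act 8 n21403 = n31191 := rfl
theorem F131947 : act 0 n31191 = n21428 := d7_1 D31191 (iv D21428) (iv F92057)
theorem F131949 : act 4 n31191 = n23637 := d33_1 D31191 (iv D23637) (iv F92060)
def n31192 : Q := act 3 n21404
theorem D31192 : act 3 n21404 = n31192 := rfl
theorem F131951 : act 0 n31192 = n21429 := d2_1 D31192 (iv D21429) (iv F92062)
theorem F131953 : act 8 n31192 = n21408 := d28_2 D21404 D31192 (iv D21408) (iv D14706) D14704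
def n31193 : Q := act 9 n21404
theorem D31193 : act 9 n21404 = n31193 := rfl
theorem F131954 : act 0 n31193 = n21430 := d8_1 D31193 (iv D21430) (iv F92062)
theorem F131956 : act 4 n31193 = n23639 := d34_1 D31193 (iv D23639) (iv F92064)
def n31194 : Q := act 7 n21405
theorem D31194 : act 7 n21405 = n31194 := rfl
theorem F131959 : act 0 n31194 = n21431 := d6_1 D31194 (iv D21431) (iv F92066)
theorem F131960 : act 2 n31194 = n21418 := d21_1 D31194 (iv D21418) (iv F92067)
theorem F131961 : act 5 n31194 = n21406 := d36_1 D31194 (iv D21406) D21405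
theorem F131962 : act 9 n31194 = n21498 := d43_2 (iv F92068) D31194 (iv D21498)
def n31195 : Q := act 8 n21405
theorem D31195 : act 8 n21405 = n31195 := rfl
theorem F131963 : act 0 n31195 = n21432 := d7_1 D31195 (iv D21432) (iv F92066)
theorem F131964 : act 2 n31195 = n21419 := d22_1 D31195 (iv D21419) (iv F92067)
theorem F131965 : act 5 n31195 = n21407 := d37_1 D31195 (iv D21407) D21405
def n31196 : Q := act 8 n21406
theorem D31196 : act 8 n21406 = n31196 := rfl
theorem F131966 : act 0 n31196 = n21433 := d7_1 D31196 (iv D21433) (iv F92069)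
theorem F131967 : act 2 n31196 = n21420 := d22_1 D31196 (iv D21420) (iv F92070)
theorem F131968 : act 4 n31196 = n21410 := d33_1 D31196 (iv D21410) (iv F92071)
theorem F131969 : act 6 n31196 = n31196 := d40_1 D31196 (iv D31196) F92072
theorem F131970 : act 7 n31196 = n21407 := d42_1 D31196 (iv D21407) D21406
def n31197 : Q := act 3 n21407
theorem D31197 : act 3 n21407 = n31197 := rfl
theorem F131971 : act 0 n31197 = n21434 := d2_1 D31197 (iv D21434) (iv F92074)
theorem F131972 : act 6 n31197 = n21408 := d26_2 (iv F92077) D31197 (iv D21408)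
def n31198 : Q := act 9 n21407
theorem D31198 : act 9 n21407 = n31198 := rfl
theorem F131973 : act 0 n31198 = n21435 := d8_1 D31198 (iv D21435) (iv F92074)
theorem F131974 : act 2 n31198 = n21422 := d23_1 D31198 (iv D21422) (iv F92075)
theorem F131975 : act 4 n31198 = n21412 := d34_1 D31198 (iv D21412) (iv F92076)
theorem F131976 : act 6 n31198 = n21409 := d41_1 D31198 (iv D21409) (iv F92077)
theorem F131977 : act 8 n31198 = n21502 := d44_1 D31198 (iv D21502) (iv D14768) (iv F64385) D21407
def n31199 : Q := act 2 n21408
theorem D31199 : act 2 n21408 = n31199 := rfl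
theorem F131978 : act 0 n31199 = n21436 := d1_1 D31199 (iv D21436) (iv F92078)
def n31200 : Q := act 4 n21408
theorem D31200 : act 4 n21408 = n31200 := rfl
theorem F131982 : act 3 n31200 = n21413 := d24_1 D31200 (iv D21413) (iv D14709) (iv F64388) D21408
def n31201 : Q := act 9 n21408
theorem D31201 : act 9 n21408 = n31201 := rfl
theorem F131984 : act 0 n31201 = n21438 := d8_1 D31201 (iv D21438) (iv F92078)
theorem F131985 : act 3 n31201 = n21409 := d29_1 D31201 (iv D21409) D21408
theorem F131986 : act 7 n31201 = n31201 := d43_1 D31201 (iv D31201) F92079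
def n31202 : Q := act 3 n21410
theorem D31202 : act 3 n21410 = n31202 := rfl
theorem F131991 : act 8 n31202 = n23648 := d28_2 D21410 D31202 (iv D23648) (iv D16232) (iv F64392)
def n31203 : Q := act 9 n21410
theorem D31203 : act 9 n21410 = n31203 := rfl
theorem F131992 : act 0 n31203 = n21440 := d8_1 D31203 (iv D21440) (iv F92085)
theorem F131993 : act 2 n31203 = n21425 := d23_1 D31203 (iv D21425) (iv F92086)
theorem F131994 : act 6 n31203 = n31203 := d41_1 D31203 (iv D31203) F92087
theorem F131995 : act 7 n31203 = n21412 := d43_1 D31203 (iv D21412) (iv F92088)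
theorem F131996 : act 8 n31203 = n21507 := d44_1 D31203 (iv D21507) (iv D14771) (iv F64394) D21410
def n31204 : Q := act 4 n21411
theorem D31204 : act 4 n21411 = n31204 := rfl
theorem F132000 : act 8 n31204 = n23650 := d33_2 (iv F92092) D31204 (iv D23650)
def n31206 : Q := act 5 n21413
theorem D31206 : act 5 n21413 = n31206 := rfl
theorem F132009 : act 8 n31206 = n23652 := d37_2 (iv F92100) D31206 (iv D23652)
def n31212 : Q := act 6 n21418
theorem D31212 : act 6 n21418 = n31212 := rfl
theorem F132032 : act 0 n31212 = n21449 := d5_1 D31212 (iv D21449) (iv F92119)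
theorem F132033 : act 1 n31212 = n31212 := d13_1 D31212 (iv D31212) F92120
theorem F132034 : act 3 n31212 = n21635 := d26_1 D31212 (iv D21635) (iv F92121)
theorem F132035 : act 5 n31212 = n31212 := d35_1 D31212 (iv D31212) F92122 F64424 (iv F92122)
theorem F132036 : act 9 n31212 = n21516 := d41_2 (iv F92123) D31212 (iv D21516)
def n31213 : Q := act 8 n21418
theorem D31213 : act 8 n21418 = n31213 := rfl
theorem F132037 : act 0 n31213 = n21450 := d7_1 D31213 (iv D21450) (iv F92119)
theorem F132038 : act 1 n31213 = n31213 := d15_1 D31213 (iv D31213) F92120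
theorem F132039 : act 5 n31213 = n21420 := d37_1 D31213 (iv D21420) (iv F92122)
theorem F132040 : act 7 n31213 = n21419 := d42_1 D31213 (iv D21419) D21418
def n31214 : Q := act 3 n21419
theorem D31214 : act 3 n21419 = n31214 := rfl
theorem F132041 : act 0 n31214 = n21451 := d2_1 D31214 (iv D21451) (iv F92124)
theorem F132044 : act 8 n31214 = n21637 := d28_2 D21419 D31214 (iv D21637) (iv D14860) (iv F64418)
def n31215 : Q := act 9 n21419
theorem D31215 : act 9 n21419 = n31215 := rfl
theorem F132045 : act 0 n31215 = n21452 := d8_1 D31215 (iv D21452) (iv F92124)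
theorem F132046 : act 1 n31215 = n31215 := d16_1 D31215 (iv D31215) F92125
theorem F132047 : act 5 n31215 = n21422 := d38_1 D31215 (iv D21422) (iv F92126)
theorem F132048 : act 8 n31215 = n21519 := d44_1 D31215 (iv D21519) (iv D14780) (iv F64419) D21419
def n31216 : Q := act 3 n21420
theorem D31216 : act 3 n21420 = n31216 := rfl
theorem F132049 : act 0 n31216 = n21453 := d2_1 D31216 (iv D21453) (iv F92127)
theorem F132054 : act 8 n31216 = n21639 := d28_2 D21420 D31216 (iv D21639) (iv D14861) (iv F64422)
def n31217 : Q := act 9 n21420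
theorem D31217 : act 9 n21420 = n31217 := rfl
theorem F132055 : act 0 n31217 = n21454 := d8_1 D31217 (iv D21454) (iv F92127)
theorem F132056 : act 1 n31217 = n31217 := d16_1 D31217 (iv D31217) F92128
theorem F132057 : act 4 n31217 = n21425 := d34_1 D31217 (iv D21425) (iv F92129)
theorem F132058 : act 6 n31217 = n31217 := d41_1 D31217 (iv D31217) F92130
theorem F132059 : act 7 n31217 = n21422 := d43_1 D31217 (iv D21422) (iv F92131)
theorem F132060 : act 8 n31217 = n21521 := d44_1 D31217 (iv D21521) (iv D14781) (iv F64425) D21420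
def n31218 : Q := act 2 n21421
theorem D31218 : act 2 n21421 = n31218 := rfl
theorem F132061 : act 0 n31218 = n21455 := d1_1 D31218 (iv D21455) (iv F92132)
theorem F132064 : act 8 n31218 = n21641 := d22_2 (iv F92136) D31218 (iv D21641)
def n31219 : Q := act 9 n21421
theorem D31219 : act 9 n21421 = n31219 := rfl
theorem F132065 : act 0 n31219 = n21456 := d8_1 D31219 (iv D21456) (iv F92132)
theorem F132067 : act 3 n31219 = n21422 := d29_1 D31219 (iv D21422) D21421
def n31220 : Q := act 1 n21423
theorem D31220 : act 1 n21423 = n31220 := rfl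
theorem F132073 : act 8 n31220 = n21643 := d15_2 (iv F92145) D31220 (iv D21643)
def n31223 : Q := act 4 n21426
theorem D31223 : act 4 n21426 = n31223 := rfl
theorem F132084 : act 2 n31223 = n21646 := d18_1 D31223 (iv D21646) (iv F92157)
theorem F132085 : act 5 n31223 = n23668 := d30_2 D21426 D31223 (iv D23668) (iv D16248) (iv F64452)
theorem F132086 : act 9 n31223 = n21527 := d34_2 (iv F92159) D31223 (iv D21527)
def n31224 : Q := act 7 n21426
theorem D31224 : act 7 n21426 = n31224 := rfl
theorem F132087 : act 2 n31224 = n21647 := d21_1 D31224 (iv D21647) (iv F92157)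
theorem F132088 : act 3 n31224 = n21431 := d27_1 D31224 (iv D21431) (iv F92158)
theorem F132089 : act 5 n31224 = n21427 := d36_1 D31224 (iv D21427) D21426
theorem F132090 : act 9 n31224 = n21528 := d43_2 (iv F92159) D31224 (iv D21528)
def n31225 : Q := act 8 n21426
theorem D31225 : act 8 n21426 = n31225 := rfl
theorem F132091 : act 2 n31225 = n21648 := d22_1 D31225 (iv D21648) (iv F92157)
theorem F132092 : act 5 n31225 = n21428 := d37_1 D31225 (iv D21428) D21426
def n31226 : Q := act 8 n21427
theorem D31226 : act 8 n21427 = n31226 := rfl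
theorem F132093 : act 2 n31226 = n21649 := d22_1 D31226 (iv D21649) (iv F92160)
theorem F132094 : act 4 n31226 = n23671 := d33_1 D31226 (iv D23671) (iv F92162)
theorem F132095 : act 6 n31226 = n31226 := d40_1 D31226 (iv D31226) F92163
theorem F132096 : act 7 n31226 = n21428 := d42_1 D31226 (iv D21428) D21427
def n31227 : Q := act 3 n21428
theorem D31227 : act 3 n21428 = n31227 := rfl
theorem F132097 : act 6 n31227 = n21429 := d26_2 (iv F92167) D31227 (iv D21429)
theorem F132098 : act 8 n31227 = n21434 := d28_2 D21428 D31227 (iv D21434) (iv D14724) (iv F64451)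
def n31228 : Q := act 9 n21428
theorem D31228 : act 9 n21428 = n31228 := rfl
theorem F132099 : act 2 n31228 = n21651 := d23_1 D31228 (iv D21651) (iv F92165)
theorem F132100 : act 4 n31228 = n23673 := d34_1 D31228 (iv D23673) (iv F92166)
theorem F132101 : act 6 n31228 = n21430 := d41_1 D31228 (iv D21430) (iv F92167)
theorem F132102 : act 8 n31228 = n21532 := d44_1 D31228 (iv D21532) (iv D14789) (iv F64453) D21428
def n31229 : Q := act 2 n21429
theorem D31229 : act 2 n21429 = n31229 := rfl
theorem F132103 : act 3 n31229 = n21652 := d17_2 D21429 D31229 (iv D21652) (iv D14870) (iv F64454)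
theorem F132105 : act 8 n31229 = n21436 := d22_2 (iv F92169) D31229 (iv D21436)
def n31230 : Q := act 4 n21429
theorem D31230 : act 4 n21429 = n31230 := rfl
theorem F132106 : act 3 n31230 = n23675 := d24_1 D31230 (iv D23675) (iv D16251) (iv F64455) D21429
theorem F132107 : act 7 n31230 = n31230 := d32_2 F92168 D31230 (iv D31230)
theorem F132108 : act 8 n31230 = n21437 := d33_2 (iv F92169) D31230 (iv D21437)
def n31231 : Q := act 9 n21429
theorem D31231 : act 9 n21429 = n31231 := rfl
theorem F132109 : act 3 n31231 = n21430 := d29_1 D31231 (iv D21430) D21429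
theorem F132110 : act 7 n31231 = n31231 := d43_1 D31231 (iv D31231) F92168
def n31232 : Q := act 6 n21431
theorem D31232 : act 6 n21431 = n31232 := rfl
theorem F132111 : act 2 n31232 = n21449 := d20_1 D31232 (iv D21449) (iv F92174)
theorem F132112 : act 5 n31232 = n31232 := d35_1 D31232 (iv D31232) F92175 F64461 (iv F92175)
theorem F132113 : act 9 n31232 = n21536 := d41_2 (iv F92176) D31232 (iv D21536)
def n31233 : Q := act 8 n21431
theorem D31233 : act 8 n21431 = n31233 := rfl
theorem F132114 : act 2 n31233 = n21450 := d22_1 D31233 (iv D21450) (iv F92174)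
theorem F132115 : act 5 n31233 = n21433 := d37_1 D31233 (iv D21433) (iv F92175)
theorem F132116 : act 7 n31233 = n21432 := d42_1 D31233 (iv D21432) D21431
def n31234 : Q := act 3 n21432
theorem D31234 : act 3 n21432 = n31234 := rfl
theorem F132117 : act 5 n31234 = n21434 := d25_2 (iv F92178) D31234 (iv D21434)
def n31235 : Q := act 9 n21432
theorem D31235 : act 9 n21432 = n31235 := rfl
theorem F132118 : act 2 n31235 = n21452 := d23_1 D31235 (iv D21452) (iv F92177)
theorem F132119 : act 5 n31235 = n21435 := d38_1 D31235 (iv D21435) (iv F92178)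
theorem F132120 : act 8 n31235 = n21539 := d44_1 D31235 (iv D21539) (iv D14793) (iv F64458) D21432
def n31236 : Q := act 3 n21433
theorem D31236 : act 3 n21433 = n31236 := rfl
theorem F132121 : act 6 n31236 = n31236 := d26_2 F92181 D31236 (iv D31236)
theorem F132122 : act 7 n31236 = n21434 := d27_2 (iv F92182) D31236 (iv D21434)
def n31237 : Q := act 9 n21433
theorem D31237 : act 9 n21433 = n31237 := rfl
theorem F132123 : act 2 n31237 = n21454 := d23_1 D31237 (iv D21454) (iv F92179)
theorem F132124 : act 4 n31237 = n21440 := d34_1 D31237 (iv D21440) (iv F92180)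
theorem F132125 : act 6 n31237 = n31237 := d41_1 D31237 (iv D31237) F92181
theorem F132126 : act 7 n31237 = n21435 := d43_1 D31237 (iv D21435) (iv F92182)
theorem F132127 : act 8 n31237 = n21541 := d44_1 D31237 (iv D21541) (iv D14794) (iv F64462) D21433
def n31238 : Q := act 2 n21434
theorem D31238 : act 2 n21434 = n31238 := rfl
theorem F132128 : act 3 n31238 = n21455 := d17_2 D21434 D31238 (iv D21455) (iv D14738) (iv F64463)
theorem F132129 : act 6 n31238 = n21436 := d20_2 (iv F92183) D31238 (iv D21436)
def n31239 : Q := act 4 n21434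
theorem D31239 : act 4 n21434 = n31239 := rfl
theorem F132130 : act 3 n31239 = n21441 := d24_1 D31239 (iv D21441) (iv D14728) (iv F64464) D21434
theorem F132131 : act 6 n31239 = n21437 := d31_2 (iv F92183) D31239 (iv D21437)
def n31240 : Q := act 9 n21434
theorem D31240 : act 9 n21434 = n31240 := rfl
theorem F132132 : act 3 n31240 = n21435 := d29_1 D31240 (iv D21435) D21434
theorem F132133 : act 6 n31240 = n21438 := d41_1 D31240 (iv D21438) (iv F92183)
def n31241 : Q := act 1 n21436
theorem D31241 : act 1 n21436 = n31241 := rfl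
theorem F132134 : act 3 n31241 = n21457 := d10_2 (iv F92188) D31241 (iv D21457)
theorem F132135 : act 7 n31241 = n31241 := d14_2 F92189 D31241 (iv D31241)
def n31242 : Q := act 4 n21436
theorem D31242 : act 4 n21436 = n31242 := rfl
theorem F132136 : act 2 n31242 = n21437 := d18_1 D31242 (iv D21437) D21436
theorem F132137 : act 3 n31242 = n31242 := d24_1 D31242 (iv D31242) F92188 F64515 (iv F92188)
theorem F132138 : act 7 n31242 = n31242 := d32_2 F92189 D31242 (iv D31242)
def n31243 : Q := act 9 n21436
theorem D31243 : act 9 n21436 = n31243 := rfl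
theorem F132139 : act 2 n31243 = n21438 := d23_1 D31243 (iv D21438) D21436
theorem F132140 : act 3 n31243 = n21458 := d29_1 D31243 (iv D21458) (iv F92188)
theorem F132141 : act 7 n31243 = n31243 := d43_1 D31243 (iv D31243) F92189
def n31244 : Q := act 5 n21437
theorem D31244 : act 5 n21437 = n31244 := rfl
theorem F132142 : act 3 n31244 = n21443 := d25_1 D31244 (iv D21443) (iv F92190)
def n31245 : Q := act 9 n21437
theorem D31245 : act 9 n21437 = n31245 := rfl
theorem F132144 : act 3 n31245 = n21444 := d29_1 D31245 (iv D21444) (iv F92190)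
theorem F132145 : act 4 n31245 = n21438 := d34_1 D31245 (iv D21438) D21437
theorem F132146 : act 7 n31245 = n31245 := d43_1 D31245 (iv D31245) F92191
def n31246 : Q := act 8 n21438
theorem D31246 : act 8 n21438 = n31246 := rfl
theorem F132147 : act 3 n31246 = n21550 := d28_1 D31246 (iv D21550) F64726 (iv F64470) (iv F92192)
theorem F132148 : act 7 n31246 = n31246 := d42_1 D31246 (iv D31246) F92193
def n31247 : Q := act 4 n21439
theorem D31247 : act 4 n21439 = n31247 := rfl
theorem F132149 : act 2 n31247 = n31247 := d18_1 D31247 (iv D31247) F92194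
theorem F132150 : act 6 n31247 = n31247 := d31_2 F92195 D31247 (iv D31247)
theorem F132151 : act 7 n31247 = n21441 := d32_2 (iv F92196) D31247 (iv D21441)
def n31248 : Q := act 9 n21439
theorem D31248 : act 9 n21439 = n31248 := rfl
theorem F132153 : act 2 n31248 = n31248 := d23_1 D31248 (iv D31248) F92194
theorem F132154 : act 3 n31248 = n21440 := d29_1 D31248 (iv D21440) D21439
theorem F132155 : act 6 n31248 = n31248 := d41_1 D31248 (iv D31248) F92195
theorem F132156 : act 7 n31248 = n21442 := d43_1 D31248 (iv D21442) (iv F92196)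
def n31249 : Q := act 5 n21441
theorem D31249 : act 5 n21441 = n31249 := rfl
theorem F132157 : act 2 n31249 = n31249 := d19_1 D31249 (iv D31249) F92202
theorem F132158 : act 8 n31249 = n23694 := d37_2 (iv F92204) D31249 (iv D23694)
def n31250 : Q := act 9 n21441
theorem D31250 : act 9 n21441 = n31250 := rfl
theorem F132159 : act 2 n31250 = n31250 := d23_1 D31250 (iv D31250) F92202
theorem F132160 : act 4 n31250 = n21442 := d34_1 D31250 (iv D21442) D21441
theorem F132161 : act 6 n31250 = n21444 := d41_1 D31250 (iv D21444) (iv F92203)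
def n31251 : Q := act 8 n21442
theorem D31251 : act 8 n21442 = n31251 := rfl
theorem F132163 : act 3 n31251 = n21555 := d28_1 D31251 (iv D21555) F64739 (iv F64479) (iv F92206)
theorem F132165 : act 9 n31251 = n23696 := d44_2 D21442 D31251 (iv D23696) (iv D16264) (iv F64476)
def n31253 : Q := act 9 n21443
theorem D31253 : act 9 n21443 = n31253 := rfl
theorem F132170 : act 4 n31253 = n21447 := d34_1 D31253 (iv D21447) (iv F92209)
theorem F132171 : act 5 n31253 = n21444 := d38_1 D31253 (iv D21444) D21443
def n31254 : Q := act 8 n21444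
theorem D31254 : act 8 n21444 = n31254 := rfl
theorem F132176 : act 9 n31254 = n23699 := d44_2 D21444 D31254 (iv D23699) (iv D16266) (iv F64482)
def n31257 : Q := act 8 n21447
theorem D31257 : act 8 n21447 = n31257 := rfl
theorem F132185 : act 9 n31257 = n23702 := d44_2 D21447 D31257 (iv D23702) (iv D16269) (iv F64489)
def n31258 : Q := act 3 n21448
theorem D31258 : act 3 n21448 = n31258 := rfl
theorem F132186 : act 4 n31258 = n21562 := d24_2 (iv F92226) D31258 (iv D21562) F64758 (iv F64494)
theorem F132188 : act 9 n31258 = n23703 := d29_2 (iv F92228) D31258 (iv D23703)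
def n31259 : Q := act 8 n21449
theorem D31259 : act 8 n21449 = n31259 := rfl
theorem F132189 : act 1 n31259 = n21460 := d15_1 D31259 (iv D21460) (iv F92229)
theorem F132190 : act 5 n31259 = n31259 := d37_1 D31259 (iv D31259) F92231
theorem F132191 : act 6 n31259 = n21450 := d40_1 D31259 (iv D21450) D21449
def n31260 : Q := act 3 n21450
theorem D31260 : act 3 n21450 = n31260 := rfl
theorem F132192 : act 1 n31260 = n21461 := d10_1 D31260 (iv D21461) (iv F92233)
theorem F132193 : act 5 n31260 = n21453 := d25_2 (iv F92234) D31260 (iv D21453)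
theorem F132194 : act 7 n31260 = n21451 := d27_2 (iv F92235) D31260 (iv D21451)
theorem F132195 : act 8 n31260 = n21679 := d28_2 D21450 D31260 (iv D21679) (iv D14889) (iv F64498)
def n31261 : Q := act 9 n21450
theorem D31261 : act 9 n21450 = n31261 := rfl
theorem F132196 : act 1 n31261 = n21462 := d16_1 D31261 (iv D21462) (iv F92233)
theorem F132197 : act 5 n31261 = n21454 := d38_1 D31261 (iv D21454) (iv F92234)
theorem F132198 : act 7 n31261 = n21452 := d43_1 D31261 (iv D21452) (iv F92235)
theorem F132199 : act 8 n31261 = n21565 := d44_1 D31261 (iv D21565) (iv D14811) (iv F64500) D21450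
def n31262 : Q := act 2 n21451
theorem D31262 : act 2 n21451 = n31262 := rfl
theorem F132200 : act 5 n31262 = n21455 := d19_2 (iv F92237) D31262 (iv D21455)
theorem F132201 : act 8 n31262 = n21681 := d22_2 (iv F92238) D31262 (iv D21681)
def n31263 : Q := act 4 n21451
theorem D31263 : act 4 n21451 = n31263 := rfl
theorem F132202 : act 1 n31263 = n21464 := d11_1 D31263 (iv D21464) (iv F92236)
theorem F132203 : act 5 n31263 = n31263 := d30_2 (iv F92237) D31263 (iv D31263) F92237 F64508
theorem F132204 : act 8 n31263 = n21682 := d33_2 (iv F92238) D31263 (iv D21682)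
def n31264 : Q := act 9 n21451
theorem D31264 : act 9 n21451 = n31264 := rfl
theorem F132205 : act 1 n31264 = n21465 := d16_1 D31264 (iv D21465) (iv F92236)
theorem F132206 : act 3 n31264 = n21452 := d29_1 D31264 (iv D21452) D21451
theorem F132207 : act 5 n31264 = n21456 := d38_1 D31264 (iv D21456) (iv F92237)
def n31265 : Q := act 2 n21453
theorem D31265 : act 2 n21453 = n31265 := rfl
theorem F132208 : act 4 n31265 = n31265 := d18_2 F92243 D31265 (iv D31265)
theorem F132209 : act 6 n31265 = n31265 := d20_2 F92244 D31265 (iv D31265)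
theorem F132210 : act 7 n31265 = n21455 := d21_2 (iv F92245) D31265 (iv D21455)
theorem F132211 : act 8 n31265 = n21684 := d22_2 (iv F92246) D31265 (iv D21684)
def n31266 : Q := act 9 n21453
theorem D31266 : act 9 n21453 = n31266 := rfl
theorem F132212 : act 1 n31266 = n21467 := d16_1 D31266 (iv D21467) (iv F92242)
theorem F132213 : act 3 n31266 = n21454 := d29_1 D31266 (iv D21454) D21453
theorem F132214 : act 4 n31266 = n31266 := d34_1 D31266 (iv D31266) F92243
theorem F132215 : act 6 n31266 = n31266 := d41_1 D31266 (iv D31266) F92244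
theorem F132216 : act 7 n31266 = n21456 := d43_1 D31266 (iv D21456) (iv F92245)
def n31267 : Q := act 1 n21455
theorem D31267 : act 1 n21455 = n31267 := rfl
theorem F132217 : act 2 n31267 = n21468 := d9_2 D21455 D31267 (iv D21468) (iv D14749) (iv F64507)
theorem F132218 : act 4 n31267 = n31267 := d11_2 F92252 D31267 (iv D31267)
theorem F132219 : act 6 n31267 = n21457 := d13_2 (iv F92253) D31267 (iv D21457)
theorem F132220 : act 8 n31267 = n21686 := d15_2 (iv F92254) D31267 (iv D21686)
def n31268 : Q := act 9 n21455
theorem D31268 : act 9 n21455 = n31268 := rfl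
theorem F132221 : act 2 n31268 = n21456 := d23_1 D31268 (iv D21456) D21455
theorem F132222 : act 4 n31268 = n31268 := d34_1 D31268 (iv D31268) F92252
theorem F132223 : act 6 n31268 = n21458 := d41_1 D31268 (iv D21458) (iv F92253)
def n31269 : Q := act 8 n21456
theorem D31269 : act 8 n21456 = n31269 := rfl
theorem F132224 : act 1 n31269 = n21470 := d15_1 D31269 (iv D21470) (iv F92255)
def n31270 : Q := act 0 n21457
theorem D31270 : act 0 n21457 = n31270 := rfl
theorem F132229 : act 2 n31270 = n21471 := d1_2 (iv F92259) D31270 (iv D21471)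
theorem F132230 : act 4 n31270 = n31270 := d3_2 F92260 D31270 (iv D31270)
theorem F132231 : act 7 n31270 = n31270 := d6_2 F92261 D31270 (iv D31270)
theorem F132232 : act 8 n31270 = n21689 := d7_2 (iv F92262) D31270 (iv D21689)
def n31271 : Q := act 9 n21457
theorem D31271 : act 9 n21457 = n31271 := rfl
theorem F132233 : act 1 n31271 = n21458 := d16_1 D31271 (iv D21458) D21457
theorem F132234 : act 2 n31271 = n21472 := d23_1 D31271 (iv D21472) (iv F92259)
theorem F132235 : act 4 n31271 = n31271 := d34_1 D31271 (iv D31271) F92260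
theorem F132236 : act 7 n31271 = n31271 := d43_1 D31271 (iv D31271) F92261
def n31272 : Q := act 8 n21458
theorem D31272 : act 8 n21458 = n31272 := rfl
theorem F132237 : act 2 n31272 = n21459 := d22_1 D31272 (iv D21459) (iv F92263)
theorem F132240 : act 9 n31272 = n21691 := d44_2 D21458 D31272 (iv D21691) (iv D14897) (iv F64517)
def n31273 : Q := act 3 n21460
theorem D31273 : act 3 n21460 = n31273 := rfl
theorem F132241 : act 0 n31273 = n31273 := d2_1 D31273 (iv D31273) F92271
theorem F132242 : act 5 n31273 = n31273 := d25_2 F92272 D31273 (iv D31273)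
theorem F132243 : act 6 n31273 = n21461 := d26_2 (iv F92273) D31273 (iv D21461)
theorem F132244 : act 8 n31273 = n21692 := d28_2 D21460 D31273 (iv D21692) (iv D14899) (iv F64528)
def n31274 : Q := act 9 n21460
theorem D31274 : act 9 n21460 = n31274 := rfl
theorem F132245 : act 0 n31274 = n31274 := d8_1 D31274 (iv D31274) F92271
theorem F132246 : act 5 n31274 = n31274 := d38_1 D31274 (iv D31274) F92272
theorem F132247 : act 6 n31274 = n21462 := d41_1 D31274 (iv D21462) (iv F92273)
theorem F132248 : act 8 n31274 = n21578 := d44_1 D31274 (iv D21578) (iv D14821) (iv F64530) D21460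
def n31275 : Q := act 2 n21461
theorem D31275 : act 2 n21461 = n31275 := rfl
theorem F132249 : act 0 n31275 = n31275 := d1_1 D31275 (iv D31275) F92274
theorem F132250 : act 5 n31275 = n21466 := d19_2 (iv F92275) D31275 (iv D21466)
theorem F132251 : act 7 n31275 = n21463 := d21_2 (iv F92276) D31275 (iv D21463)
theorem F132252 : act 8 n31275 = n21694 := d22_2 (iv F92277) D31275 (iv D21694)
def n31276 : Q := act 4 n21461
theorem D31276 : act 4 n21461 = n31276 := rfl
theorem F132253 : act 0 n31276 = n31276 := d3_1 D31276 (iv D31276) F92274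
theorem F132254 : act 5 n31276 = n31276 := d30_2 (iv F92275) D31276 (iv D31276) F92275 F64541
theorem F132255 : act 7 n31276 = n21464 := d32_2 (iv F92276) D31276 (iv D21464)
theorem F132256 : act 8 n31276 = n21695 := d33_2 (iv F92277) D31276 (iv D21695)
def n31277 : Q := act 9 n21461
theorem D31277 : act 9 n21461 = n31277 := rfl
theorem F132257 : act 0 n31277 = n31277 := d8_1 D31277 (iv D31277) F92274
theorem F132258 : act 3 n31277 = n21462 := d29_1 D31277 (iv D21462) D21461
theorem F132259 : act 5 n31277 = n21467 := d38_1 D31277 (iv D21467) (iv F92275)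
theorem F132260 : act 7 n31277 = n21465 := d43_1 D31277 (iv D21465) (iv F92276)
def n31278 : Q := act 1 n21463
theorem D31278 : act 1 n21463 = n31278 := rfl
theorem F132261 : act 5 n31278 = n21468 := d12_2 (iv F92283) D31278 (iv D21468)
theorem F132262 : act 8 n31278 = n21697 := d15_2 (iv F92284) D31278 (iv D21697)
def n31279 : Q := act 4 n21463
theorem D31279 : act 4 n21463 = n31279 := rfl
theorem F132263 : act 0 n31279 = n31279 := d3_1 D31279 (iv D31279) F92282
theorem F132264 : act 2 n31279 = n21464 := d18_1 D31279 (iv D21464) D21463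
theorem F132265 : act 5 n31279 = n31279 := d30_2 (iv F92283) D31279 (iv D31279) F92283 F64551
theorem F132266 : act 8 n31279 = n21698 := d33_2 (iv F92284) D31279 (iv D21698)
def n31280 : Q := act 9 n21463
theorem D31280 : act 9 n21463 = n31280 := rfl
theorem F132267 : act 0 n31280 = n31280 := d8_1 D31280 (iv D31280) F92282
theorem F132268 : act 2 n31280 = n21465 := d23_1 D31280 (iv D21465) D21463
theorem F132269 : act 5 n31280 = n21469 := d38_1 D31280 (iv D21469) (iv F92283)
def n31281 : Q := act 9 n21464
theorem D31281 : act 9 n21464 = n31281 := rfl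
theorem F132270 : act 0 n31281 = n31281 := d8_1 D31281 (iv D31281) F92285
theorem F132271 : act 4 n31281 = n21465 := d34_1 D31281 (iv D21465) D21464
theorem F132272 : act 5 n31281 = n31281 := d38_1 D31281 (iv D31281) F92286
def n31282 : Q := act 8 n21465
theorem D31282 : act 8 n21465 = n31282 := rfl
theorem F132273 : act 0 n31282 = n31282 := d7_1 D31282 (iv D31282) F92288
theorem F132274 : act 3 n31282 = n21586 := d28_1 D31282 (iv D21586) F64816 (iv F64539) (iv F92289)
theorem F132275 : act 5 n31282 = n21470 := d37_1 D31282 (iv D21470) (iv F92290)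
theorem F132276 : act 9 n31282 = n21701 := d44_2 D21465 D31282 (iv D21701) (iv D14904) (iv F64536)
def n31283 : Q := act 1 n21466
theorem D31283 : act 1 n21466 = n31283 := rfl
theorem F132277 : act 4 n31283 = n31283 := d11_2 F92292 D31283 (iv D31283)
theorem F132278 : act 6 n31283 = n31283 := d13_2 F92293 D31283 (iv D31283)
theorem F132279 : act 7 n31283 = n21468 := d14_2 (iv F92294) D31283 (iv D21468)
theorem F132280 : act 8 n31283 = n21702 := d15_2 (iv F92295) D31283 (iv D21702)
def n31284 : Q := act 9 n21466
theorem D31284 : act 9 n21466 = n31284 := rfl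
theorem F132281 : act 0 n31284 = n31284 := d8_1 D31284 (iv D31284) F92291
theorem F132282 : act 2 n31284 = n21467 := d23_1 D31284 (iv D21467) D21466
theorem F132283 : act 4 n31284 = n31284 := d34_1 D31284 (iv D31284) F92292
theorem F132284 : act 6 n31284 = n31284 := d41_1 D31284 (iv D31284) F92293
theorem F132285 : act 7 n31284 = n21469 := d43_1 D31284 (iv D21469) (iv F92294)
def n31285 : Q := act 8 n21467
theorem D31285 : act 8 n21467 = n31285 := rfl
theorem F132286 : act 0 n31285 = n31285 := d7_1 D31285 (iv D31285) F92296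
theorem F132287 : act 3 n31285 = n21589 := d28_1 D31285 (iv D21589) F64824 (iv F64549) (iv F92297)
theorem F132288 : act 4 n31285 = n31285 := d33_1 D31285 (iv D31285) F92298
theorem F132289 : act 6 n31285 = n31285 := d40_1 D31285 (iv D31285) F92299
theorem F132290 : act 7 n31285 = n21470 := d42_1 D31285 (iv D21470) (iv F92300)
theorem F132291 : act 9 n31285 = n21704 := d44_2 D21467 D31285 (iv D21704) (iv D14906) (iv F64544)
def n31286 : Q := act 0 n21468
theorem D31286 : act 0 n21468 = n31286 := rfl
theorem F132292 : act 1 n31286 = n31286 := d0_2 D21468 D31286 (iv D31286) (iv D21468) F64550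
theorem F132293 : act 4 n31286 = n31286 := d3_2 F92301 D31286 (iv D31286)
theorem F132294 : act 6 n31286 = n21471 := d5_2 (iv F92302) D31286 (iv D21471)
theorem F132295 : act 8 n31286 = n21705 := d7_2 (iv F92303) D31286 (iv D21705)
def n31287 : Q := act 9 n21468
theorem D31287 : act 9 n21468 = n31287 := rfl
theorem F132296 : act 1 n31287 = n21469 := d16_1 D31287 (iv D21469) D21468
theorem F132297 : act 4 n31287 = n31287 := d34_1 D31287 (iv D31287) F92301
theorem F132298 : act 6 n31287 = n21472 := d41_1 D31287 (iv D21472) (iv F92302)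
def n31288 : Q := act 8 n21469
theorem D31288 : act 8 n21469 = n31288 := rfl
theorem F132299 : act 0 n31288 = n31288 := d7_1 D31288 (iv D31288) F92304
theorem F132300 : act 2 n31288 = n21470 := d22_1 D31288 (iv D21470) (iv F92305)
theorem F132301 : act 4 n31288 = n31288 := d33_1 D31288 (iv D31288) F92306
theorem F132302 : act 6 n31288 = n21473 := d40_1 D31288 (iv D21473) (iv F92307)
theorem F132303 : act 9 n31288 = n21707 := d44_2 D21469 D31288 (iv D21707) (iv D14908) (iv F64553)
def n31289 : Q := act 9 n21471
theorem D31289 : act 9 n21471 = n31289 := rfl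
theorem F132304 : act 0 n31289 = n21472 := d8_1 D31289 (iv D21472) D21471
theorem F132305 : act 1 n31289 = n31289 := d16_1 D31289 (iv D31289) F92313
theorem F132306 : act 4 n31289 = n31289 := d34_1 D31289 (iv D31289) F92314
theorem F132307 : act 7 n31289 = n31289 := d43_1 D31289 (iv D31289) F92315
def n31290 : Q := act 8 n21472
theorem D31290 : act 8 n21472 = n31290 := rfl
theorem F132308 : act 1 n31290 = n21473 := d15_1 D31290 (iv D21473) (iv F92317)
theorem F132309 : act 4 n31290 = n31290 := d33_1 D31290 (iv D31290) F92318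
theorem F132310 : act 7 n31290 = n31290 := d42_1 D31290 (iv D31290) F92319
theorem F132311 : act 9 n31290 = n21709 := d44_2 D21472 D31290 (iv D21709) (iv D14911) (iv F64560)
def n31291 : Q := act 3 n21473
theorem D31291 : act 3 n21473 = n31291 := rfl
theorem F132312 : act 0 n31291 = n31291 := d2_1 D31291 (iv D31291) F92320
theorem F132313 : act 2 n31291 = n21595 := d17_1 D31291 (iv D21595) F64847 (iv F64566) (iv F92321)
theorem F132314 : act 7 n31291 = n31291 := d27_2 F92323 D31291 (iv D31291)
theorem F132315 : act 9 n31291 = n21710 := d29_2 (iv F92324) D31291 (iv D21710)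
def n31292 : Q := act 6 n21474
theorem D31292 : act 6 n21474 = n31292 := rfl
theorem F132316 : act 1 n31292 = n21711 := d13_1 D31292 (iv D21711) (iv F92325)
theorem F132317 : act 2 n31292 = n21475 := d20_1 D31292 (iv D21475) D21474
theorem F132319 : act 4 n31292 = n23730 := d31_1 D31292 (iv D23730) (iv F92327)
def n31293 : Q := act 8 n21474
theorem D31293 : act 8 n21474 = n31293 := rfl
theorem F132321 : act 2 n31293 = n21476 := d22_1 D31293 (iv D21476) D21474
theorem F132322 : act 4 n31293 = n23731 := d33_1 D31293 (iv D23731) (iv F92327)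
def n31294 : Q := act 5 n21475
theorem D31294 : act 5 n21475 = n31294 := rfl
theorem F132324 : act 1 n31294 = n21493 := d12_1 D31294 (iv D21493) (iv F92329)
theorem F132325 : act 3 n31294 = n21477 := d25_1 D31294 (iv D21477) (iv F92330)
def n31295 : Q := act 7 n21475
theorem D31295 : act 7 n21475 = n31295 := rfl
theorem F132326 : act 1 n31295 = n21494 := d14_1 D31295 (iv D21494) (iv F92329)
theorem F132327 : act 3 n31295 = n21478 := d27_1 D31295 (iv D21478) (iv F92330)
theorem F132328 : act 4 n31295 = n23733 := d32_1 D31295 (iv D23733) (iv F92331)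
theorem F132329 : act 6 n31295 = n31295 := d39_1 D31295 (iv D31295) (iv D21475) F64572 D21475
def n31296 : Q := act 8 n21475
theorem D31296 : act 8 n21475 = n31296 := rfl
theorem F132330 : act 1 n31296 = n21495 := d15_1 D31296 (iv D21495) (iv F92329)
theorem F132331 : act 4 n31296 = n23734 := d33_1 D31296 (iv D23734) (iv F92331)
theorem F132332 : act 6 n31296 = n21476 := d40_1 D31296 (iv D21476) D21475
def n31297 : Q := act 3 n21476
theorem D31297 : act 3 n21476 = n31297 := rfl
theorem F132333 : act 1 n31297 = n21496 := d10_1 D31297 (iv D21496) (iv F92332)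
def n31298 : Q := act 9 n21476
theorem D31298 : act 9 n21476 = n31298 := rfl
theorem F132336 : act 1 n31298 = n21497 := d16_1 D31298 (iv D21497) (iv F92332)
theorem F132338 : act 7 n31298 = n31298 := d43_1 D31298 (iv D31298) F92334
def n31299 : Q := act 7 n21477
theorem D31299 : act 7 n21477 = n31299 := rfl
theorem F132339 : act 1 n31299 = n21498 := d14_1 D31299 (iv D21498) (iv F92335)
theorem F132340 : act 2 n31299 = n31299 := d21_1 D31299 (iv D31299) F92336
theorem F132341 : act 5 n31299 = n21478 := d36_1 D31299 (iv D21478) D21477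
def n31300 : Q := act 8 n21477
theorem D31300 : act 8 n21477 = n31300 := rfl
theorem F132342 : act 1 n31300 = n21499 := d15_1 D31300 (iv D21499) (iv F92335)
def n31301 : Q := act 8 n21478
theorem D31301 : act 8 n21478 = n31301 := rfl
theorem F132345 : act 1 n31301 = n21500 := d15_1 D31301 (iv D21500) (iv F92337)
theorem F132347 : act 4 n31301 = n21482 := d33_1 D31301 (iv D21482) (iv F92339)
def n31302 : Q := act 3 n21479
theorem D31302 : act 3 n21479 = n31302 := rfl
theorem F132350 : act 1 n31302 = n21501 := d10_1 D31302 (iv D21501) (iv F92341)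
def n31303 : Q := act 9 n21479
theorem D31303 : act 9 n21479 = n31303 := rfl
def n31304 : Q := act 2 n21480
theorem D31304 : act 2 n21480 = n31304 := rfl
def n31306 : Q := act 9 n21480
theorem D31306 : act 9 n21480 = n31306 := rfl
theorem F132361 : act 1 n31306 = n21505 := d16_1 D31306 (iv D21505) (iv F92345)
def n31307 : Q := act 3 n21482
theorem D31307 : act 3 n21482 = n31307 := rfl
theorem F132367 : act 8 n31307 = n23745 := d28_2 D21482 D31307 (iv D23745) (iv D16301) (iv F64582)
def n31308 : Q := act 9 n21482
theorem D31308 : act 9 n21482 = n31308 := rfl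
theorem F132368 : act 1 n31308 = n21507 := d16_1 D31308 (iv D21507) (iv F92351)
def n31324 : Q := act 4 n21493
theorem D31324 : act 4 n21493 = n31324 := rfl
theorem F132426 : act 0 n31324 = n21527 := d3_1 D31324 (iv D21527) (iv F92390)
theorem F132427 : act 2 n31324 = n21726 := d18_1 D31324 (iv D21726) (iv F92391)
theorem F132428 : act 5 n31324 = n23762 := d30_2 D21493 D31324 (iv D23762) (iv D16312) (iv F64608)
def n31325 : Q := act 7 n21493
theorem D31325 : act 7 n21493 = n31325 := rfl
theorem F132429 : act 0 n31325 = n21528 := d6_1 D31325 (iv D21528) (iv F92390)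
theorem F132430 : act 2 n31325 = n21727 := d21_1 D31325 (iv D21727) (iv F92391)
theorem F132431 : act 3 n31325 = n21498 := d27_1 D31325 (iv D21498) (iv F92392)
theorem F132432 : act 5 n31325 = n21494 := d36_1 D31325 (iv D21494) D21493
def n31326 : Q := act 8 n21493
theorem D31326 : act 8 n21493 = n31326 := rfl
theorem F132433 : act 0 n31326 = n21529 := d7_1 D31326 (iv D21529) (iv F92390)
theorem F132434 : act 2 n31326 = n21728 := d22_1 D31326 (iv D21728) (iv F92391)
theorem F132435 : act 5 n31326 = n21495 := d37_1 D31326 (iv D21495) D21493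
def n31327 : Q := act 8 n21494
theorem D31327 : act 8 n21494 = n31327 := rfl
theorem F132436 : act 0 n31327 = n21530 := d7_1 D31327 (iv D21530) (iv F92393)
theorem F132437 : act 2 n31327 = n21729 := d22_1 D31327 (iv D21729) (iv F92394)
theorem F132438 : act 4 n31327 = n23765 := d33_1 D31327 (iv D23765) (iv F92396)
theorem F132439 : act 6 n31327 = n31327 := d40_1 D31327 (iv D31327) F92397
theorem F132440 : act 7 n31327 = n21495 := d42_1 D31327 (iv D21495) D21494
def n31328 : Q := act 3 n21495
theorem D31328 : act 3 n21495 = n31328 := rfl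
theorem F132441 : act 0 n31328 = n21531 := d2_1 D31328 (iv D21531) (iv F92398)
theorem F132442 : act 6 n31328 = n21496 := d26_2 (iv F92401) D31328 (iv D21496)
theorem F132443 : act 8 n31328 = n21501 := d28_2 D21495 D31328 (iv D21501) (iv D14768) (iv F64607)
def n31329 : Q := act 9 n21495
theorem D31329 : act 9 n21495 = n31329 := rfl
theorem F132444 : act 0 n31329 = n21532 := d8_1 D31329 (iv D21532) (iv F92398)
theorem F132445 : act 2 n31329 = n21731 := d23_1 D31329 (iv D21731) (iv F92399)
theorem F132446 : act 4 n31329 = n23767 := d34_1 D31329 (iv D23767) (iv F92400)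
theorem F132447 : act 6 n31329 = n21497 := d41_1 D31329 (iv D21497) (iv F92401)
def n31330 : Q := act 2 n21496
theorem D31330 : act 2 n21496 = n31330 := rfl
theorem F132448 : act 0 n31330 = n21533 := d1_1 D31330 (iv D21533) (iv F92402)
theorem F132451 : act 8 n31330 = n21503 := d22_2 (iv F92404) D31330 (iv D21503)
def n31331 : Q := act 4 n21496
theorem D31331 : act 4 n21496 = n31331 := rfl
theorem F132452 : act 0 n31331 = n21534 := d3_1 D31331 (iv D21534) (iv F92402)
theorem F132453 : act 3 n31331 = n23768 := d24_1 D31331 (iv D23768) (iv D16315) (iv F64611) D21496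
def n31332 : Q := act 9 n21496
theorem D31332 : act 9 n21496 = n31332 := rfl
theorem F132456 : act 0 n31332 = n21535 := d8_1 D31332 (iv D21535) (iv F92402)
theorem F132457 : act 3 n31332 = n21497 := d29_1 D31332 (iv D21497) D21496
theorem F132458 : act 7 n31332 = n31332 := d43_1 D31332 (iv D31332) F92403
def n31333 : Q := act 6 n21498
theorem D31333 : act 6 n21498 = n31333 := rfl
theorem F132459 : act 0 n31333 = n21536 := d5_1 D31333 (iv D21536) (iv F92409)
theorem F132460 : act 2 n31333 = n21516 := d20_1 D31333 (iv D21516) (iv F92410)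
theorem F132461 : act 5 n31333 = n31333 := d35_1 D31333 (iv D31333) F92411 F64618 (iv F92411)
def n31334 : Q := act 8 n21498
theorem D31334 : act 8 n21498 = n31334 := rfl
theorem F132462 : act 0 n31334 = n21537 := d7_1 D31334 (iv D21537) (iv F92409)
theorem F132463 : act 2 n31334 = n21517 := d22_1 D31334 (iv D21517) (iv F92410)
theorem F132464 : act 5 n31334 = n21500 := d37_1 D31334 (iv D21500) (iv F92411)
theorem F132465 : act 7 n31334 = n21499 := d42_1 D31334 (iv D21499) D21498
def n31335 : Q := act 3 n21499
theorem D31335 : act 3 n21499 = n31335 := rfl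
theorem F132466 : act 0 n31335 = n21538 := d2_1 D31335 (iv D21538) (iv F92412)
theorem F132467 : act 5 n31335 = n21501 := d25_2 (iv F92414) D31335 (iv D21501)
def n31336 : Q := act 9 n21499
theorem D31336 : act 9 n21499 = n31336 := rfl
theorem F132468 : act 0 n31336 = n21539 := d8_1 D31336 (iv D21539) (iv F92412)
theorem F132469 : act 2 n31336 = n21519 := d23_1 D31336 (iv D21519) (iv F92413)
theorem F132470 : act 5 n31336 = n21502 := d38_1 D31336 (iv D21502) (iv F92414)
def n31337 : Q := act 3 n21500
theorem D31337 : act 3 n21500 = n31337 := rfl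
theorem F132471 : act 0 n31337 = n21540 := d2_1 D31337 (iv D21540) (iv F92415)
theorem F132472 : act 6 n31337 = n31337 := d26_2 F92418 D31337 (iv D31337)
theorem F132473 : act 7 n31337 = n21501 := d27_2 (iv F92419) D31337 (iv D21501)
def n31338 : Q := act 9 n21500
theorem D31338 : act 9 n21500 = n31338 := rfl
theorem F132474 : act 0 n31338 = n21541 := d8_1 D31338 (iv D21541) (iv F92415)
theorem F132475 : act 2 n31338 = n21521 := d23_1 D31338 (iv D21521) (iv F92416)
theorem F132476 : act 4 n31338 = n21507 := d34_1 D31338 (iv D21507) (iv F92417)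
theorem F132477 : act 6 n31338 = n31338 := d41_1 D31338 (iv D31338) F92418
theorem F132478 : act 7 n31338 = n21502 := d43_1 D31338 (iv D21502) (iv F92419)
def n31339 : Q := act 2 n21501
theorem D31339 : act 2 n21501 = n31339 := rfl
theorem F132479 : act 0 n31339 = n21542 := d1_1 D31339 (iv D21542) (iv F92420)
theorem F132480 : act 3 n31339 = n21522 := d17_2 D21501 D31339 (iv D21522) (iv D14782) (iv F64620)
theorem F132481 : act 6 n31339 = n21503 := d20_2 (iv F92421) D31339 (iv D21503)
def n31340 : Q := act 4 n21501
theorem D31340 : act 4 n21501 = n31340 := rfl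
theorem F132482 : act 0 n31340 = n21543 := d3_1 D31340 (iv D21543) (iv F92420)
theorem F132483 : act 3 n31340 = n21508 := d24_1 D31340 (iv D21508) (iv D14772) (iv F64621) D21501
def n31341 : Q := act 9 n21501
theorem D31341 : act 9 n21501 = n31341 := rfl
theorem F132485 : act 0 n31341 = n21544 := d8_1 D31341 (iv D21544) (iv F92420)
theorem F132486 : act 3 n31341 = n21502 := d29_1 D31341 (iv D21502) D21501
theorem F132487 : act 6 n31341 = n21505 := d41_1 D31341 (iv D21505) (iv F92421)
def n31342 : Q := act 1 n21503
theorem D31342 : act 1 n21503 = n31342 := rfl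
theorem F132488 : act 3 n31342 = n21524 := d10_2 (iv F92427) D31342 (iv D21524)
theorem F132489 : act 7 n31342 = n31342 := d14_2 F92428 D31342 (iv D31342)
def n31343 : Q := act 4 n21503
theorem D31343 : act 4 n21503 = n31343 := rfl
theorem F132490 : act 0 n31343 = n21546 := d3_1 D31343 (iv D21546) (iv F92426)
theorem F132491 : act 2 n31343 = n21504 := d18_1 D31343 (iv D21504) D21503
def n31344 : Q := act 9 n21503
theorem D31344 : act 9 n21503 = n31344 := rfl
theorem F132494 : act 0 n31344 = n21547 := d8_1 D31344 (iv D21547) (iv F92426)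
theorem F132495 : act 2 n31344 = n21505 := d23_1 D31344 (iv D21505) D21503
theorem F132496 : act 3 n31344 = n21525 := d29_1 D31344 (iv D21525) (iv F92427)
theorem F132497 : act 7 n31344 = n31344 := d43_1 D31344 (iv D31344) F92428
def n31345 : Q := act 5 n21504
theorem D31345 : act 5 n21504 = n31345 := rfl
theorem F132498 : act 0 n31345 = n21548 := d4_1 D31345 (iv D21548) (iv F92429)
theorem F132499 : act 3 n31345 = n21510 := d25_1 D31345 (iv D21510) (iv F92430)
def n31346 : Q := act 9 n21504
theorem D31346 : act 9 n21504 = n31346 := rfl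
theorem F132501 : act 0 n31346 = n21549 := d8_1 D31346 (iv D21549) (iv F92429)
theorem F132502 : act 3 n31346 = n21511 := d29_1 D31346 (iv D21511) (iv F92430)
theorem F132503 : act 4 n31346 = n21505 := d34_1 D31346 (iv D21505) D21504
def n31347 : Q := act 8 n21505
theorem D31347 : act 8 n21505 = n31347 := rfl
theorem F132505 : act 0 n31347 = n21550 := d7_1 D31347 (iv D21550) (iv F92432)
theorem F132506 : act 7 n31347 = n31347 := d42_1 D31347 (iv D31347) F92434
def n31348 : Q := act 4 n21506
theorem D31348 : act 4 n21506 = n31348 := rfl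
theorem F132507 : act 0 n31348 = n21551 := d3_1 D31348 (iv D21551) (iv F92435)
def n31350 : Q := act 5 n21508
theorem D31350 : act 5 n21508 = n31350 := rfl
theorem F132517 : act 0 n31350 = n21553 := d4_1 D31350 (iv D21553) (iv F92444)
def n31353 : Q := act 6 n21510
theorem D31353 : act 6 n21510 = n31353 := rfl
theorem F132528 : act 0 n31353 = n21556 := d5_1 D31353 (iv D21556) (iv F92452)
theorem F132531 : act 8 n31353 = n23786 := d40_2 (iv F92456) D31353 (iv D23786)
def n31354 : Q := act 9 n21510
theorem D31354 : act 9 n21510 = n31354 := rfl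
def n31355 : Q := act 8 n21511
theorem D31355 : act 8 n21511 = n31355 := rfl
theorem F132541 : act 9 n31355 = n23788 := d44_2 D21511 D31355 (iv D23788) (iv D16329) (iv F64643)
def n31356 : Q := act 7 n21513
theorem D31356 : act 7 n21513 = n31356 := rfl
theorem F132542 : act 0 n31356 = n21559 := d6_1 D31356 (iv D21559) (iv F92466)
theorem F132545 : act 8 n31356 = n23789 := d42_2 (iv F92468) D31356 (iv D23789)
def n31357 : Q := act 9 n21513
theorem D31357 : act 9 n21513 = n31357 := rfl
def n31358 : Q := act 8 n21514
theorem D31358 : act 8 n21514 = n31358 := rfl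
theorem F132553 : act 9 n31358 = n23791 := d44_2 D21514 D31358 (iv D23791) (iv D16332) (iv F64652)
def n31360 : Q := act 8 n21516
theorem D31360 : act 8 n21516 = n31360 := rfl
theorem F132557 : act 0 n31360 = n21563 := d7_1 D31360 (iv D21563) (iv F92478)
theorem F132558 : act 1 n31360 = n31360 := d15_1 D31360 (iv D31360) F92479
theorem F132559 : act 5 n31360 = n31360 := d37_1 D31360 (iv D31360) F92481
theorem F132560 : act 6 n31360 = n21517 := d40_1 D31360 (iv D21517) D21516
def n31361 : Q := act 3 n21517
theorem D31361 : act 3 n21517 = n31361 := rfl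
theorem F132561 : act 0 n31361 = n21564 := d2_1 D31361 (iv D21564) (iv F92482)
theorem F132562 : act 1 n31361 = n31361 := d10_1 D31361 (iv D31361) F92483
theorem F132563 : act 5 n31361 = n21520 := d25_2 (iv F92484) D31361 (iv D21520)
theorem F132564 : act 7 n31361 = n21518 := d27_2 (iv F92485) D31361 (iv D21518)
theorem F132565 : act 8 n31361 = n21746 := d28_2 D21517 D31361 (iv D21746) (iv D14937) (iv F64663)
def n31362 : Q := act 9 n21517
theorem D31362 : act 9 n21517 = n31362 := rfl
theorem F132566 : act 0 n31362 = n21565 := d8_1 D31362 (iv D21565) (iv F92482)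
theorem F132567 : act 1 n31362 = n31362 := d16_1 D31362 (iv D31362) F92483
theorem F132568 : act 5 n31362 = n21521 := d38_1 D31362 (iv D21521) (iv F92484)
theorem F132569 : act 7 n31362 = n21519 := d43_1 D31362 (iv D21519) (iv F92485)
def n31363 : Q := act 2 n21518
theorem D31363 : act 2 n21518 = n31363 := rfl
theorem F132570 : act 0 n31363 = n21566 := d1_1 D31363 (iv D21566) (iv F92486)
theorem F132571 : act 5 n31363 = n21522 := d19_2 (iv F92488) D31363 (iv D21522)
theorem F132572 : act 8 n31363 = n21748 := d22_2 (iv F92489) D31363 (iv D21748)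
def n31364 : Q := act 4 n21518
theorem D31364 : act 4 n21518 = n31364 := rfl
theorem F132573 : act 0 n31364 = n21567 := d3_1 D31364 (iv D21567) (iv F92486)
theorem F132574 : act 1 n31364 = n31364 := d11_1 D31364 (iv D31364) F92487
theorem F132575 : act 5 n31364 = n22087 := d30_2 (iv F92488) D31364 (iv D22087) F66271 (iv F64675)
theorem F132576 : act 8 n31364 = n21749 := d33_2 (iv F92489) D31364 (iv D21749)
def n31365 : Q := act 9 n21518
theorem D31365 : act 9 n21518 = n31365 := rfl
theorem F132577 : act 0 n31365 = n21568 := d8_1 D31365 (iv D21568) (iv F92486)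
theorem F132578 : act 1 n31365 = n31365 := d16_1 D31365 (iv D31365) F92487
theorem F132579 : act 3 n31365 = n21519 := d29_1 D31365 (iv D21519) D21518
theorem F132580 : act 5 n31365 = n21523 := d38_1 D31365 (iv D21523) (iv F92488)
def n31366 : Q := act 2 n21520
theorem D31366 : act 2 n21520 = n31366 := rfl
theorem F132581 : act 0 n31366 = n21569 := d1_1 D31366 (iv D21569) (iv F92493)
theorem F132582 : act 4 n31366 = n22089 := d18_2 (iv F92495) D31366 (iv D22089)
theorem F132583 : act 6 n31366 = n31366 := d20_2 F92496 D31366 (iv D31366)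
theorem F132584 : act 7 n31366 = n21522 := d21_2 (iv F92497) D31366 (iv D21522)
theorem F132585 : act 8 n31366 = n21751 := d22_2 (iv F92498) D31366 (iv D21751)
def n31367 : Q := act 9 n21520
theorem D31367 : act 9 n21520 = n31367 := rfl
theorem F132586 : act 0 n31367 = n21570 := d8_1 D31367 (iv D21570) (iv F92493)
theorem F132587 : act 1 n31367 = n31367 := d16_1 D31367 (iv D31367) F92494
theorem F132588 : act 3 n31367 = n21521 := d29_1 D31367 (iv D21521) D21520
theorem F132589 : act 4 n31367 = n22090 := d34_1 D31367 (iv D22090) (iv F92495)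
theorem F132590 : act 6 n31367 = n31367 := d41_1 D31367 (iv D31367) F92496
theorem F132591 : act 7 n31367 = n21523 := d43_1 D31367 (iv D21523) (iv F92497)
def n31368 : Q := act 1 n21522
theorem D31368 : act 1 n21522 = n31368 := rfl
theorem F132592 : act 2 n31368 = n31368 := d9_2 D21522 D31368 (iv D31368) (iv D21522) F64674
theorem F132593 : act 4 n31368 = n22091 := d11_2 (iv F92505) D31368 (iv D22091)
theorem F132594 : act 6 n31368 = n21524 := d13_2 (iv F92506) D31368 (iv D21524)
theorem F132595 : act 8 n31368 = n21753 := d15_2 (iv F92507) D31368 (iv D21753)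
def n31369 : Q := act 9 n21522
theorem D31369 : act 9 n21522 = n31369 := rfl
theorem F132596 : act 0 n31369 = n21572 := d8_1 D31369 (iv D21572) (iv F92504)
theorem F132597 : act 2 n31369 = n21523 := d23_1 D31369 (iv D21523) D21522
theorem F132598 : act 4 n31369 = n22092 := d34_1 D31369 (iv D22092) (iv F92505)
theorem F132599 : act 6 n31369 = n21525 := d41_1 D31369 (iv D21525) (iv F92506)
def n31370 : Q := act 8 n21523
theorem D31370 : act 8 n21523 = n31370 := rfl
theorem F132600 : act 0 n31370 = n21573 := d7_1 D31370 (iv D21573) (iv F92508)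
theorem F132602 : act 4 n31370 = n22093 := d33_1 D31370 (iv D22093) (iv F92511)
def n31371 : Q := act 0 n21524
theorem D31371 : act 0 n21524 = n31371 := rfl
theorem F132605 : act 1 n31371 = n21574 := d0_2 D21524 D31371 (iv D21574) (iv D14818) (iv F64682)
theorem F132606 : act 2 n31371 = n31371 := d1_2 F92513 D31371 (iv D31371)
theorem F132607 : act 4 n31371 = n22094 := d3_2 (iv F92514) D31371 (iv D22094)
theorem F132608 : act 7 n31371 = n31371 := d6_2 F92515 D31371 (iv D31371)
theorem F132609 : act 8 n31371 = n21756 := d7_2 (iv F92516) D31371 (iv D21756)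
def n31372 : Q := act 9 n21524
theorem D31372 : act 9 n21524 = n31372 := rfl
theorem F132610 : act 1 n31372 = n21525 := d16_1 D31372 (iv D21525) D21524
theorem F132611 : act 2 n31372 = n31372 := d23_1 D31372 (iv D31372) F92513
theorem F132612 : act 4 n31372 = n22095 := d34_1 D31372 (iv D22095) (iv F92514)
theorem F132613 : act 7 n31372 = n31372 := d43_1 D31372 (iv D31372) F92515
def n31373 : Q := act 8 n21525
theorem D31373 : act 8 n21525 = n31373 := rfl
theorem F132614 : act 0 n31373 = n21576 := d7_1 D31373 (iv D21576) (iv F92517)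
theorem F132616 : act 4 n31373 = n22096 := d33_1 D31373 (iv D22096) (iv F92519)
theorem F132618 : act 9 n31373 = n21758 := d44_2 D21525 D31373 (iv D21758) (iv D14945) (iv F64685)
def n31374 : Q := act 7 n21527
theorem D31374 : act 7 n21527 = n31374 := rfl
theorem F132619 : act 2 n31374 = n21759 := d21_1 D31374 (iv D21759) (iv F92526)
theorem F132620 : act 4 n31374 = n21528 := d32_1 D31374 (iv D21528) D21527
theorem F132621 : act 5 n31374 = n23795 := d36_1 D31374 (iv D23795) (iv F92527)
def n31375 : Q := act 8 n21527
theorem D31375 : act 8 n21527 = n31375 := rfl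
theorem F132622 : act 2 n31375 = n21760 := d22_1 D31375 (iv D21760) (iv F92526)
theorem F132623 : act 4 n31375 = n21529 := d33_1 D31375 (iv D21529) D21527
theorem F132624 : act 5 n31375 = n23796 := d37_1 D31375 (iv D23796) (iv F92527)
def n31376 : Q := act 6 n21528
theorem D31376 : act 6 n21528 = n31376 := rfl
theorem F132625 : act 2 n31376 = n21761 := d20_1 D31376 (iv D21761) (iv F92528)
theorem F132626 : act 3 n31376 = n21536 := d26_1 D31376 (iv D21536) (iv F92529)
theorem F132627 : act 5 n31376 = n31376 := d35_1 D31376 (iv D31376) F92530 F64701 (iv F92530)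
def n31377 : Q := act 8 n21528
theorem D31377 : act 8 n21528 = n31377 := rfl
theorem F132628 : act 2 n31377 = n21762 := d22_1 D31377 (iv D21762) (iv F92528)
theorem F132629 : act 5 n31377 = n21530 := d37_1 D31377 (iv D21530) (iv F92530)
theorem F132630 : act 7 n31377 = n21529 := d42_1 D31377 (iv D21529) D21528
def n31378 : Q := act 3 n21529
theorem D31378 : act 3 n21529 = n31378 := rfl
theorem F132631 : act 5 n31378 = n21531 := d25_2 (iv F92532) D31378 (iv D21531)
theorem F132632 : act 8 n31378 = n21538 := d28_2 D21529 D31378 (iv D21538) (iv D14793) (iv F64697)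
def n31379 : Q := act 9 n21529
theorem D31379 : act 9 n21529 = n31379 := rfl
theorem F132633 : act 2 n31379 = n21764 := d23_1 D31379 (iv D21764) (iv F92531)
theorem F132634 : act 5 n31379 = n21532 := d38_1 D31379 (iv D21532) (iv F92532)
def n31380 : Q := act 3 n21530
theorem D31380 : act 3 n21530 = n31380 := rfl
theorem F132635 : act 6 n31380 = n31380 := d26_2 F92535 D31380 (iv D31380)
theorem F132636 : act 7 n31380 = n21531 := d27_2 (iv F92536) D31380 (iv D21531)
theorem F132637 : act 8 n31380 = n21540 := d28_2 D21530 D31380 (iv D21540) (iv D14794) (iv F64699)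
def n31381 : Q := act 9 n21530
theorem D31381 : act 9 n21530 = n31381 := rfl
theorem F132638 : act 2 n31381 = n21766 := d23_1 D31381 (iv D21766) (iv F92533)
theorem F132639 : act 4 n31381 = n23802 := d34_1 D31381 (iv D23802) (iv F92534)
theorem F132640 : act 6 n31381 = n31381 := d41_1 D31381 (iv D31381) F92535
theorem F132641 : act 7 n31381 = n21532 := d43_1 D31381 (iv D21532) (iv F92536)
def n31382 : Q := act 2 n21531
theorem D31382 : act 2 n21531 = n31382 := rfl
theorem F132642 : act 3 n31382 = n21767 := d17_2 D21531 D31382 (iv D21767) (iv D14951) (iv F64702)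
theorem F132643 : act 6 n31382 = n21533 := d20_2 (iv F92537) D31382 (iv D21533)
theorem F132644 : act 8 n31382 = n21542 := d22_2 (iv F92538) D31382 (iv D21542)
def n31383 : Q := act 4 n21531
theorem D31383 : act 4 n21531 = n31383 := rfl
theorem F132645 : act 3 n31383 = n23803 := d24_1 D31383 (iv D23803) (iv D16342) (iv F64703) D21531
theorem F132646 : act 6 n31383 = n21534 := d31_2 (iv F92537) D31383 (iv D21534)
theorem F132647 : act 8 n31383 = n21543 := d33_2 (iv F92538) D31383 (iv D21543)
def n31384 : Q := act 9 n21531
theorem D31384 : act 9 n21531 = n31384 := rfl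
theorem F132648 : act 3 n31384 = n21532 := d29_1 D31384 (iv D21532) D21531
theorem F132649 : act 6 n31384 = n21535 := d41_1 D31384 (iv D21535) (iv F92537)
def n31385 : Q := act 1 n21533
theorem D31385 : act 1 n21533 = n31385 := rfl
theorem F132650 : act 3 n31385 = n21769 := d10_2 (iv F92542) D31385 (iv D21769)
theorem F132651 : act 7 n31385 = n31385 := d14_2 F92543 D31385 (iv D31385)
theorem F132652 : act 8 n31385 = n21545 := d15_2 (iv F92544) D31385 (iv D21545)
def n31386 : Q := act 4 n21533
theorem D31386 : act 4 n21533 = n31386 := rfl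
theorem F132653 : act 2 n31386 = n21534 := d18_1 D31386 (iv D21534) D21533
theorem F132654 : act 3 n31386 = n31386 := d24_1 D31386 (iv D31386) F92542 F65352 (iv F92542)
theorem F132655 : act 7 n31386 = n31386 := d32_2 F92543 D31386 (iv D31386)
theorem F132656 : act 8 n31386 = n21546 := d33_2 (iv F92544) D31386 (iv D21546)
def n31387 : Q := act 9 n21533
theorem D31387 : act 9 n21533 = n31387 := rfl
theorem F132657 : act 2 n31387 = n21535 := d23_1 D31387 (iv D21535) D21533
theorem F132658 : act 3 n31387 = n21770 := d29_1 D31387 (iv D21770) (iv F92542)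
theorem F132659 : act 7 n31387 = n31387 := d43_1 D31387 (iv D31387) F92543
def n31388 : Q := act 5 n21534
theorem D31388 : act 5 n21534 = n31388 := rfl
theorem F132660 : act 3 n31388 = n23805 := d25_1 D31388 (iv D23805) (iv F92545)
theorem F132661 : act 7 n31388 = n31388 := d36_2 F92546 D31388 (iv D31388)
theorem F132662 : act 8 n31388 = n21548 := d37_2 (iv F92547) D31388 (iv D21548)
def n31389 : Q := act 9 n21534
theorem D31389 : act 9 n21534 = n31389 := rfl
theorem F132663 : act 3 n31389 = n23806 := d29_1 D31389 (iv D23806) (iv F92545)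
theorem F132664 : act 4 n31389 = n21535 := d34_1 D31389 (iv D21535) D21534
theorem F132665 : act 7 n31389 = n31389 := d43_1 D31389 (iv D31389) F92546
def n31390 : Q := act 8 n21535
theorem D31390 : act 8 n21535 = n31390 := rfl
theorem F132666 : act 7 n31390 = n31390 := d42_1 D31390 (iv D31390) F92549
theorem F132667 : act 9 n31390 = n21550 := d44_2 D21535 D31390 (iv D21550) (iv D14799) (iv F64706)
def n31391 : Q := act 8 n21536
theorem D31391 : act 8 n21536 = n31391 := rfl
theorem F132668 : act 2 n31391 = n21563 := d22_1 D31391 (iv D21563) (iv F92550)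
theorem F132669 : act 5 n31391 = n31391 := d37_1 D31391 (iv D31391) F92551
theorem F132670 : act 6 n31391 = n21537 := d40_1 D31391 (iv D21537) D21536
def n31392 : Q := act 3 n21537
theorem D31392 : act 3 n21537 = n31392 := rfl
theorem F132671 : act 5 n31392 = n21540 := d25_2 (iv F92553) D31392 (iv D21540)
theorem F132672 : act 7 n31392 = n21538 := d27_2 (iv F92554) D31392 (iv D21538)
def n31393 : Q := act 9 n21537
theorem D31393 : act 9 n21537 = n31393 := rfl
theorem F132673 : act 2 n31393 = n21565 := d23_1 D31393 (iv D21565) (iv F92552)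
theorem F132674 : act 5 n31393 = n21541 := d38_1 D31393 (iv D21541) (iv F92553)
theorem F132675 : act 7 n31393 = n21539 := d43_1 D31393 (iv D21539) (iv F92554)
def n31394 : Q := act 2 n21538
theorem D31394 : act 2 n21538 = n31394 := rfl
theorem F132676 : act 3 n31394 = n21566 := d17_2 D21538 D31394 (iv D21566) (iv D14812) (iv F64712)
theorem F132677 : act 5 n31394 = n21542 := d19_2 (iv F92555) D31394 (iv D21542)
def n31395 : Q := act 4 n21538
theorem D31395 : act 4 n21538 = n31395 := rfl
def n31396 : Q := act 9 n21538
theorem D31396 : act 9 n21538 = n31396 := rfl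
theorem F132678 : act 3 n31396 = n21539 := d29_1 D31396 (iv D21539) D21538
theorem F132679 : act 5 n31396 = n21544 := d38_1 D31396 (iv D21544) (iv F92555)
def n31397 : Q := act 2 n21540
theorem D31397 : act 2 n21540 = n31397 := rfl
theorem F132680 : act 3 n31397 = n21569 := d17_2 D21540 D31397 (iv D21569) (iv D14814) (iv F64714)
theorem F132681 : act 6 n31397 = n31397 := d20_2 F92558 D31397 (iv D31397)
theorem F132682 : act 7 n31397 = n21542 := d21_2 (iv F92559) D31397 (iv D21542)
def n31398 : Q := act 4 n21540
theorem D31398 : act 4 n21540 = n31398 := rfl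
theorem F132683 : act 3 n31398 = n21551 := d24_1 D31398 (iv D21551) (iv D14800) (iv F64715) D21540
theorem F132684 : act 6 n31398 = n31398 := d31_2 F92558 D31398 (iv D31398)
theorem F132685 : act 7 n31398 = n21543 := d32_2 (iv F92559) D31398 (iv D21543)
def n31399 : Q := act 9 n21540
theorem D31399 : act 9 n21540 = n31399 := rfl
theorem F132686 : act 3 n31399 = n21541 := d29_1 D31399 (iv D21541) D21540
theorem F132687 : act 6 n31399 = n31399 := d41_1 D31399 (iv D31399) F92558
theorem F132688 : act 7 n31399 = n21544 := d43_1 D31399 (iv D21544) (iv F92559)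
def n31400 : Q := act 1 n21542
theorem D31400 : act 1 n21542 = n31400 := rfl
theorem F132689 : act 3 n31400 = n21571 := d10_2 (iv F92564) D31400 (iv D21571)
theorem F132690 : act 6 n31400 = n21545 := d13_2 (iv F92565) D31400 (iv D21545)
def n31401 : Q := act 4 n21542
theorem D31401 : act 4 n21542 = n31401 := rfl
theorem F132691 : act 2 n31401 = n21543 := d18_1 D31401 (iv D21543) D21542
theorem F132692 : act 3 n31401 = n22107 := d24_1 D31401 (iv D22107) F66340 (iv F64781) (iv F92564)
theorem F132693 : act 6 n31401 = n21546 := d31_2 (iv F92565) D31401 (iv D21546)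
def n31402 : Q := act 9 n21542
theorem D31402 : act 9 n21542 = n31402 := rfl
theorem F132694 : act 2 n31402 = n21544 := d23_1 D31402 (iv D21544) D21542
theorem F132695 : act 3 n31402 = n21572 := d29_1 D31402 (iv D21572) (iv F92564)
theorem F132696 : act 6 n31402 = n21547 := d41_1 D31402 (iv D21547) (iv F92565)
def n31403 : Q := act 5 n21543
theorem D31403 : act 5 n21543 = n31403 := rfl
theorem F132697 : act 3 n31403 = n21553 := d25_1 D31403 (iv D21553) (iv F92566)
def n31404 : Q := act 9 n21543
theorem D31404 : act 9 n21543 = n31404 := rfl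
theorem F132698 : act 3 n31404 = n21554 := d29_1 D31404 (iv D21554) (iv F92566)
theorem F132699 : act 4 n31404 = n21544 := d34_1 D31404 (iv D21544) D21543
theorem F132700 : act 6 n31404 = n21549 := d41_1 D31404 (iv D21549) (iv F92567)
def n31405 : Q := act 8 n21544
theorem D31405 : act 8 n21544 = n31405 := rfl
theorem F132701 : act 6 n31405 = n21550 := d40_1 D31405 (iv D21550) (iv F92569)
def n31406 : Q := act 0 n21545
theorem D31406 : act 0 n21545 = n31406 := rfl
theorem F132702 : act 3 n31406 = n21574 := d2_2 (iv F92570) D31406 (iv D21574)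
theorem F132703 : act 7 n31406 = n31406 := d6_2 F92571 D31406 (iv D31406)
def n31407 : Q := act 4 n21545
theorem D31407 : act 4 n21545 = n31407 := rfl
theorem F132704 : act 1 n31407 = n21546 := d11_1 D31407 (iv D21546) D21545
theorem F132705 : act 3 n31407 = n22113 := d24_1 D31407 (iv D22113) F66351 (iv F64789) (iv F92570)
theorem F132706 : act 7 n31407 = n31407 := d32_2 F92571 D31407 (iv D31407)
def n31408 : Q := act 9 n21545
theorem D31408 : act 9 n21545 = n31408 := rfl
theorem F132707 : act 1 n31408 = n21547 := d16_1 D31408 (iv D21547) D21545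
theorem F132708 : act 3 n31408 = n21575 := d29_1 D31408 (iv D21575) (iv F92570)
theorem F132709 : act 7 n31408 = n31408 := d43_1 D31408 (iv D31408) F92571
def n31409 : Q := act 5 n21546
theorem D31409 : act 5 n21546 = n31409 := rfl
theorem F132710 : act 2 n31409 = n21548 := d19_1 D31409 (iv D21548) (iv F92572)
theorem F132711 : act 3 n31409 = n22115 := d25_1 D31409 (iv D22115) (iv F92573)
theorem F132712 : act 7 n31409 = n31409 := d36_2 F92574 D31409 (iv D31409)
def n31410 : Q := act 9 n21546
theorem D31410 : act 9 n21546 = n31410 := rfl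
theorem F132713 : act 2 n31410 = n21549 := d23_1 D31410 (iv D21549) (iv F92572)
theorem F132714 : act 3 n31410 = n22116 := d29_1 D31410 (iv D22116) (iv F92573)
theorem F132715 : act 4 n31410 = n21547 := d34_1 D31410 (iv D21547) D21546
theorem F132716 : act 7 n31410 = n31410 := d43_1 D31410 (iv D31410) F92574
def n31411 : Q := act 8 n21547
theorem D31411 : act 8 n21547 = n31411 := rfl
theorem F132717 : act 2 n31411 = n21550 := d22_1 D31411 (iv D21550) (iv F92575)
theorem F132718 : act 7 n31411 = n31411 := d42_1 D31411 (iv D31411) F92577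
def n31412 : Q := act 6 n21548
theorem D31412 : act 6 n21548 = n31412 := rfl
theorem F132719 : act 3 n31412 = n21556 := d26_1 D31412 (iv D21556) (iv F92578)
def n31413 : Q := act 9 n21548
theorem D31413 : act 9 n21548 = n31413 := rfl
theorem F132720 : act 3 n31413 = n21557 := d29_1 D31413 (iv D21557) (iv F92578)
theorem F132721 : act 5 n31413 = n21549 := d38_1 D31413 (iv D21549) D21548
theorem F132722 : act 7 n31413 = n31413 := d43_1 D31413 (iv D31413) F92579
def n31414 : Q := act 8 n21549
theorem D31414 : act 8 n21549 = n31414 := rfl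
theorem F132723 : act 4 n31414 = n21550 := d33_1 D31414 (iv D21550) (iv F92581)
theorem F132724 : act 7 n31414 = n31414 := d42_1 D31414 (iv D31414) F92582
def n31415 : Q := act 5 n21551
theorem D31415 : act 5 n21551 = n31415 := rfl
theorem F132725 : act 2 n31415 = n22121 := d19_1 D31415 (iv D22121) (iv F92584)
theorem F132726 : act 7 n31415 = n21553 := d36_2 (iv F92586) D31415 (iv D21553)
theorem F132727 : act 8 n31415 = n23821 := d37_2 (iv F92587) D31415 (iv D23821)
def n31416 : Q := act 9 n21551
theorem D31416 : act 9 n21551 = n31416 := rfl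
theorem F132728 : act 2 n31416 = n22122 := d23_1 D31416 (iv D22122) (iv F92584)
theorem F132729 : act 4 n31416 = n21552 := d34_1 D31416 (iv D21552) D21551
theorem F132730 : act 6 n31416 = n31416 := d41_1 D31416 (iv D31416) F92585
theorem F132731 : act 7 n31416 = n21554 := d43_1 D31416 (iv D21554) (iv F92586)
def n31418 : Q := act 6 n21553
theorem D31418 : act 6 n21553 = n31418 := rfl
theorem F132736 : act 2 n31418 = n22124 := d20_1 D31418 (iv D22124) (iv F92592)
theorem F132737 : act 5 n31418 = n21556 := d35_1 D31418 (iv D21556) (iv D14804) (iv F64736) D21553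
theorem F132738 : act 8 n31418 = n23824 := d40_2 (iv F92593) D31418 (iv D23824)
def n31419 : Q := act 9 n21553
theorem D31419 : act 9 n21553 = n31419 := rfl
theorem F132739 : act 2 n31419 = n22125 := d23_1 D31419 (iv D22125) (iv F92592)
theorem F132740 : act 5 n31419 = n21554 := d38_1 D31419 (iv D21554) D21553
def n31421 : Q := act 7 n21556
theorem D31421 : act 7 n21556 = n31421 := rfl
theorem F132745 : act 2 n31421 = n22127 := d21_1 D31421 (iv D22127) (iv F92600)
theorem F132746 : act 4 n31421 = n21559 := d32_1 D31421 (iv D21559) (iv F92601)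
theorem F132747 : act 6 n31421 = n31421 := d39_1 D31421 (iv D31421) (iv D21556) F64743 D21556
theorem F132748 : act 8 n31421 = n23827 := d42_2 (iv F92602) D31421 (iv D23827)
def n31422 : Q := act 9 n21556
theorem D31422 : act 9 n21556 = n31422 := rfl
theorem F132749 : act 2 n31422 = n22128 := d23_1 D31422 (iv D22128) (iv F92600)
theorem F132750 : act 4 n31422 = n21560 := d34_1 D31422 (iv D21560) (iv F92601)
theorem F132751 : act 6 n31422 = n21557 := d41_1 D31422 (iv D21557) D21556
def n31424 : Q := act 3 n21558
theorem D31424 : act 3 n21558 = n31424 := rfl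
theorem F132758 : act 9 n31424 = n23830 := d29_2 (iv F92610) D31424 (iv D23830)
def n31425 : Q := act 9 n21559
theorem D31425 : act 9 n21559 = n31425 := rfl
theorem F132759 : act 2 n31425 = n22131 := d23_1 D31425 (iv D22131) (iv F92611)
theorem F132760 : act 6 n31425 = n31425 := d41_1 D31425 (iv D31425) F92612
theorem F132761 : act 7 n31425 = n21560 := d43_1 D31425 (iv D21560) D21559
def n31427 : Q := act 3 n21561
theorem D31427 : act 3 n21561 = n31427 := rfl
theorem F132767 : act 9 n31427 = n23833 := d29_2 (iv F92619) D31427 (iv D23833)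
def n31428 : Q := act 2 n21562
theorem D31428 : act 2 n21562 = n31428 := rfl
theorem F132770 : act 9 n31428 = n23834 := d23_2 (iv F92621) D31428 (iv D23834)
def n31429 : Q := act 3 n21563
theorem D31429 : act 3 n21563 = n31429 := rfl
theorem F132771 : act 1 n31429 = n21577 := d10_1 D31429 (iv D21577) (iv F92622)
theorem F132772 : act 5 n31429 = n31429 := d25_2 F92623 D31429 (iv D31429)
theorem F132773 : act 6 n31429 = n21564 := d26_2 (iv F92624) D31429 (iv D21564)
theorem F132774 : act 8 n31429 = n21786 := d28_2 D21563 D31429 (iv D21786) (iv D14966) (iv F64762)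
def n31430 : Q := act 9 n21563
theorem D31430 : act 9 n21563 = n31430 := rfl
theorem F132775 : act 1 n31430 = n21578 := d16_1 D31430 (iv D21578) (iv F92622)
theorem F132776 : act 5 n31430 = n31430 := d38_1 D31430 (iv D31430) F92623
theorem F132777 : act 6 n31430 = n21565 := d41_1 D31430 (iv D21565) (iv F92624)
def n31431 : Q := act 2 n21564
theorem D31431 : act 2 n21564 = n31431 := rfl
theorem F132778 : act 5 n31431 = n21569 := d19_2 (iv F92626) D31431 (iv D21569)
theorem F132779 : act 7 n31431 = n21566 := d21_2 (iv F92627) D31431 (iv D21566)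
theorem F132780 : act 8 n31431 = n21788 := d22_2 (iv F92628) D31431 (iv D21788)
def n31432 : Q := act 4 n21564
theorem D31432 : act 4 n21564 = n31432 := rfl
theorem F132781 : act 1 n31432 = n21580 := d11_1 D31432 (iv D21580) (iv F92625)
theorem F132782 : act 5 n31432 = n22138 := d30_2 (iv F92626) D31432 (iv D22138) F66425 (iv F64773)
theorem F132783 : act 7 n31432 = n21567 := d32_2 (iv F92627) D31432 (iv D21567)
theorem F132784 : act 8 n31432 = n21789 := d33_2 (iv F92628) D31432 (iv D21789)
def n31433 : Q := act 9 n21564
theorem D31433 : act 9 n21564 = n31433 := rfl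
theorem F132785 : act 1 n31433 = n21581 := d16_1 D31433 (iv D21581) (iv F92625)
theorem F132786 : act 3 n31433 = n21565 := d29_1 D31433 (iv D21565) D21564
theorem F132787 : act 5 n31433 = n21570 := d38_1 D31433 (iv D21570) (iv F92626)
theorem F132788 : act 7 n31433 = n21568 := d43_1 D31433 (iv D21568) (iv F92627)
def n31434 : Q := act 1 n21566
theorem D31434 : act 1 n21566 = n31434 := rfl
theorem F132789 : act 2 n31434 = n21582 := d9_2 D21566 D31434 (iv D21582) (iv D14824) (iv F64767)
theorem F132790 : act 5 n31434 = n21571 := d12_2 (iv F92632) D31434 (iv D21571)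
theorem F132791 : act 8 n31434 = n21791 := d15_2 (iv F92633) D31434 (iv D21791)
def n31435 : Q := act 4 n21566
theorem D31435 : act 4 n21566 = n31435 := rfl
theorem F132792 : act 2 n31435 = n21567 := d18_1 D31435 (iv D21567) D21566
theorem F132793 : act 5 n31435 = n22141 := d30_2 (iv F92632) D31435 (iv D22141) F66432 (iv F64781)
theorem F132794 : act 8 n31435 = n21792 := d33_2 (iv F92633) D31435 (iv D21792)
def n31436 : Q := act 9 n21566
theorem D31436 : act 9 n21566 = n31436 := rfl
theorem F132795 : act 2 n31436 = n21568 := d23_1 D31436 (iv D21568) D21566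
theorem F132796 : act 5 n31436 = n21572 := d38_1 D31436 (iv D21572) (iv F92632)
def n31437 : Q := act 9 n21567
theorem D31437 : act 9 n21567 = n31437 := rfl
theorem F132797 : act 1 n31437 = n21585 := d16_1 D31437 (iv D21585) (iv F92634)
theorem F132798 : act 4 n31437 = n21568 := d34_1 D31437 (iv D21568) D21567
theorem F132799 : act 5 n31437 = n22143 := d38_1 D31437 (iv D22143) (iv F92635)
def n31438 : Q := act 8 n21568
theorem D31438 : act 8 n21568 = n31438 := rfl
theorem F132800 : act 1 n31438 = n21586 := d15_1 D31438 (iv D21586) (iv F92637)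
theorem F132801 : act 5 n31438 = n21573 := d37_1 D31438 (iv D21573) (iv F92639)
theorem F132802 : act 9 n31438 = n21795 := d44_2 D21568 D31438 (iv D21795) (iv D14971) (iv F64769)
def n31439 : Q := act 1 n21569
theorem D31439 : act 1 n21569 = n31439 := rfl
theorem F132803 : act 2 n31439 = n21587 := d9_2 D21569 D31439 (iv D21587) (iv D14827) (iv F64772)
theorem F132804 : act 4 n31439 = n22145 := d11_2 (iv F92640) D31439 (iv D22145)
theorem F132805 : act 6 n31439 = n31439 := d13_2 F92641 D31439 (iv D31439)
theorem F132806 : act 7 n31439 = n21571 := d14_2 (iv F92642) D31439 (iv D21571)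
theorem F132807 : act 8 n31439 = n21796 := d15_2 (iv F92643) D31439 (iv D21796)
def n31440 : Q := act 9 n21569
theorem D31440 : act 9 n21569 = n31440 := rfl
theorem F132808 : act 2 n31440 = n21570 := d23_1 D31440 (iv D21570) D21569
theorem F132809 : act 4 n31440 = n22146 := d34_1 D31440 (iv D22146) (iv F92640)
theorem F132810 : act 6 n31440 = n31440 := d41_1 D31440 (iv D31440) F92641
theorem F132811 : act 7 n31440 = n21572 := d43_1 D31440 (iv D21572) (iv F92642)
def n31441 : Q := act 8 n21570
theorem D31441 : act 8 n21570 = n31441 := rfl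
theorem F132812 : act 1 n31441 = n21589 := d15_1 D31441 (iv D21589) (iv F92644)
theorem F132813 : act 4 n31441 = n22147 := d33_1 D31441 (iv D22147) (iv F92646)
theorem F132814 : act 6 n31441 = n31441 := d40_1 D31441 (iv D31441) F92647
theorem F132815 : act 7 n31441 = n21573 := d42_1 D31441 (iv D21573) (iv F92648)
theorem F132816 : act 9 n31441 = n21798 := d44_2 D21570 D31441 (iv D21798) (iv D14973) (iv F64776)
def n31442 : Q := act 0 n21571
theorem D31442 : act 0 n21571 = n31442 := rfl
theorem F132817 : act 2 n31442 = n21590 := d1_2 (iv F92649) D31442 (iv D21590)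
theorem F132818 : act 4 n31442 = n22148 := d3_2 (iv F92650) D31442 (iv D22148)
theorem F132819 : act 6 n31442 = n21574 := d5_2 (iv F92651) D31442 (iv D21574)
theorem F132820 : act 8 n31442 = n21799 := d7_2 (iv F92652) D31442 (iv D21799)
def n31443 : Q := act 9 n21571
theorem D31443 : act 9 n21571 = n31443 := rfl
theorem F132821 : act 1 n31443 = n21572 := d16_1 D31443 (iv D21572) D21571
theorem F132822 : act 2 n31443 = n21591 := d23_1 D31443 (iv D21591) (iv F92649)
theorem F132823 : act 4 n31443 = n22149 := d34_1 D31443 (iv D22149) (iv F92650)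
theorem F132824 : act 6 n31443 = n21575 := d41_1 D31443 (iv D21575) (iv F92651)
def n31444 : Q := act 8 n21572
theorem D31444 : act 8 n21572 = n31444 := rfl
theorem F132825 : act 2 n31444 = n21573 := d22_1 D31444 (iv D21573) (iv F92653)
theorem F132826 : act 4 n31444 = n22150 := d33_1 D31444 (iv D22150) (iv F92654)
theorem F132827 : act 6 n31444 = n21576 := d40_1 D31444 (iv D21576) (iv F92655)
theorem F132828 : act 9 n31444 = n21801 := d44_2 D21572 D31444 (iv D21801) (iv D14975) (iv F64783)
def n31445 : Q := act 9 n21574
theorem D31445 : act 9 n21574 = n31445 := rfl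
theorem F132829 : act 0 n31445 = n21575 := d8_1 D31445 (iv D21575) D21574
theorem F132830 : act 2 n31445 = n21593 := d23_1 D31445 (iv D21593) (iv F92660)
theorem F132831 : act 4 n31445 = n22151 := d34_1 D31445 (iv D22151) (iv F92661)
theorem F132832 : act 7 n31445 = n31445 := d43_1 D31445 (iv D31445) F92662
def n31446 : Q := act 8 n21575
theorem D31446 : act 8 n21575 = n31446 := rfl
theorem F132833 : act 1 n31446 = n21576 := d15_1 D31446 (iv D21576) (iv F92664)
theorem F132834 : act 2 n31446 = n21594 := d22_1 D31446 (iv D21594) (iv F92665)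
theorem F132835 : act 4 n31446 = n22152 := d33_1 D31446 (iv D22152) (iv F92666)
theorem F132836 : act 7 n31446 = n31446 := d42_1 D31446 (iv D31446) F92667
theorem F132837 : act 9 n31446 = n21803 := d44_2 D21575 D31446 (iv D21803) (iv D14978) (iv F64791)
def n31447 : Q := act 3 n21576
theorem D31447 : act 3 n21576 = n31447 := rfl
theorem F132838 : act 7 n31447 = n31447 := d27_2 F92670 D31447 (iv D31447)
theorem F132839 : act 9 n31447 = n21804 := d29_2 (iv F92671) D31447 (iv D21804)
def n31448 : Q := act 2 n21577
theorem D31448 : act 2 n21577 = n31448 := rfl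
theorem F132843 : act 8 n31448 = n21805 := d22_2 (iv F92675) D31448 (iv D21805)
def n31449 : Q := act 4 n21577
theorem D31449 : act 4 n21577 = n31449 := rfl
theorem F132846 : act 8 n31449 = n21806 := d33_2 (iv F92675) D31449 (iv D21806)
def n31450 : Q := act 9 n21577
theorem D31450 : act 9 n21577 = n31450 := rfl
theorem F132847 : act 0 n31450 = n31450 := d8_1 D31450 (iv D31450) F92672
theorem F132848 : act 3 n31450 = n21578 := d29_1 D31450 (iv D21578) D21577
theorem F132849 : act 5 n31450 = n31450 := d38_1 D31450 (iv D31450) F92673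
theorem F132850 : act 6 n31450 = n21581 := d41_1 D31450 (iv D21581) (iv F92674)
def n31451 : Q := act 1 n21579
theorem D31451 : act 1 n21579 = n31451 := rfl
theorem F132851 : act 5 n31451 = n21587 := d12_2 (iv F92680) D31451 (iv D21587)
theorem F132852 : act 7 n31451 = n21582 := d14_2 (iv F92681) D31451 (iv D21582)
theorem F132853 : act 8 n31451 = n21808 := d15_2 (iv F92682) D31451 (iv D21808)
def n31452 : Q := act 4 n21579
theorem D31452 : act 4 n21579 = n31452 := rfl
theorem F132858 : act 8 n31452 = n21809 := d33_2 (iv F92682) D31452 (iv D21809)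
def n31453 : Q := act 9 n21579
theorem D31453 : act 9 n21579 = n31453 := rfl
theorem F132859 : act 0 n31453 = n31453 := d8_1 D31453 (iv D31453) F92679
theorem F132860 : act 2 n31453 = n21581 := d23_1 D31453 (iv D21581) D21579
theorem F132861 : act 5 n31453 = n21588 := d38_1 D31453 (iv D21588) (iv F92680)
theorem F132862 : act 7 n31453 = n21584 := d43_1 D31453 (iv D21584) (iv F92681)
def n31454 : Q := act 9 n21580
theorem D31454 : act 9 n21580 = n31454 := rfl
theorem F132863 : act 0 n31454 = n31454 := d8_1 D31454 (iv D31454) F92683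
theorem F132864 : act 4 n31454 = n21581 := d34_1 D31454 (iv D21581) D21580
theorem F132865 : act 5 n31454 = n22160 := d38_1 D31454 (iv D22160) (iv F92684)
theorem F132866 : act 7 n31454 = n21585 := d43_1 D31454 (iv D21585) (iv F92685)
def n31455 : Q := act 8 n21581
theorem D31455 : act 8 n21581 = n31455 := rfl
theorem F132867 : act 0 n31455 = n31455 := d7_1 D31455 (iv D31455) F92687
theorem F132868 : act 5 n31455 = n21589 := d37_1 D31455 (iv D21589) (iv F92689)
theorem F132869 : act 7 n31455 = n21586 := d42_1 D31455 (iv D21586) (iv F92690)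
def n31456 : Q := act 0 n21582
theorem D31456 : act 0 n21582 = n31456 := rfl
theorem F132871 : act 1 n31456 = n31456 := d0_2 D21582 D31456 (iv D31456) (iv D21582) F64809
theorem F132872 : act 5 n31456 = n21590 := d4_2 (iv F92691) D31456 (iv D21590)
theorem F132873 : act 8 n31456 = n21813 := d7_2 (iv F92692) D31456 (iv D21813)
def n31457 : Q := act 4 n21582
theorem D31457 : act 4 n21582 = n31457 := rfl
theorem F132874 : act 1 n31457 = n21583 := d11_1 D31457 (iv D21583) D21582
theorem F132875 : act 5 n31457 = n22163 := d30_2 (iv F92691) D31457 (iv D22163) F66494 (iv F64828)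
theorem F132876 : act 8 n31457 = n21814 := d33_2 (iv F92692) D31457 (iv D21814)
def n31458 : Q := act 9 n21582
theorem D31458 : act 9 n21582 = n31458 := rfl
theorem F132877 : act 1 n31458 = n21584 := d16_1 D31458 (iv D21584) D21582
theorem F132878 : act 5 n31458 = n21591 := d38_1 D31458 (iv D21591) (iv F92691)
def n31459 : Q := act 3 n21583
theorem D31459 : act 3 n21583 = n31459 := rfl
theorem F132879 : act 0 n31459 = n31459 := d2_1 D31459 (iv D31459) F92693
theorem F132880 : act 5 n31459 = n22165 := d25_2 (iv F92695) D31459 (iv D22165)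
def n31460 : Q := act 9 n21583
theorem D31460 : act 9 n21583 = n31460 := rfl
theorem F132882 : act 2 n31460 = n21585 := d23_1 D31460 (iv D21585) (iv F92694)
theorem F132883 : act 4 n31460 = n21584 := d34_1 D31460 (iv D21584) D21583
def n31461 : Q := act 8 n21584
theorem D31461 : act 8 n21584 = n31461 := rfl
theorem F132886 : act 2 n31461 = n21586 := d22_1 D31461 (iv D21586) (iv F92698)
theorem F132888 : act 9 n31461 = n21818 := d44_2 D21584 D31461 (iv D21818) (iv D14987) (iv F64811)
def n31462 : Q := act 8 n21585
theorem D31462 : act 8 n21585 = n31462 := rfl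
theorem F132892 : act 9 n31462 = n21819 := d44_2 D21585 D31462 (iv D21819) (iv D14988) (iv F64814)
def n31463 : Q := act 0 n21587
theorem D31463 : act 0 n21587 = n31463 := rfl
theorem F132893 : act 1 n31463 = n31463 := d0_2 D21587 D31463 (iv D31463) (iv D21587) F64818
theorem F132894 : act 4 n31463 = n22169 := d3_2 (iv F92706) D31463 (iv D22169)
theorem F132895 : act 6 n31463 = n31463 := d5_2 F92707 D31463 (iv D31463)
theorem F132896 : act 7 n31463 = n21590 := d6_2 (iv F92708) D31463 (iv D21590)
theorem F132897 : act 8 n31463 = n21820 := d7_2 (iv F92709) D31463 (iv D21820)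
def n31464 : Q := act 9 n21587
theorem D31464 : act 9 n21587 = n31464 := rfl
theorem F132898 : act 1 n31464 = n21588 := d16_1 D31464 (iv D21588) D21587
theorem F132899 : act 4 n31464 = n22170 := d34_1 D31464 (iv D22170) (iv F92706)
theorem F132900 : act 6 n31464 = n31464 := d41_1 D31464 (iv D31464) F92707
theorem F132901 : act 7 n31464 = n21591 := d43_1 D31464 (iv D21591) (iv F92708)
def n31465 : Q := act 8 n21588
theorem D31465 : act 8 n21588 = n31465 := rfl
def n31466 : Q := act 9 n21590
theorem D31466 : act 9 n21590 = n31466 := rfl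
theorem F132908 : act 0 n31466 = n21591 := d8_1 D31466 (iv D21591) D21590
theorem F132909 : act 1 n31466 = n31466 := d16_1 D31466 (iv D31466) F92720
theorem F132910 : act 4 n31466 = n22172 := d34_1 D31466 (iv D22172) (iv F92721)
theorem F132911 : act 6 n31466 = n21593 := d41_1 D31466 (iv D21593) (iv F92722)
def n31467 : Q := act 8 n21591
theorem D31467 : act 8 n21591 = n31467 := rfl
theorem F132912 : act 1 n31467 = n21592 := d15_1 D31467 (iv D21592) (iv F92724)
theorem F132913 : act 4 n31467 = n22173 := d33_1 D31467 (iv D22173) (iv F92725)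
theorem F132914 : act 6 n31467 = n21594 := d40_1 D31467 (iv D21594) (iv F92726)
theorem F132915 : act 9 n31467 = n21824 := d44_2 D21591 D31467 (iv D21824) (iv D14994) (iv F64830)
def n31468 : Q := act 3 n21592
theorem D31468 : act 3 n21592 = n31468 := rfl
theorem F132916 : act 0 n31468 = n31468 := d2_1 D31468 (iv D31468) F92727
theorem F132917 : act 6 n31468 = n21595 := d26_2 (iv F92730) D31468 (iv D21595)
theorem F132918 : act 9 n31468 = n21825 := d29_2 (iv F92731) D31468 (iv D21825)
def n31469 : Q := act 8 n21593
theorem D31469 : act 8 n21593 = n31469 := rfl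
theorem F132919 : act 0 n31469 = n21594 := d7_1 D31469 (iv D21594) (iv F92732)
theorem F132920 : act 1 n31469 = n31469 := d15_1 D31469 (iv D31469) F92733
theorem F132921 : act 4 n31469 = n22175 := d33_1 D31469 (iv D22175) (iv F92734)
theorem F132922 : act 7 n31469 = n31469 := d42_1 D31469 (iv D31469) F92735
theorem F132923 : act 9 n31469 = n21826 := d44_2 D21593 D31469 (iv D21826) (iv D14996) (iv F64842)
def n31470 : Q := act 3 n21594
theorem D31470 : act 3 n21594 = n31470 := rfl
theorem F132924 : act 1 n31470 = n21595 := d10_1 D31470 (iv D21595) (iv F92736)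
theorem F132925 : act 7 n31470 = n31470 := d27_2 F92738 D31470 (iv D31470)
theorem F132926 : act 9 n31470 = n21827 := d29_2 (iv F92739) D31470 (iv D21827)
def n31471 : Q := act 4 n21595
theorem D31471 : act 4 n21595 = n31471 := rfl
theorem F132927 : act 0 n31471 = n31471 := d3_1 D31471 (iv D31471) F92740
theorem F132928 : act 3 n31471 = n22177 := d24_1 D31471 (iv D22177) (iv D15239) (iv F64848) D21595
theorem F132929 : act 7 n31471 = n31471 := d32_2 F92741 D31471 (iv D31471)
theorem F132930 : act 9 n31471 = n21828 := d34_2 (iv F92742) D31471 (iv D21828)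
def n31476 : Q := act 8 n21597
theorem D31476 : act 8 n21597 = n31476 := rfl
def n31482 : Q := act 3 n21601
theorem D31482 : act 3 n21601 = n31482 := rfl
theorem F132982 : act 6 n31482 = n21602 := d26_2 (iv F92772) D31482 (iv D21602)
def n31501 : Q := act 4 n21614
theorem D31501 : act 4 n21614 = n31501 := rfl
theorem F133077 : act 0 n31501 = n21646 := d3_1 D31501 (iv D21646) (iv F92838)
theorem F133079 : act 5 n31501 = n23857 := d30_2 D21614 D31501 (iv D23857) (iv D16385) (iv F64908)
def n31502 : Q := act 7 n21614
theorem D31502 : act 7 n21614 = n31502 := rfl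
theorem F133081 : act 0 n31502 = n21647 := d6_1 D31502 (iv D21647) (iv F92838)
theorem F133084 : act 9 n31502 = n21727 := d43_2 (iv F92840) D31502 (iv D21727)
def n31503 : Q := act 8 n21614
theorem D31503 : act 8 n21614 = n31503 := rfl
theorem F133085 : act 0 n31503 = n21648 := d7_1 D31503 (iv D21648) (iv F92838)
def n31504 : Q := act 8 n21615
theorem D31504 : act 8 n21615 = n31504 := rfl
theorem F133087 : act 0 n31504 = n21649 := d7_1 D31504 (iv D21649) (iv F92841)
theorem F133088 : act 4 n31504 = n23860 := d33_1 D31504 (iv D23860) (iv F92843)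
def n31506 : Q := act 9 n21616
theorem D31506 : act 9 n21616 = n31506 := rfl
theorem F133094 : act 0 n31506 = n21651 := d8_1 D31506 (iv D21651) (iv F92846)
theorem F133095 : act 4 n31506 = n23862 := d34_1 D31506 (iv D23862) (iv F92847)
def n31510 : Q := act 6 n21619
theorem D31510 : act 6 n21619 = n31510 := rfl
theorem F133108 : act 0 n31510 = n21655 := d5_1 D31510 (iv D21655) (iv F92856)
theorem F133109 : act 2 n31510 = n21635 := d20_1 D31510 (iv D21635) (iv F92857)
theorem F133112 : act 9 n31510 = n21734 := d41_2 (iv F92860) D31510 (iv D21734)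
def n31519 : Q := act 1 n21624
theorem D31519 : act 1 n21624 = n31519 := rfl
theorem F133143 : act 3 n31519 = n21643 := d10_2 (iv F92878) D31519 (iv D21643)
def n31520 : Q := act 4 n21624
theorem D31520 : act 4 n21624 = n31520 := rfl
theorem F133145 : act 0 n31520 = n21665 := d3_1 D31520 (iv D21665) (iv F92877)
def n31521 : Q := act 9 n21624
theorem D31521 : act 9 n21624 = n31521 := rfl
theorem F133151 : act 3 n31521 = n21644 := d29_1 D31521 (iv D21644) (iv F92878)
def n31522 : Q := act 5 n21625
theorem D31522 : act 5 n21625 = n31522 := rfl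
def n31523 : Q := act 9 n21625
theorem D31523 : act 9 n21625 = n31523 := rfl
theorem F133158 : act 4 n31523 = n21626 := d34_1 D31523 (iv D21626) D21625
def n31524 : Q := act 8 n21626
theorem D31524 : act 8 n21626 = n31524 := rfl
theorem F133161 : act 3 n31524 = n21744 := d28_1 D31524 (iv D21744) F65279 (iv F64932) (iv F92884)
def n31533 : Q := act 8 n21635
theorem D31533 : act 8 n21635 = n31533 := rfl
theorem F133204 : act 0 n31533 = n21678 := d7_1 D31533 (iv D21678) (iv F92927)
theorem F133208 : act 6 n31533 = n21636 := d40_1 D31533 (iv D21636) D21635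
def n31534 : Q := act 3 n21636
theorem D31534 : act 3 n21636 = n31534 := rfl
theorem F133209 : act 0 n31534 = n21679 := d2_1 D31534 (iv D21679) (iv F92932)
theorem F133212 : act 7 n31534 = n21637 := d27_2 (iv F92936) D31534 (iv D21637)
def n31536 : Q := act 2 n21637
theorem D31536 : act 2 n21637 = n31536 := rfl
theorem F133219 : act 0 n31536 = n21681 := d1_1 D31536 (iv D21681) (iv F92937)
theorem F133220 : act 5 n31536 = n21641 := d19_2 (iv F92939) D31536 (iv D21641)
def n31537 : Q := act 4 n21637
theorem D31537 : act 4 n21637 = n31537 := rfl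
def n31538 : Q := act 9 n21637
theorem D31538 : act 9 n21637 = n31538 := rfl
theorem F133227 : act 3 n31538 = n21638 := d29_1 D31538 (iv D21638) D21637
theorem F133228 : act 5 n31538 = n21642 := d38_1 D31538 (iv D21642) (iv F92939)
def n31539 : Q := act 2 n21639
theorem D31539 : act 2 n21639 = n31539 := rfl
theorem F133232 : act 7 n31539 = n21641 := d21_2 (iv F92949) D31539 (iv D21641)
def n31541 : Q := act 1 n21641
theorem D31541 : act 1 n21641 = n31541 := rfl
theorem F133241 : act 6 n31541 = n21643 := d13_2 (iv F92958) D31541 (iv D21643)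
def n31543 : Q := act 8 n21642
theorem D31543 : act 8 n21642 = n31543 := rfl
theorem F133248 : act 3 n31543 = n21755 := d28_1 D31543 (iv D21755) F65319 (iv F64990) (iv F92961)
def n31544 : Q := act 0 n21643
theorem D31544 : act 0 n21643 = n31544 := rfl
theorem F133251 : act 1 n31544 = n21689 := d0_2 D21643 D31544 (iv D21689) (iv D14896) (iv F64991)
def n31546 : Q := act 8 n21644
theorem D31546 : act 8 n21644 = n31546 := rfl
theorem F133260 : act 2 n31546 = n21645 := d22_1 D31546 (iv D21645) (iv F92968)
def n31547 : Q := act 7 n21646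
theorem D31547 : act 7 n21646 = n31547 := rfl
theorem F133263 : act 1 n31547 = n31547 := d14_1 D31547 (iv D31547) F92976
theorem F133264 : act 3 n31547 = n31547 := d27_1 D31547 (iv D31547) F92977
theorem F133265 : act 4 n31547 = n21647 := d32_1 D31547 (iv D21647) D21646
theorem F133266 : act 5 n31547 = n23886 := d36_1 D31547 (iv D23886) (iv F92978)
theorem F133267 : act 9 n31547 = n21759 := d43_2 (iv F92979) D31547 (iv D21759)
def n31548 : Q := act 8 n21646
theorem D31548 : act 8 n21646 = n31548 := rfl
theorem F133268 : act 1 n31548 = n31548 := d15_1 D31548 (iv D31548) F92976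
theorem F133269 : act 4 n31548 = n21648 := d33_1 D31548 (iv D21648) D21646
theorem F133270 : act 5 n31548 = n23887 := d37_1 D31548 (iv D23887) (iv F92978)
def n31549 : Q := act 6 n21647
theorem D31549 : act 6 n21647 = n31549 := rfl
theorem F133271 : act 1 n31549 = n31549 := d13_1 D31549 (iv D31549) F92980
theorem F133272 : act 3 n31549 = n21655 := d26_1 D31549 (iv D21655) (iv F92981)
theorem F133273 : act 5 n31549 = n31549 := d35_1 D31549 (iv D31549) F92982 F65012 (iv F92982)
theorem F133274 : act 9 n31549 = n21761 := d41_2 (iv F92983) D31549 (iv D21761)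
def n31550 : Q := act 8 n21647
theorem D31550 : act 8 n21647 = n31550 := rfl
theorem F133275 : act 1 n31550 = n31550 := d15_1 D31550 (iv D31550) F92980
theorem F133276 : act 5 n31550 = n21649 := d37_1 D31550 (iv D21649) (iv F92982)
theorem F133277 : act 7 n31550 = n21648 := d42_1 D31550 (iv D21648) D21647
def n31551 : Q := act 3 n21648
theorem D31551 : act 3 n21648 = n31551 := rfl
theorem F133280 : act 8 n31551 = n21657 := d28_2 D21648 D31551 (iv D21657) (iv D14873) (iv F65007)
def n31552 : Q := act 9 n21648
theorem D31552 : act 9 n21648 = n31552 := rfl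
theorem F133281 : act 1 n31552 = n31552 := d16_1 D31552 (iv D31552) F92984
theorem F133282 : act 5 n31552 = n21651 := d38_1 D31552 (iv D21651) (iv F92985)
theorem F133283 : act 8 n31552 = n21764 := d44_1 D31552 (iv D21764) (iv D14949) (iv F65008) D21648
def n31553 : Q := act 3 n21649
theorem D31553 : act 3 n21649 = n31553 := rfl
def n31554 : Q := act 9 n21649
theorem D31554 : act 9 n21649 = n31554 := rfl
theorem F133288 : act 1 n31554 = n31554 := d16_1 D31554 (iv D31554) F92986
theorem F133289 : act 4 n31554 = n23893 := d34_1 D31554 (iv D23893) (iv F92987)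
theorem F133290 : act 6 n31554 = n31554 := d41_1 D31554 (iv D31554) F92988
theorem F133291 : act 7 n31554 = n21651 := d43_1 D31554 (iv D21651) (iv F92989)
theorem F133292 : act 8 n31554 = n21766 := d44_1 D31554 (iv D21766) (iv D14950) (iv F65013) D21649
def n31555 : Q := act 2 n21650
theorem D31555 : act 2 n21650 = n31555 := rfl
theorem F133294 : act 8 n31555 = n21661 := d22_2 (iv F92992) D31555 (iv D21661)
def n31557 : Q := act 9 n21650
theorem D31557 : act 9 n21650 = n31557 := rfl
theorem F133300 : act 3 n31557 = n21651 := d29_1 D31557 (iv D21651) D21650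
def n31558 : Q := act 1 n21652
theorem D31558 : act 1 n21652 = n31558 := rfl
theorem F133304 : act 8 n31558 = n21664 := d15_2 (iv F92998) D31558 (iv D21664)
def n31564 : Q := act 8 n21655
theorem D31564 : act 8 n21655 = n31564 := rfl
theorem F133323 : act 2 n31564 = n21678 := d22_1 D31564 (iv D21678) (iv F93007)
def n31565 : Q := act 3 n21656
theorem D31565 : act 3 n21656 = n31565 := rfl
theorem F133329 : act 7 n31565 = n21657 := d27_2 (iv F93015) D31565 (iv D21657)
def n31567 : Q := act 2 n21657
theorem D31567 : act 2 n21657 = n31567 := rfl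
theorem F133336 : act 3 n31567 = n21681 := d17_2 D21657 D31567 (iv D21681) (iv D14890) (iv F65030)
theorem F133337 : act 5 n31567 = n21661 := d19_2 (iv F93017) D31567 (iv D21661)
def n31570 : Q := act 2 n21659
theorem D31570 : act 2 n21659 = n31570 := rfl
theorem F133343 : act 3 n31570 = n21684 := d17_2 D21659 D31570 (iv D21684) (iv D14892) (iv F65034)
theorem F133345 : act 7 n31570 = n21661 := d21_2 (iv F93025) D31570 (iv D21661)
def n31572 : Q := act 9 n21659
theorem D31572 : act 9 n21659 = n31572 := rfl
theorem F133351 : act 3 n31572 = n21660 := d29_1 D31572 (iv D21660) D21659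
theorem F133353 : act 7 n31572 = n21663 := d43_1 D31572 (iv D21663) (iv F93025)
def n31573 : Q := act 1 n21661
theorem D31573 : act 1 n21661 = n31573 := rfl
theorem F133356 : act 6 n31573 = n21664 := d13_2 (iv F93033) D31573 (iv D21664)
def n31574 : Q := act 4 n21661
theorem D31574 : act 4 n21661 = n31574 := rfl
theorem F133359 : act 6 n31574 = n21665 := d31_2 (iv F93033) D31574 (iv D21665)
def n31575 : Q := act 9 n21661
theorem D31575 : act 9 n21661 = n31575 := rfl
theorem F133361 : act 3 n31575 = n21687 := d29_1 D31575 (iv D21687) (iv F93032)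
def n31578 : Q := act 8 n21663
theorem D31578 : act 8 n21663 = n31578 := rfl
theorem F133370 : act 3 n31578 = n21782 := d28_1 D31578 (iv D21782) F65387 (iv F65044) (iv F93038)
def n31579 : Q := act 0 n21664
theorem D31579 : act 0 n21664 = n31579 := rfl
theorem F133373 : act 3 n31579 = n21689 := d2_2 (iv F93041) D31579 (iv D21689)
def n31580 : Q := act 4 n21664
theorem D31580 : act 4 n21664 = n31580 := rfl
def n31583 : Q := act 9 n21665
theorem D31583 : act 9 n21665 = n31583 := rfl
theorem F133388 : act 4 n31583 = n21666 := d34_1 D31583 (iv D21666) D21665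
def n31584 : Q := act 8 n21666
theorem D31584 : act 8 n21666 = n31584 := rfl
theorem F133390 : act 2 n31584 = n21669 := d22_1 D31584 (iv D21669) (iv F93046)
def n31585 : Q := act 6 n21667
theorem D31585 : act 6 n21667 = n31585 := rfl
def n31595 : Q := act 3 n21678
theorem D31595 : act 3 n21678 = n31595 := rfl
theorem F133439 : act 1 n31595 = n21692 := d10_1 D31595 (iv D21692) (iv F93100)
theorem F133440 : act 5 n31595 = n31595 := d25_2 F93102 D31595 (iv D31595)
theorem F133441 : act 6 n31595 = n21679 := d26_2 (iv F93103) D31595 (iv D21679)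
def n31596 : Q := act 9 n21678
theorem D31596 : act 9 n21678 = n31596 := rfl
theorem F133442 : act 1 n31596 = n21693 := d16_1 D31596 (iv D21693) (iv F93100)
def n31597 : Q := act 2 n21679
theorem D31597 : act 2 n21679 = n31597 := rfl
theorem F133447 : act 5 n31597 = n21684 := d19_2 (iv F93105) D31597 (iv D21684)
theorem F133448 : act 7 n31597 = n21681 := d21_2 (iv F93106) D31597 (iv D21681)
def n31598 : Q := act 4 n21679
theorem D31598 : act 4 n21679 = n31598 := rfl
theorem F133449 : act 1 n31598 = n21695 := d11_1 D31598 (iv D21695) (iv F93104)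
theorem F133450 : act 3 n31598 = n31598 := d24_1 D31598 (iv D31598) (iv D21679) F65099 D21679
theorem F133451 : act 5 n31598 = n31598 := d30_2 (iv F93105) D31598 (iv D31598) F93105 F65109
theorem F133452 : act 7 n31598 = n21682 := d32_2 (iv F93106) D31598 (iv D21682)
def n31599 : Q := act 9 n21679
theorem D31599 : act 9 n21679 = n31599 := rfl
theorem F133453 : act 1 n31599 = n21696 := d16_1 D31599 (iv D21696) (iv F93104)
theorem F133454 : act 3 n31599 = n21680 := d29_1 D31599 (iv D21680) D21679
theorem F133456 : act 7 n31599 = n21683 := d43_1 D31599 (iv D21683) (iv F93106)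
def n31600 : Q := act 1 n21681
theorem D31600 : act 1 n21681 = n31600 := rfl
theorem F133457 : act 2 n31600 = n21697 := d9_2 D21681 D31600 (iv D21697) (iv D14902) (iv F65102)
theorem F133458 : act 5 n31600 = n21686 := d12_2 (iv F93112) D31600 (iv D21686)
def n31601 : Q := act 4 n21681
theorem D31601 : act 4 n21681 = n31601 := rfl
theorem F133459 : act 2 n31601 = n21682 := d18_1 D31601 (iv D21682) D21681
theorem F133460 : act 5 n31601 = n31601 := d30_2 (iv F93112) D31601 (iv D31601) F93112 F65117
def n31602 : Q := act 9 n21681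
theorem D31602 : act 9 n21681 = n31602 := rfl
def n31603 : Q := act 9 n21682
theorem D31603 : act 9 n21682 = n31603 := rfl
theorem F133463 : act 1 n31603 = n21700 := d16_1 D31603 (iv D21700) (iv F93113)
def n31604 : Q := act 8 n21683
theorem D31604 : act 8 n21683 = n31604 := rfl
theorem F133467 : act 1 n31604 = n21701 := d15_1 D31604 (iv D21701) (iv F93116)
theorem F133468 : act 3 n31604 = n21795 := d28_1 D31604 (iv D21795) F65417 (iv F65107) (iv F93117)
def n31605 : Q := act 1 n21684
theorem D31605 : act 1 n21684 = n31605 := rfl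
theorem F133470 : act 2 n31605 = n21702 := d9_2 D21684 D31605 (iv D21702) (iv D14905) (iv F65108)
theorem F133471 : act 4 n31605 = n31605 := d11_2 F93119 D31605 (iv D31605)
theorem F133472 : act 6 n31605 = n31605 := d13_2 F93120 D31605 (iv D31605)
theorem F133473 : act 7 n31605 = n21686 := d14_2 (iv F93121) D31605 (iv D21686)
def n31606 : Q := act 9 n21684
theorem D31606 : act 9 n21684 = n31606 := rfl
theorem F133477 : act 7 n31606 = n21687 := d43_1 D31606 (iv D21687) (iv F93121)
def n31607 : Q := act 8 n21685
theorem D31607 : act 8 n21685 = n31607 := rfl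
theorem F133478 : act 1 n31607 = n21704 := d15_1 D31607 (iv D21704) (iv F93122)
def n31608 : Q := act 0 n21686
theorem D31608 : act 0 n21686 = n31608 := rfl
theorem F133483 : act 2 n31608 = n21705 := d1_2 (iv F93127) D31608 (iv D21705)
theorem F133484 : act 4 n31608 = n31608 := d3_2 F93128 D31608 (iv D31608)
theorem F133485 : act 6 n31608 = n21689 := d5_2 (iv F93129) D31608 (iv D21689)
def n31609 : Q := act 9 n21686
theorem D31609 : act 9 n21686 = n31609 := rfl
theorem F133487 : act 2 n31609 = n21706 := d23_1 D31609 (iv D21706) (iv F93127)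
theorem F133489 : act 6 n31609 = n21690 := d41_1 D31609 (iv D21690) (iv F93129)
def n31610 : Q := act 8 n21687
theorem D31610 : act 8 n21687 = n31610 := rfl
theorem F133490 : act 2 n31610 = n21688 := d22_1 D31610 (iv D21688) (iv F93130)
def n31611 : Q := act 9 n21689
theorem D31611 : act 9 n21689 = n31611 := rfl
theorem F133494 : act 2 n31611 = n21708 := d23_1 D31611 (iv D21708) (iv F93137)
def n31612 : Q := act 8 n21690
theorem D31612 : act 8 n21690 = n31612 := rfl
def n31613 : Q := act 3 n21691
theorem D31613 : act 3 n21691 = n31613 := rfl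
theorem F133501 : act 2 n31613 = n21804 := d17_1 D31613 (iv D21804) F65443 (iv F65130) (iv F93144)
def n31614 : Q := act 2 n21692
theorem D31614 : act 2 n21692 = n31614 := rfl
theorem F133503 : act 0 n31614 = n31614 := d1_1 D31614 (iv D31614) F93147
theorem F133504 : act 3 n31614 = n31614 := d17_2 D21692 D31614 (iv D31614) (iv D21692) F65134
theorem F133505 : act 5 n31614 = n31614 := d19_2 F93148 D31614 (iv D31614)
theorem F133506 : act 6 n31614 = n21694 := d20_2 (iv F93149) D31614 (iv D21694)
def n31615 : Q := act 4 n21692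
theorem D31615 : act 4 n21692 = n31615 := rfl
theorem F133507 : act 0 n31615 = n31615 := d3_1 D31615 (iv D31615) F93147
theorem F133508 : act 3 n31615 = n31615 := d24_1 D31615 (iv D31615) (iv D21692) F65135 D21692
theorem F133509 : act 6 n31615 = n21695 := d31_2 (iv F93149) D31615 (iv D21695)
def n31616 : Q := act 9 n21692
theorem D31616 : act 9 n21692 = n31616 := rfl
theorem F133510 : act 0 n31616 = n31616 := d8_1 D31616 (iv D31616) F93147
theorem F133511 : act 3 n31616 = n21693 := d29_1 D31616 (iv D21693) D21692
theorem F133512 : act 5 n31616 = n31616 := d38_1 D31616 (iv D31616) F93148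
theorem F133513 : act 6 n31616 = n21696 := d41_1 D31616 (iv D21696) (iv F93149)
def n31617 : Q := act 1 n21694
theorem D31617 : act 1 n21694 = n31617 := rfl
theorem F133514 : act 3 n31617 = n31617 := d10_2 F93157 D31617 (iv D31617)
theorem F133515 : act 5 n31617 = n21702 := d12_2 (iv F93158) D31617 (iv D21702)
theorem F133516 : act 7 n31617 = n21697 := d14_2 (iv F93159) D31617 (iv D21697)
def n31618 : Q := act 4 n21694
theorem D31618 : act 4 n21694 = n31618 := rfl
theorem F133520 : act 7 n31618 = n21698 := d32_2 (iv F93159) D31618 (iv D21698)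
def n31619 : Q := act 9 n21694
theorem D31619 : act 9 n21694 = n31619 := rfl
theorem F133522 : act 2 n31619 = n21696 := d23_1 D31619 (iv D21696) D21694
theorem F133524 : act 5 n31619 = n21703 := d38_1 D31619 (iv D21703) (iv F93158)
theorem F133525 : act 7 n31619 = n21699 := d43_1 D31619 (iv D21699) (iv F93159)
def n31620 : Q := act 9 n21695
theorem D31620 : act 9 n21695 = n31620 := rfl
theorem F133528 : act 4 n31620 = n21696 := d34_1 D31620 (iv D21696) D21695
theorem F133530 : act 7 n31620 = n21700 := d43_1 D31620 (iv D21700) (iv F93163)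
def n31621 : Q := act 8 n21696
theorem D31621 : act 8 n21696 = n31621 := rfl
theorem F133532 : act 3 n31621 = n21812 := d28_1 D31621 (iv D21812) F65463 (iv F65146) (iv F93165)
theorem F133534 : act 7 n31621 = n21701 := d42_1 D31621 (iv D21701) (iv F93167)
def n31622 : Q := act 0 n21697
theorem D31622 : act 0 n21697 = n31622 := rfl
theorem F133535 : act 1 n31622 = n31622 := d0_2 D21697 D31622 (iv D31622) (iv D21697) F65147
theorem F133536 : act 3 n31622 = n31622 := d2_2 F93168 D31622 (iv D31622)
theorem F133537 : act 5 n31622 = n21705 := d4_2 (iv F93169) D31622 (iv D21705)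
def n31623 : Q := act 4 n21697
theorem D31623 : act 4 n21697 = n31623 := rfl
theorem F133538 : act 1 n31623 = n21698 := d11_1 D31623 (iv D21698) D21697
theorem F133539 : act 5 n31623 = n31623 := d30_2 (iv F93169) D31623 (iv D31623) F93169 F65167
def n31624 : Q := act 9 n21697
theorem D31624 : act 9 n21697 = n31624 := rfl
theorem F133540 : act 1 n31624 = n21699 := d16_1 D31624 (iv D21699) D21697
theorem F133541 : act 3 n31624 = n31624 := d29_1 D31624 (iv D31624) F93168
theorem F133542 : act 5 n31624 = n21706 := d38_1 D31624 (iv D21706) (iv F93169)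
def n31625 : Q := act 3 n21698
theorem D31625 : act 3 n21698 = n31625 := rfl
def n31626 : Q := act 9 n21698
theorem D31626 : act 9 n21698 = n31626 := rfl
theorem F133548 : act 2 n31626 = n21700 := d23_1 D31626 (iv D21700) (iv F93171)
theorem F133549 : act 4 n31626 = n21699 := d34_1 D31626 (iv D21699) D21698
def n31627 : Q := act 8 n21699
theorem D31627 : act 8 n21699 = n31627 := rfl
theorem F133551 : act 0 n31627 = n31627 := d7_1 D31627 (iv D31627) F93173
theorem F133552 : act 2 n31627 = n21701 := d22_1 D31627 (iv D21701) (iv F93174)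
theorem F133553 : act 5 n31627 = n21707 := d37_1 D31627 (iv D21707) (iv F93176)
def n31628 : Q := act 8 n21700
theorem D31628 : act 8 n21700 = n31628 := rfl
theorem F133554 : act 0 n31628 = n31628 := d7_1 D31628 (iv D31628) F93177
theorem F133555 : act 4 n31628 = n21701 := d33_1 D31628 (iv D21701) (iv F93179)
theorem F133556 : act 5 n31628 = n31628 := d37_1 D31628 (iv D31628) F93180
def n31629 : Q := act 0 n21702
theorem D31629 : act 0 n21702 = n31629 := rfl
theorem F133557 : act 1 n31629 = n31629 := d0_2 D21702 D31629 (iv D31629) (iv D21702) F65156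
theorem F133558 : act 3 n31629 = n31629 := d2_2 F93184 D31629 (iv D31629)
theorem F133559 : act 4 n31629 = n31629 := d3_2 F93185 D31629 (iv D31629)
theorem F133560 : act 6 n31629 = n31629 := d5_2 F93186 D31629 (iv D31629)
theorem F133561 : act 7 n31629 = n21705 := d6_2 (iv F93187) D31629 (iv D21705)
def n31630 : Q := act 9 n21702
theorem D31630 : act 9 n21702 = n31630 := rfl
theorem F133562 : act 1 n31630 = n21703 := d16_1 D31630 (iv D21703) D21702
theorem F133563 : act 3 n31630 = n31630 := d29_1 D31630 (iv D31630) F93184
theorem F133564 : act 4 n31630 = n31630 := d34_1 D31630 (iv D31630) F93185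
theorem F133565 : act 6 n31630 = n31630 := d41_1 D31630 (iv D31630) F93186
theorem F133566 : act 7 n31630 = n21706 := d43_1 D31630 (iv D21706) (iv F93187)
def n31631 : Q := act 8 n21703
theorem D31631 : act 8 n21703 = n31631 := rfl
theorem F133567 : act 0 n31631 = n31631 := d7_1 D31631 (iv D31631) F93188
theorem F133568 : act 2 n31631 = n21704 := d22_1 D31631 (iv D21704) (iv F93189)
theorem F133569 : act 4 n31631 = n31631 := d33_1 D31631 (iv D31631) F93191
theorem F133570 : act 6 n31631 = n31631 := d40_1 D31631 (iv D31631) F93192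
theorem F133571 : act 7 n31631 = n21707 := d42_1 D31631 (iv D21707) (iv F93193)
def n31632 : Q := act 9 n21705
theorem D31632 : act 9 n21705 = n31632 := rfl
theorem F133572 : act 0 n31632 = n21706 := d8_1 D31632 (iv D21706) D21705
theorem F133573 : act 1 n31632 = n31632 := d16_1 D31632 (iv D31632) F93199
theorem F133574 : act 3 n31632 = n31632 := d29_1 D31632 (iv D31632) F93200
theorem F133575 : act 4 n31632 = n31632 := d34_1 D31632 (iv D31632) F93201
theorem F133576 : act 6 n31632 = n21708 := d41_1 D31632 (iv D21708) (iv F93202)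
def n31633 : Q := act 8 n21706
theorem D31633 : act 8 n21706 = n31633 := rfl
theorem F133577 : act 1 n31633 = n21707 := d15_1 D31633 (iv D21707) (iv F93203)
theorem F133578 : act 4 n31633 = n31633 := d33_1 D31633 (iv D31633) F93205
theorem F133579 : act 6 n31633 = n21709 := d40_1 D31633 (iv D21709) (iv F93206)
def n31634 : Q := act 3 n21707
theorem D31634 : act 3 n21707 = n31634 := rfl
theorem F133580 : act 0 n31634 = n31634 := d2_1 D31634 (iv D31634) F93207
theorem F133581 : act 2 n31634 = n21825 := d17_1 D31634 (iv D21825) F65504 (iv F65175) (iv F93208)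
theorem F133582 : act 6 n31634 = n21710 := d26_2 (iv F93210) D31634 (iv D21710)
theorem F133583 : act 8 n31634 = n31634 := d28_2 D21707 D31634 (iv D31634) (iv D21707) F65171
def n31635 : Q := act 8 n21708
theorem D31635 : act 8 n21708 = n31635 := rfl
theorem F133584 : act 0 n31635 = n21709 := d7_1 D31635 (iv D21709) (iv F93211)
theorem F133585 : act 1 n31635 = n31635 := d15_1 D31635 (iv D31635) F93212
theorem F133586 : act 4 n31635 = n31635 := d33_1 D31635 (iv D31635) F93214
theorem F133587 : act 7 n31635 = n31635 := d42_1 D31635 (iv D31635) F93215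
def n31636 : Q := act 3 n21709
theorem D31636 : act 3 n21709 = n31636 := rfl
theorem F133588 : act 1 n31636 = n21710 := d10_1 D31636 (iv D21710) (iv F93216)
theorem F133589 : act 7 n31636 = n31636 := d27_2 F93218 D31636 (iv D31636)
theorem F133590 : act 8 n31636 = n31636 := d28_2 D21709 D31636 (iv D31636) (iv D21709) F65183
def n31637 : Q := act 4 n21710
theorem D31637 : act 4 n21710 = n31637 := rfl
theorem F133591 : act 0 n31637 = n31637 := d3_1 D31637 (iv D31637) F93219
theorem F133592 : act 2 n31637 = n21828 := d18_1 D31637 (iv D21828) (iv F93220)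
theorem F133593 : act 3 n31637 = n31637 := d24_1 D31637 (iv D31637) (iv D21710) F65188 D21710
theorem F133594 : act 7 n31637 = n31637 := d32_2 F93221 D31637 (iv D31637)
theorem F133595 : act 8 n31637 = n31637 := d33_2 F93222 D31637 (iv D31637)
def n31638 : Q := act 5 n21711
theorem D31638 : act 5 n21711 = n31638 := rfl
theorem F133597 : act 2 n31638 = n21713 := d19_1 D31638 (iv D21713) (iv F93224)
def n31639 : Q := act 7 n21711
theorem D31639 : act 7 n21711 = n31639 := rfl
theorem F133600 : act 2 n31639 = n21714 := d21_1 D31639 (iv D21714) (iv F93224)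
def n31640 : Q := act 8 n21711
theorem D31640 : act 8 n21711 = n31640 := rfl
theorem F133606 : act 4 n31640 = n23935 := d33_1 D31640 (iv D23935) (iv F93226)
def n31641 : Q := act 3 n21712
theorem D31641 : act 3 n21712 = n31641 := rfl
def n31642 : Q := act 9 n21712
theorem D31642 : act 9 n21712 = n31642 := rfl
theorem F133613 : act 4 n31642 = n23937 := d34_1 D31642 (iv D23937) (iv F93229)
def n31643 : Q := act 4 n21713
theorem D31643 : act 4 n21713 = n31643 := rfl
theorem F133616 : act 1 n31643 = n21726 := d11_1 D31643 (iv D21726) (iv F93232)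
theorem F133618 : act 5 n31643 = n23938 := d30_2 D21713 D31643 (iv D23938) (iv D16444) (iv F65197)
def n31644 : Q := act 7 n21713
theorem D31644 : act 7 n21713 = n31644 := rfl
theorem F133620 : act 1 n31644 = n21727 := d14_1 D31644 (iv D21727) (iv F93232)
theorem F133621 : act 3 n31644 = n21718 := d27_1 D31644 (iv D21718) (iv F93233)
theorem F133622 : act 5 n31644 = n21714 := d36_1 D31644 (iv D21714) D21713
def n31645 : Q := act 8 n21713
theorem D31645 : act 8 n21713 = n31645 := rfl
theorem F133624 : act 1 n31645 = n21728 := d15_1 D31645 (iv D21728) (iv F93232)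
theorem F133625 : act 5 n31645 = n21715 := d37_1 D31645 (iv D21715) D21713
def n31646 : Q := act 8 n21714
theorem D31646 : act 8 n21714 = n31646 := rfl
theorem F133627 : act 1 n31646 = n21729 := d15_1 D31646 (iv D21729) (iv F93235)
theorem F133628 : act 4 n31646 = n23941 := d33_1 D31646 (iv D23941) (iv F93237)
def n31648 : Q := act 9 n21715
theorem D31648 : act 9 n21715 = n31648 := rfl
def n31651 : Q := act 6 n21718
theorem D31651 : act 6 n21718 = n31651 := rfl
theorem F133650 : act 1 n31651 = n21734 := d13_1 D31651 (iv D21734) (iv F93253)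
def n31662 : Q := act 7 n21726
theorem D31662 : act 7 n21726 = n31662 := rfl
theorem F133701 : act 0 n31662 = n21759 := d6_1 D31662 (iv D21759) (iv F93293)
theorem F133703 : act 4 n31662 = n21727 := d32_1 D31662 (iv D21727) D21726
theorem F133704 : act 5 n31662 = n23944 := d36_1 D31662 (iv D23944) (iv F93295)
def n31663 : Q := act 8 n21726
theorem D31663 : act 8 n21726 = n31663 := rfl
theorem F133705 : act 0 n31663 = n21760 := d7_1 D31663 (iv D21760) (iv F93293)
theorem F133706 : act 4 n31663 = n21728 := d33_1 D31663 (iv D21728) D21726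
theorem F133707 : act 5 n31663 = n23945 := d37_1 D31663 (iv D23945) (iv F93295)
def n31664 : Q := act 6 n21727
theorem D31664 : act 6 n21727 = n31664 := rfl
theorem F133708 : act 0 n31664 = n21761 := d5_1 D31664 (iv D21761) (iv F93296)
theorem F133709 : act 3 n31664 = n21734 := d26_1 D31664 (iv D21734) (iv F93297)
def n31665 : Q := act 8 n21727
theorem D31665 : act 8 n21727 = n31665 := rfl
theorem F133711 : act 0 n31665 = n21762 := d7_1 D31665 (iv D21762) (iv F93296)
theorem F133712 : act 5 n31665 = n21729 := d37_1 D31665 (iv D21729) (iv F93298)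
theorem F133713 : act 7 n31665 = n21728 := d42_1 D31665 (iv D21728) D21727
def n31666 : Q := act 3 n21728
theorem D31666 : act 3 n21728 = n31666 := rfl
theorem F133714 : act 0 n31666 = n21763 := d2_1 D31666 (iv D21763) (iv F93299)
def n31667 : Q := act 9 n21728
theorem D31667 : act 9 n21728 = n31667 := rfl
theorem F133717 : act 0 n31667 = n21764 := d8_1 D31667 (iv D21764) (iv F93299)
theorem F133718 : act 5 n31667 = n21731 := d38_1 D31667 (iv D21731) (iv F93300)
def n31668 : Q := act 3 n21729
theorem D31668 : act 3 n21729 = n31668 := rfl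
theorem F133719 : act 0 n31668 = n21765 := d2_1 D31668 (iv D21765) (iv F93301)
def n31669 : Q := act 9 n21729
theorem D31669 : act 9 n21729 = n31669 := rfl
theorem F133724 : act 0 n31669 = n21766 := d8_1 D31669 (iv D21766) (iv F93301)
theorem F133725 : act 4 n31669 = n23949 := d34_1 D31669 (iv D23949) (iv F93302)
theorem F133726 : act 6 n31669 = n31669 := d41_1 D31669 (iv D31669) F93303
theorem F133727 : act 7 n31669 = n21731 := d43_1 D31669 (iv D21731) (iv F93304)
def n31670 : Q := act 2 n21730
theorem D31670 : act 2 n21730 = n31670 := rfl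
theorem F133728 : act 0 n31670 = n21767 := d1_1 D31670 (iv D21767) (iv F93305)
def n31671 : Q := act 9 n21730
theorem D31671 : act 9 n21730 = n31671 := rfl
theorem F133732 : act 0 n31671 = n21768 := d8_1 D31671 (iv D21768) (iv F93305)
theorem F133733 : act 3 n31671 = n21731 := d29_1 D31671 (iv D21731) D21730
def n31672 : Q := act 1 n21732
theorem D31672 : act 1 n21732 = n31672 := rfl
def n31673 : Q := act 9 n21732
theorem D31673 : act 9 n21732 = n31673 := rfl
theorem F133739 : act 0 n31673 = n21770 := d8_1 D31673 (iv D21770) (iv F93312)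
def n31674 : Q := act 8 n21733
theorem D31674 : act 8 n21733 = n31674 := rfl
theorem F133746 : act 9 n31674 = n21744 := d44_2 D21733 D31674 (iv D21744) (iv D14934) (iv F65250)
def n31675 : Q := act 8 n21734
theorem D31675 : act 8 n21734 = n31675 := rfl
theorem F133747 : act 0 n31675 = n21772 := d7_1 D31675 (iv D21772) (iv F93320)
theorem F133748 : act 2 n31675 = n21745 := d22_1 D31675 (iv D21745) (iv F93321)
def n31676 : Q := act 3 n21735
theorem D31676 : act 3 n21735 = n31676 := rfl
theorem F133752 : act 0 n31676 = n21773 := d2_1 D31676 (iv D21773) (iv F93324)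
def n31678 : Q := act 2 n21736
theorem D31678 : act 2 n21736 = n31678 := rfl
theorem F133760 : act 0 n31678 = n21775 := d1_1 D31678 (iv D21775) (iv F93329)
theorem F133761 : act 3 n31678 = n21748 := d17_2 D21736 D31678 (iv D21748) (iv D14938) (iv F65259)
theorem F133762 : act 5 n31678 = n21740 := d19_2 (iv F93330) D31678 (iv D21740)
def n31679 : Q := act 4 n21736
theorem D31679 : act 4 n21736 = n31679 := rfl
theorem F133763 : act 0 n31679 = n21776 := d3_1 D31679 (iv D21776) (iv F93329)
def n31681 : Q := act 2 n21738
theorem D31681 : act 2 n21738 = n31681 := rfl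
theorem F133769 : act 0 n31681 = n21778 := d1_1 D31681 (iv D21778) (iv F93335)
theorem F133770 : act 3 n31681 = n21751 := d17_2 D21738 D31681 (iv D21751) (iv D14940) (iv F65263)
def n31683 : Q := act 1 n21740
theorem D31683 : act 1 n21740 = n31683 := rfl
theorem F133779 : act 3 n31683 = n21753 := d10_2 (iv F93345) D31683 (iv D21753)
def n31686 : Q := act 0 n21742
theorem D31686 : act 0 n21742 = n31686 := rfl
theorem F133790 : act 1 n31686 = n21783 := d0_2 D21742 D31686 (iv D21783) (iv D14963) (iv F65274)
theorem F133791 : act 3 n31686 = n21756 := d2_2 (iv F93352) D31686 (iv D21756)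
def n31688 : Q := act 8 n21743
theorem D31688 : act 8 n21743 = n31688 := rfl
theorem F133799 : act 2 n31688 = n21744 := d22_1 D31688 (iv D21744) (iv F93356)
def n31689 : Q := act 3 n21745
theorem D31689 : act 3 n21745 = n31689 := rfl
theorem F133802 : act 0 n31689 = n21786 := d2_1 D31689 (iv D21786) (iv F93363)
theorem F133803 : act 1 n31689 = n31689 := d10_1 D31689 (iv D31689) F93364
theorem F133804 : act 5 n31689 = n31689 := d25_2 F93366 D31689 (iv D31689)
theorem F133805 : act 6 n31689 = n21746 := d26_2 (iv F93367) D31689 (iv D21746)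
def n31690 : Q := act 9 n21745
theorem D31690 : act 9 n21745 = n31690 := rfl
def n31691 : Q := act 2 n21746
theorem D31691 : act 2 n21746 = n31691 := rfl
theorem F133811 : act 0 n31691 = n21788 := d1_1 D31691 (iv D21788) (iv F93368)
theorem F133812 : act 5 n31691 = n21751 := d19_2 (iv F93370) D31691 (iv D21751)
theorem F133813 : act 7 n31691 = n21748 := d21_2 (iv F93371) D31691 (iv D21748)
def n31692 : Q := act 4 n21746
theorem D31692 : act 4 n21746 = n31692 := rfl
theorem F133814 : act 0 n31692 = n21789 := d3_1 D31692 (iv D21789) (iv F93368)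
theorem F133815 : act 1 n31692 = n31692 := d11_1 D31692 (iv D31692) F93369
theorem F133816 : act 3 n31692 = n31692 := d24_1 D31692 (iv D31692) (iv D21746) F65294 D21746
theorem F133817 : act 5 n31692 = n22181 := d30_2 (iv F93370) D31692 (iv D22181) F66563 (iv F65306)
theorem F133818 : act 7 n31692 = n21749 := d32_2 (iv F93371) D31692 (iv D21749)
def n31693 : Q := act 9 n21746
theorem D31693 : act 9 n21746 = n31693 := rfl
def n31694 : Q := act 1 n21748
theorem D31694 : act 1 n21748 = n31694 := rfl
theorem F133824 : act 2 n31694 = n31694 := d9_2 D21748 D31694 (iv D31694) (iv D21748) F65298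
theorem F133825 : act 5 n31694 = n21753 := d12_2 (iv F93378) D31694 (iv D21753)
def n31695 : Q := act 4 n21748
theorem D31695 : act 4 n21748 = n31695 := rfl
theorem F133826 : act 0 n31695 = n21792 := d3_1 D31695 (iv D21792) (iv F93377)
theorem F133827 : act 2 n31695 = n21749 := d18_1 D31695 (iv D21749) D21748
theorem F133828 : act 5 n31695 = n22184 := d30_2 (iv F93378) D31695 (iv D22184) F66574 (iv F65315)
def n31696 : Q := act 9 n21748
theorem D31696 : act 9 n21748 = n31696 := rfl
theorem F133829 : act 0 n31696 = n21793 := d8_1 D31696 (iv D21793) (iv F93377)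
theorem F133830 : act 2 n31696 = n21750 := d23_1 D31696 (iv D21750) D21748
def n31697 : Q := act 9 n21749
theorem D31697 : act 9 n21749 = n31697 := rfl
theorem F133832 : act 0 n31697 = n21794 := d8_1 D31697 (iv D21794) (iv F93379)
theorem F133835 : act 4 n31697 = n21750 := d34_1 D31697 (iv D21750) D21749
theorem F133836 : act 5 n31697 = n22186 := d38_1 D31697 (iv D22186) (iv F93382)
def n31698 : Q := act 8 n21750
theorem D31698 : act 8 n21750 = n31698 := rfl
def n31699 : Q := act 1 n21751
theorem D31699 : act 1 n21751 = n31699 := rfl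
theorem F133840 : act 2 n31699 = n31699 := d9_2 D21751 D31699 (iv D31699) (iv D21751) F65305
theorem F133841 : act 4 n31699 = n22188 := d11_2 (iv F93388) D31699 (iv D22188)
theorem F133842 : act 6 n31699 = n31699 := d13_2 F93389 D31699 (iv D31699)
theorem F133843 : act 7 n31699 = n21753 := d14_2 (iv F93390) D31699 (iv D21753)
def n31700 : Q := act 9 n21751
theorem D31700 : act 9 n21751 = n31700 := rfl
theorem F133844 : act 0 n31700 = n21797 := d8_1 D31700 (iv D21797) (iv F93387)
theorem F133846 : act 4 n31700 = n22189 := d34_1 D31700 (iv D22189) (iv F93388)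
def n31702 : Q := act 0 n21753
theorem D31702 : act 0 n21753 = n31702 := rfl
theorem F133854 : act 1 n31702 = n21799 := d0_2 D21753 D31702 (iv D21799) (iv D14974) (iv F65314)
theorem F133855 : act 2 n31702 = n31702 := d1_2 F93397 D31702 (iv D31702)
theorem F133856 : act 4 n31702 = n22191 := d3_2 (iv F93398) D31702 (iv D22191)
theorem F133857 : act 6 n31702 = n21756 := d5_2 (iv F93399) D31702 (iv D21756)
def n31703 : Q := act 9 n21753
theorem D31703 : act 9 n21753 = n31703 := rfl
theorem F133858 : act 1 n31703 = n21754 := d16_1 D31703 (iv D21754) D21753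
theorem F133860 : act 4 n31703 = n22192 := d34_1 D31703 (iv D22192) (iv F93398)
def n31704 : Q := act 8 n21754
theorem D31704 : act 8 n21754 = n31704 := rfl
theorem F133862 : act 0 n31704 = n21801 := d7_1 D31704 (iv D21801) (iv F93400)
theorem F133863 : act 2 n31704 = n21755 := d22_1 D31704 (iv D21755) (iv F93401)
theorem F133864 : act 4 n31704 = n22193 := d33_1 D31704 (iv D22193) (iv F93402)
theorem F133865 : act 6 n31704 = n21758 := d40_1 D31704 (iv D21758) (iv F93403)
def n31705 : Q := act 9 n21756
theorem D31705 : act 9 n21756 = n31705 := rfl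
theorem F133866 : act 0 n31705 = n21757 := d8_1 D31705 (iv D21757) D21756
theorem F133867 : act 1 n31705 = n21802 := d16_1 D31705 (iv D21802) (iv F93408)
theorem F133869 : act 4 n31705 = n22194 := d34_1 D31705 (iv D22194) (iv F93410)
def n31706 : Q := act 8 n21757
theorem D31706 : act 8 n21757 = n31706 := rfl
theorem F133871 : act 1 n31706 = n21758 := d15_1 D31706 (iv D21758) (iv F93412)
theorem F133873 : act 4 n31706 = n22195 := d33_1 D31706 (iv D22195) (iv F93414)
def n31707 : Q := act 3 n21758
theorem D31707 : act 3 n21758 = n31707 := rfl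
theorem F133875 : act 0 n31707 = n21804 := d2_1 D31707 (iv D21804) (iv F93416)
def n31708 : Q := act 6 n21759
theorem D31708 : act 6 n21759 = n31708 := rfl
theorem F133879 : act 4 n31708 = n21761 := d31_1 D31708 (iv D21761) (iv F93422)
def n31709 : Q := act 8 n21759
theorem D31709 : act 8 n21759 = n31709 := rfl
theorem F133880 : act 1 n31709 = n31709 := d15_1 D31709 (iv D31709) F93420
theorem F133881 : act 4 n31709 = n21762 := d33_1 D31709 (iv D21762) (iv F93422)
theorem F133882 : act 5 n31709 = n23951 := d37_1 D31709 (iv D23951) (iv F93423)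
theorem F133883 : act 7 n31709 = n21760 := d42_1 D31709 (iv D21760) D21759
def n31710 : Q := act 3 n21760
theorem D31710 : act 3 n21760 = n31710 := rfl
theorem F133884 : act 1 n31710 = n31710 := d10_1 D31710 (iv D31710) F93424
theorem F133885 : act 5 n31710 = n23952 := d25_2 (iv F93426) D31710 (iv D23952)
theorem F133886 : act 8 n31710 = n31710 := d28_2 D21760 D31710 (iv D31710) (iv D21760) F65334
def n31711 : Q := act 9 n21760
theorem D31711 : act 9 n21760 = n31711 := rfl
theorem F133887 : act 1 n31711 = n31711 := d16_1 D31711 (iv D31711) F93424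
theorem F133888 : act 4 n31711 = n21764 := d34_1 D31711 (iv D21764) (iv F93425)
theorem F133889 : act 5 n31711 = n23953 := d38_1 D31711 (iv D23953) (iv F93426)
def n31712 : Q := act 8 n21761
theorem D31712 : act 8 n21761 = n31712 := rfl
theorem F133890 : act 1 n31712 = n31712 := d15_1 D31712 (iv D31712) F93427
theorem F133891 : act 5 n31712 = n31712 := d37_1 D31712 (iv D31712) F93429
theorem F133892 : act 6 n31712 = n21762 := d40_1 D31712 (iv D21762) D21761
def n31713 : Q := act 3 n21762
theorem D31713 : act 3 n21762 = n31713 := rfl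
theorem F133893 : act 1 n31713 = n31713 := d10_1 D31713 (iv D31713) F93430
theorem F133894 : act 5 n31713 = n21765 := d25_2 (iv F93431) D31713 (iv D21765)
theorem F133895 : act 7 n31713 = n21763 := d27_2 (iv F93432) D31713 (iv D21763)
theorem F133896 : act 8 n31713 = n21773 := d28_2 D21762 D31713 (iv D21773) (iv D14956) (iv F65337)
def n31714 : Q := act 9 n21762
theorem D31714 : act 9 n21762 = n31714 := rfl
theorem F133897 : act 1 n31714 = n31714 := d16_1 D31714 (iv D31714) F93430
theorem F133898 : act 5 n31714 = n21766 := d38_1 D31714 (iv D21766) (iv F93431)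
theorem F133899 : act 7 n31714 = n21764 := d43_1 D31714 (iv D21764) (iv F93432)
def n31715 : Q := act 2 n21763
theorem D31715 : act 2 n21763 = n31715 := rfl
theorem F133900 : act 5 n31715 = n21767 := d19_2 (iv F93434) D31715 (iv D21767)
theorem F133901 : act 8 n31715 = n21775 := d22_2 (iv F93435) D31715 (iv D21775)
def n31716 : Q := act 4 n21763
theorem D31716 : act 4 n21763 = n31716 := rfl
theorem F133902 : act 1 n31716 = n31716 := d11_1 D31716 (iv D31716) F93433
theorem F133903 : act 5 n31716 = n31716 := d30_2 (iv F93434) D31716 (iv D31716) F93434 F65346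
theorem F133904 : act 8 n31716 = n21776 := d33_2 (iv F93435) D31716 (iv D21776)
def n31717 : Q := act 9 n21763
theorem D31717 : act 9 n21763 = n31717 := rfl
theorem F133905 : act 1 n31717 = n31717 := d16_1 D31717 (iv D31717) F93433
theorem F133906 : act 3 n31717 = n21764 := d29_1 D31717 (iv D21764) D21763
theorem F133907 : act 5 n31717 = n21768 := d38_1 D31717 (iv D21768) (iv F93434)
def n31718 : Q := act 2 n21765
theorem D31718 : act 2 n21765 = n31718 := rfl
theorem F133908 : act 4 n31718 = n31718 := d18_2 F93439 D31718 (iv D31718)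
theorem F133909 : act 6 n31718 = n31718 := d20_2 F93440 D31718 (iv D31718)
theorem F133910 : act 7 n31718 = n21767 := d21_2 (iv F93441) D31718 (iv D21767)
theorem F133911 : act 8 n31718 = n21778 := d22_2 (iv F93442) D31718 (iv D21778)
def n31719 : Q := act 9 n21765
theorem D31719 : act 9 n21765 = n31719 := rfl
theorem F133912 : act 1 n31719 = n31719 := d16_1 D31719 (iv D31719) F93438
theorem F133913 : act 3 n31719 = n21766 := d29_1 D31719 (iv D21766) D21765
theorem F133914 : act 4 n31719 = n31719 := d34_1 D31719 (iv D31719) F93439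
theorem F133915 : act 6 n31719 = n31719 := d41_1 D31719 (iv D31719) F93440
theorem F133916 : act 7 n31719 = n21768 := d43_1 D31719 (iv D21768) (iv F93441)
def n31720 : Q := act 1 n21767
theorem D31720 : act 1 n21767 = n31720 := rfl
theorem F133917 : act 2 n31720 = n31720 := d9_2 D21767 D31720 (iv D31720) (iv D21767) F65345
theorem F133918 : act 4 n31720 = n31720 := d11_2 F93447 D31720 (iv D31720)
theorem F133919 : act 6 n31720 = n21769 := d13_2 (iv F93448) D31720 (iv D21769)
theorem F133920 : act 8 n31720 = n21780 := d15_2 (iv F93449) D31720 (iv D21780)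
def n31721 : Q := act 9 n21767
theorem D31721 : act 9 n21767 = n31721 := rfl
theorem F133921 : act 2 n31721 = n21768 := d23_1 D31721 (iv D21768) D21767
theorem F133922 : act 4 n31721 = n31721 := d34_1 D31721 (iv D31721) F93447
theorem F133923 : act 6 n31721 = n21770 := d41_1 D31721 (iv D21770) (iv F93448)
def n31722 : Q := act 8 n21768
theorem D31722 : act 8 n21768 = n31722 := rfl
theorem F133927 : act 9 n31722 = n21782 := d44_2 D21768 D31722 (iv D21782) (iv D14962) (iv F65348)
def n31723 : Q := act 0 n21769
theorem D31723 : act 0 n21769 = n31723 := rfl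
theorem F133928 : act 2 n31723 = n31723 := d1_2 F93454 D31723 (iv D31723)
theorem F133929 : act 4 n31723 = n31723 := d3_2 F93455 D31723 (iv D31723)
theorem F133930 : act 7 n31723 = n31723 := d6_2 F93456 D31723 (iv D31723)
theorem F133931 : act 8 n31723 = n21783 := d7_2 (iv F93457) D31723 (iv D21783)
def n31724 : Q := act 9 n21769
theorem D31724 : act 9 n21769 = n31724 := rfl
theorem F133932 : act 1 n31724 = n21770 := d16_1 D31724 (iv D21770) D21769
theorem F133933 : act 2 n31724 = n31724 := d23_1 D31724 (iv D31724) F93454
theorem F133934 : act 4 n31724 = n31724 := d34_1 D31724 (iv D31724) F93455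
theorem F133935 : act 7 n31724 = n31724 := d43_1 D31724 (iv D31724) F93456
def n31725 : Q := act 8 n21770
theorem D31725 : act 8 n21770 = n31725 := rfl
theorem F133939 : act 9 n31725 = n21785 := d44_2 D21770 D31725 (iv D21785) (iv D14964) (iv F65354)
def n31726 : Q := act 3 n21772
theorem D31726 : act 3 n21772 = n31726 := rfl
theorem F133940 : act 1 n31726 = n31726 := d10_1 D31726 (iv D31726) F93465
theorem F133941 : act 5 n31726 = n31726 := d25_2 F93468 D31726 (iv D31726)
theorem F133942 : act 6 n31726 = n21773 := d26_2 (iv F93469) D31726 (iv D21773)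
def n31727 : Q := act 9 n21772
theorem D31727 : act 9 n21772 = n31727 := rfl
def n31728 : Q := act 2 n21773
theorem D31728 : act 2 n21773 = n31728 := rfl
theorem F133948 : act 3 n31728 = n21788 := d17_2 D21773 D31728 (iv D21788) (iv D14967) (iv F65364)
theorem F133949 : act 5 n31728 = n21778 := d19_2 (iv F93471) D31728 (iv D21778)
theorem F133950 : act 7 n31728 = n21775 := d21_2 (iv F93472) D31728 (iv D21775)
def n31729 : Q := act 4 n21773
theorem D31729 : act 4 n21773 = n31729 := rfl
theorem F133951 : act 1 n31729 = n31729 := d11_1 D31729 (iv D31729) F93470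
theorem F133952 : act 3 n31729 = n31729 := d24_1 D31729 (iv D31729) (iv D21773) F65365 D21773
theorem F133953 : act 5 n31729 = n31729 := d30_2 (iv F93471) D31729 (iv D31729) F93471 F65375
theorem F133954 : act 7 n31729 = n21776 := d32_2 (iv F93472) D31729 (iv D21776)
def n31730 : Q := act 9 n21773
theorem D31730 : act 9 n21773 = n31730 := rfl
def n31731 : Q := act 1 n21775
theorem D31731 : act 1 n21775 = n31731 := rfl
theorem F133959 : act 2 n31731 = n31731 := d9_2 D21775 D31731 (iv D31731) (iv D21775) F65368
theorem F133960 : act 3 n31731 = n21791 := d10_2 (iv F93478) D31731 (iv D21791)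
theorem F133961 : act 5 n31731 = n21780 := d12_2 (iv F93479) D31731 (iv D21780)
def n31732 : Q := act 4 n21775
theorem D31732 : act 4 n21775 = n31732 := rfl
theorem F133962 : act 2 n31732 = n21776 := d18_1 D31732 (iv D21776) D21775
theorem F133963 : act 5 n31732 = n31732 := d30_2 (iv F93479) D31732 (iv D31732) F93479 F65384
def n31733 : Q := act 9 n21775
theorem D31733 : act 9 n21775 = n31733 := rfl
theorem F133965 : act 3 n31733 = n21793 := d29_1 D31733 (iv D21793) (iv F93478)
def n31734 : Q := act 9 n21776
theorem D31734 : act 9 n21776 = n31734 := rfl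
theorem F133969 : act 4 n31734 = n21777 := d34_1 D31734 (iv D21777) D21776
def n31735 : Q := act 8 n21777
theorem D31735 : act 8 n21777 = n31735 := rfl
def n31736 : Q := act 1 n21778
theorem D31736 : act 1 n21778 = n31736 := rfl
theorem F133973 : act 2 n31736 = n31736 := d9_2 D21778 D31736 (iv D31736) (iv D21778) F65374
theorem F133974 : act 3 n31736 = n21796 := d10_2 (iv F93486) D31736 (iv D21796)
theorem F133975 : act 4 n31736 = n31736 := d11_2 F93487 D31736 (iv D31736)
theorem F133976 : act 6 n31736 = n31736 := d13_2 F93488 D31736 (iv D31736)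
theorem F133977 : act 7 n31736 = n21780 := d14_2 (iv F93489) D31736 (iv D21780)
def n31737 : Q := act 9 n21778
theorem D31737 : act 9 n21778 = n31737 := rfl
def n31738 : Q := act 8 n21779
theorem D31738 : act 8 n21779 = n31738 := rfl
def n31739 : Q := act 0 n21780
theorem D31739 : act 0 n21780 = n31739 := rfl
theorem F133987 : act 2 n31739 = n31739 := d1_2 F93495 D31739 (iv D31739)
theorem F133988 : act 3 n31739 = n21799 := d2_2 (iv F93496) D31739 (iv D21799)
theorem F133989 : act 4 n31739 = n31739 := d3_2 F93497 D31739 (iv D31739)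
theorem F133990 : act 6 n31739 = n21783 := d5_2 (iv F93498) D31739 (iv D21783)
def n31740 : Q := act 9 n21780
theorem D31740 : act 9 n21780 = n31740 := rfl
theorem F133991 : act 1 n31740 = n21781 := d16_1 D31740 (iv D21781) D21780
theorem F133993 : act 3 n31740 = n21800 := d29_1 D31740 (iv D21800) (iv F93496)
def n31741 : Q := act 8 n21781
theorem D31741 : act 8 n21781 = n31741 := rfl
theorem F133996 : act 2 n31741 = n21782 := d22_1 D31741 (iv D21782) (iv F93499)
theorem F133998 : act 6 n31741 = n21785 := d40_1 D31741 (iv D21785) (iv F93502)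
def n31742 : Q := act 9 n21783
theorem D31742 : act 9 n21783 = n31742 := rfl
theorem F133999 : act 0 n31742 = n21784 := d8_1 D31742 (iv D21784) D21783
theorem F134001 : act 3 n31742 = n21802 := d29_1 D31742 (iv D21802) (iv F93507)
def n31743 : Q := act 8 n21784
theorem D31743 : act 8 n21784 = n31743 := rfl
theorem F134004 : act 1 n31743 = n21785 := d15_1 D31743 (iv D21785) (iv F93510)
def n31744 : Q := act 3 n21785
theorem D31744 : act 3 n21785 = n31744 := rfl
theorem F134009 : act 8 n31744 = n21804 := d28_2 D21785 D31744 (iv D21804) (iv D14979) (iv F65395)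
def n31745 : Q := act 2 n21786
theorem D31745 : act 2 n21786 = n31745 := rfl
theorem F134010 : act 5 n31745 = n31745 := d19_2 F93519 D31745 (iv D31745)
theorem F134011 : act 6 n31745 = n21788 := d20_2 (iv F93520) D31745 (iv D21788)
def n31746 : Q := act 4 n21786
theorem D31746 : act 4 n21786 = n31746 := rfl
theorem F134014 : act 6 n31746 = n21789 := d31_2 (iv F93520) D31746 (iv D21789)
def n31747 : Q := act 9 n21786
theorem D31747 : act 9 n21786 = n31747 := rfl
theorem F134016 : act 3 n31747 = n21787 := d29_1 D31747 (iv D21787) D21786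
theorem F134018 : act 6 n31747 = n21790 := d41_1 D31747 (iv D21790) (iv F93520)
def n31748 : Q := act 1 n21788
theorem D31748 : act 1 n21788 = n31748 := rfl
theorem F134020 : act 5 n31748 = n21796 := d12_2 (iv F93525) D31748 (iv D21796)
theorem F134021 : act 7 n31748 = n21791 := d14_2 (iv F93526) D31748 (iv D21791)
def n31749 : Q := act 4 n21788
theorem D31749 : act 4 n21788 = n31749 := rfl
theorem F134022 : act 2 n31749 = n21789 := d18_1 D31749 (iv D21789) D21788
theorem F134023 : act 5 n31749 = n22201 := d30_2 (iv F93525) D31749 (iv D22201) F66631 (iv F65419)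
theorem F134024 : act 7 n31749 = n21792 := d32_2 (iv F93526) D31749 (iv D21792)
def n31750 : Q := act 9 n21788
theorem D31750 : act 9 n21788 = n31750 := rfl
theorem F134025 : act 2 n31750 = n21790 := d23_1 D31750 (iv D21790) D21788
theorem F134026 : act 5 n31750 = n21797 := d38_1 D31750 (iv D21797) (iv F93525)
theorem F134027 : act 7 n31750 = n21793 := d43_1 D31750 (iv D21793) (iv F93526)
def n31751 : Q := act 9 n21789
theorem D31751 : act 9 n21789 = n31751 := rfl
theorem F134032 : act 7 n31751 = n21794 := d43_1 D31751 (iv D21794) (iv F93530)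
def n31752 : Q := act 8 n21790
theorem D31752 : act 8 n21790 = n31752 := rfl
theorem F134035 : act 7 n31752 = n21795 := d42_1 D31752 (iv D21795) (iv F93534)
def n31753 : Q := act 0 n21791
theorem D31753 : act 0 n21791 = n31753 := rfl
theorem F134036 : act 2 n31753 = n21813 := d1_2 (iv F93535) D31753 (iv D21813)
theorem F134037 : act 5 n31753 = n21799 := d4_2 (iv F93536) D31753 (iv D21799)
def n31754 : Q := act 4 n21791
theorem D31754 : act 4 n21791 = n31754 := rfl
theorem F134038 : act 1 n31754 = n21792 := d11_1 D31754 (iv D21792) D21791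
theorem F134040 : act 5 n31754 = n22206 := d30_2 (iv F93536) D31754 (iv D22206) F66642 (iv F65428)
def n31755 : Q := act 9 n21791
theorem D31755 : act 9 n21791 = n31755 := rfl
theorem F134041 : act 1 n31755 = n21793 := d16_1 D31755 (iv D21793) D21791
theorem F134043 : act 5 n31755 = n21800 := d38_1 D31755 (iv D21800) (iv F93536)
def n31756 : Q := act 3 n21792
theorem D31756 : act 3 n21792 = n31756 := rfl
theorem F134044 : act 2 n31756 = n31756 := d17_1 D31756 (iv D31756) F93537 F65414 (iv F93537)
theorem F134045 : act 5 n31756 = n22208 := d25_2 (iv F93538) D31756 (iv D22208)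
def n31757 : Q := act 9 n21792
theorem D31757 : act 9 n21792 = n31757 := rfl
theorem F134046 : act 2 n31757 = n21794 := d23_1 D31757 (iv D21794) (iv F93537)
theorem F134047 : act 4 n31757 = n21793 := d34_1 D31757 (iv D21793) D21792
theorem F134048 : act 5 n31757 = n22209 := d38_1 D31757 (iv D22209) (iv F93538)
def n31758 : Q := act 8 n21793
theorem D31758 : act 8 n21793 = n31758 := rfl
theorem F134049 : act 2 n31758 = n21795 := d22_1 D31758 (iv D21795) (iv F93539)
theorem F134050 : act 5 n31758 = n21801 := d37_1 D31758 (iv D21801) (iv F93540)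
def n31759 : Q := act 8 n21794
theorem D31759 : act 8 n21794 = n31759 := rfl
def n31760 : Q := act 0 n21796
theorem D31760 : act 0 n21796 = n31760 := rfl
theorem F134054 : act 2 n31760 = n21820 := d1_2 (iv F93547) D31760 (iv D21820)
theorem F134055 : act 4 n31760 = n22212 := d3_2 (iv F93548) D31760 (iv D22212)
theorem F134056 : act 6 n31760 = n31760 := d5_2 F93549 D31760 (iv D31760)
theorem F134057 : act 7 n31760 = n21799 := d6_2 (iv F93550) D31760 (iv D21799)
def n31761 : Q := act 9 n21796
theorem D31761 : act 9 n21796 = n31761 := rfl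
def n31762 : Q := act 8 n21797
theorem D31762 : act 8 n21797 = n31762 := rfl
theorem F134063 : act 2 n31762 = n21798 := d22_1 D31762 (iv D21798) (iv F93551)
theorem F134064 : act 4 n31762 = n22214 := d33_1 D31762 (iv D22214) (iv F93552)
theorem F134065 : act 6 n31762 = n31762 := d40_1 D31762 (iv D31762) F93553
theorem F134066 : act 7 n31762 = n21801 := d42_1 D31762 (iv D21801) (iv F93554)
def n31763 : Q := act 9 n21799
theorem D31763 : act 9 n21799 = n31763 := rfl
theorem F134067 : act 0 n31763 = n21800 := d8_1 D31763 (iv D21800) D21799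
theorem F134068 : act 2 n31763 = n21823 := d23_1 D31763 (iv D21823) (iv F93559)
theorem F134069 : act 4 n31763 = n22215 := d34_1 D31763 (iv D22215) (iv F93560)
theorem F134070 : act 6 n31763 = n21802 := d41_1 D31763 (iv D21802) (iv F93561)
def n31764 : Q := act 8 n21800
theorem D31764 : act 8 n21800 = n31764 := rfl
theorem F134071 : act 1 n31764 = n21801 := d15_1 D31764 (iv D21801) (iv F93562)
theorem F134072 : act 2 n31764 = n21824 := d22_1 D31764 (iv D21824) (iv F93563)
theorem F134073 : act 4 n31764 = n22216 := d33_1 D31764 (iv D22216) (iv F93564)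
theorem F134074 : act 6 n31764 = n21803 := d40_1 D31764 (iv D21803) (iv F93565)
def n31765 : Q := act 3 n21801
theorem D31765 : act 3 n21801 = n31765 := rfl
theorem F134075 : act 6 n31765 = n21804 := d26_2 (iv F93568) D31765 (iv D21804)
def n31766 : Q := act 8 n21802
theorem D31766 : act 8 n21802 = n31766 := rfl
theorem F134076 : act 0 n31766 = n21803 := d7_1 D31766 (iv D21803) (iv F93569)
theorem F134077 : act 2 n31766 = n21826 := d22_1 D31766 (iv D21826) (iv F93570)
theorem F134078 : act 4 n31766 = n22218 := d33_1 D31766 (iv D22218) (iv F93571)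
theorem F134079 : act 7 n31766 = n31766 := d42_1 D31766 (iv D31766) F93572
def n31767 : Q := act 3 n21803
theorem D31767 : act 3 n21803 = n31767 := rfl
theorem F134080 : act 1 n31767 = n21804 := d10_1 D31767 (iv D21804) (iv F93573)
theorem F134081 : act 7 n31767 = n31767 := d27_2 F93576 D31767 (iv D31767)
def n31768 : Q := act 4 n21804
theorem D31768 : act 4 n21804 = n31768 := rfl
theorem F134082 : act 3 n31768 = n22220 := d24_1 D31768 (iv D22220) (iv D15272) (iv F65444) D21804
theorem F134083 : act 7 n31768 = n31768 := d32_2 F93577 D31768 (iv D31768)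
def n31769 : Q := act 1 n21805
theorem D31769 : act 1 n21805 = n31769 := rfl
theorem F134086 : act 6 n31769 = n21808 := d13_2 (iv F93581) D31769 (iv D21808)
def n31770 : Q := act 4 n21805
theorem D31770 : act 4 n21805 = n31770 := rfl
theorem F134089 : act 6 n31770 = n21809 := d31_2 (iv F93581) D31770 (iv D21809)
def n31772 : Q := act 5 n21806
theorem D31772 : act 5 n21806 = n31772 := rfl
theorem F134098 : act 6 n31772 = n22224 := d35_2 (iv F93584) D31772 (iv D22224) F66699 (iv F65460)
def n31774 : Q := act 8 n21807
theorem D31774 : act 8 n21807 = n31774 := rfl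
def n31775 : Q := act 0 n21808
theorem D31775 : act 0 n21808 = n31775 := rfl
theorem F134108 : act 5 n31775 = n21820 := d4_2 (iv F93590) D31775 (iv D21820)
theorem F134109 : act 7 n31775 = n21813 := d6_2 (iv F93591) D31775 (iv D21813)
def n31776 : Q := act 4 n21808
theorem D31776 : act 4 n21808 = n31776 := rfl
theorem F134111 : act 5 n31776 = n22228 := d30_2 (iv F93590) D31776 (iv D22228) F66707 (iv F65482)
theorem F134112 : act 7 n31776 = n21814 := d32_2 (iv F93591) D31776 (iv D21814)
def n31782 : Q := act 4 n21813
theorem D31782 : act 4 n21813 = n31782 := rfl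
def n31783 : Q := act 9 n21813
theorem D31783 : act 9 n21813 = n31783 := rfl
def n31785 : Q := act 9 n21814
theorem D31785 : act 9 n21814 = n31785 := rfl
theorem F134147 : act 5 n31785 = n22237 := d38_1 D31785 (iv D22237) (iv F93613)
def n31786 : Q := act 8 n21815
theorem D31786 : act 8 n21815 = n31786 := rfl
def n31787 : Q := act 8 n21816
theorem D31787 : act 8 n21816 = n31787 := rfl
def n31788 : Q := act 9 n21816
theorem D31788 : act 9 n21816 = n31788 := rfl
theorem F134158 : act 5 n31788 = n22240 := d38_1 D31788 (iv D22240) (iv F93620)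
def n31789 : Q := act 8 n21817
theorem D31789 : act 8 n21817 = n31789 := rfl
def n31790 : Q := act 3 n21818
theorem D31790 : act 3 n21818 = n31790 := rfl
def n31791 : Q := act 3 n21819
theorem D31791 : act 3 n21819 = n31791 := rfl
def n31792 : Q := act 9 n21820
theorem D31792 : act 9 n21820 = n31792 := rfl
def n31795 : Q := act 8 n21823
theorem D31795 : act 8 n21823 = n31795 := rfl
theorem F134183 : act 0 n31795 = n21824 := d7_1 D31795 (iv D21824) (iv F93646)
theorem F134184 : act 1 n31795 = n31795 := d15_1 D31795 (iv D31795) F93647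
theorem F134185 : act 4 n31795 = n22247 := d33_1 D31795 (iv D22247) (iv F93649)
theorem F134186 : act 6 n31795 = n21826 := d40_1 D31795 (iv D21826) (iv F93650)
def n31796 : Q := act 3 n21824
theorem D31796 : act 3 n21824 = n31796 := rfl
theorem F134187 : act 1 n31796 = n21825 := d10_1 D31796 (iv D21825) (iv F93651)
theorem F134188 : act 6 n31796 = n21827 := d26_2 (iv F93653) D31796 (iv D21827)
theorem F134189 : act 8 n31796 = n31796 := d28_2 D21824 D31796 (iv D31796) (iv D21824) F65500
def n31797 : Q := act 4 n21825
theorem D31797 : act 4 n21825 = n31797 := rfl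
def n31798 : Q := act 3 n21826
theorem D31798 : act 3 n21826 = n31798 := rfl
theorem F134194 : act 0 n31798 = n21827 := d2_1 D31798 (iv D21827) (iv F93657)
def n31799 : Q := act 2 n21827
theorem D31799 : act 2 n21827 = n31799 := rfl
def n31800 : Q := act 4 n21827
theorem D31800 : act 4 n21827 = n31800 := rfl
theorem F134200 : act 1 n31800 = n21828 := d11_1 D31800 (iv D21828) (iv F93661)
def n31801 : Q := act 5 n21828
theorem D31801 : act 5 n21828 = n31801 := rfl
theorem F134205 : act 3 n31801 = n22253 := d25_1 D31801 (iv D22253) (iv F93665)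
def n31828 : Q := act 8 n21842
theorem D31828 : act 8 n21842 = n31828 := rfl
theorem F134349 : act 6 n31828 = n21936 := d40_1 D31828 (iv D21936) (iv F93742)
theorem F134350 : act 7 n31828 = n21843 := d42_1 D31828 (iv D21843) D21842
def n31830 : Q := act 9 n21843
theorem D31830 : act 9 n21843 = n31830 := rfl
theorem F134353 : act 0 n31830 = n21871 := d8_1 D31830 (iv D21871) (iv F93744)
theorem F134354 : act 2 n31830 = n21858 := d23_1 D31830 (iv D21858) (iv F93745)
def n31831 : Q := act 2 n21844
theorem D31831 : act 2 n21844 = n31831 := rfl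
theorem F134358 : act 0 n31831 = n21872 := d1_1 D31831 (iv D21872) (iv F93748)
theorem F134359 : act 3 n31831 = n21859 := d17_2 D21844 D31831 (iv D21859) (iv D15016) (iv F65558)
theorem F134361 : act 7 n31831 = n21939 := d21_2 (iv F93750) D31831 (iv D21939)
def n31832 : Q := act 4 n21844
theorem D31832 : act 4 n21844 = n31832 := rfl
theorem F134363 : act 3 n31832 = n21849 := d24_1 D31832 (iv D21849) (iv D15009) (iv F65559) D21844
def n31833 : Q := act 9 n21844
theorem D31833 : act 9 n21844 = n31833 := rfl
theorem F134365 : act 0 n31833 = n21874 := d8_1 D31833 (iv D21874) (iv F93748)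
theorem F134366 : act 3 n31833 = n21845 := d29_1 D31833 (iv D21845) D21844
theorem F134368 : act 7 n31833 = n21941 := d43_1 D31833 (iv D21941) (iv F93750)
def n31835 : Q := act 9 n21846
theorem D31835 : act 9 n21846 = n31835 := rfl
theorem F134374 : act 0 n31835 = n21876 := d8_1 D31835 (iv D21876) (iv F93757)
theorem F134375 : act 2 n31835 = n21861 := d23_1 D31835 (iv D21861) (iv F93758)
theorem F134377 : act 6 n31835 = n21943 := d41_1 D31835 (iv D21943) (iv F93760)
def n31840 : Q := act 8 n21850
theorem D31840 : act 8 n21850 = n31840 := rfl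
theorem F134398 : act 9 n31840 = n23994 := d44_2 D21850 D31840 (iv D23994) (iv D16482) (iv F65575)
def n31844 : Q := act 6 n21854
theorem D31844 : act 6 n21854 = n31844 := rfl
theorem F134416 : act 5 n31844 = n21952 := d35_1 D31844 (iv D21952) F65890 (iv F65600) (iv F93796)
def n31845 : Q := act 8 n21854
theorem D31845 : act 8 n21854 = n31845 := rfl
theorem F134422 : act 5 n31845 = n21856 := d37_1 D31845 (iv D21856) (iv F93796)
theorem F134423 : act 7 n31845 = n21855 := d42_1 D31845 (iv D21855) D21854
def n31846 : Q := act 3 n21855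
theorem D31846 : act 3 n21855 = n31846 := rfl
theorem F134424 : act 0 n31846 = n21887 := d2_1 D31846 (iv D21887) (iv F93798)
theorem F134426 : act 5 n31846 = n21857 := d25_2 (iv F93801) D31846 (iv D21857)
def n31847 : Q := act 9 n21855
theorem D31847 : act 9 n21855 = n31847 := rfl
theorem F134429 : act 0 n31847 = n21888 := d8_1 D31847 (iv D21888) (iv F93798)
theorem F134432 : act 5 n31847 = n21858 := d38_1 D31847 (iv D21858) (iv F93801)
def n31848 : Q := act 3 n21856
theorem D31848 : act 3 n21856 = n31848 := rfl
theorem F134435 : act 0 n31848 = n21889 := d2_1 D31848 (iv D21889) (iv F93803)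
theorem F134437 : act 6 n31848 = n21956 := d26_2 (iv F93806) D31848 (iv D21956)
theorem F134438 : act 7 n31848 = n21857 := d27_2 (iv F93807) D31848 (iv D21857)
def n31849 : Q := act 9 n21856
theorem D31849 : act 9 n21856 = n31849 := rfl
theorem F134440 : act 0 n31849 = n21890 := d8_1 D31849 (iv D21890) (iv F93803)
theorem F134443 : act 6 n31849 = n21957 := d41_1 D31849 (iv D21957) (iv F93806)
def n31850 : Q := act 2 n21857
theorem D31850 : act 2 n21857 = n31850 := rfl
theorem F134446 : act 0 n31850 = n21891 := d1_1 D31850 (iv D21891) (iv F93808)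
theorem F134447 : act 6 n31850 = n21859 := d20_2 (iv F93810) D31850 (iv D21859)
def n31851 : Q := act 9 n21857
theorem D31851 : act 9 n21857 = n31851 := rfl
theorem F134449 : act 0 n31851 = n21892 := d8_1 D31851 (iv D21892) (iv F93808)
theorem F134450 : act 1 n31851 = n31851 := d16_1 D31851 (iv D31851) F93809
theorem F134451 : act 3 n31851 = n21858 := d29_1 D31851 (iv D21858) D21857
theorem F134452 : act 6 n31851 = n21860 := d41_1 D31851 (iv D21860) (iv F93810)
def n31852 : Q := act 1 n21859
theorem D31852 : act 1 n21859 = n31852 := rfl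
theorem F134455 : act 7 n31852 = n21960 := d14_2 (iv F93819) D31852 (iv D21960)
def n31853 : Q := act 9 n21859
theorem D31853 : act 9 n21859 = n31853 := rfl
theorem F134457 : act 0 n31853 = n21894 := d8_1 D31853 (iv D21894) (iv F93817)
theorem F134458 : act 2 n31853 = n21860 := d23_1 D31853 (iv D21860) D21859
theorem F134459 : act 5 n31853 = n31853 := d38_1 D31853 (iv D31853) F93818
theorem F134460 : act 7 n31853 = n21961 := d43_1 D31853 (iv D21961) (iv F93819)
def n31854 : Q := act 8 n21860
theorem D31854 : act 8 n21860 = n31854 := rfl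
theorem F134461 : act 0 n31854 = n21895 := d7_1 D31854 (iv D21895) (iv F93821)
theorem F134462 : act 1 n31854 = n31854 := d15_1 D31854 (iv D31854) F93822
theorem F134463 : act 3 n31854 = n31854 := d28_1 D31854 (iv D31854) F93823 F65616 (iv F93823)
theorem F134464 : act 5 n31854 = n31854 := d37_1 D31854 (iv D31854) F93824
theorem F134465 : act 7 n31854 = n21962 := d42_1 D31854 (iv D21962) (iv F93825)
theorem F134466 : act 9 n31854 = n31854 := d44_2 D21860 D31854 (iv D31854) (iv D21860) F65610
def n31856 : Q := act 7 n21862
theorem D31856 : act 7 n21862 = n31856 := rfl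
theorem F134475 : act 3 n31856 = n21867 := d27_1 D31856 (iv D21867) (iv F93834)
theorem F134476 : act 5 n31856 = n21863 := d36_1 D31856 (iv D21863) D21862
def n31861 : Q := act 2 n21865
theorem D31861 : act 2 n21865 = n31861 := rfl
theorem F134497 : act 7 n31861 = n21968 := d21_2 (iv F93849) D31861 (iv D21968)
theorem F134498 : act 8 n31861 = n21872 := d22_2 (iv F93850) D31861 (iv D21872)
def n31862 : Q := act 4 n21865
theorem D31862 : act 4 n21865 = n31862 := rfl
theorem F134501 : act 7 n31862 = n21969 := d32_2 (iv F93849) D31862 (iv D21969)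
theorem F134502 : act 8 n31862 = n21873 := d33_2 (iv F93850) D31862 (iv D21873)
def n31863 : Q := act 9 n21865
theorem D31863 : act 9 n21865 = n31863 := rfl
theorem F134506 : act 7 n31863 = n21970 := d43_1 D31863 (iv D21970) (iv F93849)
def n31864 : Q := act 6 n21867
theorem D31864 : act 6 n21867 = n31864 := rfl
theorem F134510 : act 5 n31864 = n21971 := d35_1 D31864 (iv D21971) F65948 (iv F65645) (iv F93860)
def n31865 : Q := act 8 n21867
theorem D31865 : act 8 n21867 = n31865 := rfl
theorem F134514 : act 2 n31865 = n21886 := d22_1 D31865 (iv D21886) (iv F93858)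
theorem F134517 : act 7 n31865 = n21868 := d42_1 D31865 (iv D21868) D21867
def n31867 : Q := act 9 n21868
theorem D31867 : act 9 n21868 = n31867 := rfl
theorem F134522 : act 2 n31867 = n21888 := d23_1 D31867 (iv D21888) (iv F93863)
theorem F134524 : act 5 n31867 = n21871 := d38_1 D31867 (iv D21871) (iv F93865)
def n31868 : Q := act 3 n21869
theorem D31868 : act 3 n21869 = n31868 := rfl
theorem F134528 : act 6 n31868 = n21975 := d26_2 (iv F93870) D31868 (iv D21975)
theorem F134529 : act 7 n31868 = n21870 := d27_2 (iv F93871) D31868 (iv D21870)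
def n31869 : Q := act 9 n21869
theorem D31869 : act 9 n21869 = n31869 := rfl
theorem F134531 : act 2 n31869 = n21890 := d23_1 D31869 (iv D21890) (iv F93868)
theorem F134533 : act 6 n31869 = n21976 := d41_1 D31869 (iv D21976) (iv F93870)
def n31870 : Q := act 2 n21870
theorem D31870 : act 2 n21870 = n31870 := rfl
theorem F134536 : act 3 n31870 = n21891 := d17_2 D21870 D31870 (iv D21891) (iv D15038) (iv F65648)
def n31872 : Q := act 9 n21870
theorem D31872 : act 9 n21870 = n31872 := rfl
theorem F134542 : act 3 n31872 = n21871 := d29_1 D31872 (iv D21871) D21870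
def n31873 : Q := act 1 n21872
theorem D31873 : act 1 n21872 = n31873 := rfl
theorem F134544 : act 2 n31873 = n31873 := d9_2 D21872 D31873 (iv D31873) (iv D21872) F65651
theorem F134545 : act 3 n31873 = n21893 := d10_2 (iv F93879) D31873 (iv D21893)
theorem F134546 : act 5 n31873 = n31873 := d12_2 F93880 D31873 (iv D31873)
theorem F134547 : act 7 n31873 = n21980 := d14_2 (iv F93881) D31873 (iv D21980)
def n31874 : Q := act 4 n21872
theorem D31874 : act 4 n21872 = n31874 := rfl
theorem F134548 : act 2 n31874 = n21873 := d18_1 D31874 (iv D21873) D21872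
theorem F134549 : act 7 n31874 = n21981 := d32_2 (iv F93881) D31874 (iv D21981)
def n31875 : Q := act 9 n21872
theorem D31875 : act 9 n21872 = n31875 := rfl
theorem F134550 : act 2 n31875 = n21874 := d23_1 D31875 (iv D21874) D21872
theorem F134551 : act 3 n31875 = n21894 := d29_1 D31875 (iv D21894) (iv F93879)
theorem F134552 : act 5 n31875 = n31875 := d38_1 D31875 (iv D31875) F93880
theorem F134553 : act 7 n31875 = n21982 := d43_1 D31875 (iv D21982) (iv F93881)
def n31876 : Q := act 5 n21873
theorem D31876 : act 5 n21873 = n31876 := rfl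
theorem F134554 : act 1 n31876 = n31876 := d12_1 D31876 (iv D31876) F93882
theorem F134555 : act 3 n31876 = n21879 := d25_1 D31876 (iv D21879) (iv F93883)
theorem F134556 : act 4 n31876 = n31876 := d30_1 D31876 (iv D31876) (iv D21873) F65652 D21873
theorem F134557 : act 7 n31876 = n21983 := d36_2 (iv F93884) D31876 (iv D21983)
def n31877 : Q := act 9 n21873
theorem D31877 : act 9 n21873 = n31877 := rfl
theorem F134558 : act 1 n31877 = n31877 := d16_1 D31877 (iv D31877) F93882
theorem F134559 : act 3 n31877 = n21880 := d29_1 D31877 (iv D21880) (iv F93883)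
theorem F134560 : act 4 n31877 = n21874 := d34_1 D31877 (iv D21874) D21873
theorem F134561 : act 7 n31877 = n21984 := d43_1 D31877 (iv D21984) (iv F93884)
def n31878 : Q := act 8 n21874
theorem D31878 : act 8 n21874 = n31878 := rfl
theorem F134562 : act 1 n31878 = n31878 := d15_1 D31878 (iv D31878) F93885
theorem F134563 : act 3 n31878 = n31878 := d28_1 D31878 (iv D31878) F93886 F65659 (iv F93886)
theorem F134564 : act 5 n31878 = n31878 := d37_1 D31878 (iv D31878) F93887
theorem F134565 : act 7 n31878 = n21985 := d42_1 D31878 (iv D21985) (iv F93888)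
def n31879 : Q := act 4 n21875
theorem D31879 : act 4 n21875 = n31879 := rfl
theorem F134568 : act 7 n31879 = n21877 := d32_2 (iv F93892) D31879 (iv D21877)
theorem F134569 : act 8 n31879 = n24031 := d33_2 (iv F93893) D31879 (iv D24031)
def n31880 : Q := act 9 n21875
theorem D31880 : act 9 n21875 = n31880 := rfl
theorem F134570 : act 1 n31880 = n31880 := d16_1 D31880 (iv D31880) F93889
theorem F134571 : act 3 n31880 = n21876 := d29_1 D31880 (iv D21876) D21875
theorem F134572 : act 5 n31880 = n31880 := d38_1 D31880 (iv D31880) F93890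
theorem F134573 : act 6 n31880 = n21987 := d41_1 D31880 (iv D21987) (iv F93891)
theorem F134574 : act 7 n31880 = n21878 := d43_1 D31880 (iv D21878) (iv F93892)
def n31881 : Q := act 5 n21877
theorem D31881 : act 5 n21877 = n31881 := rfl
def n31882 : Q := act 9 n21877
theorem D31882 : act 9 n21877 = n31882 := rfl
theorem F134578 : act 1 n31882 = n31882 := d16_1 D31882 (iv D31882) F93900
theorem F134579 : act 4 n31882 = n21878 := d34_1 D31882 (iv D21878) D21877
theorem F134580 : act 6 n31882 = n21880 := d41_1 D31882 (iv D21880) (iv F93901)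
def n31883 : Q := act 8 n21878
theorem D31883 : act 8 n21878 = n31883 := rfl
theorem F134585 : act 9 n31883 = n24035 := d44_2 D21878 D31883 (iv D24035) (iv D16510) (iv F65668)
def n31884 : Q := act 6 n21879
theorem D31884 : act 6 n21879 = n31884 := rfl
theorem F134586 : act 1 n31884 = n31884 := d13_1 D31884 (iv D31884) F93907
theorem F134587 : act 4 n31884 = n21882 := d31_1 D31884 (iv D21882) (iv F93908)
theorem F134588 : act 8 n31884 = n24036 := d40_2 (iv F93910) D31884 (iv D24036)
def n31885 : Q := act 9 n21879
theorem D31885 : act 9 n21879 = n31885 := rfl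
theorem F134589 : act 1 n31885 = n31885 := d16_1 D31885 (iv D31885) F93907
theorem F134590 : act 4 n31885 = n21883 := d34_1 D31885 (iv D21883) (iv F93908)
theorem F134591 : act 5 n31885 = n21880 := d38_1 D31885 (iv D21880) D21879
theorem F134592 : act 7 n31885 = n21992 := d43_1 D31885 (iv D21992) (iv F93909)
def n31887 : Q := act 7 n21882
theorem D31887 : act 7 n21882 = n31887 := rfl
theorem F134597 : act 1 n31887 = n31887 := d14_1 D31887 (iv D31887) F93919
theorem F134598 : act 3 n31887 = n31887 := d27_1 D31887 (iv D31887) F93920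
theorem F134599 : act 5 n31887 = n31887 := d36_1 D31887 (iv D31887) F93921
theorem F134600 : act 6 n31887 = n21994 := d39_1 D31887 (iv D21994) (iv D15107) (iv F65683) D21882
theorem F134601 : act 8 n31887 = n24039 := d42_2 (iv F93922) D31887 (iv D24039)
def n31888 : Q := act 9 n21882
theorem D31888 : act 9 n21882 = n31888 := rfl
theorem F134605 : act 6 n31888 = n21883 := d41_1 D31888 (iv D21883) D21882
def n31891 : Q := act 8 n21885
theorem D31891 : act 8 n21885 = n31891 := rfl
theorem F134618 : act 5 n31891 = n21998 := d37_1 D31891 (iv D21998) (iv F93935)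
theorem F134619 : act 6 n31891 = n21886 := d40_1 D31891 (iv D21886) D21885
def n31892 : Q := act 3 n21886
theorem D31892 : act 3 n21886 = n31892 := rfl
theorem F134621 : act 1 n31892 = n21897 := d10_1 D31892 (iv D21897) (iv F93938)
theorem F134622 : act 5 n31892 = n21889 := d25_2 (iv F93940) D31892 (iv D21889)
theorem F134623 : act 7 n31892 = n21887 := d27_2 (iv F93941) D31892 (iv D21887)
def n31893 : Q := act 9 n21886
theorem D31893 : act 9 n21886 = n31893 := rfl
theorem F134627 : act 5 n31893 = n21890 := d38_1 D31893 (iv D21890) (iv F93940)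
def n31894 : Q := act 2 n21887
theorem D31894 : act 2 n21887 = n31894 := rfl
theorem F134630 : act 5 n31894 = n21891 := d19_2 (iv F93943) D31894 (iv D21891)
def n31895 : Q := act 4 n21887
theorem D31895 : act 4 n21887 = n31895 := rfl
theorem F134633 : act 1 n31895 = n21900 := d11_1 D31895 (iv D21900) (iv F93942)
theorem F134634 : act 3 n31895 = n31895 := d24_1 D31895 (iv D31895) (iv D21887) F65701 D21887
theorem F134635 : act 6 n31895 = n31895 := d31_2 F93944 D31895 (iv D31895)
theorem F134636 : act 8 n31895 = n31895 := d33_2 F93945 D31895 (iv D31895)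
def n31896 : Q := act 9 n21887
theorem D31896 : act 9 n21887 = n31896 := rfl
theorem F134637 : act 1 n31896 = n21901 := d16_1 D31896 (iv D21901) (iv F93942)
theorem F134638 : act 3 n31896 = n21888 := d29_1 D31896 (iv D21888) D21887
theorem F134639 : act 5 n31896 = n21892 := d38_1 D31896 (iv D21892) (iv F93943)
theorem F134640 : act 6 n31896 = n31896 := d41_1 D31896 (iv D31896) F93944
def n31897 : Q := act 2 n21889
theorem D31897 : act 2 n21889 = n31897 := rfl
theorem F134641 : act 6 n31897 = n22004 := d20_2 (iv F93952) D31897 (iv D22004)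
theorem F134642 : act 7 n31897 = n21891 := d21_2 (iv F93953) D31897 (iv D21891)
def n31898 : Q := act 9 n21889
theorem D31898 : act 9 n21889 = n31898 := rfl
theorem F134644 : act 1 n31898 = n21903 := d16_1 D31898 (iv D21903) (iv F93951)
theorem F134645 : act 3 n31898 = n21890 := d29_1 D31898 (iv D21890) D21889
theorem F134646 : act 6 n31898 = n22005 := d41_1 D31898 (iv D22005) (iv F93952)
theorem F134647 : act 7 n31898 = n21892 := d43_1 D31898 (iv D21892) (iv F93953)
def n31899 : Q := act 1 n21891
theorem D31899 : act 1 n21891 = n31899 := rfl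
theorem F134648 : act 2 n31899 = n21904 := d9_2 D21891 D31899 (iv D21904) (iv D15049) (iv F65708)
theorem F134649 : act 6 n31899 = n21893 := d13_2 (iv F93960) D31899 (iv D21893)
theorem F134650 : act 8 n31899 = n31899 := d15_2 F93961 D31899 (iv D31899)
def n31900 : Q := act 9 n21891
theorem D31900 : act 9 n21891 = n31900 := rfl
theorem F134651 : act 2 n31900 = n21892 := d23_1 D31900 (iv D21892) D21891
theorem F134652 : act 6 n31900 = n21894 := d41_1 D31900 (iv D21894) (iv F93960)
def n31901 : Q := act 8 n21892
theorem D31901 : act 8 n21892 = n31901 := rfl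
theorem F134653 : act 1 n31901 = n21906 := d15_1 D31901 (iv D21906) (iv F93962)
theorem F134654 : act 3 n31901 = n31901 := d28_1 D31901 (iv D31901) F93963 F65714 (iv F93963)
theorem F134655 : act 6 n31901 = n21895 := d40_1 D31901 (iv D21895) (iv F93964)
theorem F134656 : act 9 n31901 = n31901 := d44_2 D21892 D31901 (iv D31901) (iv D21892) F65710
def n31902 : Q := act 0 n21893
theorem D31902 : act 0 n21893 = n31902 := rfl
theorem F134657 : act 2 n31902 = n21907 := d1_2 (iv F93965) D31902 (iv D21907)
theorem F134658 : act 5 n31902 = n31902 := d4_2 F93966 D31902 (iv D31902)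
theorem F134659 : act 7 n31902 = n22009 := d6_2 (iv F93967) D31902 (iv D22009)
theorem F134660 : act 8 n31902 = n31902 := d7_2 F93968 D31902 (iv D31902)
def n31903 : Q := act 9 n21893
theorem D31903 : act 9 n21893 = n31903 := rfl
theorem F134661 : act 1 n31903 = n21894 := d16_1 D31903 (iv D21894) D21893
theorem F134662 : act 2 n31903 = n21908 := d23_1 D31903 (iv D21908) (iv F93965)
theorem F134663 : act 5 n31903 = n31903 := d38_1 D31903 (iv D31903) F93966
theorem F134664 : act 7 n31903 = n22010 := d43_1 D31903 (iv D22010) (iv F93967)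
def n31904 : Q := act 8 n21894
theorem D31904 : act 8 n21894 = n31904 := rfl
theorem F134665 : act 2 n31904 = n21895 := d22_1 D31904 (iv D21895) (iv F93969)
theorem F134666 : act 5 n31904 = n31904 := d37_1 D31904 (iv D31904) F93970
theorem F134667 : act 7 n31904 = n22011 := d42_1 D31904 (iv D22011) (iv F93971)
theorem F134668 : act 9 n31904 = n31904 := d44_2 D21894 D31904 (iv D31904) (iv D21894) F65717
def n31905 : Q := act 3 n21896
theorem D31905 : act 3 n21896 = n31905 := rfl
theorem F134670 : act 5 n31905 = n22012 := d25_2 (iv F93980) D31905 (iv D22012)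
theorem F134671 : act 6 n31905 = n21897 := d26_2 (iv F93981) D31905 (iv D21897)
def n31906 : Q := act 9 n21896
theorem D31906 : act 9 n21896 = n31906 := rfl
theorem F134677 : act 5 n31906 = n22013 := d38_1 D31906 (iv D22013) (iv F93980)
def n31907 : Q := act 2 n21897
theorem D31907 : act 2 n21897 = n31907 := rfl
theorem F134681 : act 0 n31907 = n31907 := d1_1 D31907 (iv D31907) F93983
theorem F134682 : act 3 n31907 = n31907 := d17_2 D21897 D31907 (iv D31907) (iv D21897) F65735
theorem F134683 : act 5 n31907 = n21902 := d19_2 (iv F93984) D31907 (iv D21902)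
theorem F134684 : act 7 n31907 = n21899 := d21_2 (iv F93985) D31907 (iv D21899)
theorem F134685 : act 8 n31907 = n31907 := d22_2 F93986 D31907 (iv D31907)
def n31908 : Q := act 4 n21897
theorem D31908 : act 4 n21897 = n31908 := rfl
theorem F134686 : act 0 n31908 = n31908 := d3_1 D31908 (iv D31908) F93983
theorem F134687 : act 3 n31908 = n31908 := d24_1 D31908 (iv D31908) (iv D21897) F65736 D21897
theorem F134688 : act 7 n31908 = n21900 := d32_2 (iv F93985) D31908 (iv D21900)
theorem F134689 : act 8 n31908 = n31908 := d33_2 F93986 D31908 (iv D31908)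
def n31909 : Q := act 9 n21897
theorem D31909 : act 9 n21897 = n31909 := rfl
theorem F134690 : act 0 n31909 = n31909 := d8_1 D31909 (iv D31909) F93983
theorem F134691 : act 3 n31909 = n21898 := d29_1 D31909 (iv D21898) D21897
theorem F134692 : act 5 n31909 = n21903 := d38_1 D31909 (iv D21903) (iv F93984)
theorem F134693 : act 7 n31909 = n21901 := d43_1 D31909 (iv D21901) (iv F93985)
def n31910 : Q := act 1 n21899
theorem D31910 : act 1 n21899 = n31910 := rfl
theorem F134694 : act 3 n31910 = n31910 := d10_2 F93994 D31910 (iv D31910)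
theorem F134695 : act 5 n31910 = n21904 := d12_2 (iv F93995) D31910 (iv D21904)
theorem F134696 : act 6 n31910 = n31910 := d13_2 F93996 D31910 (iv D31910)
theorem F134697 : act 8 n31910 = n31910 := d15_2 F93997 D31910 (iv D31910)
def n31911 : Q := act 4 n21899
theorem D31911 : act 4 n21899 = n31911 := rfl
theorem F134698 : act 0 n31911 = n31911 := d3_1 D31911 (iv D31911) F93993
theorem F134699 : act 2 n31911 = n21900 := d18_1 D31911 (iv D21900) D21899
theorem F134700 : act 6 n31911 = n31911 := d31_2 F93996 D31911 (iv D31911)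
theorem F134701 : act 8 n31911 = n31911 := d33_2 F93997 D31911 (iv D31911)
def n31912 : Q := act 9 n21899
theorem D31912 : act 9 n21899 = n31912 := rfl
theorem F134702 : act 0 n31912 = n31912 := d8_1 D31912 (iv D31912) F93993
theorem F134703 : act 2 n31912 = n21901 := d23_1 D31912 (iv D21901) D21899
theorem F134704 : act 3 n31912 = n31912 := d29_1 D31912 (iv D31912) F93994
theorem F134705 : act 5 n31912 = n21905 := d38_1 D31912 (iv D21905) (iv F93995)
theorem F134706 : act 6 n31912 = n31912 := d41_1 D31912 (iv D31912) F93996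
def n31913 : Q := act 9 n21900
theorem D31913 : act 9 n21900 = n31913 := rfl
theorem F134707 : act 0 n31913 = n31913 := d8_1 D31913 (iv D31913) F93998
theorem F134708 : act 3 n31913 = n31913 := d29_1 D31913 (iv D31913) F93999
theorem F134709 : act 4 n31913 = n21901 := d34_1 D31913 (iv D21901) D21900
theorem F134710 : act 6 n31913 = n31913 := d41_1 D31913 (iv D31913) F94000
def n31914 : Q := act 8 n21901
theorem D31914 : act 8 n21901 = n31914 := rfl
theorem F134711 : act 0 n31914 = n31914 := d7_1 D31914 (iv D31914) F94002
theorem F134712 : act 3 n31914 = n31914 := d28_1 D31914 (iv D31914) F94003 F65748 (iv F94003)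
theorem F134713 : act 5 n31914 = n21906 := d37_1 D31914 (iv D21906) (iv F94004)
theorem F134714 : act 6 n31914 = n31914 := d40_1 D31914 (iv D31914) F94005
theorem F134715 : act 9 n31914 = n31914 := d44_2 D21901 D31914 (iv D31914) (iv D21901) F65742
def n31915 : Q := act 1 n21902
theorem D31915 : act 1 n21902 = n31915 := rfl
theorem F134716 : act 3 n31915 = n31915 := d10_2 F94007 D31915 (iv D31915)
theorem F134717 : act 6 n31915 = n22022 := d13_2 (iv F94008) D31915 (iv D22022)
theorem F134718 : act 7 n31915 = n21904 := d14_2 (iv F94009) D31915 (iv D21904)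
theorem F134719 : act 8 n31915 = n31915 := d15_2 F94010 D31915 (iv D31915)
def n31916 : Q := act 9 n21902
theorem D31916 : act 9 n21902 = n31916 := rfl
theorem F134720 : act 0 n31916 = n31916 := d8_1 D31916 (iv D31916) F94006
theorem F134721 : act 2 n31916 = n21903 := d23_1 D31916 (iv D21903) D21902
theorem F134722 : act 3 n31916 = n31916 := d29_1 D31916 (iv D31916) F94007
theorem F134723 : act 6 n31916 = n22023 := d41_1 D31916 (iv D22023) (iv F94008)
theorem F134724 : act 7 n31916 = n21905 := d43_1 D31916 (iv D21905) (iv F94009)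
def n31917 : Q := act 8 n21903
theorem D31917 : act 8 n21903 = n31917 := rfl
theorem F134725 : act 0 n31917 = n31917 := d7_1 D31917 (iv D31917) F94011
theorem F134726 : act 3 n31917 = n31917 := d28_1 D31917 (iv D31917) F94012 F65758 (iv F94012)
theorem F134727 : act 6 n31917 = n22024 := d40_1 D31917 (iv D22024) (iv F94013)
theorem F134728 : act 7 n31917 = n21906 := d42_1 D31917 (iv D21906) (iv F94014)
theorem F134729 : act 9 n31917 = n31917 := d44_2 D21903 D31917 (iv D31917) (iv D21903) F65752
def n31918 : Q := act 0 n21904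
theorem D31918 : act 0 n21904 = n31918 := rfl
theorem F134730 : act 1 n31918 = n31918 := d0_2 D21904 D31918 (iv D31918) (iv D21904) F65759
theorem F134731 : act 3 n31918 = n31918 := d2_2 F94015 D31918 (iv D31918)
theorem F134732 : act 6 n31918 = n21907 := d5_2 (iv F94016) D31918 (iv D21907)
theorem F134733 : act 8 n31918 = n31918 := d7_2 F94017 D31918 (iv D31918)
def n31919 : Q := act 9 n21904
theorem D31919 : act 9 n21904 = n31919 := rfl
theorem F134734 : act 1 n31919 = n21905 := d16_1 D31919 (iv D21905) D21904
theorem F134735 : act 3 n31919 = n31919 := d29_1 D31919 (iv D31919) F94015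
theorem F134736 : act 6 n31919 = n21908 := d41_1 D31919 (iv D21908) (iv F94016)
def n31920 : Q := act 8 n21905
theorem D31920 : act 8 n21905 = n31920 := rfl
theorem F134737 : act 0 n31920 = n31920 := d7_1 D31920 (iv D31920) F94018
theorem F134738 : act 2 n31920 = n21906 := d22_1 D31920 (iv D21906) (iv F94019)
theorem F134739 : act 6 n31920 = n21909 := d40_1 D31920 (iv D21909) (iv F94021)
theorem F134740 : act 9 n31920 = n31920 := d44_2 D21905 D31920 (iv D31920) (iv D21905) F65762
def n31921 : Q := act 9 n21907
theorem D31921 : act 9 n21907 = n31921 := rfl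
theorem F134741 : act 0 n31921 = n21908 := d8_1 D31921 (iv D21908) D21907
theorem F134742 : act 1 n31921 = n31921 := d16_1 D31921 (iv D31921) F94026
theorem F134743 : act 3 n31921 = n31921 := d29_1 D31921 (iv D31921) F94027
theorem F134744 : act 5 n31921 = n31921 := d38_1 D31921 (iv D31921) F94028
theorem F134745 : act 7 n31921 = n22028 := d43_1 D31921 (iv D22028) (iv F94029)
def n31922 : Q := act 8 n21908
theorem D31922 : act 8 n21908 = n31922 := rfl
theorem F134746 : act 1 n31922 = n21909 := d15_1 D31922 (iv D21909) (iv F94031)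
theorem F134747 : act 5 n31922 = n31922 := d37_1 D31922 (iv D31922) F94033
theorem F134748 : act 7 n31922 = n22029 := d42_1 D31922 (iv D22029) (iv F94034)
theorem F134749 : act 9 n31922 = n31922 := d44_2 D21908 D31922 (iv D31922) (iv D21908) F65769
def n31923 : Q := act 3 n21909
theorem D31923 : act 3 n21909 = n31923 := rfl
theorem F134750 : act 0 n31923 = n31923 := d2_1 D31923 (iv D31923) F94035
theorem F134751 : act 2 n31923 = n31923 := d17_1 D31923 (iv D31923) F94036 F65776 (iv F94036)
theorem F134752 : act 5 n31923 = n31923 := d25_2 F94037 D31923 (iv D31923)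
theorem F134753 : act 7 n31923 = n22030 := d27_2 (iv F94038) D31923 (iv D22030)
theorem F134754 : act 8 n31923 = n31923 := d28_2 D21909 D31923 (iv D31923) (iv D21909) F65772
theorem F134755 : act 9 n31923 = n31923 := d29_2 F94039 D31923 (iv D31923)
def n31956 : Q := act 7 n21929
theorem D31956 : act 7 n21929 = n31956 := rfl
theorem F134902 : act 3 n31956 = n21934 := d27_1 D31956 (iv D21934) (iv F94131)
theorem F134904 : act 5 n31956 = n21930 := d36_1 D31956 (iv D21930) D21929
def n31961 : Q := act 2 n21932
theorem D31961 : act 2 n21932 = n31961 := rfl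
theorem F134923 : act 0 n31961 = n21968 := d1_1 D31961 (iv D21968) (iv F94144)
theorem F134926 : act 8 n31961 = n21939 := d22_2 (iv F94146) D31961 (iv D21939)
def n31962 : Q := act 4 n21932
theorem D31962 : act 4 n21932 = n31962 := rfl
theorem F134928 : act 3 n31962 = n24106 := d24_1 D31962 (iv D24106) (iv D16560) (iv F65835) D21932
def n31963 : Q := act 9 n21932
theorem D31963 : act 9 n21932 = n31963 := rfl
theorem F134930 : act 0 n31963 = n21970 := d8_1 D31963 (iv D21970) (iv F94144)
def n31965 : Q := act 8 n21934
theorem D31965 : act 8 n21934 = n31965 := rfl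
theorem F134940 : act 4 n31965 = n22057 := d33_1 D31965 (iv D22057) (iv F94154)
theorem F134941 : act 5 n31965 = n21936 := d37_1 D31965 (iv D21936) (iv F94155)
def n31967 : Q := act 9 n21935
theorem D31967 : act 9 n21935 = n31967 := rfl
theorem F134946 : act 0 n31967 = n21974 := d8_1 D31967 (iv D21974) (iv F94157)
theorem F134947 : act 2 n31967 = n21955 := d23_1 D31967 (iv D21955) (iv F94158)
theorem F134948 : act 4 n31967 = n22059 := d34_1 D31967 (iv D22059) (iv F94159)
def n31969 : Q := act 9 n21936
theorem D31969 : act 9 n21936 = n31969 := rfl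
theorem F134954 : act 0 n31969 = n21976 := d8_1 D31969 (iv D21976) (iv F94162)
theorem F134955 : act 2 n31969 = n21957 := d23_1 D31969 (iv D21957) (iv F94163)
def n31970 : Q := act 2 n21937
theorem D31970 : act 2 n21937 = n31970 := rfl
theorem F134959 : act 0 n31970 = n21977 := d1_1 D31970 (iv D21977) (iv F94166)
theorem F134960 : act 3 n31970 = n21958 := d17_2 D21937 D31970 (iv D21958) (iv D15082) (iv F65847)
def n31971 : Q := act 4 n21937
theorem D31971 : act 4 n21937 = n31971 := rfl
theorem F134963 : act 3 n31971 = n21944 := d24_1 D31971 (iv D21944) (iv D15072) (iv F65848) D21937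
def n31972 : Q := act 9 n21937
theorem D31972 : act 9 n21937 = n31972 := rfl
theorem F134965 : act 0 n31972 = n21979 := d8_1 D31972 (iv D21979) (iv F94166)
theorem F134966 : act 3 n31972 = n21938 := d29_1 D31972 (iv D21938) D21937
def n31973 : Q := act 1 n21939
theorem D31973 : act 1 n21939 = n31973 := rfl
theorem F134968 : act 3 n31973 = n21960 := d10_2 (iv F94174) D31973 (iv D21960)
def n31974 : Q := act 4 n21939
theorem D31974 : act 4 n21939 = n31974 := rfl
theorem F134971 : act 2 n31974 = n21940 := d18_1 D31974 (iv D21940) D21939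
def n31975 : Q := act 9 n21939
theorem D31975 : act 9 n21939 = n31975 := rfl
theorem F134972 : act 0 n31975 = n21982 := d8_1 D31975 (iv D21982) (iv F94173)
theorem F134973 : act 2 n31975 = n21941 := d23_1 D31975 (iv D21941) D21939
theorem F134974 : act 3 n31975 = n21961 := d29_1 D31975 (iv D21961) (iv F94174)
theorem F134975 : act 5 n31975 = n31975 := d38_1 D31975 (iv D31975) F94175
def n31978 : Q := act 8 n21941
theorem D31978 : act 8 n21941 = n31978 := rfl
theorem F134982 : act 0 n31978 = n21985 := d7_1 D31978 (iv D21985) (iv F94178)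
theorem F134983 : act 3 n31978 = n31978 := d28_1 D31978 (iv D31978) F94179 F65856 (iv F94179)
theorem F134984 : act 5 n31978 = n31978 := d37_1 D31978 (iv D31978) F94180
def n31992 : Q := act 3 n21953
theorem D31992 : act 3 n21953 = n31992 := rfl
theorem F135033 : act 0 n31992 = n21999 := d2_1 D31992 (iv D21999) (iv F94223)
theorem F135035 : act 5 n31992 = n21956 := d25_2 (iv F94226) D31992 (iv D21956)
def n31993 : Q := act 9 n21953
theorem D31993 : act 9 n21953 = n31993 := rfl
theorem F135038 : act 0 n31993 = n22000 := d8_1 D31993 (iv D22000) (iv F94223)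
theorem F135040 : act 4 n31993 = n22085 := d34_1 D31993 (iv D22085) (iv F94225)
def n31994 : Q := act 2 n21954
theorem D31994 : act 2 n21954 = n31994 := rfl
theorem F135044 : act 0 n31994 = n22001 := d1_1 D31994 (iv D22001) (iv F94228)
theorem F135045 : act 5 n31994 = n21958 := d19_2 (iv F94230) D31994 (iv D21958)
def n31995 : Q := act 4 n21954
theorem D31995 : act 4 n21954 = n31995 := rfl
theorem F135048 : act 0 n31995 = n22002 := d3_1 D31995 (iv D22002) (iv F94228)
theorem F135049 : act 1 n31995 = n31995 := d11_1 D31995 (iv D31995) F94229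
theorem F135050 : act 3 n31995 = n22087 := d24_1 D31995 (iv D22087) (iv D15171) (iv F65894) D21954
theorem F135051 : act 6 n31995 = n31995 := d31_2 F94231 D31995 (iv D31995)
theorem F135052 : act 8 n31995 = n31995 := d33_2 F94232 D31995 (iv D31995)
def n31996 : Q := act 9 n21954
theorem D31996 : act 9 n21954 = n31996 := rfl
theorem F135053 : act 0 n31996 = n22003 := d8_1 D31996 (iv D22003) (iv F94228)
theorem F135054 : act 1 n31996 = n31996 := d16_1 D31996 (iv D31996) F94229
theorem F135055 : act 3 n31996 = n21955 := d29_1 D31996 (iv D21955) D21954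
theorem F135056 : act 5 n31996 = n21959 := d38_1 D31996 (iv D21959) (iv F94230)
theorem F135057 : act 6 n31996 = n31996 := d41_1 D31996 (iv D31996) F94231
def n31997 : Q := act 2 n21956
theorem D31997 : act 2 n21956 = n31997 := rfl
theorem F135058 : act 0 n31997 = n22004 := d1_1 D31997 (iv D22004) (iv F94239)
def n31998 : Q := act 9 n21956
theorem D31998 : act 9 n21956 = n31998 := rfl
theorem F135061 : act 0 n31998 = n22005 := d8_1 D31998 (iv D22005) (iv F94239)
theorem F135062 : act 1 n31998 = n31998 := d16_1 D31998 (iv D31998) F94240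
theorem F135063 : act 3 n31998 = n21957 := d29_1 D31998 (iv D21957) D21956
theorem F135064 : act 7 n31998 = n21959 := d43_1 D31998 (iv D21959) (iv F94241)
def n31999 : Q := act 1 n21958
theorem D31999 : act 1 n21958 = n31999 := rfl
theorem F135066 : act 6 n31999 = n21960 := d13_2 (iv F94249) D31999 (iv D21960)
def n32000 : Q := act 9 n21958
theorem D32000 : act 9 n21958 = n32000 := rfl
theorem F135068 : act 0 n32000 = n22007 := d8_1 D32000 (iv D22007) (iv F94248)
theorem F135069 : act 2 n32000 = n21959 := d23_1 D32000 (iv D21959) D21958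
theorem F135070 : act 6 n32000 = n21961 := d41_1 D32000 (iv D21961) (iv F94249)
def n32001 : Q := act 8 n21959
theorem D32001 : act 8 n21959 = n32001 := rfl
theorem F135071 : act 0 n32001 = n22008 := d7_1 D32001 (iv D22008) (iv F94251)
theorem F135072 : act 1 n32001 = n32001 := d15_1 D32001 (iv D32001) F94252
theorem F135073 : act 3 n32001 = n32001 := d28_1 D32001 (iv D32001) F94253 F65909 (iv F94253)
theorem F135074 : act 6 n32001 = n21962 := d40_1 D32001 (iv D21962) (iv F94254)
theorem F135075 : act 9 n32001 = n32001 := d44_2 D21959 D32001 (iv D32001) (iv D21959) F65904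
def n32002 : Q := act 0 n21960
theorem D32002 : act 0 n21960 = n32002 := rfl
theorem F135076 : act 1 n32002 = n22009 := d0_2 D21960 D32002 (iv D22009) (iv D15118) (iv F65910)
theorem F135077 : act 2 n32002 = n32002 := d1_2 F94255 D32002 (iv D32002)
theorem F135078 : act 5 n32002 = n32002 := d4_2 F94256 D32002 (iv D32002)
theorem F135079 : act 8 n32002 = n32002 := d7_2 F94257 D32002 (iv D32002)
def n32003 : Q := act 9 n21960
theorem D32003 : act 9 n21960 = n32003 := rfl
theorem F135080 : act 1 n32003 = n21961 := d16_1 D32003 (iv D21961) D21960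
theorem F135081 : act 2 n32003 = n32003 := d23_1 D32003 (iv D32003) F94255
theorem F135082 : act 5 n32003 = n32003 := d38_1 D32003 (iv D32003) F94256
def n32004 : Q := act 8 n21961
theorem D32004 : act 8 n21961 = n32004 := rfl
theorem F135083 : act 0 n32004 = n22011 := d7_1 D32004 (iv D22011) (iv F94258)
theorem F135084 : act 2 n32004 = n21962 := d22_1 D32004 (iv D21962) (iv F94259)
theorem F135085 : act 5 n32004 = n32004 := d37_1 D32004 (iv D32004) F94260
theorem F135086 : act 9 n32004 = n32004 := d44_2 D21961 D32004 (iv D32004) (iv D21961) F65912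
def n32011 : Q := act 2 n21966
theorem D32011 : act 2 n21966 = n32011 := rfl
theorem F135118 : act 8 n32011 = n21977 := d22_2 (iv F94283) D32011 (iv D21977)
def n32012 : Q := act 4 n21966
theorem D32012 : act 4 n21966 = n32012 := rfl
theorem F135122 : act 8 n32012 = n21978 := d33_2 (iv F94283) D32012 (iv D21978)
def n32014 : Q := act 1 n21968
theorem D32014 : act 1 n21968 = n32014 := rfl
theorem F135126 : act 2 n32014 = n32014 := d9_2 D21968 D32014 (iv D32014) (iv D21968) F65937
theorem F135127 : act 3 n32014 = n32014 := d10_2 F94289 D32014 (iv D32014)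
theorem F135128 : act 5 n32014 = n32014 := d12_2 F94290 D32014 (iv D32014)
theorem F135129 : act 8 n32014 = n21980 := d15_2 (iv F94291) D32014 (iv D21980)
def n32015 : Q := act 4 n21968
theorem D32015 : act 4 n21968 = n32015 := rfl
theorem F135130 : act 2 n32015 = n21969 := d18_1 D32015 (iv D21969) D21968
theorem F135131 : act 8 n32015 = n21981 := d33_2 (iv F94291) D32015 (iv D21981)
def n32016 : Q := act 9 n21968
theorem D32016 : act 9 n21968 = n32016 := rfl
theorem F135132 : act 2 n32016 = n21970 := d23_1 D32016 (iv D21970) D21968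
theorem F135133 : act 3 n32016 = n32016 := d29_1 D32016 (iv D32016) F94289
theorem F135134 : act 5 n32016 = n32016 := d38_1 D32016 (iv D32016) F94290
def n32017 : Q := act 5 n21969
theorem D32017 : act 5 n21969 = n32017 := rfl
theorem F135135 : act 1 n32017 = n32017 := d12_1 D32017 (iv D32017) F94292
theorem F135136 : act 3 n32017 = n24147 := d25_1 D32017 (iv D24147) (iv F94293)
theorem F135137 : act 4 n32017 = n32017 := d30_1 D32017 (iv D32017) (iv D21969) F65938 D21969
theorem F135138 : act 8 n32017 = n21983 := d37_2 (iv F94294) D32017 (iv D21983)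
def n32018 : Q := act 9 n21969
theorem D32018 : act 9 n21969 = n32018 := rfl
theorem F135139 : act 1 n32018 = n32018 := d16_1 D32018 (iv D32018) F94292
theorem F135140 : act 3 n32018 = n24148 := d29_1 D32018 (iv D24148) (iv F94293)
theorem F135141 : act 4 n32018 = n21970 := d34_1 D32018 (iv D21970) D21969
def n32019 : Q := act 8 n21970
theorem D32019 : act 8 n21970 = n32019 := rfl
theorem F135145 : act 9 n32019 = n21985 := d44_2 D21970 D32019 (iv D21985) (iv D15099) (iv F65939)
def n32021 : Q := act 3 n21972
theorem D32021 : act 3 n21972 = n32021 := rfl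
theorem F135152 : act 5 n32021 = n21975 := d25_2 (iv F94306) D32021 (iv D21975)
def n32022 : Q := act 9 n21972
theorem D32022 : act 9 n21972 = n32022 := rfl
theorem F135155 : act 2 n32022 = n22000 := d23_1 D32022 (iv D22000) (iv F94304)
theorem F135156 : act 4 n32022 = n22099 := d34_1 D32022 (iv D22099) (iv F94305)
def n32023 : Q := act 2 n21973
theorem D32023 : act 2 n21973 = n32023 := rfl
theorem F135160 : act 3 n32023 = n22001 := d17_2 D21973 D32023 (iv D22001) (iv D15112) (iv F65951)
def n32024 : Q := act 4 n21973
theorem D32024 : act 4 n21973 = n32024 := rfl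
theorem F135164 : act 3 n32024 = n22101 := d24_1 D32024 (iv D22101) (iv D15182) (iv F65952) D21973
def n32025 : Q := act 9 n21973
theorem D32025 : act 9 n21973 = n32025 := rfl
theorem F135167 : act 3 n32025 = n21974 := d29_1 D32025 (iv D21974) D21973
def n32026 : Q := act 2 n21975
theorem D32026 : act 2 n21975 = n32026 := rfl
theorem F135170 : act 3 n32026 = n22004 := d17_2 D21975 D32026 (iv D22004) (iv D15114) (iv F65956)
def n32027 : Q := act 4 n21975
theorem D32027 : act 4 n21975 = n32027 := rfl
theorem F135173 : act 3 n32027 = n21986 := d24_1 D32027 (iv D21986) (iv D15100) (iv F65957) D21975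
def n32028 : Q := act 9 n21975
theorem D32028 : act 9 n21975 = n32028 := rfl
theorem F135176 : act 3 n32028 = n21976 := d29_1 D32028 (iv D21976) D21975
def n32029 : Q := act 1 n21977
theorem D32029 : act 1 n21977 = n32029 := rfl
theorem F135178 : act 2 n32029 = n32029 := d9_2 D21977 D32029 (iv D32029) (iv D21977) F65959
theorem F135179 : act 3 n32029 = n22006 := d10_2 (iv F94324) D32029 (iv D22006)
theorem F135180 : act 6 n32029 = n21980 := d13_2 (iv F94325) D32029 (iv D21980)
def n32030 : Q := act 4 n21977
theorem D32030 : act 4 n21977 = n32030 := rfl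
theorem F135181 : act 2 n32030 = n21978 := d18_1 D32030 (iv D21978) D21977
theorem F135182 : act 6 n32030 = n21981 := d31_2 (iv F94325) D32030 (iv D21981)
def n32031 : Q := act 9 n21977
theorem D32031 : act 9 n21977 = n32031 := rfl
theorem F135183 : act 2 n32031 = n21979 := d23_1 D32031 (iv D21979) D21977
theorem F135184 : act 3 n32031 = n22007 := d29_1 D32031 (iv D22007) (iv F94324)
theorem F135185 : act 6 n32031 = n21982 := d41_1 D32031 (iv D21982) (iv F94325)
def n32032 : Q := act 5 n21978
theorem D32032 : act 5 n21978 = n32032 := rfl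
theorem F135186 : act 1 n32032 = n32032 := d12_1 D32032 (iv D32032) F94326
theorem F135187 : act 3 n32032 = n21988 := d25_1 D32032 (iv D21988) (iv F94327)
def n32033 : Q := act 9 n21978
theorem D32033 : act 9 n21978 = n32033 := rfl
theorem F135188 : act 1 n32033 = n32033 := d16_1 D32033 (iv D32033) F94326
theorem F135189 : act 3 n32033 = n21989 := d29_1 D32033 (iv D21989) (iv F94327)
theorem F135190 : act 4 n32033 = n21979 := d34_1 D32033 (iv D21979) D21978
theorem F135191 : act 6 n32033 = n21984 := d41_1 D32033 (iv D21984) (iv F94328)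
def n32034 : Q := act 8 n21979
theorem D32034 : act 8 n21979 = n32034 := rfl
theorem F135192 : act 1 n32034 = n32034 := d15_1 D32034 (iv D32034) F94329
theorem F135193 : act 3 n32034 = n32034 := d28_1 D32034 (iv D32034) F94330 F65965 (iv F94330)
theorem F135194 : act 6 n32034 = n21985 := d40_1 D32034 (iv D21985) (iv F94331)
def n32035 : Q := act 0 n21980
theorem D32035 : act 0 n21980 = n32035 := rfl
theorem F135195 : act 2 n32035 = n32035 := d1_2 F94332 D32035 (iv D32035)
theorem F135196 : act 3 n32035 = n22009 := d2_2 (iv F94333) D32035 (iv D22009)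
theorem F135197 : act 5 n32035 = n32035 := d4_2 F94334 D32035 (iv D32035)
def n32036 : Q := act 4 n21980
theorem D32036 : act 4 n21980 = n32036 := rfl
theorem F135198 : act 1 n32036 = n21981 := d11_1 D32036 (iv D21981) D21980
theorem F135199 : act 2 n32036 = n32036 := d18_1 D32036 (iv D32036) F94332
def n32037 : Q := act 9 n21980
theorem D32037 : act 9 n21980 = n32037 := rfl
theorem F135200 : act 1 n32037 = n21982 := d16_1 D32037 (iv D21982) D21980
theorem F135201 : act 2 n32037 = n32037 := d23_1 D32037 (iv D32037) F94332
theorem F135202 : act 3 n32037 = n22010 := d29_1 D32037 (iv D22010) (iv F94333)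
theorem F135203 : act 5 n32037 = n32037 := d38_1 D32037 (iv D32037) F94334
def n32038 : Q := act 5 n21981
theorem D32038 : act 5 n21981 = n32038 := rfl
theorem F135204 : act 2 n32038 = n21983 := d19_1 D32038 (iv D21983) (iv F94335)
theorem F135205 : act 4 n32038 = n32038 := d30_1 D32038 (iv D32038) (iv D21981) F65967 D21981
def n32039 : Q := act 9 n21981
theorem D32039 : act 9 n21981 = n32039 := rfl
theorem F135206 : act 2 n32039 = n21984 := d23_1 D32039 (iv D21984) (iv F94335)
theorem F135207 : act 4 n32039 = n21982 := d34_1 D32039 (iv D21982) D21981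
def n32040 : Q := act 8 n21982
theorem D32040 : act 8 n21982 = n32040 := rfl
theorem F135208 : act 2 n32040 = n21985 := d22_1 D32040 (iv D21985) (iv F94336)
theorem F135209 : act 5 n32040 = n32040 := d37_1 D32040 (iv D32040) F94338
def n32041 : Q := act 6 n21983
theorem D32041 : act 6 n21983 = n32041 := rfl
theorem F135210 : act 1 n32041 = n32041 := d13_1 D32041 (iv D32041) F94339
theorem F135211 : act 3 n32041 = n21991 := d26_1 D32041 (iv D21991) (iv F94340)
theorem F135212 : act 4 n32041 = n32041 := d31_1 D32041 (iv D32041) F94341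
def n32042 : Q := act 9 n21983
theorem D32042 : act 9 n21983 = n32042 := rfl
theorem F135213 : act 1 n32042 = n32042 := d16_1 D32042 (iv D32042) F94339
theorem F135214 : act 3 n32042 = n21992 := d29_1 D32042 (iv D21992) (iv F94340)
theorem F135215 : act 4 n32042 = n32042 := d34_1 D32042 (iv D32042) F94341
theorem F135216 : act 5 n32042 = n21984 := d38_1 D32042 (iv D21984) D21983
def n32043 : Q := act 8 n21984
theorem D32043 : act 8 n21984 = n32043 := rfl
theorem F135217 : act 1 n32043 = n32043 := d15_1 D32043 (iv D32043) F94342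
theorem F135218 : act 4 n32043 = n21985 := d33_1 D32043 (iv D21985) (iv F94344)
def n32044 : Q := act 5 n21986
theorem D32044 : act 5 n21986 = n32044 := rfl
theorem F135219 : act 1 n32044 = n32044 := d12_1 D32044 (iv D32044) F94348
theorem F135220 : act 4 n32044 = n22121 := d30_1 D32044 (iv D22121) (iv D15195) (iv F65974) D21986
theorem F135221 : act 7 n32044 = n21988 := d36_2 (iv F94349) D32044 (iv D21988)
theorem F135222 : act 8 n32044 = n24168 := d37_2 (iv F94350) D32044 (iv D24168)
def n32045 : Q := act 9 n21986
theorem D32045 : act 9 n21986 = n32045 := rfl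
theorem F135223 : act 1 n32045 = n32045 := d16_1 D32045 (iv D32045) F94348
theorem F135224 : act 4 n32045 = n21987 := d34_1 D32045 (iv D21987) D21986
theorem F135225 : act 7 n32045 = n21989 := d43_1 D32045 (iv D21989) (iv F94349)
def n32047 : Q := act 6 n21988
theorem D32047 : act 6 n21988 = n32047 := rfl
theorem F135231 : act 1 n32047 = n32047 := d13_1 D32047 (iv D32047) F94355
theorem F135232 : act 4 n32047 = n22124 := d31_1 D32047 (iv D22124) (iv F94356)
theorem F135233 : act 5 n32047 = n21991 := d35_1 D32047 (iv D21991) (iv D15104) (iv F65983) D21988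
theorem F135234 : act 8 n32047 = n24171 := d40_2 (iv F94357) D32047 (iv D24171)
def n32048 : Q := act 9 n21988
theorem D32048 : act 9 n21988 = n32048 := rfl
theorem F135235 : act 1 n32048 = n32048 := d16_1 D32048 (iv D32048) F94355
theorem F135236 : act 4 n32048 = n22125 := d34_1 D32048 (iv D22125) (iv F94356)
theorem F135237 : act 5 n32048 = n21989 := d38_1 D32048 (iv D21989) D21988
def n32050 : Q := act 7 n21991
theorem D32050 : act 7 n21991 = n32050 := rfl
theorem F135242 : act 1 n32050 = n32050 := d14_1 D32050 (iv D32050) F94366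
theorem F135243 : act 4 n32050 = n21994 := d32_1 D32050 (iv D21994) (iv F94367)
theorem F135244 : act 8 n32050 = n24174 := d42_2 (iv F94368) D32050 (iv D24174)
def n32051 : Q := act 9 n21991
theorem D32051 : act 9 n21991 = n32051 := rfl
theorem F135245 : act 1 n32051 = n32051 := d16_1 D32051 (iv D32051) F94366
theorem F135246 : act 4 n32051 = n21995 := d34_1 D32051 (iv D21995) (iv F94367)
theorem F135247 : act 6 n32051 = n21992 := d41_1 D32051 (iv D21992) D21991
def n32054 : Q := act 9 n21994
theorem D32054 : act 9 n21994 = n32054 := rfl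
theorem F135257 : act 5 n32054 = n22131 := d38_1 D32054 (iv D22131) (iv F94377)
theorem F135258 : act 7 n32054 = n21995 := d43_1 D32054 (iv D21995) D21994
def n32058 : Q := act 3 n21998
theorem D32058 : act 3 n21998 = n32058 := rfl
theorem F135271 : act 1 n32058 = n22012 := d10_1 D32058 (iv D22012) (iv F94391)
theorem F135272 : act 6 n32058 = n21999 := d26_2 (iv F94393) D32058 (iv D21999)
def n32059 : Q := act 9 n21998
theorem D32059 : act 9 n21998 = n32059 := rfl
theorem F135276 : act 4 n32059 = n22136 := d34_1 D32059 (iv D22136) (iv F94392)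
theorem F135277 : act 6 n32059 = n22000 := d41_1 D32059 (iv D22000) (iv F94393)
def n32060 : Q := act 2 n21999
theorem D32060 : act 2 n21999 = n32060 := rfl
theorem F135280 : act 5 n32060 = n22004 := d19_2 (iv F94396) D32060 (iv D22004)
theorem F135281 : act 7 n32060 = n22001 := d21_2 (iv F94397) D32060 (iv D22001)
def n32061 : Q := act 4 n21999
theorem D32061 : act 4 n21999 = n32061 := rfl
theorem F135284 : act 3 n32061 = n22138 := d24_1 D32061 (iv D22138) (iv D15208) (iv F66015) D21999
theorem F135285 : act 7 n32061 = n22002 := d32_2 (iv F94397) D32061 (iv D22002)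
def n32062 : Q := act 9 n21999
theorem D32062 : act 9 n21999 = n32062 := rfl
theorem F135287 : act 1 n32062 = n22016 := d16_1 D32062 (iv D22016) (iv F94395)
theorem F135288 : act 3 n32062 = n22000 := d29_1 D32062 (iv D22000) D21999
theorem F135289 : act 5 n32062 = n22005 := d38_1 D32062 (iv D22005) (iv F94396)
theorem F135290 : act 7 n32062 = n22003 := d43_1 D32062 (iv D22003) (iv F94397)
def n32063 : Q := act 1 n22001
theorem D32063 : act 1 n22001 = n32063 := rfl
theorem F135291 : act 2 n32063 = n22017 := d9_2 D22001 D32063 (iv D22017) (iv D15124) (iv F66018)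
theorem F135292 : act 5 n32063 = n22006 := d12_2 (iv F94404) D32063 (iv D22006)
theorem F135293 : act 6 n32063 = n32063 := d13_2 F94405 D32063 (iv D32063)
theorem F135294 : act 8 n32063 = n32063 := d15_2 F94406 D32063 (iv D32063)
def n32064 : Q := act 4 n22001
theorem D32064 : act 4 n22001 = n32064 := rfl
theorem F135295 : act 2 n32064 = n22002 := d18_1 D32064 (iv D22002) D22001
theorem F135296 : act 6 n32064 = n32064 := d31_2 F94405 D32064 (iv D32064)
theorem F135297 : act 8 n32064 = n32064 := d33_2 F94406 D32064 (iv D32064)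
def n32065 : Q := act 9 n22001
theorem D32065 : act 9 n22001 = n32065 := rfl
theorem F135298 : act 2 n32065 = n22003 := d23_1 D32065 (iv D22003) D22001
theorem F135299 : act 5 n32065 = n22007 := d38_1 D32065 (iv D22007) (iv F94404)
theorem F135300 : act 6 n32065 = n32065 := d41_1 D32065 (iv D32065) F94405
def n32066 : Q := act 9 n22002
theorem D32066 : act 9 n22002 = n32066 := rfl
theorem F135301 : act 1 n32066 = n22020 := d16_1 D32066 (iv D22020) (iv F94407)
theorem F135302 : act 3 n32066 = n22143 := d29_1 D32066 (iv D22143) (iv F94408)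
theorem F135303 : act 4 n32066 = n22003 := d34_1 D32066 (iv D22003) D22002
theorem F135304 : act 6 n32066 = n32066 := d41_1 D32066 (iv D32066) F94409
def n32067 : Q := act 8 n22003
theorem D32067 : act 8 n22003 = n32067 := rfl
theorem F135305 : act 1 n32067 = n22021 := d15_1 D32067 (iv D22021) (iv F94411)
theorem F135306 : act 3 n32067 = n32067 := d28_1 D32067 (iv D32067) F94412 F66026 (iv F94412)
theorem F135307 : act 5 n32067 = n22008 := d37_1 D32067 (iv D22008) (iv F94413)
theorem F135308 : act 6 n32067 = n32067 := d40_1 D32067 (iv D32067) F94414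
theorem F135309 : act 9 n32067 = n32067 := d44_2 D22003 D32067 (iv D32067) (iv D22003) F66021
def n32068 : Q := act 1 n22004
theorem D32068 : act 1 n22004 = n32068 := rfl
theorem F135310 : act 2 n32068 = n22022 := d9_2 D22004 D32068 (iv D22022) (iv D15127) (iv F66027)
theorem F135311 : act 7 n32068 = n22006 := d14_2 (iv F94415) D32068 (iv D22006)
theorem F135312 : act 8 n32068 = n32068 := d15_2 F94416 D32068 (iv D32068)
def n32069 : Q := act 9 n22004
theorem D32069 : act 9 n22004 = n32069 := rfl
theorem F135313 : act 2 n32069 = n22005 := d23_1 D32069 (iv D22005) D22004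
theorem F135314 : act 7 n32069 = n22007 := d43_1 D32069 (iv D22007) (iv F94415)
def n32070 : Q := act 8 n22005
theorem D32070 : act 8 n22005 = n32070 := rfl
theorem F135315 : act 1 n32070 = n22024 := d15_1 D32070 (iv D22024) (iv F94417)
theorem F135316 : act 3 n32070 = n32070 := d28_1 D32070 (iv D32070) F94418 F66033 (iv F94418)
theorem F135317 : act 7 n32070 = n22008 := d42_1 D32070 (iv D22008) (iv F94419)
theorem F135318 : act 9 n32070 = n32070 := d44_2 D22005 D32070 (iv D32070) (iv D22005) F66029
def n32071 : Q := act 0 n22006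
theorem D32071 : act 0 n22006 = n32071 := rfl
theorem F135319 : act 2 n32071 = n22025 := d1_2 (iv F94420) D32071 (iv D22025)
theorem F135320 : act 6 n32071 = n22009 := d5_2 (iv F94421) D32071 (iv D22009)
theorem F135321 : act 8 n32071 = n32071 := d7_2 F94422 D32071 (iv D32071)
def n32072 : Q := act 9 n22006
theorem D32072 : act 9 n22006 = n32072 := rfl
theorem F135322 : act 1 n32072 = n22007 := d16_1 D32072 (iv D22007) D22006
theorem F135323 : act 2 n32072 = n22026 := d23_1 D32072 (iv D22026) (iv F94420)
theorem F135324 : act 6 n32072 = n22010 := d41_1 D32072 (iv D22010) (iv F94421)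
def n32073 : Q := act 8 n22007
theorem D32073 : act 8 n22007 = n32073 := rfl
theorem F135325 : act 2 n32073 = n22008 := d22_1 D32073 (iv D22008) (iv F94423)
theorem F135326 : act 6 n32073 = n22011 := d40_1 D32073 (iv D22011) (iv F94424)
theorem F135327 : act 9 n32073 = n32073 := d44_2 D22007 D32073 (iv D32073) (iv D22007) F66035
def n32074 : Q := act 9 n22009
theorem D32074 : act 9 n22009 = n32074 := rfl
theorem F135328 : act 0 n32074 = n22010 := d8_1 D32074 (iv D22010) D22009
theorem F135329 : act 2 n32074 = n22028 := d23_1 D32074 (iv D22028) (iv F94429)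
theorem F135330 : act 5 n32074 = n32074 := d38_1 D32074 (iv D32074) F94430
def n32075 : Q := act 8 n22010
theorem D32075 : act 8 n22010 = n32075 := rfl
theorem F135331 : act 1 n32075 = n22011 := d15_1 D32075 (iv D22011) (iv F94432)
theorem F135332 : act 2 n32075 = n22029 := d22_1 D32075 (iv D22029) (iv F94433)
theorem F135333 : act 5 n32075 = n32075 := d37_1 D32075 (iv D32075) F94434
theorem F135334 : act 9 n32075 = n32075 := d44_2 D22010 D32075 (iv D32075) (iv D22010) F66041
def n32076 : Q := act 3 n22011
theorem D32076 : act 3 n22011 = n32076 := rfl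
theorem F135335 : act 2 n32076 = n32076 := d17_1 D32076 (iv D32076) F94435 F66045 (iv F94435)
theorem F135336 : act 5 n32076 = n32076 := d25_2 F94436 D32076 (iv D32076)
theorem F135337 : act 9 n32076 = n32076 := d29_2 F94437 D32076 (iv D32076)
def n32077 : Q := act 2 n22012
theorem D32077 : act 2 n22012 = n32077 := rfl
theorem F135340 : act 6 n32077 = n22014 := d20_2 (iv F94439) D32077 (iv D22014)
def n32078 : Q := act 4 n22012
theorem D32078 : act 4 n22012 = n32078 := rfl
theorem F135344 : act 3 n32078 = n22155 := d24_1 D32078 (iv D22155) (iv D15221) (iv F66050) D22012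
def n32079 : Q := act 9 n22012
theorem D32079 : act 9 n22012 = n32079 := rfl
theorem F135350 : act 6 n32079 = n22016 := d41_1 D32079 (iv D22016) (iv F94439)
def n32080 : Q := act 1 n22014
theorem D32080 : act 1 n22014 = n32080 := rfl
theorem F135352 : act 3 n32080 = n32080 := d10_2 F94449 D32080 (iv D32080)
theorem F135353 : act 5 n32080 = n22022 := d12_2 (iv F94450) D32080 (iv D22022)
theorem F135354 : act 7 n32080 = n22017 := d14_2 (iv F94451) D32080 (iv D22017)
theorem F135355 : act 8 n32080 = n32080 := d15_2 F94452 D32080 (iv D32080)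
def n32081 : Q := act 4 n22014
theorem D32081 : act 4 n22014 = n32081 := rfl
theorem F135357 : act 2 n32081 = n22015 := d18_1 D32081 (iv D22015) D22014
theorem F135358 : act 7 n32081 = n22018 := d32_2 (iv F94451) D32081 (iv D22018)
def n32082 : Q := act 9 n22014
theorem D32082 : act 9 n22014 = n32082 := rfl
theorem F135360 : act 0 n32082 = n32082 := d8_1 D32082 (iv D32082) F94448
theorem F135361 : act 2 n32082 = n22016 := d23_1 D32082 (iv D22016) D22014
theorem F135362 : act 3 n32082 = n32082 := d29_1 D32082 (iv D32082) F94449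
theorem F135363 : act 5 n32082 = n22023 := d38_1 D32082 (iv D22023) (iv F94450)
theorem F135364 : act 7 n32082 = n22019 := d43_1 D32082 (iv D22019) (iv F94451)
def n32083 : Q := act 9 n22015
theorem D32083 : act 9 n22015 = n32083 := rfl
theorem F135368 : act 7 n32083 = n22020 := d43_1 D32083 (iv D22020) (iv F94455)
def n32084 : Q := act 8 n22016
theorem D32084 : act 8 n22016 = n32084 := rfl
theorem F135369 : act 0 n32084 = n32084 := d7_1 D32084 (iv D32084) F94457
theorem F135370 : act 3 n32084 = n32084 := d28_1 D32084 (iv D32084) F94458 F66062 (iv F94458)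
theorem F135371 : act 5 n32084 = n22024 := d37_1 D32084 (iv D22024) (iv F94459)
theorem F135372 : act 7 n32084 = n22021 := d42_1 D32084 (iv D22021) (iv F94460)
theorem F135373 : act 9 n32084 = n32084 := d44_2 D22016 D32084 (iv D32084) (iv D22016) F66056
def n32085 : Q := act 0 n22017
theorem D32085 : act 0 n22017 = n32085 := rfl
theorem F135374 : act 1 n32085 = n32085 := d0_2 D22017 D32085 (iv D32085) (iv D22017) F66063
theorem F135375 : act 3 n32085 = n32085 := d2_2 F94461 D32085 (iv D32085)
theorem F135376 : act 5 n32085 = n22025 := d4_2 (iv F94462) D32085 (iv D22025)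
theorem F135377 : act 6 n32085 = n32085 := d5_2 F94463 D32085 (iv D32085)
theorem F135378 : act 8 n32085 = n32085 := d7_2 F94464 D32085 (iv D32085)
def n32086 : Q := act 4 n22017
theorem D32086 : act 4 n22017 = n32086 := rfl
theorem F135379 : act 1 n32086 = n22018 := d11_1 D32086 (iv D22018) D22017
theorem F135380 : act 6 n32086 = n32086 := d31_2 F94463 D32086 (iv D32086)
theorem F135381 : act 8 n32086 = n32086 := d33_2 F94464 D32086 (iv D32086)
def n32087 : Q := act 9 n22017
theorem D32087 : act 9 n22017 = n32087 := rfl
theorem F135382 : act 1 n32087 = n22019 := d16_1 D32087 (iv D22019) D22017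
theorem F135383 : act 3 n32087 = n32087 := d29_1 D32087 (iv D32087) F94461
theorem F135384 : act 5 n32087 = n22026 := d38_1 D32087 (iv D22026) (iv F94462)
theorem F135385 : act 6 n32087 = n32087 := d41_1 D32087 (iv D32087) F94463
def n32088 : Q := act 3 n22018
theorem D32088 : act 3 n22018 = n32088 := rfl
theorem F135387 : act 2 n32088 = n22165 := d17_1 D32088 (iv D22165) F66498 (iv F66069) (iv F94466)
def n32089 : Q := act 9 n22018
theorem D32089 : act 9 n22018 = n32089 := rfl
theorem F135390 : act 0 n32089 = n32089 := d8_1 D32089 (iv D32089) F94465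
theorem F135391 : act 2 n32089 = n22020 := d23_1 D32089 (iv D22020) (iv F94466)
theorem F135392 : act 4 n32089 = n22019 := d34_1 D32089 (iv D22019) D22018
theorem F135393 : act 6 n32089 = n32089 := d41_1 D32089 (iv D32089) F94467
def n32090 : Q := act 8 n22019
theorem D32090 : act 8 n22019 = n32090 := rfl
theorem F135394 : act 0 n32090 = n32090 := d7_1 D32090 (iv D32090) F94469
theorem F135395 : act 2 n32090 = n22021 := d22_1 D32090 (iv D22021) (iv F94470)
theorem F135396 : act 5 n32090 = n22027 := d37_1 D32090 (iv D22027) (iv F94472)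
theorem F135397 : act 6 n32090 = n32090 := d40_1 D32090 (iv D32090) F94473
theorem F135398 : act 9 n32090 = n32090 := d44_2 D22019 D32090 (iv D32090) (iv D22019) F66067
def n32091 : Q := act 8 n22020
theorem D32091 : act 8 n22020 = n32091 := rfl
theorem F135399 : act 0 n32091 = n32091 := d7_1 D32091 (iv D32091) F94474
theorem F135400 : act 4 n32091 = n22021 := d33_1 D32091 (iv D22021) (iv F94476)
theorem F135401 : act 6 n32091 = n32091 := d40_1 D32091 (iv D32091) F94477
theorem F135402 : act 9 n32091 = n32091 := d44_2 D22020 D32091 (iv D32091) (iv D22020) F66071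
def n32092 : Q := act 0 n22022
theorem D32092 : act 0 n22022 = n32092 := rfl
theorem F135403 : act 1 n32092 = n32092 := d0_2 D22022 D32092 (iv D32092) (iv D22022) F66076
theorem F135404 : act 3 n32092 = n32092 := d2_2 F94483 D32092 (iv D32092)
theorem F135405 : act 7 n32092 = n22025 := d6_2 (iv F94484) D32092 (iv D22025)
theorem F135406 : act 8 n32092 = n32092 := d7_2 F94485 D32092 (iv D32092)
def n32093 : Q := act 9 n22022
theorem D32093 : act 9 n22022 = n32093 := rfl
theorem F135407 : act 1 n32093 = n22023 := d16_1 D32093 (iv D22023) D22022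
theorem F135408 : act 3 n32093 = n32093 := d29_1 D32093 (iv D32093) F94483
theorem F135409 : act 7 n32093 = n22026 := d43_1 D32093 (iv D22026) (iv F94484)
def n32094 : Q := act 8 n22023
theorem D32094 : act 8 n22023 = n32094 := rfl
theorem F135410 : act 0 n32094 = n32094 := d7_1 D32094 (iv D32094) F94486
theorem F135411 : act 2 n32094 = n22024 := d22_1 D32094 (iv D22024) (iv F94487)
theorem F135412 : act 7 n32094 = n22027 := d42_1 D32094 (iv D22027) (iv F94489)
theorem F135413 : act 9 n32094 = n32094 := d44_2 D22023 D32094 (iv D32094) (iv D22023) F66079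
def n32095 : Q := act 9 n22025
theorem D32095 : act 9 n22025 = n32095 := rfl
theorem F135414 : act 0 n32095 = n22026 := d8_1 D32095 (iv D22026) D22025
theorem F135415 : act 1 n32095 = n32095 := d16_1 D32095 (iv D32095) F94494
theorem F135416 : act 3 n32095 = n32095 := d29_1 D32095 (iv D32095) F94495
theorem F135417 : act 6 n32095 = n22028 := d41_1 D32095 (iv D22028) (iv F94496)
def n32096 : Q := act 8 n22026
theorem D32096 : act 8 n22026 = n32096 := rfl
theorem F135418 : act 1 n32096 = n22027 := d15_1 D32096 (iv D22027) (iv F94498)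
theorem F135419 : act 6 n32096 = n22029 := d40_1 D32096 (iv D22029) (iv F94500)
theorem F135420 : act 9 n32096 = n32096 := d44_2 D22026 D32096 (iv D32096) (iv D22026) F66085
def n32097 : Q := act 3 n22027
theorem D32097 : act 3 n22027 = n32097 := rfl
theorem F135421 : act 0 n32097 = n32097 := d2_1 D32097 (iv D32097) F94501
theorem F135422 : act 2 n32097 = n32097 := d17_1 D32097 (iv D32097) F94502 F66091 (iv F94502)
theorem F135423 : act 6 n32097 = n22030 := d26_2 (iv F94503) D32097 (iv D22030)
theorem F135424 : act 8 n32097 = n32097 := d28_2 D22027 D32097 (iv D32097) (iv D22027) F66088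
theorem F135425 : act 9 n32097 = n32097 := d29_2 F94504 D32097 (iv D32097)
def n32098 : Q := act 8 n22028
theorem D32098 : act 8 n22028 = n32098 := rfl
theorem F135426 : act 0 n32098 = n22029 := d7_1 D32098 (iv D22029) (iv F94505)
theorem F135427 : act 1 n32098 = n32098 := d15_1 D32098 (iv D32098) F94506
theorem F135428 : act 5 n32098 = n32098 := d37_1 D32098 (iv D32098) F94508
theorem F135429 : act 9 n32098 = n32098 := d44_2 D22028 D32098 (iv D32098) (iv D22028) F66097
def n32099 : Q := act 3 n22029
theorem D32099 : act 3 n22029 = n32099 := rfl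
theorem F135430 : act 1 n32099 = n22030 := d10_1 D32099 (iv D22030) (iv F94509)
theorem F135431 : act 5 n32099 = n32099 := d25_2 F94510 D32099 (iv D32099)
theorem F135432 : act 8 n32099 = n32099 := d28_2 D22029 D32099 (iv D32099) (iv D22029) F66099
theorem F135433 : act 9 n32099 = n32099 := d29_2 F94511 D32099 (iv D32099)
def n32100 : Q := act 4 n22030
theorem D32100 : act 4 n22030 = n32100 := rfl
theorem F135434 : act 0 n32100 = n32100 := d3_1 D32100 (iv D32100) F94512
theorem F135435 : act 2 n32100 = n32100 := d18_1 D32100 (iv D32100) F94513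
theorem F135436 : act 8 n32100 = n32100 := d33_2 F94515 D32100 (iv D32100)
theorem F135437 : act 9 n32100 = n32100 := d34_2 F94516 D32100 (iv D32100)
def n32143 : Q := act 3 n22057
theorem D32143 : act 3 n22057 = n32143 := rfl
theorem F135639 : act 0 n32143 = n22098 := d2_1 D32143 (iv D22098) (iv F94642)
theorem F135640 : act 5 n32143 = n22060 := d25_2 (iv F94644) D32143 (iv D22060)
def n32144 : Q := act 9 n22057
theorem D32144 : act 9 n22057 = n32144 := rfl
theorem F135643 : act 0 n32144 = n22099 := d8_1 D32144 (iv D22099) (iv F94642)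
theorem F135644 : act 2 n32144 = n22085 := d23_1 D32144 (iv D22085) (iv F94643)
def n32145 : Q := act 2 n22058
theorem D32145 : act 2 n22058 = n32145 := rfl
theorem F135648 : act 0 n32145 = n22100 := d1_1 D32145 (iv D22100) (iv F94646)
theorem F135649 : act 3 n32145 = n22086 := d17_2 D22058 D32145 (iv D22086) (iv D15171) (iv F66192)
theorem F135650 : act 5 n32145 = n22062 := d19_2 (iv F94647) D32145 (iv D22062)
theorem F135651 : act 6 n32145 = n32145 := d20_2 F94648 D32145 (iv D32145)
theorem F135652 : act 8 n32145 = n32145 := d22_2 F94649 D32145 (iv D32145)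
def n32146 : Q := act 4 n22058
theorem D32146 : act 4 n22058 = n32146 := rfl
theorem F135653 : act 0 n32146 = n22101 := d3_1 D32146 (iv D22101) (iv F94646)
def n32147 : Q := act 9 n22058
theorem D32147 : act 9 n22058 = n32147 := rfl
theorem F135656 : act 0 n32147 = n22102 := d8_1 D32147 (iv D22102) (iv F94646)
theorem F135657 : act 3 n32147 = n22059 := d29_1 D32147 (iv D22059) D22058
theorem F135658 : act 5 n32147 = n22064 := d38_1 D32147 (iv D22064) (iv F94647)
theorem F135659 : act 6 n32147 = n32147 := d41_1 D32147 (iv D32147) F94648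
def n32148 : Q := act 2 n22060
theorem D32148 : act 2 n22060 = n32148 := rfl
theorem F135660 : act 0 n32148 = n22103 := d1_1 D32148 (iv D22103) (iv F94655)
theorem F135661 : act 3 n32148 = n22089 := d17_2 D22060 D32148 (iv D22089) (iv D15173) (iv F66196)
theorem F135662 : act 6 n32148 = n32148 := d20_2 F94656 D32148 (iv D32148)
theorem F135663 : act 7 n32148 = n22062 := d21_2 (iv F94657) D32148 (iv D22062)
theorem F135664 : act 8 n32148 = n32148 := d22_2 F94658 D32148 (iv D32148)
def n32149 : Q := act 4 n22060
theorem D32149 : act 4 n22060 = n32149 := rfl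
theorem F135666 : act 3 n32149 = n22071 := d24_1 D32149 (iv D22071) (iv D15159) (iv F66197) D22060
def n32150 : Q := act 9 n22060
theorem D32150 : act 9 n22060 = n32150 := rfl
theorem F135670 : act 0 n32150 = n22105 := d8_1 D32150 (iv D22105) (iv F94655)
theorem F135671 : act 3 n32150 = n22061 := d29_1 D32150 (iv D22061) D22060
theorem F135672 : act 6 n32150 = n32150 := d41_1 D32150 (iv D32150) F94656
theorem F135673 : act 7 n32150 = n22064 := d43_1 D32150 (iv D22064) (iv F94657)
def n32151 : Q := act 1 n22062
theorem D32151 : act 1 n22062 = n32151 := rfl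
theorem F135674 : act 3 n32151 = n22091 := d10_2 (iv F94666) D32151 (iv D22091)
theorem F135675 : act 6 n32151 = n22065 := d13_2 (iv F94667) D32151 (iv D22065)
theorem F135676 : act 8 n32151 = n32151 := d15_2 F94668 D32151 (iv D32151)
def n32152 : Q := act 4 n22062
theorem D32152 : act 4 n22062 = n32152 := rfl
theorem F135678 : act 2 n32152 = n22063 := d18_1 D32152 (iv D22063) D22062
def n32153 : Q := act 9 n22062
theorem D32153 : act 9 n22062 = n32153 := rfl
theorem F135681 : act 0 n32153 = n22108 := d8_1 D32153 (iv D22108) (iv F94665)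
theorem F135682 : act 2 n32153 = n22064 := d23_1 D32153 (iv D22064) D22062
theorem F135683 : act 3 n32153 = n22092 := d29_1 D32153 (iv D22092) (iv F94666)
theorem F135684 : act 6 n32153 = n22067 := d41_1 D32153 (iv D22067) (iv F94667)
def n32156 : Q := act 8 n22064
theorem D32156 : act 8 n22064 = n32156 := rfl
theorem F135692 : act 0 n32156 = n22111 := d7_1 D32156 (iv D22111) (iv F94673)
theorem F135693 : act 3 n32156 = n32156 := d28_1 D32156 (iv D32156) F94674 F66207 (iv F94674)
theorem F135694 : act 6 n32156 = n22070 := d40_1 D32156 (iv D22070) (iv F94675)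
theorem F135695 : act 9 n32156 = n32156 := d44_2 D22064 D32156 (iv D32156) (iv D22064) F66202
def n32157 : Q := act 0 n22065
theorem D32157 : act 0 n22065 = n32157 := rfl
theorem F135696 : act 1 n32157 = n22112 := d0_2 D22065 D32157 (iv D22112) (iv D15189) (iv F66208)
theorem F135697 : act 3 n32157 = n22094 := d2_2 (iv F94676) D32157 (iv D22094)
theorem F135698 : act 5 n32157 = n32157 := d4_2 F94677 D32157 (iv D32157)
theorem F135699 : act 7 n32157 = n32157 := d6_2 F94678 D32157 (iv D32157)
theorem F135700 : act 8 n32157 = n32157 := d7_2 F94679 D32157 (iv D32157)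
def n32158 : Q := act 4 n22065
theorem D32158 : act 4 n22065 = n32158 := rfl
theorem F135701 : act 1 n32158 = n22066 := d11_1 D32158 (iv D22066) D22065
def n32159 : Q := act 9 n22065
theorem D32159 : act 9 n22065 = n32159 := rfl
theorem F135704 : act 1 n32159 = n22067 := d16_1 D32159 (iv D22067) D22065
theorem F135705 : act 3 n32159 = n22095 := d29_1 D32159 (iv D22095) (iv F94676)
theorem F135706 : act 5 n32159 = n32159 := d38_1 D32159 (iv D32159) F94677
theorem F135707 : act 7 n32159 = n32159 := d43_1 D32159 (iv D32159) F94678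
def n32161 : Q := act 9 n22066
theorem D32161 : act 9 n22066 = n32161 := rfl
theorem F135714 : act 2 n32161 = n22069 := d23_1 D32161 (iv D22069) (iv F94681)
theorem F135715 : act 4 n32161 = n22067 := d34_1 D32161 (iv D22067) D22066
def n32162 : Q := act 8 n22067
theorem D32162 : act 8 n22067 = n32162 := rfl
theorem F135717 : act 0 n32162 = n22117 := d7_1 D32162 (iv D22117) (iv F94684)
theorem F135718 : act 2 n32162 = n22070 := d22_1 D32162 (iv D22070) (iv F94685)
theorem F135719 : act 5 n32162 = n32162 := d37_1 D32162 (iv D32162) F94687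
theorem F135720 : act 7 n32162 = n32162 := d42_1 D32162 (iv D32162) F94688
theorem F135721 : act 9 n32162 = n32162 := d44_2 D22067 D32162 (iv D32162) (iv D22067) F66212
def n32180 : Q := act 3 n22083
theorem D32180 : act 3 n22083 = n32180 := rfl
theorem F135792 : act 6 n32180 = n22084 := d26_2 (iv F94750) D32180 (iv D22084)
theorem F135794 : act 8 n32180 = n22178 := d28_2 D22083 D32180 (iv D22178) (iv D15240) (iv F66261)
def n32181 : Q := act 9 n22083
theorem D32181 : act 9 n22083 = n32181 := rfl
theorem F135795 : act 0 n32181 = n22136 := d8_1 D32181 (iv D22136) (iv F94747)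
theorem F135798 : act 6 n32181 = n22085 := d41_1 D32181 (iv D22085) (iv F94750)
def n32182 : Q := act 2 n22084
theorem D32182 : act 2 n22084 = n32182 := rfl
theorem F135801 : act 0 n32182 = n22137 := d1_1 D32182 (iv D22137) (iv F94752)
theorem F135802 : act 5 n32182 = n22089 := d19_2 (iv F94754) D32182 (iv D22089)
theorem F135803 : act 7 n32182 = n22086 := d21_2 (iv F94755) D32182 (iv D22086)
theorem F135804 : act 8 n32182 = n22180 := d22_2 (iv F94756) D32182 (iv D22180)
def n32183 : Q := act 4 n22084
theorem D32183 : act 4 n22084 = n32183 := rfl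
theorem F135807 : act 7 n32183 = n22087 := d32_2 (iv F94755) D32183 (iv D22087)
theorem F135808 : act 8 n32183 = n22181 := d33_2 (iv F94756) D32183 (iv D22181)
def n32184 : Q := act 9 n22084
theorem D32184 : act 9 n22084 = n32184 := rfl
theorem F135809 : act 0 n32184 = n22139 := d8_1 D32184 (iv D22139) (iv F94752)
theorem F135810 : act 1 n32184 = n32184 := d16_1 D32184 (iv D32184) F94753
theorem F135811 : act 3 n32184 = n22085 := d29_1 D32184 (iv D22085) D22084
theorem F135812 : act 5 n32184 = n22090 := d38_1 D32184 (iv D22090) (iv F94754)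
theorem F135813 : act 7 n32184 = n22088 := d43_1 D32184 (iv D22088) (iv F94755)
def n32185 : Q := act 1 n22086
theorem D32185 : act 1 n22086 = n32185 := rfl
theorem F135814 : act 2 n32185 = n32185 := d9_2 D22086 D32185 (iv D32185) (iv D22086) F66270
theorem F135815 : act 5 n32185 = n22091 := d12_2 (iv F94763) D32185 (iv D22091)
theorem F135816 : act 6 n32185 = n32185 := d13_2 F94764 D32185 (iv D32185)
theorem F135817 : act 8 n32185 = n22183 := d15_2 (iv F94765) D32185 (iv D22183)
def n32186 : Q := act 4 n22086
theorem D32186 : act 4 n22086 = n32186 := rfl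
theorem F135818 : act 0 n32186 = n22141 := d3_1 D32186 (iv D22141) (iv F94762)
theorem F135819 : act 2 n32186 = n22087 := d18_1 D32186 (iv D22087) D22086
theorem F135820 : act 6 n32186 = n32186 := d31_2 F94764 D32186 (iv D32186)
theorem F135821 : act 8 n32186 = n22184 := d33_2 (iv F94765) D32186 (iv D22184)
def n32187 : Q := act 9 n22086
theorem D32187 : act 9 n22086 = n32187 := rfl
theorem F135822 : act 0 n32187 = n22142 := d8_1 D32187 (iv D22142) (iv F94762)
theorem F135823 : act 2 n32187 = n22088 := d23_1 D32187 (iv D22088) D22086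
theorem F135824 : act 5 n32187 = n22092 := d38_1 D32187 (iv D22092) (iv F94763)
theorem F135825 : act 6 n32187 = n32187 := d41_1 D32187 (iv D32187) F94764
def n32188 : Q := act 9 n22087
theorem D32188 : act 9 n22087 = n32188 := rfl
theorem F135826 : act 0 n32188 = n22143 := d8_1 D32188 (iv D22143) (iv F94766)
theorem F135827 : act 1 n32188 = n32188 := d16_1 D32188 (iv D32188) F94767
theorem F135828 : act 4 n32188 = n22088 := d34_1 D32188 (iv D22088) D22087
theorem F135829 : act 6 n32188 = n32188 := d41_1 D32188 (iv D32188) F94768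
def n32189 : Q := act 8 n22088
theorem D32189 : act 8 n22088 = n32189 := rfl
theorem F135830 : act 0 n32189 = n22144 := d7_1 D32189 (iv D22144) (iv F94770)
theorem F135831 : act 1 n32189 = n32189 := d15_1 D32189 (iv D32189) F94771
theorem F135832 : act 3 n32189 = n32189 := d28_1 D32189 (iv D32189) F94772 F66278 (iv F94772)
theorem F135833 : act 5 n32189 = n22093 := d37_1 D32189 (iv D22093) (iv F94773)
theorem F135834 : act 6 n32189 = n32189 := d40_1 D32189 (iv D32189) F94774
theorem F135835 : act 9 n32189 = n22187 := d44_2 D22088 D32189 (iv D22187) (iv D15245) (iv F66273)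
def n32190 : Q := act 1 n22089
theorem D32190 : act 1 n22089 = n32190 := rfl
theorem F135836 : act 2 n32190 = n32190 := d9_2 D22089 D32190 (iv D32190) (iv D22089) F66280
theorem F135837 : act 6 n32190 = n32190 := d13_2 F94776 D32190 (iv D32190)
theorem F135838 : act 7 n32190 = n22091 := d14_2 (iv F94777) D32190 (iv D22091)
theorem F135839 : act 8 n32190 = n22188 := d15_2 (iv F94778) D32190 (iv D22188)
def n32191 : Q := act 9 n22089
theorem D32191 : act 9 n22089 = n32191 := rfl
theorem F135840 : act 0 n32191 = n22146 := d8_1 D32191 (iv D22146) (iv F94775)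
theorem F135841 : act 2 n32191 = n22090 := d23_1 D32191 (iv D22090) D22089
theorem F135842 : act 6 n32191 = n32191 := d41_1 D32191 (iv D32191) F94776
theorem F135843 : act 7 n32191 = n22092 := d43_1 D32191 (iv D22092) (iv F94777)
def n32192 : Q := act 8 n22090
theorem D32192 : act 8 n22090 = n32192 := rfl
theorem F135844 : act 0 n32192 = n22147 := d7_1 D32192 (iv D22147) (iv F94779)
theorem F135845 : act 1 n32192 = n32192 := d15_1 D32192 (iv D32192) F94780
theorem F135846 : act 3 n32192 = n32192 := d28_1 D32192 (iv D32192) F94781 F66289 (iv F94781)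
theorem F135847 : act 6 n32192 = n32192 := d40_1 D32192 (iv D32192) F94782
theorem F135848 : act 7 n32192 = n22093 := d42_1 D32192 (iv D22093) (iv F94783)
theorem F135849 : act 9 n32192 = n22190 := d44_2 D22090 D32192 (iv D22190) (iv D15247) (iv F66283)
def n32193 : Q := act 0 n22091
theorem D32193 : act 0 n22091 = n32193 := rfl
theorem F135850 : act 1 n32193 = n22148 := d0_2 D22091 D32193 (iv D22148) (iv D15215) (iv F66290)
theorem F135851 : act 2 n32193 = n32193 := d1_2 F94784 D32193 (iv D32193)
theorem F135852 : act 6 n32193 = n22094 := d5_2 (iv F94785) D32193 (iv D22094)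
theorem F135853 : act 8 n32193 = n22191 := d7_2 (iv F94786) D32193 (iv D22191)
def n32194 : Q := act 9 n22091
theorem D32194 : act 9 n22091 = n32194 := rfl
theorem F135854 : act 1 n32194 = n22092 := d16_1 D32194 (iv D22092) D22091
theorem F135855 : act 2 n32194 = n32194 := d23_1 D32194 (iv D32194) F94784
theorem F135856 : act 6 n32194 = n22095 := d41_1 D32194 (iv D22095) (iv F94785)
def n32195 : Q := act 8 n22092
theorem D32195 : act 8 n22092 = n32195 := rfl
theorem F135857 : act 0 n32195 = n22150 := d7_1 D32195 (iv D22150) (iv F94787)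
theorem F135858 : act 2 n32195 = n22093 := d22_1 D32195 (iv D22093) (iv F94788)
theorem F135859 : act 6 n32195 = n22096 := d40_1 D32195 (iv D22096) (iv F94789)
theorem F135860 : act 9 n32195 = n22193 := d44_2 D22092 D32195 (iv D22193) (iv D15249) (iv F66292)
def n32196 : Q := act 9 n22094
theorem D32196 : act 9 n22094 = n32196 := rfl
theorem F135861 : act 0 n32196 = n22095 := d8_1 D32196 (iv D22095) D22094
theorem F135862 : act 1 n32196 = n22151 := d16_1 D32196 (iv D22151) (iv F94795)
theorem F135863 : act 2 n32196 = n32196 := d23_1 D32196 (iv D32196) F94796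
theorem F135864 : act 5 n32196 = n32196 := d38_1 D32196 (iv D32196) F94797
theorem F135865 : act 7 n32196 = n32196 := d43_1 D32196 (iv D32196) F94798
def n32197 : Q := act 8 n22095
theorem D32197 : act 8 n22095 = n32197 := rfl
theorem F135866 : act 1 n32197 = n22096 := d15_1 D32197 (iv D22096) (iv F94800)
theorem F135867 : act 2 n32197 = n32197 := d22_1 D32197 (iv D32197) F94801
theorem F135868 : act 5 n32197 = n32197 := d37_1 D32197 (iv D32197) F94802
theorem F135869 : act 7 n32197 = n32197 := d42_1 D32197 (iv D32197) F94803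
theorem F135870 : act 9 n32197 = n22195 := d44_2 D22095 D32197 (iv D22195) (iv D15252) (iv F66300)
def n32198 : Q := act 3 n22096
theorem D32198 : act 3 n22096 = n32198 := rfl
theorem F135871 : act 0 n32198 = n22153 := d2_1 D32198 (iv D22153) (iv F94804)
theorem F135872 : act 2 n32198 = n32198 := d17_1 D32198 (iv D32198) F94805 F66307 (iv F94805)
theorem F135873 : act 5 n32198 = n32198 := d25_2 F94806 D32198 (iv D32198)
theorem F135874 : act 7 n32198 = n32198 := d27_2 F94807 D32198 (iv D32198)
theorem F135875 : act 9 n32198 = n22196 := d29_2 (iv F94808) D32198 (iv D22196)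
def n32199 : Q := act 3 n22097
theorem D32199 : act 3 n22097 = n32199 := rfl
theorem F135878 : act 6 n32199 = n22098 := d26_2 (iv F94812) D32199 (iv D22098)
def n32200 : Q := act 9 n22097
theorem D32200 : act 9 n22097 = n32200 := rfl
theorem F135882 : act 2 n32200 = n22136 := d23_1 D32200 (iv D22136) (iv F94810)
theorem F135884 : act 6 n32200 = n22099 := d41_1 D32200 (iv D22099) (iv F94812)
def n32201 : Q := act 2 n22098
theorem D32201 : act 2 n22098 = n32201 := rfl
theorem F135887 : act 3 n32201 = n22137 := d17_2 D22098 D32201 (iv D22137) (iv D15208) (iv F66318)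
theorem F135888 : act 5 n32201 = n22103 := d19_2 (iv F94815) D32201 (iv D22103)
theorem F135889 : act 7 n32201 = n22100 := d21_2 (iv F94816) D32201 (iv D22100)
theorem F135890 : act 8 n32201 = n32201 := d22_2 F94817 D32201 (iv D32201)
def n32202 : Q := act 4 n22098
theorem D32202 : act 4 n22098 = n32202 := rfl
theorem F135892 : act 7 n32202 = n22101 := d32_2 (iv F94816) D32202 (iv D22101)
def n32203 : Q := act 9 n22098
theorem D32203 : act 9 n22098 = n32203 := rfl
theorem F135894 : act 1 n32203 = n32203 := d16_1 D32203 (iv D32203) F94814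
theorem F135895 : act 3 n32203 = n22099 := d29_1 D32203 (iv D22099) D22098
theorem F135896 : act 5 n32203 = n22105 := d38_1 D32203 (iv D22105) (iv F94815)
theorem F135897 : act 7 n32203 = n22102 := d43_1 D32203 (iv D22102) (iv F94816)
def n32204 : Q := act 1 n22100
theorem D32204 : act 1 n22100 = n32204 := rfl
theorem F135898 : act 2 n32204 = n32204 := d9_2 D22100 D32204 (iv D32204) (iv D22100) F66321
theorem F135899 : act 3 n32204 = n22140 := d10_2 (iv F94823) D32204 (iv D22140)
theorem F135900 : act 5 n32204 = n22106 := d12_2 (iv F94824) D32204 (iv D22106)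
theorem F135901 : act 6 n32204 = n32204 := d13_2 F94825 D32204 (iv D32204)
theorem F135902 : act 8 n32204 = n32204 := d15_2 F94826 D32204 (iv D32204)
def n32205 : Q := act 4 n22100
theorem D32205 : act 4 n22100 = n32205 := rfl
theorem F135903 : act 2 n32205 = n22101 := d18_1 D32205 (iv D22101) D22100
theorem F135904 : act 6 n32205 = n32205 := d31_2 F94825 D32205 (iv D32205)
theorem F135905 : act 8 n32205 = n32205 := d33_2 F94826 D32205 (iv D32205)
def n32206 : Q := act 9 n22100
theorem D32206 : act 9 n22100 = n32206 := rfl
theorem F135906 : act 2 n32206 = n22102 := d23_1 D32206 (iv D22102) D22100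
theorem F135907 : act 3 n32206 = n22142 := d29_1 D32206 (iv D22142) (iv F94823)
theorem F135908 : act 5 n32206 = n22108 := d38_1 D32206 (iv D22108) (iv F94824)
theorem F135909 : act 6 n32206 = n32206 := d41_1 D32206 (iv D32206) F94825
def n32207 : Q := act 5 n22101
theorem D32207 : act 5 n22101 = n32207 := rfl
theorem F135910 : act 1 n32207 = n32207 := d12_1 D32207 (iv D32207) F94827
theorem F135911 : act 4 n32207 = n22109 := d30_1 D32207 (iv D22109) (iv D15187) (iv F66322) D22101
theorem F135912 : act 8 n32207 = n32207 := d37_2 F94829 D32207 (iv D32207)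
def n32208 : Q := act 9 n22101
theorem D32208 : act 9 n22101 = n32208 := rfl
theorem F135913 : act 1 n32208 = n32208 := d16_1 D32208 (iv D32208) F94827
theorem F135914 : act 4 n32208 = n22102 := d34_1 D32208 (iv D22102) D22101
theorem F135915 : act 6 n32208 = n32208 := d41_1 D32208 (iv D32208) F94828
def n32209 : Q := act 8 n22102
theorem D32209 : act 8 n22102 = n32209 := rfl
theorem F135916 : act 1 n32209 = n32209 := d15_1 D32209 (iv D32209) F94830
theorem F135917 : act 3 n32209 = n32209 := d28_1 D32209 (iv D32209) F94831 F66329 (iv F94831)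
theorem F135918 : act 5 n32209 = n22111 := d37_1 D32209 (iv D22111) (iv F94832)
theorem F135919 : act 6 n32209 = n32209 := d40_1 D32209 (iv D32209) F94833
theorem F135920 : act 9 n32209 = n32209 := d44_2 D22102 D32209 (iv D32209) (iv D22102) F66324
def n32210 : Q := act 1 n22103
theorem D32210 : act 1 n22103 = n32210 := rfl
theorem F135921 : act 2 n32210 = n32210 := d9_2 D22103 D32210 (iv D32210) (iv D22103) F66330
theorem F135922 : act 3 n32210 = n22145 := d10_2 (iv F94834) D32210 (iv D22145)
theorem F135923 : act 6 n32210 = n32210 := d13_2 F94835 D32210 (iv D32210)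
theorem F135924 : act 7 n32210 = n22106 := d14_2 (iv F94836) D32210 (iv D22106)
theorem F135925 : act 8 n32210 = n32210 := d15_2 F94837 D32210 (iv D32210)
def n32211 : Q := act 4 n22103
theorem D32211 : act 4 n22103 = n32211 := rfl
theorem F135926 : act 2 n32211 = n22104 := d18_1 D32211 (iv D22104) D22103
theorem F135927 : act 6 n32211 = n32211 := d31_2 F94835 D32211 (iv D32211)
theorem F135928 : act 7 n32211 = n22107 := d32_2 (iv F94836) D32211 (iv D22107)
theorem F135929 : act 8 n32211 = n32211 := d33_2 F94837 D32211 (iv D32211)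
def n32212 : Q := act 9 n22103
theorem D32212 : act 9 n22103 = n32212 := rfl
theorem F135930 : act 2 n32212 = n22105 := d23_1 D32212 (iv D22105) D22103
theorem F135931 : act 3 n32212 = n22146 := d29_1 D32212 (iv D22146) (iv F94834)
theorem F135932 : act 6 n32212 = n32212 := d41_1 D32212 (iv D32212) F94835
theorem F135933 : act 7 n32212 = n22108 := d43_1 D32212 (iv D22108) (iv F94836)
def n32213 : Q := act 5 n22104
theorem D32213 : act 5 n22104 = n32213 := rfl
theorem F135934 : act 1 n32213 = n32213 := d12_1 D32213 (iv D32213) F94838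
theorem F135935 : act 3 n32213 = n22121 := d25_1 D32213 (iv D22121) (iv F94839)
theorem F135936 : act 7 n32213 = n22109 := d36_2 (iv F94841) D32213 (iv D22109)
theorem F135937 : act 8 n32213 = n32213 := d37_2 F94842 D32213 (iv D32213)
def n32214 : Q := act 9 n22104
theorem D32214 : act 9 n22104 = n32214 := rfl
theorem F135938 : act 1 n32214 = n32214 := d16_1 D32214 (iv D32214) F94838
theorem F135939 : act 3 n32214 = n22122 := d29_1 D32214 (iv D22122) (iv F94839)
theorem F135940 : act 4 n32214 = n22105 := d34_1 D32214 (iv D22105) D22104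
theorem F135941 : act 6 n32214 = n32214 := d41_1 D32214 (iv D32214) F94840
theorem F135942 : act 7 n32214 = n22110 := d43_1 D32214 (iv D22110) (iv F94841)
def n32215 : Q := act 8 n22105
theorem D32215 : act 8 n22105 = n32215 := rfl
theorem F135943 : act 1 n32215 = n32215 := d15_1 D32215 (iv D32215) F94843
theorem F135944 : act 3 n32215 = n32215 := d28_1 D32215 (iv D32215) F94844 F66339 (iv F94844)
theorem F135945 : act 6 n32215 = n32215 := d40_1 D32215 (iv D32215) F94845
theorem F135946 : act 7 n32215 = n22111 := d42_1 D32215 (iv D22111) (iv F94846)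
theorem F135947 : act 9 n32215 = n32215 := d44_2 D22105 D32215 (iv D32215) (iv D22105) F66333
def n32216 : Q := act 0 n22106
theorem D32216 : act 0 n22106 = n32216 := rfl
theorem F135948 : act 2 n32216 = n32216 := d1_2 F94847 D32216 (iv D32216)
theorem F135949 : act 3 n32216 = n22148 := d2_2 (iv F94848) D32216 (iv D22148)
theorem F135950 : act 6 n32216 = n22112 := d5_2 (iv F94849) D32216 (iv D22112)
theorem F135951 : act 8 n32216 = n32216 := d7_2 F94850 D32216 (iv D32216)
def n32217 : Q := act 4 n22106
theorem D32217 : act 4 n22106 = n32217 := rfl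
theorem F135952 : act 1 n32217 = n22107 := d11_1 D32217 (iv D22107) D22106
theorem F135953 : act 2 n32217 = n32217 := d18_1 D32217 (iv D32217) F94847
theorem F135954 : act 6 n32217 = n22113 := d31_2 (iv F94849) D32217 (iv D22113)
theorem F135955 : act 8 n32217 = n32217 := d33_2 F94850 D32217 (iv D32217)
def n32218 : Q := act 9 n22106
theorem D32218 : act 9 n22106 = n32218 := rfl
theorem F135956 : act 1 n32218 = n22108 := d16_1 D32218 (iv D22108) D22106
theorem F135957 : act 2 n32218 = n32218 := d23_1 D32218 (iv D32218) F94847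
theorem F135958 : act 3 n32218 = n22149 := d29_1 D32218 (iv D22149) (iv F94848)
theorem F135959 : act 6 n32218 = n22114 := d41_1 D32218 (iv D22114) (iv F94849)
def n32219 : Q := act 5 n22107
theorem D32219 : act 5 n22107 = n32219 := rfl
theorem F135960 : act 2 n32219 = n22109 := d19_1 D32219 (iv D22109) (iv F94851)
theorem F135961 : act 8 n32219 = n32219 := d37_2 F94853 D32219 (iv D32219)
def n32220 : Q := act 9 n22107
theorem D32220 : act 9 n22107 = n32220 := rfl
theorem F135962 : act 2 n32220 = n22110 := d23_1 D32220 (iv D22110) (iv F94851)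
theorem F135963 : act 4 n32220 = n22108 := d34_1 D32220 (iv D22108) D22107
theorem F135964 : act 6 n32220 = n22116 := d41_1 D32220 (iv D22116) (iv F94852)
def n32221 : Q := act 8 n22108
theorem D32221 : act 8 n22108 = n32221 := rfl
theorem F135965 : act 2 n32221 = n22111 := d22_1 D32221 (iv D22111) (iv F94854)
theorem F135966 : act 6 n32221 = n22117 := d40_1 D32221 (iv D22117) (iv F94856)
theorem F135967 : act 9 n32221 = n32221 := d44_2 D22108 D32221 (iv D32221) (iv D22108) F66342
def n32222 : Q := act 6 n22109
theorem D32222 : act 6 n22109 = n32222 := rfl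
theorem F135968 : act 1 n32222 = n32222 := d13_1 D32222 (iv D32222) F94857
theorem F135969 : act 3 n32222 = n22124 := d26_1 D32222 (iv D22124) (iv F94858)
theorem F135970 : act 5 n32222 = n22118 := d35_1 D32222 (iv D22118) (iv D15192) (iv F66345) D22109
theorem F135971 : act 8 n32222 = n32222 := d40_2 F94859 D32222 (iv D32222)
def n32223 : Q := act 9 n22109
theorem D32223 : act 9 n22109 = n32223 := rfl
theorem F135972 : act 1 n32223 = n32223 := d16_1 D32223 (iv D32223) F94857
theorem F135973 : act 3 n32223 = n22125 := d29_1 D32223 (iv D22125) (iv F94858)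
theorem F135974 : act 5 n32223 = n22110 := d38_1 D32223 (iv D22110) D22109
def n32224 : Q := act 8 n22110
theorem D32224 : act 8 n22110 = n32224 := rfl
theorem F135975 : act 1 n32224 = n32224 := d15_1 D32224 (iv D32224) F94860
theorem F135976 : act 4 n32224 = n22111 := d33_1 D32224 (iv D22111) (iv F94862)
theorem F135977 : act 6 n32224 = n22120 := d40_1 D32224 (iv D22120) (iv F94863)
theorem F135978 : act 9 n32224 = n32224 := d44_2 D22110 D32224 (iv D32224) (iv D22110) F66346
def n32225 : Q := act 4 n22112
theorem D32225 : act 4 n22112 = n32225 := rfl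
theorem F135979 : act 0 n32225 = n22113 := d3_1 D32225 (iv D22113) D22112
theorem F135980 : act 2 n32225 = n32225 := d18_1 D32225 (iv D32225) F94868
theorem F135981 : act 7 n32225 = n32225 := d32_2 F94871 D32225 (iv D32225)
theorem F135982 : act 8 n32225 = n32225 := d33_2 F94872 D32225 (iv D32225)
def n32226 : Q := act 9 n22112
theorem D32226 : act 9 n22112 = n32226 := rfl
theorem F135983 : act 0 n32226 = n22114 := d8_1 D32226 (iv D22114) D22112
theorem F135984 : act 2 n32226 = n32226 := d23_1 D32226 (iv D32226) F94868
theorem F135985 : act 3 n32226 = n22151 := d29_1 D32226 (iv D22151) (iv F94869)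
theorem F135986 : act 5 n32226 = n32226 := d38_1 D32226 (iv D32226) F94870
theorem F135987 : act 7 n32226 = n32226 := d43_1 D32226 (iv D32226) F94871
def n32227 : Q := act 5 n22113
theorem D32227 : act 5 n22113 = n32227 := rfl
theorem F135988 : act 1 n32227 = n22115 := d12_1 D32227 (iv D22115) (iv F94873)
theorem F135989 : act 2 n32227 = n32227 := d19_1 D32227 (iv D32227) F94874
theorem F135990 : act 4 n32227 = n32227 := d30_1 D32227 (iv D32227) (iv D22113) F66352 D22113
theorem F135991 : act 7 n32227 = n32227 := d36_2 F94875 D32227 (iv D32227)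
theorem F135992 : act 8 n32227 = n32227 := d37_2 F94876 D32227 (iv D32227)
def n32228 : Q := act 9 n22113
theorem D32228 : act 9 n22113 = n32228 := rfl
theorem F135993 : act 1 n32228 = n22116 := d16_1 D32228 (iv D22116) (iv F94873)
theorem F135994 : act 2 n32228 = n32228 := d23_1 D32228 (iv D32228) F94874
theorem F135995 : act 4 n32228 = n22114 := d34_1 D32228 (iv D22114) D22113
theorem F135996 : act 7 n32228 = n32228 := d43_1 D32228 (iv D32228) F94875
def n32229 : Q := act 8 n22114
theorem D32229 : act 8 n22114 = n32229 := rfl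
theorem F135997 : act 1 n32229 = n22117 := d15_1 D32229 (iv D22117) (iv F94877)
theorem F135998 : act 2 n32229 = n32229 := d22_1 D32229 (iv D32229) F94878
theorem F135999 : act 5 n32229 = n32229 := d37_1 D32229 (iv D32229) F94880
theorem F136000 : act 7 n32229 = n32229 := d42_1 D32229 (iv D32229) F94881
theorem F136001 : act 9 n32229 = n32229 := d44_2 D22114 D32229 (iv D32229) (iv D22114) F66354
def n32230 : Q := act 6 n22115
theorem D32230 : act 6 n22115 = n32230 := rfl
theorem F136002 : act 2 n32230 = n22118 := d20_1 D32230 (iv D22118) (iv F94882)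
theorem F136003 : act 4 n32230 = n32230 := d31_1 D32230 (iv D32230) F94883
theorem F136004 : act 8 n32230 = n32230 := d40_2 F94885 D32230 (iv D32230)
def n32231 : Q := act 9 n22115
theorem D32231 : act 9 n22115 = n32231 := rfl
theorem F136005 : act 2 n32231 = n22119 := d23_1 D32231 (iv D22119) (iv F94882)
theorem F136006 : act 4 n32231 = n32231 := d34_1 D32231 (iv D32231) F94883
theorem F136007 : act 5 n32231 = n22116 := d38_1 D32231 (iv D22116) D22115
theorem F136008 : act 7 n32231 = n32231 := d43_1 D32231 (iv D32231) F94884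
def n32232 : Q := act 8 n22116
theorem D32232 : act 8 n22116 = n32232 := rfl
theorem F136009 : act 2 n32232 = n22120 := d22_1 D32232 (iv D22120) (iv F94886)
theorem F136010 : act 4 n32232 = n22117 := d33_1 D32232 (iv D22117) (iv F94887)
theorem F136011 : act 7 n32232 = n32232 := d42_1 D32232 (iv D32232) F94888
theorem F136012 : act 9 n32232 = n32232 := d44_2 D22116 D32232 (iv D32232) (iv D22116) F66357
def n32233 : Q := act 3 n22117
theorem D32233 : act 3 n22117 = n32233 := rfl
theorem F136013 : act 2 n32233 = n32233 := d17_1 D32233 (iv D32233) F94889 F66372 (iv F94889)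
theorem F136014 : act 5 n32233 = n32233 := d25_2 F94890 D32233 (iv D32233)
theorem F136015 : act 7 n32233 = n32233 := d27_2 F94891 D32233 (iv D32233)
theorem F136016 : act 8 n32233 = n22153 := d28_2 D22117 D32233 (iv D22153) (iv D15220) (iv F66359)
theorem F136017 : act 9 n32233 = n32233 := d29_2 F94892 D32233 (iv D32233)
def n32234 : Q := act 7 n22118
theorem D32234 : act 7 n22118 = n32234 := rfl
theorem F136018 : act 1 n32234 = n32234 := d14_1 D32234 (iv D32234) F94893
theorem F136019 : act 3 n32234 = n22127 := d27_1 D32234 (iv D22127) (iv F94894)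
theorem F136020 : act 4 n32234 = n32234 := d32_1 D32234 (iv D32234) F94895
theorem F136021 : act 6 n32234 = n32234 := d39_1 D32234 (iv D32234) (iv D22118) F66365 D22118
theorem F136022 : act 8 n32234 = n32234 := d42_2 F94896 D32234 (iv D32234)
def n32235 : Q := act 9 n22118
theorem D32235 : act 9 n22118 = n32235 := rfl
theorem F136023 : act 1 n32235 = n32235 := d16_1 D32235 (iv D32235) F94893
theorem F136024 : act 3 n32235 = n22128 := d29_1 D32235 (iv D22128) (iv F94894)
theorem F136025 : act 4 n32235 = n32235 := d34_1 D32235 (iv D32235) F94895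
theorem F136026 : act 6 n32235 = n22119 := d41_1 D32235 (iv D22119) D22118
def n32236 : Q := act 8 n22119
theorem D32236 : act 8 n22119 = n32236 := rfl
theorem F136027 : act 1 n32236 = n32236 := d15_1 D32236 (iv D32236) F94897
theorem F136028 : act 4 n32236 = n32236 := d33_1 D32236 (iv D32236) F94899
theorem F136029 : act 5 n32236 = n22120 := d37_1 D32236 (iv D22120) (iv F94900)
theorem F136030 : act 7 n32236 = n32236 := d42_1 D32236 (iv D32236) F94901
theorem F136031 : act 9 n32236 = n32236 := d44_2 D22119 D32236 (iv D32236) (iv D22119) F66366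
def n32238 : Q := act 6 n22121
theorem D32238 : act 6 n22121 = n32238 := rfl
theorem F136037 : act 1 n32238 = n32238 := d13_1 D32238 (iv D32238) F94906
theorem F136038 : act 5 n32238 = n32238 := d35_1 D32238 (iv D32238) (iv D22121) F66377 D22121
theorem F136039 : act 8 n32238 = n24240 := d40_2 (iv F94908) D32238 (iv D24240)
def n32239 : Q := act 9 n22121
theorem D32239 : act 9 n22121 = n32239 := rfl
theorem F136040 : act 1 n32239 = n32239 := d16_1 D32239 (iv D32239) F94906
theorem F136041 : act 5 n32239 = n22122 := d38_1 D32239 (iv D22122) D22121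
theorem F136042 : act 7 n32239 = n22125 := d43_1 D32239 (iv D22125) (iv F94907)
def n32241 : Q := act 7 n22124
theorem D32241 : act 7 n22124 = n32241 := rfl
theorem F136048 : act 1 n32241 = n32241 := d14_1 D32241 (iv D32241) F94918
theorem F136049 : act 5 n32241 = n22127 := d36_1 D32241 (iv D22127) (iv F94919)
theorem F136050 : act 8 n32241 = n24243 := d42_2 (iv F94920) D32241 (iv D24243)
def n32242 : Q := act 9 n22124
theorem D32242 : act 9 n22124 = n32242 := rfl
theorem F136051 : act 1 n32242 = n32242 := d16_1 D32242 (iv D32242) F94918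
theorem F136052 : act 5 n32242 = n22128 := d38_1 D32242 (iv D22128) (iv F94919)
theorem F136053 : act 6 n32242 = n22125 := d41_1 D32242 (iv D22125) D22124
def n32245 : Q := act 9 n22127
theorem D32245 : act 9 n22127 = n32245 := rfl
theorem F136061 : act 1 n32245 = n32245 := d16_1 D32245 (iv D32245) F94927
theorem F136062 : act 4 n32245 = n22131 := d34_1 D32245 (iv D22131) (iv F94928)
theorem F136063 : act 6 n32245 = n32245 := d41_1 D32245 (iv D32245) F94929
theorem F136064 : act 7 n32245 = n22128 := d43_1 D32245 (iv D22128) D22127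
def n32251 : Q := act 2 n22133
theorem D32251 : act 2 n22133 = n32251 := rfl
theorem F136087 : act 9 n32251 = n24253 := d23_2 (iv F94954) D32251 (iv D24253)
def n32254 : Q := act 2 n22135
theorem D32254 : act 2 n22135 = n32254 := rfl
theorem F136099 : act 6 n32254 = n22137 := d20_2 (iv F94961) D32254 (iv D22137)
theorem F136101 : act 8 n32254 = n22197 := d22_2 (iv F94963) D32254 (iv D22197)
def n32256 : Q := act 9 n22135
theorem D32256 : act 9 n22135 = n32256 := rfl
theorem F136109 : act 6 n32256 = n22139 := d41_1 D32256 (iv D22139) (iv F94961)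
def n32257 : Q := act 1 n22137
theorem D32257 : act 1 n22137 = n32257 := rfl
theorem F136112 : act 5 n32257 = n22145 := d12_2 (iv F94969) D32257 (iv D22145)
theorem F136114 : act 8 n32257 = n22200 := d15_2 (iv F94971) D32257 (iv D22200)
def n32258 : Q := act 4 n22137
theorem D32258 : act 4 n22137 = n32258 := rfl
theorem F136116 : act 7 n32258 = n22141 := d32_2 (iv F94970) D32258 (iv D22141)
theorem F136117 : act 8 n32258 = n22201 := d33_2 (iv F94971) D32258 (iv D22201)
def n32259 : Q := act 9 n22137
theorem D32259 : act 9 n22137 = n32259 := rfl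
theorem F136118 : act 2 n32259 = n22139 := d23_1 D32259 (iv D22139) D22137
theorem F136119 : act 5 n32259 = n22146 := d38_1 D32259 (iv D22146) (iv F94969)
theorem F136120 : act 7 n32259 = n22142 := d43_1 D32259 (iv D22142) (iv F94970)
def n32260 : Q := act 9 n22138
theorem D32260 : act 9 n22138 = n32260 := rfl
theorem F136123 : act 7 n32260 = n22143 := d43_1 D32260 (iv D22143) (iv F94973)
def n32261 : Q := act 8 n22139
theorem D32261 : act 8 n22139 = n32261 := rfl
theorem F136127 : act 7 n32261 = n22144 := d42_1 D32261 (iv D22144) (iv F94978)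
theorem F136128 : act 9 n32261 = n22204 := d44_2 D22139 D32261 (iv D22204) (iv D15258) (iv F66427)
def n32262 : Q := act 0 n22140
theorem D32262 : act 0 n22140 = n32262 := rfl
theorem F136129 : act 2 n32262 = n22162 := d1_2 (iv F94979) D32262 (iv D22162)
theorem F136130 : act 5 n32262 = n22148 := d4_2 (iv F94980) D32262 (iv D22148)
theorem F136131 : act 6 n32262 = n32262 := d5_2 F94981 D32262 (iv D32262)
theorem F136132 : act 8 n32262 = n22205 := d7_2 (iv F94982) D32262 (iv D22205)
def n32263 : Q := act 4 n22140
theorem D32263 : act 4 n22140 = n32263 := rfl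
theorem F136133 : act 1 n32263 = n22141 := d11_1 D32263 (iv D22141) D22140
theorem F136136 : act 8 n32263 = n22206 := d33_2 (iv F94982) D32263 (iv D22206)
def n32264 : Q := act 9 n22140
theorem D32264 : act 9 n22140 = n32264 := rfl
theorem F136137 : act 1 n32264 = n22142 := d16_1 D32264 (iv D22142) D22140
theorem F136139 : act 5 n32264 = n22149 := d38_1 D32264 (iv D22149) (iv F94980)
theorem F136140 : act 6 n32264 = n32264 := d41_1 D32264 (iv D32264) F94981
def n32265 : Q := act 3 n22141
theorem D32265 : act 3 n22141 = n32265 := rfl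
theorem F136141 : act 6 n32265 = n32265 := d26_2 F94984 D32265 (iv D32265)
def n32266 : Q := act 9 n22141
theorem D32266 : act 9 n22141 = n32266 := rfl
theorem F136142 : act 2 n32266 = n22143 := d23_1 D32266 (iv D22143) (iv F94983)
theorem F136143 : act 4 n32266 = n22142 := d34_1 D32266 (iv D22142) D22141
theorem F136144 : act 6 n32266 = n32266 := d41_1 D32266 (iv D32266) F94984
def n32267 : Q := act 8 n22142
theorem D32267 : act 8 n22142 = n32267 := rfl
theorem F136145 : act 2 n32267 = n22144 := d22_1 D32267 (iv D22144) (iv F94986)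
theorem F136146 : act 5 n32267 = n22150 := d37_1 D32267 (iv D22150) (iv F94987)
theorem F136147 : act 6 n32267 = n32267 := d40_1 D32267 (iv D32267) F94988
theorem F136148 : act 9 n32267 = n22210 := d44_2 D22142 D32267 (iv D22210) (iv D15261) (iv F66434)
def n32268 : Q := act 8 n22143
theorem D32268 : act 8 n22143 = n32268 := rfl
theorem F136152 : act 9 n32268 = n22211 := d44_2 D22143 D32268 (iv D22211) (iv D15262) (iv F66437)
def n32269 : Q := act 0 n22145
theorem D32269 : act 0 n22145 = n32269 := rfl
theorem F136153 : act 2 n32269 = n22169 := d1_2 (iv F94997) D32269 (iv D22169)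
theorem F136154 : act 6 n32269 = n32269 := d5_2 F94998 D32269 (iv D32269)
theorem F136155 : act 7 n32269 = n22148 := d6_2 (iv F94999) D32269 (iv D22148)
theorem F136156 : act 8 n32269 = n22212 := d7_2 (iv F95000) D32269 (iv D22212)
def n32270 : Q := act 9 n22145
theorem D32270 : act 9 n22145 = n32270 := rfl
theorem F136157 : act 1 n32270 = n22146 := d16_1 D32270 (iv D22146) D22145
theorem F136160 : act 7 n32270 = n22149 := d43_1 D32270 (iv D22149) (iv F94999)
def n32271 : Q := act 8 n22146
theorem D32271 : act 8 n22146 = n32271 := rfl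
theorem F136161 : act 2 n32271 = n22147 := d22_1 D32271 (iv D22147) (iv F95001)
theorem F136163 : act 7 n32271 = n22150 := d42_1 D32271 (iv D22150) (iv F95003)
theorem F136164 : act 9 n32271 = n22214 := d44_2 D22146 D32271 (iv D22214) (iv D15265) (iv F66444)
def n32272 : Q := act 9 n22148
theorem D32272 : act 9 n22148 = n32272 := rfl
theorem F136165 : act 0 n32272 = n22149 := d8_1 D32272 (iv D22149) D22148
theorem F136166 : act 2 n32272 = n22172 := d23_1 D32272 (iv D22172) (iv F95009)
theorem F136167 : act 6 n32272 = n22151 := d41_1 D32272 (iv D22151) (iv F95010)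
def n32273 : Q := act 8 n22149
theorem D32273 : act 8 n22149 = n32273 := rfl
theorem F136168 : act 1 n32273 = n22150 := d15_1 D32273 (iv D22150) (iv F95012)
theorem F136170 : act 6 n32273 = n22152 := d40_1 D32273 (iv D22152) (iv F95014)
theorem F136171 : act 9 n32273 = n22216 := d44_2 D22149 D32273 (iv D22216) (iv D15268) (iv F66451)
def n32274 : Q := act 3 n22150
theorem D32274 : act 3 n22150 = n32274 := rfl
theorem F136172 : act 2 n32274 = n32274 := d17_1 D32274 (iv D32274) F95015 F66455 (iv F95015)
theorem F136173 : act 6 n32274 = n22153 := d26_2 (iv F95016) D32274 (iv D22153)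
theorem F136174 : act 9 n32274 = n22217 := d29_2 (iv F95017) D32274 (iv D22217)
def n32275 : Q := act 8 n22151
theorem D32275 : act 8 n22151 = n32275 := rfl
theorem F136175 : act 0 n32275 = n22152 := d7_1 D32275 (iv D22152) (iv F95018)
theorem F136176 : act 2 n32275 = n22175 := d22_1 D32275 (iv D22175) (iv F95019)
theorem F136177 : act 5 n32275 = n32275 := d37_1 D32275 (iv D32275) F95020
theorem F136178 : act 7 n32275 = n32275 := d42_1 D32275 (iv D32275) F95021
theorem F136179 : act 9 n32275 = n22218 := d44_2 D22151 D32275 (iv D22218) (iv D15270) (iv F66461)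
def n32276 : Q := act 3 n22152
theorem D32276 : act 3 n22152 = n32276 := rfl
theorem F136180 : act 1 n32276 = n22153 := d10_1 D32276 (iv D22153) (iv F95022)
theorem F136181 : act 5 n32276 = n32276 := d25_2 F95024 D32276 (iv D32276)
theorem F136182 : act 7 n32276 = n32276 := d27_2 F95025 D32276 (iv D32276)
theorem F136183 : act 9 n32276 = n22219 := d29_2 (iv F95026) D32276 (iv D22219)
def n32277 : Q := act 4 n22153
theorem D32277 : act 4 n22153 = n32277 := rfl
theorem F136184 : act 2 n32277 = n32277 := d18_1 D32277 (iv D32277) F95027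
theorem F136185 : act 7 n32277 = n32277 := d32_2 F95029 D32277 (iv D32277)
theorem F136186 : act 9 n32277 = n22220 := d34_2 (iv F95030) D32277 (iv D22220)
def n32284 : Q := act 0 n22157
theorem D32284 : act 0 n22157 = n32284 := rfl
theorem F136219 : act 5 n32284 = n22169 := d4_2 (iv F95047) D32284 (iv D22169)
theorem F136221 : act 8 n32284 = n22227 := d7_2 (iv F95049) D32284 (iv D22227)
def n32292 : Q := act 9 n22162
theorem D32292 : act 9 n22162 = n32292 := rfl
theorem F136252 : act 5 n32292 = n22172 := d38_1 D32292 (iv D22172) (iv F95069)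
def n32298 : Q := act 8 n22166
theorem D32298 : act 8 n22166 = n32298 := rfl
theorem F136276 : act 9 n32298 = n22241 := d44_2 D22166 D32298 (iv D22241) (iv D15285) (iv F66500)
def n32301 : Q := act 9 n22169
theorem D32301 : act 9 n22169 = n32301 := rfl
theorem F136291 : act 7 n32301 = n22172 := d43_1 D32301 (iv D22172) (iv F95098)
def n32304 : Q := act 8 n22172
theorem D32304 : act 8 n22172 = n32304 := rfl
theorem F136304 : act 6 n32304 = n22175 := d40_1 D32304 (iv D22175) (iv F95112)
theorem F136305 : act 9 n32304 = n22247 := d44_2 D22172 D32304 (iv D22247) (iv D15291) (iv F66531)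
def n32309 : Q := act 4 n22176
theorem D32309 : act 4 n22176 = n32309 := rfl
theorem F136329 : act 9 n32309 = n22252 := d34_2 (iv F95130) D32309 (iv D22252)
def n32311 : Q := act 2 n22178
theorem D32311 : act 2 n22178 = n32311 := rfl
theorem F136339 : act 6 n32311 = n22180 := d20_2 (iv F95139) D32311 (iv D22180)
def n32313 : Q := act 9 n22178
theorem D32313 : act 9 n22178 = n32313 := rfl
theorem F136350 : act 6 n32313 = n22182 := d41_1 D32313 (iv D22182) (iv F95139)
def n32314 : Q := act 1 n22180
theorem D32314 : act 1 n22180 = n32314 := rfl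
theorem F136352 : act 2 n32314 = n32314 := d9_2 D22180 D32314 (iv D32314) (iv D22180) F66562
theorem F136353 : act 3 n32314 = n32314 := d10_2 F95150 D32314 (iv D32314)
theorem F136354 : act 5 n32314 = n22188 := d12_2 (iv F95151) D32314 (iv D22188)
theorem F136355 : act 7 n32314 = n22183 := d14_2 (iv F95152) D32314 (iv D22183)
def n32315 : Q := act 4 n22180
theorem D32315 : act 4 n22180 = n32315 := rfl
theorem F136358 : act 7 n32315 = n22184 := d32_2 (iv F95152) D32315 (iv D22184)
def n32316 : Q := act 9 n22180
theorem D32316 : act 9 n22180 = n32316 := rfl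
theorem F136363 : act 7 n32316 = n22185 := d43_1 D32316 (iv D22185) (iv F95152)
def n32317 : Q := act 9 n22181
theorem D32317 : act 9 n22181 = n32317 := rfl
theorem F136368 : act 7 n32317 = n22186 := d43_1 D32317 (iv D22186) (iv F95156)
def n32319 : Q := act 0 n22183
theorem D32319 : act 0 n22183 = n32319 := rfl
theorem F136374 : act 1 n32319 = n22205 := d0_2 D22183 D32319 (iv D22205) (iv D15259) (iv F66572)
theorem F136375 : act 2 n32319 = n32319 := d1_2 F95162 D32319 (iv D32319)
theorem F136376 : act 3 n32319 = n32319 := d2_2 F95163 D32319 (iv D32319)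
theorem F136377 : act 5 n32319 = n22191 := d4_2 (iv F95164) D32319 (iv D22191)
theorem F136378 : act 6 n32319 = n32319 := d5_2 F95165 D32319 (iv D32319)
def n32320 : Q := act 4 n22183
theorem D32320 : act 4 n22183 = n32320 := rfl
theorem F136379 : act 1 n32320 = n22184 := d11_1 D32320 (iv D22184) D22183
theorem F136380 : act 2 n32320 = n32320 := d18_1 D32320 (iv D32320) F95162
theorem F136381 : act 6 n32320 = n32320 := d31_2 F95165 D32320 (iv D32320)
def n32321 : Q := act 9 n22183
theorem D32321 : act 9 n22183 = n32321 := rfl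
theorem F136382 : act 1 n32321 = n22185 := d16_1 D32321 (iv D22185) D22183
theorem F136383 : act 2 n32321 = n32321 := d23_1 D32321 (iv D32321) F95162
theorem F136384 : act 3 n32321 = n32321 := d29_1 D32321 (iv D32321) F95163
theorem F136385 : act 5 n32321 = n22192 := d38_1 D32321 (iv D22192) (iv F95164)
theorem F136386 : act 6 n32321 = n32321 := d41_1 D32321 (iv D32321) F95165
def n32322 : Q := act 3 n22184
theorem D32322 : act 3 n22184 = n32322 := rfl
theorem F136387 : act 0 n32322 = n22208 := d2_1 D32322 (iv D22208) (iv F95166)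
theorem F136388 : act 2 n32322 = n32322 := d17_1 D32322 (iv D32322) F95167 F66578 (iv F95167)
theorem F136389 : act 4 n32322 = n32322 := d24_2 D22184 D32322 (iv D32322) (iv D22184) F66573
theorem F136390 : act 6 n32322 = n32322 := d26_2 F95168 D32322 (iv D32322)
def n32323 : Q := act 9 n22184
theorem D32323 : act 9 n22184 = n32323 := rfl
theorem F136393 : act 4 n32323 = n22185 := d34_1 D32323 (iv D22185) D22184
def n32324 : Q := act 8 n22185
theorem D32324 : act 8 n22185 = n32324 := rfl
theorem F136397 : act 5 n32324 = n22193 := d37_1 D32324 (iv D22193) (iv F95172)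
def n32325 : Q := act 8 n22186
theorem D32325 : act 8 n22186 = n32325 := rfl
def n32326 : Q := act 0 n22188
theorem D32326 : act 0 n22188 = n32326 := rfl
theorem F136403 : act 1 n32326 = n22212 := d0_2 D22188 D32326 (iv D22212) (iv D15264) (iv F66585)
theorem F136407 : act 7 n32326 = n22191 := d6_2 (iv F95187) D32326 (iv D22191)
def n32327 : Q := act 9 n22188
theorem D32327 : act 9 n22188 = n32327 := rfl
theorem F136408 : act 1 n32327 = n22189 := d16_1 D32327 (iv D22189) D22188
theorem F136412 : act 7 n32327 = n22192 := d43_1 D32327 (iv D22192) (iv F95187)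
def n32328 : Q := act 8 n22189
theorem D32328 : act 8 n22189 = n32328 := rfl
theorem F136416 : act 7 n32328 = n22193 := d42_1 D32328 (iv D22193) (iv F95192)
def n32329 : Q := act 9 n22191
theorem D32329 : act 9 n22191 = n32329 := rfl
theorem F136417 : act 0 n32329 = n22192 := d8_1 D32329 (iv D22192) D22191
theorem F136418 : act 1 n32329 = n22215 := d16_1 D32329 (iv D22215) (iv F95198)
theorem F136421 : act 6 n32329 = n22194 := d41_1 D32329 (iv D22194) (iv F95201)
def n32330 : Q := act 8 n22192
theorem D32330 : act 8 n22192 = n32330 := rfl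
theorem F136422 : act 1 n32330 = n22193 := d15_1 D32330 (iv D22193) (iv F95202)
theorem F136423 : act 2 n32330 = n32330 := d22_1 D32330 (iv D32330) F95203
theorem F136424 : act 6 n32330 = n22195 := d40_1 D32330 (iv D22195) (iv F95205)
def n32331 : Q := act 3 n22193
theorem D32331 : act 3 n22193 = n32331 := rfl
theorem F136425 : act 0 n32331 = n22217 := d2_1 D32331 (iv D22217) (iv F95206)
theorem F136426 : act 2 n32331 = n32331 := d17_1 D32331 (iv D32331) F95207 F66603 (iv F95207)
theorem F136427 : act 6 n32331 = n22196 := d26_2 (iv F95208) D32331 (iv D22196)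
theorem F136428 : act 8 n32331 = n32331 := d28_2 D22193 D32331 (iv D32331) (iv D22193) F66599
def n32332 : Q := act 8 n22194
theorem D32332 : act 8 n22194 = n32332 := rfl
theorem F136429 : act 0 n32332 = n22195 := d7_1 D32332 (iv D22195) (iv F95209)
theorem F136430 : act 1 n32332 = n22218 := d15_1 D32332 (iv D22218) (iv F95210)
theorem F136431 : act 2 n32332 = n32332 := d22_1 D32332 (iv D32332) F95211
theorem F136432 : act 5 n32332 = n32332 := d37_1 D32332 (iv D32332) F95213
theorem F136433 : act 7 n32332 = n32332 := d42_1 D32332 (iv D32332) F95214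
def n32333 : Q := act 3 n22195
theorem D32333 : act 3 n22195 = n32333 := rfl
theorem F136434 : act 1 n32333 = n22196 := d10_1 D32333 (iv D22196) (iv F95215)
theorem F136435 : act 5 n32333 = n32333 := d25_2 F95217 D32333 (iv D32333)
theorem F136436 : act 7 n32333 = n32333 := d27_2 F95218 D32333 (iv D32333)
theorem F136437 : act 8 n32333 = n32333 := d28_2 D22195 D32333 (iv D32333) (iv D22195) F66612
def n32334 : Q := act 4 n22196
theorem D32334 : act 4 n22196 = n32334 := rfl
theorem F136438 : act 0 n32334 = n22220 := d3_1 D32334 (iv D22220) (iv F95219)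
theorem F136439 : act 2 n32334 = n32334 := d18_1 D32334 (iv D32334) F95220
theorem F136440 : act 7 n32334 = n32334 := d32_2 F95222 D32334 (iv D32334)
theorem F136441 : act 8 n32334 = n32334 := d33_2 F95223 D32334 (iv D32334)
def n32341 : Q := act 0 n22200
theorem D32341 : act 0 n22200 = n32341 := rfl
theorem F136471 : act 5 n32341 = n22212 := d4_2 (iv F95239) D32341 (iv D22212)
theorem F136472 : act 7 n32341 = n22205 := d6_2 (iv F95240) D32341 (iv D22205)
def n32342 : Q := act 4 n22200
theorem D32342 : act 4 n22200 = n32342 := rfl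
def n32344 : Q := act 3 n22201
theorem D32344 : act 3 n22201 = n32344 := rfl
theorem F136483 : act 7 n32344 = n22208 := d27_2 (iv F95242) D32344 (iv D22208)
def n32350 : Q := act 3 n22206
theorem D32350 : act 3 n22206 = n32350 := rfl
theorem F136501 : act 1 n32350 = n22208 := d10_1 D32350 (iv D22208) (iv F95259)
def n32351 : Q := act 9 n22206
theorem D32351 : act 9 n22206 = n32351 := rfl
theorem F136506 : act 4 n32351 = n22207 := d34_1 D32351 (iv D22207) D22206
def n32353 : Q := act 8 n22208
theorem D32353 : act 8 n22208 = n32353 := rfl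
theorem F136512 : act 2 n32353 = n32353 := d22_1 D32353 (iv D32353) F95267
theorem F136513 : act 4 n32353 = n32353 := d33_1 D32353 (iv D32353) F95268
theorem F136514 : act 6 n32353 = n32353 := d40_1 D32353 (iv D32353) F95269
def n32354 : Q := act 9 n22208
theorem D32354 : act 9 n22208 = n32354 := rfl
def n32356 : Q := act 3 n22210
theorem D32356 : act 3 n22210 = n32356 := rfl
theorem F136523 : act 5 n32356 = n22217 := d25_2 (iv F95274) D32356 (iv D22217)
def n32360 : Q := act 3 n22214
theorem D32360 : act 3 n22214 = n32360 := rfl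
theorem F136541 : act 7 n32360 = n22217 := d27_2 (iv F95290) D32360 (iv D22217)
def n32361 : Q := act 8 n22215
theorem D32361 : act 8 n22215 = n32361 := rfl
theorem F136545 : act 6 n32361 = n22218 := d40_1 D32361 (iv D22218) (iv F95294)
def n32362 : Q := act 3 n22216
theorem D32362 : act 3 n22216 = n32362 := rfl
theorem F136546 : act 1 n32362 = n22217 := d10_1 D32362 (iv D22217) (iv F95295)
theorem F136547 : act 6 n32362 = n22219 := d26_2 (iv F95297) D32362 (iv D22219)
def n32363 : Q := act 4 n22217
theorem D32363 : act 4 n22217 = n32363 := rfl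
theorem F136549 : act 2 n32363 = n32363 := d18_1 D32363 (iv D32363) F95298
theorem F136550 : act 6 n32363 = n22220 := d31_2 (iv F95299) D32363 (iv D22220)
theorem F136551 : act 8 n32363 = n32363 := d33_2 F95300 D32363 (iv D32363)
def n32364 : Q := act 3 n22218
theorem D32364 : act 3 n22218 = n32364 := rfl
theorem F136552 : act 0 n32364 = n22219 := d2_1 D32364 (iv D22219) (iv F95301)
def n32365 : Q := act 2 n22219
theorem D32365 : act 2 n22219 = n32365 := rfl
theorem F136557 : act 3 n32365 = n22251 := d17_2 D22219 D32365 (iv D22251) (iv D15295) (iv F66685)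
def n32366 : Q := act 4 n22219
theorem D32366 : act 4 n22219 = n32366 := rfl
theorem F136561 : act 1 n32366 = n22220 := d11_1 D32366 (iv D22220) (iv F95305)
def n32388 : Q := act 9 n22234
theorem D32388 : act 9 n22234 = n32388 := rfl
theorem F136652 : act 0 n32388 = n22237 := d8_1 D32388 (iv D22237) (iv F95365)
theorem F136654 : act 4 n32388 = n22235 := d34_1 D32388 (iv D22235) D22234
def n32405 : Q := act 4 n22248
theorem D32405 : act 4 n22248 = n32405 := rfl
theorem F136716 : act 6 n32405 = n22252 := d31_2 (iv F95421) D32405 (iv D22252)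
theorem F136717 : act 8 n32405 = n22291 := d33_2 (iv F95422) D32405 (iv D22291)
def n32408 : Q := act 4 n22250
theorem D32408 : act 4 n22250 = n32408 := rfl
theorem F136725 : act 0 n32408 = n22252 := d3_1 D32408 (iv D22252) (iv F95427)
theorem F136728 : act 8 n32408 = n22294 := d33_2 (iv F95431) D32408 (iv D22294)
def n32409 : Q := act 4 n22251
theorem D32409 : act 4 n22251 = n32409 := rfl
theorem F136730 : act 2 n32409 = n22252 := d18_1 D32409 (iv D22252) D22251
theorem F136732 : act 8 n32409 = n22295 := d33_2 (iv F95435) D32409 (iv D22295)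
def n32459 : Q := act 4 n22287
theorem D32459 : act 4 n22287 = n32459 := rfl
theorem F136976 : act 7 n32459 = n22291 := d32_2 (iv F95616) D32459 (iv D22291)
def n32462 : Q := act 4 n22289
theorem D32462 : act 4 n22289 = n32462 := rfl
theorem F136990 : act 6 n32462 = n22294 := d31_2 (iv F95626) D32462 (iv D22294)
def n32463 : Q := act 4 n22290
theorem D32463 : act 4 n22290 = n32463 := rfl
theorem F136993 : act 2 n32463 = n22291 := d18_1 D32463 (iv D22291) D22290
theorem F136994 : act 6 n32463 = n22295 := d31_2 (iv F95630) D32463 (iv D22295)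
def n32467 : Q := act 4 n22293
theorem D32467 : act 4 n22293 = n32467 := rfl
theorem F137011 : act 2 n32467 = n22294 := d18_1 D32467 (iv D22294) D22293
def n32473 : Q := act 1 n22298
theorem D32473 : act 1 n22298 = n32473 := rfl
theorem F137040 : act 0 n32473 = n32473 := d0_1 D32473 (iv D32473) F95664 F73419 (iv F95664)
theorem F137041 : act 2 n32473 = n32473 := d9_2 D22298 D32473 (iv D32473) (iv D22298) F66957
theorem F137042 : act 3 n32473 = n32473 := d10_2 F95665 D32473 (iv D32473)
theorem F137043 : act 4 n32473 = n32473 := d11_2 F95666 D32473 (iv D32473)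
theorem F137044 : act 5 n32473 = n32473 := d12_2 F95667 D32473 (iv D32473)
theorem F137045 : act 6 n32473 = n32473 := d13_2 F95668 D32473 (iv D32473)
theorem F137046 : act 7 n32473 = n32473 := d14_2 F95669 D32473 (iv D32473)
theorem F137047 : act 8 n32473 = n32473 := d15_2 F95670 D32473 (iv D32473)
def n32474 : Q := act 9 n22298
theorem D32474 : act 9 n22298 = n32474 := rfl
theorem F137049 : act 2 n32474 = n22299 := d23_1 D32474 (iv D22299) D22298
def n32520 : Q := act 6 n22328
theorem D32520 : act 6 n22328 = n32520 := rfl
theorem F137302 : act 4 n32520 = n22335 := d31_1 D32520 (iv D22335) (iv F95839)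
def n32521 : Q := act 7 n22329
theorem D32521 : act 7 n22329 = n32521 := rfl
def n32536 : Q := act 6 n22338
theorem D32536 : act 6 n22338 = n32536 := rfl
theorem F137382 : act 5 n32536 = n22429 := d35_1 D32536 (iv D22429) (iv D15415) (iv F67109) D22338
def n32575 : Q := act 8 n22364
theorem D32575 : act 8 n22364 = n32575 := rfl
theorem F137560 : act 1 n32575 = n22366 := d15_1 D32575 (iv D22366) D22364
theorem F137561 : act 2 n32575 = n24643 := d22_1 D32575 (iv D24643) (iv F96012)
theorem F137563 : act 6 n32575 = n22468 := d40_1 D32575 (iv D22468) (iv F96014)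
def n32579 : Q := act 3 n22366
theorem D32579 : act 3 n22366 = n32579 := rfl
theorem F137578 : act 6 n32579 = n22472 := d26_2 (iv F96022) D32579 (iv D22472)
def n32590 : Q := act 8 n22373
theorem D32590 : act 8 n22373 = n32590 := rfl
theorem F137627 : act 5 n32590 = n22483 := d37_1 D32590 (iv D22483) (iv F96056)
theorem F137628 : act 6 n32590 = n22374 := d40_1 D32590 (iv D22374) D22373
def n32591 : Q := act 3 n22374
theorem D32591 : act 3 n22374 = n32591 := rfl
theorem F137631 : act 5 n32591 = n22375 := d25_2 (iv F96059) D32591 (iv D22375)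
def n32593 : Q := act 4 n22375
theorem D32593 : act 4 n22375 = n32593 := rfl
theorem F137640 : act 6 n32593 = n22486 := d31_2 (iv F96063) D32593 (iv D22486)
def n32595 : Q := act 5 n22377
theorem D32595 : act 5 n22377 = n32595 := rfl
theorem F137649 : act 4 n32595 = n22488 := d30_1 D32595 (iv D22488) F67553 (iv F67230) (iv F96072)
def n32597 : Q := act 8 n22377
theorem D32597 : act 8 n22377 = n32597 := rfl
theorem F137657 : act 6 n32597 = n22378 := d40_1 D32597 (iv D22378) D22377
def n32603 : Q := act 8 n22382
theorem D32603 : act 8 n22382 = n32603 := rfl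
theorem F137683 : act 4 n32603 = n22496 := d33_1 D32603 (iv D22496) (iv F96092)
theorem F137684 : act 5 n32603 = n22384 := d37_1 D32603 (iv D22384) D22382
def n32655 : Q := act 4 n22418
theorem D32655 : act 4 n22418 = n32655 := rfl
theorem F137923 : act 1 n32655 = n22421 := d11_1 D32655 (iv D22421) (iv F96264)
def n32660 : Q := act 6 n22421
theorem D32660 : act 6 n22421 = n32660 := rfl
theorem F137944 : act 2 n32660 = n22437 := d20_1 D32660 (iv D22437) (iv F96276)
theorem F137946 : act 4 n32660 = n22422 := d31_1 D32660 (iv D22422) D22421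
def n32672 : Q := act 7 n22429
theorem D32672 : act 7 n22429 = n32672 := rfl
theorem F137999 : act 6 n32672 = n22565 := d39_1 D32672 (iv D22565) (iv D15506) (iv F67396) D22429
def n32704 : Q := act 8 n22450
theorem D32704 : act 8 n22450 = n32704 := rfl
theorem F138123 : act 2 n32704 = n22456 := d22_1 D32704 (iv D22456) (iv F96399)
theorem F138124 : act 4 n32704 = n22452 := d33_1 D32704 (iv D22452) D22450
def n32707 : Q := act 3 n22452
theorem D32707 : act 3 n22452 = n32707 := rfl
theorem F138135 : act 5 n32707 = n22453 := d25_2 (iv F96408) D32707 (iv D22453)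
def n32714 : Q := act 3 n22456
theorem D32714 : act 3 n22456 = n32714 := rfl
theorem F138163 : act 8 n32714 = n22739 := d28_2 D22456 D32714 (iv D22739) (iv D15621) (iv F67459)
def n32728 : Q := act 8 n22467
theorem D32728 : act 8 n22467 = n32728 := rfl
theorem F138222 : act 5 n32728 = n22468 := d37_1 D32728 (iv D22468) D22467
theorem F138223 : act 7 n32728 = n22621 := d42_1 D32728 (iv D22621) (iv F96471)
def n32731 : Q := act 3 n22469
theorem D32731 : act 3 n22469 = n32731 := rfl
theorem F138233 : act 2 n32731 = n22756 := d17_1 D32731 (iv D22756) F68325 (iv F67513) (iv F96478)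
def n32733 : Q := act 8 n22469
theorem D32733 : act 8 n22469 = n32733 := rfl
theorem F138241 : act 4 n32733 = n22471 := d33_1 D32733 (iv D22471) D22469
theorem F138243 : act 7 n32733 = n22626 := d42_1 D32733 (iv D22626) (iv F96480)
def n32736 : Q := act 3 n22471
theorem D32736 : act 3 n22471 = n32736 := rfl
theorem F138252 : act 5 n32736 = n22472 := d25_2 (iv F96485) D32736 (iv D22472)
theorem F138253 : act 7 n32736 = n22629 := d27_2 (iv F96486) D32736 (iv D22629)
def n32743 : Q := act 3 n22475
theorem D32743 : act 3 n22475 = n32743 := rfl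
theorem F138283 : act 7 n32743 = n22636 := d27_2 (iv F96502) D32743 (iv D22636)
theorem F138284 : act 8 n32743 = n22768 := d28_2 D22475 D32743 (iv D22768) (iv D15640) (iv F67513)
def n32747 : Q := act 6 n22479
theorem D32747 : act 6 n22479 = n32747 := rfl
theorem F138300 : act 2 n32747 = n22772 := d20_1 D32747 (iv D22772) (iv F96517)
theorem F138301 : act 3 n32747 = n22480 := d26_1 D32747 (iv D22480) D22479
def n32750 : Q := act 7 n22480
theorem D32750 : act 7 n22480 = n32750 := rfl
theorem F138312 : act 6 n32750 = n22643 := d39_1 D32750 (iv D22643) (iv D15557) (iv F67537) D22480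
def n32751 : Q := act 8 n22480
theorem D32751 : act 8 n22480 = n32751 := rfl
theorem F138315 : act 4 n32751 = n22483 := d33_1 D32751 (iv D22483) (iv F96522)
def n32754 : Q := act 8 n22482
theorem D32754 : act 8 n22482 = n32754 := rfl
theorem F138327 : act 6 n32754 = n22647 := d40_1 D32754 (iv D22647) (iv F96530)
theorem F138328 : act 7 n32754 = n22483 := d42_1 D32754 (iv D22483) D22482
def n32764 : Q := act 8 n22489
theorem D32764 : act 8 n22489 = n32764 := rfl
theorem F138363 : act 6 n32764 = n22657 := d40_1 D32764 (iv D22657) (iv F96556)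
theorem F138364 : act 7 n32764 = n22490 := d42_1 D32764 (iv D22490) D22489
def n32765 : Q := act 3 n22490
theorem D32765 : act 3 n22490 = n32765 := rfl
theorem F138368 : act 8 n32765 = n22790 := d28_2 D22490 D32765 (iv D22790) (iv D15655) (iv F67552)
def n32772 : Q := act 3 n22496
theorem D32772 : act 3 n22496 = n32772 := rfl
theorem F138397 : act 8 n32772 = n22797 := d28_2 D22496 D32772 (iv D22797) (iv D15661) (iv F67570)
def n32776 : Q := act 2 n22498
theorem D32776 : act 2 n22498 = n32776 := rfl
theorem F138416 : act 8 n32776 = n22801 := d22_2 (iv F96592) D32776 (iv D22801)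
def n32848 : Q := act 4 n22546
theorem D32848 : act 4 n22546 = n32848 := rfl
theorem F138726 : act 1 n32848 = n22566 := d11_1 D32848 (iv D22566) (iv F96807)
def n32859 : Q := act 7 n22553
theorem D32859 : act 7 n22553 = n32859 := rfl
theorem F138767 : act 2 n32859 = n22577 := d21_1 D32859 (iv D22577) (iv F96833)
theorem F138769 : act 4 n32859 = n22555 := d32_1 D32859 (iv D22555) (iv F96835)
def n32872 : Q := act 6 n22561
theorem D32872 : act 6 n22561 = n32872 := rfl
theorem F138818 : act 3 n32872 = n22838 := d26_1 D32872 (iv D22838) (iv F96866)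
theorem F138819 : act 4 n32872 = n22562 := d31_1 D32872 (iv D22562) D22561
def n32940 : Q := act 3 n22606
theorem D32940 : act 3 n22606 = n32940 := rfl
theorem F139072 : act 8 n32940 = n22906 := d28_2 D22606 D32940 (iv D22906) (iv D15732) (iv F67882)
def n32966 : Q := act 6 n22624
theorem D32966 : act 6 n22624 = n32966 := rfl
theorem F139174 : act 2 n32966 = n22932 := d20_1 D32966 (iv D22932) (iv F97107)
theorem F139175 : act 3 n32966 = n22625 := d26_1 D32966 (iv D22625) D22624
def n32970 : Q := act 8 n22625
theorem D32970 : act 8 n22625 = n32970 := rfl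
theorem F139189 : act 6 n32970 = n22626 := d40_1 D32970 (iv D22626) D22625
def n32974 : Q := act 3 n22628
theorem D32974 : act 3 n22628 = n32974 := rfl
theorem F139203 : act 6 n32974 = n22629 := d26_2 (iv F97122) D32974 (iv D22629)
def n32982 : Q := act 8 n22633
theorem D32982 : act 8 n22633 = n32982 := rfl
theorem F139233 : act 5 n32982 = n22635 := d37_1 D32982 (iv D22635) D22633
def n32984 : Q := act 3 n22635
theorem D32984 : act 3 n22635 = n32984 := rfl
theorem F139242 : act 6 n32984 = n22636 := d26_2 (iv F97149) D32984 (iv D22636)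
theorem F139243 : act 8 n32984 = n22950 := d28_2 D22635 D32984 (iv D22950) (iv D15761) (iv F67956)
def n32989 : Q := act 5 n22640
theorem D32989 : act 5 n22640 = n32989 := rfl
theorem F139263 : act 2 n32989 = n22955 := d19_1 D32989 (iv D22955) (iv F97170)
theorem F139264 : act 3 n32989 = n22642 := d25_1 D32989 (iv D22642) (iv F97171)
def n32990 : Q := act 7 n22640
theorem D32990 : act 7 n22640 = n32990 := rfl
theorem F139268 : act 3 n32990 = n22643 := d27_1 D32990 (iv D22643) (iv F97171)
def n32993 : Q := act 9 n22641
theorem D32993 : act 9 n22641 = n32993 := rfl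
theorem F139276 : act 2 n32993 = n22959 := d23_1 D32993 (iv D22959) (iv F97173)
def n32995 : Q := act 8 n22642
theorem D32995 : act 8 n22642 = n32995 := rfl
theorem F139285 : act 5 n32995 = n22644 := d37_1 D32995 (iv D22644) D22642
def n33006 : Q := act 5 n22650
theorem D33006 : act 5 n22650 = n33006 := rfl
theorem F139322 : act 4 n33006 = n22652 := d30_1 D33006 (iv D22652) (iv D15563) (iv F67994) D22650
def n33013 : Q := act 8 n22655
theorem D33013 : act 8 n22655 = n33013 := rfl
theorem F139347 : act 5 n33013 = n22657 := d37_1 D33013 (iv D22657) (iv F97224)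
def n33014 : Q := act 3 n22656
theorem D33014 : act 3 n22656 = n33014 := rfl
theorem F139350 : act 5 n33014 = n22658 := d25_2 (iv F97227) D33014 (iv D22658)
theorem F139352 : act 8 n33014 = n22980 := d28_2 D22656 D33014 (iv D22980) (iv D15782) (iv F68007)
def n33022 : Q := act 8 n22661
theorem D33022 : act 8 n22661 = n33022 := rfl
theorem F139381 : act 9 n33022 = n22988 := d44_2 D22661 D33022 (iv D22988) (iv D15787) (iv F68019)
def n33034 : Q := act 0 n22671
theorem D33034 : act 0 n22671 = n33034 := rfl
theorem F139432 : act 1 n33034 = n25188 := d0_2 D22671 D33034 (iv D25188) (iv D17309) (iv F68053)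
theorem F139436 : act 8 n33034 = n23000 := d7_2 (iv F97289) D33034 (iv D23000)
def n33039 : Q := act 8 n22674
theorem D33039 : act 8 n22674 = n33039 := rfl
theorem F139460 : act 4 n33039 = n22692 := d33_1 D33039 (iv D22692) (iv F97301)
theorem F139462 : act 7 n33039 = n22808 := d42_1 D33039 (iv D22808) (iv F97303)
def n33063 : Q := act 8 n22690
theorem D33063 : act 8 n22690 = n33063 := rfl
theorem F139580 : act 1 n33063 = n22692 := d15_1 D33063 (iv D22692) D22690
theorem F139581 : act 2 n33063 = n25233 := d22_1 D33063 (iv D25233) (iv F97383)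
def n33071 : Q := act 7 n22694
theorem D33071 : act 7 n22694 = n33071 := rfl
theorem F139617 : act 6 n33071 = n22840 := d39_1 D33071 (iv D22840) (iv D15688) (iv F68134) D22694
def n33072 : Q := act 8 n22694
theorem D33072 : act 8 n22694 = n33072 := rfl
theorem F139621 : act 3 n33072 = n22725 := d28_1 D33072 (iv D22725) F68222 (iv F68144) (iv F97401)
def n33073 : Q := act 9 n22695
theorem D33073 : act 9 n22695 = n33073 := rfl
theorem F139624 : act 0 n33073 = n22707 := d8_1 D33073 (iv D22707) (iv F97404)
theorem F139628 : act 7 n33073 = n22842 := d43_1 D33073 (iv D22842) (iv F97408)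
def n33079 : Q := act 3 n22700
theorem D33079 : act 3 n22700 = n33079 := rfl
theorem F139651 : act 2 n33079 = n22732 := d17_1 D33079 (iv D22732) F68250 (iv F68162) (iv F97430)
theorem F139653 : act 7 n33079 = n22848 := d27_2 (iv F97432) D33079 (iv D22848)
def n33080 : Q := act 9 n22700
theorem D33080 : act 9 n22700 = n33080 := rfl
theorem F139655 : act 2 n33080 = n22707 := d23_1 D33080 (iv D22707) (iv F97430)
theorem F139657 : act 7 n33080 = n22849 := d43_1 D33080 (iv D22849) (iv F97432)
def n33082 : Q := act 9 n22701
theorem D33082 : act 9 n22701 = n33082 := rfl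
theorem F139664 : act 2 n33082 = n22735 := d23_1 D33082 (iv D22735) (iv F97434)
theorem F139667 : act 7 n33082 = n22851 := d43_1 D33082 (iv D22851) (iv F97436)
def n33088 : Q := act 8 n22705
theorem D33088 : act 8 n22705 = n33088 := rfl
theorem F139686 : act 3 n33088 = n22741 := d28_1 D33088 (iv D22741) F68270 (iv F68173) (iv F97449)
def n33094 : Q := act 9 n22710
theorem D33094 : act 9 n22710 = n33094 := rfl
theorem F139715 : act 6 n33094 = n22712 := d41_1 D33094 (iv D22712) (iv F97474)
def n33099 : Q := act 6 n22715
theorem D33099 : act 6 n22715 = n33099 := rfl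
theorem F139738 : act 0 n33099 = n23282 := d5_1 D33099 (iv D23282) (iv F97495)
theorem F139739 : act 1 n33099 = n22718 := d13_1 D33099 (iv D22718) (iv F97496)
theorem F139742 : act 9 n33099 = n22752 := d41_2 (iv F97499) D33099 (iv D22752)
def n33100 : Q := act 8 n22715
theorem D33100 : act 8 n22715 = n33100 := rfl
theorem F139743 : act 0 n33100 = n23283 := d7_1 D33100 (iv D23283) (iv F97495)
theorem F139744 : act 1 n33100 = n22719 := d15_1 D33100 (iv D22719) (iv F97496)
theorem F139747 : act 7 n33100 = n22869 := d42_1 D33100 (iv D22869) (iv F97498)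
def n33101 : Q := act 3 n22716
theorem D33101 : act 3 n22716 = n33101 := rfl
theorem F139751 : act 7 n33101 = n22870 := d27_2 (iv F97505) D33101 (iv D22870)
def n33102 : Q := act 9 n22716
theorem D33102 : act 9 n22716 = n33102 := rfl
theorem F139753 : act 1 n33102 = n22721 := d16_1 D33102 (iv D22721) (iv F97501)
theorem F139757 : act 7 n33102 = n22871 := d43_1 D33102 (iv D22871) (iv F97505)
theorem F139758 : act 8 n33102 = n22755 := d44_1 D33102 (iv D22755) (iv D15633) (iv F68205) D22716
def n33106 : Q := act 7 n22718
theorem D33106 : act 7 n22718 = n33106 := rfl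
theorem F139773 : act 2 n33106 = n22724 := d21_1 D33106 (iv D22724) (iv F97512)
theorem F139776 : act 9 n33106 = n22759 := d43_2 (iv F97514) D33106 (iv D22759)
def n33107 : Q := act 8 n22718
theorem D33107 : act 8 n22718 = n33107 := rfl
theorem F139777 : act 0 n33107 = n22731 := d7_1 D33107 (iv D22731) (iv F97511)
theorem F139778 : act 2 n33107 = n22725 := d22_1 D33107 (iv D22725) (iv F97512)
def n33108 : Q := act 3 n22719
theorem D33108 : act 3 n22719 = n33108 := rfl
theorem F139781 : act 0 n33108 = n22732 := d2_1 D33108 (iv D22732) (iv F97515)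
theorem F139783 : act 7 n33108 = n22877 := d27_2 (iv F97518) D33108 (iv D22877)
def n33109 : Q := act 9 n22719
theorem D33109 : act 9 n22719 = n33109 := rfl
theorem F139784 : act 0 n33109 = n22733 := d8_1 D33109 (iv D22733) (iv F97515)
theorem F139785 : act 2 n33109 = n22726 := d23_1 D33109 (iv D22726) (iv F97516)
theorem F139787 : act 7 n33109 = n22878 := d43_1 D33109 (iv D22878) (iv F97518)
theorem F139788 : act 8 n33109 = n22762 := d44_1 D33109 (iv D22762) (iv D15636) (iv F68209) D22719
def n33111 : Q := act 9 n22720
theorem D33111 : act 9 n22720 = n33111 := rfl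
theorem F139794 : act 3 n33111 = n22721 := d29_1 D33111 (iv D22721) D22720
theorem F139796 : act 7 n33111 = n22880 := d43_1 D33111 (iv D22880) (iv F97521)
def n33123 : Q := act 8 n22728
theorem D33123 : act 8 n22728 = n33123 := rfl
theorem F139849 : act 4 n33123 = n22731 := d33_1 D33123 (iv D22731) (iv F97558)
def n33124 : Q := act 3 n22729
theorem D33124 : act 3 n22729 = n33124 := rfl
def n33125 : Q := act 9 n22729
theorem D33125 : act 9 n22729 = n33125 := rfl
theorem F139854 : act 1 n33125 = n23308 := d16_1 D33125 (iv D23308) (iv F97560)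
theorem F139858 : act 7 n33125 = n22894 := d43_1 D33125 (iv D22894) (iv F97564)
def n33126 : Q := act 8 n22730
theorem D33126 : act 8 n22730 = n33126 := rfl
theorem F139860 : act 1 n33126 = n23309 := d15_1 D33126 (iv D23309) (iv F97565)
theorem F139861 : act 2 n33126 = n22741 := d22_1 D33126 (iv D22741) (iv F97566)
def n33129 : Q := act 4 n22732
theorem D33129 : act 4 n22732 = n33129 := rfl
theorem F139874 : act 7 n33129 = n22898 := d32_2 (iv F97576) D33129 (iv D22898)
def n33130 : Q := act 9 n22732
theorem D33130 : act 9 n22732 = n33130 := rfl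
theorem F139876 : act 3 n33130 = n22733 := d29_1 D33130 (iv D22733) D22732
theorem F139878 : act 7 n33130 = n22899 := d43_1 D33130 (iv D22899) (iv F97576)
def n33132 : Q := act 9 n22734
theorem D33132 : act 9 n22734 = n33132 := rfl
theorem F139884 : act 4 n33132 = n22735 := d34_1 D33132 (iv D22735) D22734
theorem F139886 : act 7 n33132 = n22901 := d43_1 D33132 (iv D22901) (iv F97585)
def n33140 : Q := act 9 n22739
theorem D33140 : act 9 n22739 = n33140 := rfl
theorem F139914 : act 7 n33140 = n22909 := d43_1 D33140 (iv D22909) (iv F97603)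
def n33145 : Q := act 9 n22744
theorem D33145 : act 9 n22744 = n33145 := rfl
theorem F139939 : act 8 n33145 = n22798 := d44_1 D33145 (iv D22798) (iv D15661) (iv F68285) D22744
def n33147 : Q := act 9 n22745
theorem D33147 : act 9 n22745 = n33147 := rfl
theorem F139948 : act 8 n33147 = n22800 := d44_1 D33147 (iv D22800) (iv D15662) (iv F68290) D22745
def n33153 : Q := act 3 n22751
theorem D33153 : act 3 n22751 = n33153 := rfl
theorem F139967 : act 0 n33153 = n23336 := d2_1 D33153 (iv D23336) (iv F97653)
theorem F139968 : act 1 n33153 = n22756 := d10_1 D33153 (iv D22756) (iv F97654)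
def n33155 : Q := act 8 n22751
theorem D33155 : act 8 n22751 = n33155 := rfl
theorem F139975 : act 0 n33155 = n23338 := d7_1 D33155 (iv D23338) (iv F97653)
theorem F139976 : act 1 n33155 = n22758 := d15_1 D33155 (iv D22758) (iv F97654)
theorem F139978 : act 4 n33155 = n22753 := d33_1 D33155 (iv D22753) D22751
def n33156 : Q := act 7 n22752
theorem D33156 : act 7 n22752 = n33156 := rfl
theorem F139981 : act 0 n33156 = n23339 := d6_1 D33156 (iv D23339) (iv F97658)
theorem F139982 : act 1 n33156 = n22759 := d14_1 D33156 (iv D22759) (iv F97659)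
def n33158 : Q := act 3 n22753
theorem D33158 : act 3 n22753 = n33158 := rfl
def n33159 : Q := act 9 n22753
theorem D33159 : act 9 n22753 = n33159 := rfl
theorem F139996 : act 1 n33159 = n22762 := d16_1 D33159 (iv D22762) (iv F97663)
def n33162 : Q := act 9 n22754
theorem D33162 : act 9 n22754 = n33162 := rfl
theorem F140012 : act 3 n33162 = n22755 := d29_1 D33162 (iv D22755) D22754
def n33171 : Q := act 3 n22760
theorem D33171 : act 3 n22760 = n33171 := rfl
def n33173 : Q := act 4 n22761
theorem D33173 : act 4 n22761 = n33173 := rfl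
def n33174 : Q := act 9 n22761
theorem D33174 : act 9 n22761 = n33174 := rfl
theorem F140058 : act 3 n33174 = n22762 := d29_1 D33174 (iv D22762) D22761
theorem F140060 : act 7 n33174 = n22943 := d43_1 D33174 (iv D22943) (iv F97699)
def n33177 : Q := act 8 n22764
theorem D33177 : act 8 n22764 = n33177 := rfl
def n33187 : Q := act 7 n22772
theorem D33187 : act 7 n22772 = n33187 := rfl
theorem F140118 : act 6 n33187 = n22956 := d39_1 D33187 (iv D22956) (iv D15766) (iv F68369) D22772
def n33190 : Q := act 9 n22773
theorem D33190 : act 9 n22773 = n33190 := rfl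
theorem F140125 : act 1 n33190 = n23373 := d16_1 D33190 (iv D23373) (iv F97749)
def n33194 : Q := act 3 n22776
theorem D33194 : act 3 n22776 = n33194 := rfl
theorem F140142 : act 1 n33194 = n23377 := d10_1 D33194 (iv D23377) (iv F97760)
def n33195 : Q := act 9 n22776
theorem D33195 : act 9 n22776 = n33195 := rfl
theorem F140144 : act 1 n33195 = n23378 := d16_1 D33195 (iv D23378) (iv F97760)
theorem F140146 : act 4 n33195 = n22781 := d34_1 D33195 (iv D22781) (iv F97762)
theorem F140147 : act 6 n33195 = n22778 := d41_1 D33195 (iv D22778) (iv F97763)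
def n33198 : Q := act 9 n22777
theorem D33198 : act 9 n22777 = n33198 := rfl
theorem F140154 : act 1 n33198 = n23381 := d16_1 D33198 (iv D23381) (iv F97764)
def n33200 : Q := act 9 n22779
theorem D33200 : act 9 n22779 = n33200 := rfl
theorem F140166 : act 6 n33200 = n22969 := d41_1 D33200 (iv D22969) (iv F97775)
theorem F140167 : act 7 n33200 = n22781 := d43_1 D33200 (iv D22781) (iv F97776)
def n33202 : Q := act 9 n22780
theorem D33202 : act 9 n22780 = n33202 := rfl
theorem F140173 : act 3 n33202 = n22781 := d29_1 D33202 (iv D22781) D22780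
theorem F140175 : act 6 n33202 = n22783 := d41_1 D33202 (iv D22783) (iv F97780)
def n33203 : Q := act 5 n22782
theorem D33203 : act 5 n22782 = n33203 := rfl
theorem F140178 : act 4 n33203 = n22784 := d30_1 D33203 (iv D22784) (iv D15651) (iv F68388) D22782
def n33204 : Q := act 9 n22782
theorem D33204 : act 9 n22782 = n33204 := rfl
theorem F140182 : act 4 n33204 = n22783 := d34_1 D33204 (iv D22783) D22782
def n33205 : Q := act 8 n22783
theorem D33205 : act 8 n22783 = n33205 := rfl
theorem F140186 : act 5 n33205 = n22786 := d37_1 D33205 (iv D22786) (iv F97791)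
theorem F140187 : act 7 n33205 = n22974 := d42_1 D33205 (iv D22974) (iv F97792)
def n33206 : Q := act 6 n22784
theorem D33206 : act 6 n22784 = n33206 := rfl
theorem F140188 : act 1 n33206 = n23389 := d13_1 D33206 (iv D23389) (iv F97793)
theorem F140189 : act 2 n33206 = n33206 := d20_1 D33206 (iv D33206) F97794
theorem F140190 : act 3 n33206 = n33206 := d26_1 D33206 (iv D33206) F97795
theorem F140191 : act 5 n33206 = n33206 := d35_1 D33206 (iv D33206) (iv D22784) F68397 D22784
def n33207 : Q := act 9 n22784
theorem D33207 : act 9 n22784 = n33207 := rfl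
theorem F140195 : act 5 n33207 = n22785 := d38_1 D33207 (iv D22785) D22784
def n33208 : Q := act 8 n22785
theorem D33208 : act 8 n22785 = n33208 := rfl
theorem F140199 : act 4 n33208 = n22786 := d33_1 D33208 (iv D22786) (iv F97800)
theorem F140201 : act 7 n33208 = n22977 := d42_1 D33208 (iv D22977) (iv F97802)
def n33216 : Q := act 9 n22790
theorem D33216 : act 9 n22790 = n33216 := rfl
theorem F140227 : act 1 n33216 = n22802 := d16_1 D33216 (iv D22802) (iv F97818)
def n33223 : Q := act 2 n22797
theorem D33223 : act 2 n22797 = n33223 := rfl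
theorem F140258 : act 3 n33223 = n23406 := d17_2 D22797 D33223 (iv D23406) (iv D16071) (iv F68435)
def n33228 : Q := act 1 n22801
theorem D33228 : act 1 n22801 = n33228 := rfl
theorem F140279 : act 3 n33228 = n23411 := d10_2 (iv F97865) D33228 (iv D23411)
def n33229 : Q := act 9 n22801
theorem D33229 : act 9 n22801 = n33229 := rfl
theorem F140283 : act 2 n33229 = n22802 := d23_1 D33229 (iv D22802) D22801
theorem F140284 : act 3 n33229 = n23412 := d29_1 D33229 (iv D23412) (iv F97865)
theorem F140286 : act 6 n33229 = n22804 := d41_1 D33229 (iv D22804) (iv F97867)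
def n33232 : Q := act 9 n22803
theorem D33232 : act 9 n22803 = n33232 := rfl
theorem F140295 : act 1 n33232 = n22804 := d16_1 D33232 (iv D22804) D22803
theorem F140296 : act 3 n33232 = n23415 := d29_1 D33232 (iv D23415) (iv F97872)
theorem F140299 : act 7 n33232 = n23001 := d43_1 D33232 (iv D23001) (iv F97875)
def n33240 : Q := act 9 n22808
theorem D33240 : act 9 n22808 = n33240 := rfl
theorem F140333 : act 4 n33240 = n22837 := d34_1 D33240 (iv D22837) (iv F97898)
theorem F140334 : act 6 n33240 = n23009 := d41_1 D33240 (iv D23009) (iv F97899)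
def n33272 : Q := act 8 n22831
theorem D33272 : act 8 n22831 = n33272 := rfl
theorem F140469 : act 1 n33272 = n22835 := d15_1 D33272 (iv D22835) (iv F97997)
theorem F140470 : act 2 n33272 = n25467 := d22_1 D33272 (iv D25467) (iv F97998)
def n33274 : Q := act 9 n22832
theorem D33274 : act 9 n22832 = n33274 := rfl
theorem F140476 : act 1 n33274 = n22837 := d16_1 D33274 (iv D22837) (iv F98001)
theorem F140477 : act 2 n33274 = n25469 := d23_1 D33274 (iv D25469) (iv F98002)
theorem F140478 : act 6 n33274 = n23043 := d41_1 D33274 (iv D23043) (iv F98003)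
def n33279 : Q := act 8 n22834
theorem D33279 : act 8 n22834 = n33279 := rfl
theorem F140495 : act 5 n33279 = n23048 := d37_1 D33279 (iv D23048) (iv F98009)
theorem F140496 : act 6 n33279 = n22835 := d40_1 D33279 (iv D22835) D22834
def n33283 : Q := act 9 n22836
theorem D33283 : act 9 n22836 = n33283 := rfl
theorem F140508 : act 2 n33283 = n22880 := d23_1 D33283 (iv D22880) (iv F98015)
theorem F140510 : act 6 n33283 = n23052 := d41_1 D33283 (iv D23052) (iv F98016)
def n33284 : Q := act 5 n22838
theorem D33284 : act 5 n22838 = n33284 := rfl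
theorem F140513 : act 4 n33284 = n23053 := d30_1 D33284 (iv D23053) F69116 (iv F68554) (iv F98023)
def n33289 : Q := act 8 n22840
theorem D33289 : act 8 n22840 = n33289 := rfl
theorem F140532 : act 3 n33289 = n22886 := d28_1 D33289 (iv D22886) F68670 (iv F68568) (iv F98030)
def n33290 : Q := act 9 n22841
theorem D33290 : act 9 n22841 = n33290 := rfl
theorem F140538 : act 5 n33290 = n23059 := d38_1 D33290 (iv D23059) (iv F98036)
theorem F140539 : act 6 n33290 = n22842 := d41_1 D33290 (iv D22842) (iv F98037)
def n33298 : Q := act 8 n22846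
theorem D33298 : act 8 n22846 = n33298 := rfl
theorem F140563 : act 2 n33298 = n22857 := d22_1 D33298 (iv D22857) (iv F98053)
theorem F140564 : act 5 n33298 = n23067 := d37_1 D33298 (iv D23067) (iv F98054)
def n33299 : Q := act 3 n22847
theorem D33299 : act 3 n22847 = n33299 := rfl
theorem F140568 : act 5 n33299 = n23068 := d25_2 (iv F98058) D33299 (iv D23068)
theorem F140569 : act 6 n33299 = n22848 := d26_2 (iv F98059) D33299 (iv D22848)
def n33304 : Q := act 9 n22850
theorem D33304 : act 9 n22850 = n33304 := rfl
theorem F140585 : act 4 n33304 = n22851 := d34_1 D33304 (iv D22851) D22850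
theorem F140586 : act 6 n33304 = n23073 := d41_1 D33304 (iv D23073) (iv F98069)
def n33309 : Q := act 3 n22854
theorem D33309 : act 3 n22854 = n33309 := rfl
theorem F140602 : act 4 n33309 = n22906 := d24_2 (iv F98081) D33309 (iv D22906) F68720 (iv F68597)
def n33310 : Q := act 9 n22854
theorem D33310 : act 9 n22854 = n33310 := rfl
theorem F140605 : act 4 n33310 = n22858 := d34_1 D33310 (iv D22858) (iv F98081)
theorem F140606 : act 6 n33310 = n22856 := d41_1 D33310 (iv D22856) (iv F98082)
def n33312 : Q := act 9 n22855
theorem D33312 : act 9 n22855 = n33312 := rfl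
theorem F140610 : act 3 n33312 = n22856 := d29_1 D33312 (iv D22856) D22855
theorem F140611 : act 4 n33312 = n22909 := d34_1 D33312 (iv D22909) (iv F98084)
def n33317 : Q := act 9 n22860
theorem D33317 : act 9 n22860 = n33317 := rfl
theorem F140630 : act 4 n33317 = n23086 := d34_1 D33317 (iv D23086) (iv F98104)
theorem F140631 : act 5 n33317 = n22863 := d38_1 D33317 (iv D22863) (iv F98105)
def n33319 : Q := act 9 n22861
theorem D33319 : act 9 n22861 = n33319 := rfl
theorem F140639 : act 7 n33319 = n22863 := d43_1 D33319 (iv D22863) (iv F98109)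
def n33328 : Q := act 7 n22868
theorem D33328 : act 7 n22868 = n33328 := rfl
theorem F140672 : act 0 n33328 = n23420 := d6_1 D33328 (iv D23420) (iv F98135)
theorem F140673 : act 1 n33328 = n22875 := d14_1 D33328 (iv D22875) (iv F98136)
theorem F140676 : act 9 n33328 = n22925 := d43_2 (iv F98139) D33328 (iv D22925)
def n33329 : Q := act 8 n22868
theorem D33329 : act 8 n22868 = n33329 := rfl
theorem F140680 : act 5 n33329 = n23098 := d37_1 D33329 (iv D23098) (iv F98138)
theorem F140681 : act 6 n33329 = n22869 := d40_1 D33329 (iv D22869) D22868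
def n33330 : Q := act 3 n22869
theorem D33330 : act 3 n22869 = n33330 := rfl
def n33331 : Q := act 9 n22869
theorem D33331 : act 9 n22869 = n33331 := rfl
theorem F140686 : act 1 n33331 = n22878 := d16_1 D33331 (iv D22878) (iv F98141)
def n33332 : Q := act 2 n22870
theorem D33332 : act 2 n22870 = n33332 := rfl
theorem F140691 : act 3 n33332 = n25527 := d17_2 D22870 D33332 (iv D25527) (iv D17535) (iv F68639)
theorem F140692 : act 6 n33332 = n23101 := d20_2 (iv F98146) D33332 (iv D23101)
def n33344 : Q := act 9 n22876
theorem D33344 : act 9 n22876 = n33344 := rfl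
theorem F140735 : act 5 n33344 = n23113 := d38_1 D33344 (iv D23113) (iv F98170)
theorem F140736 : act 6 n33344 = n22878 := d41_1 D33344 (iv D22878) (iv F98171)
theorem F140737 : act 8 n33344 = n22941 := d44_1 D33344 (iv D22941) (iv D15754) (iv F68649) D22876
def n33348 : Q := act 9 n22879
theorem D33348 : act 9 n22879 = n33348 := rfl
theorem F140746 : act 4 n33348 = n22880 := d34_1 D33348 (iv D22880) D22879
theorem F140747 : act 6 n33348 = n23117 := d41_1 D33348 (iv D23117) (iv F98180)
def n33349 : Q := act 8 n22880
theorem D33349 : act 8 n22880 = n33349 := rfl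
theorem F140749 : act 3 n33349 = n22946 := d28_1 D33349 (iv D22946) F68815 (iv F68659) (iv F98182)
def n33357 : Q := act 9 n22886
theorem D33357 : act 9 n22886 = n33357 := rfl
theorem F140783 : act 8 n33357 = n22954 := d44_1 D33357 (iv D22954) (iv D15764) (iv F68672) D22886
def n33360 : Q := act 8 n22888
theorem D33360 : act 8 n22888 = n33360 := rfl
theorem F140792 : act 6 n33360 = n22889 := d40_1 D33360 (iv D22889) D22888
def n33362 : Q := act 9 n22889
theorem D33362 : act 9 n22889 = n33362 := rfl
theorem F140796 : act 1 n33362 = n23454 := d16_1 D33362 (iv D23454) (iv F98217)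
theorem F140797 : act 5 n33362 = n33362 := d38_1 D33362 (iv D33362) F98218
theorem F140798 : act 8 n33362 = n22959 := d44_1 D33362 (iv D22959) (iv D15767) (iv F68683) D22889
def n33365 : Q := act 8 n22891
theorem D33365 : act 8 n22891 = n33365 := rfl
theorem F140811 : act 4 n33365 = n22895 := d33_1 D33365 (iv D22895) (iv F98226)
def n33367 : Q := act 9 n22892
theorem D33367 : act 9 n22892 = n33367 := rfl
theorem F140815 : act 1 n33367 = n23459 := d16_1 D33367 (iv D23459) (iv F98228)
theorem F140816 : act 2 n33367 = n22907 := d23_1 D33367 (iv D22907) (iv F98229)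
def n33374 : Q := act 9 n22896
theorem D33374 : act 9 n22896 = n33374 := rfl
theorem F140839 : act 5 n33374 = n23143 := d38_1 D33374 (iv D23143) (iv F98244)
theorem F140840 : act 6 n33374 = n22899 := d41_1 D33374 (iv D22899) (iv F98245)
def n33378 : Q := act 6 n22900
theorem D33378 : act 6 n22900 = n33378 := rfl
theorem F140850 : act 5 n33378 = n23147 := d35_1 D33378 (iv D23147) (iv D15894) (iv F68708) D22900
def n33382 : Q := act 8 n22903
theorem D33382 : act 8 n22903 = n33382 := rfl
theorem F140862 : act 4 n33382 = n23151 := d33_1 D33382 (iv D23151) (iv F98265)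
theorem F140863 : act 5 n33382 = n22905 := d37_1 D33382 (iv D22905) (iv F98266)
def n33391 : Q := act 8 n22909
theorem D33391 : act 8 n22909 = n33391 := rfl
theorem F140888 : act 3 n33391 = n22988 := d28_1 D33391 (iv D22988) F68915 (iv F68727) (iv F98283)
def n33394 : Q := act 9 n22912
theorem D33394 : act 9 n22912 = n33394 := rfl
theorem F140903 : act 8 n33394 = n22991 := d44_1 D33394 (iv D22991) (iv D15790) (iv F68739) D22912
def n33395 : Q := act 2 n22913
theorem D33395 : act 2 n22913 = n33395 := rfl
theorem F140905 : act 3 n33395 = n23487 := d17_2 D22913 D33395 (iv D23487) (iv D16126) (iv F68741)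
def n33396 : Q := act 4 n22913
theorem D33396 : act 4 n22913 = n33396 := rfl
theorem F140909 : act 3 n33396 = n23165 := d24_1 D33396 (iv D23165) (iv D15907) (iv F68742) D22913
def n33407 : Q := act 6 n22922
theorem D33407 : act 6 n22922 = n33407 := rfl
theorem F140942 : act 0 n33407 = n23499 := d5_1 D33407 (iv D23499) (iv F98330)
theorem F140943 : act 1 n33407 = n22932 := d13_1 D33407 (iv D22932) (iv F98331)
def n33408 : Q := act 8 n22922
theorem D33408 : act 8 n22922 = n33408 := rfl
theorem F140946 : act 1 n33408 = n22933 := d15_1 D33408 (iv D22933) (iv F98331)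
def n33409 : Q := act 5 n22923
theorem D33409 : act 5 n22923 = n33409 := rfl
theorem F140948 : act 0 n33409 = n23501 := d4_1 D33409 (iv D23501) (iv F98333)
theorem F140949 : act 1 n33409 = n22934 := d12_1 D33409 (iv D22934) (iv F98334)
theorem F140951 : act 4 n33409 = n23178 := d30_1 D33409 (iv D23178) F69471 (iv F68774) (iv F98336)
def n33411 : Q := act 8 n22923
theorem D33411 : act 8 n22923 = n33411 := rfl
theorem F140957 : act 0 n33411 = n23503 := d7_1 D33411 (iv D23503) (iv F98333)
theorem F140958 : act 1 n33411 = n22936 := d15_1 D33411 (iv D22936) (iv F98334)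
theorem F140961 : act 6 n33411 = n22924 := d40_1 D33411 (iv D22924) D22923
def n33412 : Q := act 3 n22924
theorem D33412 : act 3 n22924 = n33412 := rfl
def n33413 : Q := act 9 n22924
theorem D33413 : act 9 n22924 = n33413 := rfl
def n33415 : Q := act 3 n22926
theorem D33415 : act 3 n22926 = n33415 := rfl
theorem F140977 : act 5 n33415 = n23184 := d25_2 (iv F98349) D33415 (iv D23184)
theorem F140978 : act 6 n33415 = n22927 := d26_2 (iv F98350) D33415 (iv D22927)
def n33418 : Q := act 4 n22927
theorem D33418 : act 4 n22927 = n33418 := rfl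
def n33427 : Q := act 8 n22932
theorem D33427 : act 8 n22932 = n33427 := rfl
theorem F141020 : act 6 n33427 = n22933 := d40_1 D33427 (iv D22933) D22932
def n33428 : Q := act 3 n22933
theorem D33428 : act 3 n22933 = n33428 := rfl
theorem F141023 : act 8 n33428 = n22937 := d28_2 D22933 D33428 (iv D22937) (iv D15752) D15750
def n33429 : Q := act 9 n22933
theorem D33429 : act 9 n22933 = n33429 := rfl
theorem F141024 : act 0 n33429 = n22959 := d8_1 D33429 (iv D22959) (iv F98372)
theorem F141025 : act 5 n33429 = n33429 := d38_1 D33429 (iv D33429) F98373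
def n33431 : Q := act 8 n22934
theorem D33431 : act 8 n22934 = n33431 := rfl
theorem F141032 : act 4 n33431 = n23200 := d33_1 D33431 (iv D23200) (iv F98376)
theorem F141033 : act 5 n33431 = n22936 := d37_1 D33431 (iv D22936) D22934
def n33439 : Q := act 9 n22939
theorem D33439 : act 9 n22939 = n33439 := rfl
theorem F141058 : act 2 n33439 = n22954 := d23_1 D33439 (iv D22954) (iv F98392)
theorem F141059 : act 5 n33439 = n23208 := d38_1 D33439 (iv D23208) (iv F98393)
def n33441 : Q := act 9 n22940
theorem D33441 : act 9 n22940 = n33441 := rfl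
theorem F141066 : act 3 n33441 = n22941 := d29_1 D33441 (iv D22941) D22940
theorem F141067 : act 5 n33441 = n23210 := d38_1 D33441 (iv D23210) (iv F98397)
theorem F141068 : act 6 n33441 = n22943 := d41_1 D33441 (iv D22943) (iv F98398)
def n33444 : Q := act 8 n22943
theorem D33444 : act 8 n22943 = n33444 := rfl
def n33447 : Q := act 8 n22945
theorem D33447 : act 8 n22945 = n33447 := rfl
theorem F141088 : act 4 n33447 = n22946 := d33_1 D33447 (iv D22946) (iv F98415)
theorem F141089 : act 6 n33447 = n23216 := d40_1 D33447 (iv D23216) (iv F98416)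
def n33459 : Q := act 4 n22955
theorem D33459 : act 4 n22955 = n33459 := rfl
theorem F141136 : act 3 n33459 = n23228 := d24_1 D33459 (iv D23228) F69603 (iv F68852) (iv F98455)
def n33461 : Q := act 8 n22955
theorem D33461 : act 8 n22955 = n33461 := rfl
theorem F141142 : act 5 n33461 = n22957 := d37_1 D33461 (iv D22957) D22955
def n33462 : Q := act 8 n22956
theorem D33462 : act 8 n22956 = n33462 := rfl
theorem F141145 : act 7 n33462 = n22957 := d42_1 D33462 (iv D22957) D22956
def n33464 : Q := act 9 n22957
theorem D33464 : act 9 n22957 = n33464 := rfl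
theorem F141149 : act 1 n33464 = n23556 := d16_1 D33464 (iv D23556) (iv F98459)
theorem F141150 : act 6 n33464 = n22959 := d41_1 D33464 (iv D22959) (iv F98460)
def n33466 : Q := act 4 n22958
theorem D33466 : act 4 n22958 = n33466 := rfl
theorem F141154 : act 8 n33466 = n22966 := d33_2 (iv F98463) D33466 (iv D22966)
def n33471 : Q := act 9 n22961
theorem D33471 : act 9 n22961 = n33471 := rfl
theorem F141170 : act 1 n33471 = n23563 := d16_1 D33471 (iv D23563) (iv F98470)
theorem F141172 : act 4 n33471 = n23240 := d34_1 D33471 (iv D23240) (iv F98472)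
def n33484 : Q := act 9 n22968
theorem D33484 : act 9 n22968 = n33484 := rfl
theorem F141210 : act 3 n33484 = n22969 := d29_1 D33484 (iv D22969) D22968
theorem F141211 : act 5 n33484 = n23252 := d38_1 D33484 (iv D23252) (iv F98494)
def n33487 : Q := act 8 n22971
theorem D33487 : act 8 n22971 = n33487 := rfl
theorem F141222 : act 5 n33487 = n23255 := d37_1 D33487 (iv D23255) (iv F98506)
theorem F141223 : act 6 n33487 = n22974 := d40_1 D33487 (iv D22974) (iv F98507)
def n33488 : Q := act 6 n22972
theorem D33488 : act 6 n22972 = n33488 := rfl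
theorem F141224 : act 1 n33488 = n23580 := d13_1 D33488 (iv D23580) (iv F98508)
theorem F141225 : act 2 n33488 = n33488 := d20_1 D33488 (iv D33488) F98509
theorem F141226 : act 4 n33488 = n22975 := d31_1 D33488 (iv D22975) (iv F98510)
def n33490 : Q := act 8 n22973
theorem D33490 : act 8 n22973 = n33490 := rfl
theorem F141233 : act 4 n33490 = n22974 := d33_1 D33490 (iv D22974) (iv F98513)
def n33491 : Q := act 7 n22975
theorem D33491 : act 7 n22975 = n33491 := rfl
theorem F141234 : act 1 n33491 = n23583 := d14_1 D33491 (iv D23583) (iv F98517)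
theorem F141235 : act 2 n33491 = n33491 := d21_1 D33491 (iv D33491) F98518
theorem F141236 : act 3 n33491 = n33491 := d27_1 D33491 (iv D33491) F98519
theorem F141237 : act 5 n33491 = n23259 := d36_1 D33491 (iv D23259) (iv F98520)
def n33492 : Q := act 9 n22975
theorem D33492 : act 9 n22975 = n33492 := rfl
theorem F141241 : act 5 n33492 = n23260 := d38_1 D33492 (iv D23260) (iv F98520)
theorem F141242 : act 6 n33492 = n22976 := d41_1 D33492 (iv D22976) D22975
def n33493 : Q := act 8 n22976
theorem D33493 : act 8 n22976 = n33493 := rfl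
def n33499 : Q := act 4 n22980
theorem D33499 : act 4 n22980 = n33499 := rfl
theorem F141263 : act 3 n33499 = n23267 := d24_1 D33499 (iv D23267) (iv D15974) (iv F68900) D22980
def n33516 : Q := act 9 n22992
theorem D33516 : act 9 n22992 = n33516 := rfl
theorem F141324 : act 2 n33516 = n22994 := d23_1 D33516 (iv D22994) D22992
theorem F141325 : act 3 n33516 = n23605 := d29_1 D33516 (iv D23605) (iv F98578)
def n33517 : Q := act 9 n22993
theorem D33517 : act 9 n22993 = n33517 := rfl
theorem F141329 : act 3 n33517 = n23278 := d29_1 D33517 (iv D23278) (iv F98582)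
theorem F141330 : act 4 n33517 = n22994 := d34_1 D33517 (iv D22994) D22993
def n33532 : Q := act 9 n23004
theorem D33532 : act 9 n23004 = n33532 := rfl
theorem F141393 : act 4 n33532 = n23043 := d34_1 D33532 (iv D23043) (iv F98629)
def n33582 : Q := act 8 n23037
theorem D33582 : act 8 n23037 = n33582 := rfl
theorem F141629 : act 5 n33582 = n23093 := d37_1 D33582 (iv D23093) (iv F98782)
def n33589 : Q := act 9 n23041
theorem D33589 : act 9 n23041 = n33589 := rfl
theorem F141660 : act 1 n33589 = n23050 := d16_1 D33589 (iv D23050) (iv F98800)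
theorem F141662 : act 5 n33589 = n23043 := d38_1 D33589 (iv D23043) (iv F98802)
def n33590 : Q := act 2 n23042
theorem D33590 : act 2 n23042 = n33590 := rfl
theorem F141666 : act 1 n33590 = n23101 := d9_1 D33590 (iv D23101) F69252 (iv F69107) (iv F98805)
theorem F141667 : act 3 n33590 = n25821 := d17_2 D23042 D33590 (iv D25821) (iv D17732) (iv F69093)
def n33599 : Q := act 9 n23046
theorem D33599 : act 9 n23046 = n33599 := rfl
theorem F141698 : act 2 n33599 = n23057 := d23_1 D33599 (iv D23057) (iv F98821)
theorem F141699 : act 4 n33599 = n23050 := d34_1 D33599 (iv D23050) (iv F98822)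
def n33602 : Q := act 9 n23048
theorem D33602 : act 9 n23048 = n33602 := rfl
theorem F141710 : act 2 n33602 = n23059 := d23_1 D33602 (iv D23059) (iv F98829)
theorem F141711 : act 6 n33602 = n23050 := d41_1 D33602 (iv D23050) (iv F98830)
def n33603 : Q := act 4 n23049
theorem D33603 : act 4 n23049 = n33603 := rfl
def n33604 : Q := act 9 n23049
theorem D33604 : act 9 n23049 = n33604 := rfl
theorem F141718 : act 3 n33604 = n23050 := d29_1 D33604 (iv D23050) D23049
theorem F141719 : act 5 n33604 = n23052 := d38_1 D33604 (iv D23052) (iv F98833)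
def n33605 : Q := act 5 n23051
theorem D33605 : act 5 n23051 = n33605 := rfl
def n33606 : Q := act 9 n23051
theorem D33606 : act 9 n23051 = n33606 := rfl
theorem F141726 : act 4 n33606 = n23052 := d34_1 D33606 (iv D23052) D23051
def n33609 : Q := act 8 n23053
theorem D33609 : act 8 n23053 = n33609 := rfl
theorem F141739 : act 5 n33609 = n23055 := d37_1 D33609 (iv D23055) D23053
def n33612 : Q := act 9 n23055
theorem D33612 : act 9 n23055 = n33612 := rfl
theorem F141753 : act 6 n33612 = n23057 := d41_1 D33612 (iv D23057) (iv F98860)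
def n33614 : Q := act 9 n23056
theorem D33614 : act 9 n23056 = n33614 := rfl
theorem F141759 : act 0 n33614 = n23081 := d8_1 D33614 (iv D23081) (iv F98861)
theorem F141761 : act 3 n33614 = n23057 := d29_1 D33614 (iv D23057) D23056
def n33626 : Q := act 2 n23065
theorem D33626 : act 2 n23065 = n33626 := rfl
theorem F141808 : act 3 n33626 = n23080 := d17_2 D23065 D33626 (iv D23080) (iv D15849) (iv F69146)
def n33627 : Q := act 4 n23065
theorem D33627 : act 4 n23065 = n33627 := rfl
theorem F141811 : act 3 n33627 = n23070 := d24_1 D33627 (iv D23070) (iv D15842) (iv F69147) D23065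
def n33630 : Q := act 9 n23067
theorem D33630 : act 9 n23067 = n33630 := rfl
theorem F141823 : act 7 n33630 = n23069 := d43_1 D33630 (iv D23069) (iv F98910)
def n33631 : Q := act 4 n23068
theorem D33631 : act 4 n23068 = n33631 := rfl
theorem F141827 : act 6 n33631 = n23070 := d31_2 (iv F98913) D33631 (iv D23070)
def n33633 : Q := act 5 n23070
theorem D33633 : act 5 n23070 = n33633 := rfl
theorem F141834 : act 4 n33633 = n23072 := d30_1 D33633 (iv D23072) (iv D15844) (iv F69158) D23070
def n33643 : Q := act 3 n23077
theorem D33643 : act 3 n23077 = n33643 := rfl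
theorem F141868 : act 1 n33643 = n23087 := d10_1 D33643 (iv D23087) (iv F98943)
theorem F141871 : act 7 n33643 = n23078 := d27_2 (iv F98946) D33643 (iv D23078)
def n33644 : Q := act 9 n23077
theorem D33644 : act 9 n23077 = n33644 := rfl
theorem F141876 : act 7 n33644 = n23079 := d43_1 D33644 (iv D23079) (iv F98946)
def n33646 : Q := act 9 n23078
theorem D33646 : act 9 n23078 = n33646 := rfl
theorem F141884 : act 6 n33646 = n23081 := d41_1 D33646 (iv D23081) (iv F98949)
def n33648 : Q := act 9 n23080
theorem D33648 : act 9 n23080 = n33648 := rfl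
theorem F141889 : act 2 n33648 = n23081 := d23_1 D33648 (iv D23081) D23080
def n33649 : Q := act 8 n23081
theorem D33649 : act 8 n23081 = n33649 := rfl
theorem F141892 : act 1 n33649 = n23093 := d15_1 D33649 (iv D23093) (iv F98958)
theorem F141894 : act 4 n33649 = n23160 := d33_1 D33649 (iv D23160) (iv F98960)
def n33660 : Q := act 8 n23090
theorem D33660 : act 8 n23090 = n33660 := rfl
theorem F141943 : act 6 n33660 = n23093 := d40_1 D33660 (iv D23093) (iv F99002)
def n33663 : Q := act 8 n23092
theorem D33663 : act 8 n23092 = n33663 := rfl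
theorem F141954 : act 0 n33663 = n25894 := d7_1 D33663 (iv D25894) (iv F99007)
theorem F141955 : act 2 n33663 = n23093 := d22_1 D33663 (iv D23093) (iv F99008)
theorem F141956 : act 4 n33663 = n23174 := d33_1 D33663 (iv D23174) (iv F99010)
def n33664 : Q := act 2 n23094
theorem D33664 : act 2 n23094 = n33664 := rfl
theorem F141964 : act 9 n33664 = n23175 := d23_2 (iv F99021) D33664 (iv D23175)
def n33668 : Q := act 7 n23095
theorem D33668 : act 7 n23095 = n33668 := rfl
theorem F141981 : act 4 n33668 = n23097 := d32_1 D33668 (iv D23097) (iv F99025)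
theorem F141983 : act 9 n33668 = n23179 := d43_2 (iv F99026) D33668 (iv D23179)
def n33669 : Q := act 8 n23095
theorem D33669 : act 8 n23095 = n33669 := rfl
theorem F141987 : act 4 n33669 = n23098 := d33_1 D33669 (iv D23098) (iv F99025)
def n33672 : Q := act 8 n23097
theorem D33672 : act 8 n23097 = n33672 := rfl
theorem F142000 : act 0 n33672 = n23624 := d7_1 D33672 (iv D23624) (iv F99033)
theorem F142001 : act 1 n33672 = n23111 := d15_1 D33672 (iv D23111) (iv F99034)
def n33673 : Q := act 3 n23098
theorem D33673 : act 3 n23098 = n33673 := rfl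
def n33674 : Q := act 9 n23098
theorem D33674 : act 9 n23098 = n33674 := rfl
def n33684 : Q := act 7 n23104
theorem D33684 : act 7 n23104 = n33684 := rfl
theorem F142050 : act 0 n33684 = n23128 := d6_1 D33684 (iv D23128) (iv F99063)
theorem F142052 : act 3 n33684 = n23107 := d27_1 D33684 (iv D23107) (iv F99065)
theorem F142054 : act 9 n33684 = n23195 := d43_2 (iv F99066) D33684 (iv D23195)
def n33685 : Q := act 8 n23104
theorem D33685 : act 8 n23104 = n33685 := rfl
theorem F142055 : act 0 n33685 = n23129 := d7_1 D33685 (iv D23129) (iv F99063)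
def n33686 : Q := act 3 n23105
theorem D33686 : act 3 n23105 = n33686 := rfl
theorem F142061 : act 8 n33686 = n23109 := d28_2 D23105 D33686 (iv D23109) (iv D15868) D15866
def n33687 : Q := act 9 n23105
theorem D33687 : act 9 n23105 = n33687 := rfl
theorem F142062 : act 0 n33687 = n23131 := d8_1 D33687 (iv D23131) (iv F99067)
theorem F142066 : act 8 n33687 = n23198 := d44_1 D33687 (iv D23198) (iv D15927) (iv F69264) D23105
def n33692 : Q := act 9 n23108
theorem D33692 : act 9 n23108 = n33692 := rfl
theorem F142084 : act 4 n33692 = n23113 := d34_1 D33692 (iv D23113) (iv F99082)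
theorem F142086 : act 8 n33692 = n23203 := d44_1 D33692 (iv D23203) (iv D15930) (iv F69268) D23108
def n33693 : Q := act 2 n23109
theorem D33693 : act 2 n23109 = n33693 := rfl
theorem F142088 : act 3 n33693 = n23124 := d17_2 D23109 D33693 (iv D23124) (iv D15878) (iv F69270)
def n33694 : Q := act 4 n23109
theorem D33694 : act 4 n23109 = n33694 := rfl
theorem F142092 : act 3 n33694 = n23114 := d24_1 D33694 (iv D23114) (iv D15871) (iv F69271) D23109
def n33695 : Q := act 9 n23109
theorem D33695 : act 9 n23109 = n33695 := rfl
theorem F142095 : act 3 n33695 = n23110 := d29_1 D33695 (iv D23110) D23109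
def n33700 : Q := act 5 n23114
theorem D33700 : act 5 n23114 = n33700 := rfl
theorem F142112 : act 4 n33700 = n23116 := d30_1 D33700 (iv D23116) (iv D15873) (iv F69282) D23114
def n33702 : Q := act 8 n23115
theorem D33702 : act 8 n23115 = n33702 := rfl
theorem F142118 : act 3 n33702 = n23213 := d28_1 D33702 (iv D23213) F69548 (iv F69288) (iv F99106)
def n33704 : Q := act 9 n23116
theorem D33704 : act 9 n23116 = n33704 := rfl
theorem F142123 : act 0 n33704 = n23148 := d8_1 D33704 (iv D23148) (iv F99109)
theorem F142125 : act 5 n33704 = n23117 := d38_1 D33704 (iv D23117) D23116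
def n33711 : Q := act 9 n23121
theorem D33711 : act 9 n23121 = n33711 := rfl
theorem F142160 : act 8 n33711 = n23222 := d44_1 D33711 (iv D23222) (iv D15943) (iv F69305) D23121
def n33713 : Q := act 9 n23122
theorem D33713 : act 9 n23122 = n33713 := rfl
theorem F142167 : act 6 n33713 = n23125 := d41_1 D33713 (iv D23125) (iv F99135)
def n33715 : Q := act 9 n23124
theorem D33715 : act 9 n23124 = n33715 := rfl
theorem F142173 : act 2 n33715 = n23125 := d23_1 D33715 (iv D23125) D23124
def n33716 : Q := act 8 n23125
theorem D33716 : act 8 n23125 = n33716 := rfl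
theorem F142176 : act 0 n33716 = n23160 := d7_1 D33716 (iv D23160) (iv F99146)
theorem F142178 : act 3 n33716 = n23227 := d28_1 D33716 (iv D23227) F69592 (iv F69320) (iv F99148)
def n33717 : Q := act 4 n23127
theorem D33717 : act 4 n23127 = n33717 := rfl
theorem F142185 : act 9 n33717 = n23228 := d34_2 (iv F99160) D33717 (iv D23228)
def n33718 : Q := act 7 n23127
theorem D33718 : act 7 n23127 = n33718 := rfl
theorem F142189 : act 5 n33718 = n23128 := d36_1 D33718 (iv D23128) D23127
def n33719 : Q := act 8 n23127
theorem D33719 : act 8 n23127 = n33719 := rfl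
theorem F142191 : act 1 n33719 = n23670 := d15_1 D33719 (iv D23670) (iv F99156)
theorem F142192 : act 2 n33719 = n33719 := d22_1 D33719 (iv D33719) F99157
theorem F142193 : act 5 n33719 = n23129 := d37_1 D33719 (iv D23129) D23127
theorem F142194 : act 6 n33719 = n33719 := d40_1 D33719 (iv D33719) F99159
def n33720 : Q := act 8 n23128
theorem D33720 : act 8 n23128 = n33720 := rfl
theorem F142195 : act 1 n33720 = n23671 := d15_1 D33720 (iv D23671) (iv F99161)
theorem F142196 : act 2 n33720 = n33720 := d22_1 D33720 (iv D33720) F99162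
theorem F142197 : act 6 n33720 = n33720 := d40_1 D33720 (iv D33720) F99164
theorem F142198 : act 7 n33720 = n23129 := d42_1 D33720 (iv D23129) D23128
def n33721 : Q := act 3 n23129
theorem D33721 : act 3 n23129 = n33721 := rfl
theorem F142199 : act 1 n33721 = n23672 := d10_1 D33721 (iv D23672) (iv F99166)
theorem F142201 : act 8 n33721 = n23135 := d28_2 D23129 D33721 (iv D23135) (iv D15886) (iv F69331)
def n33722 : Q := act 9 n23129
theorem D33722 : act 9 n23129 = n33722 := rfl
theorem F142202 : act 1 n33722 = n23673 := d16_1 D33722 (iv D23673) (iv F99166)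
theorem F142203 : act 2 n33722 = n33722 := d23_1 D33722 (iv D33722) F99167
theorem F142204 : act 6 n33722 = n23131 := d41_1 D33722 (iv D23131) (iv F99168)
theorem F142205 : act 8 n33722 = n23233 := d44_1 D33722 (iv D23233) (iv D15951) (iv F69332) D23129
def n33724 : Q := act 4 n23130
theorem D33724 : act 4 n23130 = n33724 := rfl
theorem F142212 : act 8 n33724 = n23138 := d33_2 (iv F99172) D33724 (iv D23138)
def n33725 : Q := act 9 n23130
theorem D33725 : act 9 n23130 = n33725 := rfl
theorem F142213 : act 1 n33725 = n23676 := d16_1 D33725 (iv D23676) (iv F99169)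
theorem F142214 : act 3 n33725 = n23131 := d29_1 D33725 (iv D23131) D23130
def n33727 : Q := act 8 n23132
theorem D33727 : act 8 n23132 = n33727 := rfl
theorem F142224 : act 5 n33727 = n23134 := d37_1 D33727 (iv D23134) (iv F99180)
def n33728 : Q := act 3 n23133
theorem D33728 : act 3 n23133 = n33728 := rfl
def n33729 : Q := act 9 n23133
theorem D33729 : act 9 n23133 = n33729 := rfl
theorem F142229 : act 1 n33729 = n23680 := d16_1 D33729 (iv D23680) (iv F99182)
theorem F142230 : act 2 n33729 = n23153 := d23_1 D33729 (iv D23153) (iv F99183)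
def n33730 : Q := act 3 n23134
theorem D33730 : act 3 n23134 = n33730 := rfl
theorem F142236 : act 7 n33730 = n23135 := d27_2 (iv F99190) D33730 (iv D23135)
def n33734 : Q := act 9 n23135
theorem D33734 : act 9 n23135 = n33734 := rfl
theorem F142249 : act 3 n33734 = n23136 := d29_1 D33734 (iv D23136) D23135
theorem F142250 : act 6 n33734 = n23139 := d41_1 D33734 (iv D23139) (iv F99192)
def n33735 : Q := act 1 n23137
theorem D33735 : act 1 n23137 = n33735 := rfl
theorem F142251 : act 2 n33735 = n23686 := d9_2 D23137 D33735 (iv D23686) (iv D16258) (iv F69350)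
theorem F142252 : act 3 n33735 = n23158 := d10_2 (iv F99198) D33735 (iv D23158)
def n33737 : Q := act 9 n23137
theorem D33737 : act 9 n23137 = n33737 := rfl
theorem F142257 : act 2 n33737 = n23139 := d23_1 D33737 (iv D23139) D23137
theorem F142258 : act 3 n33737 = n23159 := d29_1 D33737 (iv D23159) (iv F99198)
def n33739 : Q := act 9 n23138
theorem D33739 : act 9 n23138 = n33739 := rfl
theorem F142266 : act 3 n33739 = n23145 := d29_1 D33739 (iv D23145) (iv F99202)
theorem F142267 : act 4 n33739 = n23139 := d34_1 D33739 (iv D23139) D23138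
def n33744 : Q := act 9 n23142
theorem D33744 : act 9 n23142 = n33744 := rfl
theorem F142282 : act 4 n33744 = n23143 := d34_1 D33744 (iv D23143) D23142
theorem F142283 : act 6 n33744 = n23145 := d41_1 D33744 (iv D23145) (iv F99217)
def n33747 : Q := act 9 n23144
theorem D33747 : act 9 n23144 = n33747 := rfl
theorem F142290 : act 4 n33747 = n23148 := d34_1 D33747 (iv D23148) (iv F99222)
theorem F142291 : act 5 n33747 = n23145 := d38_1 D33747 (iv D23145) D23144
def n33750 : Q := act 9 n23147
theorem D33750 : act 9 n23147 = n33750 := rfl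
theorem F142301 : act 6 n33750 = n23148 := d41_1 D33750 (iv D23148) D23147
def n33756 : Q := act 2 n23152
theorem D33756 : act 2 n23152 = n33756 := rfl
theorem F142321 : act 5 n33756 = n23156 := d19_2 (iv F99249) D33756 (iv D23156)
def n33759 : Q := act 2 n23154
theorem D33759 : act 2 n23154 = n33759 := rfl
theorem F142332 : act 7 n33759 = n23156 := d21_2 (iv F99258) D33759 (iv D23156)
def n33760 : Q := act 9 n23154
theorem D33760 : act 9 n23154 = n33760 := rfl
theorem F142337 : act 7 n33760 = n23157 := d43_1 D33760 (iv D23157) (iv F99258)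
def n33762 : Q := act 9 n23156
theorem D33762 : act 9 n23156 = n33762 := rfl
theorem F142342 : act 6 n33762 = n23159 := d41_1 D33762 (iv D23159) (iv F99265)
def n33763 : Q := act 8 n23157
theorem D33763 : act 8 n23157 = n33763 := rfl
theorem F142345 : act 6 n33763 = n23160 := d40_1 D33763 (iv D23160) (iv F99269)
def n33765 : Q := act 9 n23158
theorem D33765 : act 9 n23158 = n33765 := rfl
theorem F142352 : act 2 n33765 = n23173 := d23_1 D33765 (iv D23173) (iv F99270)
def n33766 : Q := act 8 n23159
theorem D33766 : act 8 n23159 = n33766 := rfl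
theorem F142355 : act 2 n33766 = n23160 := d22_1 D33766 (iv D23160) (iv F99274)
def n33775 : Q := act 9 n23165
theorem D33775 : act 9 n23165 = n33775 := rfl
theorem F142396 : act 4 n33775 = n23166 := d34_1 D33775 (iv D23166) D23165
def n33776 : Q := act 8 n23166
theorem D33776 : act 8 n23166 = n33776 := rfl
theorem F142400 : act 5 n33776 = n23171 := d37_1 D33776 (iv D23171) (iv F99306)
def n33777 : Q := act 1 n23167
theorem D33777 : act 1 n23167 = n33777 := rfl
theorem F142405 : act 7 n33777 = n23169 := d14_2 (iv F99311) D33777 (iv D23169)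
def n33778 : Q := act 9 n23167
theorem D33778 : act 9 n23167 = n33778 := rfl
theorem F142411 : act 7 n33778 = n23170 := d43_1 D33778 (iv D23170) (iv F99311)
def n33781 : Q := act 9 n23169
theorem D33781 : act 9 n23169 = n33781 := rfl
theorem F142423 : act 6 n33781 = n23173 := d41_1 D33781 (iv D23173) (iv F99318)
def n33782 : Q := act 8 n23170
theorem D33782 : act 8 n23170 = n33782 := rfl
theorem F142427 : act 6 n33782 = n23174 := d40_1 D33782 (iv D23174) (iv F99323)
def n33783 : Q := act 9 n23172
theorem D33783 : act 9 n23172 = n33783 := rfl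
theorem F142429 : act 0 n33783 = n23173 := d8_1 D33783 (iv D23173) D23172
theorem F142431 : act 3 n33783 = n23729 := d29_1 D33783 (iv D23729) (iv F99329)
def n33784 : Q := act 8 n23173
theorem D33784 : act 8 n23173 = n33784 := rfl
theorem F142434 : act 1 n33784 = n23174 := d15_1 D33784 (iv D23174) (iv F99333)
def n33785 : Q := act 6 n23175
theorem D33785 : act 6 n23175 = n33785 := rfl
theorem F142441 : act 2 n33785 = n23176 := d20_1 D33785 (iv D23176) D23175
def n33786 : Q := act 8 n23175
theorem D33786 : act 8 n23175 = n33786 := rfl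
theorem F142445 : act 2 n33786 = n23177 := d22_1 D33786 (iv D23177) D23175
def n33787 : Q := act 5 n23176
theorem D33787 : act 5 n23176 = n33787 := rfl
theorem F142450 : act 3 n33787 = n23178 := d25_1 D33787 (iv D23178) (iv F99350)
def n33788 : Q := act 7 n23176
theorem D33788 : act 7 n23176 = n33788 := rfl
theorem F142454 : act 3 n33788 = n23179 := d27_1 D33788 (iv D23179) (iv F99350)
def n33789 : Q := act 8 n23176
theorem D33789 : act 8 n23176 = n33789 := rfl
theorem F142457 : act 1 n33789 = n23196 := d15_1 D33789 (iv D23196) (iv F99349)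
theorem F142458 : act 6 n33789 = n23177 := d40_1 D33789 (iv D23177) D23176
def n33790 : Q := act 3 n23177
theorem D33790 : act 3 n23177 = n33790 := rfl
theorem F142460 : act 1 n33790 = n23197 := d10_1 D33790 (iv D23197) (iv F99352)
theorem F142463 : act 8 n33790 = n23181 := d28_2 D23177 D33790 (iv D23181) (iv D15918) D15916
def n33791 : Q := act 9 n23177
theorem D33791 : act 9 n23177 = n33791 := rfl
theorem F142465 : act 1 n33791 = n23198 := d16_1 D33791 (iv D23198) (iv F99352)
theorem F142466 : act 5 n33791 = n33791 := d38_1 D33791 (iv D33791) F99353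
theorem F142467 : act 7 n33791 = n33791 := d43_1 D33791 (iv D33791) F99354
def n33795 : Q := act 3 n23180
theorem D33795 : act 3 n23180 = n33795 := rfl
theorem F142484 : act 1 n33795 = n23202 := d10_1 D33795 (iv D23202) (iv F99365)
def n33800 : Q := act 3 n23183
theorem D33800 : act 3 n23183 = n33800 := rfl
def n33801 : Q := act 9 n23183
theorem D33801 : act 9 n23183 = n33801 := rfl
def n33803 : Q := act 4 n23184
theorem D33803 : act 4 n23184 = n33803 := rfl
def n33817 : Q := act 4 n23194
theorem D33817 : act 4 n23194 = n33817 := rfl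
def n33819 : Q := act 8 n23194
theorem D33819 : act 8 n23194 = n33819 := rfl
theorem F142583 : act 0 n33819 = n23230 := d7_1 D33819 (iv D23230) (iv F99425)
theorem F142585 : act 5 n33819 = n23196 := d37_1 D33819 (iv D23196) D23194
def n33820 : Q := act 8 n23195
theorem D33820 : act 8 n23195 = n33820 := rfl
theorem F142587 : act 0 n33820 = n23231 := d7_1 D33820 (iv D23231) (iv F99429)
theorem F142590 : act 7 n33820 = n23196 := d42_1 D33820 (iv D23196) D23195
def n33821 : Q := act 3 n23196
theorem D33821 : act 3 n23196 = n33821 := rfl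
theorem F142591 : act 0 n33821 = n23232 := d2_1 D33821 (iv D23232) (iv F99433)
theorem F142592 : act 6 n33821 = n23197 := d26_2 (iv F99435) D33821 (iv D23197)
theorem F142593 : act 8 n33821 = n23202 := d28_2 D23196 D33821 (iv D23202) (iv D15930) (iv F69509)
def n33822 : Q := act 9 n23196
theorem D33822 : act 9 n23196 = n33822 := rfl
theorem F142594 : act 0 n33822 = n23233 := d8_1 D33822 (iv D23233) (iv F99433)
theorem F142595 : act 2 n33822 = n33822 := d23_1 D33822 (iv D33822) F99434
theorem F142596 : act 6 n33822 = n23198 := d41_1 D33822 (iv D23198) (iv F99435)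
def n33823 : Q := act 2 n23197
theorem D33823 : act 2 n23197 = n33823 := rfl
theorem F142597 : act 0 n33823 = n23234 := d1_1 D33823 (iv D23234) (iv F99436)
def n33824 : Q := act 4 n23197
theorem D33824 : act 4 n23197 = n33824 := rfl
theorem F142602 : act 0 n33824 = n23235 := d3_1 D33824 (iv D23235) (iv F99436)
def n33825 : Q := act 9 n23197
theorem D33825 : act 9 n23197 = n33825 := rfl
theorem F142605 : act 0 n33825 = n23236 := d8_1 D33825 (iv D23236) (iv F99436)
theorem F142606 : act 3 n33825 = n23198 := d29_1 D33825 (iv D23198) D23197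
theorem F142607 : act 5 n33825 = n33825 := d38_1 D33825 (iv D33825) F99437
theorem F142608 : act 7 n33825 = n33825 := d43_1 D33825 (iv D33825) F99438
def n33828 : Q := act 3 n23200
theorem D33828 : act 3 n23200 = n33828 := rfl
theorem F142618 : act 5 n33828 = n23202 := d25_2 (iv F99449) D33828 (iv D23202)
def n33830 : Q := act 3 n23201
theorem D33830 : act 3 n23201 = n33830 := rfl
theorem F142626 : act 7 n33830 = n23202 := d27_2 (iv F99455) D33830 (iv D23202)
def n33831 : Q := act 9 n23201
theorem D33831 : act 9 n23201 = n33831 := rfl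
theorem F142628 : act 2 n33831 = n23222 := d23_1 D33831 (iv D23222) (iv F99452)
theorem F142629 : act 4 n33831 = n23208 := d34_1 D33831 (iv D23208) (iv F99453)
def n33832 : Q := act 2 n23202
theorem D33832 : act 2 n23202 = n33832 := rfl
def n33833 : Q := act 4 n23202
theorem D33833 : act 4 n23202 = n33833 := rfl
theorem F142635 : act 0 n33833 = n23244 := d3_1 D33833 (iv D23244) (iv F99456)
theorem F142636 : act 3 n33833 = n23209 := d24_1 D33833 (iv D23209) (iv D15934) (iv F69523) D23202
def n33834 : Q := act 9 n23202
theorem D33834 : act 9 n23202 = n33834 := rfl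
theorem F142639 : act 3 n33834 = n23203 := d29_1 D33834 (iv D23203) D23202
def n33839 : Q := act 9 n23205
theorem D33839 : act 9 n23205 = n33839 := rfl
theorem F142659 : act 3 n33839 = n23212 := d29_1 D33839 (iv D23212) (iv F99467)
theorem F142660 : act 4 n33839 = n23206 := d34_1 D33839 (iv D23206) D23205
def n33841 : Q := act 4 n23207
theorem D33841 : act 4 n23207 = n33841 := rfl
theorem F142665 : act 0 n33841 = n23251 := d3_1 D33841 (iv D23251) (iv F99473)
def n33845 : Q := act 8 n23210
theorem D33845 : act 8 n23210 = n33845 := rfl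
def n33848 : Q := act 8 n23212
theorem D33848 : act 8 n23212 = n33848 := rfl
theorem F142693 : act 4 n33848 = n23213 := d33_1 D33848 (iv D23213) (iv F99494)
def n33852 : Q := act 3 n23216
theorem D33852 : act 3 n23216 = n33852 := rfl
def n33856 : Q := act 2 n23219
theorem D33856 : act 2 n23219 = n33856 := rfl
theorem F142724 : act 0 n33856 = n23266 := d1_1 D33856 (iv D23266) (iv F99521)
theorem F142725 : act 5 n33856 = n23223 := d19_2 (iv F99523) D33856 (iv D23223)
def n33857 : Q := act 4 n23219
theorem D33857 : act 4 n23219 = n33857 := rfl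
theorem F142728 : act 0 n33857 = n23267 := d3_1 D33857 (iv D23267) (iv F99521)
theorem F142729 : act 1 n33857 = n26088 := d11_1 D33857 (iv D26088) (iv F99522)
def n33858 : Q := act 9 n23219
theorem D33858 : act 9 n23219 = n33858 := rfl
theorem F142733 : act 0 n33858 = n23268 := d8_1 D33858 (iv D23268) (iv F99521)
theorem F142736 : act 5 n33858 = n23224 := d38_1 D33858 (iv D23224) (iv F99523)
def n33861 : Q := act 1 n23223
theorem D33861 : act 1 n23223 = n33861 := rfl
theorem F142752 : act 6 n33861 = n23225 := d13_2 (iv F99543) D33861 (iv D23225)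
def n33862 : Q := act 9 n23223
theorem D33862 : act 9 n23223 = n33862 := rfl
theorem F142755 : act 2 n33862 = n23224 := d23_1 D33862 (iv D23224) D23223
theorem F142757 : act 6 n33862 = n23226 := d41_1 D33862 (iv D23226) (iv F99543)
def n33863 : Q := act 8 n23224
theorem D33863 : act 8 n23224 = n33863 := rfl
theorem F142761 : act 6 n33863 = n23227 := d40_1 D33863 (iv D23227) (iv F99549)
def n33864 : Q := act 9 n23225
theorem D33864 : act 9 n23225 = n33864 := rfl
theorem F142764 : act 1 n33864 = n23226 := d16_1 D33864 (iv D23226) D23225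
theorem F142765 : act 2 n33864 = n26095 := d23_1 D33864 (iv D26095) (iv F99551)
def n33865 : Q := act 8 n23226
theorem D33865 : act 8 n23226 = n33865 := rfl
theorem F142770 : act 2 n33865 = n23227 := d22_1 D33865 (iv D23227) (iv F99557)
def n33866 : Q := act 7 n23228
theorem D33866 : act 7 n23228 = n33866 := rfl
def n33867 : Q := act 8 n23228
theorem D33867 : act 8 n23228 = n33867 := rfl
theorem F142778 : act 1 n33867 = n23796 := d15_1 D33867 (iv D23796) (iv F99567)
theorem F142779 : act 2 n33867 = n33867 := d22_1 D33867 (iv D33867) F99568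
theorem F142780 : act 4 n33867 = n23230 := d33_1 D33867 (iv D23230) D23228
theorem F142781 : act 6 n33867 = n33867 := d40_1 D33867 (iv D33867) F99569
def n33869 : Q := act 8 n23229
theorem D33869 : act 8 n23229 = n33869 := rfl
theorem F142789 : act 5 n33869 = n23231 := d37_1 D33869 (iv D23231) (iv F99573)
theorem F142790 : act 7 n33869 = n23230 := d42_1 D33869 (iv D23230) D23229
def n33871 : Q := act 9 n23230
theorem D33871 : act 9 n23230 = n33871 := rfl
theorem F142795 : act 1 n33871 = n23800 := d16_1 D33871 (iv D23800) (iv F99574)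
theorem F142796 : act 2 n33871 = n33871 := d23_1 D33871 (iv D33871) F99575
theorem F142797 : act 5 n33871 = n23233 := d38_1 D33871 (iv D23233) (iv F99576)
theorem F142798 : act 6 n33871 = n33871 := d41_1 D33871 (iv D33871) F99577
def n33873 : Q := act 9 n23231
theorem D33873 : act 9 n23231 = n33873 := rfl
theorem F142803 : act 1 n33873 = n23802 := d16_1 D33873 (iv D23802) (iv F99578)
theorem F142804 : act 2 n33873 = n33873 := d23_1 D33873 (iv D33873) F99579
theorem F142805 : act 6 n33873 = n33873 := d41_1 D33873 (iv D33873) F99580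
theorem F142806 : act 7 n33873 = n23233 := d43_1 D33873 (iv D23233) (iv F99581)
def n33874 : Q := act 2 n23232
theorem D33874 : act 2 n23232 = n33874 := rfl
theorem F142809 : act 6 n33874 = n23234 := d20_2 (iv F99583) D33874 (iv D23234)
def n33875 : Q := act 4 n23232
theorem D33875 : act 4 n23232 = n33875 := rfl
theorem F142811 : act 1 n33875 = n23803 := d11_1 D33875 (iv D23803) (iv F99582)
theorem F142812 : act 6 n33875 = n23235 := d31_2 (iv F99583) D33875 (iv D23235)
theorem F142813 : act 8 n33875 = n23244 := d33_2 (iv F99584) D33875 (iv D23244)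
def n33876 : Q := act 9 n23232
theorem D33876 : act 9 n23232 = n33876 := rfl
theorem F142814 : act 1 n33876 = n23804 := d16_1 D33876 (iv D23804) (iv F99582)
theorem F142815 : act 3 n33876 = n23233 := d29_1 D33876 (iv D23233) D23232
theorem F142816 : act 6 n33876 = n23236 := d41_1 D33876 (iv D23236) (iv F99583)
def n33877 : Q := act 4 n23234
theorem D33877 : act 4 n23234 = n33877 := rfl
theorem F142818 : act 2 n33877 = n23235 := d18_1 D33877 (iv D23235) D23234
theorem F142820 : act 8 n33877 = n23246 := d33_2 (iv F99592) D33877 (iv D23246)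
def n33878 : Q := act 9 n23234
theorem D33878 : act 9 n23234 = n33878 := rfl
theorem F142821 : act 1 n33878 = n33878 := d16_1 D33878 (iv D33878) F99588
theorem F142822 : act 2 n33878 = n23236 := d23_1 D33878 (iv D23236) D23234
theorem F142823 : act 3 n33878 = n33878 := d29_1 D33878 (iv D33878) F99589
theorem F142824 : act 5 n33878 = n33878 := d38_1 D33878 (iv D33878) F99590
theorem F142825 : act 7 n33878 = n33878 := d43_1 D33878 (iv D33878) F99591
def n33879 : Q := act 5 n23235
theorem D33879 : act 5 n23235 = n33879 := rfl
theorem F142829 : act 8 n33879 = n23248 := d37_2 (iv F99595) D33879 (iv D23248)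
def n33880 : Q := act 9 n23235
theorem D33880 : act 9 n23235 = n33880 := rfl
theorem F142830 : act 1 n33880 = n23806 := d16_1 D33880 (iv D23806) (iv F99593)
theorem F142831 : act 4 n33880 = n23236 := d34_1 D33880 (iv D23236) D23235
theorem F142832 : act 7 n33880 = n33880 := d43_1 D33880 (iv D33880) F99594
def n33881 : Q := act 8 n23236
theorem D33881 : act 8 n23236 = n33881 := rfl
theorem F142836 : act 9 n33881 = n23250 := d44_2 D23236 D33881 (iv D23250) (iv D15961) (iv F69615)
def n33887 : Q := act 9 n23239
theorem D33887 : act 9 n23239 = n33887 := rfl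
theorem F142856 : act 3 n33887 = n23240 := d29_1 D33887 (iv D23240) D23239
theorem F142857 : act 5 n33887 = n23245 := d38_1 D33887 (iv D23245) (iv F99609)
def n33889 : Q := act 4 n23241
theorem D33889 : act 4 n23241 = n33889 := rfl
theorem F142864 : act 3 n33889 = n23251 := d24_1 D33889 (iv D23251) (iv D15962) (iv F69629) D23241
def n33891 : Q := act 4 n23243
theorem D33891 : act 4 n23243 = n33891 := rfl
theorem F142872 : act 2 n33891 = n23244 := d18_1 D33891 (iv D23244) D23243
theorem F142874 : act 6 n33891 = n23246 := d31_2 (iv F99625) D33891 (iv D23246)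
def n33892 : Q := act 9 n23243
theorem D33892 : act 9 n23243 = n33892 := rfl
theorem F142876 : act 2 n33892 = n23245 := d23_1 D33892 (iv D23245) D23243
def n33893 : Q := act 5 n23244
theorem D33893 : act 5 n23244 = n33893 := rfl
theorem F142880 : act 3 n33893 = n23253 := d25_1 D33893 (iv D23253) (iv F99627)
def n33894 : Q := act 9 n23244
theorem D33894 : act 9 n23244 = n33894 := rfl
theorem F142882 : act 3 n33894 = n23254 := d29_1 D33894 (iv D23254) (iv F99627)
def n33895 : Q := act 8 n23245
theorem D33895 : act 8 n23245 = n33895 := rfl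
def n33897 : Q := act 9 n23246
theorem D33897 : act 9 n23246 = n33897 := rfl
theorem F142893 : act 2 n33897 = n23249 := d23_1 D33897 (iv D23249) (iv F99633)
def n33898 : Q := act 8 n23247
theorem D33898 : act 8 n23247 = n33898 := rfl
def n33899 : Q := act 6 n23248
theorem D33899 : act 6 n23248 = n33899 := rfl
theorem F142902 : act 3 n33899 = n23256 := d26_1 D33899 (iv D23256) (iv F99642)
def n33900 : Q := act 9 n23248
theorem D33900 : act 9 n23248 = n33900 := rfl
theorem F142905 : act 3 n33900 = n23257 := d29_1 D33900 (iv D23257) (iv F99642)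
def n33901 : Q := act 8 n23249
theorem D33901 : act 8 n23249 = n33901 := rfl
def n33902 : Q := act 5 n23251
theorem D33902 : act 5 n23251 = n33902 := rfl
theorem F142912 : act 1 n33902 = n23821 := d12_1 D33902 (iv D23821) (iv F99652)
def n33903 : Q := act 9 n23251
theorem D33903 : act 9 n23251 = n33903 := rfl
theorem F142917 : act 4 n33903 = n23252 := d34_1 D33903 (iv D23252) D23251
def n33904 : Q := act 8 n23252
theorem D33904 : act 8 n23252 = n33904 := rfl
def n33905 : Q := act 6 n23253
theorem D33905 : act 6 n23253 = n33905 := rfl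
theorem F142924 : act 1 n33905 = n23824 := d13_1 D33905 (iv D23824) (iv F99661)
theorem F142925 : act 2 n33905 = n33905 := d20_1 D33905 (iv D33905) F99662
theorem F142926 : act 5 n33905 = n23256 := d35_1 D33905 (iv D23256) (iv D15966) (iv F69659) D23253
def n33906 : Q := act 9 n23253
theorem D33906 : act 9 n23253 = n33906 := rfl
theorem F142929 : act 5 n33906 = n23254 := d38_1 D33906 (iv D23254) D23253
def n33907 : Q := act 8 n23254
theorem D33907 : act 8 n23254 = n33907 := rfl
theorem F142932 : act 4 n33907 = n23255 := d33_1 D33907 (iv D23255) (iv F99665)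
def n33908 : Q := act 7 n23256
theorem D33908 : act 7 n23256 = n33908 := rfl
theorem F142934 : act 1 n33908 = n23827 := d14_1 D33908 (iv D23827) (iv F99670)
theorem F142935 : act 2 n33908 = n33908 := d21_1 D33908 (iv D33908) F99671
theorem F142936 : act 4 n33908 = n23259 := d32_1 D33908 (iv D23259) (iv F99672)
theorem F142937 : act 6 n33908 = n33908 := d39_1 D33908 (iv D33908) (iv D23256) F69667 D23256
def n33910 : Q := act 8 n23257
theorem D33910 : act 8 n23257 = n33910 := rfl
theorem F142944 : act 4 n33910 = n23261 := d33_1 D33910 (iv D23261) (iv F99675)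
def n33913 : Q := act 8 n23260
theorem D33913 : act 8 n23260 = n33913 := rfl
def n33915 : Q := act 2 n23262
theorem D33915 : act 2 n23262 = n33915 := rfl
def n33920 : Q := act 9 n23264
theorem D33920 : act 9 n23264 = n33920 := rfl
theorem F142983 : act 5 n33920 = n23270 := d38_1 D33920 (iv D23270) (iv F99702)
def n33921 : Q := act 4 n23266
theorem D33921 : act 4 n23266 = n33921 := rfl
theorem F142986 : act 2 n33921 = n23267 := d18_1 D33921 (iv D23267) D23266
def n33922 : Q := act 9 n23266
theorem D33922 : act 9 n23266 = n33922 := rfl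
theorem F142991 : act 2 n33922 = n23268 := d23_1 D33922 (iv D23268) D23266
def n33923 : Q := act 9 n23267
theorem D33923 : act 9 n23267 = n33923 := rfl
theorem F142994 : act 1 n33923 = n23278 := d16_1 D33923 (iv D23278) (iv F99712)
def n33924 : Q := act 8 n23268
theorem D33924 : act 8 n23268 = n33924 := rfl
theorem F142999 : act 5 n33924 = n23272 := d37_1 D33924 (iv D23272) (iv F99718)
def n33926 : Q := act 8 n23270
theorem D33926 : act 8 n23270 = n33926 := rfl
theorem F143010 : act 7 n33926 = n23272 := d42_1 D33926 (iv D23272) (iv F99729)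
def n33927 : Q := act 8 n23271
theorem D33927 : act 8 n23271 = n33927 := rfl
theorem F143015 : act 6 n33927 = n23273 := d40_1 D33927 (iv D23273) (iv F99733)
def n33938 : Q := act 8 n23282
theorem D33938 : act 8 n23282 = n33938 := rfl
theorem F143066 : act 1 n33938 = n23290 := d15_1 D33938 (iv D23290) (iv F99786)
def n33940 : Q := act 9 n23283
theorem D33940 : act 9 n23283 = n33940 := rfl
theorem F143073 : act 1 n33940 = n23292 := d16_1 D33940 (iv D23292) (iv F99790)
theorem F143076 : act 7 n33940 = n23423 := d43_1 D33940 (iv D23423) (iv F99793)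
def n33941 : Q := act 2 n23284
theorem D33941 : act 2 n23284 = n33941 := rfl
theorem F143079 : act 3 n33941 = n26172 := d17_2 D23284 D33941 (iv D26172) (iv D17974) (iv F69769)
def n33942 : Q := act 4 n23284
theorem D33942 : act 4 n23284 = n33942 := rfl
theorem F143085 : act 7 n33942 = n23425 := d32_2 (iv F99796) D33942 (iv D23425)
def n33945 : Q := act 8 n23286
theorem D33945 : act 8 n23286 = n33945 := rfl
theorem F143094 : act 0 n33945 = n23303 := d7_1 D33945 (iv D23303) (iv F99803)
def n33949 : Q := act 3 n23288
theorem D33949 : act 3 n23288 = n33949 := rfl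
theorem F143112 : act 0 n33949 = n23307 := d2_1 D33949 (iv D23307) (iv F99812)
theorem F143114 : act 7 n33949 = n23432 := d27_2 (iv F99816) D33949 (iv D23432)
def n33950 : Q := act 9 n23288
theorem D33950 : act 9 n23288 = n33950 := rfl
theorem F143120 : act 8 n33950 = n23352 := d44_1 D33950 (iv D23352) (iv D16032) (iv F69777) D23288
def n33952 : Q := act 3 n23290
theorem D33952 : act 3 n23290 = n33952 := rfl
def n33953 : Q := act 9 n23290
theorem D33953 : act 9 n23290 = n33953 := rfl
theorem F143134 : act 8 n33953 = n23355 := d44_1 D33953 (iv D23355) (iv D16034) (iv F69781) D23290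
def n33954 : Q := act 4 n23291
theorem D33954 : act 4 n23291 = n33954 := rfl
theorem F143135 : act 0 n33954 = n23312 := d3_1 D33954 (iv D23312) (iv F99826)
theorem F143137 : act 7 n33954 = n23437 := d32_2 (iv F99829) D33954 (iv D23437)
def n33955 : Q := act 9 n23291
theorem D33955 : act 9 n23291 = n33955 := rfl
theorem F143140 : act 3 n33955 = n23292 := d29_1 D33955 (iv D23292) D23291
def n33956 : Q := act 5 n23293
theorem D33956 : act 5 n23293 = n33956 := rfl
theorem F143143 : act 0 n33956 = n23314 := d4_1 D33956 (iv D23314) (iv F99835)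
theorem F143146 : act 7 n33956 = n23439 := d36_2 (iv F99839) D33956 (iv D23439)
def n33966 : Q := act 9 n23300
theorem D33966 : act 9 n23300 = n33966 := rfl
theorem F143201 : act 8 n33966 = n23368 := d44_1 D33966 (iv D23368) (iv D16044) (iv F69811) D23300
def n33970 : Q := act 3 n23303
theorem D33970 : act 3 n23303 = n33970 := rfl
theorem F143214 : act 8 n33970 = n23307 := d28_2 D23303 D33970 (iv D23307) (iv D16003) D16001
def n33971 : Q := act 9 n23303
theorem D33971 : act 9 n23303 = n33971 := rfl
theorem F143215 : act 2 n33971 = n33971 := d23_1 D33971 (iv D33971) F99888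
theorem F143216 : act 5 n33971 = n33971 := d38_1 D33971 (iv D33971) F99889
theorem F143217 : act 7 n33971 = n23454 := d43_1 D33971 (iv D23454) (iv F99890)
theorem F143218 : act 8 n33971 = n23373 := d44_1 D33971 (iv D23373) (iv D16047) (iv F69826) D23303
def n33976 : Q := act 9 n23306
theorem D33976 : act 9 n23306 = n33976 := rfl
theorem F143235 : act 8 n33976 = n23378 := d44_1 D33976 (iv D23378) (iv D16050) (iv F69829) D23306
def n33980 : Q := act 3 n23309
theorem D33980 : act 3 n23309 = n33980 := rfl
theorem F143246 : act 6 n33980 = n23463 := d26_2 (iv F99911) D33980 (iv D23463)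
def n33981 : Q := act 9 n23309
theorem D33981 : act 9 n23309 = n33981 := rfl
theorem F143250 : act 6 n33981 = n23464 := d41_1 D33981 (iv D23464) (iv F99911)
theorem F143252 : act 8 n33981 = n23383 := d44_1 D33981 (iv D23383) (iv D16053) (iv F69837) D23309
def n33984 : Q := act 5 n23312
theorem D33984 : act 5 n23312 = n33984 := rfl
def n33985 : Q := act 9 n23312
theorem D33985 : act 9 n23312 = n33985 := rfl
theorem F143263 : act 4 n33985 = n23313 := d34_1 D33985 (iv D23313) D23312
theorem F143264 : act 7 n33985 = n23468 := d43_1 D33985 (iv D23468) (iv F99921)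
def n33986 : Q := act 8 n23313
theorem D33986 : act 8 n23313 = n33986 := rfl
theorem F143268 : act 7 n33986 = n23469 := d42_1 D33986 (iv D23469) (iv F99925)
def n33989 : Q := act 8 n23315
theorem D33989 : act 8 n23315 = n33989 := rfl
theorem F143277 : act 4 n33989 = n23316 := d33_1 D33989 (iv D23316) (iv F99931)
theorem F143279 : act 7 n33989 = n23472 := d42_1 D33989 (iv D23472) (iv F99933)
def n33995 : Q := act 9 n23319
theorem D33995 : act 9 n23319 = n33995 := rfl
theorem F143308 : act 8 n33995 = n23397 := d44_1 D33995 (iv D23397) (iv D16063) (iv F69865) D23319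
def n34000 : Q := act 8 n23323
theorem D34000 : act 8 n23323 = n34000 := rfl
theorem F143326 : act 3 n34000 = n23402 := d28_1 D34000 (iv D23402) F70090 (iv F69878) (iv F99964)
theorem F143329 : act 7 n34000 = n23483 := d42_1 D34000 (iv D23483) (iv F99967)
def n34003 : Q := act 9 n23326
theorem D34003 : act 9 n23326 = n34003 := rfl
theorem F143344 : act 8 n34003 = n23405 := d44_1 D34003 (iv D23405) (iv D16070) (iv F69893) D23326
def n34011 : Q := act 8 n23332
theorem D34011 : act 8 n23332 = n34011 := rfl
theorem F143376 : act 3 n34011 = n23413 := d28_1 D34011 (iv D23413) F70130 (iv F69909) (iv F100008)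
def n34021 : Q := act 3 n23338
theorem D34021 : act 3 n23338 = n34021 := rfl
theorem F143418 : act 7 n34021 = n23504 := d27_2 (iv F100036) D34021 (iv D23504)
def n34022 : Q := act 9 n23338
theorem D34022 : act 9 n23338 = n34022 := rfl
theorem F143419 : act 1 n34022 = n23352 := d16_1 D34022 (iv D23352) (iv F100032)
theorem F143423 : act 7 n34022 = n23505 := d43_1 D34022 (iv D23505) (iv F100036)
def n34023 : Q := act 8 n23339
theorem D34023 : act 8 n23339 = n34023 := rfl
theorem F143424 : act 1 n34023 = n23353 := d15_1 D34023 (iv D23353) (iv F100037)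
def n34024 : Q := act 3 n23340
theorem D34024 : act 3 n23340 = n34024 := rfl
theorem F143429 : act 1 n34024 = n23354 := d10_1 D34024 (iv D23354) (iv F100041)
def n34025 : Q := act 9 n23340
theorem D34025 : act 9 n23340 = n34025 := rfl
theorem F143432 : act 1 n34025 = n23355 := d16_1 D34025 (iv D23355) (iv F100041)
def n34035 : Q := act 7 n23346
theorem D34035 : act 7 n23346 = n34035 := rfl
theorem F143473 : act 6 n34035 = n23518 := d39_1 D34035 (iv D23518) (iv D16145) (iv F69948) D23346
def n34037 : Q := act 3 n23347
theorem D34037 : act 3 n23347 = n34037 := rfl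
theorem F143480 : act 8 n34037 = n23351 := d28_2 D23347 D34037 (iv D23351) (iv D16032) D16030
def n34038 : Q := act 9 n23347
theorem D34038 : act 9 n23347 = n34038 := rfl
theorem F143481 : act 0 n34038 = n23373 := d8_1 D34038 (iv D23373) (iv F100067)
theorem F143482 : act 2 n34038 = n34038 := d23_1 D34038 (iv D34038) F100068
theorem F143483 : act 5 n34038 = n34038 := d38_1 D34038 (iv D34038) F100069
theorem F143484 : act 7 n34038 = n23521 := d43_1 D34038 (iv D23521) (iv F100070)
def n34043 : Q := act 9 n23350
theorem D34043 : act 9 n23350 = n34043 := rfl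
theorem F143502 : act 2 n34043 = n23365 := d23_1 D34043 (iv D23365) (iv F100080)
def n34044 : Q := act 2 n23351
theorem D34044 : act 2 n23351 = n34044 := rfl
theorem F143505 : act 0 n34044 = n23379 := d1_1 D34044 (iv D23379) (iv F100083)
theorem F143506 : act 3 n34044 = n23366 := d17_2 D23351 D34044 (iv D23366) (iv D16042) (iv F69953)
def n34045 : Q := act 4 n23351
theorem D34045 : act 4 n23351 = n34045 := rfl
def n34047 : Q := act 3 n23353
theorem D34047 : act 3 n23353 = n34047 := rfl
theorem F143517 : act 2 n34047 = n23988 := d17_1 D34047 (iv D23988) F71698 (iv F70010) (iv F100092)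
def n34051 : Q := act 5 n23356
theorem D34051 : act 5 n23356 = n34051 := rfl
def n34052 : Q := act 9 n23356
theorem D34052 : act 9 n23356 = n34052 := rfl
theorem F143540 : act 4 n34052 = n23357 := d34_1 D34052 (iv D23357) D23356
theorem F143541 : act 7 n34052 = n23535 := d43_1 D34052 (iv D23535) (iv F100106)
def n34054 : Q := act 6 n23358
theorem D34054 : act 6 n23358 = n34054 := rfl
def n34055 : Q := act 9 n23358
theorem D34055 : act 9 n23358 = n34055 := rfl
theorem F143553 : act 5 n34055 = n23359 := d38_1 D34055 (iv D23359) D23358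
def n34056 : Q := act 8 n23359
theorem D34056 : act 8 n23359 = n34056 := rfl
def n34062 : Q := act 9 n23363
theorem D34062 : act 9 n23363 = n34062 := rfl
theorem F143589 : act 4 n34062 = n23368 := d34_1 D34062 (iv D23368) (iv F100138)
theorem F143591 : act 7 n34062 = n23365 := d43_1 D34062 (iv D23365) (iv F100140)
def n34063 : Q := act 2 n23364
theorem D34063 : act 2 n23364 = n34063 := rfl
theorem F143593 : act 4 n34063 = n24003 := d18_2 (iv F100143) D34063 (iv D24003)
def n34064 : Q := act 9 n23364
theorem D34064 : act 9 n23364 = n34064 := rfl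
theorem F143598 : act 3 n34064 = n23365 := d29_1 D34064 (iv D23365) D23364
theorem F143599 : act 4 n34064 = n24004 := d34_1 D34064 (iv D24004) (iv F100143)
def n34067 : Q := act 8 n23367
theorem D34067 : act 8 n23367 = n34067 := rfl
theorem F143613 : act 4 n34067 = n24007 := d33_1 D34067 (iv D24007) (iv F100158)
theorem F143615 : act 7 n34067 = n23550 := d42_1 D34067 (iv D23550) (iv F100160)
def n34072 : Q := act 3 n23371
theorem D34072 : act 3 n23371 = n34072 := rfl
theorem F143630 : act 8 n34072 = n23377 := d28_2 D23371 D34072 (iv D23377) (iv D16050) (iv F70020)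
def n34073 : Q := act 9 n23371
theorem D34073 : act 9 n23371 = n34073 := rfl
theorem F143632 : act 6 n34073 = n23373 := d41_1 D34073 (iv D23373) (iv F100174)
def n34075 : Q := act 4 n23372
theorem D34075 : act 4 n23372 = n34075 := rfl
theorem F143638 : act 8 n34075 = n23380 := d33_2 (iv F100177) D34075 (iv D23380)
def n34076 : Q := act 9 n23372
theorem D34076 : act 9 n23372 = n34076 := rfl
theorem F143639 : act 3 n34076 = n23373 := d29_1 D34076 (iv D23373) D23372
def n34077 : Q := act 6 n23374
theorem D34077 : act 6 n23374 = n34077 := rfl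
theorem F143644 : act 5 n34077 = n23560 := d35_1 D34077 (iv D23560) F70489 (iv F70029) (iv F100183)
def n34080 : Q := act 9 n23375
theorem D34080 : act 9 n23375 = n34080 := rfl
theorem F143652 : act 2 n34080 = n23395 := d23_1 D34080 (iv D23395) (iv F100184)
def n34081 : Q := act 3 n23376
theorem D34081 : act 3 n23376 = n34081 := rfl
theorem F143656 : act 6 n34081 = n23564 := d26_2 (iv F100190) D34081 (iv D23564)
theorem F143657 : act 7 n34081 = n23377 := d27_2 (iv F100191) D34081 (iv D23377)
def n34082 : Q := act 9 n23376
theorem D34082 : act 9 n23376 = n34082 := rfl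
theorem F143660 : act 6 n34082 = n23565 := d41_1 D34082 (iv D23565) (iv F100190)
theorem F143661 : act 7 n34082 = n23378 := d43_1 D34082 (iv D23378) (iv F100191)
def n34083 : Q := act 2 n23377
theorem D34083 : act 2 n23377 = n34083 := rfl
theorem F143662 : act 3 n34083 = n23398 := d17_2 D23377 D34083 (iv D23398) (iv D16064) (iv F70030)
def n34084 : Q := act 4 n23377
theorem D34084 : act 4 n23377 = n34084 := rfl
theorem F143664 : act 3 n34084 = n23384 := d24_1 D34084 (iv D23384) (iv D16054) (iv F70031) D23377
theorem F143665 : act 6 n34084 = n23380 := d31_2 (iv F100192) D34084 (iv D23380)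
def n34086 : Q := act 1 n23379
theorem D34086 : act 1 n23379 = n34086 := rfl
theorem F143668 : act 3 n34086 = n23400 := d10_2 (iv F100196) D34086 (iv D23400)
def n34087 : Q := act 4 n23379
theorem D34087 : act 4 n23379 = n34087 := rfl
theorem F143672 : act 3 n34087 = n24026 := d24_1 D34087 (iv D24026) F71814 (iv F70085) (iv F100196)
theorem F143673 : act 7 n34087 = n23570 := d32_2 (iv F100198) D34087 (iv D23570)
def n34088 : Q := act 9 n23379
theorem D34088 : act 9 n23379 = n34088 := rfl
theorem F143674 : act 2 n34088 = n23381 := d23_1 D34088 (iv D23381) D23379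
theorem F143675 : act 3 n34088 = n23401 := d29_1 D34088 (iv D23401) (iv F100196)
def n34089 : Q := act 5 n23380
theorem D34089 : act 5 n23380 = n34089 := rfl
theorem F143680 : act 7 n34089 = n23572 := d36_2 (iv F100200) D34089 (iv D23572)
def n34092 : Q := act 4 n23382
theorem D34092 : act 4 n23382 = n34092 := rfl
theorem F143686 : act 2 n34092 = n24031 := d18_1 D34092 (iv D24031) (iv F100204)
theorem F143687 : act 6 n34092 = n23575 := d31_2 (iv F100206) D34092 (iv D23575)
def n34093 : Q := act 9 n23382
theorem D34093 : act 9 n23382 = n34093 := rfl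
theorem F143692 : act 6 n34093 = n23576 := d41_1 D34093 (iv D23576) (iv F100206)
theorem F143693 : act 7 n34093 = n23385 := d43_1 D34093 (iv D23385) (iv F100207)
def n34095 : Q := act 9 n23384
theorem D34095 : act 9 n23384 = n34095 := rfl
theorem F143696 : act 2 n34095 = n24034 := d23_1 D34095 (iv D24034) (iv F100212)
theorem F143697 : act 4 n34095 = n23385 := d34_1 D34095 (iv D23385) D23384
def n34096 : Q := act 8 n23385
theorem D34096 : act 8 n23385 = n34096 := rfl
def n34097 : Q := act 6 n23386
theorem D34097 : act 6 n23386 = n34097 := rfl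
theorem F143702 : act 2 n34097 = n24036 := d20_1 D34097 (iv D24036) (iv F100218)
theorem F143703 : act 4 n34097 = n23389 := d31_1 D34097 (iv D23389) (iv F100219)
def n34098 : Q := act 9 n23386
theorem D34098 : act 9 n23386 = n34098 := rfl
theorem F143706 : act 5 n34098 = n23387 := d38_1 D34098 (iv D23387) D23386
theorem F143707 : act 7 n34098 = n23581 := d43_1 D34098 (iv D23581) (iv F100220)
def n34099 : Q := act 8 n23387
theorem D34099 : act 8 n23387 = n34099 := rfl
def n34100 : Q := act 7 n23389
theorem D34100 : act 7 n23389 = n34100 := rfl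
theorem F143711 : act 2 n34100 = n24039 := d21_1 D34100 (iv D24039) (iv F100227)
theorem F143714 : act 6 n34100 = n23583 := d39_1 D34100 (iv D23583) (iv D16188) (iv F70057) D23389
def n34102 : Q := act 8 n23390
theorem D34102 : act 8 n23390 = n34102 := rfl
def n34105 : Q := act 3 n23393
theorem D34105 : act 3 n23393 = n34105 := rfl
theorem F143732 : act 7 n34105 = n23394 := d27_2 (iv F100246) D34105 (iv D23394)
def n34107 : Q := act 2 n23394
theorem D34107 : act 2 n23394 = n34107 := rfl
def n34108 : Q := act 4 n23394
theorem D34108 : act 4 n23394 = n34108 := rfl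
theorem F143743 : act 5 n34108 = n24046 := d30_2 (iv F100248) D34108 (iv D24046) F71867 (iv F70079)
def n34109 : Q := act 9 n23394
theorem D34109 : act 9 n23394 = n34109 := rfl
theorem F143746 : act 1 n34109 = n23408 := d16_1 D34109 (iv D23408) (iv F100247)
theorem F143747 : act 3 n34109 = n23395 := d29_1 D34109 (iv D23395) D23394
def n34110 : Q := act 2 n23396
theorem D34110 : act 2 n23396 = n34110 := rfl
theorem F143751 : act 6 n34110 = n23592 := d20_2 (iv F100257) D34110 (iv D23592)
theorem F143752 : act 7 n34110 = n23398 := d21_2 (iv F100258) D34110 (iv D23398)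
def n34112 : Q := act 1 n23398
theorem D34112 : act 1 n23398 = n34112 := rfl
theorem F143759 : act 2 n34112 = n23411 := d9_2 D23398 D34112 (iv D23411) (iv D16075) (iv F70078)
theorem F143760 : act 4 n34112 = n24050 := d11_2 (iv F100264) D34112 (iv D24050)
theorem F143761 : act 6 n34112 = n23400 := d13_2 (iv F100265) D34112 (iv D23400)
def n34113 : Q := act 9 n23398
theorem D34113 : act 9 n23398 = n34113 := rfl
theorem F143764 : act 4 n34113 = n24051 := d34_1 D34113 (iv D24051) (iv F100264)
def n34114 : Q := act 8 n23399
theorem D34114 : act 8 n23399 = n34114 := rfl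
theorem F143767 : act 4 n34114 = n24052 := d33_1 D34114 (iv D24052) (iv F100269)
def n34117 : Q := act 8 n23401
theorem D34117 : act 8 n23401 = n34117 := rfl
theorem F143781 : act 4 n34117 = n24055 := d33_1 D34117 (iv D24055) (iv F100277)
theorem F143783 : act 7 n34117 = n23599 := d42_1 D34117 (iv D23599) (iv F100279)
def n34120 : Q := act 2 n23404
theorem D34120 : act 2 n23404 = n34120 := rfl
theorem F143797 : act 7 n34120 = n23406 := d21_2 (iv F100292) D34120 (iv D23406)
def n34123 : Q := act 1 n23406
theorem D34123 : act 1 n23406 = n34123 := rfl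
def n34124 : Q := act 4 n23406
theorem D34124 : act 4 n23406 = n34124 := rfl
theorem F143813 : act 5 n34124 = n24060 := d30_2 (iv F100299) D34124 (iv D24060) F71915 (iv F70126)
def n34125 : Q := act 9 n23406
theorem D34125 : act 9 n23406 = n34125 := rfl
theorem F143817 : act 2 n34125 = n23408 := d23_1 D34125 (iv D23408) D23406
def n34126 : Q := act 9 n23407
theorem D34126 : act 9 n23407 = n34126 := rfl
theorem F143822 : act 4 n34126 = n23408 := d34_1 D34126 (iv D23408) D23407
theorem F143823 : act 5 n34126 = n24062 := d38_1 D34126 (iv D24062) (iv F100304)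
def n34129 : Q := act 9 n23409
theorem D34129 : act 9 n23409 = n34129 := rfl
theorem F143837 : act 7 n34129 = n23412 := d43_1 D34129 (iv D23412) (iv F100314)
def n34130 : Q := act 8 n23410
theorem D34130 : act 8 n23410 = n34130 := rfl
theorem F143840 : act 6 n34130 = n23609 := d40_1 D34130 (iv D23609) (iv F100319)
theorem F143841 : act 7 n34130 = n23413 := d42_1 D34130 (iv D23413) (iv F100320)
def n34132 : Q := act 9 n23411
theorem D34132 : act 9 n23411 = n34132 := rfl
theorem F143848 : act 4 n34132 = n24068 := d34_1 D34132 (iv D24068) (iv F100321)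
def n34133 : Q := act 8 n23412
theorem D34133 : act 8 n23412 = n34133 := rfl
theorem F143852 : act 4 n34133 = n24069 := d33_1 D34133 (iv D24069) (iv F100326)
def n34135 : Q := act 8 n23415
theorem D34135 : act 8 n23415 = n34135 := rfl
theorem F143861 : act 4 n34135 = n24071 := d33_1 D34135 (iv D24071) (iv F100338)
def n34143 : Q := act 3 n23419
theorem D34143 : act 3 n23419 = n34143 := rfl
theorem F143891 : act 1 n34143 = n23432 := d10_1 D34143 (iv D23432) (iv F100354)
def n34146 : Q := act 3 n23421
theorem D34146 : act 3 n23421 = n34146 := rfl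
theorem F143903 : act 5 n34146 = n23625 := d25_2 (iv F100364) D34146 (iv D23625)
theorem F143904 : act 6 n34146 = n23422 := d26_2 (iv F100365) D34146 (iv D23422)
def n34147 : Q := act 9 n23421
theorem D34147 : act 9 n23421 = n34147 := rfl
theorem F143907 : act 5 n34147 = n23626 := d38_1 D34147 (iv D23626) (iv F100364)
theorem F143908 : act 6 n34147 = n23423 := d41_1 D34147 (iv D23423) (iv F100365)
def n34148 : Q := act 2 n23422
theorem D34148 : act 2 n23422 = n34148 := rfl
theorem F143911 : act 3 n34148 = n26379 := d17_2 D23422 D34148 (iv D26379) (iv D18112) (iv F70156)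
def n34152 : Q := act 9 n23424
theorem D34152 : act 9 n23424 = n34152 := rfl
theorem F143921 : act 2 n34152 = n23426 := d23_1 D34152 (iv D23426) D23424
theorem F143922 : act 3 n34152 = n26383 := d29_1 D34152 (iv D26383) (iv F100373)
def n34158 : Q := act 8 n23427
theorem D34158 : act 8 n23427 = n34158 := rfl
theorem F143942 : act 0 n34158 = n23452 := d7_1 D34158 (iv D23452) (iv F100381)
theorem F143944 : act 6 n34158 = n23428 := d40_1 D34158 (iv D23428) D23427
def n34159 : Q := act 3 n23428
theorem D34159 : act 3 n23428 = n34159 := rfl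
theorem F143947 : act 8 n34159 = n23432 := d28_2 D23428 D34159 (iv D23432) (iv D16087) D16085
def n34160 : Q := act 9 n23428
theorem D34160 : act 9 n23428 = n34160 := rfl
theorem F143948 : act 0 n34160 = n23454 := d8_1 D34160 (iv D23454) (iv F100385)
theorem F143949 : act 2 n34160 = n34160 := d23_1 D34160 (iv D34160) F100386
theorem F143950 : act 5 n34160 = n34160 := d38_1 D34160 (iv D34160) F100387
theorem F143951 : act 8 n34160 = n23521 := d44_1 D34160 (iv D23521) (iv D16146) (iv F70168) D23428
def n34164 : Q := act 3 n23431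
theorem D34164 : act 3 n23431 = n34164 := rfl
theorem F143967 : act 6 n34164 = n23432 := d26_2 (iv F100400) D34164 (iv D23432)
def n34165 : Q := act 9 n23431
theorem D34165 : act 9 n23431 = n34165 := rfl
theorem F143969 : act 2 n34165 = n23446 := d23_1 D34165 (iv D23446) (iv F100398)
theorem F143971 : act 6 n34165 = n23433 := d41_1 D34165 (iv D23433) (iv F100400)
def n34169 : Q := act 3 n23434
theorem D34169 : act 3 n23434 = n34169 := rfl
theorem F143983 : act 5 n34169 = n23648 := d25_2 (iv F100410) D34169 (iv D23648)
def n34170 : Q := act 9 n23434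
theorem D34170 : act 9 n23434 = n34170 := rfl
theorem F143987 : act 5 n34170 = n23649 := d38_1 D34170 (iv D23649) (iv F100410)
def n34184 : Q := act 9 n23444
theorem D34184 : act 9 n23444 = n34184 := rfl
theorem F144051 : act 8 n34184 = n23545 := d44_1 D34184 (iv D23545) (iv D16162) (iv F70210) D23444
def n34186 : Q := act 9 n23445
theorem D34186 : act 9 n23445 = n34186 := rfl
theorem F144058 : act 3 n34186 = n23446 := d29_1 D34186 (iv D23446) D23445
theorem F144060 : act 6 n34186 = n23448 := d41_1 D34186 (iv D23448) (iv F100457)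
def n34189 : Q := act 8 n23448
theorem D34189 : act 8 n23448 = n34189 := rfl
theorem F144071 : act 3 n34189 = n23550 := d28_1 D34189 (iv D23550) F70468 (iv F70224) (iv F100470)
def n34190 : Q := act 4 n23450
theorem D34190 : act 4 n23450 = n34190 := rfl
theorem F144076 : act 3 n34190 = n23668 := d24_1 D34190 (iv D23668) F70771 (iv F70242) (iv F100480)
theorem F144078 : act 9 n34190 = n23551 := d34_2 (iv F100482) D34190 (iv D23551)
def n34192 : Q := act 8 n23450
theorem D34192 : act 8 n23450 = n34192 := rfl
theorem F144084 : act 5 n34192 = n23452 := d37_1 D34192 (iv D23452) D23450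
def n34194 : Q := act 3 n23452
theorem D34194 : act 3 n23452 = n34194 := rfl
theorem F144088 : act 6 n34194 = n23453 := d26_2 (iv F100487) D34194 (iv D23453)
theorem F144089 : act 8 n34194 = n23458 := d28_2 D23452 D34194 (iv D23458) (iv D16105) (iv F70237)
def n34195 : Q := act 9 n23452
theorem D34195 : act 9 n23452 = n34195 := rfl
theorem F144090 : act 2 n34195 = n34195 := d23_1 D34195 (iv D34195) F100486
theorem F144091 : act 6 n34195 = n23454 := d41_1 D34195 (iv D23454) (iv F100487)
theorem F144092 : act 8 n34195 = n23556 := d44_1 D34195 (iv D23556) (iv D16170) (iv F70238) D23452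
def n34197 : Q := act 4 n23453
theorem D34197 : act 4 n23453 = n34197 := rfl
theorem F144096 : act 8 n34197 = n23461 := d33_2 (iv F100489) D34197 (iv D23461)
def n34198 : Q := act 9 n23453
theorem D34198 : act 9 n23453 = n34198 := rfl
theorem F144097 : act 3 n34198 = n23454 := d29_1 D34198 (iv D23454) D23453
theorem F144098 : act 5 n34198 = n34198 := d38_1 D34198 (iv D34198) F100488
def n34201 : Q := act 3 n23456
theorem D34201 : act 3 n23456 = n34201 := rfl
theorem F144107 : act 5 n34201 = n23458 := d25_2 (iv F100499) D34201 (iv D23458)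
def n34202 : Q := act 9 n23456
theorem D34202 : act 9 n23456 = n34202 := rfl
theorem F144110 : act 4 n34202 = n23680 := d34_1 D34202 (iv D23680) (iv F100498)
theorem F144111 : act 5 n34202 = n23459 := d38_1 D34202 (iv D23459) (iv F100499)
def n34210 : Q := act 9 n23460
theorem D34210 : act 9 n23460 = n34210 := rfl
theorem F144129 : act 2 n34210 = n23462 := d23_1 D34210 (iv D23462) D23460
theorem F144130 : act 3 n34210 = n23482 := d29_1 D34210 (iv D23482) (iv F100509)
def n34215 : Q := act 9 n23463
theorem D34215 : act 9 n23463 = n34215 := rfl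
theorem F144141 : act 3 n34215 = n23464 := d29_1 D34215 (iv D23464) D23463
theorem F144142 : act 5 n34215 = n23693 := d38_1 D34215 (iv D23693) (iv F100515)
def n34216 : Q := act 5 n23465
theorem D34216 : act 5 n23465 = n34216 := rfl
def n34218 : Q := act 8 n23466
theorem D34218 : act 8 n23466 = n34218 := rfl
theorem F144150 : act 3 n34218 = n23579 := d28_1 D34218 (iv D23579) F70515 (iv F70265) (iv F100524)
theorem F144151 : act 5 n34218 = n23696 := d37_1 D34218 (iv D23696) (iv F100525)
theorem F144152 : act 6 n34218 = n23469 := d40_1 D34218 (iv D23469) (iv F100526)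
def n34221 : Q := act 8 n23468
theorem D34221 : act 8 n23468 = n34221 := rfl
theorem F144159 : act 4 n34221 = n23469 := d33_1 D34221 (iv D23469) (iv F100530)
def n34225 : Q := act 3 n23472
theorem D34225 : act 3 n23472 = n34225 := rfl
theorem F144169 : act 4 n34225 = n23586 := d24_2 (iv F100541) D34225 (iv D23586) F70531 (iv F70277)
theorem F144170 : act 6 n34225 = n23703 := d26_2 (iv F100542) D34225 (iv D23703)
def n34228 : Q := act 9 n23474
theorem D34228 : act 9 n23474 = n34228 := rfl
theorem F144184 : act 8 n34228 = n23589 := d44_1 D34228 (iv D23589) (iv D16192) (iv F70283) D23474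
def n34236 : Q := act 8 n23480
theorem D34236 : act 8 n23480 = n34236 := rfl
theorem F144214 : act 6 n34236 = n23483 := d40_1 D34236 (iv D23483) (iv F100575)
def n34239 : Q := act 8 n23482
theorem D34239 : act 8 n23482 = n34239 := rfl
theorem F144224 : act 2 n34239 = n23483 := d22_1 D34239 (iv D23483) (iv F100580)
def n34249 : Q := act 8 n23489
theorem D34249 : act 8 n23489 = n34249 := rfl
theorem F144269 : act 5 n34249 = n23494 := d37_1 D34249 (iv D23494) (iv F100612)
def n34252 : Q := act 8 n23491
theorem D34252 : act 8 n23491 = n34252 := rfl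
def n34265 : Q := act 9 n23500
theorem D34265 : act 9 n23500 = n34265 := rfl
theorem F144324 : act 1 n34265 = n23521 := d16_1 D34265 (iv D23521) (iv F100651)
def n34269 : Q := act 3 n23503
theorem D34269 : act 3 n23503 = n34269 := rfl
theorem F144340 : act 6 n34269 = n23504 := d26_2 (iv F100663) D34269 (iv D23504)
def n34270 : Q := act 9 n23503
theorem D34270 : act 9 n23503 = n34270 := rfl
theorem F144341 : act 1 n34270 = n23526 := d16_1 D34270 (iv D23526) (iv F100660)
theorem F144344 : act 6 n34270 = n23505 := d41_1 D34270 (iv D23505) (iv F100663)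
def n34274 : Q := act 3 n23506
theorem D34274 : act 3 n23506 = n34274 := rfl
theorem F144353 : act 5 n34274 = n23745 := d25_2 (iv F100672) D34274 (iv D23745)
def n34291 : Q := act 4 n23517
theorem D34291 : act 4 n23517 = n34291 := rfl
theorem F144405 : act 3 n34291 = n23762 := d24_1 D34291 (iv D23762) F71004 (iv F70395) (iv F100705)
def n34293 : Q := act 8 n23517
theorem D34293 : act 8 n23517 = n34293 := rfl
theorem F144413 : act 5 n34293 = n23519 := d37_1 D34293 (iv D23519) D23517
def n34295 : Q := act 3 n23519
theorem D34295 : act 3 n23519 = n34295 := rfl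
theorem F144420 : act 8 n34295 = n23525 := d28_2 D23519 D34295 (iv D23525) (iv D16149) (iv F70389)
def n34296 : Q := act 9 n23519
theorem D34296 : act 9 n23519 = n34296 := rfl
theorem F144421 : act 0 n34296 = n23556 := d8_1 D34296 (iv D23556) (iv F100710)
theorem F144422 : act 2 n34296 = n34296 := d23_1 D34296 (iv D34296) F100711
theorem F144423 : act 6 n34296 = n23521 := d41_1 D34296 (iv D23521) (iv F100712)
def n34298 : Q := act 4 n23520
theorem D34298 : act 4 n23520 = n34298 := rfl
theorem F144429 : act 8 n34298 = n23528 := d33_2 (iv F100715) D34298 (iv D23528)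
def n34299 : Q := act 9 n23520
theorem D34299 : act 9 n23520 = n34299 := rfl
theorem F144430 : act 0 n34299 = n23559 := d8_1 D34299 (iv D23559) (iv F100713)
theorem F144431 : act 3 n34299 = n23521 := d29_1 D34299 (iv D23521) D23520
def n34302 : Q := act 3 n23523
theorem D34302 : act 3 n23523 = n34302 := rfl
theorem F144443 : act 5 n34302 = n23525 := d25_2 (iv F100726) D34302 (iv D23525)
def n34303 : Q := act 9 n23523
theorem D34303 : act 9 n23523 = n34303 := rfl
theorem F144448 : act 5 n34303 = n23526 := d38_1 D34303 (iv D23526) (iv F100726)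
def n34311 : Q := act 9 n23527
theorem D34311 : act 9 n23527 = n34311 := rfl
theorem F144471 : act 2 n34311 = n23529 := d23_1 D34311 (iv D23529) D23527
theorem F144472 : act 3 n34311 = n23549 := d29_1 D34311 (iv D23549) (iv F100739)
def n34313 : Q := act 9 n23528
theorem D34313 : act 9 n23528 = n34313 := rfl
theorem F144477 : act 0 n34313 = n23573 := d8_1 D34313 (iv D23573) (iv F100741)
theorem F144478 : act 3 n34313 = n23535 := d29_1 D34313 (iv D23535) (iv F100742)
theorem F144479 : act 4 n34313 = n23529 := d34_1 D34313 (iv D23529) D23528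
def n34320 : Q := act 6 n23534
theorem D34320 : act 6 n23534 = n34320 := rfl
def n34323 : Q := act 7 n23537
theorem D34323 : act 7 n23537 = n34323 := rfl
def n34324 : Q := act 9 n23537
theorem D34324 : act 9 n23537 = n34324 := rfl
theorem F144519 : act 6 n34324 = n23538 := d41_1 D34324 (iv D23538) D23537
def n34325 : Q := act 8 n23538
theorem D34325 : act 8 n23538 = n34325 := rfl
theorem F144522 : act 5 n34325 = n23539 := d37_1 D34325 (iv D23539) (iv F100778)
def n34329 : Q := act 9 n23541
theorem D34329 : act 9 n23541 = n34329 := rfl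
theorem F144540 : act 5 n34329 = n23545 := d38_1 D34329 (iv D23545) (iv F100791)
def n34336 : Q := act 8 n23547
theorem D34336 : act 8 n23547 = n34336 := rfl
theorem F144573 : act 6 n34336 = n23550 := d40_1 D34336 (iv D23550) (iv F100821)
def n34339 : Q := act 8 n23549
theorem D34339 : act 8 n23549 = n34339 := rfl
theorem F144586 : act 4 n34339 = n24138 := d33_1 D34339 (iv D24138) (iv F100828)
def n34340 : Q := act 7 n23551
theorem D34340 : act 7 n23551 = n34340 := rfl
theorem F144590 : act 3 n34340 = n23795 := d27_1 D34340 (iv D23795) (iv F100836)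
theorem F144591 : act 4 n34340 = n23552 := d32_1 D34340 (iv D23552) D23551
def n34345 : Q := act 9 n23553
theorem D34345 : act 9 n23553 = n34345 := rfl
theorem F144605 : act 5 n34345 = n23556 := d38_1 D34345 (iv D23556) (iv F100842)
def n34346 : Q := act 3 n23554
theorem D34346 : act 3 n23554 = n34346 := rfl
theorem F144608 : act 8 n34346 = n23564 := d28_2 D23554 D34346 (iv D23564) (iv D16175) (iv F70480)
def n34347 : Q := act 9 n23554
theorem D34347 : act 9 n23554 = n34347 := rfl
theorem F144610 : act 7 n34347 = n23556 := d43_1 D34347 (iv D23556) (iv F100845)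
def n34349 : Q := act 4 n23555
theorem D34349 : act 4 n23555 = n34349 := rfl
theorem F144614 : act 6 n34349 = n23558 := d31_2 (iv F100846) D34349 (iv D23558)
theorem F144615 : act 8 n34349 = n23567 := d33_2 (iv F100847) D34349 (iv D23567)
def n34350 : Q := act 9 n23555
theorem D34350 : act 9 n23555 = n34350 := rfl
theorem F144616 : act 3 n34350 = n23556 := d29_1 D34350 (iv D23556) D23555
theorem F144617 : act 6 n34350 = n23559 := d41_1 D34350 (iv D23559) (iv F100846)
def n34352 : Q := act 4 n23557
theorem D34352 : act 4 n23557 = n34352 := rfl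
theorem F144621 : act 2 n34352 = n23558 := d18_1 D34352 (iv D23558) D23557
theorem F144622 : act 8 n34352 = n23570 := d33_2 (iv F100852) D34352 (iv D23570)
def n34353 : Q := act 9 n23557
theorem D34353 : act 9 n23557 = n34353 := rfl
theorem F144623 : act 2 n34353 = n23559 := d23_1 D34353 (iv D23559) D23557
def n34354 : Q := act 5 n23558
theorem D34354 : act 5 n23558 = n34354 := rfl
theorem F144626 : act 4 n34354 = n34354 := d30_1 D34354 (iv D34354) (iv D23558) F70483 D23558
theorem F144627 : act 8 n34354 = n23572 := d37_2 (iv F100853) D34354 (iv D23572)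
def n34355 : Q := act 9 n23558
theorem D34355 : act 9 n23558 = n34355 := rfl
theorem F144628 : act 4 n34355 = n23559 := d34_1 D34355 (iv D23559) D23558
def n34356 : Q := act 8 n23559
theorem D34356 : act 8 n23559 = n34356 := rfl
theorem F144630 : act 9 n34356 = n23574 := d44_2 D23559 D34356 (iv D23574) (iv D16180) (iv F70484)
def n34358 : Q := act 3 n23561
theorem D34358 : act 3 n23561 = n34358 := rfl
theorem F144635 : act 5 n34358 = n23564 := d25_2 (iv F100861) D34358 (iv D23564)
def n34359 : Q := act 9 n23561
theorem D34359 : act 9 n23561 = n34359 := rfl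
theorem F144638 : act 4 n34359 = n23810 := d34_1 D34359 (iv D23810) (iv F100860)
theorem F144639 : act 5 n34359 = n23565 := d38_1 D34359 (iv D23565) (iv F100861)
def n34363 : Q := act 2 n23564
theorem D34363 : act 2 n23564 = n34363 := rfl
theorem F144649 : act 3 n34363 = n23592 := d17_2 D23564 D34363 (iv D23592) (iv D16195) (iv F70494)
def n34368 : Q := act 9 n23566
theorem D34368 : act 9 n23566 = n34368 := rfl
theorem F144660 : act 2 n34368 = n23568 := d23_1 D34368 (iv D23568) D23566
theorem F144661 : act 3 n34368 = n23595 := d29_1 D34368 (iv D23595) (iv F100873)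
def n34370 : Q := act 9 n23567
theorem D34370 : act 9 n23567 = n34370 := rfl
theorem F144664 : act 3 n34370 = n23578 := d29_1 D34370 (iv D23578) (iv F100875)
theorem F144665 : act 4 n34370 = n23568 := d34_1 D34370 (iv D23568) D23567
def n34371 : Q := act 8 n23568
theorem D34371 : act 8 n23568 = n34371 := rfl
theorem F144667 : act 6 n34371 = n23574 := d40_1 D34371 (iv D23574) (iv F100878)
def n34374 : Q := act 9 n23569
theorem D34374 : act 9 n23569 = n34374 := rfl
theorem F144673 : act 3 n34374 = n23598 := d29_1 D34374 (iv D23598) (iv F100879)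
def n34378 : Q := act 6 n23572
theorem D34378 : act 6 n23572 = n34378 := rfl
theorem F144683 : act 3 n34378 = n23580 := d26_1 D34378 (iv D23580) (iv F100886)
theorem F144684 : act 4 n34378 = n34378 := d31_1 D34378 (iv D34378) F100887
def n34379 : Q := act 9 n23572
theorem D34379 : act 9 n23572 = n34379 := rfl
theorem F144687 : act 5 n34379 = n23573 := d38_1 D34379 (iv D23573) D23572
def n34381 : Q := act 5 n23575
theorem D34381 : act 5 n23575 = n34381 := rfl
theorem F144690 : act 4 n34381 = n23821 := d30_1 D34381 (iv D23821) (iv D16357) (iv F70507) D23575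
theorem F144691 : act 7 n34381 = n23577 := d36_2 (iv F100892) D34381 (iv D23577)
def n34383 : Q := act 8 n23576
theorem D34383 : act 8 n23576 = n34383 := rfl
def n34384 : Q := act 6 n23577
theorem D34384 : act 6 n23577 = n34384 := rfl
theorem F144698 : act 2 n34384 = n24171 := d20_1 D34384 (iv D24171) (iv F100897)
theorem F144699 : act 4 n34384 = n23824 := d31_1 D34384 (iv D23824) (iv F100898)
theorem F144700 : act 5 n34384 = n23580 := d35_1 D34384 (iv D23580) (iv D16185) (iv F70513) D23577
def n34385 : Q := act 9 n23577
theorem D34385 : act 9 n23577 = n34385 := rfl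
theorem F144702 : act 4 n34385 = n23825 := d34_1 D34385 (iv D23825) (iv F100898)
theorem F144703 : act 5 n34385 = n23578 := d38_1 D34385 (iv D23578) D23577
def n34386 : Q := act 8 n23578
theorem D34386 : act 8 n23578 = n34386 := rfl
def n34387 : Q := act 7 n23580
theorem D34387 : act 7 n23580 = n34387 := rfl
theorem F144707 : act 2 n34387 = n24174 := d21_1 D34387 (iv D24174) (iv F100905)
theorem F144708 : act 4 n34387 = n23583 := d32_1 D34387 (iv D23583) (iv F100906)
def n34389 : Q := act 8 n23581
theorem D34389 : act 8 n23581 = n34389 := rfl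
def n34392 : Q := act 8 n23584
theorem D34392 : act 8 n23584 = n34392 := rfl
theorem F144721 : act 6 n34392 = n23585 := d40_1 D34392 (iv D23585) (iv F100918)
def n34401 : Q := act 8 n23591
theorem D34401 : act 8 n23591 = n34401 := rfl
theorem F144756 : act 5 n34401 = n23596 := d37_1 D34401 (iv D23596) (iv F100943)
def n34402 : Q := act 1 n23592
theorem D34402 : act 1 n23592 = n34402 := rfl
theorem F144760 : act 4 n34402 = n24182 := d11_2 (iv F100945) D34402 (iv D24182)
def n34407 : Q := act 8 n23595
theorem D34407 : act 8 n23595 = n34407 := rfl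
theorem F144780 : act 6 n34407 = n23599 := d40_1 D34407 (iv D23599) (iv F100958)
def n34409 : Q := act 8 n23598
theorem D34409 : act 8 n23598 = n34409 := rfl
theorem F144788 : act 4 n34409 = n24189 := d33_1 D34409 (iv D24189) (iv F100969)
def n34415 : Q := act 8 n23603
theorem D34415 : act 8 n23603 = n34415 := rfl
theorem F144814 : act 5 n34415 = n23609 := d37_1 D34415 (iv D23609) (iv F100992)
def n34418 : Q := act 8 n23605
theorem D34418 : act 8 n23605 = n34418 := rfl
theorem F144829 : act 5 n34418 = n23612 := d37_1 D34418 (iv D23612) (iv F101001)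
def n34428 : Q := act 6 n23616
theorem D34428 : act 6 n23616 = n34428 := rfl
theorem F144866 : act 1 n34428 = n23836 := d13_1 D34428 (iv D23836) (iv F101042)
theorem F144867 : act 2 n34428 = n23617 := d20_1 D34428 (iv D23617) D23616
theorem F144869 : act 9 n34428 = n23730 := d41_2 (iv F101046) D34428 (iv D23730)
def n34431 : Q := act 7 n23617
theorem D34431 : act 7 n23617 = n34431 := rfl
theorem F144878 : act 1 n34431 = n23636 := d14_1 D34431 (iv D23636) (iv F101047)
theorem F144879 : act 3 n34431 = n23620 := d27_1 D34431 (iv D23620) (iv F101048)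
theorem F144881 : act 9 n34431 = n23733 := d43_2 (iv F101049) D34431 (iv D23733)
def n34432 : Q := act 8 n23617
theorem D34432 : act 8 n23617 = n34432 := rfl
theorem F144882 : act 1 n34432 = n23637 := d15_1 D34432 (iv D23637) (iv F101047)
def n34433 : Q := act 3 n23618
theorem D34433 : act 3 n23618 = n34433 := rfl
theorem F144887 : act 8 n34433 = n23622 := d28_2 D23618 D34433 (iv D23622) (iv D16217) D16215
def n34434 : Q := act 9 n23618
theorem D34434 : act 9 n23618 = n34434 := rfl
theorem F144888 : act 1 n34434 = n23639 := d16_1 D34434 (iv D23639) (iv F101050)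
def n34439 : Q := act 9 n23621
theorem D34439 : act 9 n23621 = n34439 := rfl
theorem F144909 : act 4 n34439 = n23626 := d34_1 D34439 (iv D23626) (iv F101064)
def n34443 : Q := act 3 n23624
theorem D34443 : act 3 n23624 = n34443 := rfl
def n34444 : Q := act 9 n23624
theorem D34444 : act 9 n23624 = n34444 := rfl
theorem F144925 : act 1 n34444 = n23649 := d16_1 D34444 (iv D23649) (iv F101075)
def n34460 : Q := act 4 n23635
theorem D34460 : act 4 n23635 = n34460 := rfl
theorem F144979 : act 0 n34460 = n23668 := d3_1 D34460 (iv D23668) (iv F101112)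
theorem F144980 : act 2 n34460 = n23857 := d18_1 D34460 (iv D23857) (iv F101113)
theorem F144982 : act 9 n34460 = n23762 := d34_2 (iv F101116) D34460 (iv D23762)
def n34462 : Q := act 8 n23635
theorem D34462 : act 8 n23635 = n34462 := rfl
theorem F144988 : act 0 n34462 = n23670 := d7_1 D34462 (iv D23670) (iv F101112)
theorem F144989 : act 2 n34462 = n23859 := d22_1 D34462 (iv D23859) (iv F101113)
theorem F144990 : act 5 n34462 = n23637 := d37_1 D34462 (iv D23637) D23635
theorem F144991 : act 6 n34462 = n34462 := d40_1 D34462 (iv D34462) F101115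
def n34463 : Q := act 8 n23636
theorem D34463 : act 8 n23636 = n34463 := rfl
theorem F144992 : act 0 n34463 = n23671 := d7_1 D34463 (iv D23671) (iv F101117)
theorem F144993 : act 2 n34463 = n23860 := d22_1 D34463 (iv D23860) (iv F101118)
theorem F144994 : act 6 n34463 = n34463 := d40_1 D34463 (iv D34463) F101120
theorem F144995 : act 7 n34463 = n23637 := d42_1 D34463 (iv D23637) D23636
def n34464 : Q := act 3 n23637
theorem D34464 : act 3 n23637 = n34464 := rfl
theorem F144996 : act 0 n34464 = n23672 := d2_1 D34464 (iv D23672) (iv F101122)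
theorem F144998 : act 8 n34464 = n23643 := d28_2 D23637 D34464 (iv D23643) (iv D16229) (iv F70668)
def n34465 : Q := act 9 n23637
theorem D34465 : act 9 n23637 = n34465 := rfl
theorem F144999 : act 0 n34465 = n23673 := d8_1 D34465 (iv D23673) (iv F101122)
theorem F145000 : act 2 n34465 = n23862 := d23_1 D34465 (iv D23862) (iv F101123)
theorem F145001 : act 6 n34465 = n23639 := d41_1 D34465 (iv D23639) (iv F101124)
theorem F145002 : act 8 n34465 = n23767 := d44_1 D34465 (iv D23767) (iv D16314) (iv F70669) D23637
def n34466 : Q := act 2 n23638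
theorem D34466 : act 2 n23638 = n34466 := rfl
theorem F145003 : act 0 n34466 = n23674 := d1_1 D34466 (iv D23674) (iv F101125)
theorem F145007 : act 8 n34466 = n23645 := d22_2 (iv F101128) D34466 (iv D23645)
def n34467 : Q := act 4 n23638
theorem D34467 : act 4 n23638 = n34467 := rfl
theorem F145008 : act 0 n34467 = n23675 := d3_1 D34467 (iv D23675) (iv F101125)
theorem F145010 : act 8 n34467 = n23646 := d33_2 (iv F101128) D34467 (iv D23646)
def n34468 : Q := act 9 n23638
theorem D34468 : act 9 n23638 = n34468 := rfl
theorem F145011 : act 0 n34468 = n23676 := d8_1 D34468 (iv D23676) (iv F101125)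
theorem F145012 : act 3 n34468 = n23639 := d29_1 D34468 (iv D23639) D23638
def n34475 : Q := act 2 n23643
theorem D34475 : act 2 n23643 = n34475 := rfl
theorem F145041 : act 0 n34475 = n23683 := d1_1 D34475 (iv D23683) (iv F101147)
def n34476 : Q := act 4 n23643
theorem D34476 : act 4 n23643 = n34476 := rfl
theorem F145044 : act 0 n34476 = n23684 := d3_1 D34476 (iv D23684) (iv F101147)
theorem F145045 : act 3 n34476 = n23650 := d24_1 D34476 (iv D23650) (iv D16233) (iv F70685) D23643
def n34477 : Q := act 9 n23643
theorem D34477 : act 9 n23643 = n34477 := rfl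
theorem F145048 : act 3 n34477 = n23644 := d29_1 D34477 (iv D23644) D23643
def n34482 : Q := act 9 n23646
theorem D34482 : act 9 n23646 = n34482 := rfl
theorem F145067 : act 3 n34482 = n23653 := d29_1 D34482 (iv D23653) (iv F101159)
theorem F145068 : act 4 n34482 = n23647 := d34_1 D34482 (iv D23647) D23646
def n34486 : Q := act 5 n23650
theorem D34486 : act 5 n23650 = n34486 := rfl
theorem F145083 : act 0 n34486 = n23694 := d4_1 D34486 (iv D23694) (iv F101174)
def n34490 : Q := act 9 n23652
theorem D34490 : act 9 n23652 = n34490 := rfl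
theorem F145098 : act 4 n34490 = n23656 := d34_1 D34490 (iv D23656) (iv F101183)
theorem F145099 : act 5 n34490 = n23653 := d38_1 D34490 (iv D23653) D23652
def n34498 : Q := act 9 n23659
theorem D34498 : act 9 n23659 = n34498 := rfl
theorem F145135 : act 8 n34498 = n23794 := d44_1 D34498 (iv D23794) (iv D16335) (iv F70732) D23659
def n34504 : Q := act 1 n23664
theorem D34504 : act 1 n23664 = n34504 := rfl
theorem F145165 : act 6 n34504 = n23666 := d13_2 (iv F101240) D34504 (iv D23666)
theorem F145166 : act 8 n34504 = n23884 := d15_2 (iv F101241) D34504 (iv D23884)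
def n34505 : Q := act 9 n23664
theorem D34505 : act 9 n23664 = n34505 := rfl
theorem F145168 : act 2 n34505 = n23665 := d23_1 D34505 (iv D23665) D23664
def n34506 : Q := act 0 n23666
theorem D34506 : act 0 n23666 = n34506 := rfl
theorem F145172 : act 1 n34506 = n23714 := d0_2 D23666 D34506 (iv D23714) (iv D16279) (iv F70752)
def n34508 : Q := act 7 n23668
theorem D34508 : act 7 n23668 = n34508 := rfl
theorem F145185 : act 4 n34508 = n23669 := d32_1 D34508 (iv D23669) D23668
def n34509 : Q := act 8 n23668
theorem D34509 : act 8 n23668 = n34509 := rfl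
theorem F145187 : act 2 n34509 = n23887 := d22_1 D34509 (iv D23887) (iv F101259)
theorem F145188 : act 4 n34509 = n23670 := d33_1 D34509 (iv D23670) D23668
theorem F145189 : act 6 n34509 = n34509 := d40_1 D34509 (iv D34509) F101260
def n34511 : Q := act 8 n23669
theorem D34511 : act 8 n23669 = n34511 := rfl
theorem F145195 : act 2 n34511 = n23889 := d22_1 D34511 (iv D23889) (iv F101262)
theorem F145196 : act 5 n34511 = n23671 := d37_1 D34511 (iv D23671) (iv F101264)
theorem F145197 : act 7 n34511 = n23670 := d42_1 D34511 (iv D23670) D23669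
def n34512 : Q := act 3 n23670
theorem D34512 : act 3 n23670 = n34512 := rfl
theorem F145198 : act 5 n34512 = n23672 := d25_2 (iv F101267) D34512 (iv D23672)
theorem F145200 : act 8 n34512 = n23679 := d28_2 D23670 D34512 (iv D23679) (iv D16254) (iv F70771)
def n34513 : Q := act 9 n23670
theorem D34513 : act 9 n23670 = n34513 := rfl
theorem F145201 : act 2 n34513 = n23891 := d23_1 D34513 (iv D23891) (iv F101266)
theorem F145202 : act 5 n34513 = n23673 := d38_1 D34513 (iv D23673) (iv F101267)
theorem F145203 : act 6 n34513 = n34513 := d41_1 D34513 (iv D34513) F101268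
theorem F145204 : act 8 n34513 = n23800 := d44_1 D34513 (iv D23800) (iv D16340) (iv F70773) D23670
def n34514 : Q := act 3 n23671
theorem D34514 : act 3 n23671 = n34514 := rfl
theorem F145206 : act 7 n34514 = n23672 := d27_2 (iv F101271) D34514 (iv D23672)
theorem F145207 : act 8 n34514 = n23681 := d28_2 D23671 D34514 (iv D23681) (iv D16255) (iv F70775)
def n34515 : Q := act 9 n23671
theorem D34515 : act 9 n23671 = n34515 := rfl
theorem F145208 : act 2 n34515 = n23893 := d23_1 D34515 (iv D23893) (iv F101269)
theorem F145209 : act 6 n34515 = n34515 := d41_1 D34515 (iv D34515) F101270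
theorem F145210 : act 7 n34515 = n23673 := d43_1 D34515 (iv D23673) (iv F101271)
theorem F145211 : act 8 n34515 = n23802 := d44_1 D34515 (iv D23802) (iv D16341) (iv F70777) D23671
def n34516 : Q := act 2 n23672
theorem D34516 : act 2 n23672 = n34516 := rfl
theorem F145212 : act 3 n34516 = n23894 := d17_2 D23672 D34516 (iv D23894) (iv D16410) (iv F70778)
theorem F145213 : act 6 n34516 = n23674 := d20_2 (iv F101272) D34516 (iv D23674)
theorem F145214 : act 8 n34516 = n23683 := d22_2 (iv F101273) D34516 (iv D23683)
def n34517 : Q := act 4 n23672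
theorem D34517 : act 4 n23672 = n34517 := rfl
theorem F145216 : act 8 n34517 = n23684 := d33_2 (iv F101273) D34517 (iv D23684)
def n34518 : Q := act 9 n23672
theorem D34518 : act 9 n23672 = n34518 := rfl
theorem F145217 : act 3 n34518 = n23673 := d29_1 D34518 (iv D23673) D23672
theorem F145218 : act 6 n34518 = n23676 := d41_1 D34518 (iv D23676) (iv F101272)
def n34519 : Q := act 1 n23674
theorem D34519 : act 1 n23674 = n34519 := rfl
theorem F145219 : act 3 n34519 = n23897 := d10_2 (iv F101277) D34519 (iv D23897)
theorem F145222 : act 8 n34519 = n23686 := d15_2 (iv F101280) D34519 (iv D23686)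
def n34520 : Q := act 4 n23674
theorem D34520 : act 4 n23674 = n34520 := rfl
theorem F145225 : act 8 n34520 = n23687 := d33_2 (iv F101280) D34520 (iv D23687)
def n34521 : Q := act 9 n23674
theorem D34521 : act 9 n23674 = n34521 := rfl
theorem F145226 : act 2 n34521 = n23676 := d23_1 D34521 (iv D23676) D23674
theorem F145227 : act 3 n34521 = n23899 := d29_1 D34521 (iv D23899) (iv F101277)
theorem F145228 : act 5 n34521 = n34521 := d38_1 D34521 (iv D34521) F101278
theorem F145229 : act 7 n34521 = n34521 := d43_1 D34521 (iv D34521) F101279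
def n34523 : Q := act 9 n23675
theorem D34523 : act 9 n23675 = n34523 := rfl
theorem F145233 : act 4 n34523 = n23676 := d34_1 D34523 (iv D23676) D23675
def n34524 : Q := act 8 n23676
theorem D34524 : act 8 n23676 = n34524 := rfl
theorem F145238 : act 9 n34524 = n23691 := d44_2 D23676 D34524 (iv D23691) (iv D16260) (iv F70782)
def n34528 : Q := act 2 n23679
theorem D34528 : act 2 n23679 = n34528 := rfl
theorem F145250 : act 5 n34528 = n23683 := d19_2 (iv F101293) D34528 (iv D23683)
def n34530 : Q := act 9 n23679
theorem D34530 : act 9 n23679 = n34530 := rfl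
theorem F145253 : act 3 n34530 = n23680 := d29_1 D34530 (iv D23680) D23679
def n34531 : Q := act 2 n23681
theorem D34531 : act 2 n23681 = n34531 := rfl
theorem F145258 : act 7 n34531 = n23683 := d21_2 (iv F101300) D34531 (iv D23683)
def n34535 : Q := act 4 n23683
theorem D34535 : act 4 n23683 = n34535 := rfl
theorem F145269 : act 6 n34535 = n23687 := d31_2 (iv F101307) D34535 (iv D23687)
def n34538 : Q := act 9 n23684
theorem D34538 : act 9 n23684 = n34538 := rfl
theorem F145276 : act 6 n34538 = n23690 := d41_1 D34538 (iv D23690) (iv F101309)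
def n34547 : Q := act 9 n23689
theorem D34547 : act 9 n23689 = n34547 := rfl
theorem F145305 : act 5 n34547 = n23690 := d38_1 D34547 (iv D23690) D23689
def n34548 : Q := act 8 n23690
theorem D34548 : act 8 n23690 = n34548 := rfl
theorem F145307 : act 4 n34548 = n23691 := d33_1 D34548 (iv D23691) (iv F101326)
def n34551 : Q := act 8 n23693
theorem D34551 : act 8 n23693 = n34551 := rfl
theorem F145316 : act 3 n34551 = n23823 := d28_1 D34551 (iv D23823) F71173 (iv F70816) (iv F101335)
def n34552 : Q := act 6 n23694
theorem D34552 : act 6 n23694 = n34552 := rfl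
def n34554 : Q := act 8 n23695
theorem D34554 : act 8 n23695 = n34554 := rfl
theorem F145324 : act 4 n34554 = n23696 := d33_1 D34554 (iv D23696) (iv F101340)
def n34557 : Q := act 8 n23698
theorem D34557 : act 8 n23698 = n34557 := rfl
theorem F145334 : act 5 n34557 = n23699 := d37_1 D34557 (iv D23699) (iv F101349)
def n34558 : Q := act 3 n23699
theorem D34558 : act 3 n23699 = n34558 := rfl
theorem F145336 : act 4 n34558 = n23830 := d24_2 (iv F101352) D34558 (iv D23830) F71189 (iv F70829)
def n34561 : Q := act 3 n23702
theorem D34561 : act 3 n23702 = n34561 := rfl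
theorem F145344 : act 5 n34561 = n23703 := d25_2 (iv F101361) D34561 (iv D23703)
def n34562 : Q := act 2 n23703
theorem D34562 : act 2 n23703 = n34562 := rfl
theorem F145348 : act 4 n34562 = n23834 := d18_2 (iv F101363) D34562 (iv D23834)
def n34570 : Q := act 9 n23707
theorem D34570 : act 9 n23707 = n34570 := rfl
theorem F145381 : act 2 n34570 = n23709 := d23_1 D34570 (iv D23709) D23707
def n34573 : Q := act 9 n23710
theorem D34573 : act 9 n23710 = n34573 := rfl
theorem F145395 : act 2 n34573 = n23711 := d23_1 D34573 (iv D23711) D23710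
def n34576 : Q := act 9 n23714
theorem D34576 : act 9 n23714 = n34576 := rfl
theorem F145410 : act 2 n34576 = n23729 := d23_1 D34576 (iv D23729) (iv F101408)
def n34577 : Q := act 2 n23716
theorem D34577 : act 2 n23716 = n34577 := rfl
theorem F145417 : act 6 n34577 = n23718 := d20_2 (iv F101421) D34577 (iv D23718)
theorem F145419 : act 8 n34577 = n23925 := d22_2 (iv F101423) D34577 (iv D23925)
def n34580 : Q := act 1 n23718
theorem D34580 : act 1 n23718 = n34580 := rfl
theorem F145432 : act 8 n34580 = n23927 := d15_2 (iv F101432) D34580 (iv D23927)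
def n34582 : Q := act 9 n23718
theorem D34582 : act 9 n23718 = n34582 := rfl
theorem F145439 : act 2 n34582 = n23720 := d23_1 D34582 (iv D23720) D23718
theorem F145440 : act 5 n34582 = n23726 := d38_1 D34582 (iv D23726) (iv F101430)
def n34583 : Q := act 9 n23719
theorem D34583 : act 9 n23719 = n34583 := rfl
theorem F145444 : act 4 n34583 = n23720 := d34_1 D34583 (iv D23720) D23719
def n34586 : Q := act 9 n23721
theorem D34586 : act 9 n23721 = n34586 := rfl
theorem F145456 : act 1 n34586 = n23723 := d16_1 D34586 (iv D23723) D23721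
theorem F145457 : act 5 n34586 = n23728 := d38_1 D34586 (iv D23728) (iv F101442)
def n34590 : Q := act 9 n23725
theorem D34590 : act 9 n23725 = n34590 := rfl
theorem F145474 : act 1 n34590 = n23726 := d16_1 D34590 (iv D23726) D23725
theorem F145477 : act 7 n34590 = n23728 := d43_1 D34590 (iv D23728) (iv F101462)
def n34591 : Q := act 9 n23727
theorem D34591 : act 9 n23727 = n34591 := rfl
theorem F145482 : act 6 n34591 = n23729 := d41_1 D34591 (iv D23729) (iv F101472)
def n34592 : Q := act 5 n23730
theorem D34592 : act 5 n23730 = n34592 := rfl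
theorem F145484 : act 1 n34592 = n23933 := d12_1 D34592 (iv D23933) (iv F101484)
theorem F145485 : act 2 n34592 = n23732 := d19_1 D34592 (iv D23732) (iv F101485)
def n34593 : Q := act 7 n23730
theorem D34593 : act 7 n23730 = n34593 := rfl
theorem F145488 : act 1 n34593 = n23934 := d14_1 D34593 (iv D23934) (iv F101484)
theorem F145489 : act 2 n34593 = n23733 := d21_1 D34593 (iv D23733) (iv F101485)
def n34594 : Q := act 8 n23730
theorem D34594 : act 8 n23730 = n34594 := rfl
theorem F145492 : act 1 n34594 = n23935 := d15_1 D34594 (iv D23935) (iv F101484)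
theorem F145493 : act 2 n34594 = n23734 := d22_1 D34594 (iv D23734) (iv F101485)
def n34596 : Q := act 9 n23731
theorem D34596 : act 9 n23731 = n34596 := rfl
theorem F145499 : act 1 n34596 = n23937 := d16_1 D34596 (iv D23937) (iv F101487)
def n34597 : Q := act 4 n23732
theorem D34597 : act 4 n23732 = n34597 := rfl
def n34599 : Q := act 8 n23732
theorem D34599 : act 8 n23732 = n34599 := rfl
theorem F145508 : act 1 n34599 = n23764 := d15_1 D34599 (iv D23764) (iv F101491)
def n34600 : Q := act 8 n23733
theorem D34600 : act 8 n23733 = n34600 := rfl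
theorem F145511 : act 1 n34600 = n23765 := d15_1 D34600 (iv D23765) (iv F101494)
def n34601 : Q := act 3 n23734
theorem D34601 : act 3 n23734 = n34601 := rfl
theorem F145516 : act 8 n34601 = n23740 := d28_2 D23734 D34601 (iv D23740) (iv D16298) (iv F70944)
def n34602 : Q := act 9 n23734
theorem D34602 : act 9 n23734 = n34602 := rfl
theorem F145517 : act 1 n34602 = n23767 := d16_1 D34602 (iv D23767) (iv F101497)
def n34646 : Q := act 7 n23762
theorem D34646 : act 7 n23762 = n34646 := rfl
theorem F145667 : act 0 n34646 = n23795 := d6_1 D34646 (iv D23795) (iv F101590)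
theorem F145668 : act 2 n34646 = n23944 := d21_1 D34646 (iv D23944) (iv F101591)
def n34647 : Q := act 8 n23762
theorem D34647 : act 8 n23762 = n34647 := rfl
theorem F145670 : act 0 n34647 = n23796 := d7_1 D34647 (iv D23796) (iv F101590)
theorem F145671 : act 2 n34647 = n23945 := d22_1 D34647 (iv D23945) (iv F101591)
theorem F145672 : act 4 n34647 = n23764 := d33_1 D34647 (iv D23764) D23762
theorem F145673 : act 6 n34647 = n34647 := d40_1 D34647 (iv D34647) F101592
def n34649 : Q := act 8 n23763
theorem D34649 : act 8 n23763 = n34649 := rfl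
theorem F145680 : act 2 n34649 = n23947 := d22_1 D34649 (iv D23947) (iv F101594)
theorem F145681 : act 5 n34649 = n23765 := d37_1 D34649 (iv D23765) (iv F101596)
theorem F145682 : act 7 n34649 = n23764 := d42_1 D34649 (iv D23764) D23763
def n34650 : Q := act 3 n23764
theorem D34650 : act 3 n23764 = n34650 := rfl
theorem F145687 : act 8 n34650 = n23772 := d28_2 D23764 D34650 (iv D23772) (iv D16318) (iv F71004)
def n34651 : Q := act 9 n23764
theorem D34651 : act 9 n23764 = n34651 := rfl
theorem F145688 : act 0 n34651 = n23800 := d8_1 D34651 (iv D23800) (iv F101597)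
theorem F145689 : act 2 n34651 = n23948 := d23_1 D34651 (iv D23948) (iv F101598)
theorem F145690 : act 5 n34651 = n23767 := d38_1 D34651 (iv D23767) (iv F101599)
theorem F145691 : act 6 n34651 = n34651 := d41_1 D34651 (iv D34651) F101600
def n34652 : Q := act 3 n23765
theorem D34652 : act 3 n23765 = n34652 := rfl
theorem F145696 : act 8 n34652 = n23774 := d28_2 D23765 D34652 (iv D23774) (iv D16319) (iv F71008)
def n34653 : Q := act 9 n23765
theorem D34653 : act 9 n23765 = n34653 := rfl
theorem F145697 : act 0 n34653 = n23802 := d8_1 D34653 (iv D23802) (iv F101601)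
theorem F145698 : act 2 n34653 = n23949 := d23_1 D34653 (iv D23949) (iv F101602)
theorem F145699 : act 6 n34653 = n34653 := d41_1 D34653 (iv D34653) F101603
theorem F145700 : act 7 n34653 = n23767 := d43_1 D34653 (iv D23767) (iv F101604)
def n34655 : Q := act 9 n23766
theorem D34655 : act 9 n23766 = n34655 := rfl
theorem F145705 : act 0 n34655 = n23804 := d8_1 D34655 (iv D23804) (iv F101605)
theorem F145707 : act 3 n34655 = n23767 := d29_1 D34655 (iv D23767) D23766
def n34656 : Q := act 5 n23768
theorem D34656 : act 5 n23768 = n34656 := rfl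
theorem F145713 : act 8 n34656 = n23778 := d37_2 (iv F101615) D34656 (iv D23778)
def n34670 : Q := act 9 n23778
theorem D34670 : act 9 n23778 = n34670 := rfl
theorem F145771 : act 3 n34670 = n23787 := d29_1 D34670 (iv D23787) (iv F101656)
def n34678 : Q := act 7 n23786
theorem D34678 : act 7 n23786 = n34678 := rfl
def n34679 : Q := act 9 n23786
theorem D34679 : act 9 n23786 = n34679 := rfl
theorem F145808 : act 6 n34679 = n23787 := d41_1 D34679 (iv D23787) D23786
def n34680 : Q := act 8 n23787
theorem D34680 : act 8 n23787 = n34680 := rfl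
def n34682 : Q := act 9 n23789
theorem D34682 : act 9 n23789 = n34682 := rfl
theorem F145820 : act 7 n34682 = n23790 := d43_1 D34682 (iv D23790) D23789
def n34683 : Q := act 8 n23790
theorem D34683 : act 8 n23790 = n34683 := rfl
def n34688 : Q := act 8 n23795
theorem D34688 : act 8 n23795 = n34688 := rfl
theorem F145841 : act 2 n34688 = n23951 := d22_1 D34688 (iv D23951) (iv F101724)
theorem F145842 : act 4 n34688 = n23798 := d33_1 D34688 (iv D23798) (iv F101725)
theorem F145843 : act 7 n34688 = n23796 := d42_1 D34688 (iv D23796) D23795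
def n34689 : Q := act 3 n23796
theorem D34689 : act 3 n23796 = n34689 := rfl
theorem F145844 : act 6 n34689 = n34689 := d26_2 F101728 D34689 (iv D34689)
def n34690 : Q := act 9 n23796
theorem D34690 : act 9 n23796 = n34690 := rfl
theorem F145845 : act 2 n34690 = n23953 := d23_1 D34690 (iv D23953) (iv F101726)
theorem F145846 : act 4 n34690 = n23800 := d34_1 D34690 (iv D23800) (iv F101727)
theorem F145847 : act 6 n34690 = n34690 := d41_1 D34690 (iv D34690) F101728
def n34692 : Q := act 3 n23798
theorem D34692 : act 3 n23798 = n34692 := rfl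
theorem F145855 : act 8 n34692 = n23809 := d28_2 D23798 D34692 (iv D23809) (iv D16347) (iv F71113)
def n34693 : Q := act 9 n23798
theorem D34693 : act 9 n23798 = n34693 := rfl
theorem F145856 : act 2 n34693 = n23955 := d23_1 D34693 (iv D23955) (iv F101733)
theorem F145857 : act 5 n34693 = n23802 := d38_1 D34693 (iv D23802) (iv F101734)
theorem F145858 : act 7 n34693 = n23800 := d43_1 D34693 (iv D23800) (iv F101735)
def n34695 : Q := act 9 n23799
theorem D34695 : act 9 n23799 = n34695 := rfl
theorem F145863 : act 3 n34695 = n23800 := d29_1 D34695 (iv D23800) D23799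
theorem F145864 : act 5 n34695 = n23804 := d38_1 D34695 (iv D23804) (iv F101737)
def n34696 : Q := act 4 n23801
theorem D34696 : act 4 n23801 = n34696 := rfl
theorem F145868 : act 7 n34696 = n23803 := d32_2 (iv F101745) D34696 (iv D23803)
theorem F145869 : act 8 n34696 = n23813 := d33_2 (iv F101746) D34696 (iv D23813)
def n34697 : Q := act 9 n23801
theorem D34697 : act 9 n23801 = n34697 := rfl
theorem F145871 : act 3 n34697 = n23802 := d29_1 D34697 (iv D23802) D23801
theorem F145873 : act 7 n34697 = n23804 := d43_1 D34697 (iv D23804) (iv F101745)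
def n34698 : Q := act 5 n23803
theorem D34698 : act 5 n23803 = n34698 := rfl
theorem F145874 : act 2 n34698 = n34698 := d19_1 D34698 (iv D34698) F101750
theorem F145875 : act 8 n34698 = n23815 := d37_2 (iv F101752) D34698 (iv D23815)
def n34699 : Q := act 9 n23803
theorem D34699 : act 9 n23803 = n34699 := rfl
theorem F145876 : act 2 n34699 = n34699 := d23_1 D34699 (iv D34699) F101750
theorem F145877 : act 4 n34699 = n23804 := d34_1 D34699 (iv D23804) D23803
theorem F145878 : act 6 n34699 = n23806 := d41_1 D34699 (iv D23806) (iv F101751)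
def n34700 : Q := act 8 n23804
theorem D34700 : act 8 n23804 = n34700 := rfl
theorem F145881 : act 9 n34700 = n23817 := d44_2 D23804 D34700 (iv D23817) (iv D16353) (iv F71123)
def n34701 : Q := act 6 n23805
theorem D34701 : act 6 n23805 = n34701 := rfl
theorem F145882 : act 2 n34701 = n34701 := d20_1 D34701 (iv D34701) F101756
theorem F145883 : act 4 n34701 = n34701 := d31_1 D34701 (iv D34701) F101757
theorem F145884 : act 8 n34701 = n23818 := d40_2 (iv F101759) D34701 (iv D23818)
def n34702 : Q := act 9 n23805
theorem D34702 : act 9 n23805 = n34702 := rfl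
theorem F145885 : act 2 n34702 = n34702 := d23_1 D34702 (iv D34702) F101756
theorem F145886 : act 4 n34702 = n34702 := d34_1 D34702 (iv D34702) F101757
theorem F145887 : act 5 n34702 = n23806 := d38_1 D34702 (iv D23806) D23805
theorem F145888 : act 7 n34702 = n34702 := d43_1 D34702 (iv D34702) F101758
def n34703 : Q := act 8 n23806
theorem D34703 : act 8 n23806 = n34703 := rfl
theorem F145892 : act 9 n34703 = n23820 := d44_2 D23806 D34703 (iv D23820) (iv D16355) (iv F71128)
def n34707 : Q := act 9 n23809
theorem D34707 : act 9 n23809 = n34707 := rfl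
theorem F145904 : act 3 n34707 = n23810 := d29_1 D34707 (iv D23810) D23809
theorem F145905 : act 5 n34707 = n23814 := d38_1 D34707 (iv D23814) (iv F101772)
def n34711 : Q := act 5 n23813
theorem D34711 : act 5 n23813 = n34711 := rfl
theorem F145916 : act 3 n34711 = n23821 := d25_1 D34711 (iv D23821) (iv F101784)
theorem F145917 : act 7 n34711 = n23815 := d36_2 (iv F101786) D34711 (iv D23815)
def n34714 : Q := act 6 n23815
theorem D34714 : act 6 n23815 = n34714 := rfl
theorem F145926 : act 2 n34714 = n34714 := d20_1 D34714 (iv D34714) F101791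
theorem F145927 : act 3 n34714 = n23824 := d26_1 D34714 (iv D23824) (iv F101792)
theorem F145928 : act 5 n34714 = n23818 := d35_1 D34714 (iv D23818) (iv D16354) (iv F71154) D23815
def n34717 : Q := act 7 n23818
theorem D34717 : act 7 n23818 = n34717 := rfl
theorem F145935 : act 2 n34717 = n34717 := d21_1 D34717 (iv D34717) F101799
theorem F145936 : act 3 n34717 = n23827 := d27_1 D34717 (iv D23827) (iv F101800)
theorem F145937 : act 4 n34717 = n34717 := d32_1 D34717 (iv D34717) F101801
theorem F145938 : act 6 n34717 = n34717 := d39_1 D34717 (iv D34717) (iv D23818) F71161 D23818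
def n34718 : Q := act 9 n23818
theorem D34718 : act 9 n23818 = n34718 := rfl
theorem F145942 : act 6 n34718 = n23819 := d41_1 D34718 (iv D23819) D23818
def n34721 : Q := act 6 n23821
theorem D34721 : act 6 n23821 = n34721 := rfl
theorem F145949 : act 2 n34721 = n24240 := d20_1 D34721 (iv D24240) (iv F101810)
theorem F145950 : act 5 n34721 = n34721 := d35_1 D34721 (iv D34721) (iv D23821) F71170 D23821
def n34723 : Q := act 8 n23822
theorem D34723 : act 8 n23822 = n34723 := rfl
def n34724 : Q := act 7 n23824
theorem D34724 : act 7 n23824 = n34724 := rfl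
theorem F145958 : act 2 n34724 = n24243 := d21_1 D34724 (iv D24243) (iv F101819)
theorem F145959 : act 5 n34724 = n23827 := d36_1 D34724 (iv D23827) (iv F101820)
def n34726 : Q := act 8 n23825
theorem D34726 : act 8 n23825 = n34726 := rfl
def n34728 : Q := act 9 n23827
theorem D34728 : act 9 n23827 = n34728 := rfl
theorem F145969 : act 7 n34728 = n23828 := d43_1 D34728 (iv D23828) D23827
def n34729 : Q := act 8 n23828
theorem D34729 : act 8 n23828 = n34729 := rfl
def n34730 : Q := act 3 n23829
theorem D34730 : act 3 n23829 = n34730 := rfl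
theorem F145973 : act 5 n34730 = n23830 := d25_2 (iv F101834) D34730 (iv D23830)
def n34732 : Q := act 8 n23831
theorem D34732 : act 8 n23831 = n34732 := rfl
def n34734 : Q := act 2 n23833
theorem D34734 : act 2 n23833 = n34734 := rfl
def n34735 : Q := act 4 n23833
theorem D34735 : act 4 n23833 = n34735 := rfl
def n34736 : Q := act 1 n23834
theorem D34736 : act 1 n23834 = n34736 := rfl
theorem F145988 : act 3 n34736 = n24255 := d10_2 (iv F101846) D34736 (iv D24255)
def n34738 : Q := act 7 n23836
theorem D34738 : act 7 n23836 = n34738 := rfl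
theorem F145997 : act 2 n34738 = n23839 := d21_1 D34738 (iv D23839) (iv F101855)
def n34739 : Q := act 8 n23836
theorem D34739 : act 8 n23836 = n34739 := rfl
def n34742 : Q := act 4 n23838
theorem D34742 : act 4 n23838 = n34742 := rfl
theorem F146014 : act 1 n34742 = n23857 := d11_1 D34742 (iv D23857) (iv F101863)
def n34743 : Q := act 7 n23838
theorem D34743 : act 7 n23838 = n34743 := rfl
theorem F146021 : act 5 n34743 = n23839 := d36_1 D34743 (iv D23839) D23838
def n34744 : Q := act 8 n23838
theorem D34744 : act 8 n23838 = n34744 := rfl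
theorem F146024 : act 1 n34744 = n23859 := d15_1 D34744 (iv D23859) (iv F101863)
def n34745 : Q := act 8 n23839
theorem D34745 : act 8 n23839 = n34745 := rfl
theorem F146028 : act 1 n34745 = n23860 := d15_1 D34745 (iv D23860) (iv F101868)
def n34747 : Q := act 9 n23840
theorem D34747 : act 9 n23840 = n34747 := rfl
theorem F146036 : act 1 n34747 = n23862 := d16_1 D34747 (iv D23862) (iv F101873)
def n34751 : Q := act 6 n23843
theorem D34751 : act 6 n23843 = n34751 := rfl
theorem F146059 : act 9 n34751 = n23943 := d41_2 (iv F101890) D34751 (iv D23943)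
def n34771 : Q := act 7 n23857
theorem D34771 : act 7 n23857 = n34771 := rfl
theorem F146162 : act 4 n34771 = n23858 := d32_1 D34771 (iv D23858) D23857
def n34772 : Q := act 8 n23857
theorem D34772 : act 8 n23857 = n34772 := rfl
theorem F146164 : act 0 n34772 = n23887 := d7_1 D34772 (iv D23887) (iv F101962)
theorem F146165 : act 4 n34772 = n23859 := d33_1 D34772 (iv D23859) D23857
theorem F146166 : act 6 n34772 = n34772 := d40_1 D34772 (iv D34772) F101964
def n34774 : Q := act 8 n23858
theorem D34774 : act 8 n23858 = n34774 := rfl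
theorem F146172 : act 0 n34774 = n23889 := d7_1 D34774 (iv D23889) (iv F101966)
theorem F146173 : act 5 n34774 = n23860 := d37_1 D34774 (iv D23860) (iv F101968)
theorem F146174 : act 7 n34774 = n23859 := d42_1 D34774 (iv D23859) D23858
def n34775 : Q := act 3 n23859
theorem D34775 : act 3 n23859 = n34775 := rfl
theorem F146175 : act 0 n34775 = n23890 := d2_1 D34775 (iv D23890) (iv F101970)
def n34776 : Q := act 9 n23859
theorem D34776 : act 9 n23859 = n34776 := rfl
theorem F146179 : act 0 n34776 = n23891 := d8_1 D34776 (iv D23891) (iv F101970)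
theorem F146180 : act 5 n34776 = n23862 := d38_1 D34776 (iv D23862) (iv F101971)
theorem F146181 : act 6 n34776 = n34776 := d41_1 D34776 (iv D34776) F101972
theorem F146182 : act 8 n34776 = n23948 := d44_1 D34776 (iv D23948) (iv D16451) (iv F71288) D23859
def n34777 : Q := act 3 n23860
theorem D34777 : act 3 n23860 = n34777 := rfl
theorem F146183 : act 0 n34777 = n23892 := d2_1 D34777 (iv D23892) (iv F101973)
def n34778 : Q := act 9 n23860
theorem D34778 : act 9 n23860 = n34778 := rfl
theorem F146187 : act 0 n34778 = n23893 := d8_1 D34778 (iv D23893) (iv F101973)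
theorem F146188 : act 6 n34778 = n34778 := d41_1 D34778 (iv D34778) F101974
theorem F146189 : act 7 n34778 = n23862 := d43_1 D34778 (iv D23862) (iv F101975)
theorem F146190 : act 8 n34778 = n23949 := d44_1 D34778 (iv D23949) (iv D16452) (iv F71292) D23860
def n34781 : Q := act 9 n23861
theorem D34781 : act 9 n23861 = n34781 := rfl
theorem F146197 : act 0 n34781 = n23896 := d8_1 D34781 (iv D23896) (iv F101976)
theorem F146198 : act 3 n34781 = n23862 := d29_1 D34781 (iv D23862) D23861
def n34810 : Q := act 6 n23886
theorem D34810 : act 6 n23886 = n34810 := rfl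
def n34811 : Q := act 8 n23886
theorem D34811 : act 8 n23886 = n34811 := rfl
theorem F146336 : act 1 n34811 = n34811 := d15_1 D34811 (iv D34811) F102092
theorem F146337 : act 4 n34811 = n23889 := d33_1 D34811 (iv D23889) (iv F102094)
theorem F146338 : act 7 n34811 = n23887 := d42_1 D34811 (iv D23887) D23886
def n34812 : Q := act 3 n23887
theorem D34812 : act 3 n23887 = n34812 := rfl
theorem F146339 : act 1 n34812 = n34812 := d10_1 D34812 (iv D34812) F102096
theorem F146340 : act 6 n34812 = n34812 := d26_2 F102098 D34812 (iv D34812)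
theorem F146341 : act 8 n34812 = n34812 := d28_2 D23887 D34812 (iv D34812) (iv D23887) F71385
def n34813 : Q := act 9 n23887
theorem D34813 : act 9 n23887 = n34813 := rfl
theorem F146342 : act 1 n34813 = n34813 := d16_1 D34813 (iv D34813) F102096
theorem F146343 : act 4 n34813 = n23891 := d34_1 D34813 (iv D23891) (iv F102097)
theorem F146344 : act 6 n34813 = n34813 := d41_1 D34813 (iv D34813) F102098
theorem F146345 : act 8 n34813 = n23953 := d44_1 D34813 (iv D23953) (iv D16456) (iv F71387) D23887
def n34814 : Q := act 8 n23888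
theorem D34814 : act 8 n23888 = n34814 := rfl
theorem F146348 : act 6 n34814 = n23889 := d40_1 D34814 (iv D23889) D23888
def n34815 : Q := act 3 n23889
theorem D34815 : act 3 n23889 = n34815 := rfl
theorem F146351 : act 5 n34815 = n23892 := d25_2 (iv F102105) D34815 (iv D23892)
theorem F146352 : act 7 n34815 = n23890 := d27_2 (iv F102106) D34815 (iv D23890)
theorem F146353 : act 8 n34815 = n23903 := d28_2 D23889 D34815 (iv D23903) (iv D16416) (iv F71389)
def n34816 : Q := act 9 n23889
theorem D34816 : act 9 n23889 = n34816 := rfl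
theorem F146354 : act 1 n34816 = n34816 := d16_1 D34816 (iv D34816) F102104
theorem F146355 : act 5 n34816 = n23893 := d38_1 D34816 (iv D23893) (iv F102105)
theorem F146356 : act 7 n34816 = n23891 := d43_1 D34816 (iv D23891) (iv F102106)
theorem F146357 : act 8 n34816 = n23955 := d44_1 D34816 (iv D23955) (iv D16458) (iv F71391) D23889
def n34817 : Q := act 2 n23890
theorem D34817 : act 2 n23890 = n34817 := rfl
theorem F146358 : act 5 n34817 = n23894 := d19_2 (iv F102108) D34817 (iv D23894)
theorem F146360 : act 8 n34817 = n23904 := d22_2 (iv F102110) D34817 (iv D23904)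
def n34818 : Q := act 4 n23890
theorem D34818 : act 4 n23890 = n34818 := rfl
def n34819 : Q := act 9 n23890
theorem D34819 : act 9 n23890 = n34819 := rfl
theorem F146364 : act 1 n34819 = n34819 := d16_1 D34819 (iv D34819) F102107
theorem F146365 : act 3 n34819 = n23891 := d29_1 D34819 (iv D23891) D23890
theorem F146366 : act 5 n34819 = n23896 := d38_1 D34819 (iv D23896) (iv F102108)
theorem F146367 : act 6 n34819 = n34819 := d41_1 D34819 (iv D34819) F102109
theorem F146368 : act 8 n34819 = n34819 := d44_1 D34819 (iv D34819) F102110 F71430 (iv F102110)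
def n34820 : Q := act 2 n23892
theorem D34820 : act 2 n23892 = n34820 := rfl
theorem F146370 : act 7 n34820 = n23894 := d21_2 (iv F102117) D34820 (iv D23894)
theorem F146371 : act 8 n34820 = n23906 := d22_2 (iv F102118) D34820 (iv D23906)
def n34821 : Q := act 4 n23892
theorem D34821 : act 4 n23892 = n34821 := rfl
theorem F146375 : act 8 n34821 = n23907 := d33_2 (iv F102118) D34821 (iv D23907)
def n34822 : Q := act 9 n23892
theorem D34822 : act 9 n23892 = n34822 := rfl
theorem F146376 : act 1 n34822 = n34822 := d16_1 D34822 (iv D34822) F102115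
theorem F146377 : act 3 n34822 = n23893 := d29_1 D34822 (iv D23893) D23892
theorem F146378 : act 6 n34822 = n34822 := d41_1 D34822 (iv D34822) F102116
theorem F146379 : act 7 n34822 = n23896 := d43_1 D34822 (iv D23896) (iv F102117)
theorem F146380 : act 8 n34822 = n34822 := d44_1 D34822 (iv D34822) F102118 F71434 (iv F102118)
def n34823 : Q := act 1 n23894
theorem D34823 : act 1 n23894 = n34823 := rfl
theorem F146382 : act 6 n34823 = n23897 := d13_2 (iv F102123) D34823 (iv D23897)
theorem F146383 : act 8 n34823 = n23908 := d15_2 (iv F102124) D34823 (iv D23908)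
def n34824 : Q := act 4 n23894
theorem D34824 : act 4 n23894 = n34824 := rfl
theorem F146386 : act 8 n34824 = n23909 := d33_2 (iv F102124) D34824 (iv D23909)
def n34825 : Q := act 9 n23894
theorem D34825 : act 9 n23894 = n34825 := rfl
theorem F146387 : act 2 n34825 = n23896 := d23_1 D34825 (iv D23896) D23894
theorem F146388 : act 6 n34825 = n23899 := d41_1 D34825 (iv D23899) (iv F102123)
theorem F146389 : act 8 n34825 = n34825 := d44_1 D34825 (iv D34825) F102124 F71437 (iv F102124)
def n34827 : Q := act 9 n23895
theorem D34827 : act 9 n23895 = n34827 := rfl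
theorem F146393 : act 4 n34827 = n23896 := d34_1 D34827 (iv D23896) D23895
def n34828 : Q := act 0 n23897
theorem D34828 : act 0 n23897 = n34828 := rfl
theorem F146399 : act 8 n34828 = n23911 := d7_2 (iv F102135) D34828 (iv D23911)
def n34829 : Q := act 4 n23897
theorem D34829 : act 4 n23897 = n34829 := rfl
theorem F146400 : act 1 n34829 = n23898 := d11_1 D34829 (iv D23898) D23897
def n34830 : Q := act 9 n23897
theorem D34830 : act 9 n23897 = n34830 := rfl
theorem F146404 : act 1 n34830 = n23899 := d16_1 D34830 (iv D23899) D23897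
theorem F146405 : act 2 n34830 = n34830 := d23_1 D34830 (iv D34830) F102132
theorem F146406 : act 5 n34830 = n34830 := d38_1 D34830 (iv D34830) F102133
theorem F146407 : act 7 n34830 = n34830 := d43_1 D34830 (iv D34830) F102134
theorem F146408 : act 8 n34830 = n34830 := d44_1 D34830 (iv D34830) F102135 F71446 (iv F102135)
def n34833 : Q := act 9 n23898
theorem D34833 : act 9 n23898 = n34833 := rfl
theorem F146416 : act 4 n34833 = n23899 := d34_1 D34833 (iv D23899) D23898
def n34863 : Q := act 1 n23925
theorem D34863 : act 1 n23925 = n34863 := rfl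
theorem F146549 : act 6 n34863 = n23927 := d13_2 (iv F102257) D34863 (iv D23927)
def n34874 : Q := act 8 n23933
theorem D34874 : act 8 n23933 = n34874 := rfl
theorem F146601 : act 2 n34874 = n23940 := d22_1 D34874 (iv D23940) (iv F102296)
theorem F146602 : act 5 n34874 = n23935 := d37_1 D34874 (iv D23935) D23933
def n34875 : Q := act 8 n23934
theorem D34875 : act 8 n23934 = n34875 := rfl
theorem F146605 : act 2 n34875 = n23941 := d22_1 D34875 (iv D23941) (iv F102300)
theorem F146607 : act 7 n34875 = n23935 := d42_1 D34875 (iv D23935) D23934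
def n34876 : Q := act 3 n23935
theorem D34876 : act 3 n23935 = n34876 := rfl
def n34877 : Q := act 9 n23935
theorem D34877 : act 9 n23935 = n34877 := rfl
theorem F146612 : act 0 n34877 = n34877 := d8_1 D34877 (iv D34877) F102303
theorem F146613 : act 2 n34877 = n23942 := d23_1 D34877 (iv D23942) (iv F102304)
theorem F146614 : act 6 n34877 = n23937 := d41_1 D34877 (iv D23937) (iv F102305)
def n34878 : Q := act 4 n23936
theorem D34878 : act 4 n23936 = n34878 := rfl
def n34879 : Q := act 9 n23936
theorem D34879 : act 9 n23936 = n34879 := rfl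
theorem F146619 : act 0 n34879 = n34879 := d8_1 D34879 (iv D34879) F102306
theorem F146621 : act 3 n34879 = n23937 := d29_1 D34879 (iv D23937) D23936
def n34881 : Q := act 8 n23938
theorem D34881 : act 8 n23938 = n34881 := rfl
theorem F146629 : act 1 n34881 = n23945 := d15_1 D34881 (iv D23945) (iv F102316)
theorem F146630 : act 4 n34881 = n23940 := d33_1 D34881 (iv D23940) D23938
def n34883 : Q := act 8 n23939
theorem D34883 : act 8 n23939 = n34883 := rfl
theorem F146638 : act 1 n34883 = n23947 := d15_1 D34883 (iv D23947) (iv F102320)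
def n34884 : Q := act 9 n23940
theorem D34884 : act 9 n23940 = n34884 := rfl
theorem F146642 : act 0 n34884 = n34884 := d8_1 D34884 (iv D34884) F102323
theorem F146643 : act 1 n34884 = n23948 := d16_1 D34884 (iv D23948) (iv F102324)
theorem F146644 : act 3 n34884 = n34884 := d29_1 D34884 (iv D34884) F102325
theorem F146645 : act 5 n34884 = n23942 := d38_1 D34884 (iv D23942) (iv F102326)
theorem F146646 : act 6 n34884 = n34884 := d41_1 D34884 (iv D34884) F102327
def n34885 : Q := act 9 n23941
theorem D34885 : act 9 n23941 = n34885 := rfl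
theorem F146647 : act 0 n34885 = n34885 := d8_1 D34885 (iv D34885) F102328
theorem F146648 : act 1 n34885 = n23949 := d16_1 D34885 (iv D23949) (iv F102329)
theorem F146649 : act 3 n34885 = n34885 := d29_1 D34885 (iv D34885) F102330
theorem F146650 : act 6 n34885 = n34885 := d41_1 D34885 (iv D34885) F102331
theorem F146651 : act 7 n34885 = n23942 := d43_1 D34885 (iv D23942) (iv F102332)
def n34887 : Q := act 8 n23944
theorem D34887 : act 8 n23944 = n34887 := rfl
theorem F146657 : act 4 n34887 = n23947 := d33_1 D34887 (iv D23947) (iv F102346)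
def n34888 : Q := act 3 n23945
theorem D34888 : act 3 n23945 = n34888 := rfl
theorem F146659 : act 0 n34888 = n23952 := d2_1 D34888 (iv D23952) (iv F102347)
theorem F146660 : act 4 n34888 = n34888 := d24_2 (iv F102348) D34888 (iv D34888) F102348 F71577
theorem F146661 : act 6 n34888 = n34888 := d26_2 F102349 D34888 (iv D34888)
theorem F146662 : act 8 n34888 = n34888 := d28_2 D23945 D34888 (iv D34888) (iv D23945) F71571
def n34889 : Q := act 9 n23945
theorem D34889 : act 9 n23945 = n34889 := rfl
theorem F146663 : act 0 n34889 = n23953 := d8_1 D34889 (iv D23953) (iv F102347)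
theorem F146664 : act 4 n34889 = n23948 := d34_1 D34889 (iv D23948) (iv F102348)
theorem F146665 : act 6 n34889 = n34889 := d41_1 D34889 (iv D34889) F102349
def n34891 : Q := act 9 n23947
theorem D34891 : act 9 n23947 = n34891 := rfl
theorem F146671 : act 0 n34891 = n23955 := d8_1 D34891 (iv D23955) (iv F102354)
theorem F146672 : act 3 n34891 = n34891 := d29_1 D34891 (iv D34891) F102355
theorem F146673 : act 5 n34891 = n23949 := d38_1 D34891 (iv D23949) (iv F102356)
theorem F146674 : act 7 n34891 = n23948 := d43_1 D34891 (iv D23948) (iv F102357)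
def n34894 : Q := act 3 n23951
theorem D34894 : act 3 n23951 = n34894 := rfl
theorem F146683 : act 1 n34894 = n34894 := d10_1 D34894 (iv D34894) F102370
theorem F146684 : act 4 n34894 = n34894 := d24_2 (iv F102371) D34894 (iv D34894) F102371 F71604
theorem F146685 : act 7 n34894 = n23952 := d27_2 (iv F102372) D34894 (iv D23952)
theorem F146686 : act 8 n34894 = n34894 := d28_2 D23951 D34894 (iv D34894) (iv D23951) F71594
def n34895 : Q := act 9 n23951
theorem D34895 : act 9 n23951 = n34895 := rfl
theorem F146687 : act 1 n34895 = n34895 := d16_1 D34895 (iv D34895) F102370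
theorem F146688 : act 4 n34895 = n23955 := d34_1 D34895 (iv D23955) (iv F102371)
theorem F146689 : act 7 n34895 = n23953 := d43_1 D34895 (iv D23953) (iv F102372)
def n34896 : Q := act 2 n23952
theorem D34896 : act 2 n23952 = n34896 := rfl
theorem F146690 : act 4 n34896 = n34896 := d18_2 F102374 D34896 (iv D34896)
theorem F146691 : act 6 n34896 = n34896 := d20_2 F102375 D34896 (iv D34896)
theorem F146692 : act 8 n34896 = n34896 := d22_2 F102376 D34896 (iv D34896)
def n34897 : Q := act 9 n23952
theorem D34897 : act 9 n23952 = n34897 := rfl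
theorem F146693 : act 1 n34897 = n34897 := d16_1 D34897 (iv D34897) F102373
theorem F146694 : act 3 n34897 = n23953 := d29_1 D34897 (iv D23953) D23952
theorem F146695 : act 4 n34897 = n34897 := d34_1 D34897 (iv D34897) F102374
theorem F146696 : act 6 n34897 = n34897 := d41_1 D34897 (iv D34897) F102375
def n34898 : Q := act 9 n23954
theorem D34898 : act 9 n23954 = n34898 := rfl
theorem F146700 : act 6 n34898 = n23955 := d41_1 D34898 (iv D23955) (iv F102383)
def n34910 : Q := act 9 n23961
theorem D34910 : act 9 n23961 = n34910 := rfl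
theorem F146758 : act 1 n34910 = n23984 := d16_1 D34910 (iv D23984) (iv F102416)
theorem F146760 : act 4 n34910 = n23966 := d34_1 D34910 (iv D23966) (iv F102418)
def n34914 : Q := act 3 n23964
theorem D34914 : act 3 n23964 = n34914 := rfl
theorem F146779 : act 6 n34914 = n24085 := d26_2 (iv F102435) D34914 (iv D24085)
theorem F146780 : act 7 n34914 = n23965 := d27_2 (iv F102436) D34914 (iv D23965)
def n34918 : Q := act 9 n23965
theorem D34918 : act 9 n23965 = n34918 := rfl
theorem F146797 : act 3 n34918 = n23966 := d29_1 D34918 (iv D23966) D23965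
theorem F146799 : act 6 n34918 = n23969 := d41_1 D34918 (iv D23969) (iv F102440)
def n34935 : Q := act 3 n23977
theorem D34935 : act 3 n23977 = n34935 := rfl
theorem F146873 : act 8 n34935 = n23983 := d28_2 D23977 D34935 (iv D23983) (iv D16475) (iv F71668)
def n34942 : Q := act 9 n23981
theorem D34942 : act 9 n23981 = n34942 := rfl
theorem F146902 : act 5 n34942 = n23984 := d38_1 D34942 (iv D23984) (iv F102514)
theorem F146903 : act 6 n34942 = n24291 := d41_1 D34942 (iv D24291) (iv F102515)
def n34946 : Q := act 4 n23983
theorem D34946 : act 4 n23983 = n34946 := rfl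
theorem F146918 : act 3 n34946 = n23990 := d24_1 D34946 (iv D23990) (iv D16479) (iv F71686) D23983
def n34968 : Q := act 2 n23999
theorem D34968 : act 2 n23999 = n34968 := rfl
theorem F147002 : act 5 n34968 = n24003 := d19_2 (iv F102584) D34968 (iv D24003)
theorem F147003 : act 6 n34968 = n24311 := d20_2 (iv F102585) D34968 (iv D24311)
def n34969 : Q := act 4 n23999
theorem D34969 : act 4 n23999 = n34969 := rfl
theorem F147006 : act 1 n34969 = n27200 := d11_1 D34969 (iv D27200) (iv F102583)
theorem F147008 : act 6 n34969 = n24312 := d31_2 (iv F102585) D34969 (iv D24312)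
def n34970 : Q := act 9 n23999
theorem D34970 : act 9 n23999 = n34970 := rfl
theorem F147013 : act 5 n34970 = n24004 := d38_1 D34970 (iv D24004) (iv F102584)
theorem F147014 : act 6 n34970 = n24313 := d41_1 D34970 (iv D24313) (iv F102585)
def n34978 : Q := act 8 n24006
theorem D34978 : act 8 n24006 = n34978 := rfl
theorem F147046 : act 5 n34978 = n24319 := d37_1 D34978 (iv D24319) (iv F102617)
theorem F147047 : act 7 n34978 = n24138 := d42_1 D34978 (iv D24138) (iv F102618)
def n34992 : Q := act 5 n24015
theorem D34992 : act 5 n24015 = n34992 := rfl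
theorem F147103 : act 1 n34992 = n34992 := d12_1 D34992 (iv D34992) F102655
theorem F147104 : act 4 n34992 = n24329 := d30_1 D34992 (iv D24329) (iv D16721) (iv F71783) D24015
theorem F147105 : act 7 n34992 = n24147 := d36_2 (iv F102656) D34992 (iv D24147)
theorem F147106 : act 8 n34992 = n24028 := d37_2 (iv F102657) D34992 (iv D24028)
def n34993 : Q := act 9 n24015
theorem D34993 : act 9 n24015 = n34993 := rfl
theorem F147107 : act 1 n34993 = n34993 := d16_1 D34993 (iv D34993) F102655
theorem F147108 : act 4 n34993 = n24016 := d34_1 D34993 (iv D24016) D24015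
theorem F147109 : act 7 n34993 = n24148 := d43_1 D34993 (iv D24148) (iv F102656)
def n34997 : Q := act 2 n24018
theorem D34997 : act 2 n24018 = n34997 := rfl
theorem F147127 : act 5 n34997 = n24022 := d19_2 (iv F102669) D34997 (iv D24022)
theorem F147128 : act 6 n34997 = n24332 := d20_2 (iv F102670) D34997 (iv D24332)
def n34999 : Q := act 9 n24018
theorem D34999 : act 9 n24018 = n34999 := rfl
theorem F147134 : act 5 n34999 = n24024 := d38_1 D34999 (iv D24024) (iv F102669)
theorem F147135 : act 6 n34999 = n24334 := d41_1 D34999 (iv D24334) (iv F102670)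
def n35000 : Q := act 2 n24020
theorem D35000 : act 2 n24020 = n35000 := rfl
theorem F147137 : act 6 n35000 = n24150 := d20_2 (iv F102678) D35000 (iv D24150)
theorem F147138 : act 7 n35000 = n24022 := d21_2 (iv F102679) D35000 (iv D24022)
def n35002 : Q := act 9 n24020
theorem D35002 : act 9 n24020 = n35002 := rfl
theorem F147146 : act 7 n35002 = n24024 := d43_1 D35002 (iv D24024) (iv F102679)
def n35006 : Q := act 5 n24023
theorem D35006 : act 5 n24023 = n35006 := rfl
theorem F147156 : act 3 n35006 = n24033 := d25_1 D35006 (iv D24033) (iv F102689)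
def n35012 : Q := act 5 n24026
theorem D35012 : act 5 n24026 = n35012 := rfl
theorem F147177 : act 4 n35012 = n24344 := d30_1 D35012 (iv D24344) (iv D16729) (iv F71815) D24026
theorem F147178 : act 7 n35012 = n24162 := d36_2 (iv F102699) D35012 (iv D24162)
def n35013 : Q := act 9 n24026
theorem D35013 : act 9 n24026 = n35013 := rfl
theorem F147180 : act 4 n35013 = n24027 := d34_1 D35013 (iv D24027) D24026
theorem F147181 : act 7 n35013 = n24163 := d43_1 D35013 (iv D24163) (iv F102699)
def n35015 : Q := act 6 n24028
theorem D35015 : act 6 n24028 = n35015 := rfl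
theorem F147186 : act 3 n35015 = n24036 := d26_1 D35015 (iv D24036) (iv F102705)
theorem F147187 : act 4 n35015 = n24347 := d31_1 D35015 (iv D24347) (iv F102706)
def n35018 : Q := act 5 n24031
theorem D35018 : act 5 n24031 = n35018 := rfl
theorem F147198 : act 7 n35018 = n24033 := d36_2 (iv F102718) D35018 (iv D24033)
def n35021 : Q := act 6 n24033
theorem D35021 : act 6 n24033 = n35021 := rfl
theorem F147208 : act 1 n35021 = n35021 := d13_1 D35021 (iv D35021) F102724
theorem F147209 : act 4 n35021 = n35021 := d31_1 D35021 (iv D35021) F102725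
theorem F147210 : act 5 n35021 = n24036 := d35_1 D35021 (iv D24036) (iv D16511) (iv F71835) D24033
def n35022 : Q := act 9 n24033
theorem D35022 : act 9 n24033 = n35022 := rfl
theorem F147213 : act 5 n35022 = n24034 := d38_1 D35022 (iv D24034) D24033
def n35024 : Q := act 7 n24036
theorem D35024 : act 7 n24036 = n35024 := rfl
theorem F147218 : act 4 n35024 = n24039 := d32_1 D35024 (iv D24039) (iv F102734)
theorem F147219 : act 6 n35024 = n24174 := d39_1 D35024 (iv D24174) (iv D16607) (iv F71842) D24036
def n35035 : Q := act 1 n24045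
theorem D35035 : act 1 n24045 = n35035 := rfl
theorem F147261 : act 5 n35035 = n24050 := d12_2 (iv F102769) D35035 (iv D24050)
theorem F147262 : act 6 n35035 = n24361 := d13_2 (iv F102770) D35035 (iv D24361)
def n35037 : Q := act 9 n24045
theorem D35037 : act 9 n24045 = n35037 := rfl
theorem F147268 : act 5 n35037 = n24051 := d38_1 D35037 (iv D24051) (iv F102769)
theorem F147269 : act 6 n35037 = n24363 := d41_1 D35037 (iv D24363) (iv F102770)
def n35038 : Q := act 9 n24046
theorem D35038 : act 9 n24046 = n35038 := rfl
theorem F147273 : act 6 n35038 = n24364 := d41_1 D35038 (iv D24364) (iv F102774)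
def n35039 : Q := act 8 n24047
theorem D35039 : act 8 n24047 = n35039 := rfl
theorem F147276 : act 5 n35039 = n24052 := d37_1 D35039 (iv D24052) (iv F102778)
theorem F147277 : act 6 n35039 = n24365 := d40_1 D35039 (iv D24365) (iv F102779)
def n35040 : Q := act 1 n24048
theorem D35040 : act 1 n24048 = n35040 := rfl
theorem F147280 : act 6 n35040 = n24182 := d13_2 (iv F102780) D35040 (iv D24182)
theorem F147281 : act 7 n35040 = n24050 := d14_2 (iv F102781) D35040 (iv D24050)
def n35042 : Q := act 8 n24049
theorem D35042 : act 8 n24049 = n35042 := rfl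
theorem F147288 : act 6 n35042 = n24184 := d40_1 D35042 (iv D24184) (iv F102785)
theorem F147289 : act 7 n35042 = n24052 := d42_1 D35042 (iv D24052) (iv F102786)
def n35047 : Q := act 8 n24054
theorem D35047 : act 8 n24054 = n35047 := rfl
theorem F147306 : act 5 n35047 = n24370 := d37_1 D35047 (iv D24370) (iv F102802)
theorem F147307 : act 7 n35047 = n24189 := d42_1 D35047 (iv D24189) (iv F102803)
def n35056 : Q := act 9 n24059
theorem D35056 : act 9 n24059 = n35056 := rfl
theorem F147350 : act 5 n35056 = n24068 := d38_1 D35056 (iv D24068) (iv F102825)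
theorem F147351 : act 6 n35056 = n24374 := d41_1 D35056 (iv D24374) (iv F102826)
def n35058 : Q := act 9 n24060
theorem D35058 : act 9 n24060 = n35058 := rfl
theorem F147359 : act 6 n35058 = n24376 := d41_1 D35058 (iv D24376) (iv F102830)
def n35059 : Q := act 8 n24061
theorem D35059 : act 8 n24061 = n35059 := rfl
theorem F147362 : act 5 n35059 = n24069 := d37_1 D35059 (iv D24069) (iv F102835)
theorem F147363 : act 6 n35059 = n24377 := d40_1 D35059 (iv D24377) (iv F102836)
def n35060 : Q := act 8 n24062
theorem D35060 : act 8 n24062 = n35060 := rfl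
theorem F147367 : act 6 n35060 = n24378 := d40_1 D35060 (iv D24378) (iv F102840)
def n35062 : Q := act 9 n24064
theorem D35062 : act 9 n24064 = n35062 := rfl
theorem F147376 : act 6 n35062 = n24192 := d41_1 D35062 (iv D24192) (iv F102847)
theorem F147377 : act 7 n35062 = n24068 := d43_1 D35062 (iv D24068) (iv F102848)
def n35063 : Q := act 8 n24065
theorem D35063 : act 8 n24065 = n35063 := rfl
theorem F147380 : act 6 n35063 = n24193 := d40_1 D35063 (iv D24193) (iv F102853)
theorem F147381 : act 7 n35063 = n24069 := d42_1 D35063 (iv D24069) (iv F102854)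
def n35084 : Q := act 9 n24080
theorem D35084 : act 9 n24080 = n35084 := rfl
theorem F147474 : act 1 n35084 = n24112 := d16_1 D35084 (iv D24112) (iv F102920)
def n35117 : Q := act 3 n24102
theorem D35117 : act 3 n24102 = n35117 := rfl
theorem F147598 : act 8 n35117 = n24108 := d28_2 D24102 D35117 (iv D24108) (iv D16562) (iv F72039)
def n35127 : Q := act 8 n24107
theorem D35127 : act 8 n24107 = n35127 := rfl
theorem F147634 : act 9 n35127 = n24118 := d44_2 D24107 D35127 (iv D24118) (iv D16567) (iv F72048)
def n35175 : Q := act 5 n24142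
theorem D35175 : act 5 n24142 = n35175 := rfl
theorem F147799 : act 1 n35175 = n35175 := d12_1 D35175 (iv D35175) F103144
theorem F147800 : act 4 n35175 = n35175 := d30_1 D35175 (iv D35175) (iv D24142) F72141 D24142
theorem F147801 : act 8 n35175 = n24156 := d37_2 (iv F103146) D35175 (iv D24156)
def n35176 : Q := act 9 n24142
theorem D35176 : act 9 n24142 = n35176 := rfl
theorem F147802 : act 1 n35176 = n35176 := d16_1 D35176 (iv D35176) F103144
theorem F147803 : act 4 n35176 = n24143 := d34_1 D35176 (iv D24143) D24142
theorem F147804 : act 6 n35176 = n24148 := d41_1 D35176 (iv D24148) (iv F103145)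
def n35181 : Q := act 3 n24145
theorem D35181 : act 3 n24145 = n35181 := rfl
theorem F147821 : act 4 n35181 = n35181 := d24_2 D24145 D35181 (iv D35181) (iv D24145) F72149
def n35182 : Q := act 5 n24145
theorem D35182 : act 5 n24145 = n35182 := rfl
theorem F147822 : act 2 n35182 = n24147 := d19_1 D35182 (iv D24147) (iv F103155)
theorem F147823 : act 4 n35182 = n24444 := d30_1 D35182 (iv D24444) (iv D16802) (iv F72150) D24145
def n35183 : Q := act 9 n24145
theorem D35183 : act 9 n24145 = n35183 := rfl
theorem F147825 : act 2 n35183 = n24148 := d23_1 D35183 (iv D24148) (iv F103155)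
theorem F147826 : act 4 n35183 = n24146 := d34_1 D35183 (iv D24146) D24145
def n35184 : Q := act 8 n24146
theorem D35184 : act 8 n24146 = n35184 := rfl
theorem F147829 : act 9 n35184 = n24164 := d44_2 D24146 D35184 (iv D24164) (iv D16598) (iv F72151)
def n35185 : Q := act 6 n24147
theorem D35185 : act 6 n24147 = n35185 := rfl
theorem F147830 : act 1 n35185 = n35185 := d13_1 D35185 (iv D35185) F103160
theorem F147831 : act 4 n35185 = n24447 := d31_1 D35185 (iv D24447) (iv F103161)
theorem F147832 : act 8 n35185 = n24165 := d40_2 (iv F103162) D35185 (iv D24165)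
def n35186 : Q := act 9 n24147
theorem D35186 : act 9 n24147 = n35186 := rfl
theorem F147834 : act 4 n35186 = n24448 := d34_1 D35186 (iv D24448) (iv F103161)
theorem F147835 : act 5 n35186 = n24148 := d38_1 D35186 (iv D24148) D24147
def n35187 : Q := act 8 n24148
theorem D35187 : act 8 n24148 = n35187 := rfl
theorem F147838 : act 9 n35187 = n24167 := d44_2 D24148 D35187 (iv D24167) (iv D16600) (iv F72153)
def n35188 : Q := act 1 n24150
theorem D35188 : act 1 n24150 = n35188 := rfl
theorem F147840 : act 3 n35188 = n24182 := d10_2 (iv F103169) D35188 (iv D24182)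
theorem F147842 : act 7 n35188 = n24153 := d14_2 (iv F103171) D35188 (iv D24153)
def n35200 : Q := act 6 n24156
theorem D35200 : act 6 n24156 = n35200 := rfl
theorem F147881 : act 1 n35200 = n35200 := d13_1 D35200 (iv D35200) F103189
theorem F147882 : act 3 n35200 = n24171 := d26_1 D35200 (iv D24171) (iv F103190)
theorem F147883 : act 4 n35200 = n35200 := d31_1 D35200 (iv D35200) F103191
theorem F147884 : act 5 n35200 = n24165 := d35_1 D35200 (iv D24165) (iv D16599) (iv F72171) D24156
def n35208 : Q := act 6 n24162
theorem D35208 : act 6 n24162 = n35208 := rfl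
theorem F147907 : act 2 n35208 = n24165 := d20_1 D35208 (iv D24165) (iv F103209)
theorem F147908 : act 4 n35208 = n24455 := d31_1 D35208 (iv D24455) (iv F103210)
def n35209 : Q := act 9 n24162
theorem D35209 : act 9 n24162 = n35209 := rfl
theorem F147910 : act 4 n35209 = n24456 := d34_1 D35209 (iv D24456) (iv F103210)
theorem F147911 : act 5 n35209 = n24163 := d38_1 D35209 (iv D24163) D24162
def n35212 : Q := act 7 n24165
theorem D35212 : act 7 n24165 = n35212 := rfl
theorem F147918 : act 3 n35212 = n24174 := d27_1 D35212 (iv D24174) (iv F103216)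
theorem F147919 : act 4 n35212 = n24459 := d32_1 D35212 (iv D24459) (iv F103217)
def n35213 : Q := act 9 n24165
theorem D35213 : act 9 n24165 = n35213 := rfl
theorem F147923 : act 6 n35213 = n24166 := d41_1 D35213 (iv D24166) D24165
def n35216 : Q := act 6 n24168
theorem D35216 : act 6 n24168 = n35216 := rfl
theorem F147930 : act 1 n35216 = n35216 := d13_1 D35216 (iv D35216) F103224
theorem F147931 : act 4 n35216 = n24240 := d31_1 D35216 (iv D24240) (iv F103225)
def n35219 : Q := act 7 n24171
theorem D35219 : act 7 n24171 = n35219 := rfl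
theorem F147939 : act 1 n35219 = n35219 := d14_1 D35219 (iv D35219) F103234
theorem F147940 : act 4 n35219 = n24243 := d32_1 D35219 (iv D24243) (iv F103235)
theorem F147941 : act 5 n35219 = n24174 := d36_1 D35219 (iv D24174) (iv F103236)
def n35302 : Q := act 2 n24238
theorem D35302 : act 2 n24238 = n35302 := rfl
theorem F148260 : act 0 n35302 = n24253 := d1_1 D35302 (iv D24253) (iv F103491)
theorem F148263 : act 8 n35302 = n24496 := d22_2 (iv F103494) D35302 (iv D24496)
def n35305 : Q := act 7 n24240
theorem D35305 : act 7 n24240 = n35305 := rfl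
theorem F148271 : act 1 n35305 = n35305 := d14_1 D35305 (iv D35305) F103499
theorem F148272 : act 3 n35305 = n35305 := d27_1 D35305 (iv D35305) F103500
theorem F148273 : act 5 n35305 = n35305 := d36_1 D35305 (iv D35305) F103501
theorem F148274 : act 6 n35305 = n24243 := d39_1 D35305 (iv D24243) (iv D16663) (iv F72409) D24240
def n35315 : Q := act 2 n24249
theorem D35315 : act 2 n24249 = n35315 := rfl
def n35316 : Q := act 4 n24249
theorem D35316 : act 4 n24249 = n35316 := rfl
theorem F148311 : act 3 n35316 = n24254 := d24_1 D35316 (iv D24254) (iv D16672) (iv F72437) D24249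
def n35319 : Q := act 2 n24252
theorem D35319 : act 2 n24252 = n35319 := rfl
theorem F148323 : act 6 n35319 = n24253 := d20_2 (iv F103542) D35319 (iv D24253)
theorem F148324 : act 8 n35319 = n24500 := d22_2 (iv F103543) D35319 (iv D24500)
def n35321 : Q := act 1 n24253
theorem D35321 : act 1 n24253 = n35321 := rfl
theorem F148329 : act 5 n35321 = n24255 := d12_2 (iv F103544) D35321 (iv D24255)
def n35380 : Q := act 8 n24289
theorem D35380 : act 8 n24289 = n35380 := rfl
theorem F148618 : act 9 n35380 = n24300 := d44_2 D24289 D35380 (iv D24300) (iv D16700) (iv F72561)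
def n35412 : Q := act 9 n24311
theorem D35412 : act 9 n24311 = n35412 := rfl
theorem F148750 : act 2 n35412 = n24313 := d23_1 D35412 (iv D24313) D24311
def n35413 : Q := act 9 n24312
theorem D35413 : act 9 n24312 = n35413 := rfl
theorem F148754 : act 1 n35413 = n27644 := d16_1 D35413 (iv D27644) (iv F103821)
def n35414 : Q := act 8 n24313
theorem D35414 : act 8 n24313 = n35414 := rfl
theorem F148760 : act 1 n35414 = n27645 := d15_1 D35414 (iv D27645) (iv F103827)
theorem F148762 : act 5 n35414 = n24316 := d37_1 D35414 (iv D24316) (iv F103829)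
def n35417 : Q := act 8 n24315
theorem D35417 : act 8 n24315 = n35417 := rfl
theorem F148777 : act 2 n35417 = n24316 := d22_1 D35417 (iv D24316) (iv F103837)
theorem F148779 : act 6 n35417 = n24319 := d40_1 D35417 (iv D24319) (iv F103839)
def n35429 : Q := act 5 n24324
theorem D35429 : act 5 n24324 = n35429 := rfl
def n35436 : Q := act 5 n24327
theorem D35436 : act 5 n24327 = n35436 := rfl
theorem F148860 : act 2 n35436 = n24329 := d19_1 D35436 (iv D24329) (iv F103893)
theorem F148861 : act 7 n35436 = n24444 := d36_2 (iv F103894) D35436 (iv D24444)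
def n35440 : Q := act 9 n24329
theorem D35440 : act 9 n24329 = n35440 := rfl
theorem F148875 : act 7 n35440 = n24448 := d43_1 D35440 (iv D24448) (iv F103901)
def n35444 : Q := act 9 n24332
theorem D35444 : act 9 n24332 = n35444 := rfl
theorem F148886 : act 2 n35444 = n24334 := d23_1 D35444 (iv D24334) D24332
theorem F148887 : act 3 n35444 = n24363 := d29_1 D35444 (iv D24363) (iv F103911)
def n35463 : Q := act 9 n24344
theorem D35463 : act 9 n24344 = n35463 := rfl
def n35485 : Q := act 9 n24361
theorem D35485 : act 9 n24361 = n35485 := rfl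
theorem F149056 : act 1 n35485 = n24363 := d16_1 D35485 (iv D24363) D24361
def n35488 : Q := act 8 n24363
theorem D35488 : act 8 n24363 = n35488 := rfl
theorem F149067 : act 2 n35488 = n24365 := d22_1 D35488 (iv D24365) (iv F104036)
theorem F149068 : act 5 n35488 = n24368 := d37_1 D35488 (iv D24368) (iv F104037)
def n35489 : Q := act 8 n24364
theorem D35489 : act 8 n24364 = n35489 := rfl
theorem F149071 : act 1 n35489 = n24378 := d15_1 D35489 (iv D24378) (iv F104039)
theorem F149072 : act 4 n35489 = n24365 := d33_1 D35489 (iv D24365) (iv F104041)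
def n35491 : Q := act 8 n24367
theorem D35491 : act 8 n24367 = n35491 := rfl
theorem F149081 : act 1 n35491 = n24368 := d15_1 D35491 (iv D24368) (iv F104054)
theorem F149084 : act 6 n35491 = n24370 := d40_1 D35491 (iv D24370) (iv F104057)
def n35500 : Q := act 8 n24374
theorem D35500 : act 8 n24374 = n35500 := rfl
theorem F149121 : act 1 n35500 = n24377 := d15_1 D35500 (iv D24377) (iv F104085)
theorem F149122 : act 5 n35500 = n24380 := d37_1 D35500 (iv D24380) (iv F104087)
def n35503 : Q := act 8 n24376
theorem D35503 : act 8 n24376 = n35503 := rfl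
theorem F149138 : act 2 n35503 = n24378 := d22_1 D35503 (iv D24378) (iv F104095)
theorem F149139 : act 4 n35503 = n24377 := d33_1 D35503 (iv D24377) (iv F104096)
def n35505 : Q := act 3 n24378
theorem D35505 : act 3 n24378 = n35505 := rfl
theorem F149149 : act 0 n35505 = n27736 := d2_1 D35505 (iv D27736) (iv F104104)
def n35601 : Q := act 6 n24444
theorem D35601 : act 6 n24444 = n35601 := rfl
theorem F149554 : act 2 n35601 = n24447 := d20_1 D35601 (iv D24447) (iv F104387)
theorem F149556 : act 8 n35601 = n24455 := d40_2 (iv F104388) D35601 (iv D24455)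
def n35606 : Q := act 9 n24447
theorem D35606 : act 9 n24447 = n35606 := rfl
def n35607 : Q := act 8 n24448
theorem D35607 : act 8 n24448 = n35607 := rfl
theorem F149577 : act 9 n35607 = n24461 := d44_2 D24448 D35607 (iv D24461) (iv D16814) (iv F73045)
def n35617 : Q := act 9 n24455
theorem D35617 : act 9 n24455 = n35617 := rfl
theorem F149615 : act 6 n35617 = n24456 := d41_1 D35617 (iv D24456) D24455
def n35621 : Q := act 9 n24459
theorem D35621 : act 9 n24459 = n35621 := rfl
theorem F149626 : act 7 n35621 = n24460 := d43_1 D35621 (iv D24460) D24459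
def n35667 : Q := act 2 n24495
theorem D35667 : act 2 n24495 = n35667 := rfl
theorem F149828 : act 6 n35667 = n24496 := d20_2 (iv F104600) D35667 (iv D24496)
def n35672 : Q := act 2 n24499
theorem D35672 : act 2 n24499 = n35672 := rfl
theorem F149850 : act 7 n35672 = n24500 := d21_2 (iv F104618) D35672 (iv D24500)
def n35681 : Q := act 8 n24506
theorem D35681 : act 8 n24506 = n35681 := rfl
theorem F149898 : act 9 n35681 = n24507 := d44_2 D24506 D35681 (iv D24507) (iv D16852) D16851
def n35886 : Q := act 3 n24643
theorem D35886 : act 3 n24643 = n35886 := rfl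
theorem F150834 : act 1 n35886 = n24647 := d10_1 D35886 (iv D24647) (iv F105306)
theorem F150835 : act 6 n35886 = n24831 := d26_2 (iv F105308) D35886 (iv D24831)
def n35895 : Q := act 4 n24647
theorem D35895 : act 4 n24647 = n35895 := rfl
theorem F150874 : act 0 n35895 = n24661 := d3_1 D35895 (iv D24661) (iv F105322)
theorem F150877 : act 6 n35895 = n24840 := d31_2 (iv F105324) D35895 (iv D24840)
def n35916 : Q := act 5 n24661
theorem D35916 : act 5 n24661 = n35916 := rfl
def n35917 : Q := act 9 n24661
theorem D35917 : act 9 n24661 = n35917 := rfl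
theorem F150975 : act 6 n35917 = n24862 := d41_1 D35917 (iv D24862) (iv F105385)
def n36067 : Q := act 7 n24762
theorem D36067 : act 7 n24762 = n36067 := rfl
theorem F151595 : act 2 n36067 = n24786 := d21_1 D36067 (iv D24786) (iv F105814)
theorem F151597 : act 4 n36067 = n24764 := d32_1 D36067 (iv D24764) (iv F105816)
def n36166 : Q := act 8 n24828
theorem D36166 : act 8 n24828 = n36166 := rfl
theorem F151972 : act 4 n36166 = n24830 := d33_1 D36166 (iv D24830) D24828
theorem F151974 : act 7 n36166 = n25112 := d42_1 D36166 (iv D25112) (iv F106064)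
def n36169 : Q := act 3 n24830
theorem D36169 : act 3 n24830 = n36169 := rfl
theorem F151984 : act 5 n36169 = n24831 := d25_2 (iv F106070) D36169 (iv D24831)
theorem F151985 : act 7 n36169 = n25115 := d27_2 (iv F106071) D36169 (iv D25115)
def n36172 : Q := act 4 n24831
theorem D36172 : act 4 n24831 = n36172 := rfl
theorem F151996 : act 1 n36172 = n24840 := d11_1 D36172 (iv D24840) (iv F106073)
theorem F151998 : act 7 n36172 = n25118 := d32_2 (iv F106074) D36172 (iv D25118)
def n36191 : Q := act 8 n24843
theorem D36191 : act 8 n24843 = n36191 := rfl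
theorem F152074 : act 6 n36191 = n25137 := d40_1 D36191 (iv D25137) (iv F106124)
theorem F152075 : act 7 n36191 = n24844 := d42_1 D36191 (iv D24844) D24843
def n36192 : Q := act 3 n24844
theorem D36192 : act 3 n24844 = n36192 := rfl
theorem F152079 : act 8 n36192 = n25351 := d28_2 D24844 D36192 (iv D25351) (iv D17416) (iv F74270)
def n36230 : Q := act 8 n24870
theorem D36230 : act 8 n24870 = n36230 := rfl
theorem F152235 : act 9 n36230 = n25389 := d44_2 D24870 D36230 (iv D25389) (iv D17442) (iv F74338)
def n36234 : Q := act 2 n24874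
theorem D36234 : act 2 n24874 = n36234 := rfl
theorem F152249 : act 8 n36234 = n25393 := d22_2 (iv F106245) D36234 (iv D25393)
def n36237 : Q := act 2 n24876
theorem D36237 : act 2 n24876 = n36237 := rfl
theorem F152258 : act 6 n36237 = n25183 := d20_2 (iv F106250) D36237 (iv D25183)
theorem F152259 : act 7 n36237 = n24878 := d21_2 (iv F106251) D36237 (iv D24878)
theorem F152260 : act 8 n36237 = n25396 := d22_2 (iv F106252) D36237 (iv D25396)
def n36242 : Q := act 0 n24880
theorem D36242 : act 0 n24880 = n36242 := rfl
theorem F152279 : act 7 n36242 = n25188 := d6_2 (iv F106267) D36242 (iv D25188)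
def n36583 : Q := act 2 n25110
theorem D36583 : act 2 n25110 = n36583 := rfl
theorem F153556 : act 1 n36583 = n25601 := d9_1 D36583 (iv D25601) F76260 (iv F74984) (iv F107143)
def n36626 : Q := act 8 n25135
theorem D36626 : act 8 n25135 = n36626 := rfl
theorem F153726 : act 5 n36626 = n25137 := d37_1 D36626 (iv D25137) (iv F107242)
def n36627 : Q := act 3 n25136
theorem D36627 : act 3 n25136 = n36627 := rfl
theorem F153729 : act 5 n36627 = n25138 := d25_2 (iv F107245) D36627 (iv D25138)
theorem F153731 : act 8 n36627 = n25645 := d28_2 D25136 D36627 (iv D25645) (iv D17613) (iv F75019)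
def n36688 : Q := act 2 n25178
theorem D36688 : act 2 n25178 = n36688 := rfl
theorem F153956 : act 5 n36688 = n25183 := d19_2 (iv F107402) D36688 (iv D25183)
theorem F153958 : act 8 n36688 = n25706 := d22_2 (iv F107404) D36688 (iv D25706)
def n36735 : Q := act 3 n25209
theorem D36735 : act 3 n25209 = n36735 := rfl
theorem F154169 : act 0 n36735 = n25218 := d2_1 D36735 (iv D25218) (iv F107542)
theorem F154172 : act 7 n36735 = n25434 := d27_2 (iv F107546) D36735 (iv D25434)
def n36749 : Q := act 4 n25218
theorem D36749 : act 4 n25218 = n36749 := rfl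
theorem F154233 : act 3 n36749 = n25251 := d24_1 D36749 (iv D25251) (iv D17350) (iv F75253) D25218
theorem F154235 : act 7 n36749 = n25448 := d32_2 (iv F107586) D36749 (iv D25448)
def n36750 : Q := act 9 n25218
theorem D36750 : act 9 n25218 = n36750 := rfl
theorem F154240 : act 7 n36750 = n25449 := d43_1 D36750 (iv D25449) (iv F107586)
def n36768 : Q := act 8 n25232
theorem D36768 : act 8 n25232 = n36768 := rfl
theorem F154313 : act 1 n36768 = n25236 := d15_1 D36768 (iv D25236) (iv F107644)
theorem F154315 : act 7 n36768 = n25467 := d42_1 D36768 (iv D25467) (iv F107646)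
def n36769 : Q := act 3 n25233
theorem D36769 : act 3 n25233 = n36769 := rfl
theorem F154317 : act 1 n36769 = n25237 := d10_1 D36769 (iv D25237) (iv F107649)
theorem F154319 : act 7 n36769 = n25468 := d27_2 (iv F107651) D36769 (iv D25468)
def n36770 : Q := act 9 n25233
theorem D36770 : act 9 n25233 = n36770 := rfl
theorem F154322 : act 1 n36770 = n25238 := d16_1 D36770 (iv D25238) (iv F107649)
theorem F154324 : act 7 n36770 = n25469 := d43_1 D36770 (iv D25469) (iv F107651)
def n36776 : Q := act 3 n25236
theorem D36776 : act 3 n25236 = n36776 := rfl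
theorem F154351 : act 7 n36776 = n25475 := d27_2 (iv F107664) D36776 (iv D25475)
def n36777 : Q := act 9 n25236
theorem D36777 : act 9 n25236 = n36777 := rfl
theorem F154355 : act 5 n36777 = n25238 := d38_1 D36777 (iv D25238) (iv F107663)
theorem F154356 : act 7 n36777 = n25476 := d43_1 D36777 (iv D25476) (iv F107664)
def n36778 : Q := act 4 n25237
theorem D36778 : act 4 n25237 = n36778 := rfl
theorem F154361 : act 7 n36778 = n25477 := d32_2 (iv F107668) D36778 (iv D25477)
def n36779 : Q := act 9 n25237
theorem D36779 : act 9 n25237 = n36779 := rfl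
theorem F154365 : act 3 n36779 = n25238 := d29_1 D36779 (iv D25238) D25237
def n36798 : Q := act 9 n25249
theorem D36798 : act 9 n25249 = n36798 := rfl
theorem F154443 : act 3 n36798 = n25250 := d29_1 D36798 (iv D25250) D25249
def n36800 : Q := act 9 n25251
theorem D36800 : act 9 n25251 = n36800 := rfl
theorem F154452 : act 4 n36800 = n25252 := d34_1 D36800 (iv D25252) D25251
theorem F154454 : act 7 n36800 = n25499 := d43_1 D36800 (iv D25499) (iv F107730)
def n36815 : Q := act 9 n25262
theorem D36815 : act 9 n25262 = n36815 := rfl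
theorem F154509 : act 6 n36815 = n25514 := d41_1 D36815 (iv D25514) (iv F107773)
def n36828 : Q := act 2 n25271
theorem D36828 : act 2 n25271 = n36828 := rfl
theorem F154565 : act 7 n36828 = n25527 := d21_2 (iv F107810) D36828 (iv D25527)
def n36873 : Q := act 8 n25300
theorem D36873 : act 8 n25300 = n36873 := rfl
theorem F154753 : act 3 n36873 = n25375 := d28_1 D36873 (iv D25375) F75691 (iv F75490) (iv F107936)
def n36876 : Q := act 8 n25302
theorem D36876 : act 8 n25302 = n36876 := rfl
theorem F154766 : act 4 n36876 = n25303 := d33_1 D36876 (iv D25303) (iv F107945)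
def n36887 : Q := act 8 n25310
theorem D36887 : act 8 n25310 = n36887 := rfl
theorem F154806 : act 3 n36887 = n25389 := d28_1 D36887 (iv D25389) F75731 (iv F75518) (iv F107974)
def n36940 : Q := act 8 n25344
theorem D36940 : act 8 n25344 = n36940 := rfl
theorem F155022 : act 7 n36940 = n25639 := d42_1 D36940 (iv D25639) (iv F108115)
def n37072 : Q := act 4 n25434
theorem D37072 : act 4 n25434 = n37072 := rfl
theorem F155548 : act 3 n37072 = n25477 := d24_1 D37072 (iv D25477) (iv D17501) (iv F75859) D25434
theorem F155549 : act 6 n37072 = n25771 := d31_2 (iv F108482) D37072 (iv D25771)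
def n37094 : Q := act 9 n25448
theorem D37094 : act 9 n25448 = n37094 := rfl
theorem F155629 : act 3 n37094 = n25499 := d29_1 D37094 (iv D25499) (iv F108534)
theorem F155630 : act 4 n37094 = n25449 := d34_1 D37094 (iv D25449) D25448
def n37122 : Q := act 2 n25468
theorem D37122 : act 2 n25468 = n37122 := rfl
theorem F155731 : act 1 n37122 = n25527 := d9_1 D37122 (iv D25527) F76081 (iv F75961) (iv F108606)
theorem F155732 : act 6 n37122 = n25821 := d20_2 (iv F108607) D37122 (iv D25821)
def n37136 : Q := act 9 n25475
theorem D37136 : act 9 n25475 = n37136 := rfl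
theorem F155784 : act 3 n37136 = n25476 := d29_1 D37136 (iv D25476) D25475
def n37164 : Q := act 9 n25494
theorem D37164 : act 9 n25494 = n37164 := rfl
theorem F155881 : act 3 n37164 = n25495 := d29_1 D37164 (iv D25495) D25494
def n37167 : Q := act 8 n25497
theorem D37167 : act 8 n25497 = n37167 := rfl
def n37174 : Q := act 9 n25502
theorem D37174 : act 9 n25502 = n37174 := rfl
theorem F155918 : act 4 n37174 = n25873 := d34_1 D37174 (iv D25873) (iv F108732)
theorem F155919 : act 5 n37174 = n25505 := d38_1 D37174 (iv D25505) (iv F108733)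
def n37178 : Q := act 9 n25504
theorem D37178 : act 9 n25504 = n37178 := rfl
theorem F155931 : act 3 n37178 = n25505 := d29_1 D37178 (iv D25505) D25504
theorem F155932 : act 4 n37178 = n25583 := d34_1 D37178 (iv D25583) (iv F108738)
def n37277 : Q := act 8 n25569
theorem D37277 : act 8 n25569 = n37277 := rfl
theorem F156272 : act 6 n37277 = n25572 := d40_1 D37277 (iv D25572) (iv F108969)
def n37307 : Q := act 9 n25591
theorem D37307 : act 9 n25591 = n37307 := rfl
theorem F156362 : act 3 n37307 = n26006 := d29_1 D37307 (iv D26006) (iv F109037)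
theorem F156363 : act 4 n37307 = n25592 := d34_1 D37307 (iv D25592) D25591
def n37325 : Q := act 7 n25604
theorem D37325 : act 7 n25604 = n37325 := rfl
theorem F156417 : act 0 n37325 = n26497 := d6_1 D37325 (iv D26497) (iv F109071)
theorem F156418 : act 1 n37325 = n25625 := d14_1 D37325 (iv D25625) (iv F109072)
def n37326 : Q := act 8 n25604
theorem D37326 : act 8 n25604 = n37326 := rfl
theorem F156421 : act 0 n37326 = n26498 := d7_1 D37326 (iv D26498) (iv F109071)
theorem F156422 : act 1 n37326 = n25626 := d15_1 D37326 (iv D25626) (iv F109072)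
def n37378 : Q := act 8 n25636
theorem D37378 : act 8 n25636 = n37378 := rfl
theorem F156616 : act 5 n37378 = n26076 := d37_1 D37378 (iv D26076) (iv F109193)
theorem F156617 : act 6 n37378 = n25639 := d40_1 D37378 (iv D25639) (iv F109194)
def n37390 : Q := act 4 n25645
theorem D37390 : act 4 n25645 = n37390 := rfl
theorem F156664 : act 3 n37390 = n26088 := d24_1 D37390 (iv D26088) (iv D17909) (iv F76358) D25645
def n37629 : Q := act 8 n25810
theorem D37629 : act 8 n25810 = n37629 := rfl
theorem F157603 : act 6 n37629 = n25813 := d40_1 D37629 (iv D25813) (iv F109871)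
def n37685 : Q := act 8 n25845
theorem D37685 : act 8 n25845 = n37685 := rfl
theorem F157835 : act 0 n37685 = n25880 := d7_1 D37685 (iv D25880) (iv F110014)
theorem F157837 : act 4 n37685 = n25947 := d33_1 D37685 (iv D25947) (iv F110016)
def n37714 : Q := act 8 n25863
theorem D37714 : act 8 n25863 = n37714 := rfl
def n37727 : Q := act 9 n25872
theorem D37727 : act 9 n25872 = n37727 := rfl
theorem F157994 : act 3 n37727 = n25873 := d29_1 D37727 (iv D25873) D25872
theorem F157995 : act 5 n37727 = n25877 := d38_1 D37727 (iv D25877) (iv F110125)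
def n37732 : Q := act 8 n25877
theorem D37732 : act 8 n25877 = n37732 := rfl
theorem F158015 : act 6 n37732 = n25880 := d40_1 D37732 (iv D25880) (iv F110146)
def n37745 : Q := act 8 n25886
theorem D37745 : act 8 n25886 = n37745 := rfl
theorem F158058 : act 5 n37745 = n25891 := d37_1 D37745 (iv D25891) (iv F110175)
def n37753 : Q := act 8 n25893
theorem D37753 : act 8 n25893 = n37753 := rfl
theorem F158091 : act 1 n37753 = n25894 := d15_1 D37753 (iv D25894) (iv F110201)
theorem F158092 : act 4 n37753 = n26015 := d33_1 D37753 (iv D26015) (iv F110203)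
def n37769 : Q := act 9 n25901
theorem D37769 : act 9 n25901 = n37769 := rfl
theorem F158165 : act 0 n37769 = n26673 := d8_1 D37769 (iv D26673) (iv F110238)
theorem F158166 : act 1 n37769 = n25926 := d16_1 D37769 (iv D25926) (iv F110239)
def n37807 : Q := act 9 n25924
theorem D37807 : act 9 n25924 = n37807 := rfl
theorem F158325 : act 2 n37807 = n25926 := d23_1 D37807 (iv D25926) D25924
theorem F158326 : act 3 n37807 = n25946 := d29_1 D37807 (iv D25946) (iv F110341)
def n37836 : Q := act 8 n25946
theorem D37836 : act 8 n25946 = n37836 := rfl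
theorem F158432 : act 0 n37836 = n25997 := d7_1 D37836 (iv D25997) (iv F110423)
def n37865 : Q := act 9 n25963
theorem D37865 : act 9 n25963 = n37865 := rfl
theorem F158550 : act 2 n37865 = n25965 := d23_1 D37865 (iv D25965) D25963
theorem F158551 : act 3 n37865 = n25993 := d29_1 D37865 (iv D25993) (iv F110497)
def n37880 : Q := act 8 n25973
theorem D37880 : act 8 n25973 = n37880 := rfl
theorem F158602 : act 3 n37880 = n26135 := d28_1 D37880 (iv D26135) F77672 (iv F77231) (iv F110532)
def n37907 : Q := act 8 n25993
theorem D37907 : act 8 n25993 = n37907 := rfl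
theorem F158704 : act 6 n37907 = n25997 := d40_1 D37907 (iv D25997) (iv F110604)
def n37909 : Q := act 8 n25996
theorem D37909 : act 8 n25996 = n37909 := rfl
theorem F158710 : act 1 n37909 = n25997 := d15_1 D37909 (iv D25997) (iv F110613)
theorem F158711 : act 2 n37909 = n26015 := d22_1 D37909 (iv D26015) (iv F110614)
def n37925 : Q := act 8 n26006
theorem D37925 : act 8 n26006 = n37925 := rfl
theorem F158769 : act 4 n37925 = n26007 := d33_1 D37925 (iv D26007) (iv F110650)
def n37930 : Q := act 8 n26012
theorem D37930 : act 8 n26012 = n37930 := rfl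
theorem F158790 : act 6 n37930 = n26015 := d40_1 D37930 (iv D26015) (iv F110673)
def n37998 : Q := act 1 n26054
theorem D37998 : act 1 n26054 = n37998 := rfl
theorem F159092 : act 8 n37998 = n26066 := d15_2 (iv F110857) D37998 (iv D26066)
def n38007 : Q := act 2 n26059
theorem D38007 : act 2 n26059 = n38007 := rfl
theorem F159129 : act 5 n38007 = n26063 := d19_2 (iv F110875) D38007 (iv D26063)
def n38015 : Q := act 9 n26063
theorem D38015 : act 9 n26063 = n38015 := rfl
theorem F159158 : act 3 n38015 = n26093 := d29_1 D38015 (iv D26093) (iv F110890)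
def n38017 : Q := act 9 n26064
theorem D38017 : act 9 n26064 = n38017 := rfl
theorem F159163 : act 3 n38017 = n26075 := d29_1 D38017 (iv D26075) (iv F110893)
def n38020 : Q := act 9 n26066
theorem D38020 : act 9 n26066 = n38020 := rfl
theorem F159173 : act 1 n38020 = n26068 := d16_1 D38020 (iv D26068) D26066
def n38032 : Q := act 8 n26075
theorem D38032 : act 8 n26075 = n38032 := rfl
theorem F159225 : act 4 n38032 = n26076 := d33_1 D38032 (iv D26076) (iv F110937)
def n38046 : Q := act 1 n26087
theorem D38046 : act 1 n26087 = n38046 := rfl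
theorem F159287 : act 5 n38046 = n26092 := d12_2 (iv F110987) D38046 (iv D26092)
def n38048 : Q := act 9 n26087
theorem D38048 : act 9 n26087 = n38048 := rfl
theorem F159297 : act 5 n38048 = n26093 := d38_1 D38048 (iv D26093) (iv F110987)
def n38054 : Q := act 9 n26092
theorem D38054 : act 9 n26092 = n38054 := rfl
theorem F159323 : act 1 n38054 = n26093 := d16_1 D38054 (iv D26093) D26092
theorem F159325 : act 6 n38054 = n26095 := d41_1 D38054 (iv D26095) (iv F111010)
def n38055 : Q := act 8 n26093
theorem D38055 : act 8 n26093 = n38055 := rfl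
def n38056 : Q := act 8 n26095
theorem D38056 : act 8 n26095 = n38056 := rfl
theorem F159332 : act 1 n38056 = n26096 := d15_1 D38056 (iv D26096) (iv F111021)
def n38096 : Q := act 9 n26120
theorem D38096 : act 9 n26120 = n38096 := rfl
theorem F159496 : act 3 n38096 = n26134 := d29_1 D38096 (iv D26134) (iv F111126)
theorem F159497 : act 4 n38096 = n26121 := d34_1 D38096 (iv D26121) D26120
def n38099 : Q := act 9 n26122
theorem D38099 : act 9 n26122 = n38099 := rfl
theorem F159507 : act 2 n38099 = n26125 := d23_1 D38099 (iv D26125) (iv F111134)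
theorem F159509 : act 4 n38099 = n26123 := d34_1 D38099 (iv D26123) D26122
def n38114 : Q := act 8 n26134
theorem D38114 : act 8 n26134 = n38114 := rfl
theorem F159566 : act 4 n38114 = n26135 := d33_1 D38114 (iv D26135) (iv F111180)
def n38158 : Q := act 2 n26170
theorem D38158 : act 2 n26170 = n38158 := rfl
theorem F159755 : act 7 n38158 = n26379 := d21_2 (iv F111337) D38158 (iv D26379)
def n38161 : Q := act 4 n26172
theorem D38161 : act 4 n26172 = n38161 := rfl
theorem F159765 : act 2 n38161 = n26173 := d18_1 D38161 (iv D26173) D26172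
def n38162 : Q := act 9 n26172
theorem D38162 : act 9 n26172 = n38162 := rfl
theorem F159770 : act 2 n38162 = n26174 := d23_1 D38162 (iv D26174) D26172
theorem F159772 : act 7 n38162 = n26383 := d43_1 D38162 (iv D26383) (iv F111345)
def n38163 : Q := act 5 n26173
theorem D38163 : act 5 n26173 = n38163 := rfl
theorem F159773 : act 1 n38163 = n26187 := d12_1 D38163 (iv D26187) (iv F111347)
def n38164 : Q := act 9 n26173
theorem D38164 : act 9 n26173 = n38164 := rfl
theorem F159777 : act 1 n38164 = n26188 := d16_1 D38164 (iv D26188) (iv F111347)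
theorem F159779 : act 4 n38164 = n26174 := d34_1 D38164 (iv D26174) D26173
def n38185 : Q := act 8 n26186
theorem D38185 : act 8 n26186 = n38185 := rfl
theorem F159877 : act 3 n38185 = n26284 := d28_1 D38185 (iv D26284) F78117 (iv F77849) (iv F111410)
theorem F159879 : act 7 n38185 = n26406 := d42_1 D38185 (iv D26406) (iv F111412)
def n38187 : Q := act 9 n26187
theorem D38187 : act 9 n26187 = n38187 := rfl
theorem F159889 : act 5 n38187 = n26188 := d38_1 D38187 (iv D26188) D26187
def n38199 : Q := act 8 n26196
theorem D38199 : act 8 n26196 = n38199 := rfl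
theorem F159944 : act 3 n38199 = n26298 := d28_1 D38199 (iv D26298) F78161 (iv F77883) (iv F111457)
theorem F159947 : act 7 n38199 = n26420 := d42_1 D38199 (iv D26420) (iv F111460)
def n38219 : Q := act 4 n26208
theorem D38219 : act 4 n26208 = n38219 := rfl
theorem F160014 : act 3 n38219 = n38219 := d24_1 D38219 (iv D38219) F111504 F77974 (iv F111504)
def n38231 : Q := act 8 n26216
theorem D38231 : act 8 n26216 = n38231 := rfl
theorem F160057 : act 4 n38231 = n26217 := d33_1 D38231 (iv D26217) (iv F111534)
def n38234 : Q := act 8 n26219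
theorem D38234 : act 8 n26219 = n38234 := rfl
theorem F160070 : act 5 n38234 = n26220 := d37_1 D38234 (iv D26220) (iv F111547)
def n38235 : Q := act 3 n26220
theorem D38235 : act 3 n26220 = n38235 := rfl
theorem F160073 : act 4 n38235 = n26334 := d24_2 (iv F111550) D38235 (iv D26334) F78246 (iv F77949)
def n38341 : Q := act 4 n26290
theorem D38341 : act 4 n26290 = n38341 := rfl
theorem F160508 : act 5 n38341 = n27200 := d30_2 (iv F111841) D38341 (iv D27200) F80638 (iv F78149)
def n38347 : Q := act 8 n26295
theorem D38347 : act 8 n26295 = n38347 := rfl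
theorem F160533 : act 4 n38347 = n27206 := d33_1 D38347 (iv D27206) (iv F111863)
def n38436 : Q := act 3 n26355
theorem D38436 : act 3 n26355 = n38436 := rfl
theorem F160857 : act 5 n38436 = n27288 := d25_2 (iv F112081) D38436 (iv D27288)
def n38437 : Q := act 9 n26355
theorem D38437 : act 9 n26355 = n38437 := rfl
theorem F160861 : act 5 n38437 = n27289 := d38_1 D38437 (iv D27289) (iv F112081)
def n38439 : Q := act 8 n26357
theorem D38439 : act 8 n26357 = n38439 := rfl
theorem F160868 : act 5 n38439 = n27291 := d37_1 D38439 (iv D27291) (iv F112089)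
def n38442 : Q := act 8 n26360
theorem D38442 : act 8 n26360 = n38442 := rfl
theorem F160881 : act 6 n38442 = n26652 := d40_1 D38442 (iv D26652) (iv F112100)
theorem F160882 : act 7 n38442 = n26364 := d42_1 D38442 (iv D26364) (iv F112101)
def n38509 : Q := act 8 n26403
theorem D38509 : act 8 n26403 = n38509 := rfl
theorem F161123 : act 5 n38509 = n26719 := d37_1 D38509 (iv D26719) (iv F112260)
theorem F161124 : act 6 n38509 = n26406 := d40_1 D38509 (iv D26406) (iv F112261)
def n38527 : Q := act 8 n26417
theorem D38527 : act 8 n26417 = n38527 := rfl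
theorem F161201 : act 6 n38527 = n26420 := d40_1 D38527 (iv D26420) (iv F112321)
def n38577 : Q := act 8 n26448
theorem D38577 : act 8 n26448 = n38577 := rfl
theorem F161349 : act 6 n38577 = n26452 := d40_1 D38577 (iv D26452) (iv F112413)
def n38745 : Q := act 8 n26562
theorem D38745 : act 8 n26562 = n38745 := rfl
theorem F161949 : act 5 n38745 = n26567 := d37_1 D38745 (iv D26567) (iv F112820)
def n38861 : Q := act 8 n26645
theorem D38861 : act 8 n26645 = n38861 := rfl
theorem F162316 : act 5 n38861 = n26652 := d37_1 D38861 (iv D26652) (iv F113087)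
def n39115 : Q := act 7 n26823
theorem D39115 : act 7 n26823 = n39115 := rfl
theorem F163275 : act 1 n39115 = n27104 := d14_1 D39115 (iv D27104) (iv F113765)
theorem F163276 : act 2 n39115 = n26829 := d21_1 D39115 (iv D26829) (iv F113766)
def n39647 : Q := act 9 n27200
theorem D39647 : act 9 n27200 = n39647 := rfl
theorem F165537 : act 6 n39647 = n27644 := d41_1 D39647 (iv D27644) (iv F115374)
def n39648 : Q := act 8 n27201
theorem D39648 : act 8 n27201 = n39648 := rfl
theorem F165540 : act 5 n39648 = n27206 := d37_1 D39648 (iv D27206) (iv F115378)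
theorem F165541 : act 6 n39648 = n27645 := d40_1 D39648 (iv D27645) (iv F115379)
def n39749 : Q := act 8 n27269
theorem D39749 : act 8 n27269 = n39749 := rfl
theorem F165937 : act 6 n39749 = n27720 := d40_1 D39749 (iv D27720) (iv F115649)
def n39772 : Q := act 9 n27288
theorem D39772 : act 9 n27288 = n39772 := rfl
theorem F166026 : act 3 n39772 = n27289 := d29_1 D39772 (iv D27289) D27288
def n39773 : Q := act 8 n27289
theorem D39773 : act 8 n27289 = n39773 := rfl
theorem F166031 : act 6 n39773 = n27734 := d40_1 D39773 (iv D27734) (iv F115728)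
def n40278 : Q := act 8 n27644
theorem D40278 : act 8 n27644 = n40278 := rfl
theorem F168086 : act 0 n40278 = n27720 := d7_1 D40278 (iv D27720) (iv F117177)
theorem F168087 : act 4 n40278 = n27645 := d33_1 D40278 (iv D27645) (iv F117179)
def n40383 : Q := act 3 n27720
theorem D40383 : act 3 n27720 = n40383 := rfl
theorem F168514 : act 1 n40383 = n27736 := d10_1 D40383 (iv D27736) (iv F117489)
def n41031 : Q := act 8 n28171
theorem D41031 : act 8 n28171 = n41031 := rfl
theorem F171341 : act 9 n41031 = n28172 := d44_2 D28171 D41031 (iv D28172) (iv D19373) D19372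
def n41032 : Q := act 3 n28172
theorem D41032 : act 3 n28172 = n41032 := rfl
theorem F171346 : act 8 n41032 = n28173 := d28_2 D28172 D41032 (iv D28173) (iv D19374) (iv F83539)
def n41034 : Q := act 4 n28173
theorem D41034 : act 4 n28173 = n41034 := rfl
theorem F171354 : act 3 n41034 = n28174 := d24_1 D41034 (iv D28174) (iv D19375) (iv F83546) D28173
def n41035 : Q := act 5 n28174
theorem D41035 : act 5 n28174 = n41035 := rfl
theorem F171360 : act 4 n41035 = n28179 := d30_1 D41035 (iv D28179) (iv D19379) (iv F83553) D28174
def n41040 : Q := act 5 n28178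
theorem D41040 : act 5 n28178 = n41040 := rfl
theorem F171388 : act 1 n41040 = n28179 := d12_1 D41040 (iv D28179) (iv F119512)
def n41385 : Q := act 6 n28423
theorem D41385 : act 6 n28423 = n41385 := rfl
theorem F172842 : act 4 n41385 = n28430 := d31_1 D41385 (iv D28430) (iv F120564)
def n41386 : Q := act 7 n28424
theorem D41386 : act 7 n28424 = n41386 := rfl
theorem F172849 : act 4 n41386 = n28431 := d32_1 D41386 (iv D28431) (iv F120571)
def n41397 : Q := act 7 n28430
theorem D41397 : act 7 n28430 = n41397 := rfl
theorem F172910 : act 5 n41397 = n28442 := d36_1 D41397 (iv D28442) (iv F120605)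
def n41418 : Q := act 6 n28444
theorem D41418 : act 6 n28444 = n41418 := rfl
theorem F173011 : act 0 n41418 = n28450 := d5_1 D41418 (iv D28450) (iv F120677)
theorem F173013 : act 3 n41418 = n28446 := d26_1 D41418 (iv D28446) (iv F120679)
def n41427 : Q := act 6 n28449
theorem D41427 : act 6 n28449 = n41427 := rfl
theorem F173054 : act 1 n41427 = n28454 := d13_1 D41427 (iv D28454) (iv F120701)
theorem F173056 : act 4 n41427 = n28450 := d31_1 D41427 (iv D28450) D28449
def n41432 : Q := act 5 n28454
theorem D41432 : act 5 n28454 = n41432 := rfl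
theorem F173074 : act 2 n41432 = n28504 := d19_1 D41432 (iv D28504) (iv F120724)
def n41441 : Q := act 8 n28459
theorem D41441 : act 8 n28459 = n41441 := rfl
theorem F173121 : act 3 n41441 = n28640 := d28_1 D41441 (iv D28640) (iv D19695) (iv F84471) D28459
def n41442 : Q := act 6 n28460
theorem D41442 : act 6 n28460 = n41442 := rfl
theorem F173129 : act 5 n41442 = n28473 := d35_1 D41442 (iv D28473) (iv D19585) (iv F84469) D28460
def n41446 : Q := act 6 n28462
theorem D41446 : act 6 n28462 = n41446 := rfl
theorem F173147 : act 5 n41446 = n28477 := d35_1 D41446 (iv D28477) (iv D19587) (iv F84475) D28462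
def n41447 : Q := act 8 n28462
theorem D41447 : act 8 n28462 = n41447 := rfl
theorem F173150 : act 3 n41447 = n28646 := d28_1 D41447 (iv D28646) F85048 (iv F84482) (iv F120766)
def n41449 : Q := act 7 n28464
theorem D41449 : act 7 n28464 = n41449 := rfl
theorem F173162 : act 5 n41449 = n28480 := d36_1 D41449 (iv D28480) (iv F120777)
def n41452 : Q := act 7 n28466
theorem D41452 : act 7 n28466 = n41452 := rfl
theorem F173176 : act 5 n41452 = n28483 := d36_1 D41452 (iv D28483) (iv F120787)
def n41460 : Q := act 8 n28471
theorem D41460 : act 8 n28471 = n41460 := rfl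
theorem F173214 : act 3 n41460 = n28675 := d28_1 D41460 (iv D28675) F85144 (iv F84516) (iv F120813)
def n41462 : Q := act 7 n28473
theorem D41462 : act 7 n28473 = n41462 := rfl
theorem F173227 : act 6 n41462 = n28493 := d39_1 D41462 (iv D28493) (iv D19598) (iv F84515) D28473
def n41470 : Q := act 7 n28477
theorem D41470 : act 7 n28477 = n41470 := rfl
theorem F173257 : act 6 n41470 = n28501 := d39_1 D41470 (iv D28501) (iv D19602) (iv F84524) D28477
def n41471 : Q := act 8 n28477
theorem D41471 : act 8 n28477 = n41471 := rfl
theorem F173260 : act 3 n41471 = n28686 := d28_1 D41471 (iv D28686) F85167 (iv F84533) (iv F120840)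
def n41487 : Q := act 6 n28489
theorem D41487 : act 6 n28489 = n41487 := rfl
theorem F173328 : act 3 n41487 = n28543 := d26_1 D41487 (iv D28543) (iv F120892)
theorem F173329 : act 4 n41487 = n28490 := d31_1 D41487 (iv D28490) D28489
def n41490 : Q := act 8 n28490
theorem D41490 : act 8 n28490 = n41490 := rfl
theorem F173342 : act 3 n41490 = n28730 := d28_1 D41490 (iv D28730) F85291 (iv F84577) (iv F120897)
def n41493 : Q := act 6 n28494
theorem D41493 : act 6 n28494 = n41493 := rfl
theorem F173354 : act 2 n41493 = n28499 := d20_1 D41493 (iv D28499) (iv F120917)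
theorem F173355 : act 4 n41493 = n28495 := d31_1 D41493 (iv D28495) D28494
def n41501 : Q := act 5 n28499
theorem D41501 : act 5 n28499 = n41501 := rfl
theorem F173381 : act 3 n41501 = n28557 := d25_1 D41501 (iv D28557) (iv F120934)
def n41504 : Q := act 3 n28500
theorem D41504 : act 3 n28500 = n41504 := rfl
theorem F173395 : act 8 n41504 = n28560 := d28_2 D28500 D41504 (iv D28560) (iv D19641) (iv F84586)
def n41506 : Q := act 8 n28501
theorem D41506 : act 8 n28501 = n41506 := rfl
theorem F173401 : act 3 n41506 = n28746 := d28_1 D41506 (iv D28746) F85329 (iv F84605) (iv F120941)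
def n41521 : Q := act 3 n28513
theorem D41521 : act 3 n28513 = n41521 := rfl
theorem F173468 : act 0 n41521 = n28522 := d2_1 D41521 (iv D28522) (iv F120993)
theorem F173469 : act 2 n41521 = n28786 := d17_1 D41521 (iv D28786) F85458 (iv F84639) (iv F120994)
theorem F173471 : act 7 n41521 = n28541 := d27_2 (iv F120997) D41521 (iv D28541)
def n41522 : Q := act 9 n28513
theorem D41522 : act 9 n28513 = n41522 := rfl
theorem F173477 : act 7 n41522 = n28542 := d43_1 D41522 (iv D28542) (iv F120997)
def n41525 : Q := act 7 n28515
theorem D41525 : act 7 n28515 = n41525 := rfl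
theorem F173492 : act 6 n41525 = n28545 := d39_1 D41525 (iv D28545) (iv D19631) (iv F84635) D28515
def n41526 : Q := act 8 n28515
theorem D41526 : act 8 n28515 = n41526 := rfl
theorem F173496 : act 3 n41526 = n28791 := d28_1 D41526 (iv D28791) F85468 (iv F84647) (iv F121005)
def n41527 : Q := act 9 n28516
theorem D41527 : act 9 n28516 = n41527 := rfl
theorem F173503 : act 7 n41527 = n28547 := d43_1 D41527 (iv D28547) (iv F121012)
def n41533 : Q := act 3 n28521
theorem D41533 : act 3 n28521 = n41533 := rfl
theorem F173530 : act 2 n41533 = n28798 := d17_1 D41533 (iv D28798) F85493 (iv F84668) (iv F121038)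
theorem F173532 : act 7 n41533 = n28553 := d27_2 (iv F121040) D41533 (iv D28553)
def n41534 : Q := act 9 n28521
theorem D41534 : act 9 n28521 = n41534 := rfl
theorem F173537 : act 7 n41534 = n28554 := d43_1 D41534 (iv D28554) (iv F121040)
def n41535 : Q := act 4 n28522
theorem D41535 : act 4 n28522 = n41535 := rfl
theorem F173539 : act 1 n41535 = n41535 := d11_1 D41535 (iv D41535) F121041
theorem F173540 : act 2 n41535 = n28800 := d18_1 D41535 (iv D28800) (iv F121042)
theorem F173541 : act 3 n41535 = n41535 := d24_1 D41535 (iv D41535) (iv D28522) F84656 D28522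
theorem F173542 : act 6 n41535 = n41535 := d31_2 F121043 D41535 (iv D41535)
theorem F173543 : act 7 n41535 = n28555 := d32_2 (iv F121044) D41535 (iv D28555)
theorem F173544 : act 8 n41535 = n41535 := d33_2 F121045 D41535 (iv D41535)
def n41536 : Q := act 9 n28522
theorem D41536 : act 9 n28522 = n41536 := rfl
theorem F173545 : act 1 n41536 = n41536 := d16_1 D41536 (iv D41536) F121041
theorem F173546 : act 2 n41536 = n28801 := d23_1 D41536 (iv D28801) (iv F121042)
theorem F173547 : act 3 n41536 = n28523 := d29_1 D41536 (iv D28523) D28522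
theorem F173548 : act 6 n41536 = n41536 := d41_1 D41536 (iv D41536) F121043
theorem F173549 : act 7 n41536 = n28556 := d43_1 D41536 (iv D28556) (iv F121044)
def n41540 : Q := act 3 n28525
theorem D41540 : act 3 n28525 = n41540 := rfl
theorem F173564 : act 7 n41540 = n28560 := d27_2 (iv F121058) D41540 (iv D28560)
def n41541 : Q := act 9 n28525
theorem D41541 : act 9 n28525 = n41541 := rfl
theorem F173566 : act 4 n41541 = n28528 := d34_1 D41541 (iv D28528) (iv F121056)
theorem F173568 : act 7 n41541 = n28561 := d43_1 D41541 (iv D28561) (iv F121058)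
def n41542 : Q := act 8 n28526
theorem D41542 : act 8 n28526 = n41542 := rfl
theorem F173571 : act 3 n41542 = n28807 := d28_1 D41542 (iv D28807) F85512 (iv F84681) (iv F121060)
def n41543 : Q := act 9 n28527
theorem D41543 : act 9 n28527 = n41543 := rfl
theorem F173578 : act 6 n41543 = n28528 := d41_1 D41543 (iv D28528) (iv F121067)
def n41547 : Q := act 3 n28531
theorem D41547 : act 3 n28531 = n41547 := rfl
theorem F173596 : act 4 n41547 = n28812 := d24_2 (iv F121085) D41547 (iv D28812) F85531 (iv F84700)
def n41548 : Q := act 9 n28531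
theorem D41548 : act 9 n28531 = n41548 := rfl
theorem F173600 : act 4 n41548 = n28535 := d34_1 D41548 (iv D28535) (iv F121085)
theorem F173601 : act 6 n41548 = n28533 := d41_1 D41548 (iv D28533) (iv F121086)
def n41550 : Q := act 9 n28532
theorem D41550 : act 9 n28532 = n41550 := rfl
theorem F173609 : act 3 n41550 = n28533 := d29_1 D41550 (iv D28533) D28532
theorem F173612 : act 7 n41550 = n28570 := d43_1 D41550 (iv D28570) (iv F121090)
def n41551 : Q := act 9 n28534
theorem D41551 : act 9 n28534 = n41551 := rfl
theorem F173617 : act 6 n41551 = n28571 := d41_1 D41551 (iv D28571) (iv F121101)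
def n41555 : Q := act 3 n28537
theorem D41555 : act 3 n28537 = n41555 := rfl
theorem F173636 : act 1 n41555 = n28541 := d10_1 D41555 (iv D28541) (iv F121115)
theorem F173637 : act 6 n41555 = n28575 := d26_2 (iv F121118) D41555 (iv D28575)
def n41556 : Q := act 9 n28537
theorem D41556 : act 9 n28537 = n41556 := rfl
theorem F173640 : act 1 n41556 = n28542 := d16_1 D41556 (iv D28542) (iv F121115)
theorem F173643 : act 6 n41556 = n28576 := d41_1 D41556 (iv D28576) (iv F121118)
def n41564 : Q := act 4 n28541
theorem D41564 : act 4 n28541 = n41564 := rfl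
theorem F173674 : act 0 n41564 = n28555 := d3_1 D41564 (iv D28555) (iv F121131)
theorem F173675 : act 2 n41564 = n28865 := d18_1 D41564 (iv D28865) (iv F121132)
theorem F173676 : act 3 n41564 = n41564 := d24_1 D41564 (iv D41564) (iv D28541) F84721 D28541
theorem F173677 : act 6 n41564 = n28584 := d31_2 (iv F121133) D41564 (iv D28584)
theorem F173678 : act 8 n41564 = n41564 := d33_2 F121134 D41564 (iv D41564)
def n41565 : Q := act 9 n28541
theorem D41565 : act 9 n28541 = n41565 := rfl
theorem F173679 : act 0 n41565 = n28556 := d8_1 D41565 (iv D28556) (iv F121131)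
theorem F173680 : act 2 n41565 = n28866 := d23_1 D41565 (iv D28866) (iv F121132)
theorem F173681 : act 3 n41565 = n28542 := d29_1 D41565 (iv D28542) D28541
theorem F173682 : act 6 n41565 = n28585 := d41_1 D41565 (iv D28585) (iv F121133)
def n41566 : Q := act 5 n28543
theorem D41566 : act 5 n28543 = n41566 := rfl
theorem F173685 : act 4 n41566 = n28586 := d30_1 D41566 (iv D28586) F84855 (iv F84730) (iv F121142)
def n41568 : Q := act 8 n28543
theorem D41568 : act 8 n28543 = n41568 := rfl
theorem F173694 : act 4 n41568 = n28546 := d33_1 D41568 (iv D28546) (iv F121142)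
theorem F173695 : act 6 n41568 = n28544 := d40_1 D41568 (iv D28544) D28543
def n41570 : Q := act 9 n28544
theorem D41570 : act 9 n28544 = n41570 := rfl
theorem F173702 : act 4 n41570 = n28547 := d34_1 D41570 (iv D28547) (iv F121146)
def n41571 : Q := act 8 n28545
theorem D41571 : act 8 n28545 = n41571 := rfl
theorem F173707 : act 3 n41571 = n28872 := d28_1 D41571 (iv D28872) F85695 (iv F84746) (iv F121150)
def n41572 : Q := act 9 n28546
theorem D41572 : act 9 n28546 = n41572 := rfl
theorem F173713 : act 5 n41572 = n28592 := d38_1 D41572 (iv D28592) (iv F121156)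
def n41575 : Q := act 5 n28549
theorem D41575 : act 5 n28549 = n41575 := rfl
theorem F173725 : act 4 n41575 = n28595 := d30_1 D41575 (iv D28595) F84885 (iv F84755) (iv F121169)
def n41577 : Q := act 8 n28549
theorem D41577 : act 8 n28549 = n41577 := rfl
theorem F173734 : act 4 n41577 = n28552 := d33_1 D41577 (iv D28552) (iv F121169)
theorem F173735 : act 6 n41577 = n28550 := d40_1 D41577 (iv D28550) D28549
def n41579 : Q := act 9 n28550
theorem D41579 : act 9 n28550 = n41579 := rfl
theorem F173740 : act 4 n41579 = n28554 := d34_1 D41579 (iv D28554) (iv F121173)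
def n41581 : Q := act 3 n28552
theorem D41581 : act 3 n28552 = n41581 := rfl
theorem F173748 : act 2 n41581 = n28882 := d17_1 D41581 (iv D28882) F85719 (iv F84780) (iv F121181)
theorem F173749 : act 5 n41581 = n28601 := d25_2 (iv F121182) D41581 (iv D28601)
theorem F173750 : act 6 n41581 = n28553 := d26_2 (iv F121183) D41581 (iv D28553)
def n41582 : Q := act 9 n28552
theorem D41582 : act 9 n28552 = n41582 := rfl
theorem F173754 : act 5 n41582 = n28602 := d38_1 D41582 (iv D28602) (iv F121182)
def n41583 : Q := act 4 n28553
theorem D41583 : act 4 n28553 = n41583 := rfl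
theorem F173757 : act 1 n41583 = n41583 := d11_1 D41583 (iv D41583) F121184
theorem F173758 : act 2 n41583 = n28884 := d18_1 D41583 (iv D28884) (iv F121185)
theorem F173759 : act 8 n41583 = n41583 := d33_2 F121187 D41583 (iv D41583)
def n41584 : Q := act 9 n28553
theorem D41584 : act 9 n28553 = n41584 := rfl
theorem F173760 : act 1 n41584 = n41584 := d16_1 D41584 (iv D41584) F121184
theorem F173761 : act 2 n41584 = n28885 := d23_1 D41584 (iv D28885) (iv F121185)
theorem F173762 : act 3 n41584 = n28554 := d29_1 D41584 (iv D28554) D28553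
theorem F173763 : act 5 n41584 = n28556 := d38_1 D41584 (iv D28556) (iv F121186)
def n41585 : Q := act 5 n28555
theorem D41585 : act 5 n28555 = n41585 := rfl
theorem F173764 : act 1 n41585 = n41585 := d12_1 D41585 (iv D41585) F121192
theorem F173765 : act 2 n41585 = n28886 := d19_1 D41585 (iv D28886) (iv F121193)
theorem F173766 : act 3 n41585 = n41585 := d25_1 D41585 (iv D41585) F121194
theorem F173767 : act 8 n41585 = n41585 := d37_2 F121196 D41585 (iv D41585)
def n41586 : Q := act 9 n28555
theorem D41586 : act 9 n28555 = n41586 := rfl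
theorem F173768 : act 1 n41586 = n41586 := d16_1 D41586 (iv D41586) F121192
theorem F173769 : act 2 n41586 = n28887 := d23_1 D41586 (iv D28887) (iv F121193)
theorem F173770 : act 3 n41586 = n41586 := d29_1 D41586 (iv D41586) F121194
theorem F173771 : act 4 n41586 = n28556 := d34_1 D41586 (iv D28556) D28555
theorem F173772 : act 6 n41586 = n28606 := d41_1 D41586 (iv D28606) (iv F121195)
def n41587 : Q := act 8 n28556
theorem D41587 : act 8 n28556 = n41587 := rfl
theorem F173773 : act 1 n41587 = n41587 := d15_1 D41587 (iv D41587) F121197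
theorem F173774 : act 2 n41587 = n28888 := d22_1 D41587 (iv D28888) (iv F121198)
theorem F173775 : act 3 n41587 = n41587 := d28_1 D41587 (iv D41587) F121199 F84768 (iv F121199)
theorem F173776 : act 6 n41587 = n28607 := d40_1 D41587 (iv D28607) (iv F121200)
theorem F173777 : act 9 n41587 = n41587 := d44_2 D28556 D41587 (iv D41587) (iv D28556) F84763
def n41591 : Q := act 3 n28559
theorem D41591 : act 3 n28559 = n41591 := rfl
theorem F173790 : act 4 n41591 = n28892 := d24_2 (iv F121209) D41591 (iv D28892) F85741 (iv F84780)
theorem F173791 : act 6 n41591 = n28560 := d26_2 (iv F121210) D41591 (iv D28560)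
def n41592 : Q := act 9 n28559
theorem D41592 : act 9 n28559 = n41592 := rfl
theorem F173793 : act 4 n41592 = n28563 := d34_1 D41592 (iv D28563) (iv F121209)
def n41593 : Q := act 2 n28560
theorem D41593 : act 2 n28560 = n41593 := rfl
def n41594 : Q := act 9 n28560
theorem D41594 : act 9 n28560 = n41594 := rfl
theorem F173798 : act 1 n41594 = n28570 := d16_1 D41594 (iv D28570) (iv F121211)
theorem F173799 : act 3 n41594 = n28561 := d29_1 D41594 (iv D28561) D28560
theorem F173800 : act 4 n41594 = n28895 := d34_1 D41594 (iv D28895) (iv F121212)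
theorem F173801 : act 5 n41594 = n41594 := d38_1 D41594 (iv D41594) F121213
def n41595 : Q := act 9 n28562
theorem D41595 : act 9 n28562 = n41595 := rfl
theorem F173804 : act 5 n41595 = n28615 := d38_1 D41595 (iv D28615) (iv F121220)
theorem F173805 : act 7 n41595 = n28563 := d43_1 D41595 (iv D28563) (iv F121221)
def n41599 : Q := act 9 n28565
theorem D41599 : act 9 n28565 = n41599 := rfl
theorem F173822 : act 4 n41599 = n28619 := d34_1 D41599 (iv D28619) (iv F121234)
def n41600 : Q := act 3 n28566
theorem D41600 : act 3 n28566 = n41600 := rfl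
theorem F173827 : act 4 n41600 = n28901 := d24_2 (iv F121239) D41600 (iv D28901) F85765 (iv F84810)
def n41601 : Q := act 9 n28566
theorem D41601 : act 9 n28566 = n41601 := rfl
theorem F173831 : act 4 n41601 = n28571 := d34_1 D41601 (iv D28571) (iv F121239)
theorem F173832 : act 7 n41601 = n28568 := d43_1 D41601 (iv D28568) (iv F121240)
def n41602 : Q := act 2 n28567
theorem D41602 : act 2 n28567 = n41602 := rfl
theorem F173837 : act 6 n41602 = n28569 := d20_2 (iv F121243) D41602 (iv D28569)
def n41603 : Q := act 9 n28567
theorem D41603 : act 9 n28567 = n41603 := rfl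
theorem F173839 : act 3 n41603 = n28568 := d29_1 D41603 (iv D28568) D28567
def n41605 : Q := act 9 n28569
theorem D41605 : act 9 n28569 = n41605 := rfl
theorem F173846 : act 2 n41605 = n28570 := d23_1 D41605 (iv D28570) D28569
def n41606 : Q := act 8 n28570
theorem D41606 : act 8 n28570 = n41606 := rfl
def n41612 : Q := act 3 n28574
theorem D41612 : act 3 n28574 = n41612 := rfl
theorem F173882 : act 1 n41612 = n28582 := d10_1 D41612 (iv D28582) (iv F121275)
theorem F173883 : act 5 n41612 = n28575 := d25_2 (iv F121277) D41612 (iv D28575)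
def n41613 : Q := act 9 n28574
theorem D41613 : act 9 n28574 = n41613 := rfl
theorem F173887 : act 1 n41613 = n28583 := d16_1 D41613 (iv D28583) (iv F121275)
def n41614 : Q := act 2 n28575
theorem D41614 : act 2 n28575 = n41614 := rfl
theorem F173892 : act 0 n41614 = n41614 := d1_1 D41614 (iv D41614) F121279
theorem F173893 : act 1 n41614 = n28970 := d9_1 D41614 (iv D28970) F85968 (iv F84844) (iv F121280)
theorem F173894 : act 3 n41614 = n41614 := d17_2 D28575 D41614 (iv D41614) (iv D28575) F84827
theorem F173895 : act 7 n41614 = n41614 := d21_2 F121281 D41614 (iv D41614)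
theorem F173896 : act 8 n41614 = n41614 := d22_2 F121282 D41614 (iv D41614)
def n41615 : Q := act 4 n28575
theorem D41615 : act 4 n28575 = n41615 := rfl
theorem F173897 : act 0 n41615 = n41615 := d3_1 D41615 (iv D41615) F121279
theorem F173898 : act 1 n41615 = n28584 := d11_1 D41615 (iv D28584) (iv F121280)
theorem F173899 : act 3 n41615 = n41615 := d24_1 D41615 (iv D41615) (iv D28575) F84828 D28575
theorem F173900 : act 7 n41615 = n41615 := d32_2 F121281 D41615 (iv D41615)
theorem F173901 : act 8 n41615 = n41615 := d33_2 F121282 D41615 (iv D41615)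
def n41616 : Q := act 9 n28575
theorem D41616 : act 9 n28575 = n41616 := rfl
theorem F173902 : act 0 n41616 = n41616 := d8_1 D41616 (iv D41616) F121279
theorem F173903 : act 1 n41616 = n28585 := d16_1 D41616 (iv D28585) (iv F121280)
theorem F173904 : act 3 n41616 = n28576 := d29_1 D41616 (iv D28576) D28575
theorem F173905 : act 7 n41616 = n41616 := d43_1 D41616 (iv D41616) F121281
def n41619 : Q := act 5 n28578
theorem D41619 : act 5 n28578 = n41619 := rfl
theorem F173917 : act 2 n41619 = n28586 := d19_1 D41619 (iv D28586) (iv F121296)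
def n41620 : Q := act 7 n28578
theorem D41620 : act 7 n28578 = n41620 := rfl
theorem F173921 : act 2 n41620 = n28587 := d21_1 D41620 (iv D28587) (iv F121296)
theorem F173922 : act 4 n41620 = n28580 := d32_1 D41620 (iv D28580) (iv F121297)
def n41621 : Q := act 8 n28578
theorem D41621 : act 8 n28578 = n41621 := rfl
theorem F173926 : act 2 n41621 = n28588 := d22_1 D41621 (iv D28588) (iv F121296)
theorem F173927 : act 4 n41621 = n28581 := d33_1 D41621 (iv D28581) (iv F121297)
def n41625 : Q := act 3 n28581
theorem D41625 : act 3 n28581 = n41625 := rfl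
theorem F173943 : act 2 n41625 = n28981 := d17_1 D41625 (iv D28981) F85994 (iv F84869) (iv F121310)
def n41627 : Q := act 4 n28582
theorem D41627 : act 4 n28582 = n41627 := rfl
theorem F173950 : act 0 n41627 = n28603 := d3_1 D41627 (iv D28603) (iv F121312)
theorem F173951 : act 2 n41627 = n28983 := d18_1 D41627 (iv D28983) (iv F121313)
def n41628 : Q := act 9 n28582
theorem D41628 : act 9 n28582 = n41628 := rfl
theorem F173954 : act 0 n41628 = n28604 := d8_1 D41628 (iv D28604) (iv F121312)
theorem F173955 : act 2 n41628 = n28984 := d23_1 D41628 (iv D28984) (iv F121313)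
theorem F173956 : act 3 n41628 = n28583 := d29_1 D41628 (iv D28583) D28582
theorem F173957 : act 5 n41628 = n28585 := d38_1 D41628 (iv D28585) (iv F121314)
theorem F173958 : act 7 n41628 = n41628 := d43_1 D41628 (iv D41628) F121315
def n41629 : Q := act 5 n28584
theorem D41629 : act 5 n28584 = n41629 := rfl
theorem F173959 : act 0 n41629 = n28605 := d4_1 D41629 (iv D28605) (iv F121322)
theorem F173960 : act 2 n41629 = n28985 := d19_1 D41629 (iv D28985) (iv F121323)
theorem F173961 : act 3 n41629 = n41629 := d25_1 D41629 (iv D41629) F121324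
theorem F173962 : act 7 n41629 = n41629 := d36_2 F121325 D41629 (iv D41629)
theorem F173963 : act 8 n41629 = n41629 := d37_2 F121326 D41629 (iv D41629)
def n41630 : Q := act 9 n28584
theorem D41630 : act 9 n28584 = n41630 := rfl
theorem F173964 : act 0 n41630 = n28606 := d8_1 D41630 (iv D28606) (iv F121322)
theorem F173965 : act 2 n41630 = n28986 := d23_1 D41630 (iv D28986) (iv F121323)
theorem F173966 : act 3 n41630 = n41630 := d29_1 D41630 (iv D41630) F121324
theorem F173967 : act 4 n41630 = n28585 := d34_1 D41630 (iv D28585) D28584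
theorem F173968 : act 7 n41630 = n41630 := d43_1 D41630 (iv D41630) F121325
def n41631 : Q := act 8 n28585
theorem D41631 : act 8 n28585 = n41631 := rfl
theorem F173969 : act 0 n41631 = n28607 := d7_1 D41631 (iv D28607) (iv F121327)
theorem F173970 : act 2 n41631 = n28987 := d22_1 D41631 (iv D28987) (iv F121328)
theorem F173971 : act 3 n41631 = n41631 := d28_1 D41631 (iv D41631) F121329 F84851 (iv F121329)
theorem F173972 : act 7 n41631 = n41631 := d42_1 D41631 (iv D41631) F121330
theorem F173973 : act 9 n41631 = n41631 := d44_2 D28585 D41631 (iv D41631) (iv D28585) F84846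
def n41635 : Q := act 3 n28588
theorem D41635 : act 3 n28588 = n41635 := rfl
theorem F173990 : act 4 n41635 = n28991 := d24_2 (iv F121344) D41635 (iv D28991) F86022 (iv F84869)
def n41637 : Q := act 2 n28589
theorem D41637 : act 2 n28589 = n41637 := rfl
theorem F173998 : act 0 n41637 = n28613 := d1_1 D41637 (iv D28613) (iv F121346)
theorem F173999 : act 4 n41637 = n28993 := d18_2 (iv F121348) D41637 (iv D28993)
def n41638 : Q := act 9 n28589
theorem D41638 : act 9 n28589 = n41638 := rfl
theorem F174003 : act 0 n41638 = n28614 := d8_1 D41638 (iv D28614) (iv F121346)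
theorem F174004 : act 1 n41638 = n41638 := d16_1 D41638 (iv D41638) F121347
theorem F174005 : act 3 n41638 = n28590 := d29_1 D41638 (iv D28590) D28589
theorem F174006 : act 4 n41638 = n28994 := d34_1 D41638 (iv D28994) (iv F121348)
theorem F174007 : act 5 n41638 = n41638 := d38_1 D41638 (iv D41638) F121349
theorem F174008 : act 7 n41638 = n41638 := d43_1 D41638 (iv D41638) F121350
def n41639 : Q := act 9 n28591
theorem D41639 : act 9 n28591 = n41639 := rfl
theorem F174013 : act 7 n41639 = n28592 := d43_1 D41639 (iv D28592) (iv F121362)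
def n41640 : Q := act 5 n28593
theorem D41640 : act 5 n28593 = n41640 := rfl
theorem F174017 : act 3 n41640 = n28595 := d25_1 D41640 (iv D28595) (iv F121370)
def n41641 : Q := act 7 n28593
theorem D41641 : act 7 n28593 = n41641 := rfl
theorem F174022 : act 3 n41641 = n28596 := d27_1 D41641 (iv D28596) (iv F121370)
def n41648 : Q := act 3 n28597
theorem D41648 : act 3 n28597 = n41648 := rfl
theorem F174054 : act 6 n41648 = n28598 := d26_2 (iv F121390) D41648 (iv D28598)
def n41651 : Q := act 4 n28598
theorem D41651 : act 4 n28598 = n41651 := rfl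
theorem F174064 : act 3 n41651 = n28603 := d24_1 D41651 (iv D28603) (iv D19669) (iv F84889) D28598
def n41652 : Q := act 9 n28598
theorem D41652 : act 9 n28598 = n41652 := rfl
theorem F174067 : act 3 n41652 = n28599 := d29_1 D41652 (iv D28599) D28598
def n41653 : Q := act 3 n28600
theorem D41653 : act 3 n28600 = n41653 := rfl
theorem F174071 : act 2 n41653 = n29009 := d17_1 D41653 (iv D29009) F86070 (iv F84942) (iv F121401)
theorem F174073 : act 7 n41653 = n28601 := d27_2 (iv F121403) D41653 (iv D28601)
def n41654 : Q := act 9 n28600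
theorem D41654 : act 9 n28600 = n41654 := rfl
theorem F174078 : act 7 n41654 = n28602 := d43_1 D41654 (iv D28602) (iv F121403)
def n41655 : Q := act 4 n28601
theorem D41655 : act 4 n28601 = n41655 := rfl
theorem F174080 : act 1 n41655 = n41655 := d11_1 D41655 (iv D41655) F121404
theorem F174081 : act 2 n41655 = n29011 := d18_1 D41655 (iv D29011) (iv F121405)
theorem F174082 : act 6 n41655 = n28603 := d31_2 (iv F121406) D41655 (iv D28603)
theorem F174083 : act 8 n41655 = n41655 := d33_2 F121407 D41655 (iv D41655)
def n41656 : Q := act 9 n28601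
theorem D41656 : act 9 n28601 = n41656 := rfl
theorem F174084 : act 1 n41656 = n41656 := d16_1 D41656 (iv D41656) F121404
theorem F174085 : act 2 n41656 = n29012 := d23_1 D41656 (iv D29012) (iv F121405)
theorem F174086 : act 3 n41656 = n28602 := d29_1 D41656 (iv D28602) D28601
theorem F174087 : act 6 n41656 = n28604 := d41_1 D41656 (iv D28604) (iv F121406)
def n41657 : Q := act 5 n28603
theorem D41657 : act 5 n28603 = n41657 := rfl
theorem F174088 : act 1 n41657 = n41657 := d12_1 D41657 (iv D41657) F121412
theorem F174089 : act 2 n41657 = n29013 := d19_1 D41657 (iv D29013) (iv F121413)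
theorem F174090 : act 4 n41657 = n28605 := d30_1 D41657 (iv D28605) (iv D19671) (iv F84902) D28603
theorem F174091 : act 7 n41657 = n41657 := d36_2 F121414 D41657 (iv D41657)
theorem F174092 : act 8 n41657 = n41657 := d37_2 F121415 D41657 (iv D41657)
def n41658 : Q := act 9 n28603
theorem D41658 : act 9 n28603 = n41658 := rfl
theorem F174093 : act 1 n41658 = n41658 := d16_1 D41658 (iv D41658) F121412
theorem F174094 : act 2 n41658 = n29014 := d23_1 D41658 (iv D29014) (iv F121413)
theorem F174095 : act 4 n41658 = n28604 := d34_1 D41658 (iv D28604) D28603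
theorem F174096 : act 7 n41658 = n41658 := d43_1 D41658 (iv D41658) F121414
def n41659 : Q := act 8 n28604
theorem D41659 : act 8 n28604 = n41659 := rfl
theorem F174097 : act 1 n41659 = n41659 := d15_1 D41659 (iv D41659) F121416
theorem F174098 : act 2 n41659 = n29015 := d22_1 D41659 (iv D29015) (iv F121417)
theorem F174099 : act 3 n41659 = n41659 := d28_1 D41659 (iv D41659) F121418 F84909 (iv F121418)
theorem F174100 : act 5 n41659 = n28607 := d37_1 D41659 (iv D28607) (iv F121419)
theorem F174101 : act 7 n41659 = n41659 := d42_1 D41659 (iv D41659) F121420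
theorem F174102 : act 9 n41659 = n41659 := d44_2 D28604 D41659 (iv D41659) (iv D28604) F84904
def n41660 : Q := act 6 n28605
theorem D41660 : act 6 n28605 = n41660 := rfl
theorem F174103 : act 1 n41660 = n41660 := d13_1 D41660 (iv D41660) F121421
theorem F174104 : act 2 n41660 = n29016 := d20_1 D41660 (iv D29016) (iv F121422)
theorem F174105 : act 3 n41660 = n41660 := d26_1 D41660 (iv D41660) F121423
theorem F174106 : act 8 n41660 = n41660 := d40_2 F121425 D41660 (iv D41660)
def n41661 : Q := act 9 n28605
theorem D41661 : act 9 n28605 = n41661 := rfl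
theorem F174107 : act 1 n41661 = n41661 := d16_1 D41661 (iv D41661) F121421
theorem F174108 : act 2 n41661 = n29017 := d23_1 D41661 (iv D29017) (iv F121422)
theorem F174109 : act 3 n41661 = n41661 := d29_1 D41661 (iv D41661) F121423
theorem F174110 : act 5 n41661 = n28606 := d38_1 D41661 (iv D28606) D28605
theorem F174111 : act 7 n41661 = n41661 := d43_1 D41661 (iv D41661) F121424
def n41662 : Q := act 8 n28606
theorem D41662 : act 8 n28606 = n41662 := rfl
theorem F174112 : act 1 n41662 = n41662 := d15_1 D41662 (iv D41662) F121426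
theorem F174113 : act 2 n41662 = n29018 := d22_1 D41662 (iv D29018) (iv F121427)
theorem F174114 : act 4 n41662 = n28607 := d33_1 D41662 (iv D28607) (iv F121429)
theorem F174115 : act 7 n41662 = n41662 := d42_1 D41662 (iv D41662) F121430
theorem F174116 : act 9 n41662 = n41662 := d44_2 D28606 D41662 (iv D41662) (iv D28606) F84914
def n41665 : Q := act 3 n28609
theorem D41665 : act 3 n28609 = n41665 := rfl
theorem F174126 : act 5 n41665 = n28611 := d25_2 (iv F121441) D41665 (iv D28611)
def n41666 : Q := act 9 n28609
theorem D41666 : act 9 n28609 = n41666 := rfl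
theorem F174130 : act 5 n41666 = n28612 := d38_1 D41666 (iv D28612) (iv F121441)
def n41667 : Q := act 3 n28610
theorem D41667 : act 3 n28610 = n41667 := rfl
theorem F174134 : act 4 n41667 = n29023 := d24_2 (iv F121444) D41667 (iv D29023) F86104 (iv F84942)
theorem F174136 : act 7 n41667 = n28611 := d27_2 (iv F121446) D41667 (iv D28611)
def n41668 : Q := act 9 n28610
theorem D41668 : act 9 n28610 = n41668 := rfl
theorem F174141 : act 7 n41668 = n28612 := d43_1 D41668 (iv D28612) (iv F121446)
def n41669 : Q := act 2 n28611
theorem D41669 : act 2 n28611 = n41669 := rfl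
theorem F174143 : act 4 n41669 = n29025 := d18_2 (iv F121448) D41669 (iv D29025)
theorem F174144 : act 6 n41669 = n28613 := d20_2 (iv F121449) D41669 (iv D28613)
theorem F174145 : act 8 n41669 = n41669 := d22_2 F121450 D41669 (iv D41669)
def n41670 : Q := act 9 n28611
theorem D41670 : act 9 n28611 = n41670 := rfl
theorem F174146 : act 1 n41670 = n28623 := d16_1 D41670 (iv D28623) (iv F121447)
theorem F174147 : act 3 n41670 = n28612 := d29_1 D41670 (iv D28612) D28611
theorem F174148 : act 4 n41670 = n29026 := d34_1 D41670 (iv D29026) (iv F121448)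
theorem F174149 : act 6 n41670 = n28614 := d41_1 D41670 (iv D28614) (iv F121449)
def n41671 : Q := act 1 n28613
theorem D41671 : act 1 n28613 = n41671 := rfl
theorem F174150 : act 2 n41671 = n28624 := d9_2 D28613 D41671 (iv D28624) (iv D19685) (iv F84931)
theorem F174151 : act 4 n41671 = n29027 := d11_2 (iv F121455) D41671 (iv D29027)
theorem F174152 : act 5 n41671 = n41671 := d12_2 F121456 D41671 (iv D41671)
theorem F174153 : act 7 n41671 = n41671 := d14_2 F121457 D41671 (iv D41671)
theorem F174154 : act 8 n41671 = n41671 := d15_2 F121458 D41671 (iv D41671)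
def n41672 : Q := act 9 n28613
theorem D41672 : act 9 n28613 = n41672 := rfl
theorem F174155 : act 2 n41672 = n28614 := d23_1 D41672 (iv D28614) D28613
theorem F174156 : act 4 n41672 = n29028 := d34_1 D41672 (iv D29028) (iv F121455)
theorem F174157 : act 5 n41672 = n41672 := d38_1 D41672 (iv D41672) F121456
theorem F174158 : act 7 n41672 = n41672 := d43_1 D41672 (iv D41672) F121457
def n41673 : Q := act 8 n28614
theorem D41673 : act 8 n28614 = n41673 := rfl
theorem F174159 : act 1 n41673 = n28626 := d15_1 D41673 (iv D28626) (iv F121459)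
theorem F174160 : act 3 n41673 = n41673 := d28_1 D41673 (iv D41673) F121460 F84940 (iv F121460)
theorem F174161 : act 4 n41673 = n29029 := d33_1 D41673 (iv D29029) (iv F121461)
theorem F174162 : act 5 n41673 = n41673 := d37_1 D41673 (iv D41673) F121462
theorem F174163 : act 7 n41673 = n41673 := d42_1 D41673 (iv D41673) F121463
theorem F174164 : act 9 n41673 = n41673 := d44_2 D28614 D41673 (iv D41673) (iv D28614) F84935
def n41675 : Q := act 3 n28617
theorem D41675 : act 3 n28617 = n41675 := rfl
theorem F174171 : act 5 n41675 = n28620 := d25_2 (iv F121477) D41675 (iv D28620)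
theorem F174172 : act 7 n41675 = n28618 := d27_2 (iv F121478) D41675 (iv D28618)
def n41676 : Q := act 9 n28617
theorem D41676 : act 9 n28617 = n41676 := rfl
theorem F174176 : act 5 n41676 = n28621 := d38_1 D41676 (iv D28621) (iv F121477)
theorem F174177 : act 7 n41676 = n28619 := d43_1 D41676 (iv D28619) (iv F121478)
def n41677 : Q := act 2 n28618
theorem D41677 : act 2 n28618 = n41677 := rfl
theorem F174179 : act 0 n41677 = n41677 := d1_1 D41677 (iv D41677) F121479
theorem F174180 : act 3 n41677 = n41677 := d17_2 D28618 D41677 (iv D41677) (iv D28618) F84955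
theorem F174181 : act 5 n41677 = n28622 := d19_2 (iv F121480) D41677 (iv D28622)
theorem F174182 : act 6 n41677 = n41677 := d20_2 F121481 D41677 (iv D41677)
theorem F174183 : act 8 n41677 = n41677 := d22_2 F121482 D41677 (iv D41677)
def n41678 : Q := act 4 n28618
theorem D41678 : act 4 n28618 = n41678 := rfl
theorem F174185 : act 5 n41678 = n29034 := d30_2 (iv F121480) D41678 (iv D29034) F86133 (iv F84964)
def n41679 : Q := act 9 n28618
theorem D41679 : act 9 n28618 = n41679 := rfl
theorem F174188 : act 0 n41679 = n41679 := d8_1 D41679 (iv D41679) F121479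
theorem F174189 : act 3 n41679 = n28619 := d29_1 D41679 (iv D28619) D28618
theorem F174190 : act 5 n41679 = n28623 := d38_1 D41679 (iv D28623) (iv F121480)
theorem F174191 : act 6 n41679 = n41679 := d41_1 D41679 (iv D41679) F121481
def n41680 : Q := act 2 n28620
theorem D41680 : act 2 n28620 = n41680 := rfl
theorem F174192 : act 0 n41680 = n41680 := d1_1 D41680 (iv D41680) F121488
theorem F174193 : act 3 n41680 = n41680 := d17_2 D28620 D41680 (iv D41680) (iv D28620) F84959
theorem F174194 : act 4 n41680 = n29036 := d18_2 (iv F121489) D41680 (iv D29036)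
theorem F174195 : act 6 n41680 = n41680 := d20_2 F121490 D41680 (iv D41680)
theorem F174196 : act 7 n41680 = n28622 := d21_2 (iv F121491) D41680 (iv D28622)
theorem F174197 : act 8 n41680 = n41680 := d22_2 F121492 D41680 (iv D41680)
def n41681 : Q := act 9 n28620
theorem D41681 : act 9 n28620 = n41681 := rfl
theorem F174198 : act 0 n41681 = n41681 := d8_1 D41681 (iv D41681) F121488
theorem F174199 : act 3 n41681 = n28621 := d29_1 D41681 (iv D28621) D28620
theorem F174200 : act 4 n41681 = n29037 := d34_1 D41681 (iv D29037) (iv F121489)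
theorem F174201 : act 6 n41681 = n41681 := d41_1 D41681 (iv D41681) F121490
theorem F174202 : act 7 n41681 = n28623 := d43_1 D41681 (iv D28623) (iv F121491)
def n41682 : Q := act 1 n28622
theorem D41682 : act 1 n28622 = n41682 := rfl
theorem F174203 : act 3 n41682 = n41682 := d10_2 F121500 D41682 (iv D41682)
theorem F174204 : act 4 n41682 = n29038 := d11_2 (iv F121501) D41682 (iv D29038)
theorem F174205 : act 6 n41682 = n28624 := d13_2 (iv F121502) D41682 (iv D28624)
theorem F174206 : act 8 n41682 = n41682 := d15_2 F121503 D41682 (iv D41682)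
def n41683 : Q := act 9 n28622
theorem D41683 : act 9 n28622 = n41683 := rfl
theorem F174207 : act 0 n41683 = n41683 := d8_1 D41683 (iv D41683) F121499
theorem F174208 : act 2 n41683 = n28623 := d23_1 D41683 (iv D28623) D28622
theorem F174209 : act 3 n41683 = n41683 := d29_1 D41683 (iv D41683) F121500
theorem F174210 : act 4 n41683 = n29039 := d34_1 D41683 (iv D29039) (iv F121501)
theorem F174211 : act 6 n41683 = n28625 := d41_1 D41683 (iv D28625) (iv F121502)
def n41684 : Q := act 8 n28623
theorem D41684 : act 8 n28623 = n41684 := rfl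
theorem F174212 : act 0 n41684 = n41684 := d7_1 D41684 (iv D41684) F121504
theorem F174213 : act 3 n41684 = n41684 := d28_1 D41684 (iv D41684) F121505 F84971 (iv F121505)
theorem F174214 : act 4 n41684 = n29040 := d33_1 D41684 (iv D29040) (iv F121506)
theorem F174215 : act 6 n41684 = n28626 := d40_1 D41684 (iv D28626) (iv F121507)
theorem F174216 : act 9 n41684 = n41684 := d44_2 D28623 D41684 (iv D41684) (iv D28623) F84966
def n41685 : Q := act 0 n28624
theorem D41685 : act 0 n28624 = n41685 := rfl
theorem F174217 : act 1 n41685 = n41685 := d0_2 D28624 D41685 (iv D41685) (iv D28624) F84972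
theorem F174218 : act 3 n41685 = n41685 := d2_2 F121508 D41685 (iv D41685)
theorem F174219 : act 4 n41685 = n29041 := d3_2 (iv F121509) D41685 (iv D29041)
theorem F174220 : act 5 n41685 = n41685 := d4_2 F121510 D41685 (iv D41685)
theorem F174221 : act 7 n41685 = n41685 := d6_2 F121511 D41685 (iv D41685)
theorem F174222 : act 8 n41685 = n41685 := d7_2 F121512 D41685 (iv D41685)
def n41686 : Q := act 9 n28624
theorem D41686 : act 9 n28624 = n41686 := rfl
theorem F174223 : act 1 n41686 = n28625 := d16_1 D41686 (iv D28625) D28624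
theorem F174224 : act 3 n41686 = n41686 := d29_1 D41686 (iv D41686) F121508
theorem F174225 : act 4 n41686 = n29042 := d34_1 D41686 (iv D29042) (iv F121509)
theorem F174226 : act 5 n41686 = n41686 := d38_1 D41686 (iv D41686) F121510
theorem F174227 : act 7 n41686 = n41686 := d43_1 D41686 (iv D41686) F121511
def n41687 : Q := act 8 n28625
theorem D41687 : act 8 n28625 = n41687 := rfl
theorem F174228 : act 0 n41687 = n41687 := d7_1 D41687 (iv D41687) F121513
theorem F174229 : act 2 n41687 = n28626 := d22_1 D41687 (iv D28626) (iv F121514)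
theorem F174230 : act 4 n41687 = n29043 := d33_1 D41687 (iv D29043) (iv F121516)
theorem F174231 : act 5 n41687 = n41687 := d37_1 D41687 (iv D41687) F121517
theorem F174232 : act 7 n41687 = n41687 := d42_1 D41687 (iv D41687) F121518
theorem F174233 : act 9 n41687 = n41687 := d44_2 D28625 D41687 (iv D41687) (iv D28625) F84977
def n41690 : Q := act 8 n28627
theorem D41690 : act 8 n28627 = n41690 := rfl
theorem F174245 : act 0 n41690 = n28631 := d7_1 D41690 (iv D28631) (iv F121525)
def n41692 : Q := act 5 n28629
theorem D41692 : act 5 n28629 = n41692 := rfl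
def n41693 : Q := act 8 n28629
theorem D41693 : act 8 n28629 = n41693 := rfl
theorem F174264 : act 2 n41693 = n28631 := d22_1 D41693 (iv D28631) D28629
theorem F174265 : act 4 n41693 = n30029 := d33_1 D41693 (iv D30029) (iv F121540)
def n41694 : Q := act 4 n28630
theorem D41694 : act 4 n28630 = n41694 := rfl
theorem F174268 : act 1 n41694 = n28633 := d11_1 D41694 (iv D28633) (iv F121544)
theorem F174270 : act 5 n41694 = n30030 := d30_2 D28630 D41694 (iv D30030) (iv D20630) (iv F84997)
def n41695 : Q := act 6 n28630
theorem D41695 : act 6 n28630 = n41695 := rfl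
theorem F174275 : act 5 n41695 = n28661 := d35_1 D41695 (iv D28661) (iv D19709) (iv F84998) D28630
theorem F174276 : act 9 n41695 = n28645 := d41_2 (iv F121547) D41695 (iv D28645)
def n41696 : Q := act 8 n28630
theorem D41696 : act 8 n28630 = n41696 := rfl
theorem F174279 : act 5 n41696 = n28631 := d37_1 D41696 (iv D28631) D28630
def n41697 : Q := act 9 n28631
theorem D41697 : act 9 n28631 = n41697 := rfl
theorem F174283 : act 4 n41697 = n30033 := d34_1 D41697 (iv D30033) (iv F121550)
def n41705 : Q := act 5 n28638
theorem D41705 : act 5 n28638 = n41705 := rfl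
theorem F174328 : act 2 n41705 = n28639 := d19_1 D41705 (iv D28639) D28638
def n41707 : Q := act 4 n28639
theorem D41707 : act 4 n28639 = n41707 := rfl
theorem F174339 : act 5 n41707 = n30043 := d30_2 D28639 D41707 (iv D30043) (iv D20639) (iv F85034)
def n41713 : Q := act 6 n28642
theorem D41713 : act 6 n28642 = n41713 := rfl
theorem F174365 : act 2 n41713 = n28645 := d20_1 D41713 (iv D28645) (iv F121609)
theorem F174367 : act 5 n41713 = n28679 := d35_1 D41713 (iv D28679) (iv D19721) (iv F85045) D28642
def n41714 : Q := act 8 n28642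
theorem D41714 : act 8 n28642 = n41714 := rfl
theorem F174369 : act 2 n41714 = n28646 := d22_1 D41714 (iv D28646) (iv F121609)
def n41730 : Q := act 5 n28654
theorem D41730 : act 5 n28654 = n41730 := rfl
theorem F174440 : act 9 n41730 = n28671 := d38_2 (iv F121662) D41730 (iv D28671)
def n41732 : Q := act 4 n28655
theorem D41732 : act 4 n28655 = n41732 := rfl
theorem F174445 : act 0 n41732 = n28660 := d3_1 D41732 (iv D28660) (iv F121663)
theorem F174448 : act 5 n41732 = n30095 := d30_2 D28655 D41732 (iv D30095) (iv D20673) (iv F85083)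
theorem F174450 : act 9 n41732 = n28673 := d34_2 (iv F121667) D41732 (iv D28673)
def n41733 : Q := act 6 n28655
theorem D41733 : act 6 n28655 = n41733 := rfl
theorem F174454 : act 9 n41733 = n28674 := d41_2 (iv F121667) D41733 (iv D28674)
def n41734 : Q := act 8 n28655
theorem D41734 : act 8 n28655 = n41734 := rfl
theorem F174455 : act 0 n41734 = n28662 := d7_1 D41734 (iv D28662) (iv F121663)
def n41735 : Q := act 9 n28656
theorem D41735 : act 9 n28656 = n41735 := rfl
theorem F174465 : act 8 n41735 = n28676 := d44_1 D41735 (iv D28676) (iv D19719) (iv F85085) D28656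
def n41737 : Q := act 4 n28658
theorem D41737 : act 4 n28658 = n41737 := rfl
theorem F174473 : act 1 n41737 = n41737 := d11_1 D41737 (iv D41737) F121679
theorem F174474 : act 2 n41737 = n28660 := d18_1 D41737 (iv D28660) (iv F121680)
theorem F174475 : act 5 n41737 = n30100 := d30_2 D28658 D41737 (iv D30100) (iv D20676) (iv F85095)
theorem F174476 : act 7 n41737 = n28703 := d32_2 (iv F121682) D41737 (iv D28703)
theorem F174477 : act 9 n41737 = n28678 := d34_2 (iv F121683) D41737 (iv D28678)
def n41738 : Q := act 6 n28658
theorem D41738 : act 6 n28658 = n41738 := rfl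
theorem F174481 : act 9 n41738 = n28679 := d41_2 (iv F121683) D41738 (iv D28679)
def n41739 : Q := act 8 n28658
theorem D41739 : act 8 n28658 = n41739 := rfl
theorem F174483 : act 2 n41739 = n28662 := d22_1 D41739 (iv D28662) (iv F121680)
def n41742 : Q := act 6 n28660
theorem D41742 : act 6 n28660 = n41742 := rfl
theorem F174495 : act 1 n41742 = n28665 := d13_1 D41742 (iv D28665) (iv F121688)
theorem F174496 : act 3 n41742 = n28769 := d26_1 D41742 (iv D28769) (iv F121689)
theorem F174497 : act 4 n41742 = n28661 := d31_1 D41742 (iv D28661) D28660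
theorem F174498 : act 9 n41742 = n28683 := d41_2 (iv F121692) D41742 (iv D28683)
def n41743 : Q := act 8 n28660
theorem D41743 : act 8 n28660 = n41743 := rfl
theorem F174499 : act 1 n41743 = n28666 := d15_1 D41743 (iv D28666) (iv F121688)
theorem F174500 : act 4 n41743 = n28662 := d33_1 D41743 (iv D28662) D28660
theorem F174501 : act 5 n41743 = n30106 := d37_1 D41743 (iv D30106) (iv F121690)
theorem F174502 : act 7 n41743 = n28709 := d42_1 D41743 (iv D28709) (iv F121691)
def n41744 : Q := act 7 n28661
theorem D41744 : act 7 n28661 = n41744 := rfl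
theorem F174505 : act 6 n41744 = n28710 := d39_1 D41744 (iv D28710) (iv D19740) (iv F85100) D28661
theorem F174506 : act 9 n41744 = n28685 := d43_2 (iv F121695) D41744 (iv D28685)
def n41745 : Q := act 8 n28661
theorem D41745 : act 8 n28661 = n41745 := rfl
def n41746 : Q := act 9 n28662
theorem D41746 : act 9 n28662 = n41746 := rfl
theorem F174514 : act 8 n41746 = n28687 := d44_1 D41746 (iv D28687) (iv D19725) (iv F85101) D28662
def n41747 : Q := act 5 n28665
theorem D41747 : act 5 n28665 = n41747 := rfl
theorem F174517 : act 3 n41747 = n28774 := d25_1 D41747 (iv D28774) (iv F121713)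
theorem F174519 : act 9 n41747 = n28688 := d38_2 (iv F121715) D41747 (iv D28688)
def n41748 : Q := act 7 n28665
theorem D41748 : act 7 n28665 = n41748 := rfl
theorem F174522 : act 3 n41748 = n28775 := d27_1 D41748 (iv D28775) (iv F121713)
theorem F174524 : act 6 n41748 = n28714 := d39_1 D41748 (iv D28714) (iv D19744) (iv F85115) D28665
theorem F174525 : act 9 n41748 = n28689 := d43_2 (iv F121715) D41748 (iv D28689)
def n41749 : Q := act 8 n28665
theorem D41749 : act 8 n28665 = n41749 := rfl
theorem F174529 : act 6 n41749 = n28666 := d40_1 D41749 (iv D28666) D28665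
def n41750 : Q := act 3 n28666
theorem D41750 : act 3 n28666 = n41750 := rfl
theorem F174532 : act 5 n41750 = n30113 := d25_2 (iv F121719) D41750 (iv D30113)
theorem F174533 : act 7 n41750 = n28716 := d27_2 (iv F121720) D41750 (iv D28716)
theorem F174534 : act 8 n41750 = n28777 := d28_2 D28666 D41750 (iv D28777) (iv D19786) (iv F85113)
def n41751 : Q := act 9 n28666
theorem D41751 : act 9 n28666 = n41751 := rfl
theorem F174539 : act 7 n41751 = n28717 := d43_1 D41751 (iv D28717) (iv F121720)
def n41756 : Q := act 4 n28671
theorem D41756 : act 4 n28671 = n41756 := rfl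
theorem F174561 : act 0 n41756 = n28678 := d3_1 D41756 (iv D28678) (iv F121741)
theorem F174562 : act 2 n41756 = n28673 := d18_1 D41756 (iv D28673) (iv F121742)
theorem F174563 : act 5 n41756 = n30119 := d30_2 D28671 D41756 (iv D30119) (iv D20689) (iv F85140)
def n41761 : Q := act 6 n28673
theorem D41761 : act 6 n28673 = n41761 := rfl
theorem F174581 : act 3 n41761 = n28788 := d26_1 D41761 (iv D28788) (iv F121751)
theorem F174582 : act 4 n41761 = n28674 := d31_1 D41761 (iv D28674) D28673
def n41766 : Q := act 3 n28678
theorem D41766 : act 3 n28678 = n41766 := rfl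
theorem F174600 : act 2 n41766 = n28793 := d17_1 D41766 (iv D28793) F85485 (iv F85163) (iv F121771)
theorem F174602 : act 5 n41766 = n30129 := d25_2 (iv F121772) D41766 (iv D30129)
def n41767 : Q := act 6 n28678
theorem D41767 : act 6 n28678 = n41767 := rfl
theorem F174604 : act 1 n41767 = n41767 := d13_1 D41767 (iv D41767) F121770
theorem F174605 : act 2 n41767 = n28683 := d20_1 D41767 (iv D28683) (iv F121771)
theorem F174606 : act 4 n41767 = n28679 := d31_1 D41767 (iv D28679) D28678
def n41768 : Q := act 8 n28678
theorem D41768 : act 8 n28678 = n41768 := rfl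
theorem F174608 : act 2 n41768 = n28684 := d22_1 D41768 (iv D28684) (iv F121771)
def n41769 : Q := act 7 n28679
theorem D41769 : act 7 n28679 = n41769 := rfl
theorem F174613 : act 2 n41769 = n28685 := d21_1 D41769 (iv D28685) (iv F121775)
theorem F174615 : act 6 n41769 = n28735 := d39_1 D41769 (iv D28735) (iv D19758) (iv F85157) D28679
def n41770 : Q := act 8 n28679
theorem D41770 : act 8 n28679 = n41770 := rfl
theorem F174617 : act 2 n41770 = n28686 := d22_1 D41770 (iv D28686) (iv F121775)
def n41775 : Q := act 5 n28683
theorem D41775 : act 5 n28683 = n41775 := rfl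
theorem F174635 : act 3 n41775 = n28802 := d25_1 D41775 (iv D28802) (iv F121789)
theorem F174636 : act 6 n41775 = n30138 := d35_2 D28683 D41775 (iv D30138) (iv D20701) (iv F85164)
def n41776 : Q := act 7 n28683
theorem D41776 : act 7 n28683 = n41776 := rfl
theorem F174638 : act 3 n41776 = n28803 := d27_1 D41776 (iv D28803) (iv F121789)
theorem F174639 : act 4 n41776 = n28685 := d32_1 D41776 (iv D28685) (iv F121790)
theorem F174640 : act 6 n41776 = n28742 := d39_1 D41776 (iv D28742) (iv D19762) (iv F85165) D28683
def n41777 : Q := act 8 n28683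
theorem D41777 : act 8 n28683 = n41777 := rfl
theorem F174642 : act 4 n41777 = n28686 := d33_1 D41777 (iv D28686) (iv F121790)
theorem F174643 : act 6 n41777 = n28684 := d40_1 D41777 (iv D28684) D28683
def n41778 : Q := act 3 n28684
theorem D41778 : act 3 n28684 = n41778 := rfl
theorem F174646 : act 7 n41778 = n28744 := d27_2 (iv F121794) D41778 (iv D28744)
theorem F174647 : act 8 n41778 = n28805 := d28_2 D28684 D41778 (iv D28805) (iv D19804) (iv F85163)
def n41779 : Q := act 9 n28684
theorem D41779 : act 9 n28684 = n41779 := rfl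
def n41783 : Q := act 8 n28688
theorem D41783 : act 8 n28688 = n41783 := rfl
theorem F174663 : act 5 n41783 = n28690 := d37_1 D41783 (iv D28690) D28688
theorem F174664 : act 6 n41783 = n30146 := d40_1 D41783 (iv D30146) (iv F121806)
def n41792 : Q := act 4 n28696
theorem D41792 : act 4 n28696 = n41792 := rfl
theorem F174700 : act 0 n41792 = n28703 := d3_1 D41792 (iv D28703) (iv F121838)
theorem F174702 : act 5 n41792 = n30196 := d30_2 D28696 D41792 (iv D30196) (iv D20741) (iv F85200)
def n41797 : Q := act 6 n28698
theorem D41797 : act 6 n28698 = n41797 := rfl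
theorem F174721 : act 0 n41797 = n28708 := d5_1 D41797 (iv D28708) (iv F121846)
theorem F174725 : act 9 n41797 = n28727 := d41_2 (iv F121850) D41797 (iv D28727)
def n41798 : Q := act 8 n28698
theorem D41798 : act 8 n28698 = n41798 := rfl
theorem F174726 : act 0 n41798 = n28709 := d7_1 D41798 (iv D28709) (iv F121846)
def n41799 : Q := act 7 n28699
theorem D41799 : act 7 n28699 = n41799 := rfl
theorem F174734 : act 9 n41799 = n28729 := d43_2 (iv F121855) D41799 (iv D28729)
def n41800 : Q := act 8 n28699
theorem D41800 : act 8 n28699 = n41800 := rfl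
theorem F174735 : act 0 n41800 = n28711 := d7_1 D41800 (iv D28711) (iv F121851)
def n41801 : Q := act 9 n28700
theorem D41801 : act 9 n28700 = n41801 := rfl
theorem F174744 : act 8 n41801 = n28731 := d44_1 D41801 (iv D28731) (iv D19754) (iv F85206) D28700
def n41802 : Q := act 3 n28703
theorem D41802 : act 3 n28703 = n41802 := rfl
theorem F174745 : act 1 n41802 = n41802 := d10_1 D41802 (iv D41802) F121873
theorem F174746 : act 2 n41802 = n28829 := d17_1 D41802 (iv D28829) F85590 (iv F85228) (iv F121874)
theorem F174747 : act 4 n41802 = n41802 := d24_2 D28703 D41802 (iv D41802) (iv D28703) F85221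
theorem F174748 : act 5 n41802 = n30206 := d25_2 (iv F121875) D41802 (iv D30206)
theorem F174749 : act 9 n41802 = n28732 := d29_2 (iv F121876) D41802 (iv D28732)
def n41803 : Q := act 6 n28703
theorem D41803 : act 6 n28703 = n41803 := rfl
theorem F174750 : act 1 n41803 = n41803 := d13_1 D41803 (iv D41803) F121873
theorem F174751 : act 2 n41803 = n28708 := d20_1 D41803 (iv D28708) (iv F121874)
theorem F174752 : act 4 n41803 = n28704 := d31_1 D41803 (iv D28704) D28703
theorem F174753 : act 9 n41803 = n28733 := d41_2 (iv F121876) D41803 (iv D28733)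
def n41804 : Q := act 8 n28703
theorem D41804 : act 8 n28703 = n41804 := rfl
def n41805 : Q := act 7 n28704
theorem D41805 : act 7 n28704 = n41805 := rfl
theorem F174762 : act 9 n41805 = n28735 := d43_2 (iv F121881) D41805 (iv D28735)
def n41806 : Q := act 8 n28704
theorem D41806 : act 8 n28704 = n41806 := rfl
theorem F174764 : act 2 n41806 = n28711 := d22_1 D41806 (iv D28711) (iv F121878)
def n41811 : Q := act 5 n28708
theorem D41811 : act 5 n28708 = n41811 := rfl
theorem F174784 : act 1 n41811 = n28713 := d12_1 D41811 (iv D28713) (iv F121894)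
theorem F174785 : act 3 n41811 = n28838 := d25_1 D41811 (iv D28838) (iv F121895)
theorem F174786 : act 4 n41811 = n41811 := d30_1 D41811 (iv D41811) F121896 F85233 (iv F121896)
theorem F174787 : act 6 n41811 = n30215 := d35_2 D28708 D41811 (iv D30215) (iv D20753) (iv F85229)
theorem F174788 : act 9 n41811 = n28741 := d38_2 (iv F121897) D41811 (iv D28741)
def n41812 : Q := act 7 n28708
theorem D41812 : act 7 n28708 = n41812 := rfl
theorem F174789 : act 1 n41812 = n28714 := d14_1 D41812 (iv D28714) (iv F121894)
theorem F174790 : act 3 n41812 = n28839 := d27_1 D41812 (iv D28839) (iv F121895)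
theorem F174791 : act 4 n41812 = n28710 := d32_1 D41812 (iv D28710) (iv F121896)
theorem F174792 : act 9 n41812 = n28742 := d43_2 (iv F121897) D41812 (iv D28742)
def n41813 : Q := act 8 n28708
theorem D41813 : act 8 n28708 = n41813 := rfl
theorem F174793 : act 1 n41813 = n28715 := d15_1 D41813 (iv D28715) (iv F121894)
theorem F174794 : act 4 n41813 = n28711 := d33_1 D41813 (iv D28711) (iv F121896)
theorem F174795 : act 6 n41813 = n28709 := d40_1 D41813 (iv D28709) D28708
def n41814 : Q := act 3 n28709
theorem D41814 : act 3 n28709 = n41814 := rfl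
theorem F174796 : act 1 n41814 = n28716 := d10_1 D41814 (iv D28716) (iv F121898)
theorem F174797 : act 4 n41814 = n41814 := d24_2 (iv F121899) D41814 (iv D41814) F121899 F85236
theorem F174798 : act 5 n41814 = n30218 := d25_2 (iv F121900) D41814 (iv D30218)
theorem F174799 : act 8 n41814 = n28841 := d28_2 D28709 D41814 (iv D28841) (iv D19829) (iv F85228)
def n41816 : Q := act 8 n28710
theorem D41816 : act 8 n28710 = n41816 := rfl
def n41817 : Q := act 9 n28711
theorem D41817 : act 9 n28711 = n41817 := rfl
theorem F174812 : act 8 n41817 = n28747 := d44_1 D41817 (iv D28747) (iv D19765) (iv F85234) D28711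
def n41818 : Q := act 7 n28713
theorem D41818 : act 7 n28713 = n41818 := rfl
theorem F174813 : act 0 n41818 = n41818 := d6_1 D41818 (iv D41818) F121913
theorem F174814 : act 2 n41818 = n41818 := d21_1 D41818 (iv D41818) F121914
theorem F174815 : act 3 n41818 = n28845 := d27_1 D41818 (iv D28845) (iv F121915)
theorem F174816 : act 4 n41818 = n41818 := d32_1 D41818 (iv D41818) F121916
theorem F174817 : act 5 n41818 = n28714 := d36_1 D41818 (iv D28714) D28713
theorem F174818 : act 9 n41818 = n28748 := d43_2 (iv F121918) D41818 (iv D28748)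
def n41819 : Q := act 8 n28713
theorem D41819 : act 8 n28713 = n41819 := rfl
theorem F174819 : act 0 n41819 = n41819 := d7_1 D41819 (iv D41819) F121913
theorem F174820 : act 2 n41819 = n41819 := d22_1 D41819 (iv D41819) F121914
theorem F174821 : act 4 n41819 = n41819 := d33_1 D41819 (iv D41819) F121916
theorem F174822 : act 5 n41819 = n28715 := d37_1 D41819 (iv D28715) D28713
theorem F174823 : act 6 n41819 = n30223 := d40_1 D41819 (iv D30223) (iv F121917)
def n41820 : Q := act 8 n28714
theorem D41820 : act 8 n28714 = n41820 := rfl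
theorem F174827 : act 7 n41820 = n28715 := d42_1 D41820 (iv D28715) D28714
def n41821 : Q := act 3 n28715
theorem D41821 : act 3 n28715 = n41821 := rfl
theorem F174828 : act 0 n41821 = n41821 := d2_1 D41821 (iv D41821) F121924
theorem F174829 : act 4 n41821 = n41821 := d24_2 (iv F121926) D41821 (iv D41821) F121926 F85265
theorem F174830 : act 6 n41821 = n28716 := d26_2 (iv F121927) D41821 (iv D28716)
theorem F174831 : act 8 n41821 = n28848 := d28_2 D28715 D41821 (iv D28848) (iv D19835) (iv F85251)
def n41822 : Q := act 9 n28715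
theorem D41822 : act 9 n28715 = n41822 := rfl
theorem F174836 : act 8 n41822 = n28752 := d44_1 D41822 (iv D28752) (iv D19769) (iv F85253) D28715
def n41823 : Q := act 2 n28716
theorem D41823 : act 2 n28716 = n41823 := rfl
theorem F174840 : act 5 n41823 = n30227 := d19_2 (iv F121930) D41823 (iv D30227)
theorem F174841 : act 8 n41823 = n28850 := d22_2 (iv F121931) D41823 (iv D28850)
def n41824 : Q := act 9 n28716
theorem D41824 : act 9 n28716 = n41824 := rfl
theorem F174842 : act 0 n41824 = n41824 := d8_1 D41824 (iv D41824) F121928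
theorem F174843 : act 3 n41824 = n28717 := d29_1 D41824 (iv D28717) D28716
theorem F174844 : act 4 n41824 = n41824 := d34_1 D41824 (iv D41824) F121929
def n41831 : Q := act 3 n28722
theorem D41831 : act 3 n28722 = n41831 := rfl
theorem F174874 : act 0 n41831 = n28732 := d2_1 D41831 (iv D28732) (iv F121957)
theorem F174877 : act 5 n41831 = n30235 := d25_2 (iv F121959) D41831 (iv D30235)
def n41832 : Q := act 6 n28722
theorem D41832 : act 6 n28722 = n41832 := rfl
theorem F174879 : act 2 n41832 = n28727 := d20_1 D41832 (iv D28727) (iv F121958)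
theorem F174880 : act 4 n41832 = n28723 := d31_1 D41832 (iv D28723) D28722
def n41840 : Q := act 5 n28727
theorem D41840 : act 5 n28727 = n41840 := rfl
theorem F174906 : act 0 n41840 = n28741 := d4_1 D41840 (iv D28741) (iv F121974)
theorem F174907 : act 1 n41840 = n41840 := d12_1 D41840 (iv D41840) F121975
theorem F174908 : act 3 n41840 = n28867 := d25_1 D41840 (iv D28867) (iv F121976)
theorem F174909 : act 4 n41840 = n41840 := d30_1 D41840 (iv D41840) F121977 F85292 (iv F121977)
theorem F174910 : act 6 n41840 = n30244 := d35_2 D28727 D41840 (iv D30244) (iv D20772) (iv F85288)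
def n41841 : Q := act 7 n28727
theorem D41841 : act 7 n28727 = n41841 := rfl
theorem F174913 : act 3 n41841 = n28868 := d27_1 D41841 (iv D28868) (iv F121976)
theorem F174914 : act 4 n41841 = n28729 := d32_1 D41841 (iv D28729) (iv F121977)
def n41842 : Q := act 8 n28727
theorem D41842 : act 8 n28727 = n41842 := rfl
theorem F174915 : act 0 n41842 = n28743 := d7_1 D41842 (iv D28743) (iv F121974)
theorem F174917 : act 4 n41842 = n28730 := d33_1 D41842 (iv D28730) (iv F121977)
def n41843 : Q := act 3 n28728
theorem D41843 : act 3 n28728 = n41843 := rfl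
theorem F174922 : act 8 n41843 = n28870 := d28_2 D28728 D41843 (iv D28870) (iv D19848) (iv F85287)
def n41847 : Q := act 6 n28732
theorem D41847 : act 6 n28732 = n41847 := rfl
theorem F174935 : act 1 n41847 = n41847 := d13_1 D41847 (iv D41847) F121993
theorem F174936 : act 2 n41847 = n28874 := d20_1 D41847 (iv D28874) (iv F121994)
theorem F174937 : act 3 n41847 = n28733 := d26_1 D41847 (iv D28733) D28732
theorem F174938 : act 4 n41847 = n41847 := d31_1 D41847 (iv D41847) F121995
def n41848 : Q := act 8 n28732
theorem D41848 : act 8 n28732 = n41848 := rfl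
theorem F174942 : act 5 n41848 = n30252 := d37_1 D41848 (iv D30252) (iv F121996)
def n41849 : Q := act 5 n28733
theorem D41849 : act 5 n28733 = n41849 := rfl
theorem F174943 : act 1 n41849 = n41849 := d12_1 D41849 (iv D41849) F121997
theorem F174944 : act 2 n41849 = n28741 := d19_1 D41849 (iv D28741) (iv F121998)
theorem F174945 : act 4 n41849 = n41849 := d30_1 D41849 (iv D41849) F121999 F85311 (iv F121999)
theorem F174946 : act 6 n41849 = n30253 := d35_2 D28733 D41849 (iv D30253) (iv D20778) (iv F85307)
def n41850 : Q := act 7 n28733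
theorem D41850 : act 7 n28733 = n41850 := rfl
theorem F174947 : act 1 n41850 = n41850 := d14_1 D41850 (iv D41850) F121997
theorem F174948 : act 2 n41850 = n28742 := d21_1 D41850 (iv D28742) (iv F121998)
theorem F174949 : act 4 n41850 = n28735 := d32_1 D41850 (iv D28735) (iv F121999)
def n41851 : Q := act 8 n28733
theorem D41851 : act 8 n28733 = n41851 := rfl
theorem F174951 : act 2 n41851 = n28743 := d22_1 D41851 (iv D28743) (iv F121998)
def n41854 : Q := act 8 n28735
theorem D41854 : act 8 n28735 = n41854 := rfl
theorem F174961 : act 2 n41854 = n28746 := d22_1 D41854 (iv D28746) (iv F122005)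
def n41862 : Q := act 7 n28741
theorem D41862 : act 7 n28741 = n41862 := rfl
theorem F174987 : act 1 n41862 = n28748 := d14_1 D41862 (iv D28748) (iv F122025)
theorem F174988 : act 3 n41862 = n28889 := d27_1 D41862 (iv D28889) (iv F122026)
theorem F174989 : act 4 n41862 = n41862 := d32_1 D41862 (iv D41862) F122027
theorem F174990 : act 5 n41862 = n28742 := d36_1 D41862 (iv D28742) D28741
def n41863 : Q := act 8 n28741
theorem D41863 : act 8 n28741 = n41863 := rfl
theorem F174991 : act 1 n41863 = n28749 := d15_1 D41863 (iv D28749) (iv F122025)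
theorem F174992 : act 4 n41863 = n41863 := d33_1 D41863 (iv D41863) F122027
theorem F174993 : act 5 n41863 = n28743 := d37_1 D41863 (iv D28743) D28741
theorem F174994 : act 6 n41863 = n30267 := d40_1 D41863 (iv D30267) (iv F122028)
def n41864 : Q := act 8 n28742
theorem D41864 : act 8 n28742 = n41864 := rfl
theorem F174996 : act 4 n41864 = n28746 := d33_1 D41864 (iv D28746) (iv F122031)
theorem F174997 : act 7 n41864 = n28743 := d42_1 D41864 (iv D28743) D28742
def n41865 : Q := act 3 n28743
theorem D41865 : act 3 n28743 = n41865 := rfl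
theorem F175000 : act 8 n41865 = n28892 := d28_2 D28743 D41865 (iv D28892) (iv D19863) (iv F85323)
def n41866 : Q := act 9 n28743
theorem D41866 : act 9 n28743 = n41866 := rfl
def n41867 : Q := act 2 n28744
theorem D41867 : act 2 n28744 = n41867 := rfl
theorem F175005 : act 8 n41867 = n28894 := d22_2 (iv F122037) D41867 (iv D28894)
def n41868 : Q := act 9 n28744
theorem D41868 : act 9 n28744 = n41868 := rfl
def n41870 : Q := act 6 n28748
theorem D41870 : act 6 n28748 = n41870 := rfl
theorem F175014 : act 3 n41870 = n28897 := d26_1 D41870 (iv D28897) (iv F122049)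
theorem F175016 : act 7 n41870 = n30274 := d39_2 D28748 D41870 (iv D30274) (iv D20793) (iv F85340)
def n41871 : Q := act 8 n28748
theorem D41871 : act 8 n28748 = n41871 := rfl
theorem F175020 : act 5 n41871 = n28750 := d37_1 D41871 (iv D28750) (iv F122051)
theorem F175021 : act 7 n41871 = n28749 := d42_1 D41871 (iv D28749) D28748
def n41872 : Q := act 3 n28749
theorem D41872 : act 3 n28749 = n41872 := rfl
theorem F175025 : act 8 n41872 = n28899 := d28_2 D28749 D41872 (iv D28899) (iv D19869) (iv F85338)
def n41873 : Q := act 9 n28749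
theorem D41873 : act 9 n28749 = n41873 := rfl
def n41878 : Q := act 1 n28753
theorem D41878 : act 1 n28753 = n41878 := rfl
theorem F175047 : act 8 n41878 = n28905 := d15_2 (iv F122071) D41878 (iv D28905)
def n41880 : Q := act 8 n28754
theorem D41880 : act 8 n28754 = n41880 := rfl
theorem F175054 : act 9 n41880 = n28907 := d44_2 D28754 D41880 (iv D28907) (iv D19874) (iv F85351)
def n41881 : Q := act 5 n28756
theorem D41881 : act 5 n28756 = n41881 := rfl
theorem F175055 : act 0 n41881 = n29069 := d4_1 D41881 (iv D29069) (iv F122079)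
def n41882 : Q := act 8 n28756
theorem D41882 : act 8 n28756 = n41882 := rfl
theorem F175061 : act 0 n41882 = n29070 := d7_1 D41882 (iv D29070) (iv F122079)
theorem F175064 : act 4 n41882 = n30311 := d33_1 D41882 (iv D30311) (iv F122082)
def n41883 : Q := act 4 n28757
theorem D41883 : act 4 n28757 = n41883 := rfl
theorem F175067 : act 0 n41883 = n28764 := d3_1 D41883 (iv D28764) (iv F122086)
theorem F175069 : act 5 n41883 = n30312 := d30_2 D28757 D41883 (iv D30312) (iv D20818) (iv F85366)
theorem F175070 : act 7 n41883 = n28819 := d32_2 (iv F122089) D41883 (iv D28819)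
theorem F175071 : act 9 n41883 = n28783 := d34_2 (iv F122090) D41883 (iv D28783)
def n41884 : Q := act 6 n28757
theorem D41884 : act 6 n28757 = n41884 := rfl
theorem F175072 : act 0 n41884 = n28765 := d5_1 D41884 (iv D28765) (iv F122086)
theorem F175076 : act 9 n41884 = n28784 := d41_2 (iv F122090) D41884 (iv D28784)
def n41885 : Q := act 8 n28757
theorem D41885 : act 8 n28757 = n41885 := rfl
theorem F175077 : act 0 n41885 = n28766 := d7_1 D41885 (iv D28766) (iv F122086)
theorem F175079 : act 5 n41885 = n28758 := d37_1 D41885 (iv D28758) D28757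
def n41886 : Q := act 3 n28758
theorem D41886 : act 3 n28758 = n41886 := rfl
theorem F175081 : act 0 n41886 = n28767 := d2_1 D41886 (iv D28767) (iv F122091)
def n41887 : Q := act 9 n28758
theorem D41887 : act 9 n28758 = n41887 := rfl
theorem F175086 : act 0 n41887 = n28768 := d8_1 D41887 (iv D28768) (iv F122091)
theorem F175091 : act 8 n41887 = n28787 := d44_1 D41887 (iv D28787) (iv D19792) (iv F85369) D28758
def n41888 : Q := act 6 n28759
theorem D41888 : act 6 n28759 = n41888 := rfl
theorem F175092 : act 0 n41888 = n28769 := d5_1 D41888 (iv D28769) (iv F122096)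
theorem F175095 : act 9 n41888 = n28788 := d41_2 (iv F122100) D41888 (iv D28788)
def n41889 : Q := act 8 n28759
theorem D41889 : act 8 n28759 = n41889 := rfl
theorem F175096 : act 0 n41889 = n28770 := d7_1 D41889 (iv D28770) (iv F122096)
theorem F175099 : act 5 n41889 = n30318 := d37_1 D41889 (iv D30318) (iv F122098)
def n41890 : Q := act 7 n28760
theorem D41890 : act 7 n28760 = n41890 := rfl
theorem F175106 : act 9 n41890 = n28790 := d43_2 (iv F122105) D41890 (iv D28790)
def n41891 : Q := act 8 n28760
theorem D41891 : act 8 n28760 = n41891 := rfl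
theorem F175107 : act 0 n41891 = n28772 := d7_1 D41891 (iv D28772) (iv F122101)
theorem F175111 : act 6 n41891 = n28761 := d40_1 D41891 (iv D28761) D28760
def n41892 : Q := act 9 n28761
theorem D41892 : act 9 n28761 = n41892 := rfl
theorem F175112 : act 0 n41892 = n28773 := d8_1 D41892 (iv D28773) (iv F122106)
theorem F175117 : act 8 n41892 = n28792 := d44_1 D41892 (iv D28792) (iv D19795) (iv F85374) D28761
def n41893 : Q := act 3 n28764
theorem D41893 : act 3 n28764 = n41893 := rfl
theorem F175118 : act 1 n41893 = n29081 := d10_1 D41893 (iv D29081) (iv F122125)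
theorem F175119 : act 4 n41893 = n41893 := d24_2 D28764 D41893 (iv D41893) (iv D28764) F85389
theorem F175120 : act 5 n41893 = n30322 := d25_2 (iv F122127) D41893 (iv D30322)
theorem F175121 : act 7 n41893 = n28829 := d27_2 (iv F122128) D41893 (iv D28829)
theorem F175122 : act 9 n41893 = n28793 := d29_2 (iv F122129) D41893 (iv D28793)
def n41894 : Q := act 6 n28764
theorem D41894 : act 6 n28764 = n41894 := rfl
theorem F175123 : act 1 n41894 = n29082 := d13_1 D41894 (iv D29082) (iv F122125)
theorem F175124 : act 2 n41894 = n28769 := d20_1 D41894 (iv D28769) (iv F122126)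
theorem F175125 : act 4 n41894 = n28765 := d31_1 D41894 (iv D28765) D28764
theorem F175126 : act 9 n41894 = n28794 := d41_2 (iv F122129) D41894 (iv D28794)
def n41895 : Q := act 8 n28764
theorem D41895 : act 8 n28764 = n41895 := rfl
theorem F175127 : act 1 n41895 = n29083 := d15_1 D41895 (iv D29083) (iv F122125)
theorem F175128 : act 2 n41895 = n28770 := d22_1 D41895 (iv D28770) (iv F122126)
theorem F175129 : act 4 n41895 = n28766 := d33_1 D41895 (iv D28766) D28764
theorem F175130 : act 5 n41895 = n30324 := d37_1 D41895 (iv D30324) (iv F122127)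
theorem F175131 : act 7 n41895 = n28831 := d42_1 D41895 (iv D28831) (iv F122128)
def n41896 : Q := act 7 n28765
theorem D41896 : act 7 n28765 = n41896 := rfl
theorem F175132 : act 1 n41896 = n29084 := d14_1 D41896 (iv D29084) (iv F122130)
theorem F175133 : act 2 n41896 = n28771 := d21_1 D41896 (iv D28771) (iv F122131)
theorem F175134 : act 3 n41896 = n41896 := d27_1 D41896 (iv D41896) F122132
theorem F175135 : act 5 n41896 = n41896 := d36_1 D41896 (iv D41896) F122133
theorem F175136 : act 6 n41896 = n28832 := d39_1 D41896 (iv D28832) (iv D19824) (iv F85390) D28765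
theorem F175137 : act 9 n41896 = n28796 := d43_2 (iv F122134) D41896 (iv D28796)
def n41897 : Q := act 8 n28765
theorem D41897 : act 8 n28765 = n41897 := rfl
theorem F175138 : act 1 n41897 = n29085 := d15_1 D41897 (iv D29085) (iv F122130)
theorem F175139 : act 2 n41897 = n28772 := d22_1 D41897 (iv D28772) (iv F122131)
theorem F175140 : act 5 n41897 = n41897 := d37_1 D41897 (iv D41897) F122133
theorem F175141 : act 6 n41897 = n28766 := d40_1 D41897 (iv D28766) D28765
def n41898 : Q := act 3 n28766
theorem D41898 : act 3 n28766 = n41898 := rfl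
theorem F175142 : act 1 n41898 = n29086 := d10_1 D41898 (iv D29086) (iv F122135)
theorem F175143 : act 2 n41898 = n41898 := d17_1 D41898 (iv D41898) F122136 F85406 (iv F122136)
theorem F175144 : act 5 n41898 = n28767 := d25_2 (iv F122137) D41898 (iv D28767)
theorem F175145 : act 7 n41898 = n28834 := d27_2 (iv F122138) D41898 (iv D28834)
theorem F175146 : act 8 n41898 = n41898 := d28_2 D28766 D41898 (iv D41898) (iv D28766) F85389
def n41899 : Q := act 9 n28766
theorem D41899 : act 9 n28766 = n41899 := rfl
theorem F175147 : act 1 n41899 = n29087 := d16_1 D41899 (iv D29087) (iv F122135)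
theorem F175148 : act 2 n41899 = n28773 := d23_1 D41899 (iv D28773) (iv F122136)
theorem F175149 : act 5 n41899 = n28768 := d38_1 D41899 (iv D28768) (iv F122137)
theorem F175150 : act 7 n41899 = n28835 := d43_1 D41899 (iv D28835) (iv F122138)
theorem F175151 : act 8 n41899 = n28799 := d44_1 D41899 (iv D28799) (iv D19800) (iv F85391) D28766
def n41900 : Q := act 4 n28767
theorem D41900 : act 4 n28767 = n41900 := rfl
theorem F175152 : act 1 n41900 = n29088 := d11_1 D41900 (iv D29088) (iv F122139)
theorem F175154 : act 3 n41900 = n30329 := d24_1 D41900 (iv D30329) (iv D20828) (iv F85394) D28767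
def n41901 : Q := act 9 n28767
theorem D41901 : act 9 n28767 = n41901 := rfl
theorem F175158 : act 1 n41901 = n29089 := d16_1 D41901 (iv D29089) (iv F122139)
theorem F175159 : act 2 n41901 = n41901 := d23_1 D41901 (iv D41901) F122140
theorem F175160 : act 3 n41901 = n28768 := d29_1 D41901 (iv D28768) D28767
theorem F175161 : act 6 n41901 = n41901 := d41_1 D41901 (iv D41901) F122141
theorem F175162 : act 7 n41901 = n28837 := d43_1 D41901 (iv D28837) (iv F122142)
def n41902 : Q := act 5 n28769
theorem D41902 : act 5 n28769 = n41902 := rfl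
theorem F175163 : act 1 n41902 = n28774 := d12_1 D41902 (iv D28774) (iv F122150)
theorem F175164 : act 4 n41902 = n41902 := d30_1 D41902 (iv D41902) F122151 F85403 (iv F122151)
theorem F175165 : act 6 n41902 = n30331 := d35_2 D28769 D41902 (iv D30331) (iv D20830) (iv F85398)
theorem F175166 : act 9 n41902 = n28802 := d38_2 (iv F122152) D41902 (iv D28802)
def n41903 : Q := act 7 n28769
theorem D41903 : act 7 n28769 = n41903 := rfl
theorem F175167 : act 1 n41903 = n28775 := d14_1 D41903 (iv D28775) (iv F122150)
theorem F175168 : act 4 n41903 = n28771 := d32_1 D41903 (iv D28771) (iv F122151)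
theorem F175169 : act 6 n41903 = n28839 := d39_1 D41903 (iv D28839) (iv D19828) (iv F85399) D28769
theorem F175170 : act 9 n41903 = n28803 := d43_2 (iv F122152) D41903 (iv D28803)
def n41904 : Q := act 8 n28769
theorem D41904 : act 8 n28769 = n41904 := rfl
theorem F175171 : act 1 n41904 = n28776 := d15_1 D41904 (iv D28776) (iv F122150)
theorem F175172 : act 4 n41904 = n28772 := d33_1 D41904 (iv D28772) (iv F122151)
theorem F175173 : act 6 n41904 = n28770 := d40_1 D41904 (iv D28770) D28769
def n41905 : Q := act 3 n28770
theorem D41905 : act 3 n28770 = n41905 := rfl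
theorem F175174 : act 1 n41905 = n28777 := d10_1 D41905 (iv D28777) (iv F122153)
theorem F175175 : act 4 n41905 = n41905 := d24_2 (iv F122154) D41905 (iv D41905) F122154 F85406
theorem F175176 : act 5 n41905 = n30334 := d25_2 (iv F122155) D41905 (iv D30334)
theorem F175177 : act 7 n41905 = n28841 := d27_2 (iv F122156) D41905 (iv D28841)
def n41906 : Q := act 9 n28770
theorem D41906 : act 9 n28770 = n41906 := rfl
theorem F175178 : act 1 n41906 = n28778 := d16_1 D41906 (iv D28778) (iv F122153)
theorem F175179 : act 4 n41906 = n28773 := d34_1 D41906 (iv D28773) (iv F122154)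
theorem F175180 : act 5 n41906 = n30335 := d38_1 D41906 (iv D30335) (iv F122155)
theorem F175181 : act 7 n41906 = n28842 := d43_1 D41906 (iv D28842) (iv F122156)
theorem F175182 : act 8 n41906 = n28806 := d44_1 D41906 (iv D28806) (iv D19804) (iv F85400) D28770
def n41907 : Q := act 8 n28771
theorem D41907 : act 8 n28771 = n41907 := rfl
theorem F175183 : act 1 n41907 = n28779 := d15_1 D41907 (iv D28779) (iv F122157)
theorem F175184 : act 3 n41907 = n41907 := d28_1 D41907 (iv D41907) F122158 F85419 (iv F122158)
theorem F175185 : act 5 n41907 = n41907 := d37_1 D41907 (iv D41907) F122159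
theorem F175186 : act 6 n41907 = n28843 := d40_1 D41907 (iv D28843) (iv F122160)
theorem F175187 : act 7 n41907 = n28772 := d42_1 D41907 (iv D28772) D28771
def n41908 : Q := act 9 n28772
theorem D41908 : act 9 n28772 = n41908 := rfl
theorem F175188 : act 1 n41908 = n28780 := d16_1 D41908 (iv D28780) (iv F122162)
theorem F175189 : act 3 n41908 = n41908 := d29_1 D41908 (iv D41908) F122163
theorem F175190 : act 5 n41908 = n41908 := d38_1 D41908 (iv D41908) F122164
theorem F175191 : act 6 n41908 = n28773 := d41_1 D41908 (iv D28773) (iv F122165)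
theorem F175192 : act 8 n41908 = n28808 := d44_1 D41908 (iv D28808) (iv D19806) (iv F85404) D28772
def n41909 : Q := act 7 n28774
theorem D41909 : act 7 n28774 = n41909 := rfl
theorem F175194 : act 2 n41909 = n29097 := d21_1 D41909 (iv D29097) (iv F122172)
theorem F175196 : act 5 n41909 = n28775 := d36_1 D41909 (iv D28775) D28774
theorem F175197 : act 9 n41909 = n28809 := d43_2 (iv F122175) D41909 (iv D28809)
def n41910 : Q := act 8 n28774
theorem D41910 : act 8 n28774 = n41910 := rfl
theorem F175202 : act 6 n41910 = n30339 := d40_1 D41910 (iv D30339) (iv F122174)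
def n41911 : Q := act 8 n28775
theorem D41911 : act 8 n28775 = n41911 := rfl
theorem F175203 : act 0 n41911 = n41911 := d7_1 D41911 (iv D41911) F122176
theorem F175204 : act 2 n41911 = n29099 := d22_1 D41911 (iv D29099) (iv F122177)
theorem F175205 : act 4 n41911 = n28779 := d33_1 D41911 (iv D28779) (iv F122178)
theorem F175206 : act 6 n41911 = n28847 := d40_1 D41911 (iv D28847) (iv F122179)
theorem F175207 : act 7 n41911 = n28776 := d42_1 D41911 (iv D28776) D28775
def n41912 : Q := act 3 n28776
theorem D41912 : act 3 n28776 = n41912 := rfl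
theorem F175210 : act 6 n41912 = n28777 := d26_2 (iv F122184) D41912 (iv D28777)
def n41913 : Q := act 9 n28776
theorem D41913 : act 9 n28776 = n41913 := rfl
theorem F175211 : act 0 n41913 = n41913 := d8_1 D41913 (iv D41913) F122181
theorem F175212 : act 2 n41913 = n29101 := d23_1 D41913 (iv D29101) (iv F122182)
theorem F175213 : act 4 n41913 = n28780 := d34_1 D41913 (iv D28780) (iv F122183)
theorem F175214 : act 6 n41913 = n28778 := d41_1 D41913 (iv D28778) (iv F122184)
theorem F175215 : act 8 n41913 = n28813 := d44_1 D41913 (iv D28813) (iv D19810) (iv F85424) D28776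
def n41914 : Q := act 2 n28777
theorem D41914 : act 2 n28777 = n41914 := rfl
theorem F175219 : act 5 n41914 = n30343 := d19_2 (iv F122187) D41914 (iv D30343)
theorem F175220 : act 7 n41914 = n28850 := d21_2 (iv F122188) D41914 (iv D28850)
def n41915 : Q := act 9 n28777
theorem D41915 : act 9 n28777 = n41915 := rfl
theorem F175221 : act 0 n41915 = n41915 := d8_1 D41915 (iv D41915) F122185
theorem F175222 : act 3 n41915 = n28778 := d29_1 D41915 (iv D28778) D28777
theorem F175223 : act 4 n41915 = n41915 := d34_1 D41915 (iv D41915) F122186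
theorem F175225 : act 7 n41915 = n28851 := d43_1 D41915 (iv D28851) (iv F122188)
def n41916 : Q := act 9 n28779
theorem D41916 : act 9 n28779 = n41916 := rfl
theorem F175226 : act 0 n41916 = n41916 := d8_1 D41916 (iv D41916) F122195
theorem F175227 : act 2 n41916 = n29104 := d23_1 D41916 (iv D29104) (iv F122196)
theorem F175228 : act 3 n41916 = n41916 := d29_1 D41916 (iv D41916) F122197
theorem F175229 : act 5 n41916 = n41916 := d38_1 D41916 (iv D41916) F122198
theorem F175230 : act 6 n41916 = n28852 := d41_1 D41916 (iv D28852) (iv F122199)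
theorem F175231 : act 7 n41916 = n28780 := d43_1 D41916 (iv D28780) (iv F122200)
theorem F175232 : act 8 n41916 = n28816 := d44_1 D41916 (iv D28816) (iv D19813) (iv F85435) D28779
def n41917 : Q := act 4 n28781
theorem D41917 : act 4 n28781 = n41917 := rfl
theorem F175233 : act 0 n41917 = n29105 := d3_1 D41917 (iv D29105) (iv F122207)
theorem F175234 : act 1 n41917 = n28783 := d11_1 D41917 (iv D28783) (iv F122208)
theorem F175235 : act 2 n41917 = n41917 := d18_1 D41917 (iv D41917) F122209
theorem F175236 : act 5 n41917 = n30346 := d30_2 D28781 D41917 (iv D30346) (iv D20842) (iv F85450)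
theorem F175237 : act 7 n41917 = n28853 := d32_2 (iv F122211) D41917 (iv D28853)
def n41918 : Q := act 6 n28781
theorem D41918 : act 6 n28781 = n41918 := rfl
theorem F175238 : act 0 n41918 = n29106 := d5_1 D41918 (iv D29106) (iv F122207)
theorem F175239 : act 1 n41918 = n28784 := d13_1 D41918 (iv D28784) (iv F122208)
theorem F175240 : act 2 n41918 = n41918 := d20_1 D41918 (iv D41918) F122209
theorem F175241 : act 3 n41918 = n41918 := d26_1 D41918 (iv D41918) F122210
theorem F175242 : act 5 n41918 = n41918 := d35_1 D41918 (iv D41918) (iv D28781) F85451 D28781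
def n41919 : Q := act 8 n28781
theorem D41919 : act 8 n28781 = n41919 := rfl
theorem F175243 : act 0 n41919 = n29107 := d7_1 D41919 (iv D29107) (iv F122207)
theorem F175244 : act 1 n41919 = n28785 := d15_1 D41919 (iv D28785) (iv F122208)
theorem F175245 : act 2 n41919 = n41919 := d22_1 D41919 (iv D41919) F122209
theorem F175246 : act 5 n41919 = n28782 := d37_1 D41919 (iv D28782) D28781
theorem F175247 : act 7 n41919 = n28855 := d42_1 D41919 (iv D28855) (iv F122211)
def n41920 : Q := act 3 n28782
theorem D41920 : act 3 n28782 = n41920 := rfl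
theorem F175248 : act 0 n41920 = n29108 := d2_1 D41920 (iv D29108) (iv F122212)
theorem F175249 : act 1 n41920 = n28786 := d10_1 D41920 (iv D28786) (iv F122213)
theorem F175250 : act 6 n41920 = n41920 := d26_2 F122216 D41920 (iv D41920)
theorem F175251 : act 7 n41920 = n28856 := d27_2 (iv F122217) D41920 (iv D28856)
theorem F175252 : act 8 n41920 = n41920 := d28_2 D28782 D41920 (iv D41920) (iv D28782) F85449
def n41921 : Q := act 9 n28782
theorem D41921 : act 9 n28782 = n41921 := rfl
theorem F175253 : act 0 n41921 = n29109 := d8_1 D41921 (iv D29109) (iv F122212)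
theorem F175254 : act 1 n41921 = n28787 := d16_1 D41921 (iv D28787) (iv F122213)
theorem F175255 : act 2 n41921 = n41921 := d23_1 D41921 (iv D41921) F122214
theorem F175256 : act 4 n41921 = n30350 := d34_1 D41921 (iv D30350) (iv F122215)
theorem F175257 : act 6 n41921 = n41921 := d41_1 D41921 (iv D41921) F122216
theorem F175258 : act 7 n41921 = n28857 := d43_1 D41921 (iv D28857) (iv F122217)
def n41922 : Q := act 3 n28783
theorem D41922 : act 3 n28783 = n41922 := rfl
theorem F175259 : act 0 n41922 = n28793 := d2_1 D41922 (iv D28793) (iv F122218)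
theorem F175260 : act 4 n41922 = n41922 := d24_2 D28783 D41922 (iv D41922) (iv D28783) F85455
theorem F175261 : act 5 n41922 = n30351 := d25_2 (iv F122220) D41922 (iv D30351)
theorem F175262 : act 7 n41922 = n28858 := d27_2 (iv F122221) D41922 (iv D28858)
def n41923 : Q := act 6 n28783
theorem D41923 : act 6 n28783 = n41923 := rfl
theorem F175263 : act 0 n41923 = n28794 := d5_1 D41923 (iv D28794) (iv F122218)
theorem F175264 : act 2 n41923 = n28788 := d20_1 D41923 (iv D28788) (iv F122219)
theorem F175265 : act 4 n41923 = n28784 := d31_1 D41923 (iv D28784) D28783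
def n41924 : Q := act 8 n28783
theorem D41924 : act 8 n28783 = n41924 := rfl
theorem F175266 : act 0 n41924 = n28795 := d7_1 D41924 (iv D28795) (iv F122218)
theorem F175267 : act 2 n41924 = n28789 := d22_1 D41924 (iv D28789) (iv F122219)
theorem F175268 : act 4 n41924 = n28785 := d33_1 D41924 (iv D28785) D28783
theorem F175269 : act 5 n41924 = n30353 := d37_1 D41924 (iv D30353) (iv F122220)
theorem F175270 : act 7 n41924 = n28860 := d42_1 D41924 (iv D28860) (iv F122221)
def n41925 : Q := act 7 n28784
theorem D41925 : act 7 n28784 = n41925 := rfl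
theorem F175272 : act 2 n41925 = n28790 := d21_1 D41925 (iv D28790) (iv F122223)
theorem F175275 : act 6 n41925 = n28861 := d39_1 D41925 (iv D28861) (iv D19843) (iv F85456) D28784
def n41926 : Q := act 8 n28784
theorem D41926 : act 8 n28784 = n41926 := rfl
theorem F175277 : act 2 n41926 = n28791 := d22_1 D41926 (iv D28791) (iv F122223)
theorem F175279 : act 6 n41926 = n28785 := d40_1 D41926 (iv D28785) D28784
def n41927 : Q := act 3 n28785
theorem D41927 : act 3 n28785 = n41927 := rfl
theorem F175282 : act 7 n41927 = n28863 := d27_2 (iv F122229) D41927 (iv D28863)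
def n41928 : Q := act 9 n28785
theorem D41928 : act 9 n28785 = n41928 := rfl
theorem F175284 : act 0 n41928 = n28799 := d8_1 D41928 (iv D28799) (iv F122226)
theorem F175285 : act 2 n41928 = n28792 := d23_1 D41928 (iv D28792) (iv F122227)
theorem F175286 : act 5 n41928 = n28787 := d38_1 D41928 (iv D28787) (iv F122228)
theorem F175287 : act 7 n41928 = n28864 := d43_1 D41928 (iv D28864) (iv F122229)
def n41929 : Q := act 4 n28786
theorem D41929 : act 4 n28786 = n41929 := rfl
theorem F175288 : act 0 n41929 = n28800 := d3_1 D41929 (iv D28800) (iv F122230)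
theorem F175289 : act 3 n41929 = n30358 := d24_1 D41929 (iv D30358) (iv D20847) (iv F85459) D28786
theorem F175290 : act 6 n41929 = n41929 := d31_2 F122231 D41929 (iv D41929)
theorem F175291 : act 7 n41929 = n28865 := d32_2 (iv F122232) D41929 (iv D28865)
theorem F175292 : act 8 n41929 = n41929 := d33_2 F122233 D41929 (iv D41929)
def n41930 : Q := act 9 n28786
theorem D41930 : act 9 n28786 = n41930 := rfl
theorem F175293 : act 0 n41930 = n28801 := d8_1 D41930 (iv D28801) (iv F122230)
theorem F175294 : act 3 n41930 = n28787 := d29_1 D41930 (iv D28787) D28786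
theorem F175295 : act 6 n41930 = n41930 := d41_1 D41930 (iv D41930) F122231
theorem F175296 : act 7 n41930 = n28866 := d43_1 D41930 (iv D28866) (iv F122232)
def n41931 : Q := act 5 n28788
theorem D41931 : act 5 n28788 = n41931 := rfl
theorem F175297 : act 0 n41931 = n28802 := d4_1 D41931 (iv D28802) (iv F122239)
theorem F175298 : act 1 n41931 = n41931 := d12_1 D41931 (iv D41931) F122240
theorem F175299 : act 4 n41931 = n41931 := d30_1 D41931 (iv D41931) F122241 F85469 (iv F122241)
theorem F175300 : act 6 n41931 = n30360 := d35_2 D28788 D41931 (iv D30360) (iv D20849) (iv F85464)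
def n41932 : Q := act 7 n28788
theorem D41932 : act 7 n28788 = n41932 := rfl
theorem F175303 : act 4 n41932 = n28790 := d32_1 D41932 (iv D28790) (iv F122241)
theorem F175304 : act 6 n41932 = n28868 := d39_1 D41932 (iv D28868) (iv D19847) (iv F85465) D28788
def n41933 : Q := act 8 n28788
theorem D41933 : act 8 n28788 = n41933 := rfl
theorem F175307 : act 4 n41933 = n28791 := d33_1 D41933 (iv D28791) (iv F122241)
theorem F175308 : act 6 n41933 = n28789 := d40_1 D41933 (iv D28789) D28788
def n41934 : Q := act 3 n28789
theorem D41934 : act 3 n28789 = n41934 := rfl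
theorem F175311 : act 5 n41934 = n30363 := d25_2 (iv F122245) D41934 (iv D30363)
theorem F175312 : act 7 n41934 = n28870 := d27_2 (iv F122246) D41934 (iv D28870)
def n41935 : Q := act 9 n28789
theorem D41935 : act 9 n28789 = n41935 := rfl
theorem F175313 : act 0 n41935 = n28806 := d8_1 D41935 (iv D28806) (iv F122242)
theorem F175314 : act 1 n41935 = n41935 := d16_1 D41935 (iv D41935) F122243
theorem F175315 : act 4 n41935 = n28792 := d34_1 D41935 (iv D28792) (iv F122244)
theorem F175316 : act 5 n41935 = n30364 := d38_1 D41935 (iv D30364) (iv F122245)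
theorem F175317 : act 7 n41935 = n28871 := d43_1 D41935 (iv D28871) (iv F122246)
def n41937 : Q := act 9 n28791
theorem D41937 : act 9 n28791 = n41937 := rfl
theorem F175326 : act 6 n41937 = n28792 := d41_1 D41937 (iv D28792) (iv F122255)
def n41938 : Q := act 6 n28793
theorem D41938 : act 6 n28793 = n41938 := rfl
theorem F175327 : act 1 n41938 = n29126 := d13_1 D41938 (iv D29126) (iv F122260)
theorem F175328 : act 3 n41938 = n28794 := d26_1 D41938 (iv D28794) D28793
theorem F175329 : act 4 n41938 = n41938 := d31_1 D41938 (iv D41938) F122261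
def n41939 : Q := act 8 n28793
theorem D41939 : act 8 n28793 = n41939 := rfl
theorem F175330 : act 1 n41939 = n29127 := d15_1 D41939 (iv D29127) (iv F122260)
theorem F175331 : act 4 n41939 = n41939 := d33_1 D41939 (iv D41939) F122261
theorem F175332 : act 5 n41939 = n30368 := d37_1 D41939 (iv D30368) (iv F122262)
theorem F175333 : act 7 n41939 = n28875 := d42_1 D41939 (iv D28875) (iv F122263)
def n41940 : Q := act 5 n28794
theorem D41940 : act 5 n28794 = n41940 := rfl
theorem F175334 : act 1 n41940 = n29128 := d12_1 D41940 (iv D29128) (iv F122264)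
theorem F175335 : act 2 n41940 = n28802 := d19_1 D41940 (iv D28802) (iv F122265)
theorem F175336 : act 4 n41940 = n41940 := d30_1 D41940 (iv D41940) F122266 F85491 (iv F122266)
theorem F175337 : act 6 n41940 = n30369 := d35_2 D28794 D41940 (iv D30369) (iv D20855) (iv F85486)
def n41941 : Q := act 7 n28794
theorem D41941 : act 7 n28794 = n41941 := rfl
theorem F175338 : act 1 n41941 = n29129 := d14_1 D41941 (iv D29129) (iv F122264)
theorem F175339 : act 2 n41941 = n28803 := d21_1 D41941 (iv D28803) (iv F122265)
theorem F175340 : act 4 n41941 = n28796 := d32_1 D41941 (iv D28796) (iv F122266)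
theorem F175341 : act 6 n41941 = n28877 := d39_1 D41941 (iv D28877) (iv D19853) (iv F85487) D28794
def n41942 : Q := act 8 n28794
theorem D41942 : act 8 n28794 = n41942 := rfl
theorem F175342 : act 1 n41942 = n29130 := d15_1 D41942 (iv D29130) (iv F122264)
theorem F175343 : act 2 n41942 = n28804 := d22_1 D41942 (iv D28804) (iv F122265)
theorem F175344 : act 4 n41942 = n28797 := d33_1 D41942 (iv D28797) (iv F122266)
theorem F175345 : act 6 n41942 = n28795 := d40_1 D41942 (iv D28795) D28794
def n41943 : Q := act 3 n28795
theorem D41943 : act 3 n28795 = n41943 := rfl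
theorem F175346 : act 1 n41943 = n29131 := d10_1 D41943 (iv D29131) (iv F122267)
theorem F175347 : act 5 n41943 = n30372 := d25_2 (iv F122270) D41943 (iv D30372)
theorem F175348 : act 7 n41943 = n28879 := d27_2 (iv F122271) D41943 (iv D28879)
def n41944 : Q := act 9 n28795
theorem D41944 : act 9 n28795 = n41944 := rfl
theorem F175349 : act 1 n41944 = n29132 := d16_1 D41944 (iv D29132) (iv F122267)
theorem F175350 : act 2 n41944 = n28806 := d23_1 D41944 (iv D28806) (iv F122268)
theorem F175351 : act 4 n41944 = n28799 := d34_1 D41944 (iv D28799) (iv F122269)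
theorem F175352 : act 5 n41944 = n30373 := d38_1 D41944 (iv D30373) (iv F122270)
theorem F175353 : act 7 n41944 = n28880 := d43_1 D41944 (iv D28880) (iv F122271)
def n41945 : Q := act 8 n28796
theorem D41945 : act 8 n28796 = n41945 := rfl
theorem F175354 : act 1 n41945 = n29133 := d15_1 D41945 (iv D29133) (iv F122272)
theorem F175355 : act 2 n41945 = n28807 := d22_1 D41945 (iv D28807) (iv F122273)
theorem F175357 : act 6 n41945 = n28881 := d40_1 D41945 (iv D28881) (iv F122276)
def n41946 : Q := act 3 n28797
theorem D41946 : act 3 n28797 = n41946 := rfl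
theorem F175361 : act 6 n41946 = n28798 := d26_2 (iv F122280) D41946 (iv D28798)
def n41947 : Q := act 9 n28797
theorem D41947 : act 9 n28797 = n41947 := rfl
theorem F175363 : act 1 n41947 = n29135 := d16_1 D41947 (iv D29135) (iv F122277)
theorem F175364 : act 2 n41947 = n28808 := d23_1 D41947 (iv D28808) (iv F122278)
theorem F175365 : act 5 n41947 = n41947 := d38_1 D41947 (iv D41947) F122279
theorem F175366 : act 6 n41947 = n28799 := d41_1 D41947 (iv D28799) (iv F122280)
def n41948 : Q := act 4 n28798
theorem D41948 : act 4 n28798 = n41948 := rfl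
theorem F175367 : act 1 n41948 = n29136 := d11_1 D41948 (iv D29136) (iv F122281)
theorem F175368 : act 7 n41948 = n28884 := d32_2 (iv F122283) D41948 (iv D28884)
theorem F175369 : act 8 n41948 = n41948 := d33_2 F122284 D41948 (iv D41948)
def n41949 : Q := act 9 n28798
theorem D41949 : act 9 n28798 = n41949 := rfl
theorem F175370 : act 1 n41949 = n29137 := d16_1 D41949 (iv D29137) (iv F122281)
theorem F175371 : act 3 n41949 = n28799 := d29_1 D41949 (iv D28799) D28798
theorem F175372 : act 5 n41949 = n28801 := d38_1 D41949 (iv D28801) (iv F122282)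
theorem F175373 : act 7 n41949 = n28885 := d43_1 D41949 (iv D28885) (iv F122283)
def n41950 : Q := act 5 n28800
theorem D41950 : act 5 n28800 = n41950 := rfl
theorem F175374 : act 1 n41950 = n29138 := d12_1 D41950 (iv D29138) (iv F122289)
theorem F175375 : act 3 n41950 = n30379 := d25_1 D41950 (iv D30379) (iv F122290)
theorem F175376 : act 7 n41950 = n28886 := d36_2 (iv F122292) D41950 (iv D28886)
theorem F175377 : act 8 n41950 = n41950 := d37_2 F122293 D41950 (iv D41950)
def n41951 : Q := act 9 n28800
theorem D41951 : act 9 n28800 = n41951 := rfl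
theorem F175378 : act 1 n41951 = n29139 := d16_1 D41951 (iv D29139) (iv F122289)
theorem F175379 : act 3 n41951 = n30380 := d29_1 D41951 (iv D30380) (iv F122290)
theorem F175380 : act 4 n41951 = n28801 := d34_1 D41951 (iv D28801) D28800
theorem F175381 : act 6 n41951 = n41951 := d41_1 D41951 (iv D41951) F122291
theorem F175382 : act 7 n41951 = n28887 := d43_1 D41951 (iv D28887) (iv F122292)
def n41952 : Q := act 8 n28801
theorem D41952 : act 8 n28801 = n41952 := rfl
theorem F175383 : act 1 n41952 = n29140 := d15_1 D41952 (iv D29140) (iv F122294)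
theorem F175384 : act 6 n41952 = n41952 := d40_1 D41952 (iv D41952) F122296
theorem F175385 : act 7 n41952 = n28888 := d42_1 D41952 (iv D28888) (iv F122297)
theorem F175386 : act 9 n41952 = n41952 := d44_2 D28801 D41952 (iv D41952) (iv D28801) F85499
def n41953 : Q := act 7 n28802
theorem D41953 : act 7 n28802 = n41953 := rfl
theorem F175389 : act 5 n41953 = n28803 := d36_1 D41953 (iv D28803) D28802
def n41954 : Q := act 8 n28802
theorem D41954 : act 8 n28802 = n41954 := rfl
theorem F175392 : act 5 n41954 = n28804 := d37_1 D41954 (iv D28804) D28802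
theorem F175393 : act 6 n41954 = n30383 := d40_1 D41954 (iv D30383) (iv F122300)
def n41955 : Q := act 8 n28803
theorem D41955 : act 8 n28803 = n41955 := rfl
theorem F175395 : act 4 n41955 = n28807 := d33_1 D41955 (iv D28807) (iv F122302)
theorem F175396 : act 6 n41955 = n28891 := d40_1 D41955 (iv D28891) (iv F122303)
def n41956 : Q := act 3 n28804
theorem D41956 : act 3 n28804 = n41956 := rfl
theorem F175399 : act 6 n41956 = n28805 := d26_2 (iv F122306) D41956 (iv D28805)
def n41957 : Q := act 9 n28804
theorem D41957 : act 9 n28804 = n41957 := rfl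
theorem F175400 : act 1 n41957 = n28813 := d16_1 D41957 (iv D28813) (iv F122304)
theorem F175401 : act 4 n41957 = n28808 := d34_1 D41957 (iv D28808) (iv F122305)
theorem F175402 : act 6 n41957 = n28806 := d41_1 D41957 (iv D28806) (iv F122306)
def n41958 : Q := act 2 n28805
theorem D41958 : act 2 n28805 = n41958 := rfl
theorem F175403 : act 5 n41958 = n30387 := d19_2 (iv F122308) D41958 (iv D30387)
theorem F175404 : act 7 n41958 = n28894 := d21_2 (iv F122309) D41958 (iv D28894)
def n41959 : Q := act 9 n28805
theorem D41959 : act 9 n28805 = n41959 := rfl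
theorem F175405 : act 1 n41959 = n28815 := d16_1 D41959 (iv D28815) (iv F122307)
theorem F175406 : act 3 n41959 = n28806 := d29_1 D41959 (iv D28806) D28805
theorem F175407 : act 5 n41959 = n30388 := d38_1 D41959 (iv D30388) (iv F122308)
theorem F175408 : act 7 n41959 = n28895 := d43_1 D41959 (iv D28895) (iv F122309)
def n41960 : Q := act 9 n28807
theorem D41960 : act 9 n28807 = n41960 := rfl
theorem F175411 : act 6 n41960 = n28896 := d41_1 D41960 (iv D28896) (iv F122316)
def n41961 : Q := act 6 n28809
theorem D41961 : act 6 n28809 = n41961 := rfl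
theorem F175414 : act 2 n41961 = n29149 := d20_1 D41961 (iv D29149) (iv F122322)
theorem F175416 : act 5 n41961 = n28897 := d35_1 D41961 (iv D28897) F85757 (iv F85528) (iv F122324)
theorem F175417 : act 7 n41961 = n30390 := d39_2 D28809 D41961 (iv D30390) (iv D20870) (iv F85524)
def n41963 : Q := act 3 n28810
theorem D41963 : act 3 n28810 = n41963 := rfl
theorem F175424 : act 5 n41963 = n28812 := d25_2 (iv F122328) D41963 (iv D28812)
theorem F175425 : act 6 n41963 = n30392 := d26_2 (iv F122329) D41963 (iv D30392)
def n41964 : Q := act 9 n28810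
theorem D41964 : act 9 n28810 = n41964 := rfl
theorem F175427 : act 2 n41964 = n29152 := d23_1 D41964 (iv D29152) (iv F122326)
theorem F175429 : act 5 n41964 = n28813 := d38_1 D41964 (iv D28813) (iv F122328)
theorem F175430 : act 6 n41964 = n30393 := d41_1 D41964 (iv D30393) (iv F122329)
def n41966 : Q := act 9 n28811
theorem D41966 : act 9 n28811 = n41966 := rfl
theorem F175436 : act 4 n41966 = n28816 := d34_1 D41966 (iv D28816) (iv F122332)
theorem F175437 : act 6 n41966 = n28902 := d41_1 D41966 (iv D28902) (iv F122333)
def n41967 : Q := act 2 n28812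
theorem D41967 : act 2 n28812 = n41967 := rfl
theorem F175440 : act 3 n41967 = n29155 := d17_2 D28812 D41967 (iv D29155) (iv D20039) (iv F85530)
def n41968 : Q := act 9 n28812
theorem D41968 : act 9 n28812 = n41968 := rfl
theorem F175443 : act 3 n41968 = n28813 := d29_1 D41968 (iv D28813) D28812
theorem F175444 : act 6 n41968 = n28815 := d41_1 D41968 (iv D28815) (iv F122336)
def n41969 : Q := act 1 n28814
theorem D41969 : act 1 n28814 = n41969 := rfl
theorem F175447 : act 7 n41969 = n28905 := d14_2 (iv F122344) D41969 (iv D28905)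
def n41970 : Q := act 9 n28814
theorem D41970 : act 9 n28814 = n41970 := rfl
theorem F175449 : act 2 n41970 = n28815 := d23_1 D41970 (iv D28815) D28814
theorem F175452 : act 7 n41970 = n28906 := d43_1 D41970 (iv D28906) (iv F122344)
def n41971 : Q := act 8 n28815
theorem D41971 : act 8 n28815 = n41971 := rfl
theorem F175455 : act 7 n41971 = n28907 := d42_1 D41971 (iv D28907) (iv F122348)
def n41972 : Q := act 4 n28817
theorem D41972 : act 4 n28817 = n41972 := rfl
theorem F175456 : act 0 n41972 = n29196 := d3_1 D41972 (iv D29196) (iv F122354)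
theorem F175459 : act 5 n41972 = n30437 := d30_2 D28817 D41972 (iv D30437) (iv D20903) (iv F85553)
theorem F175460 : act 9 n41972 = n28853 := d34_2 (iv F122358) D41972 (iv D28853)
def n41973 : Q := act 6 n28817
theorem D41973 : act 6 n28817 = n41973 := rfl
theorem F175461 : act 0 n41973 = n29197 := d5_1 D41973 (iv D29197) (iv F122354)
theorem F175466 : act 9 n41973 = n28854 := d41_2 (iv F122358) D41973 (iv D28854)
def n41974 : Q := act 8 n28817
theorem D41974 : act 8 n28817 = n41974 := rfl
theorem F175467 : act 0 n41974 = n29198 := d7_1 D41974 (iv D29198) (iv F122354)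
theorem F175470 : act 5 n41974 = n28818 := d37_1 D41974 (iv D28818) D28817
def n41976 : Q := act 9 n28818
theorem D41976 : act 9 n28818 = n41976 := rfl
theorem F175475 : act 0 n41976 = n29200 := d8_1 D41976 (iv D29200) (iv F122359)
theorem F175480 : act 8 n41976 = n28857 := d44_1 D41976 (iv D28857) (iv D19841) (iv F85555) D28818
def n41977 : Q := act 3 n28819
theorem D41977 : act 3 n28819 = n41977 := rfl
theorem F175481 : act 0 n41977 = n28829 := d2_1 D41977 (iv D28829) (iv F122364)
theorem F175483 : act 5 n41977 = n30442 := d25_2 (iv F122366) D41977 (iv D30442)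
def n41978 : Q := act 6 n28819
theorem D41978 : act 6 n28819 = n41978 := rfl
theorem F175485 : act 0 n41978 = n28830 := d5_1 D41978 (iv D28830) (iv F122364)
theorem F175488 : act 9 n41978 = n28859 := d41_2 (iv F122367) D41978 (iv D28859)
def n41979 : Q := act 8 n28819
theorem D41979 : act 8 n28819 = n41979 := rfl
theorem F175489 : act 0 n41979 = n28831 := d7_1 D41979 (iv D28831) (iv F122364)
theorem F175492 : act 5 n41979 = n30444 := d37_1 D41979 (iv D30444) (iv F122366)
def n41980 : Q := act 7 n28820
theorem D41980 : act 7 n28820 = n41980 := rfl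
theorem F175493 : act 0 n41980 = n28832 := d6_1 D41980 (iv D28832) (iv F122368)
theorem F175497 : act 9 n41980 = n28861 := d43_2 (iv F122372) D41980 (iv D28861)
def n41981 : Q := act 8 n28820
theorem D41981 : act 8 n28820 = n41981 := rfl
theorem F175498 : act 0 n41981 = n28833 := d7_1 D41981 (iv D28833) (iv F122368)
theorem F175501 : act 6 n41981 = n28821 := d40_1 D41981 (iv D28821) D28820
def n41982 : Q := act 3 n28821
theorem D41982 : act 3 n28821 = n41982 := rfl
theorem F175502 : act 0 n41982 = n28834 := d2_1 D41982 (iv D28834) (iv F122373)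
theorem F175504 : act 5 n41982 = n28822 := d25_2 (iv F122375) D41982 (iv D28822)
def n41983 : Q := act 9 n28821
theorem D41983 : act 9 n28821 = n41983 := rfl
theorem F175506 : act 0 n41983 = n28835 := d8_1 D41983 (iv D28835) (iv F122373)
theorem F175509 : act 8 n41983 = n28864 := d44_1 D41983 (iv D28864) (iv D19844) (iv F85559) D28821
def n41984 : Q := act 4 n28822
theorem D41984 : act 4 n28822 = n41984 := rfl
theorem F175512 : act 3 n41984 = n30449 := d24_1 D41984 (iv D30449) (iv D20908) (iv F85562) D28822
def n41985 : Q := act 9 n28822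
theorem D41985 : act 9 n28822 = n41985 := rfl
theorem F175515 : act 0 n41985 = n28837 := d8_1 D41985 (iv D28837) (iv F122376)
def n41986 : Q := act 5 n28824
theorem D41986 : act 5 n28824 = n41986 := rfl
theorem F175519 : act 0 n41986 = n28838 := d4_1 D41986 (iv D28838) (iv F122385)
theorem F175522 : act 6 n41986 = n30451 := d35_2 D28824 D41986 (iv D30451) (iv D20910) (iv F85566)
theorem F175523 : act 9 n41986 = n28867 := d38_2 (iv F122388) D41986 (iv D28867)
def n41987 : Q := act 7 n28824
theorem D41987 : act 7 n28824 = n41987 := rfl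
theorem F175524 : act 0 n41987 = n28839 := d6_1 D41987 (iv D28839) (iv F122385)
theorem F175527 : act 9 n41987 = n28868 := d43_2 (iv F122388) D41987 (iv D28868)
def n41988 : Q := act 8 n28824
theorem D41988 : act 8 n28824 = n41988 := rfl
theorem F175528 : act 0 n41988 = n28840 := d7_1 D41988 (iv D28840) (iv F122385)
theorem F175531 : act 6 n41988 = n28825 := d40_1 D41988 (iv D28825) D28824
def n41989 : Q := act 3 n28825
theorem D41989 : act 3 n28825 = n41989 := rfl
theorem F175532 : act 0 n41989 = n28841 := d2_1 D41989 (iv D28841) (iv F122389)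
theorem F175535 : act 5 n41989 = n30454 := d25_2 (iv F122392) D41989 (iv D30454)
def n41990 : Q := act 9 n28825
theorem D41990 : act 9 n28825 = n41990 := rfl
theorem F175536 : act 0 n41990 = n28842 := d8_1 D41990 (iv D28842) (iv F122389)
theorem F175540 : act 8 n41990 = n28871 := d44_1 D41990 (iv D28871) (iv D19848) (iv F85567) D28825
def n41991 : Q := act 8 n28826
theorem D41991 : act 8 n28826 = n41991 := rfl
theorem F175541 : act 0 n41991 = n28843 := d7_1 D41991 (iv D28843) (iv F122393)
theorem F175545 : act 7 n41991 = n28827 := d42_1 D41991 (iv D28827) D28826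
def n41992 : Q := act 9 n28827
theorem D41992 : act 9 n28827 = n41992 := rfl
theorem F175546 : act 0 n41992 = n28844 := d8_1 D41992 (iv D28844) (iv F122398)
theorem F175551 : act 8 n41992 = n28873 := d44_1 D41992 (iv D28873) (iv D19850) (iv F85572) D28827
def n41993 : Q := act 6 n28829
theorem D41993 : act 6 n28829 = n41993 := rfl
theorem F175552 : act 1 n41993 = n29217 := d13_1 D41993 (iv D29217) (iv F122408)
theorem F175553 : act 3 n41993 = n28830 := d26_1 D41993 (iv D28830) D28829
theorem F175554 : act 4 n41993 = n41993 := d31_1 D41993 (iv D41993) F122409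
theorem F175555 : act 9 n41993 = n28874 := d41_2 (iv F122411) D41993 (iv D28874)
def n41994 : Q := act 8 n28829
theorem D41994 : act 8 n28829 = n41994 := rfl
theorem F175556 : act 1 n41994 = n29218 := d15_1 D41994 (iv D29218) (iv F122408)
theorem F175557 : act 4 n41994 = n41994 := d33_1 D41994 (iv D41994) F122409
theorem F175558 : act 5 n41994 = n30459 := d37_1 D41994 (iv D30459) (iv F122410)
def n41995 : Q := act 5 n28830
theorem D41995 : act 5 n28830 = n41995 := rfl
theorem F175559 : act 1 n41995 = n29219 := d12_1 D41995 (iv D29219) (iv F122412)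
theorem F175560 : act 2 n41995 = n28838 := d19_1 D41995 (iv D28838) (iv F122413)
theorem F175561 : act 4 n41995 = n28931 := d30_1 D41995 (iv D28931) F85849 (iv F85596) (iv F122414)
theorem F175562 : act 6 n41995 = n30460 := d35_2 D28830 D41995 (iv D30460) (iv D20916) (iv F85591)
theorem F175563 : act 9 n41995 = n28876 := d38_2 (iv F122415) D41995 (iv D28876)
def n41996 : Q := act 7 n28830
theorem D41996 : act 7 n28830 = n41996 := rfl
theorem F175564 : act 1 n41996 = n29220 := d14_1 D41996 (iv D29220) (iv F122412)
theorem F175565 : act 2 n41996 = n28839 := d21_1 D41996 (iv D28839) (iv F122413)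
theorem F175566 : act 4 n41996 = n28832 := d32_1 D41996 (iv D28832) (iv F122414)
theorem F175567 : act 9 n41996 = n28877 := d43_2 (iv F122415) D41996 (iv D28877)
def n41997 : Q := act 8 n28830
theorem D41997 : act 8 n28830 = n41997 := rfl
theorem F175568 : act 1 n41997 = n29221 := d15_1 D41997 (iv D29221) (iv F122412)
theorem F175569 : act 2 n41997 = n28840 := d22_1 D41997 (iv D28840) (iv F122413)
theorem F175570 : act 4 n41997 = n28833 := d33_1 D41997 (iv D28833) (iv F122414)
theorem F175571 : act 6 n41997 = n28831 := d40_1 D41997 (iv D28831) D28830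
def n41998 : Q := act 3 n28831
theorem D41998 : act 3 n28831 = n41998 := rfl
theorem F175572 : act 1 n41998 = n29222 := d10_1 D41998 (iv D29222) (iv F122416)
theorem F175573 : act 5 n41998 = n30463 := d25_2 (iv F122419) D41998 (iv D30463)
def n41999 : Q := act 9 n28831
theorem D41999 : act 9 n28831 = n41999 := rfl
theorem F175574 : act 1 n41999 = n29223 := d16_1 D41999 (iv D29223) (iv F122416)
theorem F175575 : act 2 n41999 = n28842 := d23_1 D41999 (iv D28842) (iv F122417)
theorem F175576 : act 4 n41999 = n28835 := d34_1 D41999 (iv D28835) (iv F122418)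
theorem F175577 : act 5 n41999 = n30464 := d38_1 D41999 (iv D30464) (iv F122419)
theorem F175578 : act 8 n41999 = n28880 := d44_1 D41999 (iv D28880) (iv D19854) (iv F85592) D28831
def n42000 : Q := act 8 n28832
theorem D42000 : act 8 n28832 = n42000 := rfl
theorem F175579 : act 1 n42000 = n29224 := d15_1 D42000 (iv D29224) (iv F122420)
theorem F175580 : act 2 n42000 = n28843 := d22_1 D42000 (iv D28843) (iv F122421)
theorem F175581 : act 5 n42000 = n28936 := d37_1 D42000 (iv D28936) (iv F122423)
theorem F175582 : act 7 n42000 = n28833 := d42_1 D42000 (iv D28833) D28832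
def n42001 : Q := act 3 n28833
theorem D42001 : act 3 n28833 = n42001 := rfl
theorem F175583 : act 1 n42001 = n29225 := d10_1 D42001 (iv D29225) (iv F122425)
theorem F175584 : act 2 n42001 = n42001 := d17_1 D42001 (iv D42001) F122426 F85621 (iv F122426)
theorem F175585 : act 5 n42001 = n28937 := d25_2 (iv F122427) D42001 (iv D28937)
theorem F175586 : act 6 n42001 = n28834 := d26_2 (iv F122428) D42001 (iv D28834)
theorem F175587 : act 8 n42001 = n42001 := d28_2 D28833 D42001 (iv D42001) (iv D28833) F85595
def n42002 : Q := act 9 n28833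
theorem D42002 : act 9 n28833 = n42002 := rfl
theorem F175588 : act 1 n42002 = n29226 := d16_1 D42002 (iv D29226) (iv F122425)
theorem F175589 : act 2 n42002 = n28844 := d23_1 D42002 (iv D28844) (iv F122426)
theorem F175590 : act 5 n42002 = n28938 := d38_1 D42002 (iv D28938) (iv F122427)
theorem F175591 : act 6 n42002 = n28835 := d41_1 D42002 (iv D28835) (iv F122428)
theorem F175592 : act 8 n42002 = n28883 := d44_1 D42002 (iv D28883) (iv D19856) (iv F85597) D28833
def n42003 : Q := act 4 n28834
theorem D42003 : act 4 n28834 = n42003 := rfl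
theorem F175593 : act 1 n42003 = n29227 := d11_1 D42003 (iv D29227) (iv F122429)
theorem F175594 : act 2 n42003 = n42003 := d18_1 D42003 (iv D42003) F122430
theorem F175595 : act 8 n42003 = n42003 := d33_2 F122432 D42003 (iv D42003)
def n42004 : Q := act 9 n28834
theorem D42004 : act 9 n28834 = n42004 := rfl
theorem F175596 : act 1 n42004 = n29228 := d16_1 D42004 (iv D29228) (iv F122429)
theorem F175597 : act 2 n42004 = n42004 := d23_1 D42004 (iv D42004) F122430
theorem F175598 : act 3 n42004 = n28835 := d29_1 D42004 (iv D28835) D28834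
theorem F175599 : act 5 n42004 = n28837 := d38_1 D42004 (iv D28837) (iv F122431)
def n42005 : Q := act 5 n28836
theorem D42005 : act 5 n28836 = n42005 := rfl
theorem F175600 : act 1 n42005 = n29229 := d12_1 D42005 (iv D29229) (iv F122437)
theorem F175602 : act 3 n42005 = n30470 := d25_1 D42005 (iv D30470) (iv F122439)
def n42006 : Q := act 9 n28836
theorem D42006 : act 9 n28836 = n42006 := rfl
theorem F175604 : act 1 n42006 = n29230 := d16_1 D42006 (iv D29230) (iv F122437)
theorem F175607 : act 4 n42006 = n28837 := d34_1 D42006 (iv D28837) D28836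
def n42007 : Q := act 8 n28837
theorem D42007 : act 8 n28837 = n42007 := rfl
theorem F175609 : act 1 n42007 = n29231 := d15_1 D42007 (iv D29231) (iv F122442)
theorem F175610 : act 2 n42007 = n42007 := d22_1 D42007 (iv D42007) F122443
theorem F175611 : act 3 n42007 = n28888 := d28_1 D42007 (iv D28888) F85733 (iv F85609) (iv F122444)
theorem F175612 : act 6 n42007 = n28943 := d40_1 D42007 (iv D28943) (iv F122445)
theorem F175613 : act 9 n42007 = n42007 := d44_2 D28837 D42007 (iv D42007) (iv D28837) F85604
def n42008 : Q := act 7 n28838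
theorem D42008 : act 7 n28838 = n42008 := rfl
theorem F175614 : act 1 n42008 = n28845 := d14_1 D42008 (iv D28845) (iv F122446)
theorem F175615 : act 4 n42008 = n28944 := d32_1 D42008 (iv D28944) (iv F122447)
theorem F175616 : act 5 n42008 = n28839 := d36_1 D42008 (iv D28839) D28838
theorem F175617 : act 9 n42008 = n28889 := d43_2 (iv F122449) D42008 (iv D28889)
def n42009 : Q := act 8 n28838
theorem D42009 : act 8 n28838 = n42009 := rfl
theorem F175618 : act 1 n42009 = n28846 := d15_1 D42009 (iv D28846) (iv F122446)
theorem F175619 : act 4 n42009 = n28945 := d33_1 D42009 (iv D28945) (iv F122447)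
theorem F175620 : act 5 n42009 = n28840 := d37_1 D42009 (iv D28840) D28838
theorem F175621 : act 6 n42009 = n30474 := d40_1 D42009 (iv D30474) (iv F122448)
def n42010 : Q := act 8 n28839
theorem D42010 : act 8 n28839 = n42010 := rfl
theorem F175622 : act 1 n42010 = n28847 := d15_1 D42010 (iv D28847) (iv F122450)
theorem F175623 : act 4 n42010 = n28843 := d33_1 D42010 (iv D28843) (iv F122451)
theorem F175624 : act 7 n42010 = n28840 := d42_1 D42010 (iv D28840) D28839
def n42011 : Q := act 3 n28840
theorem D42011 : act 3 n28840 = n42011 := rfl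
theorem F175625 : act 1 n42011 = n28848 := d10_1 D42011 (iv D28848) (iv F122453)
theorem F175626 : act 4 n42011 = n42011 := d24_2 (iv F122454) D42011 (iv D42011) F122454 F85621
theorem F175627 : act 6 n42011 = n28841 := d26_2 (iv F122455) D42011 (iv D28841)
def n42012 : Q := act 9 n28840
theorem D42012 : act 9 n28840 = n42012 := rfl
theorem F175628 : act 1 n42012 = n28849 := d16_1 D42012 (iv D28849) (iv F122453)
theorem F175629 : act 4 n42012 = n28844 := d34_1 D42012 (iv D28844) (iv F122454)
theorem F175630 : act 6 n42012 = n28842 := d41_1 D42012 (iv D28842) (iv F122455)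
theorem F175631 : act 8 n42012 = n28893 := d44_1 D42012 (iv D28893) (iv D19863) (iv F85612) D28840
def n42013 : Q := act 2 n28841
theorem D42013 : act 2 n28841 = n42013 := rfl
theorem F175632 : act 4 n42013 = n42013 := d18_2 F122457 D42013 (iv D42013)
theorem F175633 : act 5 n42013 = n30478 := d19_2 (iv F122458) D42013 (iv D30478)
def n42014 : Q := act 9 n28841
theorem D42014 : act 9 n28841 = n42014 := rfl
theorem F175634 : act 1 n42014 = n28851 := d16_1 D42014 (iv D28851) (iv F122456)
theorem F175635 : act 3 n42014 = n28842 := d29_1 D42014 (iv D28842) D28841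
theorem F175636 : act 4 n42014 = n42014 := d34_1 D42014 (iv D42014) F122457
theorem F175637 : act 5 n42014 = n30479 := d38_1 D42014 (iv D30479) (iv F122458)
def n42015 : Q := act 9 n28843
theorem D42015 : act 9 n28843 = n42015 := rfl
theorem F175638 : act 1 n42015 = n28852 := d16_1 D42015 (iv D28852) (iv F122463)
theorem F175639 : act 3 n42015 = n42015 := d29_1 D42015 (iv D42015) F122464
theorem F175640 : act 5 n42015 = n28951 := d38_1 D42015 (iv D28951) (iv F122465)
theorem F175641 : act 7 n42015 = n28844 := d43_1 D42015 (iv D28844) (iv F122466)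
theorem F175642 : act 8 n42015 = n28896 := d44_1 D42015 (iv D28896) (iv D19866) (iv F85619) D28843
def n42016 : Q := act 6 n28845
theorem D42016 : act 6 n28845 = n42016 := rfl
theorem F175643 : act 0 n42016 = n42016 := d5_1 D42016 (iv D42016) F122472
theorem F175644 : act 2 n42016 = n29240 := d20_1 D42016 (iv D29240) (iv F122473)
theorem F175645 : act 4 n42016 = n28952 := d31_1 D42016 (iv D28952) (iv F122474)
theorem F175646 : act 7 n42016 = n30481 := d39_2 D28845 D42016 (iv D30481) (iv D20931) (iv F85631)
theorem F175647 : act 9 n42016 = n28897 := d41_2 (iv F122476) D42016 (iv D28897)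
def n42017 : Q := act 8 n28845
theorem D42017 : act 8 n28845 = n42017 := rfl
theorem F175648 : act 0 n42017 = n42017 := d7_1 D42017 (iv D42017) F122472
theorem F175649 : act 2 n42017 = n29241 := d22_1 D42017 (iv D29241) (iv F122473)
theorem F175650 : act 4 n42017 = n28953 := d33_1 D42017 (iv D28953) (iv F122474)
theorem F175651 : act 5 n42017 = n28847 := d37_1 D42017 (iv D28847) (iv F122475)
theorem F175652 : act 7 n42017 = n28846 := d42_1 D42017 (iv D28846) D28845
def n42018 : Q := act 3 n28846
theorem D42018 : act 3 n28846 = n42018 := rfl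
theorem F175653 : act 0 n42018 = n42018 := d2_1 D42018 (iv D42018) F122477
theorem F175654 : act 5 n42018 = n28848 := d25_2 (iv F122480) D42018 (iv D28848)
theorem F175655 : act 6 n42018 = n30483 := d26_2 (iv F122481) D42018 (iv D30483)
def n42019 : Q := act 9 n28846
theorem D42019 : act 9 n28846 = n42019 := rfl
theorem F175656 : act 0 n42019 = n42019 := d8_1 D42019 (iv D42019) F122477
theorem F175657 : act 2 n42019 = n29243 := d23_1 D42019 (iv D29243) (iv F122478)
theorem F175658 : act 4 n42019 = n28955 := d34_1 D42019 (iv D28955) (iv F122479)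
theorem F175659 : act 5 n42019 = n28849 := d38_1 D42019 (iv D28849) (iv F122480)
theorem F175660 : act 6 n42019 = n30484 := d41_1 D42019 (iv D30484) (iv F122481)
theorem F175661 : act 8 n42019 = n28900 := d44_1 D42019 (iv D28900) (iv D19869) (iv F85632) D28846
def n42020 : Q := act 3 n28847
theorem D42020 : act 3 n28847 = n42020 := rfl
theorem F175662 : act 0 n42020 = n42020 := d2_1 D42020 (iv D42020) F122482
theorem F175663 : act 4 n42020 = n42020 := d24_2 (iv F122484) D42020 (iv D42020) F122484 F85651
theorem F175664 : act 7 n42020 = n28848 := d27_2 (iv F122485) D42020 (iv D28848)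
def n42021 : Q := act 9 n28847
theorem D42021 : act 9 n28847 = n42021 := rfl
theorem F175665 : act 0 n42021 = n42021 := d8_1 D42021 (iv D42021) F122482
theorem F175666 : act 2 n42021 = n29245 := d23_1 D42021 (iv D29245) (iv F122483)
theorem F175667 : act 4 n42021 = n28852 := d34_1 D42021 (iv D28852) (iv F122484)
theorem F175668 : act 7 n42021 = n28849 := d43_1 D42021 (iv D28849) (iv F122485)
theorem F175669 : act 8 n42021 = n28902 := d44_1 D42021 (iv D28902) (iv D19870) (iv F85636) D28847
def n42022 : Q := act 2 n28848
theorem D42022 : act 2 n28848 = n42022 := rfl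
theorem F175670 : act 0 n42022 = n42022 := d1_1 D42022 (iv D42022) F122486
theorem F175671 : act 3 n42022 = n29246 := d17_2 D28848 D42022 (iv D29246) (iv D20100) (iv F85638)
theorem F175672 : act 4 n42022 = n42022 := d18_2 F122487 D42022 (iv D42022)
theorem F175673 : act 6 n42022 = n28850 := d20_2 (iv F122488) D42022 (iv D28850)
def n42023 : Q := act 9 n28848
theorem D42023 : act 9 n28848 = n42023 := rfl
theorem F175674 : act 0 n42023 = n42023 := d8_1 D42023 (iv D42023) F122486
theorem F175675 : act 3 n42023 = n28849 := d29_1 D42023 (iv D28849) D28848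
theorem F175676 : act 4 n42023 = n42023 := d34_1 D42023 (iv D42023) F122487
theorem F175677 : act 6 n42023 = n28851 := d41_1 D42023 (iv D28851) (iv F122488)
def n42024 : Q := act 1 n28850
theorem D42024 : act 1 n28850 = n42024 := rfl
theorem F175678 : act 3 n42024 = n29248 := d10_2 (iv F122495) D42024 (iv D29248)
theorem F175679 : act 4 n42024 = n42024 := d11_2 F122496 D42024 (iv D42024)
theorem F175680 : act 5 n42024 = n30489 := d12_2 (iv F122497) D42024 (iv D30489)
def n42025 : Q := act 9 n28850
theorem D42025 : act 9 n28850 = n42025 := rfl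
theorem F175681 : act 0 n42025 = n42025 := d8_1 D42025 (iv D42025) F122494
theorem F175682 : act 2 n42025 = n28851 := d23_1 D42025 (iv D28851) D28850
theorem F175683 : act 3 n42025 = n29249 := d29_1 D42025 (iv D29249) (iv F122495)
theorem F175684 : act 4 n42025 = n42025 := d34_1 D42025 (iv D42025) F122496
def n42026 : Q := act 8 n28851
theorem D42026 : act 8 n28851 = n42026 := rfl
theorem F175686 : act 0 n42026 = n42026 := d7_1 D42026 (iv D42026) F122498
theorem F175687 : act 3 n42026 = n28907 := d28_1 D42026 (iv D28907) F85777 (iv F85648) (iv F122499)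
theorem F175688 : act 4 n42026 = n42026 := d33_1 D42026 (iv D42026) F122500
theorem F175689 : act 5 n42026 = n30491 := d37_1 D42026 (iv D30491) (iv F122501)
def n42027 : Q := act 3 n28853
theorem D42027 : act 3 n28853 = n42027 := rfl
theorem F175690 : act 0 n42027 = n29251 := d2_1 D42027 (iv D29251) (iv F122508)
theorem F175691 : act 1 n42027 = n28858 := d10_1 D42027 (iv D28858) (iv F122509)
theorem F175692 : act 4 n42027 = n42027 := d24_2 D28853 D42027 (iv D42027) (iv D28853) F85663
theorem F175693 : act 5 n42027 = n30492 := d25_2 (iv F122511) D42027 (iv D30492)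
def n42028 : Q := act 6 n28853
theorem D42028 : act 6 n28853 = n42028 := rfl
theorem F175694 : act 0 n42028 = n29252 := d5_1 D42028 (iv D29252) (iv F122508)
theorem F175695 : act 1 n42028 = n28859 := d13_1 D42028 (iv D28859) (iv F122509)
theorem F175696 : act 2 n42028 = n42028 := d20_1 D42028 (iv D42028) F122510
theorem F175697 : act 4 n42028 = n28854 := d31_1 D42028 (iv D28854) D28853
def n42029 : Q := act 8 n28853
theorem D42029 : act 8 n28853 = n42029 := rfl
theorem F175698 : act 0 n42029 = n29253 := d7_1 D42029 (iv D29253) (iv F122508)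
theorem F175699 : act 1 n42029 = n28860 := d15_1 D42029 (iv D28860) (iv F122509)
theorem F175700 : act 2 n42029 = n42029 := d22_1 D42029 (iv D42029) F122510
theorem F175701 : act 4 n42029 = n28855 := d33_1 D42029 (iv D28855) D28853
theorem F175702 : act 5 n42029 = n30494 := d37_1 D42029 (iv D30494) (iv F122511)
def n42030 : Q := act 7 n28854
theorem D42030 : act 7 n28854 = n42030 := rfl
theorem F175703 : act 0 n42030 = n29254 := d6_1 D42030 (iv D29254) (iv F122512)
theorem F175704 : act 1 n42030 = n28861 := d14_1 D42030 (iv D28861) (iv F122513)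
theorem F175705 : act 2 n42030 = n42030 := d21_1 D42030 (iv D42030) F122514
theorem F175706 : act 3 n42030 = n42030 := d27_1 D42030 (iv D42030) F122515
theorem F175707 : act 5 n42030 = n28966 := d36_1 D42030 (iv D28966) (iv F122516)
def n42031 : Q := act 8 n28854
theorem D42031 : act 8 n28854 = n42031 := rfl
theorem F175708 : act 0 n42031 = n29255 := d7_1 D42031 (iv D29255) (iv F122512)
theorem F175709 : act 1 n42031 = n28862 := d15_1 D42031 (iv D28862) (iv F122513)
theorem F175710 : act 2 n42031 = n42031 := d22_1 D42031 (iv D42031) F122514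
theorem F175711 : act 5 n42031 = n28967 := d37_1 D42031 (iv D28967) (iv F122516)
theorem F175712 : act 6 n42031 = n28855 := d40_1 D42031 (iv D28855) D28854
def n42032 : Q := act 3 n28855
theorem D42032 : act 3 n28855 = n42032 := rfl
theorem F175713 : act 0 n42032 = n29256 := d2_1 D42032 (iv D29256) (iv F122517)
theorem F175714 : act 1 n42032 = n28863 := d10_1 D42032 (iv D28863) (iv F122518)
theorem F175715 : act 5 n42032 = n28856 := d25_2 (iv F122520) D42032 (iv D28856)
theorem F175716 : act 8 n42032 = n42032 := d28_2 D28855 D42032 (iv D42032) (iv D28855) F85663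
def n42033 : Q := act 9 n28855
theorem D42033 : act 9 n28855 = n42033 := rfl
theorem F175717 : act 0 n42033 = n29257 := d8_1 D42033 (iv D29257) (iv F122517)
theorem F175718 : act 1 n42033 = n28864 := d16_1 D42033 (iv D28864) (iv F122518)
theorem F175719 : act 2 n42033 = n42033 := d23_1 D42033 (iv D42033) F122519
theorem F175720 : act 5 n42033 = n28857 := d38_1 D42033 (iv D28857) (iv F122520)
def n42034 : Q := act 2 n28856
theorem D42034 : act 2 n28856 = n42034 := rfl
theorem F175721 : act 0 n42034 = n29258 := d1_1 D42034 (iv D29258) (iv F122521)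
theorem F175722 : act 3 n42034 = n42034 := d17_2 D28856 D42034 (iv D42034) (iv D28856) F85666
theorem F175723 : act 6 n42034 = n28970 := d20_2 (iv F122523) D42034 (iv D28970)
theorem F175724 : act 8 n42034 = n42034 := d22_2 F122524 D42034 (iv D42034)
def n42035 : Q := act 4 n28856
theorem D42035 : act 4 n28856 = n42035 := rfl
theorem F175726 : act 1 n42035 = n28865 := d11_1 D42035 (iv D28865) (iv F122522)
theorem F175727 : act 3 n42035 = n30500 := d24_1 D42035 (iv D30500) (iv D20942) (iv F85667) D28856
def n42036 : Q := act 9 n28856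
theorem D42036 : act 9 n28856 = n42036 := rfl
theorem F175730 : act 0 n42036 = n29260 := d8_1 D42036 (iv D29260) (iv F122521)
theorem F175731 : act 1 n42036 = n28866 := d16_1 D42036 (iv D28866) (iv F122522)
theorem F175732 : act 3 n42036 = n28857 := d29_1 D42036 (iv D28857) D28856
theorem F175733 : act 6 n42036 = n28972 := d41_1 D42036 (iv D28972) (iv F122523)
def n42037 : Q := act 6 n28858
theorem D42037 : act 6 n28858 = n42037 := rfl
theorem F175734 : act 0 n42037 = n28874 := d5_1 D42037 (iv D28874) (iv F122530)
theorem F175735 : act 3 n42037 = n28859 := d26_1 D42037 (iv D28859) D28858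
theorem F175736 : act 4 n42037 = n42037 := d31_1 D42037 (iv D42037) F122531
def n42038 : Q := act 8 n28858
theorem D42038 : act 8 n28858 = n42038 := rfl
theorem F175737 : act 0 n42038 = n28875 := d7_1 D42038 (iv D28875) (iv F122530)
theorem F175739 : act 5 n42038 = n30503 := d37_1 D42038 (iv D30503) (iv F122532)
def n42039 : Q := act 5 n28859
theorem D42039 : act 5 n28859 = n42039 := rfl
theorem F175740 : act 0 n42039 = n28876 := d4_1 D42039 (iv D28876) (iv F122533)
theorem F175741 : act 2 n42039 = n28867 := d19_1 D42039 (iv D28867) (iv F122534)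
theorem F175742 : act 4 n42039 = n28975 := d30_1 D42039 (iv D28975) F85983 (iv F85675) (iv F122535)
theorem F175743 : act 6 n42039 = n30504 := d35_2 D28859 D42039 (iv D30504) (iv D20945) (iv F85671)
def n42040 : Q := act 7 n28859
theorem D42040 : act 7 n28859 = n42040 := rfl
theorem F175744 : act 0 n42040 = n28877 := d6_1 D42040 (iv D28877) (iv F122533)
theorem F175745 : act 2 n42040 = n28868 := d21_1 D42040 (iv D28868) (iv F122534)
theorem F175746 : act 4 n42040 = n28861 := d32_1 D42040 (iv D28861) (iv F122535)
def n42041 : Q := act 8 n28859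
theorem D42041 : act 8 n28859 = n42041 := rfl
theorem F175747 : act 0 n42041 = n28878 := d7_1 D42041 (iv D28878) (iv F122533)
theorem F175748 : act 2 n42041 = n28869 := d22_1 D42041 (iv D28869) (iv F122534)
theorem F175749 : act 4 n42041 = n28862 := d33_1 D42041 (iv D28862) (iv F122535)
theorem F175750 : act 6 n42041 = n28860 := d40_1 D42041 (iv D28860) D28859
def n42042 : Q := act 3 n28860
theorem D42042 : act 3 n28860 = n42042 := rfl
theorem F175751 : act 0 n42042 = n28879 := d2_1 D42042 (iv D28879) (iv F122536)
theorem F175752 : act 5 n42042 = n30507 := d25_2 (iv F122539) D42042 (iv D30507)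
def n42043 : Q := act 9 n28860
theorem D42043 : act 9 n28860 = n42043 := rfl
theorem F175753 : act 0 n42043 = n28880 := d8_1 D42043 (iv D28880) (iv F122536)
theorem F175754 : act 2 n42043 = n28871 := d23_1 D42043 (iv D28871) (iv F122537)
theorem F175755 : act 4 n42043 = n28864 := d34_1 D42043 (iv D28864) (iv F122538)
theorem F175756 : act 5 n42043 = n30508 := d38_1 D42043 (iv D30508) (iv F122539)
def n42044 : Q := act 8 n28861
theorem D42044 : act 8 n28861 = n42044 := rfl
theorem F175758 : act 2 n42044 = n28872 := d22_1 D42044 (iv D28872) (iv F122541)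
theorem F175759 : act 5 n42044 = n28980 := d37_1 D42044 (iv D28980) (iv F122543)
theorem F175760 : act 7 n42044 = n28862 := d42_1 D42044 (iv D28862) D28861
def n42045 : Q := act 3 n28862
theorem D42045 : act 3 n28862 = n42045 := rfl
theorem F175762 : act 5 n42045 = n28981 := d25_2 (iv F122546) D42045 (iv D28981)
theorem F175763 : act 6 n42045 = n28863 := d26_2 (iv F122547) D42045 (iv D28863)
def n42046 : Q := act 9 n28862
theorem D42046 : act 9 n28862 = n42046 := rfl
theorem F175765 : act 0 n42046 = n28883 := d8_1 D42046 (iv D28883) (iv F122544)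
theorem F175766 : act 2 n42046 = n28873 := d23_1 D42046 (iv D28873) (iv F122545)
theorem F175767 : act 5 n42046 = n28982 := d38_1 D42046 (iv D28982) (iv F122546)
theorem F175768 : act 6 n42046 = n28864 := d41_1 D42046 (iv D28864) (iv F122547)
def n42047 : Q := act 4 n28863
theorem D42047 : act 4 n28863 = n42047 := rfl
theorem F175769 : act 0 n42047 = n28884 := d3_1 D42047 (iv D28884) (iv F122548)
theorem F175770 : act 8 n42047 = n42047 := d33_2 F122550 D42047 (iv D42047)
def n42048 : Q := act 9 n28863
theorem D42048 : act 9 n28863 = n42048 := rfl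
theorem F175771 : act 0 n42048 = n28885 := d8_1 D42048 (iv D28885) (iv F122548)
theorem F175772 : act 3 n42048 = n28864 := d29_1 D42048 (iv D28864) D28863
theorem F175773 : act 5 n42048 = n28866 := d38_1 D42048 (iv D28866) (iv F122549)
def n42049 : Q := act 5 n28865
theorem D42049 : act 5 n28865 = n42049 := rfl
theorem F175774 : act 0 n42049 = n28886 := d4_1 D42049 (iv D28886) (iv F122554)
theorem F175776 : act 8 n42049 = n42049 := d37_2 F122557 D42049 (iv D42049)
def n42050 : Q := act 9 n28865
theorem D42050 : act 9 n28865 = n42050 := rfl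
theorem F175777 : act 0 n42050 = n28887 := d8_1 D42050 (iv D28887) (iv F122554)
theorem F175779 : act 4 n42050 = n28866 := d34_1 D42050 (iv D28866) D28865
theorem F175780 : act 6 n42050 = n28986 := d41_1 D42050 (iv D28986) (iv F122556)
def n42051 : Q := act 8 n28866
theorem D42051 : act 8 n28866 = n42051 := rfl
theorem F175781 : act 0 n42051 = n28888 := d7_1 D42051 (iv D28888) (iv F122558)
theorem F175782 : act 6 n42051 = n28987 := d40_1 D42051 (iv D28987) (iv F122560)
theorem F175783 : act 9 n42051 = n42051 := d44_2 D28866 D42051 (iv D42051) (iv D28866) F85681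
def n42052 : Q := act 7 n28867
theorem D42052 : act 7 n28867 = n42052 := rfl
theorem F175784 : act 0 n42052 = n28889 := d6_1 D42052 (iv D28889) (iv F122561)
theorem F175785 : act 1 n42052 = n42052 := d14_1 D42052 (iv D42052) F122562
theorem F175786 : act 4 n42052 = n28988 := d32_1 D42052 (iv D28988) (iv F122563)
theorem F175787 : act 5 n42052 = n28868 := d36_1 D42052 (iv D28868) D28867
def n42053 : Q := act 8 n28867
theorem D42053 : act 8 n28867 = n42053 := rfl
theorem F175788 : act 0 n42053 = n28890 := d7_1 D42053 (iv D28890) (iv F122561)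
theorem F175789 : act 1 n42053 = n42053 := d15_1 D42053 (iv D42053) F122562
theorem F175790 : act 4 n42053 = n28989 := d33_1 D42053 (iv D28989) (iv F122563)
theorem F175791 : act 5 n42053 = n28869 := d37_1 D42053 (iv D28869) D28867
theorem F175792 : act 6 n42053 = n30518 := d40_1 D42053 (iv D30518) (iv F122564)
def n42054 : Q := act 8 n28868
theorem D42054 : act 8 n28868 = n42054 := rfl
theorem F175795 : act 4 n42054 = n28872 := d33_1 D42054 (iv D28872) (iv F122567)
theorem F175796 : act 7 n42054 = n28869 := d42_1 D42054 (iv D28869) D28868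
def n42055 : Q := act 3 n28869
theorem D42055 : act 3 n28869 = n42055 := rfl
theorem F175799 : act 6 n42055 = n28870 := d26_2 (iv F122571) D42055 (iv D28870)
def n42056 : Q := act 9 n28869
theorem D42056 : act 9 n28869 = n42056 := rfl
theorem F175800 : act 0 n42056 = n28893 := d8_1 D42056 (iv D28893) (iv F122568)
theorem F175801 : act 1 n42056 = n42056 := d16_1 D42056 (iv D42056) F122569
theorem F175802 : act 4 n42056 = n28873 := d34_1 D42056 (iv D28873) (iv F122570)
theorem F175803 : act 6 n42056 = n28871 := d41_1 D42056 (iv D28871) (iv F122571)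
def n42057 : Q := act 2 n28870
theorem D42057 : act 2 n28870 = n42057 := rfl
theorem F175805 : act 5 n42057 = n30522 := d19_2 (iv F122574) D42057 (iv D30522)
def n42058 : Q := act 9 n28870
theorem D42058 : act 9 n28870 = n42058 := rfl
theorem F175806 : act 0 n42058 = n28895 := d8_1 D42058 (iv D28895) (iv F122572)
theorem F175807 : act 1 n42058 = n42058 := d16_1 D42058 (iv D42058) F122573
theorem F175808 : act 3 n42058 = n28871 := d29_1 D42058 (iv D28871) D28870
theorem F175809 : act 5 n42058 = n30523 := d38_1 D42058 (iv D30523) (iv F122574)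
def n42059 : Q := act 9 n28872
theorem D42059 : act 9 n28872 = n42059 := rfl
theorem F175812 : act 5 n42059 = n28995 := d38_1 D42059 (iv D28995) (iv F122581)
theorem F175813 : act 7 n42059 = n28873 := d43_1 D42059 (iv D28873) (iv F122582)
def n42060 : Q := act 5 n28874
theorem D42060 : act 5 n28874 = n42060 := rfl
theorem F175814 : act 1 n42060 = n29284 := d12_1 D42060 (iv D29284) (iv F122587)
theorem F175815 : act 3 n42060 = n28876 := d25_1 D42060 (iv D28876) (iv F122588)
theorem F175816 : act 6 n42060 = n30525 := d35_2 D28874 D42060 (iv D30525) (iv D20960) (iv F85706)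
def n42061 : Q := act 7 n28874
theorem D42061 : act 7 n28874 = n42061 := rfl
theorem F175817 : act 1 n42061 = n29285 := d14_1 D42061 (iv D29285) (iv F122587)
theorem F175818 : act 3 n42061 = n28877 := d27_1 D42061 (iv D28877) (iv F122588)
theorem F175819 : act 4 n42061 = n42061 := d32_1 D42061 (iv D42061) F122589
def n42062 : Q := act 8 n28874
theorem D42062 : act 8 n28874 = n42062 := rfl
theorem F175820 : act 1 n42062 = n29286 := d15_1 D42062 (iv D29286) (iv F122587)
theorem F175821 : act 4 n42062 = n42062 := d33_1 D42062 (iv D42062) F122589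
theorem F175822 : act 6 n42062 = n28875 := d40_1 D42062 (iv D28875) D28874
def n42063 : Q := act 3 n28875
theorem D42063 : act 3 n28875 = n42063 := rfl
theorem F175823 : act 1 n42063 = n29287 := d10_1 D42063 (iv D29287) (iv F122590)
theorem F175824 : act 5 n42063 = n30528 := d25_2 (iv F122592) D42063 (iv D30528)
theorem F175825 : act 8 n42063 = n28879 := d28_2 D28875 D42063 (iv D28879) (iv D19854) D19852
def n42064 : Q := act 9 n28875
theorem D42064 : act 9 n28875 = n42064 := rfl
theorem F175826 : act 1 n42064 = n29288 := d16_1 D42064 (iv D29288) (iv F122590)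
theorem F175827 : act 4 n42064 = n42064 := d34_1 D42064 (iv D42064) F122591
theorem F175828 : act 5 n42064 = n30529 := d38_1 D42064 (iv D30529) (iv F122592)
def n42065 : Q := act 7 n28876
theorem D42065 : act 7 n28876 = n42065 := rfl
theorem F175829 : act 1 n42065 = n29289 := d14_1 D42065 (iv D29289) (iv F122593)
theorem F175830 : act 2 n42065 = n28889 := d21_1 D42065 (iv D28889) (iv F122594)
theorem F175831 : act 4 n42065 = n29001 := d32_1 D42065 (iv D29001) (iv F122595)
theorem F175832 : act 5 n42065 = n28877 := d36_1 D42065 (iv D28877) D28876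
def n42066 : Q := act 8 n28876
theorem D42066 : act 8 n28876 = n42066 := rfl
theorem F175833 : act 1 n42066 = n29290 := d15_1 D42066 (iv D29290) (iv F122593)
theorem F175834 : act 2 n42066 = n28890 := d22_1 D42066 (iv D28890) (iv F122594)
theorem F175835 : act 4 n42066 = n29002 := d33_1 D42066 (iv D29002) (iv F122595)
theorem F175836 : act 5 n42066 = n28878 := d37_1 D42066 (iv D28878) D28876
theorem F175837 : act 6 n42066 = n30531 := d40_1 D42066 (iv D30531) (iv F122596)
def n42067 : Q := act 8 n28877
theorem D42067 : act 8 n28877 = n42067 := rfl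
theorem F175838 : act 1 n42067 = n29291 := d15_1 D42067 (iv D29291) (iv F122597)
theorem F175839 : act 2 n42067 = n28891 := d22_1 D42067 (iv D28891) (iv F122598)
theorem F175840 : act 4 n42067 = n28881 := d33_1 D42067 (iv D28881) (iv F122599)
theorem F175841 : act 7 n42067 = n28878 := d42_1 D42067 (iv D28878) D28877
def n42068 : Q := act 3 n28878
theorem D42068 : act 3 n28878 = n42068 := rfl
theorem F175842 : act 1 n42068 = n29292 := d10_1 D42068 (iv D29292) (iv F122600)
theorem F175843 : act 6 n42068 = n28879 := d26_2 (iv F122603) D42068 (iv D28879)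
def n42069 : Q := act 9 n28878
theorem D42069 : act 9 n28878 = n42069 := rfl
theorem F175844 : act 1 n42069 = n29293 := d16_1 D42069 (iv D29293) (iv F122600)
theorem F175845 : act 2 n42069 = n28893 := d23_1 D42069 (iv D28893) (iv F122601)
theorem F175846 : act 4 n42069 = n28883 := d34_1 D42069 (iv D28883) (iv F122602)
theorem F175847 : act 6 n42069 = n28880 := d41_1 D42069 (iv D28880) (iv F122603)
def n42070 : Q := act 2 n28879
theorem D42070 : act 2 n28879 = n42070 := rfl
theorem F175848 : act 3 n42070 = n28894 := d17_2 D28879 D42070 (iv D28894) (iv D19864) (iv F85711)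
theorem F175849 : act 5 n42070 = n30535 := d19_2 (iv F122605) D42070 (iv D30535)
def n42071 : Q := act 4 n28879
theorem D42071 : act 4 n28879 = n42071 := rfl
theorem F175850 : act 1 n42071 = n29295 := d11_1 D42071 (iv D29295) (iv F122604)
theorem F175851 : act 3 n42071 = n28884 := d24_1 D42071 (iv D28884) (iv D19857) (iv F85712) D28879
def n42072 : Q := act 9 n28879
theorem D42072 : act 9 n28879 = n42072 := rfl
theorem F175852 : act 1 n42072 = n29296 := d16_1 D42072 (iv D29296) (iv F122604)
theorem F175853 : act 3 n42072 = n28880 := d29_1 D42072 (iv D28880) D28879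
theorem F175854 : act 5 n42072 = n30537 := d38_1 D42072 (iv D30537) (iv F122605)
def n42073 : Q := act 3 n28881
theorem D42073 : act 3 n28881 = n42073 := rfl
theorem F175855 : act 1 n42073 = n29297 := d10_1 D42073 (iv D29297) (iv F122610)
theorem F175856 : act 5 n42073 = n29009 := d25_2 (iv F122612) D42073 (iv D29009)
theorem F175857 : act 7 n42073 = n28882 := d27_2 (iv F122613) D42073 (iv D28882)
def n42074 : Q := act 9 n28881
theorem D42074 : act 9 n28881 = n42074 := rfl
theorem F175859 : act 1 n42074 = n29298 := d16_1 D42074 (iv D29298) (iv F122610)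
theorem F175860 : act 2 n42074 = n28896 := d23_1 D42074 (iv D28896) (iv F122611)
theorem F175861 : act 5 n42074 = n29010 := d38_1 D42074 (iv D29010) (iv F122612)
theorem F175862 : act 7 n42074 = n28883 := d43_1 D42074 (iv D28883) (iv F122613)
def n42075 : Q := act 4 n28882
theorem D42075 : act 4 n28882 = n42075 := rfl
theorem F175863 : act 1 n42075 = n29299 := d11_1 D42075 (iv D29299) (iv F122614)
theorem F175864 : act 6 n42075 = n28884 := d31_2 (iv F122616) D42075 (iv D28884)
theorem F175865 : act 8 n42075 = n42075 := d33_2 F122617 D42075 (iv D42075)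
def n42076 : Q := act 9 n28882
theorem D42076 : act 9 n28882 = n42076 := rfl
theorem F175866 : act 1 n42076 = n29300 := d16_1 D42076 (iv D29300) (iv F122614)
theorem F175867 : act 3 n42076 = n28883 := d29_1 D42076 (iv D28883) D28882
theorem F175868 : act 5 n42076 = n29012 := d38_1 D42076 (iv D29012) (iv F122615)
theorem F175869 : act 6 n42076 = n28885 := d41_1 D42076 (iv D28885) (iv F122616)
def n42077 : Q := act 5 n28884
theorem D42077 : act 5 n28884 = n42077 := rfl
theorem F175870 : act 1 n42077 = n29301 := d12_1 D42077 (iv D29301) (iv F122622)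
theorem F175871 : act 4 n42077 = n28886 := d30_1 D42077 (iv D28886) (iv D19859) (iv F85723) D28884
theorem F175872 : act 8 n42077 = n42077 := d37_2 F122623 D42077 (iv D42077)
def n42078 : Q := act 9 n28884
theorem D42078 : act 9 n28884 = n42078 := rfl
theorem F175873 : act 1 n42078 = n29302 := d16_1 D42078 (iv D29302) (iv F122622)
theorem F175874 : act 4 n42078 = n28885 := d34_1 D42078 (iv D28885) D28884
def n42079 : Q := act 8 n28885
theorem D42079 : act 8 n28885 = n42079 := rfl
theorem F175875 : act 1 n42079 = n29303 := d15_1 D42079 (iv D29303) (iv F122624)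
theorem F175876 : act 5 n42079 = n28888 := d37_1 D42079 (iv D28888) (iv F122626)
theorem F175877 : act 9 n42079 = n42079 := d44_2 D28885 D42079 (iv D42079) (iv D28885) F85724
def n42080 : Q := act 6 n28886
theorem D42080 : act 6 n28886 = n42080 := rfl
theorem F175878 : act 1 n42080 = n29304 := d13_1 D42080 (iv D29304) (iv F122627)
theorem F175879 : act 3 n42080 = n30545 := d26_1 D42080 (iv D30545) (iv F122628)
theorem F175880 : act 5 n42080 = n29016 := d35_1 D42080 (iv D29016) (iv D19945) (iv F85730) D28886
theorem F175881 : act 8 n42080 = n42080 := d40_2 F122629 D42080 (iv D42080)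
def n42081 : Q := act 9 n28886
theorem D42081 : act 9 n28886 = n42081 := rfl
theorem F175882 : act 1 n42081 = n29305 := d16_1 D42081 (iv D29305) (iv F122627)
theorem F175883 : act 3 n42081 = n30546 := d29_1 D42081 (iv D30546) (iv F122628)
theorem F175884 : act 5 n42081 = n28887 := d38_1 D42081 (iv D28887) D28886
def n42082 : Q := act 8 n28887
theorem D42082 : act 8 n28887 = n42082 := rfl
theorem F175885 : act 1 n42082 = n29306 := d15_1 D42082 (iv D29306) (iv F122630)
theorem F175886 : act 4 n42082 = n28888 := d33_1 D42082 (iv D28888) (iv F122632)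
theorem F175887 : act 6 n42082 = n29018 := d40_1 D42082 (iv D29018) (iv F122633)
theorem F175888 : act 9 n42082 = n42082 := d44_2 D28887 D42082 (iv D42082) (iv D28887) F85731
def n42083 : Q := act 6 n28889
theorem D42083 : act 6 n28889 = n42083 := rfl
theorem F175889 : act 1 n42083 = n28897 := d13_1 D42083 (iv D28897) (iv F122637)
theorem F175890 : act 4 n42083 = n29019 := d31_1 D42083 (iv D29019) (iv F122638)
theorem F175891 : act 7 n42083 = n30548 := d39_2 D28889 D42083 (iv D30548) (iv D20975) (iv F85737)
def n42084 : Q := act 8 n28889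
theorem D42084 : act 8 n28889 = n42084 := rfl
theorem F175892 : act 1 n42084 = n28898 := d15_1 D42084 (iv D28898) (iv F122637)
theorem F175893 : act 4 n42084 = n29020 := d33_1 D42084 (iv D29020) (iv F122638)
theorem F175894 : act 5 n42084 = n28891 := d37_1 D42084 (iv D28891) (iv F122639)
theorem F175895 : act 7 n42084 = n28890 := d42_1 D42084 (iv D28890) D28889
def n42085 : Q := act 3 n28890
theorem D42085 : act 3 n28890 = n42085 := rfl
theorem F175896 : act 1 n42085 = n28899 := d10_1 D42085 (iv D28899) (iv F122640)
theorem F175897 : act 5 n42085 = n28892 := d25_2 (iv F122642) D42085 (iv D28892)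
theorem F175898 : act 6 n42085 = n30550 := d26_2 (iv F122643) D42085 (iv D30550)
def n42086 : Q := act 9 n28890
theorem D42086 : act 9 n28890 = n42086 := rfl
theorem F175899 : act 1 n42086 = n28900 := d16_1 D42086 (iv D28900) (iv F122640)
theorem F175900 : act 4 n42086 = n29022 := d34_1 D42086 (iv D29022) (iv F122641)
theorem F175901 : act 5 n42086 = n28893 := d38_1 D42086 (iv D28893) (iv F122642)
theorem F175902 : act 6 n42086 = n30551 := d41_1 D42086 (iv D30551) (iv F122643)
def n42087 : Q := act 3 n28891
theorem D42087 : act 3 n28891 = n42087 := rfl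
theorem F175904 : act 7 n42087 = n28892 := d27_2 (iv F122646) D42087 (iv D28892)
def n42088 : Q := act 9 n28891
theorem D42088 : act 9 n28891 = n42088 := rfl
theorem F175905 : act 1 n42088 = n28902 := d16_1 D42088 (iv D28902) (iv F122644)
theorem F175906 : act 4 n42088 = n28896 := d34_1 D42088 (iv D28896) (iv F122645)
theorem F175907 : act 7 n42088 = n28893 := d43_1 D42088 (iv D28893) (iv F122646)
def n42089 : Q := act 2 n28892
theorem D42089 : act 2 n28892 = n42089 := rfl
theorem F175908 : act 6 n42089 = n28894 := d20_2 (iv F122648) D42089 (iv D28894)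
def n42090 : Q := act 9 n28892
theorem D42090 : act 9 n28892 = n42090 := rfl
theorem F175909 : act 1 n42090 = n28904 := d16_1 D42090 (iv D28904) (iv F122647)
theorem F175910 : act 3 n42090 = n28893 := d29_1 D42090 (iv D28893) D28892
theorem F175911 : act 6 n42090 = n28895 := d41_1 D42090 (iv D28895) (iv F122648)
def n42091 : Q := act 1 n28894
theorem D42091 : act 1 n28894 = n42091 := rfl
theorem F175912 : act 2 n42091 = n28905 := d9_2 D28894 D42091 (iv D28905) (iv D19873) (iv F85743)
theorem F175913 : act 5 n42091 = n30556 := d12_2 (iv F122652) D42091 (iv D30556)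
def n42092 : Q := act 9 n28894
theorem D42092 : act 9 n28894 = n42092 := rfl
theorem F175914 : act 2 n42092 = n28895 := d23_1 D42092 (iv D28895) D28894
theorem F175915 : act 5 n42092 = n30557 := d38_1 D42092 (iv D30557) (iv F122652)
def n42093 : Q := act 8 n28895
theorem D42093 : act 8 n28895 = n42093 := rfl
theorem F175916 : act 1 n42093 = n28907 := d15_1 D42093 (iv D28907) (iv F122653)
theorem F175917 : act 5 n42093 = n30558 := d37_1 D42093 (iv D30558) (iv F122655)
def n42094 : Q := act 8 n28897
theorem D42094 : act 8 n28897 = n42094 := rfl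
theorem F175919 : act 2 n42094 = n29318 := d22_1 D42094 (iv D29318) (iv F122660)
theorem F175920 : act 4 n42094 = n29030 := d33_1 D42094 (iv D29030) (iv F122661)
theorem F175921 : act 6 n42094 = n28898 := d40_1 D42094 (iv D28898) D28897
theorem F175922 : act 7 n42094 = n30559 := d42_1 D42094 (iv D30559) (iv F122662)
def n42095 : Q := act 3 n28898
theorem D42095 : act 3 n28898 = n42095 := rfl
theorem F175924 : act 5 n42095 = n28901 := d25_2 (iv F122666) D42095 (iv D28901)
theorem F175925 : act 7 n42095 = n28899 := d27_2 (iv F122667) D42095 (iv D28899)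
def n42096 : Q := act 9 n28898
theorem D42096 : act 9 n28898 = n42096 := rfl
theorem F175926 : act 0 n42096 = n42096 := d8_1 D42096 (iv D42096) F122663
theorem F175927 : act 2 n42096 = n29320 := d23_1 D42096 (iv D29320) (iv F122664)
theorem F175928 : act 4 n42096 = n29032 := d34_1 D42096 (iv D29032) (iv F122665)

end Cfsg.Agent.Helper17.Fi23TC
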