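import Cfsg.Agent.Helper17.Fi23TC.Facts7

set_option autoImplicit false
set_option linter.all false

noncomputable section

namespace Cfsg.Agent.Helper17.Fi23TC

theorem F175929 : act 5 n42096 = n28902 := d38_1 D42096 (iv D28902) (iv F122666)
theorem F175930 : act 7 n42096 = n28900 := d43_1 D42096 (iv D28900) (iv F122667)
def n42097 : Q := act 2 n28899
theorem D42097 : act 2 n28899 = n42097 := rfl
theorem F175932 : act 3 n42097 = n29321 := d17_2 D28899 D42097 (iv D29321) (iv D20151) (iv F85759)
theorem F175934 : act 6 n42097 = n30562 := d20_2 (iv F122670) D42097 (iv D30562)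
def n42098 : Q := act 4 n28899
theorem D42098 : act 4 n28899 = n42098 := rfl
theorem F175936 : act 3 n42098 = n29034 := d24_1 D42098 (iv D29034) (iv D19958) (iv F85760) D28899
theorem F175937 : act 6 n42098 = n30563 := d31_2 (iv F122670) D42098 (iv D30563)
def n42099 : Q := act 9 n28899
theorem D42099 : act 9 n28899 = n42099 := rfl
theorem F175938 : act 0 n42099 = n42099 := d8_1 D42099 (iv D42099) F122668
theorem F175939 : act 3 n42099 = n28900 := d29_1 D42099 (iv D28900) D28899
theorem F175940 : act 5 n42099 = n28904 := d38_1 D42099 (iv D28904) (iv F122669)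
theorem F175941 : act 6 n42099 = n30564 := d41_1 D42099 (iv D30564) (iv F122670)
def n42100 : Q := act 2 n28901
theorem D42100 : act 2 n28901 = n42100 := rfl
theorem F175943 : act 3 n42100 = n29324 := d17_2 D28901 D42100 (iv D29324) (iv D20153) (iv F85764)
def n42101 : Q := act 9 n28901
theorem D42101 : act 9 n28901 = n42101 := rfl
theorem F175946 : act 3 n42101 = n28902 := d29_1 D42101 (iv D28902) D28901
theorem F175947 : act 7 n42101 = n28904 := d43_1 D42101 (iv D28904) (iv F122677)
def n42102 : Q := act 1 n28903
theorem D42102 : act 1 n28903 = n42102 := rfl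
theorem F175949 : act 6 n42102 = n28905 := d13_2 (iv F122684) D42102 (iv D28905)
def n42103 : Q := act 9 n28903
theorem D42103 : act 9 n28903 = n42103 := rfl
theorem F175951 : act 2 n42103 = n28904 := d23_1 D42103 (iv D28904) D28903
def n42104 : Q := act 8 n28904
theorem D42104 : act 8 n28904 = n42104 := rfl
def n42105 : Q := act 0 n28905
theorem D42105 : act 0 n28905 = n42105 := rfl
theorem F175956 : act 1 n42105 = n42105 := d0_2 D28905 D42105 (iv D42105) (iv D28905) F85773
theorem F175957 : act 3 n42105 = n29329 := d2_2 (iv F122688) D42105 (iv D29329)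
theorem F175958 : act 5 n42105 = n30570 := d4_2 (iv F122689) D42105 (iv D30570)
def n42106 : Q := act 9 n28905
theorem D42106 : act 9 n28905 = n42106 := rfl
theorem F175959 : act 1 n42106 = n28906 := d16_1 D42106 (iv D28906) D28905
theorem F175960 : act 3 n42106 = n29330 := d29_1 D42106 (iv D29330) (iv F122688)
theorem F175961 : act 5 n42106 = n30571 := d38_1 D42106 (iv D30571) (iv F122689)
def n42107 : Q := act 8 n28906
theorem D42107 : act 8 n28906 = n42107 := rfl
theorem F175963 : act 2 n42107 = n28907 := d22_1 D42107 (iv D28907) (iv F122691)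
def n42109 : Q := act 6 n28908
theorem D42109 : act 6 n28908 = n42109 := rfl
theorem F175971 : act 0 n42109 = n29388 := d5_1 D42109 (iv D29388) (iv F122696)
theorem F175975 : act 9 n42109 = n28964 := d41_2 (iv F122701) D42109 (iv D28964)
def n42110 : Q := act 8 n28908
theorem D42110 : act 8 n28908 = n42110 := rfl
theorem F175976 : act 0 n42110 = n29389 := d7_1 D42110 (iv D29389) (iv F122696)
theorem F175980 : act 5 n42110 = n30630 := d37_1 D42110 (iv D30630) (iv F122699)
def n42111 : Q := act 7 n28909
theorem D42111 : act 7 n28909 = n42111 := rfl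
theorem F175982 : act 0 n42111 = n29390 := d6_1 D42111 (iv D29390) (iv F122702)
theorem F175987 : act 9 n42111 = n28966 := d43_2 (iv F122706) D42111 (iv D28966)
def n42112 : Q := act 8 n28909
theorem D42112 : act 8 n28909 = n42112 := rfl
theorem F175988 : act 0 n42112 = n29391 := d7_1 D42112 (iv D29391) (iv F122702)
theorem F175991 : act 6 n42112 = n28910 := d40_1 D42112 (iv D28910) D28909
def n42114 : Q := act 9 n28910
theorem D42114 : act 9 n28910 = n42114 := rfl
theorem F175997 : act 0 n42114 = n29393 := d8_1 D42114 (iv D29393) (iv F122707)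
theorem F176002 : act 8 n42114 = n28969 := d44_1 D42114 (iv D28969) (iv D19914) (iv F85788) D28910
def n42118 : Q := act 6 n28913
theorem D42118 : act 6 n28913 = n42118 := rfl
theorem F176017 : act 0 n42118 = n28929 := d5_1 D42118 (iv D28929) (iv F122722)
theorem F176021 : act 9 n42118 = n28973 := d41_2 (iv F122727) D42118 (iv D28973)
def n42119 : Q := act 8 n28913
theorem D42119 : act 8 n28913 = n42119 := rfl
theorem F176022 : act 0 n42119 = n28930 := d7_1 D42119 (iv D28930) (iv F122722)
def n42120 : Q := act 5 n28914
theorem D42120 : act 5 n28914 = n42120 := rfl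
theorem F176027 : act 0 n42120 = n28931 := d4_1 D42120 (iv D28931) (iv F122728)
theorem F176029 : act 6 n42120 = n30640 := d35_2 D28914 D42120 (iv D30640) (iv D21036) (iv F85796)
theorem F176030 : act 9 n42120 = n28975 := d38_2 (iv F122731) D42120 (iv D28975)
def n42121 : Q := act 7 n28914
theorem D42121 : act 7 n28914 = n42121 := rfl
theorem F176031 : act 0 n42121 = n28932 := d6_1 D42121 (iv D28932) (iv F122728)
theorem F176035 : act 9 n42121 = n28976 := d43_2 (iv F122731) D42121 (iv D28976)
def n42122 : Q := act 8 n28914
theorem D42122 : act 8 n28914 = n42122 := rfl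
theorem F176036 : act 0 n42122 = n28933 := d7_1 D42122 (iv D28933) (iv F122728)
theorem F176039 : act 6 n42122 = n28915 := d40_1 D42122 (iv D28915) D28914
def n42123 : Q := act 3 n28915
theorem D42123 : act 3 n28915 = n42123 := rfl
theorem F176040 : act 0 n42123 = n28934 := d2_1 D42123 (iv D28934) (iv F122732)
theorem F176041 : act 5 n42123 = n30643 := d25_2 (iv F122735) D42123 (iv D30643)
def n42124 : Q := act 9 n28915
theorem D42124 : act 9 n28915 = n42124 := rfl
theorem F176043 : act 0 n42124 = n28935 := d8_1 D42124 (iv D28935) (iv F122732)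
theorem F176048 : act 8 n42124 = n28979 := d44_1 D42124 (iv D28979) (iv D19919) (iv F85798) D28915
def n42125 : Q := act 8 n28916
theorem D42125 : act 8 n28916 = n42125 := rfl
theorem F176049 : act 0 n42125 = n28936 := d7_1 D42125 (iv D28936) (iv F122737)
theorem F176052 : act 7 n42125 = n28917 := d42_1 D42125 (iv D28917) D28916
def n42126 : Q := act 3 n28917
theorem D42126 : act 3 n28917 = n42126 := rfl
theorem F176053 : act 0 n42126 = n28937 := d2_1 D42126 (iv D28937) (iv F122742)
theorem F176055 : act 6 n42126 = n28918 := d26_2 (iv F122744) D42126 (iv D28918)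
def n42127 : Q := act 9 n28917
theorem D42127 : act 9 n28917 = n42127 := rfl
theorem F176057 : act 0 n42127 = n28938 := d8_1 D42127 (iv D28938) (iv F122742)
theorem F176060 : act 8 n42127 = n28982 := d44_1 D42127 (iv D28982) (iv D19921) (iv F85802) D28917
def n42128 : Q := act 4 n28918
theorem D42128 : act 4 n28918 = n42128 := rfl
theorem F176061 : act 0 n42128 = n28939 := d3_1 D42128 (iv D28939) (iv F122745)
def n42129 : Q := act 9 n28918
theorem D42129 : act 9 n28918 = n42129 := rfl
theorem F176065 : act 0 n42129 = n28940 := d8_1 D42129 (iv D28940) (iv F122745)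
def n42132 : Q := act 8 n28921
theorem D42132 : act 8 n28921 = n42132 := rfl
theorem F176080 : act 0 n42132 = n28943 := d7_1 D42132 (iv D28943) (iv F122760)
theorem F176082 : act 3 n42132 = n28987 := d28_1 D42132 (iv D28987) F86009 (iv F85815) (iv F122762)
def n42133 : Q := act 7 n28922
theorem D42133 : act 7 n28922 = n42133 := rfl
theorem F176085 : act 0 n42133 = n28944 := d6_1 D42133 (iv D28944) (iv F122764)
theorem F176089 : act 9 n42133 = n28988 := d43_2 (iv F122768) D42133 (iv D28988)
def n42134 : Q := act 8 n28922
theorem D42134 : act 8 n28922 = n42134 := rfl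
theorem F176090 : act 0 n42134 = n28945 := d7_1 D42134 (iv D28945) (iv F122764)
def n42135 : Q := act 8 n28923
theorem D42135 : act 8 n28923 = n42135 := rfl
theorem F176094 : act 0 n42135 = n28946 := d7_1 D42135 (iv D28946) (iv F122769)
theorem F176098 : act 7 n42135 = n28924 := d42_1 D42135 (iv D28924) D28923
def n42136 : Q := act 3 n28924
theorem D42136 : act 3 n28924 = n42136 := rfl
theorem F176099 : act 0 n42136 = n28947 := d2_1 D42136 (iv D28947) (iv F122775)
theorem F176102 : act 6 n42136 = n28925 := d26_2 (iv F122778) D42136 (iv D28925)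
def n42137 : Q := act 9 n28924
theorem D42137 : act 9 n28924 = n42137 := rfl
theorem F176104 : act 0 n42137 = n28948 := d8_1 D42137 (iv D28948) (iv F122775)
theorem F176108 : act 8 n42137 = n28992 := d44_1 D42137 (iv D28992) (iv D19928) (iv F85820) D28924
def n42138 : Q := act 2 n28925
theorem D42138 : act 2 n28925 = n42138 := rfl
theorem F176109 : act 0 n42138 = n28949 := d1_1 D42138 (iv D28949) (iv F122779)
theorem F176111 : act 5 n42138 = n30658 := d19_2 (iv F122782) D42138 (iv D30658)
def n42139 : Q := act 9 n28925
theorem D42139 : act 9 n28925 = n42139 := rfl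
theorem F176114 : act 0 n42139 = n28950 := d8_1 D42139 (iv D28950) (iv F122779)
def n42140 : Q := act 9 n28927
theorem D42140 : act 9 n28927 = n42140 := rfl
theorem F176120 : act 0 n42140 = n28951 := d8_1 D42140 (iv D28951) (iv F122791)
theorem F176125 : act 8 n42140 = n28995 := d44_1 D42140 (iv D28995) (iv D19931) (iv F85830) D28927
def n42141 : Q := act 5 n28929
theorem D42141 : act 5 n28929 = n42141 := rfl
theorem F176126 : act 1 n42141 = n29420 := d12_1 D42141 (iv D29420) (iv F122801)
theorem F176127 : act 2 n42141 = n42141 := d19_1 D42141 (iv D42141) F122802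
theorem F176128 : act 3 n42141 = n28931 := d25_1 D42141 (iv D28931) (iv F122803)
theorem F176129 : act 6 n42141 = n30661 := d35_2 D28929 D42141 (iv D30661) (iv D21051) (iv F85844)
theorem F176130 : act 9 n42141 = n28996 := d38_2 (iv F122805) D42141 (iv D28996)
def n42142 : Q := act 7 n28929
theorem D42142 : act 7 n28929 = n42142 := rfl
theorem F176131 : act 1 n42142 = n29421 := d14_1 D42142 (iv D29421) (iv F122801)
theorem F176132 : act 2 n42142 = n42142 := d21_1 D42142 (iv D42142) F122802
theorem F176133 : act 3 n42142 = n28932 := d27_1 D42142 (iv D28932) (iv F122803)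
theorem F176134 : act 4 n42142 = n42142 := d32_1 D42142 (iv D42142) F122804
theorem F176135 : act 6 n42142 = n42142 := d39_1 D42142 (iv D42142) (iv D28929) F85845 D28929
theorem F176136 : act 9 n42142 = n28997 := d43_2 (iv F122805) D42142 (iv D28997)
def n42143 : Q := act 8 n28929
theorem D42143 : act 8 n28929 = n42143 := rfl
theorem F176137 : act 1 n42143 = n29422 := d15_1 D42143 (iv D29422) (iv F122801)
theorem F176138 : act 2 n42143 = n42143 := d22_1 D42143 (iv D42143) F122802
theorem F176139 : act 4 n42143 = n42143 := d33_1 D42143 (iv D42143) F122804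
theorem F176140 : act 6 n42143 = n28930 := d40_1 D42143 (iv D28930) D28929
def n42144 : Q := act 3 n28930
theorem D42144 : act 3 n28930 = n42144 := rfl
theorem F176141 : act 1 n42144 = n29423 := d10_1 D42144 (iv D29423) (iv F122806)
theorem F176142 : act 5 n42144 = n30664 := d25_2 (iv F122809) D42144 (iv D30664)
theorem F176143 : act 7 n42144 = n42144 := d27_2 F122810 D42144 (iv D42144)
theorem F176144 : act 8 n42144 = n28934 := d28_2 D28930 D42144 (iv D28934) (iv D19890) D19888
def n42145 : Q := act 9 n28930
theorem D42145 : act 9 n28930 = n42145 := rfl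
theorem F176145 : act 1 n42145 = n29424 := d16_1 D42145 (iv D29424) (iv F122806)
theorem F176146 : act 2 n42145 = n42145 := d23_1 D42145 (iv D42145) F122807
theorem F176147 : act 4 n42145 = n42145 := d34_1 D42145 (iv D42145) F122808
theorem F176148 : act 5 n42145 = n30665 := d38_1 D42145 (iv D30665) (iv F122809)
theorem F176149 : act 7 n42145 = n42145 := d43_1 D42145 (iv D42145) F122810
theorem F176150 : act 8 n42145 = n29000 := d44_1 D42145 (iv D29000) (iv D19934) (iv F85846) D28930
def n42146 : Q := act 7 n28931
theorem D42146 : act 7 n28931 = n42146 := rfl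
theorem F176151 : act 1 n42146 = n29425 := d14_1 D42146 (iv D29425) (iv F122811)
theorem F176152 : act 2 n42146 = n28944 := d21_1 D42146 (iv D28944) (iv F122812)
theorem F176153 : act 5 n42146 = n28932 := d36_1 D42146 (iv D28932) D28931
theorem F176154 : act 9 n42146 = n29001 := d43_2 (iv F122814) D42146 (iv D29001)
def n42147 : Q := act 8 n28931
theorem D42147 : act 8 n28931 = n42147 := rfl
theorem F176155 : act 1 n42147 = n29426 := d15_1 D42147 (iv D29426) (iv F122811)
theorem F176156 : act 2 n42147 = n28945 := d22_1 D42147 (iv D28945) (iv F122812)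
theorem F176157 : act 5 n42147 = n28933 := d37_1 D42147 (iv D28933) D28931
theorem F176158 : act 6 n42147 = n30667 := d40_1 D42147 (iv D30667) (iv F122813)
def n42148 : Q := act 8 n28932
theorem D42148 : act 8 n28932 = n42148 := rfl
theorem F176159 : act 1 n42148 = n29427 := d15_1 D42148 (iv D29427) (iv F122815)
theorem F176160 : act 2 n42148 = n28946 := d22_1 D42148 (iv D28946) (iv F122816)
theorem F176161 : act 4 n42148 = n28936 := d33_1 D42148 (iv D28936) (iv F122817)
theorem F176162 : act 6 n42148 = n42148 := d40_1 D42148 (iv D42148) F122818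
theorem F176163 : act 7 n42148 = n28933 := d42_1 D42148 (iv D28933) D28932
def n42149 : Q := act 3 n28933
theorem D42149 : act 3 n28933 = n42149 := rfl
theorem F176164 : act 1 n42149 = n29428 := d10_1 D42149 (iv D29428) (iv F122820)
theorem F176165 : act 6 n42149 = n28934 := d26_2 (iv F122823) D42149 (iv D28934)
def n42150 : Q := act 9 n28933
theorem D42150 : act 9 n28933 = n42150 := rfl
theorem F176166 : act 1 n42150 = n29429 := d16_1 D42150 (iv D29429) (iv F122820)
theorem F176167 : act 2 n42150 = n28948 := d23_1 D42150 (iv D28948) (iv F122821)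
theorem F176168 : act 4 n42150 = n28938 := d34_1 D42150 (iv D28938) (iv F122822)
theorem F176169 : act 6 n42150 = n28935 := d41_1 D42150 (iv D28935) (iv F122823)
theorem F176170 : act 8 n42150 = n29005 := d44_1 D42150 (iv D29005) (iv D19937) (iv F85850) D28933
def n42151 : Q := act 2 n28934
theorem D42151 : act 2 n28934 = n42151 := rfl
theorem F176171 : act 3 n42151 = n28949 := d17_2 D28934 D42151 (iv D28949) (iv D19900) (iv F85852)
theorem F176172 : act 5 n42151 = n30671 := d19_2 (iv F122825) D42151 (iv D30671)
theorem F176173 : act 7 n42151 = n42151 := d21_2 F122826 D42151 (iv D42151)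
def n42152 : Q := act 4 n28934
theorem D42152 : act 4 n28934 = n42152 := rfl
theorem F176174 : act 1 n42152 = n29431 := d11_1 D42152 (iv D29431) (iv F122824)
theorem F176175 : act 3 n42152 = n28939 := d24_1 D42152 (iv D28939) (iv D19893) (iv F85853) D28934
theorem F176176 : act 7 n42152 = n42152 := d32_2 F122826 D42152 (iv D42152)
def n42153 : Q := act 9 n28934
theorem D42153 : act 9 n28934 = n42153 := rfl
theorem F176177 : act 1 n42153 = n29432 := d16_1 D42153 (iv D29432) (iv F122824)
theorem F176178 : act 3 n42153 = n28935 := d29_1 D42153 (iv D28935) D28934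
theorem F176179 : act 5 n42153 = n30673 := d38_1 D42153 (iv D30673) (iv F122825)
theorem F176180 : act 7 n42153 = n42153 := d43_1 D42153 (iv D42153) F122826
def n42154 : Q := act 3 n28936
theorem D42154 : act 3 n28936 = n42154 := rfl
theorem F176181 : act 1 n42154 = n29433 := d10_1 D42154 (iv D29433) (iv F122833)
theorem F176182 : act 2 n42154 = n42154 := d17_1 D42154 (iv D42154) F122834 F85906 (iv F122834)
theorem F176183 : act 6 n42154 = n42154 := d26_2 F122835 D42154 (iv D42154)
theorem F176184 : act 7 n42154 = n28937 := d27_2 (iv F122836) D42154 (iv D28937)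
theorem F176185 : act 8 n42154 = n42154 := d28_2 D28936 D42154 (iv D42154) (iv D28936) F85858
def n42155 : Q := act 9 n28936
theorem D42155 : act 9 n28936 = n42155 := rfl
theorem F176186 : act 1 n42155 = n29434 := d16_1 D42155 (iv D29434) (iv F122833)
theorem F176187 : act 2 n42155 = n28951 := d23_1 D42155 (iv D28951) (iv F122834)
theorem F176188 : act 6 n42155 = n42155 := d41_1 D42155 (iv D42155) F122835
theorem F176189 : act 7 n42155 = n28938 := d43_1 D42155 (iv D28938) (iv F122836)
theorem F176190 : act 8 n42155 = n29010 := d44_1 D42155 (iv D29010) (iv D19940) (iv F85860) D28936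
def n42156 : Q := act 4 n28937
theorem D42156 : act 4 n28937 = n42156 := rfl
theorem F176191 : act 1 n42156 = n29435 := d11_1 D42156 (iv D29435) (iv F122837)
theorem F176192 : act 2 n42156 = n42156 := d18_1 D42156 (iv D42156) F122838
theorem F176193 : act 6 n42156 = n28939 := d31_2 (iv F122839) D42156 (iv D28939)
theorem F176194 : act 8 n42156 = n42156 := d33_2 F122840 D42156 (iv D42156)
def n42157 : Q := act 9 n28937
theorem D42157 : act 9 n28937 = n42157 := rfl
theorem F176195 : act 1 n42157 = n29436 := d16_1 D42157 (iv D29436) (iv F122837)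
theorem F176196 : act 2 n42157 = n42157 := d23_1 D42157 (iv D42157) F122838
theorem F176197 : act 3 n42157 = n28938 := d29_1 D42157 (iv D28938) D28937
theorem F176198 : act 6 n42157 = n28940 := d41_1 D42157 (iv D28940) (iv F122839)
def n42158 : Q := act 5 n28939
theorem D42158 : act 5 n28939 = n42158 := rfl
theorem F176199 : act 1 n42158 = n29437 := d12_1 D42158 (iv D29437) (iv F122845)
theorem F176201 : act 4 n42158 = n28941 := d30_1 D42158 (iv D28941) (iv D19895) (iv F85866) D28939
def n42159 : Q := act 9 n28939
theorem D42159 : act 9 n28939 = n42159 := rfl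
theorem F176204 : act 1 n42159 = n29438 := d16_1 D42159 (iv D29438) (iv F122845)
theorem F176205 : act 2 n42159 = n42159 := d23_1 D42159 (iv D42159) F122846
theorem F176206 : act 4 n42159 = n28940 := d34_1 D42159 (iv D28940) D28939
theorem F176207 : act 7 n42159 = n42159 := d43_1 D42159 (iv D42159) F122847
def n42160 : Q := act 8 n28940
theorem D42160 : act 8 n28940 = n42160 := rfl
theorem F176208 : act 1 n42160 = n29439 := d15_1 D42160 (iv D29439) (iv F122849)
theorem F176209 : act 2 n42160 = n42160 := d22_1 D42160 (iv D42160) F122850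
theorem F176210 : act 3 n42160 = n29015 := d28_1 D42160 (iv D29015) F86083 (iv F85873) (iv F122851)
theorem F176211 : act 5 n42160 = n28943 := d37_1 D42160 (iv D28943) (iv F122852)
theorem F176212 : act 7 n42160 = n42160 := d42_1 D42160 (iv D42160) F122853
theorem F176213 : act 9 n42160 = n42160 := d44_2 D28940 D42160 (iv D42160) (iv D28940) F85868
def n42161 : Q := act 6 n28941
theorem D42161 : act 6 n28941 = n42161 := rfl
theorem F176214 : act 1 n42161 = n29440 := d13_1 D42161 (iv D29440) (iv F122854)
theorem F176216 : act 3 n42161 = n30681 := d26_1 D42161 (iv D30681) (iv F122856)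
def n42162 : Q := act 9 n28941
theorem D42162 : act 9 n28941 = n42162 := rfl
theorem F176218 : act 1 n42162 = n29441 := d16_1 D42162 (iv D29441) (iv F122854)
def n42163 : Q := act 8 n28942
theorem D42163 : act 8 n28942 = n42163 := rfl
theorem F176223 : act 1 n42163 = n29442 := d15_1 D42163 (iv D29442) (iv F122859)
theorem F176225 : act 4 n42163 = n28943 := d33_1 D42163 (iv D28943) (iv F122862)
def n42164 : Q := act 6 n28944
theorem D42164 : act 6 n28944 = n42164 := rfl
theorem F176228 : act 1 n42164 = n28952 := d13_1 D42164 (iv D28952) (iv F122869)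
theorem F176229 : act 3 n42164 = n42164 := d26_1 D42164 (iv D42164) F122870
theorem F176230 : act 5 n42164 = n42164 := d35_1 D42164 (iv D42164) F122871 F85890 (iv F122871)
theorem F176231 : act 7 n42164 = n30684 := d39_2 D28944 D42164 (iv D30684) (iv D21066) (iv F85885)
theorem F176232 : act 9 n42164 = n29019 := d41_2 (iv F122872) D42164 (iv D29019)
def n42165 : Q := act 8 n28944
theorem D42165 : act 8 n28944 = n42165 := rfl
theorem F176233 : act 1 n42165 = n28953 := d15_1 D42165 (iv D28953) (iv F122869)
theorem F176234 : act 5 n42165 = n28946 := d37_1 D42165 (iv D28946) (iv F122871)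
theorem F176235 : act 7 n42165 = n28945 := d42_1 D42165 (iv D28945) D28944
def n42166 : Q := act 3 n28945
theorem D42166 : act 3 n28945 = n42166 := rfl
theorem F176236 : act 1 n42166 = n28954 := d10_1 D42166 (iv D28954) (iv F122873)
theorem F176237 : act 5 n42166 = n28947 := d25_2 (iv F122874) D42166 (iv D28947)
theorem F176238 : act 6 n42166 = n30686 := d26_2 (iv F122875) D42166 (iv D30686)
theorem F176239 : act 8 n42166 = n42166 := d28_2 D28945 D42166 (iv D42166) (iv D28945) F85884
def n42167 : Q := act 9 n28945
theorem D42167 : act 9 n28945 = n42167 := rfl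
theorem F176240 : act 1 n42167 = n28955 := d16_1 D42167 (iv D28955) (iv F122873)
theorem F176241 : act 5 n42167 = n28948 := d38_1 D42167 (iv D28948) (iv F122874)
theorem F176242 : act 6 n42167 = n30687 := d41_1 D42167 (iv D30687) (iv F122875)
theorem F176243 : act 8 n42167 = n29022 := d44_1 D42167 (iv D29022) (iv D19949) (iv F85886) D28945
def n42168 : Q := act 3 n28946
theorem D42168 : act 3 n28946 = n42168 := rfl
theorem F176244 : act 1 n42168 = n28956 := d10_1 D42168 (iv D28956) (iv F122876)
theorem F176245 : act 4 n42168 = n42168 := d24_2 (iv F122877) D42168 (iv D42168) F122877 F85906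
theorem F176246 : act 6 n42168 = n42168 := d26_2 F122878 D42168 (iv D42168)
theorem F176247 : act 7 n42168 = n28947 := d27_2 (iv F122879) D42168 (iv D28947)
theorem F176248 : act 8 n42168 = n42168 := d28_2 D28946 D42168 (iv D42168) (iv D28946) F85888
def n42169 : Q := act 9 n28946
theorem D42169 : act 9 n28946 = n42169 := rfl
theorem F176249 : act 1 n42169 = n28957 := d16_1 D42169 (iv D28957) (iv F122876)
theorem F176250 : act 4 n42169 = n28951 := d34_1 D42169 (iv D28951) (iv F122877)
theorem F176251 : act 6 n42169 = n42169 := d41_1 D42169 (iv D42169) F122878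
theorem F176252 : act 7 n42169 = n28948 := d43_1 D42169 (iv D28948) (iv F122879)
theorem F176253 : act 8 n42169 = n29024 := d44_1 D42169 (iv D29024) (iv D19950) (iv F85891) D28946
def n42170 : Q := act 2 n28947
theorem D42170 : act 2 n28947 = n42170 := rfl
theorem F176254 : act 4 n42170 = n42170 := d18_2 F122881 D42170 (iv D42170)
theorem F176255 : act 6 n42170 = n28949 := d20_2 (iv F122882) D42170 (iv D28949)
theorem F176256 : act 8 n42170 = n42170 := d22_2 F122883 D42170 (iv D42170)
def n42171 : Q := act 9 n28947
theorem D42171 : act 9 n28947 = n42171 := rfl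
theorem F176257 : act 1 n42171 = n28959 := d16_1 D42171 (iv D28959) (iv F122880)
theorem F176258 : act 3 n42171 = n28948 := d29_1 D42171 (iv D28948) D28947
theorem F176259 : act 4 n42171 = n42171 := d34_1 D42171 (iv D42171) F122881
theorem F176260 : act 6 n42171 = n28950 := d41_1 D42171 (iv D28950) (iv F122882)
def n42172 : Q := act 1 n28949
theorem D42172 : act 1 n28949 = n42172 := rfl
theorem F176261 : act 2 n42172 = n28960 := d9_2 D28949 D42172 (iv D28960) (iv D19909) (iv F85895)
theorem F176262 : act 4 n42172 = n42172 := d11_2 F122888 D42172 (iv D42172)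
theorem F176263 : act 5 n42172 = n30692 := d12_2 (iv F122889) D42172 (iv D30692)
theorem F176264 : act 7 n42172 = n42172 := d14_2 F122890 D42172 (iv D42172)
theorem F176265 : act 8 n42172 = n42172 := d15_2 F122891 D42172 (iv D42172)
def n42173 : Q := act 9 n28949
theorem D42173 : act 9 n28949 = n42173 := rfl
theorem F176266 : act 2 n42173 = n28950 := d23_1 D42173 (iv D28950) D28949
theorem F176267 : act 4 n42173 = n42173 := d34_1 D42173 (iv D42173) F122888
theorem F176268 : act 5 n42173 = n30693 := d38_1 D42173 (iv D30693) (iv F122889)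
theorem F176269 : act 7 n42173 = n42173 := d43_1 D42173 (iv D42173) F122890
def n42174 : Q := act 8 n28950
theorem D42174 : act 8 n28950 = n42174 := rfl
theorem F176270 : act 1 n42174 = n28962 := d15_1 D42174 (iv D28962) (iv F122892)
theorem F176271 : act 3 n42174 = n29029 := d28_1 D42174 (iv D29029) F86117 (iv F85904) (iv F122893)
theorem F176272 : act 4 n42174 = n42174 := d33_1 D42174 (iv D42174) F122894
theorem F176273 : act 5 n42174 = n30694 := d37_1 D42174 (iv D30694) (iv F122895)
theorem F176274 : act 7 n42174 = n42174 := d42_1 D42174 (iv D42174) F122896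
theorem F176275 : act 9 n42174 = n42174 := d44_2 D28950 D42174 (iv D42174) (iv D28950) F85899
def n42175 : Q := act 8 n28952
theorem D42175 : act 8 n28952 = n42175 := rfl
theorem F176276 : act 0 n42175 = n42175 := d7_1 D42175 (iv D42175) F122902
theorem F176277 : act 2 n42175 = n29454 := d22_1 D42175 (iv D29454) (iv F122903)
theorem F176278 : act 5 n42175 = n42175 := d37_1 D42175 (iv D42175) F122905
theorem F176279 : act 6 n42175 = n28953 := d40_1 D42175 (iv D28953) D28952
theorem F176280 : act 7 n42175 = n30695 := d42_1 D42175 (iv D30695) (iv F122906)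
def n42176 : Q := act 3 n28953
theorem D42176 : act 3 n28953 = n42176 := rfl
theorem F176281 : act 0 n42176 = n42176 := d2_1 D42176 (iv D42176) F122908
theorem F176282 : act 5 n42176 = n28956 := d25_2 (iv F122910) D42176 (iv D28956)
theorem F176283 : act 7 n42176 = n28954 := d27_2 (iv F122911) D42176 (iv D28954)
theorem F176284 : act 8 n42176 = n42176 := d28_2 D28953 D42176 (iv D42176) (iv D28953) F85915
def n42177 : Q := act 9 n28953
theorem D42177 : act 9 n28953 = n42177 := rfl
theorem F176285 : act 0 n42177 = n42177 := d8_1 D42177 (iv D42177) F122908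
theorem F176286 : act 2 n42177 = n29456 := d23_1 D42177 (iv D29456) (iv F122909)
theorem F176287 : act 5 n42177 = n28957 := d38_1 D42177 (iv D28957) (iv F122910)
theorem F176288 : act 7 n42177 = n28955 := d43_1 D42177 (iv D28955) (iv F122911)
theorem F176289 : act 8 n42177 = n29032 := d44_1 D42177 (iv D29032) (iv D19957) (iv F85917) D28953
def n42178 : Q := act 2 n28954
theorem D42178 : act 2 n28954 = n42178 := rfl
theorem F176290 : act 0 n42178 = n42178 := d1_1 D42178 (iv D42178) F122912
theorem F176291 : act 3 n42178 = n29457 := d17_2 D28954 D42178 (iv D29457) (iv D20242) (iv F85919)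
theorem F176292 : act 5 n42178 = n28958 := d19_2 (iv F122913) D42178 (iv D28958)
theorem F176293 : act 6 n42178 = n30698 := d20_2 (iv F122914) D42178 (iv D30698)
theorem F176294 : act 8 n42178 = n42178 := d22_2 F122915 D42178 (iv D42178)
def n42179 : Q := act 4 n28954
theorem D42179 : act 4 n28954 = n42179 := rfl
theorem F176295 : act 0 n42179 = n42179 := d3_1 D42179 (iv D42179) F122912
theorem F176296 : act 5 n42179 = n42179 := d30_2 (iv F122913) D42179 (iv D42179) F122913 F85928
theorem F176297 : act 6 n42179 = n30699 := d31_2 (iv F122914) D42179 (iv D30699)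
theorem F176298 : act 8 n42179 = n42179 := d33_2 F122915 D42179 (iv D42179)
def n42180 : Q := act 9 n28954
theorem D42180 : act 9 n28954 = n42180 := rfl
theorem F176299 : act 0 n42180 = n42180 := d8_1 D42180 (iv D42180) F122912
theorem F176300 : act 3 n42180 = n28955 := d29_1 D42180 (iv D28955) D28954
theorem F176301 : act 5 n42180 = n28959 := d38_1 D42180 (iv D28959) (iv F122913)
theorem F176302 : act 6 n42180 = n30700 := d41_1 D42180 (iv D30700) (iv F122914)
def n42181 : Q := act 2 n28956
theorem D42181 : act 2 n28956 = n42181 := rfl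
theorem F176303 : act 0 n42181 = n42181 := d1_1 D42181 (iv D42181) F122921
theorem F176304 : act 3 n42181 = n29460 := d17_2 D28956 D42181 (iv D29460) (iv D20244) (iv F85923)
theorem F176305 : act 4 n42181 = n42181 := d18_2 F122922 D42181 (iv D42181)
theorem F176306 : act 6 n42181 = n42181 := d20_2 F122923 D42181 (iv D42181)
theorem F176307 : act 7 n42181 = n28958 := d21_2 (iv F122924) D42181 (iv D28958)
theorem F176308 : act 8 n42181 = n42181 := d22_2 F122925 D42181 (iv D42181)
def n42182 : Q := act 9 n28956
theorem D42182 : act 9 n28956 = n42182 := rfl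
theorem F176309 : act 0 n42182 = n42182 := d8_1 D42182 (iv D42182) F122921
theorem F176310 : act 3 n42182 = n28957 := d29_1 D42182 (iv D28957) D28956
theorem F176311 : act 4 n42182 = n42182 := d34_1 D42182 (iv D42182) F122922
theorem F176312 : act 6 n42182 = n42182 := d41_1 D42182 (iv D42182) F122923
theorem F176313 : act 7 n42182 = n28959 := d43_1 D42182 (iv D28959) (iv F122924)
def n42183 : Q := act 1 n28958
theorem D42183 : act 1 n28958 = n42183 := rfl
theorem F176314 : act 3 n42183 = n29462 := d10_2 (iv F122933) D42183 (iv D29462)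
theorem F176315 : act 4 n42183 = n42183 := d11_2 F122934 D42183 (iv D42183)
theorem F176316 : act 6 n42183 = n28960 := d13_2 (iv F122935) D42183 (iv D28960)
theorem F176317 : act 8 n42183 = n42183 := d15_2 F122936 D42183 (iv D42183)
def n42184 : Q := act 9 n28958
theorem D42184 : act 9 n28958 = n42184 := rfl
theorem F176318 : act 0 n42184 = n42184 := d8_1 D42184 (iv D42184) F122932
theorem F176319 : act 2 n42184 = n28959 := d23_1 D42184 (iv D28959) D28958
theorem F176320 : act 3 n42184 = n29463 := d29_1 D42184 (iv D29463) (iv F122933)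
theorem F176321 : act 4 n42184 = n42184 := d34_1 D42184 (iv D42184) F122934
theorem F176322 : act 6 n42184 = n28961 := d41_1 D42184 (iv D28961) (iv F122935)
def n42185 : Q := act 8 n28959
theorem D42185 : act 8 n28959 = n42185 := rfl
theorem F176323 : act 0 n42185 = n42185 := d7_1 D42185 (iv D42185) F122937
theorem F176324 : act 3 n42185 = n29040 := d28_1 D42185 (iv D29040) F86154 (iv F85935) (iv F122938)
theorem F176325 : act 4 n42185 = n42185 := d33_1 D42185 (iv D42185) F122939
theorem F176326 : act 6 n42185 = n28962 := d40_1 D42185 (iv D28962) (iv F122940)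
theorem F176327 : act 9 n42185 = n42185 := d44_2 D28959 D42185 (iv D42185) (iv D28959) F85930
def n42186 : Q := act 0 n28960
theorem D42186 : act 0 n28960 = n42186 := rfl
theorem F176328 : act 1 n42186 = n42186 := d0_2 D28960 D42186 (iv D42186) (iv D28960) F85936
theorem F176329 : act 3 n42186 = n29465 := d2_2 (iv F122941) D42186 (iv D29465)
theorem F176330 : act 4 n42186 = n42186 := d3_2 F122942 D42186 (iv D42186)
theorem F176331 : act 5 n42186 = n30706 := d4_2 (iv F122943) D42186 (iv D30706)
theorem F176332 : act 7 n42186 = n42186 := d6_2 F122944 D42186 (iv D42186)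
theorem F176333 : act 8 n42186 = n42186 := d7_2 F122945 D42186 (iv D42186)
def n42187 : Q := act 9 n28960
theorem D42187 : act 9 n28960 = n42187 := rfl
theorem F176334 : act 1 n42187 = n28961 := d16_1 D42187 (iv D28961) D28960
theorem F176335 : act 3 n42187 = n29466 := d29_1 D42187 (iv D29466) (iv F122941)
theorem F176336 : act 4 n42187 = n42187 := d34_1 D42187 (iv D42187) F122942
theorem F176337 : act 5 n42187 = n30707 := d38_1 D42187 (iv D30707) (iv F122943)
theorem F176338 : act 7 n42187 = n42187 := d43_1 D42187 (iv D42187) F122944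
def n42188 : Q := act 8 n28961
theorem D42188 : act 8 n28961 = n42188 := rfl
theorem F176339 : act 0 n42188 = n42188 := d7_1 D42188 (iv D42188) F122946
theorem F176340 : act 2 n42188 = n28962 := d22_1 D42188 (iv D28962) (iv F122947)
theorem F176341 : act 4 n42188 = n42188 := d33_1 D42188 (iv D42188) F122949
theorem F176342 : act 5 n42188 = n30708 := d37_1 D42188 (iv D30708) (iv F122950)
theorem F176343 : act 7 n42188 = n42188 := d42_1 D42188 (iv D42188) F122951
theorem F176344 : act 9 n42188 = n42188 := d44_2 D28961 D42188 (iv D42188) (iv D28961) F85941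
def n42189 : Q := act 2 n28963
theorem D42189 : act 2 n28963 = n42189 := rfl
def n42190 : Q := act 6 n28963
theorem D42190 : act 6 n28963 = n42190 := rfl
theorem F176351 : act 0 n42190 = n29469 := d5_1 D42190 (iv D29469) (iv F122958)
theorem F176352 : act 1 n42190 = n28973 := d13_1 D42190 (iv D28973) (iv F122959)
theorem F176353 : act 3 n42190 = n28964 := d26_1 D42190 (iv D28964) D28963
theorem F176354 : act 4 n42190 = n42190 := d31_1 D42190 (iv D42190) F122960
def n42191 : Q := act 8 n28963
theorem D42191 : act 8 n28963 = n42191 := rfl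
theorem F176355 : act 0 n42191 = n29470 := d7_1 D42191 (iv D29470) (iv F122958)
theorem F176356 : act 1 n42191 = n28974 := d15_1 D42191 (iv D28974) (iv F122959)
theorem F176357 : act 4 n42191 = n42191 := d33_1 D42191 (iv D42191) F122960
theorem F176358 : act 5 n42191 = n30711 := d37_1 D42191 (iv D30711) (iv F122961)
theorem F176359 : act 7 n42191 = n42191 := d42_1 D42191 (iv D42191) F122962
def n42192 : Q := act 5 n28964
theorem D42192 : act 5 n28964 = n42192 := rfl
theorem F176360 : act 0 n42192 = n29471 := d4_1 D42192 (iv D29471) (iv F122963)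
theorem F176361 : act 1 n42192 = n28975 := d12_1 D42192 (iv D28975) (iv F122964)
theorem F176362 : act 2 n42192 = n42192 := d19_1 D42192 (iv D42192) F122965
theorem F176363 : act 6 n42192 = n30712 := d35_2 D28964 D42192 (iv D30712) (iv D21086) (iv F85956)
def n42193 : Q := act 7 n28964
theorem D42193 : act 7 n28964 = n42193 := rfl
theorem F176364 : act 0 n42193 = n29472 := d6_1 D42193 (iv D29472) (iv F122963)
theorem F176365 : act 1 n42193 = n28976 := d14_1 D42193 (iv D28976) (iv F122964)
theorem F176366 : act 2 n42193 = n42193 := d21_1 D42193 (iv D42193) F122965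
theorem F176367 : act 4 n42193 = n28966 := d32_1 D42193 (iv D28966) (iv F122966)
theorem F176368 : act 6 n42193 = n42193 := d39_1 D42193 (iv D42193) (iv D28964) F85957 D28964
def n42194 : Q := act 8 n28964
theorem D42194 : act 8 n28964 = n42194 := rfl
theorem F176369 : act 0 n42194 = n29473 := d7_1 D42194 (iv D29473) (iv F122963)
theorem F176370 : act 1 n42194 = n28977 := d15_1 D42194 (iv D28977) (iv F122964)
theorem F176371 : act 2 n42194 = n42194 := d22_1 D42194 (iv D42194) F122965
theorem F176372 : act 4 n42194 = n28967 := d33_1 D42194 (iv D28967) (iv F122966)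
theorem F176373 : act 6 n42194 = n28965 := d40_1 D42194 (iv D28965) D28964
def n42195 : Q := act 3 n28965
theorem D42195 : act 3 n28965 = n42195 := rfl
theorem F176374 : act 0 n42195 = n29474 := d2_1 D42195 (iv D29474) (iv F122967)
theorem F176375 : act 1 n42195 = n28978 := d10_1 D42195 (iv D28978) (iv F122968)
theorem F176376 : act 5 n42195 = n30715 := d25_2 (iv F122971) D42195 (iv D30715)
theorem F176377 : act 7 n42195 = n42195 := d27_2 F122972 D42195 (iv D42195)
def n42196 : Q := act 9 n28965
theorem D42196 : act 9 n28965 = n42196 := rfl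
theorem F176378 : act 0 n42196 = n29475 := d8_1 D42196 (iv D29475) (iv F122967)
theorem F176379 : act 1 n42196 = n28979 := d16_1 D42196 (iv D28979) (iv F122968)
theorem F176380 : act 2 n42196 = n42196 := d23_1 D42196 (iv D42196) F122969
theorem F176381 : act 4 n42196 = n28969 := d34_1 D42196 (iv D28969) (iv F122970)
theorem F176382 : act 5 n42196 = n30716 := d38_1 D42196 (iv D30716) (iv F122971)
theorem F176383 : act 7 n42196 = n42196 := d43_1 D42196 (iv D42196) F122972
def n42197 : Q := act 8 n28966
theorem D42197 : act 8 n28966 = n42197 := rfl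
theorem F176384 : act 0 n42197 = n29476 := d7_1 D42197 (iv D29476) (iv F122973)
theorem F176385 : act 1 n42197 = n28980 := d15_1 D42197 (iv D28980) (iv F122974)
theorem F176386 : act 2 n42197 = n42197 := d22_1 D42197 (iv D42197) F122975
theorem F176387 : act 6 n42197 = n42197 := d40_1 D42197 (iv D42197) F122977
theorem F176388 : act 7 n42197 = n28967 := d42_1 D42197 (iv D28967) D28966
def n42198 : Q := act 3 n28967
theorem D42198 : act 3 n28967 = n42198 := rfl
theorem F176389 : act 0 n42198 = n29477 := d2_1 D42198 (iv D29477) (iv F122978)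
theorem F176390 : act 1 n42198 = n28981 := d10_1 D42198 (iv D28981) (iv F122979)
theorem F176391 : act 6 n42198 = n28968 := d26_2 (iv F122981) D42198 (iv D28968)
theorem F176392 : act 8 n42198 = n42198 := d28_2 D28967 D42198 (iv D42198) (iv D28967) F85961
def n42199 : Q := act 9 n28967
theorem D42199 : act 9 n28967 = n42199 := rfl
theorem F176393 : act 0 n42199 = n29478 := d8_1 D42199 (iv D29478) (iv F122978)
theorem F176394 : act 1 n42199 = n28982 := d16_1 D42199 (iv D28982) (iv F122979)
theorem F176395 : act 2 n42199 = n42199 := d23_1 D42199 (iv D42199) F122980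
theorem F176396 : act 6 n42199 = n28969 := d41_1 D42199 (iv D28969) (iv F122981)
def n42200 : Q := act 2 n28968
theorem D42200 : act 2 n28968 = n42200 := rfl
theorem F176397 : act 0 n42200 = n29479 := d1_1 D42200 (iv D29479) (iv F122982)
theorem F176398 : act 3 n42200 = n42200 := d17_2 D28968 D42200 (iv D42200) (iv D28968) F85964
theorem F176399 : act 5 n42200 = n28970 := d19_2 (iv F122984) D42200 (iv D28970)
theorem F176400 : act 7 n42200 = n42200 := d21_2 F122985 D42200 (iv D42200)
theorem F176401 : act 8 n42200 = n42200 := d22_2 F122986 D42200 (iv D42200)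
def n42201 : Q := act 4 n28968
theorem D42201 : act 4 n28968 = n42201 := rfl
theorem F176402 : act 0 n42201 = n29480 := d3_1 D42201 (iv D29480) (iv F122982)
theorem F176403 : act 1 n42201 = n28983 := d11_1 D42201 (iv D28983) (iv F122983)
theorem F176404 : act 7 n42201 = n42201 := d32_2 F122985 D42201 (iv D42201)
theorem F176405 : act 8 n42201 = n42201 := d33_2 F122986 D42201 (iv D42201)
def n42202 : Q := act 9 n28968
theorem D42202 : act 9 n28968 = n42202 := rfl
theorem F176406 : act 0 n42202 = n29481 := d8_1 D42202 (iv D29481) (iv F122982)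
theorem F176407 : act 1 n42202 = n28984 := d16_1 D42202 (iv D28984) (iv F122983)
theorem F176408 : act 3 n42202 = n28969 := d29_1 D42202 (iv D28969) D28968
theorem F176409 : act 5 n42202 = n28972 := d38_1 D42202 (iv D28972) (iv F122984)
theorem F176410 : act 7 n42202 = n42202 := d43_1 D42202 (iv D42202) F122985
def n42203 : Q := act 4 n28970
theorem D42203 : act 4 n28970 = n42203 := rfl
theorem F176412 : act 2 n42203 = n28971 := d18_1 D42203 (iv D28971) D28970
def n42204 : Q := act 9 n28970
theorem D42204 : act 9 n28970 = n42204 := rfl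
theorem F176415 : act 0 n42204 = n29483 := d8_1 D42204 (iv D29483) (iv F122992)
theorem F176416 : act 2 n42204 = n28972 := d23_1 D42204 (iv D28972) D28970
theorem F176417 : act 3 n42204 = n42204 := d29_1 D42204 (iv D42204) F122993
theorem F176418 : act 7 n42204 = n42204 := d43_1 D42204 (iv D42204) F122994
def n42205 : Q := act 5 n28971
theorem D42205 : act 5 n28971 = n42205 := rfl
theorem F176420 : act 1 n42205 = n28985 := d12_1 D42205 (iv D28985) (iv F122997)
theorem F176421 : act 3 n42205 = n30725 := d25_1 D42205 (iv D30725) (iv F122998)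
def n42206 : Q := act 9 n28971
theorem D42206 : act 9 n28971 = n42206 := rfl
theorem F176425 : act 1 n42206 = n28986 := d16_1 D42206 (iv D28986) (iv F122997)
theorem F176427 : act 4 n42206 = n28972 := d34_1 D42206 (iv D28972) D28971
def n42207 : Q := act 8 n28972
theorem D42207 : act 8 n28972 = n42207 := rfl
theorem F176429 : act 0 n42207 = n29486 := d7_1 D42207 (iv D29486) (iv F123001)
theorem F176430 : act 1 n42207 = n28987 := d15_1 D42207 (iv D28987) (iv F123002)
theorem F176431 : act 7 n42207 = n42207 := d42_1 D42207 (iv D42207) F123004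
theorem F176432 : act 9 n42207 = n42207 := d44_2 D28972 D42207 (iv D42207) (iv D28972) F85970
def n42208 : Q := act 5 n28973
theorem D42208 : act 5 n28973 = n42208 := rfl
theorem F176433 : act 0 n42208 = n28996 := d4_1 D42208 (iv D28996) (iv F123005)
theorem F176434 : act 2 n42208 = n42208 := d19_1 D42208 (iv D42208) F123006
theorem F176435 : act 3 n42208 = n28975 := d25_1 D42208 (iv D28975) (iv F123007)
theorem F176436 : act 6 n42208 = n30728 := d35_2 D28973 D42208 (iv D30728) (iv D21095) (iv F85979)
def n42209 : Q := act 7 n28973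
theorem D42209 : act 7 n28973 = n42209 := rfl
theorem F176437 : act 0 n42209 = n28997 := d6_1 D42209 (iv D28997) (iv F123005)
theorem F176438 : act 2 n42209 = n42209 := d21_1 D42209 (iv D42209) F123006
theorem F176439 : act 3 n42209 = n28976 := d27_1 D42209 (iv D28976) (iv F123007)
theorem F176440 : act 4 n42209 = n42209 := d32_1 D42209 (iv D42209) F123008
theorem F176441 : act 6 n42209 = n42209 := d39_1 D42209 (iv D42209) (iv D28973) F85980 D28973
def n42210 : Q := act 8 n28973
theorem D42210 : act 8 n28973 = n42210 := rfl
theorem F176442 : act 0 n42210 = n28998 := d7_1 D42210 (iv D28998) (iv F123005)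
theorem F176443 : act 2 n42210 = n42210 := d22_1 D42210 (iv D42210) F123006
theorem F176444 : act 4 n42210 = n42210 := d33_1 D42210 (iv D42210) F123008
theorem F176445 : act 6 n42210 = n28974 := d40_1 D42210 (iv D28974) D28973
def n42211 : Q := act 3 n28974
theorem D42211 : act 3 n28974 = n42211 := rfl
theorem F176446 : act 0 n42211 = n28999 := d2_1 D42211 (iv D28999) (iv F123009)
theorem F176447 : act 5 n42211 = n30731 := d25_2 (iv F123012) D42211 (iv D30731)
theorem F176448 : act 7 n42211 = n42211 := d27_2 F123013 D42211 (iv D42211)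
theorem F176449 : act 8 n42211 = n28978 := d28_2 D28974 D42211 (iv D28978) (iv D19919) D19917
def n42212 : Q := act 9 n28974
theorem D42212 : act 9 n28974 = n42212 := rfl
theorem F176450 : act 0 n42212 = n29000 := d8_1 D42212 (iv D29000) (iv F123009)
theorem F176451 : act 2 n42212 = n42212 := d23_1 D42212 (iv D42212) F123010
theorem F176452 : act 4 n42212 = n42212 := d34_1 D42212 (iv D42212) F123011
theorem F176453 : act 5 n42212 = n30732 := d38_1 D42212 (iv D30732) (iv F123012)
theorem F176454 : act 7 n42212 = n42212 := d43_1 D42212 (iv D42212) F123013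
def n42213 : Q := act 7 n28975
theorem D42213 : act 7 n28975 = n42213 := rfl
theorem F176455 : act 0 n42213 = n29001 := d6_1 D42213 (iv D29001) (iv F123014)
theorem F176456 : act 2 n42213 = n28988 := d21_1 D42213 (iv D28988) (iv F123015)
theorem F176457 : act 5 n42213 = n28976 := d36_1 D42213 (iv D28976) D28975
def n42214 : Q := act 8 n28975
theorem D42214 : act 8 n28975 = n42214 := rfl
theorem F176458 : act 0 n42214 = n29002 := d7_1 D42214 (iv D29002) (iv F123014)
theorem F176459 : act 2 n42214 = n28989 := d22_1 D42214 (iv D28989) (iv F123015)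
theorem F176460 : act 5 n42214 = n28977 := d37_1 D42214 (iv D28977) D28975
theorem F176461 : act 6 n42214 = n30734 := d40_1 D42214 (iv D30734) (iv F123016)
def n42215 : Q := act 8 n28976
theorem D42215 : act 8 n28976 = n42215 := rfl
theorem F176462 : act 0 n42215 = n29003 := d7_1 D42215 (iv D29003) (iv F123017)
theorem F176463 : act 2 n42215 = n28990 := d22_1 D42215 (iv D28990) (iv F123018)
theorem F176464 : act 4 n42215 = n28980 := d33_1 D42215 (iv D28980) (iv F123019)
theorem F176465 : act 6 n42215 = n42215 := d40_1 D42215 (iv D42215) F123020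
theorem F176466 : act 7 n42215 = n28977 := d42_1 D42215 (iv D28977) D28976
def n42216 : Q := act 3 n28977
theorem D42216 : act 3 n28977 = n42216 := rfl
theorem F176467 : act 0 n42216 = n29004 := d2_1 D42216 (iv D29004) (iv F123021)
theorem F176468 : act 6 n42216 = n28978 := d26_2 (iv F123024) D42216 (iv D28978)
def n42217 : Q := act 9 n28977
theorem D42217 : act 9 n28977 = n42217 := rfl
theorem F176469 : act 0 n42217 = n29005 := d8_1 D42217 (iv D29005) (iv F123021)
theorem F176470 : act 2 n42217 = n28992 := d23_1 D42217 (iv D28992) (iv F123022)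
theorem F176471 : act 4 n42217 = n28982 := d34_1 D42217 (iv D28982) (iv F123023)
theorem F176472 : act 6 n42217 = n28979 := d41_1 D42217 (iv D28979) (iv F123024)
def n42218 : Q := act 2 n28978
theorem D42218 : act 2 n28978 = n42218 := rfl
theorem F176473 : act 0 n42218 = n29006 := d1_1 D42218 (iv D29006) (iv F123025)
theorem F176474 : act 3 n42218 = n28993 := d17_2 D28978 D42218 (iv D28993) (iv D19929) (iv F85985)
theorem F176475 : act 5 n42218 = n30738 := d19_2 (iv F123026) D42218 (iv D30738)
theorem F176476 : act 7 n42218 = n42218 := d21_2 F123027 D42218 (iv D42218)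
def n42219 : Q := act 4 n28978
theorem D42219 : act 4 n28978 = n42219 := rfl
theorem F176477 : act 0 n42219 = n29007 := d3_1 D42219 (iv D29007) (iv F123025)
theorem F176478 : act 3 n42219 = n28983 := d24_1 D42219 (iv D28983) (iv D19922) (iv F85986) D28978
theorem F176479 : act 7 n42219 = n42219 := d32_2 F123027 D42219 (iv D42219)
def n42220 : Q := act 9 n28978
theorem D42220 : act 9 n28978 = n42220 := rfl
theorem F176480 : act 0 n42220 = n29008 := d8_1 D42220 (iv D29008) (iv F123025)
theorem F176481 : act 3 n42220 = n28979 := d29_1 D42220 (iv D28979) D28978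
theorem F176482 : act 5 n42220 = n30740 := d38_1 D42220 (iv D30740) (iv F123026)
theorem F176483 : act 7 n42220 = n42220 := d43_1 D42220 (iv D42220) F123027
def n42221 : Q := act 3 n28980
theorem D42221 : act 3 n28980 = n42221 := rfl
theorem F176486 : act 7 n42221 = n28981 := d27_2 (iv F123036) D42221 (iv D28981)
def n42222 : Q := act 9 n28980
theorem D42222 : act 9 n28980 = n42222 := rfl
theorem F176488 : act 0 n42222 = n29010 := d8_1 D42222 (iv D29010) (iv F123033)
theorem F176489 : act 2 n42222 = n28995 := d23_1 D42222 (iv D28995) (iv F123034)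
theorem F176490 : act 6 n42222 = n42222 := d41_1 D42222 (iv D42222) F123035
theorem F176491 : act 7 n42222 = n28982 := d43_1 D42222 (iv D28982) (iv F123036)
def n42223 : Q := act 4 n28981
theorem D42223 : act 4 n28981 = n42223 := rfl
theorem F176492 : act 0 n42223 = n29011 := d3_1 D42223 (iv D29011) (iv F123037)
theorem F176493 : act 6 n42223 = n28983 := d31_2 (iv F123038) D42223 (iv D28983)
theorem F176494 : act 8 n42223 = n42223 := d33_2 F123039 D42223 (iv D42223)
def n42224 : Q := act 9 n28981
theorem D42224 : act 9 n28981 = n42224 := rfl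
theorem F176495 : act 0 n42224 = n29012 := d8_1 D42224 (iv D29012) (iv F123037)
theorem F176496 : act 3 n42224 = n28982 := d29_1 D42224 (iv D28982) D28981
theorem F176497 : act 6 n42224 = n28984 := d41_1 D42224 (iv D28984) (iv F123038)
def n42225 : Q := act 5 n28983
theorem D42225 : act 5 n28983 = n42225 := rfl
theorem F176498 : act 0 n42225 = n29013 := d4_1 D42225 (iv D29013) (iv F123043)
theorem F176499 : act 4 n42225 = n28985 := d30_1 D42225 (iv D28985) (iv D19924) (iv F85997) D28983
theorem F176500 : act 7 n42225 = n42225 := d36_2 F123044 D42225 (iv D42225)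
theorem F176501 : act 8 n42225 = n42225 := d37_2 F123045 D42225 (iv D42225)
def n42226 : Q := act 9 n28983
theorem D42226 : act 9 n28983 = n42226 := rfl
theorem F176502 : act 0 n42226 = n29014 := d8_1 D42226 (iv D29014) (iv F123043)
theorem F176503 : act 4 n42226 = n28984 := d34_1 D42226 (iv D28984) D28983
theorem F176504 : act 7 n42226 = n42226 := d43_1 D42226 (iv D42226) F123044
def n42227 : Q := act 8 n28984
theorem D42227 : act 8 n28984 = n42227 := rfl
theorem F176505 : act 0 n42227 = n29015 := d7_1 D42227 (iv D29015) (iv F123046)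
theorem F176506 : act 5 n42227 = n28987 := d37_1 D42227 (iv D28987) (iv F123048)
theorem F176507 : act 7 n42227 = n42227 := d42_1 D42227 (iv D42227) F123049
theorem F176508 : act 9 n42227 = n42227 := d44_2 D28984 D42227 (iv D42227) (iv D28984) F85999
def n42228 : Q := act 6 n28985
theorem D42228 : act 6 n28985 = n42228 := rfl
theorem F176509 : act 0 n42228 = n29016 := d5_1 D42228 (iv D29016) (iv F123050)
theorem F176511 : act 8 n42228 = n42228 := d40_2 F123053 D42228 (iv D42228)
def n42229 : Q := act 9 n28985
theorem D42229 : act 9 n28985 = n42229 := rfl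
theorem F176512 : act 0 n42229 = n29017 := d8_1 D42229 (iv D29017) (iv F123050)
theorem F176514 : act 5 n42229 = n28986 := d38_1 D42229 (iv D28986) D28985
theorem F176515 : act 7 n42229 = n42229 := d43_1 D42229 (iv D42229) F123052
def n42230 : Q := act 8 n28986
theorem D42230 : act 8 n28986 = n42230 := rfl
theorem F176516 : act 0 n42230 = n29018 := d7_1 D42230 (iv D29018) (iv F123054)
theorem F176517 : act 4 n42230 = n28987 := d33_1 D42230 (iv D28987) (iv F123056)
theorem F176518 : act 7 n42230 = n42230 := d42_1 D42230 (iv D42230) F123057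
theorem F176519 : act 9 n42230 = n42230 := d44_2 D28986 D42230 (iv D42230) (iv D28986) F86007
def n42231 : Q := act 6 n28988
theorem D42231 : act 6 n28988 = n42231 := rfl
theorem F176520 : act 0 n42231 = n29019 := d5_1 D42231 (iv D29019) (iv F123061)
theorem F176521 : act 1 n42231 = n42231 := d13_1 D42231 (iv D42231) F123062
theorem F176522 : act 3 n42231 = n42231 := d26_1 D42231 (iv D42231) F123063
theorem F176523 : act 5 n42231 = n42231 := d35_1 D42231 (iv D42231) F123064 F86019 (iv F123064)
theorem F176524 : act 7 n42231 = n30751 := d39_2 D28988 D42231 (iv D30751) (iv D21110) (iv F86014)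
def n42232 : Q := act 8 n28988
theorem D42232 : act 8 n28988 = n42232 := rfl
theorem F176525 : act 0 n42232 = n29020 := d7_1 D42232 (iv D29020) (iv F123061)
theorem F176526 : act 1 n42232 = n42232 := d15_1 D42232 (iv D42232) F123062
theorem F176527 : act 5 n42232 = n28990 := d37_1 D42232 (iv D28990) (iv F123064)
theorem F176528 : act 7 n42232 = n28989 := d42_1 D42232 (iv D28989) D28988
def n42233 : Q := act 3 n28989
theorem D42233 : act 3 n28989 = n42233 := rfl
theorem F176529 : act 0 n42233 = n29021 := d2_1 D42233 (iv D29021) (iv F123065)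
theorem F176530 : act 1 n42233 = n42233 := d10_1 D42233 (iv D42233) F123066
theorem F176531 : act 5 n42233 = n28991 := d25_2 (iv F123067) D42233 (iv D28991)
theorem F176532 : act 6 n42233 = n30753 := d26_2 (iv F123068) D42233 (iv D30753)
theorem F176533 : act 8 n42233 = n42233 := d28_2 D28989 D42233 (iv D42233) (iv D28989) F86013
def n42234 : Q := act 9 n28989
theorem D42234 : act 9 n28989 = n42234 := rfl
theorem F176534 : act 0 n42234 = n29022 := d8_1 D42234 (iv D29022) (iv F123065)
theorem F176535 : act 1 n42234 = n42234 := d16_1 D42234 (iv D42234) F123066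
theorem F176536 : act 5 n42234 = n28992 := d38_1 D42234 (iv D28992) (iv F123067)
theorem F176537 : act 6 n42234 = n30754 := d41_1 D42234 (iv D30754) (iv F123068)
def n42235 : Q := act 3 n28990
theorem D42235 : act 3 n28990 = n42235 := rfl
theorem F176541 : act 7 n42235 = n28991 := d27_2 (iv F123073) D42235 (iv D28991)
def n42236 : Q := act 9 n28990
theorem D42236 : act 9 n28990 = n42236 := rfl
theorem F176543 : act 0 n42236 = n29024 := d8_1 D42236 (iv D29024) (iv F123069)
theorem F176544 : act 1 n42236 = n42236 := d16_1 D42236 (iv D42236) F123070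
theorem F176545 : act 4 n42236 = n28995 := d34_1 D42236 (iv D28995) (iv F123071)
theorem F176546 : act 6 n42236 = n42236 := d41_1 D42236 (iv D42236) F123072
theorem F176547 : act 7 n42236 = n28992 := d43_1 D42236 (iv D28992) (iv F123073)
def n42237 : Q := act 2 n28991
theorem D42237 : act 2 n28991 = n42237 := rfl
theorem F176548 : act 0 n42237 = n29025 := d1_1 D42237 (iv D29025) (iv F123074)
theorem F176549 : act 6 n42237 = n28993 := d20_2 (iv F123076) D42237 (iv D28993)
theorem F176550 : act 8 n42237 = n42237 := d22_2 F123077 D42237 (iv D42237)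
def n42238 : Q := act 9 n28991
theorem D42238 : act 9 n28991 = n42238 := rfl
theorem F176551 : act 0 n42238 = n29026 := d8_1 D42238 (iv D29026) (iv F123074)
theorem F176552 : act 1 n42238 = n42238 := d16_1 D42238 (iv D42238) F123075
theorem F176553 : act 3 n42238 = n28992 := d29_1 D42238 (iv D28992) D28991
theorem F176554 : act 6 n42238 = n28994 := d41_1 D42238 (iv D28994) (iv F123076)
def n42239 : Q := act 1 n28993
theorem D42239 : act 1 n28993 = n42239 := rfl
theorem F176556 : act 5 n42239 = n30759 := d12_2 (iv F123083) D42239 (iv D30759)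
def n42240 : Q := act 9 n28993
theorem D42240 : act 9 n28993 = n42240 := rfl
theorem F176559 : act 0 n42240 = n29028 := d8_1 D42240 (iv D29028) (iv F123082)
theorem F176560 : act 2 n42240 = n28994 := d23_1 D42240 (iv D28994) D28993
theorem F176561 : act 5 n42240 = n30760 := d38_1 D42240 (iv D30760) (iv F123083)
theorem F176562 : act 7 n42240 = n42240 := d43_1 D42240 (iv D42240) F123084
def n42241 : Q := act 8 n28994
theorem D42241 : act 8 n28994 = n42241 := rfl
theorem F176563 : act 0 n42241 = n29029 := d7_1 D42241 (iv D29029) (iv F123086)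
theorem F176564 : act 1 n42241 = n42241 := d15_1 D42241 (iv D42241) F123087
theorem F176565 : act 5 n42241 = n30761 := d37_1 D42241 (iv D30761) (iv F123089)
theorem F176566 : act 7 n42241 = n42241 := d42_1 D42241 (iv D42241) F123090
theorem F176567 : act 9 n42241 = n42241 := d44_2 D28994 D42241 (iv D42241) (iv D28994) F86028
def n42242 : Q := act 4 n28996
theorem D42242 : act 4 n28996 = n42242 := rfl
theorem F176568 : act 1 n42242 = n29521 := d11_1 D42242 (iv D29521) (iv F123095)
theorem F176569 : act 2 n42242 = n42242 := d18_1 D42242 (iv D42242) F123096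
theorem F176570 : act 5 n42242 = n42242 := d30_2 D28996 D42242 (iv D42242) (iv D28996) F86044
theorem F176571 : act 6 n42242 = n30762 := d31_2 (iv F123098) D42242 (iv D30762)
def n42243 : Q := act 7 n28996
theorem D42243 : act 7 n28996 = n42243 := rfl
theorem F176572 : act 1 n42243 = n29522 := d14_1 D42243 (iv D29522) (iv F123095)
theorem F176573 : act 2 n42243 = n42243 := d21_1 D42243 (iv D42243) F123096
theorem F176574 : act 3 n42243 = n29001 := d27_1 D42243 (iv D29001) (iv F123097)
theorem F176575 : act 5 n42243 = n28997 := d36_1 D42243 (iv D28997) D28996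
def n42244 : Q := act 8 n28996
theorem D42244 : act 8 n28996 = n42244 := rfl
theorem F176576 : act 1 n42244 = n29523 := d15_1 D42244 (iv D29523) (iv F123095)
theorem F176577 : act 2 n42244 = n42244 := d22_1 D42244 (iv D42244) F123096
theorem F176578 : act 5 n42244 = n28998 := d37_1 D42244 (iv D28998) D28996
theorem F176579 : act 6 n42244 = n30764 := d40_1 D42244 (iv D30764) (iv F123098)
def n42245 : Q := act 8 n28997
theorem D42245 : act 8 n28997 = n42245 := rfl
theorem F176580 : act 1 n42245 = n29524 := d15_1 D42245 (iv D29524) (iv F123099)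
theorem F176581 : act 2 n42245 = n42245 := d22_1 D42245 (iv D42245) F123100
theorem F176582 : act 4 n42245 = n42245 := d33_1 D42245 (iv D42245) F123102
theorem F176583 : act 6 n42245 = n42245 := d40_1 D42245 (iv D42245) F123103
theorem F176584 : act 7 n42245 = n28998 := d42_1 D42245 (iv D28998) D28997
def n42246 : Q := act 3 n28998
theorem D42246 : act 3 n28998 = n42246 := rfl
theorem F176585 : act 1 n42246 = n29525 := d10_1 D42246 (iv D29525) (iv F123104)
theorem F176586 : act 6 n42246 = n28999 := d26_2 (iv F123107) D42246 (iv D28999)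
theorem F176587 : act 8 n42246 = n29004 := d28_2 D28998 D42246 (iv D29004) (iv D19937) (iv F86043)
def n42247 : Q := act 9 n28998
theorem D42247 : act 9 n28998 = n42247 := rfl
theorem F176588 : act 1 n42247 = n29526 := d16_1 D42247 (iv D29526) (iv F123104)
theorem F176589 : act 2 n42247 = n42247 := d23_1 D42247 (iv D42247) F123105
theorem F176590 : act 4 n42247 = n42247 := d34_1 D42247 (iv D42247) F123106
theorem F176591 : act 6 n42247 = n29000 := d41_1 D42247 (iv D29000) (iv F123107)
def n42248 : Q := act 2 n28999
theorem D42248 : act 2 n28999 = n42248 := rfl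
theorem F176592 : act 3 n42248 = n42248 := d17_2 D28999 D42248 (iv D42248) (iv D28999) F86046
theorem F176593 : act 5 n42248 = n30768 := d19_2 (iv F123109) D42248 (iv D30768)
theorem F176594 : act 7 n42248 = n42248 := d21_2 F123110 D42248 (iv D42248)
theorem F176595 : act 8 n42248 = n29006 := d22_2 (iv F123111) D42248 (iv D29006)
def n42249 : Q := act 4 n28999
theorem D42249 : act 4 n28999 = n42249 := rfl
theorem F176596 : act 1 n42249 = n29528 := d11_1 D42249 (iv D29528) (iv F123108)
theorem F176597 : act 3 n42249 = n42249 := d24_1 D42249 (iv D42249) (iv D28999) F86047 D28999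
theorem F176598 : act 7 n42249 = n42249 := d32_2 F123110 D42249 (iv D42249)
theorem F176599 : act 8 n42249 = n29007 := d33_2 (iv F123111) D42249 (iv D29007)
def n42250 : Q := act 9 n28999
theorem D42250 : act 9 n28999 = n42250 := rfl
theorem F176600 : act 1 n42250 = n29529 := d16_1 D42250 (iv D29529) (iv F123108)
theorem F176601 : act 3 n42250 = n29000 := d29_1 D42250 (iv D29000) D28999
theorem F176602 : act 5 n42250 = n30770 := d38_1 D42250 (iv D30770) (iv F123109)
theorem F176603 : act 7 n42250 = n42250 := d43_1 D42250 (iv D42250) F123110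
def n42251 : Q := act 6 n29001
theorem D42251 : act 6 n29001 = n42251 := rfl
theorem F176604 : act 1 n42251 = n29530 := d13_1 D42251 (iv D29530) (iv F123117)
theorem F176605 : act 2 n42251 = n29019 := d20_1 D42251 (iv D29019) (iv F123118)
theorem F176606 : act 5 n42251 = n42251 := d35_1 D42251 (iv D42251) F123119 F86056 (iv F123119)
theorem F176607 : act 7 n42251 = n30771 := d39_2 D29001 D42251 (iv D30771) (iv D21123) (iv F86052)
def n42252 : Q := act 8 n29001
theorem D42252 : act 8 n29001 = n42252 := rfl
theorem F176608 : act 1 n42252 = n29531 := d15_1 D42252 (iv D29531) (iv F123117)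
theorem F176609 : act 2 n42252 = n29020 := d22_1 D42252 (iv D29020) (iv F123118)
theorem F176610 : act 5 n42252 = n29003 := d37_1 D42252 (iv D29003) (iv F123119)
theorem F176611 : act 7 n42252 = n29002 := d42_1 D42252 (iv D29002) D29001
def n42253 : Q := act 3 n29002
theorem D42253 : act 3 n29002 = n42253 := rfl
theorem F176612 : act 1 n42253 = n29532 := d10_1 D42253 (iv D29532) (iv F123120)
theorem F176613 : act 5 n42253 = n29004 := d25_2 (iv F123122) D42253 (iv D29004)
theorem F176614 : act 6 n42253 = n30773 := d26_2 (iv F123123) D42253 (iv D30773)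
def n42254 : Q := act 9 n29002
theorem D42254 : act 9 n29002 = n42254 := rfl
theorem F176615 : act 1 n42254 = n29533 := d16_1 D42254 (iv D29533) (iv F123120)
theorem F176616 : act 2 n42254 = n29022 := d23_1 D42254 (iv D29022) (iv F123121)
theorem F176617 : act 5 n42254 = n29005 := d38_1 D42254 (iv D29005) (iv F123122)
theorem F176618 : act 6 n42254 = n30774 := d41_1 D42254 (iv D30774) (iv F123123)
def n42255 : Q := act 3 n29003
theorem D42255 : act 3 n29003 = n42255 := rfl
theorem F176619 : act 1 n42255 = n29534 := d10_1 D42255 (iv D29534) (iv F123124)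
theorem F176620 : act 6 n42255 = n42255 := d26_2 F123127 D42255 (iv D42255)
theorem F176621 : act 7 n42255 = n29004 := d27_2 (iv F123128) D42255 (iv D29004)
def n42256 : Q := act 9 n29003
theorem D42256 : act 9 n29003 = n42256 := rfl
theorem F176622 : act 1 n42256 = n29535 := d16_1 D42256 (iv D29535) (iv F123124)
theorem F176623 : act 2 n42256 = n29024 := d23_1 D42256 (iv D29024) (iv F123125)
theorem F176624 : act 4 n42256 = n29010 := d34_1 D42256 (iv D29010) (iv F123126)
theorem F176625 : act 6 n42256 = n42256 := d41_1 D42256 (iv D42256) F123127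
theorem F176626 : act 7 n42256 = n29005 := d43_1 D42256 (iv D29005) (iv F123128)
def n42257 : Q := act 2 n29004
theorem D42257 : act 2 n29004 = n42257 := rfl
theorem F176627 : act 3 n42257 = n29025 := d17_2 D29004 D42257 (iv D29025) (iv D19951) (iv F86058)
theorem F176628 : act 6 n42257 = n29006 := d20_2 (iv F123130) D42257 (iv D29006)
def n42258 : Q := act 4 n29004
theorem D42258 : act 4 n29004 = n42258 := rfl
theorem F176629 : act 1 n42258 = n29537 := d11_1 D42258 (iv D29537) (iv F123129)
theorem F176630 : act 3 n42258 = n29011 := d24_1 D42258 (iv D29011) (iv D19941) (iv F86059) D29004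
theorem F176631 : act 6 n42258 = n29007 := d31_2 (iv F123130) D42258 (iv D29007)
def n42259 : Q := act 9 n29004
theorem D42259 : act 9 n29004 = n42259 := rfl
theorem F176632 : act 1 n42259 = n29538 := d16_1 D42259 (iv D29538) (iv F123129)
theorem F176633 : act 3 n42259 = n29005 := d29_1 D42259 (iv D29005) D29004
theorem F176634 : act 6 n42259 = n29008 := d41_1 D42259 (iv D29008) (iv F123130)
def n42260 : Q := act 1 n29006
theorem D42260 : act 1 n29006 = n42260 := rfl
theorem F176635 : act 2 n42260 = n29539 := d9_2 D29006 D42260 (iv D29539) (iv D20294) (iv F86061)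
theorem F176636 : act 3 n42260 = n29027 := d10_2 (iv F123135) D42260 (iv D29027)
theorem F176637 : act 5 n42260 = n30780 := d12_2 (iv F123136) D42260 (iv D30780)
theorem F176638 : act 7 n42260 = n42260 := d14_2 F123137 D42260 (iv D42260)
def n42261 : Q := act 4 n29006
theorem D42261 : act 4 n29006 = n42261 := rfl
theorem F176639 : act 2 n42261 = n29007 := d18_1 D42261 (iv D29007) D29006
theorem F176640 : act 7 n42261 = n42261 := d32_2 F123137 D42261 (iv D42261)
def n42262 : Q := act 9 n29006
theorem D42262 : act 9 n29006 = n42262 := rfl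
theorem F176641 : act 2 n42262 = n29008 := d23_1 D42262 (iv D29008) D29006
theorem F176642 : act 3 n42262 = n29028 := d29_1 D42262 (iv D29028) (iv F123135)
theorem F176643 : act 5 n42262 = n30782 := d38_1 D42262 (iv D30782) (iv F123136)
theorem F176644 : act 7 n42262 = n42262 := d43_1 D42262 (iv D42262) F123137
def n42263 : Q := act 5 n29007
theorem D42263 : act 5 n29007 = n42263 := rfl
theorem F176645 : act 1 n42263 = n29542 := d12_1 D42263 (iv D29542) (iv F123138)
theorem F176646 : act 3 n42263 = n29013 := d25_1 D42263 (iv D29013) (iv F123139)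
theorem F176647 : act 4 n42263 = n30783 := d30_1 D42263 (iv D30783) (iv D21129) (iv F86062) D29007
theorem F176648 : act 7 n42263 = n42263 := d36_2 F123140 D42263 (iv D42263)
def n42264 : Q := act 9 n29007
theorem D42264 : act 9 n29007 = n42264 := rfl
theorem F176649 : act 1 n42264 = n29543 := d16_1 D42264 (iv D29543) (iv F123138)
theorem F176650 : act 3 n42264 = n29014 := d29_1 D42264 (iv D29014) (iv F123139)
theorem F176651 : act 4 n42264 = n29008 := d34_1 D42264 (iv D29008) D29007
theorem F176652 : act 7 n42264 = n42264 := d43_1 D42264 (iv D42264) F123140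
def n42265 : Q := act 8 n29008
theorem D42265 : act 8 n29008 = n42265 := rfl
theorem F176653 : act 1 n42265 = n29544 := d15_1 D42265 (iv D29544) (iv F123141)
theorem F176654 : act 5 n42265 = n30785 := d37_1 D42265 (iv D30785) (iv F123143)
theorem F176655 : act 7 n42265 = n42265 := d42_1 D42265 (iv D42265) F123144
def n42266 : Q := act 4 n29009
theorem D42266 : act 4 n29009 = n42266 := rfl
theorem F176656 : act 1 n42266 = n29545 := d11_1 D42266 (iv D29545) (iv F123145)
theorem F176657 : act 6 n42266 = n42266 := d31_2 F123146 D42266 (iv D42266)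
theorem F176658 : act 7 n42266 = n29011 := d32_2 (iv F123147) D42266 (iv D29011)
theorem F176659 : act 8 n42266 = n42266 := d33_2 F123148 D42266 (iv D42266)
def n42267 : Q := act 9 n29009
theorem D42267 : act 9 n29009 = n42267 := rfl
theorem F176660 : act 1 n42267 = n29546 := d16_1 D42267 (iv D29546) (iv F123145)
theorem F176661 : act 3 n42267 = n29010 := d29_1 D42267 (iv D29010) D29009
theorem F176662 : act 6 n42267 = n42267 := d41_1 D42267 (iv D42267) F123146
theorem F176663 : act 7 n42267 = n29012 := d43_1 D42267 (iv D29012) (iv F123147)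
def n42268 : Q := act 5 n29011
theorem D42268 : act 5 n29011 = n42268 := rfl
theorem F176664 : act 1 n42268 = n29547 := d12_1 D42268 (iv D29547) (iv F123153)
theorem F176665 : act 8 n42268 = n42268 := d37_2 F123155 D42268 (iv D42268)
def n42269 : Q := act 9 n29011
theorem D42269 : act 9 n29011 = n42269 := rfl
theorem F176666 : act 1 n42269 = n29548 := d16_1 D42269 (iv D29548) (iv F123153)
theorem F176667 : act 4 n42269 = n29012 := d34_1 D42269 (iv D29012) D29011
theorem F176668 : act 6 n42269 = n29014 := d41_1 D42269 (iv D29014) (iv F123154)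
def n42270 : Q := act 8 n29012
theorem D42270 : act 8 n29012 = n42270 := rfl
theorem F176669 : act 1 n42270 = n29549 := d15_1 D42270 (iv D29549) (iv F123156)
theorem F176670 : act 6 n42270 = n29015 := d40_1 D42270 (iv D29015) (iv F123158)
theorem F176671 : act 9 n42270 = n42270 := d44_2 D29012 D42270 (iv D42270) (iv D29012) F86075
def n42271 : Q := act 6 n29013
theorem D42271 : act 6 n29013 = n42271 := rfl
theorem F176672 : act 1 n42271 = n29550 := d13_1 D42271 (iv D29550) (iv F123159)
theorem F176673 : act 4 n42271 = n29016 := d31_1 D42271 (iv D29016) (iv F123160)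
theorem F176674 : act 8 n42271 = n42271 := d40_2 F123162 D42271 (iv D42271)
def n42272 : Q := act 9 n29013
theorem D42272 : act 9 n29013 = n42272 := rfl
theorem F176675 : act 1 n42272 = n29551 := d16_1 D42272 (iv D29551) (iv F123159)
theorem F176676 : act 4 n42272 = n29017 := d34_1 D42272 (iv D29017) (iv F123160)
theorem F176677 : act 5 n42272 = n29014 := d38_1 D42272 (iv D29014) D29013
theorem F176678 : act 7 n42272 = n42272 := d43_1 D42272 (iv D42272) F123161
def n42273 : Q := act 8 n29014
theorem D42273 : act 8 n29014 = n42273 := rfl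
theorem F176679 : act 1 n42273 = n29552 := d15_1 D42273 (iv D29552) (iv F123163)
theorem F176680 : act 4 n42273 = n29015 := d33_1 D42273 (iv D29015) (iv F123164)
theorem F176681 : act 7 n42273 = n42273 := d42_1 D42273 (iv D42273) F123165
theorem F176682 : act 9 n42273 = n42273 := d44_2 D29014 D42273 (iv D42273) (iv D29014) F86081
def n42274 : Q := act 7 n29016
theorem D42274 : act 7 n29016 = n42274 := rfl
theorem F176683 : act 1 n42274 = n29553 := d14_1 D42274 (iv D29553) (iv F123170)
theorem F176684 : act 3 n42274 = n30794 := d27_1 D42274 (iv D30794) (iv F123171)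
theorem F176685 : act 6 n42274 = n42274 := d39_1 D42274 (iv D42274) (iv D29016) F86088 D29016
theorem F176686 : act 8 n42274 = n42274 := d42_2 F123172 D42274 (iv D42274)
def n42275 : Q := act 9 n29016
theorem D42275 : act 9 n29016 = n42275 := rfl
theorem F176687 : act 1 n42275 = n29554 := d16_1 D42275 (iv D29554) (iv F123170)
theorem F176688 : act 3 n42275 = n30795 := d29_1 D42275 (iv D30795) (iv F123171)
theorem F176689 : act 6 n42275 = n29017 := d41_1 D42275 (iv D29017) D29016
def n42276 : Q := act 8 n29017
theorem D42276 : act 8 n29017 = n42276 := rfl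
theorem F176690 : act 1 n42276 = n29555 := d15_1 D42276 (iv D29555) (iv F123173)
theorem F176691 : act 5 n42276 = n29018 := d37_1 D42276 (iv D29018) (iv F123175)
theorem F176692 : act 7 n42276 = n42276 := d42_1 D42276 (iv D42276) F123176
theorem F176693 : act 9 n42276 = n42276 := d44_2 D29017 D42276 (iv D42276) (iv D29017) F86089
def n42277 : Q := act 3 n29018
theorem D42277 : act 3 n29018 = n42277 := rfl
theorem F176696 : act 8 n42277 = n30797 := d28_2 D29018 D42277 (iv D30797) (iv D21140) (iv F86091)
def n42278 : Q := act 8 n29019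
theorem D42278 : act 8 n29019 = n42278 := rfl
theorem F176698 : act 1 n42278 = n29030 := d15_1 D42278 (iv D29030) (iv F123181)
theorem F176699 : act 5 n42278 = n42278 := d37_1 D42278 (iv D42278) F123183
theorem F176700 : act 6 n42278 = n29020 := d40_1 D42278 (iv D29020) D29019
theorem F176701 : act 7 n42278 = n30798 := d42_1 D42278 (iv D30798) (iv F123184)
def n42279 : Q := act 3 n29020
theorem D42279 : act 3 n29020 = n42279 := rfl
theorem F176702 : act 1 n42279 = n29031 := d10_1 D42279 (iv D29031) (iv F123185)
theorem F176703 : act 5 n42279 = n29023 := d25_2 (iv F123186) D42279 (iv D29023)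
theorem F176704 : act 7 n42279 = n29021 := d27_2 (iv F123187) D42279 (iv D29021)
theorem F176705 : act 8 n42279 = n42279 := d28_2 D29020 D42279 (iv D42279) (iv D29020) F86098
def n42280 : Q := act 9 n29020
theorem D42280 : act 9 n29020 = n42280 := rfl
theorem F176706 : act 1 n42280 = n29032 := d16_1 D42280 (iv D29032) (iv F123185)
theorem F176707 : act 5 n42280 = n29024 := d38_1 D42280 (iv D29024) (iv F123186)
theorem F176708 : act 7 n42280 = n29022 := d43_1 D42280 (iv D29022) (iv F123187)
def n42281 : Q := act 2 n29021
theorem D42281 : act 2 n29021 = n42281 := rfl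
theorem F176709 : act 5 n42281 = n29025 := d19_2 (iv F123189) D42281 (iv D29025)
theorem F176710 : act 6 n42281 = n30801 := d20_2 (iv F123190) D42281 (iv D30801)
theorem F176711 : act 8 n42281 = n42281 := d22_2 F123191 D42281 (iv D42281)
def n42282 : Q := act 4 n29021
theorem D42282 : act 4 n29021 = n42282 := rfl
theorem F176712 : act 1 n42282 = n29034 := d11_1 D42282 (iv D29034) (iv F123188)
theorem F176713 : act 6 n42282 = n30802 := d31_2 (iv F123190) D42282 (iv D30802)
theorem F176714 : act 8 n42282 = n42282 := d33_2 F123191 D42282 (iv D42282)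
def n42283 : Q := act 9 n29021
theorem D42283 : act 9 n29021 = n42283 := rfl
theorem F176715 : act 1 n42283 = n29035 := d16_1 D42283 (iv D29035) (iv F123188)
theorem F176716 : act 3 n42283 = n29022 := d29_1 D42283 (iv D29022) D29021
theorem F176717 : act 5 n42283 = n29026 := d38_1 D42283 (iv D29026) (iv F123189)
theorem F176718 : act 6 n42283 = n30803 := d41_1 D42283 (iv D30803) (iv F123190)
def n42284 : Q := act 2 n29023
theorem D42284 : act 2 n29023 = n42284 := rfl
theorem F176719 : act 6 n42284 = n42284 := d20_2 F123196 D42284 (iv D42284)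
theorem F176720 : act 7 n42284 = n29025 := d21_2 (iv F123197) D42284 (iv D29025)
theorem F176721 : act 8 n42284 = n42284 := d22_2 F123198 D42284 (iv D42284)
def n42285 : Q := act 9 n29023
theorem D42285 : act 9 n29023 = n42285 := rfl
theorem F176722 : act 1 n42285 = n29037 := d16_1 D42285 (iv D29037) (iv F123195)
theorem F176723 : act 3 n42285 = n29024 := d29_1 D42285 (iv D29024) D29023
theorem F176724 : act 6 n42285 = n42285 := d41_1 D42285 (iv D42285) F123196
theorem F176725 : act 7 n42285 = n29026 := d43_1 D42285 (iv D29026) (iv F123197)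
def n42286 : Q := act 1 n29025
theorem D42286 : act 1 n29025 = n42286 := rfl
theorem F176726 : act 2 n42286 = n29038 := d9_2 D29025 D42286 (iv D29038) (iv D19962) (iv F86107)
theorem F176727 : act 6 n42286 = n29027 := d13_2 (iv F123203) D42286 (iv D29027)
theorem F176728 : act 8 n42286 = n42286 := d15_2 F123204 D42286 (iv D42286)
def n42287 : Q := act 9 n29025
theorem D42287 : act 9 n29025 = n42287 := rfl
theorem F176729 : act 2 n42287 = n29026 := d23_1 D42287 (iv D29026) D29025
theorem F176730 : act 6 n42287 = n29028 := d41_1 D42287 (iv D29028) (iv F123203)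
def n42288 : Q := act 8 n29026
theorem D42288 : act 8 n29026 = n42288 := rfl
theorem F176731 : act 1 n42288 = n29040 := d15_1 D42288 (iv D29040) (iv F123205)
theorem F176732 : act 6 n42288 = n29029 := d40_1 D42288 (iv D29029) (iv F123207)
theorem F176733 : act 9 n42288 = n42288 := d44_2 D29026 D42288 (iv D42288) (iv D29026) F86109
def n42289 : Q := act 0 n29027
theorem D42289 : act 0 n29027 = n42289 := rfl
theorem F176734 : act 2 n42289 = n29041 := d1_2 (iv F123208) D42289 (iv D29041)
theorem F176735 : act 5 n42289 = n30809 := d4_2 (iv F123209) D42289 (iv D30809)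
theorem F176736 : act 7 n42289 = n42289 := d6_2 F123210 D42289 (iv D42289)
theorem F176737 : act 8 n42289 = n42289 := d7_2 F123211 D42289 (iv D42289)
def n42290 : Q := act 9 n29027
theorem D42290 : act 9 n29027 = n42290 := rfl
theorem F176738 : act 1 n42290 = n29028 := d16_1 D42290 (iv D29028) D29027
theorem F176739 : act 2 n42290 = n29042 := d23_1 D42290 (iv D29042) (iv F123208)
theorem F176740 : act 5 n42290 = n30810 := d38_1 D42290 (iv D30810) (iv F123209)
theorem F176741 : act 7 n42290 = n42290 := d43_1 D42290 (iv D42290) F123210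
def n42291 : Q := act 8 n29028
theorem D42291 : act 8 n29028 = n42291 := rfl
theorem F176742 : act 2 n42291 = n29029 := d22_1 D42291 (iv D29029) (iv F123212)
theorem F176743 : act 5 n42291 = n30811 := d37_1 D42291 (iv D30811) (iv F123213)
theorem F176744 : act 7 n42291 = n42291 := d42_1 D42291 (iv D42291) F123214
theorem F176745 : act 9 n42291 = n42291 := d44_2 D29028 D42291 (iv D42291) (iv D29028) F86115
def n42292 : Q := act 3 n29030
theorem D42292 : act 3 n29030 = n42292 := rfl
theorem F176748 : act 6 n42292 = n29031 := d26_2 (iv F123222) D42292 (iv D29031)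
theorem F176749 : act 7 n42292 = n30812 := d27_2 (iv F123223) D42292 (iv D30812)
def n42293 : Q := act 9 n29030
theorem D42293 : act 9 n29030 = n42293 := rfl
theorem F176751 : act 0 n42293 = n42293 := d8_1 D42293 (iv D42293) F123219
theorem F176752 : act 2 n42293 = n29572 := d23_1 D42293 (iv D29572) (iv F123220)
theorem F176753 : act 5 n42293 = n42293 := d38_1 D42293 (iv D42293) F123221
theorem F176754 : act 6 n42293 = n29032 := d41_1 D42293 (iv D29032) (iv F123222)
theorem F176755 : act 7 n42293 = n30813 := d43_1 D42293 (iv D30813) (iv F123223)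
def n42294 : Q := act 2 n29031
theorem D42294 : act 2 n29031 = n42294 := rfl
theorem F176756 : act 0 n42294 = n42294 := d1_1 D42294 (iv D42294) F123224
theorem F176757 : act 3 n42294 = n29573 := d17_2 D29031 D42294 (iv D29573) (iv D20319) (iv F86129)
theorem F176758 : act 5 n42294 = n29036 := d19_2 (iv F123225) D42294 (iv D29036)
theorem F176759 : act 7 n42294 = n29033 := d21_2 (iv F123226) D42294 (iv D29033)
theorem F176760 : act 8 n42294 = n42294 := d22_2 F123227 D42294 (iv D42294)
def n42295 : Q := act 4 n29031
theorem D42295 : act 4 n29031 = n42295 := rfl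
theorem F176762 : act 7 n42295 = n29034 := d32_2 (iv F123226) D42295 (iv D29034)
def n42296 : Q := act 9 n29031
theorem D42296 : act 9 n29031 = n42296 := rfl
theorem F176764 : act 0 n42296 = n42296 := d8_1 D42296 (iv D42296) F123224
theorem F176765 : act 3 n42296 = n29032 := d29_1 D42296 (iv D29032) D29031
theorem F176766 : act 5 n42296 = n29037 := d38_1 D42296 (iv D29037) (iv F123225)
theorem F176767 : act 7 n42296 = n29035 := d43_1 D42296 (iv D29035) (iv F123226)
def n42297 : Q := act 1 n29033
theorem D42297 : act 1 n29033 = n42297 := rfl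
theorem F176768 : act 3 n42297 = n29576 := d10_2 (iv F123233) D42297 (iv D29576)
theorem F176769 : act 5 n42297 = n29038 := d12_2 (iv F123234) D42297 (iv D29038)
theorem F176770 : act 6 n42297 = n30817 := d13_2 (iv F123235) D42297 (iv D30817)
theorem F176771 : act 8 n42297 = n42297 := d15_2 F123236 D42297 (iv D42297)
def n42298 : Q := act 4 n29033
theorem D42298 : act 4 n29033 = n42298 := rfl
theorem F176772 : act 0 n42298 = n42298 := d3_1 D42298 (iv D42298) F123232
theorem F176773 : act 2 n42298 = n29034 := d18_1 D42298 (iv D29034) D29033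
theorem F176774 : act 6 n42298 = n30818 := d31_2 (iv F123235) D42298 (iv D30818)
theorem F176775 : act 8 n42298 = n42298 := d33_2 F123236 D42298 (iv D42298)
def n42299 : Q := act 9 n29033
theorem D42299 : act 9 n29033 = n42299 := rfl
theorem F176776 : act 0 n42299 = n42299 := d8_1 D42299 (iv D42299) F123232
theorem F176777 : act 2 n42299 = n29035 := d23_1 D42299 (iv D29035) D29033
theorem F176778 : act 3 n42299 = n29578 := d29_1 D42299 (iv D29578) (iv F123233)
theorem F176779 : act 5 n42299 = n29039 := d38_1 D42299 (iv D29039) (iv F123234)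
theorem F176780 : act 6 n42299 = n30819 := d41_1 D42299 (iv D30819) (iv F123235)
def n42300 : Q := act 9 n29034
theorem D42300 : act 9 n29034 = n42300 := rfl
theorem F176781 : act 0 n42300 = n42300 := d8_1 D42300 (iv D42300) F123237
theorem F176782 : act 4 n42300 = n29035 := d34_1 D42300 (iv D29035) D29034
theorem F176783 : act 6 n42300 = n30820 := d41_1 D42300 (iv D30820) (iv F123238)
def n42301 : Q := act 8 n29035
theorem D42301 : act 8 n29035 = n42301 := rfl
theorem F176784 : act 0 n42301 = n42301 := d7_1 D42301 (iv D42301) F123240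
theorem F176785 : act 5 n42301 = n29040 := d37_1 D42301 (iv D29040) (iv F123242)
theorem F176786 : act 6 n42301 = n30821 := d40_1 D42301 (iv D30821) (iv F123243)
theorem F176787 : act 9 n42301 = n42301 := d44_2 D29035 D42301 (iv D42301) (iv D29035) F86135
def n42302 : Q := act 1 n29036
theorem D42302 : act 1 n29036 = n42302 := rfl
theorem F176788 : act 3 n42302 = n29581 := d10_2 (iv F123245) D42302 (iv D29581)
theorem F176789 : act 6 n42302 = n42302 := d13_2 F123246 D42302 (iv D42302)
theorem F176790 : act 7 n42302 = n29038 := d14_2 (iv F123247) D42302 (iv D29038)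
theorem F176791 : act 8 n42302 = n42302 := d15_2 F123248 D42302 (iv D42302)
def n42303 : Q := act 9 n29036
theorem D42303 : act 9 n29036 = n42303 := rfl
theorem F176792 : act 0 n42303 = n42303 := d8_1 D42303 (iv D42303) F123244
theorem F176793 : act 2 n42303 = n29037 := d23_1 D42303 (iv D29037) D29036
theorem F176794 : act 3 n42303 = n29582 := d29_1 D42303 (iv D29582) (iv F123245)
theorem F176795 : act 6 n42303 = n42303 := d41_1 D42303 (iv D42303) F123246
theorem F176796 : act 7 n42303 = n29039 := d43_1 D42303 (iv D29039) (iv F123247)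
def n42304 : Q := act 8 n29037
theorem D42304 : act 8 n29037 = n42304 := rfl
theorem F176797 : act 0 n42304 = n42304 := d7_1 D42304 (iv D42304) F123249
theorem F176798 : act 6 n42304 = n42304 := d40_1 D42304 (iv D42304) F123251
theorem F176799 : act 7 n42304 = n29040 := d42_1 D42304 (iv D29040) (iv F123252)
theorem F176800 : act 9 n42304 = n42304 := d44_2 D29037 D42304 (iv D42304) (iv D29037) F86143
def n42305 : Q := act 0 n29038
theorem D42305 : act 0 n29038 = n42305 := rfl
theorem F176801 : act 1 n42305 = n42305 := d0_2 D29038 D42305 (iv D42305) (iv D29038) F86149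
theorem F176802 : act 3 n42305 = n29584 := d2_2 (iv F123253) D42305 (iv D29584)
theorem F176803 : act 6 n42305 = n29041 := d5_2 (iv F123254) D42305 (iv D29041)
theorem F176804 : act 8 n42305 = n42305 := d7_2 F123255 D42305 (iv D42305)
def n42306 : Q := act 9 n29038
theorem D42306 : act 9 n29038 = n42306 := rfl
theorem F176805 : act 1 n42306 = n29039 := d16_1 D42306 (iv D29039) D29038
theorem F176806 : act 3 n42306 = n29585 := d29_1 D42306 (iv D29585) (iv F123253)
theorem F176807 : act 6 n42306 = n29042 := d41_1 D42306 (iv D29042) (iv F123254)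
def n42307 : Q := act 8 n29039
theorem D42307 : act 8 n29039 = n42307 := rfl
theorem F176808 : act 0 n42307 = n42307 := d7_1 D42307 (iv D42307) F123256
theorem F176809 : act 2 n42307 = n29040 := d22_1 D42307 (iv D29040) (iv F123257)
theorem F176810 : act 6 n42307 = n29043 := d40_1 D42307 (iv D29043) (iv F123259)
theorem F176811 : act 9 n42307 = n42307 := d44_2 D29039 D42307 (iv D42307) (iv D29039) F86152
def n42308 : Q := act 9 n29041
theorem D42308 : act 9 n29041 = n42308 := rfl
theorem F176812 : act 0 n42308 = n29042 := d8_1 D42308 (iv D29042) D29041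
theorem F176813 : act 1 n42308 = n42308 := d16_1 D42308 (iv D42308) F123263
theorem F176814 : act 3 n42308 = n29587 := d29_1 D42308 (iv D29587) (iv F123264)
theorem F176815 : act 5 n42308 = n30828 := d38_1 D42308 (iv D30828) (iv F123265)
theorem F176816 : act 7 n42308 = n42308 := d43_1 D42308 (iv D42308) F123266
def n42309 : Q := act 8 n29042
theorem D42309 : act 8 n29042 = n42309 := rfl
theorem F176817 : act 1 n42309 = n29043 := d15_1 D42309 (iv D29043) (iv F123268)
theorem F176818 : act 5 n42309 = n30829 := d37_1 D42309 (iv D30829) (iv F123270)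
theorem F176819 : act 7 n42309 = n42309 := d42_1 D42309 (iv D42309) F123271
theorem F176820 : act 9 n42309 = n42309 := d44_2 D29042 D42309 (iv D42309) (iv D29042) F86159
def n42310 : Q := act 3 n29043
theorem D42310 : act 3 n29043 = n42310 := rfl
theorem F176821 : act 0 n42310 = n42310 := d2_1 D42310 (iv D42310) F123272
theorem F176822 : act 5 n42310 = n30830 := d25_2 (iv F123274) D42310 (iv D30830)
theorem F176823 : act 7 n42310 = n42310 := d27_2 F123275 D42310 (iv D42310)
theorem F176824 : act 8 n42310 = n29589 := d28_2 D29043 D42310 (iv D29589) (iv D20331) (iv F86162)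
theorem F176825 : act 9 n42310 = n42310 := d29_2 F123276 D42310 (iv D42310)
def n42311 : Q := act 5 n29044
theorem D42311 : act 5 n29044 = n42311 := rfl
theorem F176827 : act 1 n42311 = n29045 := d12_1 D42311 (iv D29045) D29044
theorem F176830 : act 7 n42311 = n29160 := d36_2 (iv F123282) D42311 (iv D29160)
def n42312 : Q := act 8 n29044
theorem D42312 : act 8 n29044 = n42312 := rfl
theorem F176832 : act 0 n42312 = n42312 := d7_1 D42312 (iv D42312) F123277
theorem F176833 : act 1 n42312 = n29046 := d15_1 D42312 (iv D29046) D29044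
theorem F176834 : act 2 n42312 = n42312 := d22_1 D42312 (iv D42312) F123278
theorem F176835 : act 4 n42312 = n42312 := d33_1 D42312 (iv D42312) F123280
theorem F176836 : act 6 n42312 = n42312 := d40_1 D42312 (iv D42312) F123281
theorem F176837 : act 7 n42312 = n29161 := d42_1 D42312 (iv D29161) (iv F123282)
def n42313 : Q := act 4 n29045
theorem D42313 : act 4 n29045 = n42313 := rfl
theorem F176841 : act 7 n42313 = n29162 := d32_2 (iv F123287) D42313 (iv D29162)
def n42314 : Q := act 6 n29045
theorem D42314 : act 6 n29045 = n42314 := rfl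
theorem F176844 : act 2 n42314 = n29048 := d20_1 D42314 (iv D29048) (iv F123285)
def n42315 : Q := act 8 n29045
theorem D42315 : act 8 n29045 = n42315 := rfl
theorem F176848 : act 0 n42315 = n29054 := d7_1 D42315 (iv D29054) (iv F123284)
theorem F176849 : act 2 n42315 = n29049 := d22_1 D42315 (iv D29049) (iv F123285)
theorem F176850 : act 5 n42315 = n29046 := d37_1 D42315 (iv D29046) D29045
theorem F176851 : act 7 n42315 = n29164 := d42_1 D42315 (iv D29164) (iv F123287)
def n42316 : Q := act 3 n29046
theorem D42316 : act 3 n29046 = n42316 := rfl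
theorem F176852 : act 0 n42316 = n29055 := d2_1 D42316 (iv D29055) (iv F123289)
theorem F176853 : act 2 n42316 = n29074 := d17_1 D42316 (iv D29074) F86268 (iv F86182) (iv F123290)
theorem F176854 : act 6 n42316 = n42316 := d26_2 F123292 D42316 (iv D42316)
theorem F176855 : act 7 n42316 = n29165 := d27_2 (iv F123293) D42316 (iv D29165)
theorem F176856 : act 8 n42316 = n42316 := d28_2 D29046 D42316 (iv D42316) (iv D29046) F86170
def n42317 : Q := act 9 n29046
theorem D42317 : act 9 n29046 = n42317 := rfl
theorem F176857 : act 0 n42317 = n29056 := d8_1 D42317 (iv D29056) (iv F123289)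
theorem F176858 : act 2 n42317 = n29050 := d23_1 D42317 (iv D29050) (iv F123290)
theorem F176859 : act 4 n42317 = n42317 := d34_1 D42317 (iv D42317) F123291
theorem F176860 : act 6 n42317 = n42317 := d41_1 D42317 (iv D42317) F123292
theorem F176861 : act 7 n42317 = n29166 := d43_1 D42317 (iv D29166) (iv F123293)
theorem F176862 : act 8 n42317 = n42317 := d44_1 D42317 (iv D42317) (iv D29046) F86174 D29046
def n42318 : Q := act 6 n29047
theorem D42318 : act 6 n29047 = n42318 := rfl
theorem F176866 : act 4 n42318 = n29048 := d31_1 D42318 (iv D29048) D29047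
def n42319 : Q := act 8 n29047
theorem D42319 : act 8 n29047 = n42319 := rfl
theorem F176868 : act 0 n42319 = n29058 := d7_1 D42319 (iv D29058) (iv F123294)
theorem F176869 : act 1 n42319 = n42319 := d15_1 D42319 (iv D42319) F123295
theorem F176870 : act 4 n42319 = n29049 := d33_1 D42319 (iv D29049) D29047
theorem F176871 : act 5 n42319 = n42319 := d37_1 D42319 (iv D42319) F123297
theorem F176872 : act 7 n42319 = n29168 := d42_1 D42319 (iv D29168) (iv F123298)
def n42320 : Q := act 7 n29048
theorem D42320 : act 7 n29048 = n42320 := rfl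
theorem F176877 : act 6 n42320 = n29169 := d39_1 D42320 (iv D29169) (iv D20048) (iv F86178) D29048
def n42321 : Q := act 8 n29048
theorem D42321 : act 8 n29048 = n42321 := rfl
theorem F176879 : act 0 n42321 = n29060 := d7_1 D42321 (iv D29060) (iv F123300)
theorem F176880 : act 1 n42321 = n42321 := d15_1 D42321 (iv D42321) F123301
theorem F176881 : act 3 n42321 = n29079 := d28_1 D42321 (iv D29079) F86280 (iv F86191) (iv F123302)
theorem F176882 : act 5 n42321 = n42321 := d37_1 D42321 (iv D42321) F123303
theorem F176883 : act 6 n42321 = n29049 := d40_1 D42321 (iv D29049) D29048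
def n42322 : Q := act 9 n29049
theorem D42322 : act 9 n29049 = n42322 := rfl
theorem F176884 : act 0 n42322 = n29061 := d8_1 D42322 (iv D29061) (iv F123305)
theorem F176885 : act 1 n42322 = n42322 := d16_1 D42322 (iv D42322) F123306
theorem F176886 : act 3 n42322 = n29080 := d29_1 D42322 (iv D29080) (iv F123307)
theorem F176887 : act 5 n42322 = n29050 := d38_1 D42322 (iv D29050) (iv F123308)
theorem F176888 : act 7 n42322 = n29171 := d43_1 D42322 (iv D29171) (iv F123309)
theorem F176889 : act 8 n42322 = n42322 := d44_1 D42322 (iv D42322) (iv D29049) F86179 D29049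
def n42325 : Q := act 8 n29052
theorem D42325 : act 8 n29052 = n42325 := rfl
theorem F176901 : act 2 n42325 = n29058 := d22_1 D42325 (iv D29058) (iv F123326)
theorem F176902 : act 4 n42325 = n29054 := d33_1 D42325 (iv D29054) D29052
theorem F176904 : act 7 n42325 = n29174 := d42_1 D42325 (iv D29174) (iv F123328)
def n42326 : Q := act 7 n29053
theorem D42326 : act 7 n29053 = n42326 := rfl
theorem F176906 : act 2 n42326 = n29059 := d21_1 D42326 (iv D29059) (iv F123331)
theorem F176909 : act 6 n42326 = n29175 := d39_1 D42326 (iv D29175) (iv D20053) (iv F86196) D29053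
def n42327 : Q := act 8 n29053
theorem D42327 : act 8 n29053 = n42327 := rfl
theorem F176912 : act 2 n42327 = n29060 := d22_1 D42327 (iv D29060) (iv F123331)
theorem F176914 : act 6 n42327 = n29054 := d40_1 D42327 (iv D29054) D29053
def n42328 : Q := act 3 n29054
theorem D42328 : act 3 n29054 = n42328 := rfl
theorem F176915 : act 1 n42328 = n42328 := d10_1 D42328 (iv D42328) F123335
theorem F176916 : act 2 n42328 = n29086 := d17_1 D42328 (iv D29086) F86308 (iv F86213) (iv F123336)
theorem F176917 : act 5 n42328 = n29055 := d25_2 (iv F123337) D42328 (iv D29055)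
theorem F176918 : act 7 n42328 = n29177 := d27_2 (iv F123338) D42328 (iv D29177)
theorem F176919 : act 8 n42328 = n42328 := d28_2 D29054 D42328 (iv D42328) (iv D29054) F86195
def n42329 : Q := act 9 n29054
theorem D42329 : act 9 n29054 = n42329 := rfl
theorem F176920 : act 1 n42329 = n42329 := d16_1 D42329 (iv D42329) F123335
theorem F176921 : act 2 n42329 = n29061 := d23_1 D42329 (iv D29061) (iv F123336)
theorem F176922 : act 5 n42329 = n29056 := d38_1 D42329 (iv D29056) (iv F123337)
theorem F176923 : act 7 n42329 = n29178 := d43_1 D42329 (iv D29178) (iv F123338)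
theorem F176924 : act 8 n42329 = n42329 := d44_1 D42329 (iv D42329) (iv D29054) F86197 D29054
def n42330 : Q := act 4 n29055
theorem D42330 : act 4 n29055 = n42330 := rfl
theorem F176925 : act 1 n42330 = n42330 := d11_1 D42330 (iv D42330) F123339
theorem F176926 : act 2 n42330 = n29088 := d18_1 D42330 (iv D29088) (iv F123340)
theorem F176927 : act 3 n42330 = n42330 := d24_1 D42330 (iv D42330) (iv D29055) F86200 D29055
theorem F176928 : act 6 n42330 = n42330 := d31_2 F123341 D42330 (iv D42330)
theorem F176929 : act 7 n42330 = n29179 := d32_2 (iv F123342) D42330 (iv D29179)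
theorem F176930 : act 8 n42330 = n42330 := d33_2 F123343 D42330 (iv D42330)
def n42331 : Q := act 9 n29055
theorem D42331 : act 9 n29055 = n42331 := rfl
theorem F176931 : act 1 n42331 = n42331 := d16_1 D42331 (iv D42331) F123339
theorem F176932 : act 2 n42331 = n29089 := d23_1 D42331 (iv D29089) (iv F123340)
theorem F176933 : act 3 n42331 = n29056 := d29_1 D42331 (iv D29056) D29055
theorem F176934 : act 6 n42331 = n42331 := d41_1 D42331 (iv D42331) F123341
theorem F176935 : act 7 n42331 = n29180 := d43_1 D42331 (iv D29180) (iv F123342)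
def n42333 : Q := act 7 n29057
theorem D42333 : act 7 n29057 = n42333 := rfl
theorem F176944 : act 6 n42333 = n29182 := d39_1 D42333 (iv D29182) (iv D20057) (iv F86206) D29057
def n42334 : Q := act 8 n29057
theorem D42334 : act 8 n29057 = n42334 := rfl
theorem F176946 : act 1 n42334 = n29064 := d15_1 D42334 (iv D29064) (iv F123350)
theorem F176947 : act 4 n42334 = n29060 := d33_1 D42334 (iv D29060) (iv F123352)
theorem F176948 : act 6 n42334 = n29058 := d40_1 D42334 (iv D29058) D29057
def n42335 : Q := act 3 n29058
theorem D42335 : act 3 n29058 = n42335 := rfl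
theorem F176949 : act 1 n42335 = n29065 := d10_1 D42335 (iv D29065) (iv F123354)
theorem F176950 : act 4 n42335 = n29093 := d24_2 (iv F123355) D42335 (iv D29093) F86324 (iv F86213)
theorem F176951 : act 5 n42335 = n42335 := d25_2 F123356 D42335 (iv D42335)
theorem F176952 : act 7 n42335 = n29184 := d27_2 (iv F123357) D42335 (iv D29184)
theorem F176953 : act 8 n42335 = n42335 := d28_2 D29058 D42335 (iv D42335) (iv D29058) F86204
def n42336 : Q := act 9 n29058
theorem D42336 : act 9 n29058 = n42336 := rfl
theorem F176954 : act 1 n42336 = n29066 := d16_1 D42336 (iv D29066) (iv F123354)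
theorem F176955 : act 4 n42336 = n29061 := d34_1 D42336 (iv D29061) (iv F123355)
theorem F176956 : act 5 n42336 = n42336 := d38_1 D42336 (iv D42336) F123356
theorem F176957 : act 7 n42336 = n29185 := d43_1 D42336 (iv D29185) (iv F123357)
theorem F176958 : act 8 n42336 = n42336 := d44_1 D42336 (iv D42336) (iv D29058) F86207 D29058
def n42337 : Q := act 8 n29059
theorem D42337 : act 8 n29059 = n42337 := rfl
theorem F176959 : act 1 n42337 = n29067 := d15_1 D42337 (iv D29067) (iv F123358)
theorem F176960 : act 3 n42337 = n29095 := d28_1 D42337 (iv D29095) F86328 (iv F86227) (iv F123359)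
theorem F176961 : act 5 n42337 = n42337 := d37_1 D42337 (iv D42337) F123360
theorem F176962 : act 6 n42337 = n29186 := d40_1 D42337 (iv D29186) (iv F123361)
theorem F176963 : act 7 n42337 = n29060 := d42_1 D42337 (iv D29060) D29059
def n42338 : Q := act 9 n29060
theorem D42338 : act 9 n29060 = n42338 := rfl
theorem F176964 : act 1 n42338 = n29068 := d16_1 D42338 (iv D29068) (iv F123363)
theorem F176965 : act 3 n42338 = n29096 := d29_1 D42338 (iv D29096) (iv F123364)
theorem F176966 : act 5 n42338 = n42338 := d38_1 D42338 (iv D42338) F123365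
theorem F176967 : act 6 n42338 = n29061 := d41_1 D42338 (iv D29061) (iv F123366)
theorem F176968 : act 8 n42338 = n42338 := d44_1 D42338 (iv D42338) (iv D29060) F86211 D29060
def n42339 : Q := act 7 n29062
theorem D42339 : act 7 n29062 = n42339 := rfl
theorem F176973 : act 5 n42339 = n29063 := d36_1 D42339 (iv D29063) D29062
def n42340 : Q := act 8 n29062
theorem D42340 : act 8 n29062 = n42340 := rfl
theorem F176978 : act 5 n42340 = n29064 := d37_1 D42340 (iv D29064) D29062
def n42341 : Q := act 8 n29063
theorem D42341 : act 8 n29063 = n42341 := rfl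
theorem F176980 : act 0 n42341 = n42341 := d7_1 D42341 (iv D42341) F123378
theorem F176981 : act 2 n42341 = n42341 := d22_1 D42341 (iv D42341) F123379
theorem F176982 : act 4 n42341 = n29067 := d33_1 D42341 (iv D29067) (iv F123381)
theorem F176983 : act 6 n42341 = n29190 := d40_1 D42341 (iv D29190) (iv F123382)
theorem F176984 : act 7 n42341 = n29064 := d42_1 D42341 (iv D29064) D29063
def n42342 : Q := act 3 n29064
theorem D42342 : act 3 n29064 = n42342 := rfl
theorem F176985 : act 0 n42342 = n42342 := d2_1 D42342 (iv D42342) F123384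
theorem F176986 : act 4 n42342 = n29100 := d24_2 (iv F123386) D42342 (iv D29100) F86350 (iv F86247)
theorem F176987 : act 6 n42342 = n29065 := d26_2 (iv F123387) D42342 (iv D29065)
theorem F176988 : act 8 n42342 = n42342 := d28_2 D29064 D42342 (iv D42342) (iv D29064) F86231
def n42343 : Q := act 9 n29064
theorem D42343 : act 9 n29064 = n42343 := rfl
theorem F176989 : act 0 n42343 = n42343 := d8_1 D42343 (iv D42343) F123384
theorem F176990 : act 2 n42343 = n42343 := d23_1 D42343 (iv D42343) F123385
theorem F176991 : act 4 n42343 = n29068 := d34_1 D42343 (iv D29068) (iv F123386)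
theorem F176992 : act 6 n42343 = n29066 := d41_1 D42343 (iv D29066) (iv F123387)
theorem F176993 : act 8 n42343 = n42343 := d44_1 D42343 (iv D42343) (iv D29064) F86233 D29064
def n42344 : Q := act 2 n29065
theorem D42344 : act 2 n29065 = n42344 := rfl
theorem F176994 : act 0 n42344 = n42344 := d1_1 D42344 (iv D42344) F123388
theorem F176995 : act 3 n42344 = n42344 := d17_2 D29065 D42344 (iv D42344) (iv D29065) F86235
theorem F176996 : act 4 n42344 = n29102 := d18_2 (iv F123389) D42344 (iv D29102)
theorem F176997 : act 5 n42344 = n42344 := d19_2 F123390 D42344 (iv D42344)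
theorem F176998 : act 7 n42344 = n29193 := d21_2 (iv F123391) D42344 (iv D29193)
theorem F176999 : act 8 n42344 = n42344 := d22_2 F123392 D42344 (iv D42344)
def n42345 : Q := act 9 n29065
theorem D42345 : act 9 n29065 = n42345 := rfl
theorem F177000 : act 0 n42345 = n42345 := d8_1 D42345 (iv D42345) F123388
theorem F177001 : act 3 n42345 = n29066 := d29_1 D42345 (iv D29066) D29065
theorem F177002 : act 4 n42345 = n29103 := d34_1 D42345 (iv D29103) (iv F123389)
theorem F177003 : act 5 n42345 = n42345 := d38_1 D42345 (iv D42345) F123390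
theorem F177004 : act 7 n42345 = n29194 := d43_1 D42345 (iv D29194) (iv F123391)
def n42346 : Q := act 9 n29067
theorem D42346 : act 9 n29067 = n42346 := rfl
theorem F177005 : act 0 n42346 = n42346 := d8_1 D42346 (iv D42346) F123399
theorem F177006 : act 2 n42346 = n42346 := d23_1 D42346 (iv D42346) F123400
theorem F177007 : act 3 n42346 = n29104 := d29_1 D42346 (iv D29104) (iv F123401)
theorem F177008 : act 5 n42346 = n42346 := d38_1 D42346 (iv D42346) F123402
theorem F177009 : act 6 n42346 = n29195 := d41_1 D42346 (iv D29195) (iv F123403)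
theorem F177010 : act 7 n42346 = n29068 := d43_1 D42346 (iv D29068) (iv F123404)
theorem F177011 : act 8 n42346 = n42346 := d44_1 D42346 (iv D42346) (iv D29067) F86244 D29067
def n42347 : Q := act 4 n29069
theorem D42347 : act 4 n29069 = n42347 := rfl
theorem F177012 : act 1 n42347 = n29071 := d11_1 D42347 (iv D29071) (iv F123411)
theorem F177013 : act 2 n42347 = n42347 := d18_1 D42347 (iv D42347) F123412
theorem F177014 : act 5 n42347 = n30831 := d30_2 D29069 D42347 (iv D30831) (iv D21166) (iv F86258)
theorem F177015 : act 7 n42347 = n29196 := d32_2 (iv F123414) D42347 (iv D29196)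
theorem F177016 : act 9 n42347 = n29105 := d34_2 (iv F123415) D42347 (iv D29105)
def n42348 : Q := act 6 n29069
theorem D42348 : act 6 n29069 = n42348 := rfl
theorem F177017 : act 1 n42348 = n29072 := d13_1 D42348 (iv D29072) (iv F123411)
theorem F177018 : act 2 n42348 = n42348 := d20_1 D42348 (iv D42348) F123412
theorem F177019 : act 3 n42348 = n42348 := d26_1 D42348 (iv D42348) F123413
theorem F177020 : act 5 n42348 = n42348 := d35_1 D42348 (iv D42348) (iv D29069) F86259 D29069
theorem F177021 : act 9 n42348 = n29106 := d41_2 (iv F123415) D42348 (iv D29106)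
def n42349 : Q := act 8 n29069
theorem D42349 : act 8 n29069 = n42349 := rfl
theorem F177022 : act 1 n42349 = n29073 := d15_1 D42349 (iv D29073) (iv F123411)
theorem F177023 : act 2 n42349 = n42349 := d22_1 D42349 (iv D42349) F123412
theorem F177024 : act 5 n42349 = n29070 := d37_1 D42349 (iv D29070) D29069
theorem F177025 : act 7 n42349 = n29198 := d42_1 D42349 (iv D29198) (iv F123414)
def n42350 : Q := act 3 n29070
theorem D42350 : act 3 n29070 = n42350 := rfl
theorem F177026 : act 1 n42350 = n29074 := d10_1 D42350 (iv D29074) (iv F123416)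
def n42351 : Q := act 9 n29070
theorem D42351 : act 9 n29070 = n42351 := rfl
theorem F177030 : act 1 n42351 = n29075 := d16_1 D42351 (iv D29075) (iv F123416)
theorem F177031 : act 2 n42351 = n42351 := d23_1 D42351 (iv D42351) F123417
theorem F177033 : act 6 n42351 = n42351 := d41_1 D42351 (iv D42351) F123419
theorem F177034 : act 7 n42351 = n29200 := d43_1 D42351 (iv D29200) (iv F123420)
theorem F177035 : act 8 n42351 = n29109 := d44_1 D42351 (iv D29109) (iv D20009) (iv F86261) D29070
def n42352 : Q := act 3 n29071
theorem D42352 : act 3 n29071 = n42352 := rfl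
theorem F177036 : act 0 n42352 = n29081 := d2_1 D42352 (iv D29081) (iv F123421)
theorem F177037 : act 2 n42352 = n42352 := d17_1 D42352 (iv D42352) F123422 F86274 (iv F123422)
theorem F177038 : act 4 n42352 = n42352 := d24_2 D29071 D42352 (iv D42352) (iv D29071) F86264
theorem F177039 : act 5 n42352 = n30836 := d25_2 (iv F123423) D42352 (iv D30836)
theorem F177040 : act 7 n42352 = n29201 := d27_2 (iv F123424) D42352 (iv D29201)
theorem F177041 : act 9 n42352 = n29110 := d29_2 (iv F123425) D42352 (iv D29110)
def n42353 : Q := act 6 n29071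
theorem D42353 : act 6 n29071 = n42353 := rfl
theorem F177042 : act 0 n42353 = n29082 := d5_1 D42353 (iv D29082) (iv F123421)
theorem F177043 : act 2 n42353 = n29076 := d20_1 D42353 (iv D29076) (iv F123422)
theorem F177044 : act 4 n42353 = n29072 := d31_1 D42353 (iv D29072) D29071
theorem F177045 : act 9 n42353 = n29111 := d41_2 (iv F123425) D42353 (iv D29111)
def n42354 : Q := act 8 n29071
theorem D42354 : act 8 n29071 = n42354 := rfl
theorem F177046 : act 0 n42354 = n29083 := d7_1 D42354 (iv D29083) (iv F123421)
theorem F177047 : act 2 n42354 = n29077 := d22_1 D42354 (iv D29077) (iv F123422)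
theorem F177048 : act 4 n42354 = n29073 := d33_1 D42354 (iv D29073) D29071
theorem F177049 : act 5 n42354 = n30838 := d37_1 D42354 (iv D30838) (iv F123423)
theorem F177050 : act 7 n42354 = n29203 := d42_1 D42354 (iv D29203) (iv F123424)
def n42355 : Q := act 7 n29072
theorem D42355 : act 7 n29072 = n42355 := rfl
theorem F177051 : act 0 n42355 = n29084 := d6_1 D42355 (iv D29084) (iv F123426)
theorem F177052 : act 2 n42355 = n29078 := d21_1 D42355 (iv D29078) (iv F123427)
theorem F177053 : act 3 n42355 = n42355 := d27_1 D42355 (iv D42355) F123428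
theorem F177054 : act 5 n42355 = n42355 := d36_1 D42355 (iv D42355) F123429
theorem F177055 : act 6 n42355 = n29204 := d39_1 D42355 (iv D29204) (iv D20072) (iv F86265) D29072
theorem F177056 : act 9 n42355 = n29113 := d43_2 (iv F123430) D42355 (iv D29113)
def n42356 : Q := act 8 n29072
theorem D42356 : act 8 n29072 = n42356 := rfl
theorem F177057 : act 0 n42356 = n29085 := d7_1 D42356 (iv D29085) (iv F123426)
theorem F177058 : act 2 n42356 = n29079 := d22_1 D42356 (iv D29079) (iv F123427)
theorem F177059 : act 5 n42356 = n42356 := d37_1 D42356 (iv D42356) F123429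
theorem F177060 : act 6 n42356 = n29073 := d40_1 D42356 (iv D29073) D29072
def n42357 : Q := act 3 n29073
theorem D42357 : act 3 n29073 = n42357 := rfl
theorem F177061 : act 0 n42357 = n29086 := d2_1 D42357 (iv D29086) (iv F123431)
theorem F177062 : act 5 n42357 = n29074 := d25_2 (iv F123433) D42357 (iv D29074)
theorem F177063 : act 7 n42357 = n29206 := d27_2 (iv F123434) D42357 (iv D29206)
theorem F177064 : act 8 n42357 = n42357 := d28_2 D29073 D42357 (iv D42357) (iv D29073) F86264
def n42358 : Q := act 9 n29073
theorem D42358 : act 9 n29073 = n42358 := rfl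
theorem F177065 : act 0 n42358 = n29087 := d8_1 D42358 (iv D29087) (iv F123431)
theorem F177066 : act 2 n42358 = n29080 := d23_1 D42358 (iv D29080) (iv F123432)
theorem F177067 : act 5 n42358 = n29075 := d38_1 D42358 (iv D29075) (iv F123433)
theorem F177068 : act 7 n42358 = n29207 := d43_1 D42358 (iv D29207) (iv F123434)
theorem F177069 : act 8 n42358 = n29116 := d44_1 D42358 (iv D29116) (iv D20012) (iv F86266) D29073
def n42359 : Q := act 4 n29074
theorem D42359 : act 4 n29074 = n42359 := rfl
theorem F177071 : act 3 n42359 = n30843 := d24_1 D42359 (iv D30843) (iv D21171) (iv F86269) D29074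
def n42360 : Q := act 9 n29074
theorem D42360 : act 9 n29074 = n42360 := rfl
theorem F177075 : act 0 n42360 = n29089 := d8_1 D42360 (iv D29089) (iv F123435)
theorem F177076 : act 3 n42360 = n29075 := d29_1 D42360 (iv D29075) D29074
theorem F177077 : act 6 n42360 = n42360 := d41_1 D42360 (iv D42360) F123436
theorem F177078 : act 7 n42360 = n29209 := d43_1 D42360 (iv D29209) (iv F123437)
def n42361 : Q := act 5 n29076
theorem D42361 : act 5 n29076 = n42361 := rfl
theorem F177079 : act 0 n42361 = n29090 := d4_1 D42361 (iv D29090) (iv F123445)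
theorem F177080 : act 1 n42361 = n42361 := d12_1 D42361 (iv D42361) F123446
theorem F177081 : act 3 n42361 = n42361 := d25_1 D42361 (iv D42361) F123447
theorem F177082 : act 4 n42361 = n42361 := d30_1 D42361 (iv D42361) F123448 F86281 (iv F123448)
theorem F177083 : act 6 n42361 = n30845 := d35_2 D29076 D42361 (iv D30845) (iv D21173) (iv F86275)
theorem F177084 : act 9 n42361 = n29119 := d38_2 (iv F123449) D42361 (iv D29119)
def n42362 : Q := act 7 n29076
theorem D42362 : act 7 n29076 = n42362 := rfl
theorem F177085 : act 0 n42362 = n29091 := d6_1 D42362 (iv D29091) (iv F123445)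
theorem F177086 : act 1 n42362 = n42362 := d14_1 D42362 (iv D42362) F123446
theorem F177087 : act 3 n42362 = n42362 := d27_1 D42362 (iv D42362) F123447
theorem F177088 : act 4 n42362 = n29078 := d32_1 D42362 (iv D29078) (iv F123448)
theorem F177089 : act 6 n42362 = n29211 := d39_1 D42362 (iv D29211) (iv D20076) (iv F86276) D29076
theorem F177090 : act 9 n42362 = n29120 := d43_2 (iv F123449) D42362 (iv D29120)
def n42363 : Q := act 8 n29076
theorem D42363 : act 8 n29076 = n42363 := rfl
theorem F177091 : act 0 n42363 = n29092 := d7_1 D42363 (iv D29092) (iv F123445)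
theorem F177092 : act 1 n42363 = n42363 := d15_1 D42363 (iv D42363) F123446
theorem F177093 : act 4 n42363 = n29079 := d33_1 D42363 (iv D29079) (iv F123448)
theorem F177094 : act 6 n42363 = n29077 := d40_1 D42363 (iv D29077) D29076
def n42364 : Q := act 3 n29077
theorem D42364 : act 3 n29077 = n42364 := rfl
theorem F177095 : act 0 n42364 = n29093 := d2_1 D42364 (iv D29093) (iv F123450)
theorem F177096 : act 1 n42364 = n42364 := d10_1 D42364 (iv D42364) F123451
theorem F177097 : act 5 n42364 = n30848 := d25_2 (iv F123453) D42364 (iv D30848)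
theorem F177098 : act 7 n42364 = n29213 := d27_2 (iv F123454) D42364 (iv D29213)
theorem F177099 : act 8 n42364 = n42364 := d28_2 D29077 D42364 (iv D42364) (iv D29077) F86274
def n42365 : Q := act 9 n29077
theorem D42365 : act 9 n29077 = n42365 := rfl
theorem F177100 : act 0 n42365 = n29094 := d8_1 D42365 (iv D29094) (iv F123450)
theorem F177101 : act 1 n42365 = n42365 := d16_1 D42365 (iv D42365) F123451
theorem F177102 : act 4 n42365 = n29080 := d34_1 D42365 (iv D29080) (iv F123452)
theorem F177103 : act 5 n42365 = n30849 := d38_1 D42365 (iv D30849) (iv F123453)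
theorem F177104 : act 7 n42365 = n29214 := d43_1 D42365 (iv D29214) (iv F123454)
theorem F177105 : act 8 n42365 = n29123 := d44_1 D42365 (iv D29123) (iv D20016) (iv F86277) D29077
def n42366 : Q := act 8 n29078
theorem D42366 : act 8 n29078 = n42366 := rfl
theorem F177106 : act 0 n42366 = n29095 := d7_1 D42366 (iv D29095) (iv F123455)
theorem F177107 : act 1 n42366 = n42366 := d15_1 D42366 (iv D42366) F123456
theorem F177108 : act 5 n42366 = n42366 := d37_1 D42366 (iv D42366) F123458
theorem F177109 : act 6 n42366 = n29215 := d40_1 D42366 (iv D29215) (iv F123459)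
theorem F177110 : act 7 n42366 = n29079 := d42_1 D42366 (iv D29079) D29078
def n42367 : Q := act 9 n29079
theorem D42367 : act 9 n29079 = n42367 := rfl
theorem F177111 : act 0 n42367 = n29096 := d8_1 D42367 (iv D29096) (iv F123461)
theorem F177112 : act 1 n42367 = n42367 := d16_1 D42367 (iv D42367) F123462
theorem F177113 : act 5 n42367 = n42367 := d38_1 D42367 (iv D42367) F123463
theorem F177114 : act 6 n42367 = n29080 := d41_1 D42367 (iv D29080) (iv F123464)
theorem F177115 : act 8 n42367 = n29125 := d44_1 D42367 (iv D29125) (iv D20018) (iv F86282) D29079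
def n42368 : Q := act 6 n29081
theorem D42368 : act 6 n29081 = n42368 := rfl
theorem F177116 : act 2 n42368 = n42368 := d20_1 D42368 (iv D42368) F123470
theorem F177117 : act 3 n42368 = n29082 := d26_1 D42368 (iv D29082) D29081
theorem F177118 : act 4 n42368 = n42368 := d31_1 D42368 (iv D42368) F123471
theorem F177119 : act 9 n42368 = n29126 := d41_2 (iv F123474) D42368 (iv D29126)
def n42369 : Q := act 8 n29081
theorem D42369 : act 8 n29081 = n42369 := rfl
theorem F177120 : act 2 n42369 = n42369 := d22_1 D42369 (iv D42369) F123470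
theorem F177121 : act 4 n42369 = n42369 := d33_1 D42369 (iv D42369) F123471
theorem F177122 : act 5 n42369 = n30853 := d37_1 D42369 (iv D30853) (iv F123472)
theorem F177123 : act 7 n42369 = n29218 := d42_1 D42369 (iv D29218) (iv F123473)
def n42370 : Q := act 5 n29082
theorem D42370 : act 5 n29082 = n42370 := rfl
theorem F177124 : act 2 n42370 = n29090 := d19_1 D42370 (iv D29090) (iv F123475)
theorem F177125 : act 4 n42370 = n42370 := d30_1 D42370 (iv D42370) F123476 F86306 (iv F123476)
theorem F177126 : act 6 n42370 = n30854 := d35_2 D29082 D42370 (iv D30854) (iv D21179) (iv F86301)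
theorem F177127 : act 9 n42370 = n29128 := d38_2 (iv F123477) D42370 (iv D29128)
def n42371 : Q := act 7 n29082
theorem D42371 : act 7 n29082 = n42371 := rfl
theorem F177128 : act 2 n42371 = n29091 := d21_1 D42371 (iv D29091) (iv F123475)
theorem F177129 : act 4 n42371 = n29084 := d32_1 D42371 (iv D29084) (iv F123476)
theorem F177130 : act 6 n42371 = n29220 := d39_1 D42371 (iv D29220) (iv D20082) (iv F86302) D29082
theorem F177131 : act 9 n42371 = n29129 := d43_2 (iv F123477) D42371 (iv D29129)
def n42372 : Q := act 8 n29082
theorem D42372 : act 8 n29082 = n42372 := rfl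
theorem F177132 : act 2 n42372 = n29092 := d22_1 D42372 (iv D29092) (iv F123475)
theorem F177133 : act 4 n42372 = n29085 := d33_1 D42372 (iv D29085) (iv F123476)
theorem F177134 : act 6 n42372 = n29083 := d40_1 D42372 (iv D29083) D29082
def n42373 : Q := act 3 n29083
theorem D42373 : act 3 n29083 = n42373 := rfl
theorem F177135 : act 5 n42373 = n30857 := d25_2 (iv F123480) D42373 (iv D30857)
theorem F177136 : act 7 n42373 = n29222 := d27_2 (iv F123481) D42373 (iv D29222)
def n42374 : Q := act 9 n29083
theorem D42374 : act 9 n29083 = n42374 := rfl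
theorem F177137 : act 2 n42374 = n29094 := d23_1 D42374 (iv D29094) (iv F123478)
theorem F177138 : act 4 n42374 = n29087 := d34_1 D42374 (iv D29087) (iv F123479)
theorem F177139 : act 5 n42374 = n30858 := d38_1 D42374 (iv D30858) (iv F123480)
theorem F177140 : act 7 n42374 = n29223 := d43_1 D42374 (iv D29223) (iv F123481)
theorem F177141 : act 8 n42374 = n29132 := d44_1 D42374 (iv D29132) (iv D20022) (iv F86303) D29083
def n42375 : Q := act 8 n29084
theorem D42375 : act 8 n29084 = n42375 := rfl
theorem F177142 : act 2 n42375 = n29095 := d22_1 D42375 (iv D29095) (iv F123482)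
theorem F177143 : act 5 n42375 = n42375 := d37_1 D42375 (iv D42375) F123484
theorem F177144 : act 6 n42375 = n29224 := d40_1 D42375 (iv D29224) (iv F123485)
theorem F177145 : act 7 n42375 = n29085 := d42_1 D42375 (iv D29085) D29084
def n42376 : Q := act 3 n29085
theorem D42376 : act 3 n29085 = n42376 := rfl
theorem F177146 : act 5 n42376 = n42376 := d25_2 F123488 D42376 (iv D42376)
theorem F177147 : act 6 n42376 = n29086 := d26_2 (iv F123489) D42376 (iv D29086)
theorem F177148 : act 8 n42376 = n42376 := d28_2 D29085 D42376 (iv D42376) (iv D29085) F86305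
def n42377 : Q := act 9 n29085
theorem D42377 : act 9 n29085 = n42377 := rfl
theorem F177149 : act 2 n42377 = n29096 := d23_1 D42377 (iv D29096) (iv F123487)
theorem F177150 : act 5 n42377 = n42377 := d38_1 D42377 (iv D42377) F123488
theorem F177151 : act 6 n42377 = n29087 := d41_1 D42377 (iv D29087) (iv F123489)
theorem F177152 : act 8 n42377 = n29135 := d44_1 D42377 (iv D29135) (iv D20024) (iv F86307) D29085
def n42378 : Q := act 4 n29086
theorem D42378 : act 4 n29086 = n42378 := rfl
theorem F177153 : act 7 n42378 = n29227 := d32_2 (iv F123491) D42378 (iv D29227)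
theorem F177154 : act 8 n42378 = n42378 := d33_2 F123492 D42378 (iv D42378)
def n42379 : Q := act 9 n29086
theorem D42379 : act 9 n29086 = n42379 := rfl
theorem F177155 : act 3 n42379 = n29087 := d29_1 D42379 (iv D29087) D29086
theorem F177156 : act 5 n42379 = n29089 := d38_1 D42379 (iv D29089) (iv F123490)
theorem F177157 : act 7 n42379 = n29228 := d43_1 D42379 (iv D29228) (iv F123491)
def n42380 : Q := act 5 n29088
theorem D42380 : act 5 n29088 = n42380 := rfl
theorem F177158 : act 3 n42380 = n30864 := d25_1 D42380 (iv D30864) (iv F123497)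
theorem F177159 : act 7 n42380 = n29229 := d36_2 (iv F123499) D42380 (iv D29229)
theorem F177160 : act 8 n42380 = n42380 := d37_2 F123500 D42380 (iv D42380)
def n42381 : Q := act 9 n29088
theorem D42381 : act 9 n29088 = n42381 := rfl
theorem F177162 : act 4 n42381 = n29089 := d34_1 D42381 (iv D29089) D29088
theorem F177163 : act 6 n42381 = n42381 := d41_1 D42381 (iv D42381) F123498
theorem F177164 : act 7 n42381 = n29230 := d43_1 D42381 (iv D29230) (iv F123499)
def n42382 : Q := act 8 n29089
theorem D42382 : act 8 n29089 = n42382 := rfl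
theorem F177165 : act 3 n42382 = n29140 := d28_1 D42382 (iv D29140) F86454 (iv F86318) (iv F123501)
theorem F177166 : act 6 n42382 = n42382 := d40_1 D42382 (iv D42382) F123502
theorem F177167 : act 7 n42382 = n29231 := d42_1 D42382 (iv D29231) (iv F123503)
theorem F177168 : act 9 n42382 = n42382 := d44_2 D29089 D42382 (iv D42382) (iv D29089) F86313
def n42383 : Q := act 7 n29090
theorem D42383 : act 7 n29090 = n42383 := rfl
theorem F177169 : act 1 n42383 = n29097 := d14_1 D42383 (iv D29097) (iv F123504)
theorem F177170 : act 3 n42383 = n42383 := d27_1 D42383 (iv D42383) F123505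
theorem F177171 : act 4 n42383 = n42383 := d32_1 D42383 (iv D42383) F123506
theorem F177172 : act 5 n42383 = n29091 := d36_1 D42383 (iv D29091) D29090
theorem F177173 : act 9 n42383 = n29141 := d43_2 (iv F123508) D42383 (iv D29141)
def n42384 : Q := act 8 n29090
theorem D42384 : act 8 n29090 = n42384 := rfl
theorem F177174 : act 1 n42384 = n29098 := d15_1 D42384 (iv D29098) (iv F123504)
theorem F177175 : act 4 n42384 = n42384 := d33_1 D42384 (iv D42384) F123506
theorem F177176 : act 5 n42384 = n29092 := d37_1 D42384 (iv D29092) D29090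
theorem F177177 : act 6 n42384 = n30868 := d40_1 D42384 (iv D30868) (iv F123507)
def n42385 : Q := act 8 n29091
theorem D42385 : act 8 n29091 = n42385 := rfl
theorem F177178 : act 1 n42385 = n29099 := d15_1 D42385 (iv D29099) (iv F123509)
theorem F177179 : act 4 n42385 = n29095 := d33_1 D42385 (iv D29095) (iv F123511)
theorem F177180 : act 6 n42385 = n29234 := d40_1 D42385 (iv D29234) (iv F123512)
theorem F177181 : act 7 n42385 = n29092 := d42_1 D42385 (iv D29092) D29091
def n42386 : Q := act 3 n29092
theorem D42386 : act 3 n29092 = n42386 := rfl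
theorem F177182 : act 1 n42386 = n29100 := d10_1 D42386 (iv D29100) (iv F123514)
theorem F177183 : act 6 n42386 = n29093 := d26_2 (iv F123516) D42386 (iv D29093)
theorem F177184 : act 8 n42386 = n42386 := d28_2 D29092 D42386 (iv D42386) (iv D29092) F86320
def n42387 : Q := act 9 n29092
theorem D42387 : act 9 n29092 = n42387 := rfl
theorem F177185 : act 1 n42387 = n29101 := d16_1 D42387 (iv D29101) (iv F123514)
theorem F177186 : act 4 n42387 = n29096 := d34_1 D42387 (iv D29096) (iv F123515)
theorem F177187 : act 6 n42387 = n29094 := d41_1 D42387 (iv D29094) (iv F123516)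
theorem F177188 : act 8 n42387 = n29145 := d44_1 D42387 (iv D29145) (iv D20031) (iv F86322) D29092
def n42388 : Q := act 2 n29093
theorem D42388 : act 2 n29093 = n42388 := rfl
theorem F177189 : act 5 n42388 = n30872 := d19_2 (iv F123518) D42388 (iv D30872)
theorem F177190 : act 7 n42388 = n29237 := d21_2 (iv F123519) D42388 (iv D29237)
theorem F177191 : act 8 n42388 = n42388 := d22_2 F123520 D42388 (iv D42388)
def n42389 : Q := act 9 n29093
theorem D42389 : act 9 n29093 = n42389 := rfl
theorem F177192 : act 1 n42389 = n29103 := d16_1 D42389 (iv D29103) (iv F123517)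
theorem F177193 : act 3 n42389 = n29094 := d29_1 D42389 (iv D29094) D29093
theorem F177194 : act 5 n42389 = n30873 := d38_1 D42389 (iv D30873) (iv F123518)
theorem F177195 : act 7 n42389 = n29238 := d43_1 D42389 (iv D29238) (iv F123519)
def n42390 : Q := act 9 n29095
theorem D42390 : act 9 n29095 = n42390 := rfl
theorem F177196 : act 1 n42390 = n29104 := d16_1 D42390 (iv D29104) (iv F123526)
theorem F177197 : act 5 n42390 = n42390 := d38_1 D42390 (iv D42390) F123527
theorem F177198 : act 6 n42390 = n29239 := d41_1 D42390 (iv D29239) (iv F123528)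
theorem F177199 : act 7 n42390 = n29096 := d43_1 D42390 (iv D29096) (iv F123529)
theorem F177200 : act 8 n42390 = n29148 := d44_1 D42390 (iv D29148) (iv D20034) (iv F86331) D29095
def n42391 : Q := act 6 n29097
theorem D42391 : act 6 n29097 = n42391 := rfl
theorem F177201 : act 0 n42391 = n42391 := d5_1 D42391 (iv D42391) F123534
theorem F177202 : act 3 n42391 = n42391 := d26_1 D42391 (iv D42391) F123535
theorem F177203 : act 4 n42391 = n42391 := d31_1 D42391 (iv D42391) F123536
theorem F177204 : act 5 n42391 = n29240 := d35_1 D42391 (iv D29240) F86742 (iv F86347) (iv F123537)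
theorem F177205 : act 7 n42391 = n30875 := d39_2 D29097 D42391 (iv D30875) (iv D21194) (iv F86342)
theorem F177206 : act 9 n42391 = n29149 := d41_2 (iv F123538) D42391 (iv D29149)
def n42392 : Q := act 8 n29097
theorem D42392 : act 8 n29097 = n42392 := rfl
theorem F177207 : act 0 n42392 = n42392 := d7_1 D42392 (iv D42392) F123534
theorem F177208 : act 4 n42392 = n42392 := d33_1 D42392 (iv D42392) F123536
theorem F177209 : act 5 n42392 = n29099 := d37_1 D42392 (iv D29099) (iv F123537)
theorem F177210 : act 7 n42392 = n29098 := d42_1 D42392 (iv D29098) D29097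
def n42393 : Q := act 3 n29098
theorem D42393 : act 3 n29098 = n42393 := rfl
theorem F177213 : act 6 n42393 = n30877 := d26_2 (iv F123542) D42393 (iv D30877)
def n42394 : Q := act 9 n29098
theorem D42394 : act 9 n29098 = n42394 := rfl
theorem F177215 : act 0 n42394 = n42394 := d8_1 D42394 (iv D42394) F123539
theorem F177216 : act 4 n42394 = n42394 := d34_1 D42394 (iv D42394) F123540
theorem F177217 : act 5 n42394 = n29101 := d38_1 D42394 (iv D29101) (iv F123541)
theorem F177219 : act 8 n42394 = n29152 := d44_1 D42394 (iv D29152) (iv D20037) (iv F86343) D29098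
def n42395 : Q := act 3 n29099
theorem D42395 : act 3 n29099 = n42395 := rfl
theorem F177220 : act 0 n42395 = n42395 := d2_1 D42395 (iv D42395) F123543
theorem F177221 : act 6 n42395 = n29244 := d26_2 (iv F123545) D42395 (iv D29244)
theorem F177222 : act 7 n42395 = n29100 := d27_2 (iv F123546) D42395 (iv D29100)
theorem F177223 : act 8 n42395 = n42395 := d28_2 D29099 D42395 (iv D42395) (iv D29099) F86345
def n42396 : Q := act 9 n29099
theorem D42396 : act 9 n29099 = n42396 := rfl
theorem F177224 : act 0 n42396 = n42396 := d8_1 D42396 (iv D42396) F123543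
theorem F177225 : act 4 n42396 = n29104 := d34_1 D42396 (iv D29104) (iv F123544)
theorem F177226 : act 6 n42396 = n29245 := d41_1 D42396 (iv D29245) (iv F123545)
theorem F177227 : act 7 n42396 = n29101 := d43_1 D42396 (iv D29101) (iv F123546)
theorem F177228 : act 8 n42396 = n29154 := d44_1 D42396 (iv D29154) (iv D20038) (iv F86348) D29099
def n42397 : Q := act 2 n29100
theorem D42397 : act 2 n29100 = n42397 := rfl
theorem F177230 : act 6 n42397 = n29102 := d20_2 (iv F123548) D42397 (iv D29102)
def n42398 : Q := act 9 n29100
theorem D42398 : act 9 n29100 = n42398 := rfl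
theorem F177232 : act 0 n42398 = n42398 := d8_1 D42398 (iv D42398) F123547
theorem F177233 : act 3 n42398 = n29101 := d29_1 D42398 (iv D29101) D29100
theorem F177234 : act 6 n42398 = n29103 := d41_1 D42398 (iv D29103) (iv F123548)
def n42399 : Q := act 1 n29102
theorem D42399 : act 1 n29102 = n42399 := rfl
theorem F177235 : act 5 n42399 = n30883 := d12_2 (iv F123555) D42399 (iv D30883)
theorem F177236 : act 7 n42399 = n29248 := d14_2 (iv F123556) D42399 (iv D29248)
theorem F177237 : act 8 n42399 = n42399 := d15_2 F123557 D42399 (iv D42399)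
def n42400 : Q := act 9 n29102
theorem D42400 : act 9 n29102 = n42400 := rfl
theorem F177238 : act 0 n42400 = n42400 := d8_1 D42400 (iv D42400) F123554
theorem F177239 : act 2 n42400 = n29103 := d23_1 D42400 (iv D29103) D29102
theorem F177241 : act 7 n42400 = n29249 := d43_1 D42400 (iv D29249) (iv F123556)
def n42401 : Q := act 8 n29103
theorem D42401 : act 8 n29103 = n42401 := rfl
theorem F177242 : act 0 n42401 = n42401 := d7_1 D42401 (iv D42401) F123558
theorem F177243 : act 3 n42401 = n29159 := d28_1 D42401 (iv D29159) F86511 (iv F86360) (iv F123559)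
theorem F177244 : act 5 n42401 = n30885 := d37_1 D42401 (iv D30885) (iv F123560)
theorem F177245 : act 7 n42401 = n29250 := d42_1 D42401 (iv D29250) (iv F123561)
theorem F177246 : act 9 n42401 = n42401 := d44_2 D29103 D42401 (iv D42401) (iv D29103) F86355
def n42402 : Q := act 3 n29105
theorem D42402 : act 3 n29105 = n42402 := rfl
theorem F177247 : act 1 n42402 = n29110 := d10_1 D42402 (iv D29110) (iv F123567)
theorem F177248 : act 4 n42402 = n42402 := d24_2 D29105 D42402 (iv D42402) (iv D29105) F86371
theorem F177249 : act 5 n42402 = n30886 := d25_2 (iv F123569) D42402 (iv D30886)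
theorem F177250 : act 7 n42402 = n29251 := d27_2 (iv F123570) D42402 (iv D29251)
def n42403 : Q := act 6 n29105
theorem D42403 : act 6 n29105 = n42403 := rfl
theorem F177251 : act 1 n42403 = n29111 := d13_1 D42403 (iv D29111) (iv F123567)
theorem F177252 : act 2 n42403 = n42403 := d20_1 D42403 (iv D42403) F123568
theorem F177253 : act 4 n42403 = n29106 := d31_1 D42403 (iv D29106) D29105
def n42404 : Q := act 8 n29105
theorem D42404 : act 8 n29105 = n42404 := rfl
theorem F177254 : act 1 n42404 = n29112 := d15_1 D42404 (iv D29112) (iv F123567)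
theorem F177255 : act 2 n42404 = n42404 := d22_1 D42404 (iv D42404) F123568
theorem F177256 : act 4 n42404 = n29107 := d33_1 D42404 (iv D29107) D29105
theorem F177258 : act 7 n42404 = n29253 := d42_1 D42404 (iv D29253) (iv F123570)
def n42405 : Q := act 7 n29106
theorem D42405 : act 7 n29106 = n42405 := rfl
theorem F177259 : act 1 n42405 = n29113 := d14_1 D42405 (iv D29113) (iv F123571)
theorem F177260 : act 2 n42405 = n42405 := d21_1 D42405 (iv D42405) F123572
theorem F177261 : act 3 n42405 = n42405 := d27_1 D42405 (iv D42405) F123573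
theorem F177262 : act 5 n42405 = n42405 := d36_1 D42405 (iv D42405) F123574
theorem F177263 : act 6 n42405 = n29254 := d39_1 D42405 (iv D29254) (iv D20106) (iv F86372) D29106
def n42406 : Q := act 8 n29106
theorem D42406 : act 8 n29106 = n42406 := rfl
theorem F177264 : act 1 n42406 = n29114 := d15_1 D42406 (iv D29114) (iv F123571)
theorem F177265 : act 2 n42406 = n42406 := d22_1 D42406 (iv D42406) F123572
theorem F177266 : act 5 n42406 = n42406 := d37_1 D42406 (iv D42406) F123574
theorem F177267 : act 6 n42406 = n29107 := d40_1 D42406 (iv D29107) D29106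
def n42407 : Q := act 3 n29107
theorem D42407 : act 3 n29107 = n42407 := rfl
theorem F177268 : act 1 n42407 = n29115 := d10_1 D42407 (iv D29115) (iv F123575)
def n42408 : Q := act 9 n29107
theorem D42408 : act 9 n29107 = n42408 := rfl
theorem F177272 : act 1 n42408 = n29116 := d16_1 D42408 (iv D29116) (iv F123575)
theorem F177273 : act 2 n42408 = n42408 := d23_1 D42408 (iv D42408) F123576
theorem F177274 : act 5 n42408 = n29109 := d38_1 D42408 (iv D29109) (iv F123577)
theorem F177275 : act 7 n42408 = n29257 := d43_1 D42408 (iv D29257) (iv F123578)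
def n42411 : Q := act 9 n29108
theorem D42411 : act 9 n29108 = n42411 := rfl
theorem F177286 : act 1 n42411 = n29118 := d16_1 D42411 (iv D29118) (iv F123579)
theorem F177287 : act 3 n42411 = n29109 := d29_1 D42411 (iv D29109) D29108
def n42412 : Q := act 6 n29110
theorem D42412 : act 6 n29110 = n42412 := rfl
theorem F177290 : act 0 n42412 = n29126 := d5_1 D42412 (iv D29126) (iv F123588)
theorem F177291 : act 2 n42412 = n42412 := d20_1 D42412 (iv D42412) F123589
theorem F177292 : act 3 n42412 = n29111 := d26_1 D42412 (iv D29111) D29110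
theorem F177293 : act 4 n42412 = n42412 := d31_1 D42412 (iv D42412) F123590
def n42413 : Q := act 8 n29110
theorem D42413 : act 8 n29110 = n42413 := rfl
theorem F177294 : act 0 n42413 = n29127 := d7_1 D42413 (iv D29127) (iv F123588)
theorem F177295 : act 2 n42413 = n42413 := d22_1 D42413 (iv D42413) F123589
theorem F177296 : act 4 n42413 = n42413 := d33_1 D42413 (iv D42413) F123590
theorem F177297 : act 5 n42413 = n30897 := d37_1 D42413 (iv D30897) (iv F123591)
theorem F177298 : act 7 n42413 = n29262 := d42_1 D42413 (iv D29262) (iv F123592)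
def n42414 : Q := act 5 n29111
theorem D42414 : act 5 n29111 = n42414 := rfl
theorem F177299 : act 0 n42414 = n29128 := d4_1 D42414 (iv D29128) (iv F123593)
theorem F177300 : act 2 n42414 = n29119 := d19_1 D42414 (iv D29119) (iv F123594)
theorem F177301 : act 4 n42414 = n42414 := d30_1 D42414 (iv D42414) F123595 F86385 (iv F123595)
theorem F177302 : act 6 n42414 = n30898 := d35_2 D29111 D42414 (iv D30898) (iv D21208) (iv F86380)
def n42415 : Q := act 7 n29111
theorem D42415 : act 7 n29111 = n42415 := rfl
theorem F177303 : act 0 n42415 = n29129 := d6_1 D42415 (iv D29129) (iv F123593)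
theorem F177304 : act 2 n42415 = n29120 := d21_1 D42415 (iv D29120) (iv F123594)
theorem F177305 : act 4 n42415 = n29113 := d32_1 D42415 (iv D29113) (iv F123595)
theorem F177306 : act 6 n42415 = n29264 := d39_1 D42415 (iv D29264) (iv D20111) (iv F86381) D29111
def n42416 : Q := act 8 n29111
theorem D42416 : act 8 n29111 = n42416 := rfl
theorem F177307 : act 0 n42416 = n29130 := d7_1 D42416 (iv D29130) (iv F123593)
theorem F177308 : act 2 n42416 = n29121 := d22_1 D42416 (iv D29121) (iv F123594)
theorem F177309 : act 4 n42416 = n29114 := d33_1 D42416 (iv D29114) (iv F123595)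
theorem F177310 : act 6 n42416 = n29112 := d40_1 D42416 (iv D29112) D29111
def n42417 : Q := act 3 n29112
theorem D42417 : act 3 n29112 = n42417 := rfl
theorem F177311 : act 0 n42417 = n29131 := d2_1 D42417 (iv D29131) (iv F123596)
theorem F177312 : act 5 n42417 = n30901 := d25_2 (iv F123599) D42417 (iv D30901)
theorem F177313 : act 7 n42417 = n29266 := d27_2 (iv F123600) D42417 (iv D29266)
def n42418 : Q := act 9 n29112
theorem D42418 : act 9 n29112 = n42418 := rfl
theorem F177314 : act 0 n42418 = n29132 := d8_1 D42418 (iv D29132) (iv F123596)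
theorem F177315 : act 2 n42418 = n29123 := d23_1 D42418 (iv D29123) (iv F123597)
theorem F177316 : act 4 n42418 = n29116 := d34_1 D42418 (iv D29116) (iv F123598)
theorem F177317 : act 5 n42418 = n30902 := d38_1 D42418 (iv D30902) (iv F123599)
theorem F177318 : act 7 n42418 = n29267 := d43_1 D42418 (iv D29267) (iv F123600)
def n42419 : Q := act 8 n29113
theorem D42419 : act 8 n29113 = n42419 := rfl
theorem F177319 : act 0 n42419 = n29133 := d7_1 D42419 (iv D29133) (iv F123601)
theorem F177320 : act 2 n42419 = n29124 := d22_1 D42419 (iv D29124) (iv F123602)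
theorem F177321 : act 5 n42419 = n42419 := d37_1 D42419 (iv D42419) F123604
theorem F177322 : act 6 n42419 = n29268 := d40_1 D42419 (iv D29268) (iv F123605)
theorem F177323 : act 7 n42419 = n29114 := d42_1 D42419 (iv D29114) D29113
def n42420 : Q := act 3 n29114
theorem D42420 : act 3 n29114 = n42420 := rfl
theorem F177324 : act 0 n42420 = n29134 := d2_1 D42420 (iv D29134) (iv F123606)
theorem F177325 : act 2 n42420 = n42420 := d17_1 D42420 (iv D42420) F123607 F86416 (iv F123607)
theorem F177326 : act 5 n42420 = n42420 := d25_2 F123608 D42420 (iv D42420)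
theorem F177327 : act 6 n42420 = n29115 := d26_2 (iv F123609) D42420 (iv D29115)
theorem F177328 : act 8 n42420 = n42420 := d28_2 D29114 D42420 (iv D42420) (iv D29114) F86384
def n42421 : Q := act 9 n29114
theorem D42421 : act 9 n29114 = n42421 := rfl
theorem F177329 : act 0 n42421 = n29135 := d8_1 D42421 (iv D29135) (iv F123606)
theorem F177330 : act 2 n42421 = n29125 := d23_1 D42421 (iv D29125) (iv F123607)
theorem F177331 : act 5 n42421 = n42421 := d38_1 D42421 (iv D42421) F123608
theorem F177332 : act 6 n42421 = n29116 := d41_1 D42421 (iv D29116) (iv F123609)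
def n42422 : Q := act 4 n29115
theorem D42422 : act 4 n29115 = n42422 := rfl
theorem F177333 : act 0 n42422 = n29136 := d3_1 D42422 (iv D29136) (iv F123610)
theorem F177334 : act 2 n42422 = n42422 := d18_1 D42422 (iv D42422) F123611
theorem F177335 : act 7 n42422 = n29271 := d32_2 (iv F123613) D42422 (iv D29271)
theorem F177336 : act 8 n42422 = n42422 := d33_2 F123614 D42422 (iv D42422)
def n42423 : Q := act 9 n29115
theorem D42423 : act 9 n29115 = n42423 := rfl
theorem F177337 : act 0 n42423 = n29137 := d8_1 D42423 (iv D29137) (iv F123610)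
theorem F177338 : act 2 n42423 = n42423 := d23_1 D42423 (iv D42423) F123611
theorem F177339 : act 3 n42423 = n29116 := d29_1 D42423 (iv D29116) D29115
theorem F177340 : act 5 n42423 = n29118 := d38_1 D42423 (iv D29118) (iv F123612)
theorem F177341 : act 7 n42423 = n29272 := d43_1 D42423 (iv D29272) (iv F123613)
def n42424 : Q := act 5 n29117
theorem D42424 : act 5 n29117 = n42424 := rfl
theorem F177342 : act 0 n42424 = n29138 := d4_1 D42424 (iv D29138) (iv F123619)
theorem F177344 : act 3 n42424 = n30908 := d25_1 D42424 (iv D30908) (iv F123621)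
def n42425 : Q := act 9 n29117
theorem D42425 : act 9 n29117 = n42425 := rfl
theorem F177347 : act 0 n42425 = n29139 := d8_1 D42425 (iv D29139) (iv F123619)
theorem F177349 : act 3 n42425 = n30909 := d29_1 D42425 (iv D30909) (iv F123621)
theorem F177350 : act 4 n42425 = n29118 := d34_1 D42425 (iv D29118) D29117
def n42426 : Q := act 8 n29118
theorem D42426 : act 8 n29118 = n42426 := rfl
theorem F177353 : act 0 n42426 = n29140 := d7_1 D42426 (iv D29140) (iv F123625)
theorem F177354 : act 2 n42426 = n42426 := d22_1 D42426 (iv D42426) F123626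
theorem F177355 : act 6 n42426 = n42426 := d40_1 D42426 (iv D42426) F123628
theorem F177356 : act 7 n42426 = n29275 := d42_1 D42426 (iv D29275) (iv F123629)
theorem F177357 : act 9 n42426 = n42426 := d44_2 D29118 D42426 (iv D42426) (iv D29118) F86394
def n42427 : Q := act 7 n29119
theorem D42427 : act 7 n29119 = n42427 := rfl
theorem F177358 : act 0 n42427 = n29141 := d6_1 D42427 (iv D29141) (iv F123630)
theorem F177359 : act 1 n42427 = n42427 := d14_1 D42427 (iv D42427) F123631
theorem F177360 : act 3 n42427 = n42427 := d27_1 D42427 (iv D42427) F123632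
theorem F177361 : act 4 n42427 = n42427 := d32_1 D42427 (iv D42427) F123633
theorem F177362 : act 5 n42427 = n29120 := d36_1 D42427 (iv D29120) D29119
def n42428 : Q := act 8 n29119
theorem D42428 : act 8 n29119 = n42428 := rfl
theorem F177363 : act 0 n42428 = n29142 := d7_1 D42428 (iv D29142) (iv F123630)
theorem F177364 : act 1 n42428 = n42428 := d15_1 D42428 (iv D42428) F123631
theorem F177365 : act 4 n42428 = n42428 := d33_1 D42428 (iv D42428) F123633
theorem F177366 : act 5 n42428 = n29121 := d37_1 D42428 (iv D29121) D29119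
theorem F177367 : act 6 n42428 = n30912 := d40_1 D42428 (iv D30912) (iv F123634)
def n42429 : Q := act 8 n29120
theorem D42429 : act 8 n29120 = n42429 := rfl
theorem F177368 : act 0 n42429 = n29143 := d7_1 D42429 (iv D29143) (iv F123635)
theorem F177369 : act 1 n42429 = n42429 := d15_1 D42429 (iv D42429) F123636
theorem F177370 : act 4 n42429 = n29124 := d33_1 D42429 (iv D29124) (iv F123638)
theorem F177371 : act 6 n42429 = n29278 := d40_1 D42429 (iv D29278) (iv F123639)
theorem F177372 : act 7 n42429 = n29121 := d42_1 D42429 (iv D29121) D29120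
def n42430 : Q := act 3 n29121
theorem D42430 : act 3 n29121 = n42430 := rfl
theorem F177373 : act 0 n42430 = n29144 := d2_1 D42430 (iv D29144) (iv F123640)
theorem F177374 : act 1 n42430 = n42430 := d10_1 D42430 (iv D42430) F123641
theorem F177375 : act 4 n42430 = n42430 := d24_2 (iv F123642) D42430 (iv D42430) F123642 F86416
theorem F177376 : act 6 n42430 = n29122 := d26_2 (iv F123643) D42430 (iv D29122)
theorem F177377 : act 8 n42430 = n42430 := d28_2 D29121 D42430 (iv D42430) (iv D29121) F86402
def n42431 : Q := act 9 n29121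
theorem D42431 : act 9 n29121 = n42431 := rfl
theorem F177378 : act 0 n42431 = n29145 := d8_1 D42431 (iv D29145) (iv F123640)
theorem F177379 : act 1 n42431 = n42431 := d16_1 D42431 (iv D42431) F123641
theorem F177380 : act 4 n42431 = n29125 := d34_1 D42431 (iv D29125) (iv F123642)
theorem F177381 : act 6 n42431 = n29123 := d41_1 D42431 (iv D29123) (iv F123643)
def n42432 : Q := act 2 n29122
theorem D42432 : act 2 n29122 = n42432 := rfl
theorem F177382 : act 0 n42432 = n29146 := d1_1 D42432 (iv D29146) (iv F123644)
theorem F177383 : act 4 n42432 = n42432 := d18_2 F123646 D42432 (iv D42432)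
theorem F177384 : act 5 n42432 = n30916 := d19_2 (iv F123647) D42432 (iv D30916)
theorem F177385 : act 7 n42432 = n29281 := d21_2 (iv F123648) D42432 (iv D29281)
theorem F177386 : act 8 n42432 = n42432 := d22_2 F123649 D42432 (iv D42432)
def n42433 : Q := act 9 n29122
theorem D42433 : act 9 n29122 = n42433 := rfl
theorem F177387 : act 0 n42433 = n29147 := d8_1 D42433 (iv D29147) (iv F123644)
theorem F177388 : act 1 n42433 = n42433 := d16_1 D42433 (iv D42433) F123645
theorem F177389 : act 3 n42433 = n29123 := d29_1 D42433 (iv D29123) D29122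
theorem F177390 : act 4 n42433 = n42433 := d34_1 D42433 (iv D42433) F123646
theorem F177391 : act 5 n42433 = n30917 := d38_1 D42433 (iv D30917) (iv F123647)
theorem F177392 : act 7 n42433 = n29282 := d43_1 D42433 (iv D29282) (iv F123648)
def n42434 : Q := act 9 n29124
theorem D42434 : act 9 n29124 = n42434 := rfl
theorem F177393 : act 0 n42434 = n29148 := d8_1 D42434 (iv D29148) (iv F123655)
theorem F177394 : act 1 n42434 = n42434 := d16_1 D42434 (iv D42434) F123656
theorem F177395 : act 3 n42434 = n42434 := d29_1 D42434 (iv D42434) F123657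
theorem F177396 : act 5 n42434 = n42434 := d38_1 D42434 (iv D42434) F123658
theorem F177397 : act 6 n42434 = n29283 := d41_1 D42434 (iv D29283) (iv F123659)
theorem F177398 : act 7 n42434 = n29125 := d43_1 D42434 (iv D29125) (iv F123660)
def n42435 : Q := act 5 n29126
theorem D42435 : act 5 n29126 = n42435 := rfl
theorem F177399 : act 2 n42435 = n42435 := d19_1 D42435 (iv D42435) F123666
theorem F177400 : act 3 n42435 = n29128 := d25_1 D42435 (iv D29128) (iv F123667)
theorem F177401 : act 6 n42435 = n30919 := d35_2 D29126 D42435 (iv D30919) (iv D21223) (iv F86426)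
def n42436 : Q := act 7 n29126
theorem D42436 : act 7 n29126 = n42436 := rfl
theorem F177402 : act 2 n42436 = n42436 := d21_1 D42436 (iv D42436) F123666
theorem F177403 : act 3 n42436 = n29129 := d27_1 D42436 (iv D29129) (iv F123667)
theorem F177404 : act 4 n42436 = n42436 := d32_1 D42436 (iv D42436) F123668
theorem F177405 : act 6 n42436 = n29285 := d39_1 D42436 (iv D29285) (iv D20126) (iv F86427) D29126
def n42437 : Q := act 8 n29126
theorem D42437 : act 8 n29126 = n42437 := rfl
theorem F177406 : act 2 n42437 = n42437 := d22_1 D42437 (iv D42437) F123666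
theorem F177407 : act 4 n42437 = n42437 := d33_1 D42437 (iv D42437) F123668
theorem F177408 : act 6 n42437 = n29127 := d40_1 D42437 (iv D29127) D29126
def n42438 : Q := act 3 n29127
theorem D42438 : act 3 n29127 = n42438 := rfl
theorem F177409 : act 5 n42438 = n30922 := d25_2 (iv F123671) D42438 (iv D30922)
theorem F177410 : act 7 n42438 = n29287 := d27_2 (iv F123672) D42438 (iv D29287)
theorem F177411 : act 8 n42438 = n29131 := d28_2 D29127 D42438 (iv D29131) (iv D20022) D20020
def n42439 : Q := act 9 n29127
theorem D42439 : act 9 n29127 = n42439 := rfl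
theorem F177412 : act 2 n42439 = n42439 := d23_1 D42439 (iv D42439) F123669
theorem F177413 : act 4 n42439 = n42439 := d34_1 D42439 (iv D42439) F123670
theorem F177414 : act 5 n42439 = n30923 := d38_1 D42439 (iv D30923) (iv F123671)
theorem F177415 : act 7 n42439 = n29288 := d43_1 D42439 (iv D29288) (iv F123672)
def n42440 : Q := act 7 n29128
theorem D42440 : act 7 n29128 = n42440 := rfl
theorem F177416 : act 2 n42440 = n29141 := d21_1 D42440 (iv D29141) (iv F123673)
theorem F177417 : act 4 n42440 = n42440 := d32_1 D42440 (iv D42440) F123674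
theorem F177418 : act 5 n42440 = n29129 := d36_1 D42440 (iv D29129) D29128
def n42441 : Q := act 8 n29128
theorem D42441 : act 8 n29128 = n42441 := rfl
theorem F177419 : act 2 n42441 = n29142 := d22_1 D42441 (iv D29142) (iv F123673)
theorem F177420 : act 4 n42441 = n42441 := d33_1 D42441 (iv D42441) F123674
theorem F177421 : act 5 n42441 = n29130 := d37_1 D42441 (iv D29130) D29128
theorem F177422 : act 6 n42441 = n30925 := d40_1 D42441 (iv D30925) (iv F123675)
def n42442 : Q := act 8 n29129
theorem D42442 : act 8 n29129 = n42442 := rfl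
theorem F177423 : act 2 n42442 = n29143 := d22_1 D42442 (iv D29143) (iv F123676)
theorem F177424 : act 4 n42442 = n29133 := d33_1 D42442 (iv D29133) (iv F123677)
theorem F177425 : act 6 n42442 = n29291 := d40_1 D42442 (iv D29291) (iv F123678)
theorem F177426 : act 7 n42442 = n29130 := d42_1 D42442 (iv D29130) D29129
def n42443 : Q := act 3 n29130
theorem D42443 : act 3 n29130 = n42443 := rfl
theorem F177427 : act 6 n42443 = n29131 := d26_2 (iv F123681) D42443 (iv D29131)
def n42444 : Q := act 9 n29130
theorem D42444 : act 9 n29130 = n42444 := rfl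
theorem F177428 : act 2 n42444 = n29145 := d23_1 D42444 (iv D29145) (iv F123679)
theorem F177429 : act 4 n42444 = n29135 := d34_1 D42444 (iv D29135) (iv F123680)
theorem F177430 : act 6 n42444 = n29132 := d41_1 D42444 (iv D29132) (iv F123681)
def n42445 : Q := act 2 n29131
theorem D42445 : act 2 n29131 = n42445 := rfl
theorem F177431 : act 3 n42445 = n29146 := d17_2 D29131 D42445 (iv D29146) (iv D20032) (iv F86430)
theorem F177432 : act 5 n42445 = n30929 := d19_2 (iv F123682) D42445 (iv D30929)
theorem F177433 : act 7 n42445 = n29294 := d21_2 (iv F123683) D42445 (iv D29294)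
def n42446 : Q := act 4 n29131
theorem D42446 : act 4 n29131 = n42446 := rfl
theorem F177434 : act 3 n42446 = n29136 := d24_1 D42446 (iv D29136) (iv D20025) (iv F86431) D29131
theorem F177435 : act 7 n42446 = n29295 := d32_2 (iv F123683) D42446 (iv D29295)
def n42447 : Q := act 9 n29131
theorem D42447 : act 9 n29131 = n42447 := rfl
theorem F177436 : act 3 n42447 = n29132 := d29_1 D42447 (iv D29132) D29131
theorem F177437 : act 5 n42447 = n30931 := d38_1 D42447 (iv D30931) (iv F123682)
theorem F177438 : act 7 n42447 = n29296 := d43_1 D42447 (iv D29296) (iv F123683)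
def n42448 : Q := act 3 n29133
theorem D42448 : act 3 n29133 = n42448 := rfl
theorem F177441 : act 6 n42448 = n29297 := d26_2 (iv F123690) D42448 (iv D29297)
theorem F177442 : act 7 n42448 = n29134 := d27_2 (iv F123691) D42448 (iv D29134)
def n42449 : Q := act 9 n29133
theorem D42449 : act 9 n29133 = n42449 := rfl
theorem F177444 : act 2 n42449 = n29148 := d23_1 D42449 (iv D29148) (iv F123688)
theorem F177445 : act 5 n42449 = n42449 := d38_1 D42449 (iv D42449) F123689
theorem F177446 : act 6 n42449 = n29298 := d41_1 D42449 (iv D29298) (iv F123690)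
theorem F177447 : act 7 n42449 = n29135 := d43_1 D42449 (iv D29135) (iv F123691)
def n42450 : Q := act 4 n29134
theorem D42450 : act 4 n29134 = n42450 := rfl
theorem F177448 : act 2 n42450 = n42450 := d18_1 D42450 (iv D42450) F123692
theorem F177449 : act 6 n42450 = n29136 := d31_2 (iv F123694) D42450 (iv D29136)
theorem F177450 : act 8 n42450 = n42450 := d33_2 F123695 D42450 (iv D42450)
def n42451 : Q := act 9 n29134
theorem D42451 : act 9 n29134 = n42451 := rfl
theorem F177451 : act 2 n42451 = n42451 := d23_1 D42451 (iv D42451) F123692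
theorem F177452 : act 3 n42451 = n29135 := d29_1 D42451 (iv D29135) D29134
theorem F177453 : act 5 n42451 = n42451 := d38_1 D42451 (iv D42451) F123693
theorem F177454 : act 6 n42451 = n29137 := d41_1 D42451 (iv D29137) (iv F123694)
def n42452 : Q := act 5 n29136
theorem D42452 : act 5 n29136 = n42452 := rfl
theorem F177455 : act 2 n42452 = n42452 := d19_1 D42452 (iv D42452) F123699
theorem F177456 : act 4 n42452 = n29138 := d30_1 D42452 (iv D29138) (iv D20027) (iv F86442) D29136
theorem F177457 : act 7 n42452 = n29301 := d36_2 (iv F123700) D42452 (iv D29301)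
theorem F177458 : act 8 n42452 = n42452 := d37_2 F123701 D42452 (iv D42452)
def n42453 : Q := act 9 n29136
theorem D42453 : act 9 n29136 = n42453 := rfl
theorem F177459 : act 2 n42453 = n42453 := d23_1 D42453 (iv D42453) F123699
theorem F177460 : act 4 n42453 = n29137 := d34_1 D42453 (iv D29137) D29136
theorem F177461 : act 7 n42453 = n29302 := d43_1 D42453 (iv D29302) (iv F123700)
def n42454 : Q := act 8 n29137
theorem D42454 : act 8 n29137 = n42454 := rfl
theorem F177462 : act 2 n42454 = n42454 := d22_1 D42454 (iv D42454) F123702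
theorem F177463 : act 5 n42454 = n29140 := d37_1 D42454 (iv D29140) (iv F123704)
theorem F177464 : act 7 n42454 = n29303 := d42_1 D42454 (iv D29303) (iv F123705)
theorem F177465 : act 9 n42454 = n42454 := d44_2 D29137 D42454 (iv D42454) (iv D29137) F86444
def n42455 : Q := act 6 n29138
theorem D42455 : act 6 n29138 = n42455 := rfl
theorem F177466 : act 2 n42455 = n42455 := d20_1 D42455 (iv D42455) F123706
theorem F177467 : act 3 n42455 = n30939 := d26_1 D42455 (iv D30939) (iv F123707)
theorem F177468 : act 5 n42455 = n42455 := d35_1 D42455 (iv D42455) (iv D29138) F86450 D29138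
theorem F177469 : act 8 n42455 = n42455 := d40_2 F123709 D42455 (iv D42455)
def n42456 : Q := act 9 n29138
theorem D42456 : act 9 n29138 = n42456 := rfl
theorem F177470 : act 2 n42456 = n42456 := d23_1 D42456 (iv D42456) F123706
theorem F177471 : act 3 n42456 = n30940 := d29_1 D42456 (iv D30940) (iv F123707)
theorem F177472 : act 5 n42456 = n29139 := d38_1 D42456 (iv D29139) D29138
theorem F177473 : act 7 n42456 = n29305 := d43_1 D42456 (iv D29305) (iv F123708)
def n42457 : Q := act 8 n29139
theorem D42457 : act 8 n29139 = n42457 := rfl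
theorem F177474 : act 2 n42457 = n42457 := d22_1 D42457 (iv D42457) F123710
theorem F177475 : act 4 n42457 = n29140 := d33_1 D42457 (iv D29140) (iv F123712)
theorem F177476 : act 6 n42457 = n42457 := d40_1 D42457 (iv D42457) F123713
theorem F177477 : act 7 n42457 = n29306 := d42_1 D42457 (iv D29306) (iv F123714)
theorem F177478 : act 9 n42457 = n42457 := d44_2 D29139 D42457 (iv D42457) (iv D29139) F86452
def n42458 : Q := act 6 n29141
theorem D42458 : act 6 n29141 = n42458 := rfl
theorem F177479 : act 1 n42458 = n29149 := d13_1 D42458 (iv D29149) (iv F123719)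
theorem F177480 : act 3 n42458 = n42458 := d26_1 D42458 (iv D42458) F123720
theorem F177481 : act 4 n42458 = n42458 := d31_1 D42458 (iv D42458) F123721
theorem F177482 : act 5 n42458 = n29307 := d35_1 D42458 (iv D29307) F86898 (iv F86464) (iv F123722)
theorem F177483 : act 7 n42458 = n30942 := d39_2 D29141 D42458 (iv D30942) (iv D21238) (iv F86460)
def n42459 : Q := act 8 n29141
theorem D42459 : act 8 n29141 = n42459 := rfl
theorem F177486 : act 5 n42459 = n29143 := d37_1 D42459 (iv D29143) (iv F123722)
theorem F177487 : act 7 n42459 = n29142 := d42_1 D42459 (iv D29142) D29141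
def n42460 : Q := act 3 n29142
theorem D42460 : act 3 n29142 = n42460 := rfl
theorem F177489 : act 5 n42460 = n29144 := d25_2 (iv F123725) D42460 (iv D29144)
theorem F177490 : act 6 n42460 = n30944 := d26_2 (iv F123726) D42460 (iv D30944)
def n42461 : Q := act 9 n29142
theorem D42461 : act 9 n29142 = n42461 := rfl
theorem F177492 : act 1 n42461 = n29152 := d16_1 D42461 (iv D29152) (iv F123723)
theorem F177493 : act 4 n42461 = n42461 := d34_1 D42461 (iv D42461) F123724
theorem F177494 : act 5 n42461 = n29145 := d38_1 D42461 (iv D29145) (iv F123725)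
theorem F177495 : act 6 n42461 = n30945 := d41_1 D42461 (iv D30945) (iv F123726)
def n42462 : Q := act 3 n29143
theorem D42462 : act 3 n29143 = n42462 := rfl
theorem F177498 : act 6 n42462 = n29311 := d26_2 (iv F123729) D42462 (iv D29311)
def n42463 : Q := act 9 n29143
theorem D42463 : act 9 n29143 = n42463 := rfl
theorem F177501 : act 1 n42463 = n29154 := d16_1 D42463 (iv D29154) (iv F123727)
theorem F177502 : act 4 n42463 = n29148 := d34_1 D42463 (iv D29148) (iv F123728)
theorem F177503 : act 6 n42463 = n29312 := d41_1 D42463 (iv D29312) (iv F123729)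
theorem F177504 : act 7 n42463 = n29145 := d43_1 D42463 (iv D29145) (iv F123730)
def n42464 : Q := act 2 n29144
theorem D42464 : act 2 n29144 = n42464 := rfl
theorem F177505 : act 4 n42464 = n42464 := d18_2 F123732 D42464 (iv D42464)
theorem F177506 : act 6 n42464 = n29146 := d20_2 (iv F123733) D42464 (iv D29146)
theorem F177507 : act 8 n42464 = n42464 := d22_2 F123734 D42464 (iv D42464)
def n42465 : Q := act 9 n29144
theorem D42465 : act 9 n29144 = n42465 := rfl
theorem F177508 : act 1 n42465 = n29156 := d16_1 D42465 (iv D29156) (iv F123731)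
theorem F177509 : act 3 n42465 = n29145 := d29_1 D42465 (iv D29145) D29144
theorem F177510 : act 4 n42465 = n42465 := d34_1 D42465 (iv D42465) F123732
theorem F177511 : act 6 n42465 = n29147 := d41_1 D42465 (iv D29147) (iv F123733)
def n42466 : Q := act 1 n29146
theorem D42466 : act 1 n29146 = n42466 := rfl
theorem F177512 : act 2 n42466 = n29157 := d9_2 D29146 D42466 (iv D29157) (iv D20041) (iv F86468)
theorem F177513 : act 4 n42466 = n42466 := d11_2 F123738 D42466 (iv D42466)
theorem F177514 : act 5 n42466 = n30950 := d12_2 (iv F123739) D42466 (iv D30950)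
theorem F177515 : act 7 n42466 = n29315 := d14_2 (iv F123740) D42466 (iv D29315)
theorem F177516 : act 8 n42466 = n42466 := d15_2 F123741 D42466 (iv D42466)
def n42467 : Q := act 9 n29146
theorem D42467 : act 9 n29146 = n42467 := rfl
theorem F177517 : act 2 n42467 = n29147 := d23_1 D42467 (iv D29147) D29146
theorem F177518 : act 4 n42467 = n42467 := d34_1 D42467 (iv D42467) F123738
theorem F177519 : act 5 n42467 = n30951 := d38_1 D42467 (iv D30951) (iv F123739)
theorem F177520 : act 7 n42467 = n29316 := d43_1 D42467 (iv D29316) (iv F123740)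
def n42468 : Q := act 8 n29147
theorem D42468 : act 8 n29147 = n42468 := rfl
theorem F177521 : act 1 n42468 = n29159 := d15_1 D42468 (iv D29159) (iv F123742)
theorem F177522 : act 4 n42468 = n42468 := d33_1 D42468 (iv D42468) F123744
theorem F177523 : act 5 n42468 = n30952 := d37_1 D42468 (iv D30952) (iv F123745)
theorem F177524 : act 7 n42468 = n29317 := d42_1 D42468 (iv D29317) (iv F123746)
theorem F177525 : act 9 n42468 = n42468 := d44_2 D29147 D42468 (iv D42468) (iv D29147) F86472
def n42469 : Q := act 8 n29149
theorem D42469 : act 8 n29149 = n42469 := rfl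
theorem F177528 : act 5 n42469 = n29318 := d37_1 D42469 (iv D29318) (iv F123755)
theorem F177529 : act 6 n42469 = n29150 := d40_1 D42469 (iv D29150) D29149
theorem F177530 : act 7 n42469 = n30953 := d42_1 D42469 (iv D30953) (iv F123756)
def n42471 : Q := act 9 n29150
theorem D42471 : act 9 n29150 = n42471 := rfl
theorem F177537 : act 5 n42471 = n29154 := d38_1 D42471 (iv D29154) (iv F123759)
theorem F177538 : act 7 n42471 = n29152 := d43_1 D42471 (iv D29152) (iv F123760)
def n42472 : Q := act 2 n29151
theorem D42472 : act 2 n29151 = n42472 := rfl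
theorem F177540 : act 5 n42472 = n29155 := d19_2 (iv F123762) D42472 (iv D29155)
theorem F177541 : act 6 n42472 = n30956 := d20_2 (iv F123763) D42472 (iv D30956)
def n42473 : Q := act 4 n29151
theorem D42473 : act 4 n29151 = n42473 := rfl
theorem F177546 : act 6 n42473 = n30957 := d31_2 (iv F123763) D42473 (iv D30957)
def n42474 : Q := act 9 n29151
theorem D42474 : act 9 n29151 = n42474 := rfl
theorem F177549 : act 3 n42474 = n29152 := d29_1 D42474 (iv D29152) D29151
theorem F177550 : act 5 n42474 = n29156 := d38_1 D42474 (iv D29156) (iv F123762)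
theorem F177551 : act 6 n42474 = n30958 := d41_1 D42474 (iv D30958) (iv F123763)
def n42476 : Q := act 9 n29153
theorem D42476 : act 9 n29153 = n42476 := rfl
theorem F177558 : act 3 n42476 = n29154 := d29_1 D42476 (iv D29154) D29153
theorem F177560 : act 6 n42476 = n29325 := d41_1 D42476 (iv D29325) (iv F123771)
def n42477 : Q := act 1 n29155
theorem D42477 : act 1 n29155 = n42477 := rfl
theorem F177563 : act 6 n42477 = n29157 := d13_2 (iv F123780) D42477 (iv D29157)
def n42478 : Q := act 9 n29155
theorem D42478 : act 9 n29155 = n42478 := rfl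
theorem F177566 : act 2 n42478 = n29156 := d23_1 D42478 (iv D29156) D29155
theorem F177568 : act 6 n42478 = n29158 := d41_1 D42478 (iv D29158) (iv F123780)
def n42479 : Q := act 8 n29156
theorem D42479 : act 8 n29156 = n42479 := rfl
theorem F177569 : act 0 n42479 = n42479 := d7_1 D42479 (iv D42479) F123782
theorem F177570 : act 4 n42479 = n42479 := d33_1 D42479 (iv D42479) F123784
theorem F177571 : act 6 n42479 = n29159 := d40_1 D42479 (iv D29159) (iv F123785)
theorem F177572 : act 9 n42479 = n42479 := d44_2 D29156 D42479 (iv D42479) (iv D29156) F86501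
def n42480 : Q := act 0 n29157
theorem D42480 : act 0 n29157 = n42480 := rfl
theorem F177573 : act 1 n42480 = n42480 := d0_2 D29157 D42480 (iv D42480) (iv D29157) F86505
theorem F177574 : act 4 n42480 = n42480 := d3_2 F123786 D42480 (iv D42480)
theorem F177575 : act 5 n42480 = n30964 := d4_2 (iv F123787) D42480 (iv D30964)
theorem F177576 : act 7 n42480 = n29329 := d6_2 (iv F123788) D42480 (iv D29329)
theorem F177577 : act 8 n42480 = n42480 := d7_2 F123789 D42480 (iv D42480)
def n42481 : Q := act 9 n29157
theorem D42481 : act 9 n29157 = n42481 := rfl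
theorem F177578 : act 1 n42481 = n29158 := d16_1 D42481 (iv D29158) D29157
theorem F177579 : act 4 n42481 = n42481 := d34_1 D42481 (iv D42481) F123786
theorem F177580 : act 5 n42481 = n30965 := d38_1 D42481 (iv D30965) (iv F123787)
theorem F177581 : act 7 n42481 = n29330 := d43_1 D42481 (iv D29330) (iv F123788)
def n42482 : Q := act 8 n29158
theorem D42482 : act 8 n29158 = n42482 := rfl
theorem F177582 : act 0 n42482 = n42482 := d7_1 D42482 (iv D42482) F123790
theorem F177583 : act 2 n42482 = n29159 := d22_1 D42482 (iv D29159) (iv F123791)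
theorem F177584 : act 4 n42482 = n42482 := d33_1 D42482 (iv D42482) F123792
theorem F177585 : act 5 n42482 = n30966 := d37_1 D42482 (iv D30966) (iv F123793)
theorem F177586 : act 7 n42482 = n29331 := d42_1 D42482 (iv D29331) (iv F123794)
theorem F177587 : act 9 n42482 = n42482 := d44_2 D29158 D42482 (iv D42482) (iv D29158) F86509
def n42484 : Q := act 6 n29160
theorem D42484 : act 6 n29160 = n42484 := rfl
theorem F177594 : act 1 n42484 = n29163 := d13_1 D42484 (iv D29163) (iv F123801)
theorem F177597 : act 5 n42484 = n29333 := d35_1 D42484 (iv D29333) (iv D20160) (iv F86524) D29160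
def n42485 : Q := act 8 n29160
theorem D42485 : act 8 n29160 = n42485 := rfl
theorem F177600 : act 1 n42485 = n29164 := d15_1 D42485 (iv D29164) (iv F123801)
theorem F177602 : act 5 n42485 = n29161 := d37_1 D42485 (iv D29161) D29160
def n42486 : Q := act 3 n29161
theorem D42486 : act 3 n29161 = n42486 := rfl
theorem F177603 : act 0 n42486 = n42486 := d2_1 D42486 (iv D42486) F123805
theorem F177604 : act 1 n42486 = n29165 := d10_1 D42486 (iv D29165) (iv F123806)
theorem F177605 : act 6 n42486 = n29335 := d26_2 (iv F123809) D42486 (iv D29335)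
theorem F177606 : act 8 n42486 = n42486 := d28_2 D29161 D42486 (iv D42486) (iv D29161) F86522
def n42487 : Q := act 9 n29161
theorem D42487 : act 9 n29161 = n42487 := rfl
theorem F177607 : act 0 n42487 = n42487 := d8_1 D42487 (iv D42487) F123805
theorem F177608 : act 1 n42487 = n29166 := d16_1 D42487 (iv D29166) (iv F123806)
theorem F177609 : act 2 n42487 = n42487 := d23_1 D42487 (iv D42487) F123807
theorem F177610 : act 4 n42487 = n42487 := d34_1 D42487 (iv D42487) F123808
theorem F177611 : act 6 n42487 = n29336 := d41_1 D42487 (iv D29336) (iv F123809)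
theorem F177612 : act 8 n42487 = n42487 := d44_1 D42487 (iv D42487) (iv D29161) F86525 D29161
def n42489 : Q := act 6 n29162
theorem D42489 : act 6 n29162 = n42489 := rfl
theorem F177618 : act 0 n42489 = n29173 := d5_1 D42489 (iv D29173) (iv F123810)
theorem F177620 : act 4 n42489 = n29163 := d31_1 D42489 (iv D29163) D29162
def n42490 : Q := act 8 n29162
theorem D42490 : act 8 n29162 = n42490 := rfl
theorem F177622 : act 0 n42490 = n29174 := d7_1 D42490 (iv D29174) (iv F123810)
theorem F177623 : act 2 n42490 = n29168 := d22_1 D42490 (iv D29168) (iv F123811)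
theorem F177624 : act 4 n42490 = n29164 := d33_1 D42490 (iv D29164) D29162
def n42491 : Q := act 7 n29163
theorem D42491 : act 7 n29163 = n42491 := rfl
theorem F177627 : act 2 n42491 = n29169 := d21_1 D42491 (iv D29169) (iv F123815)
theorem F177629 : act 5 n42491 = n29340 := d36_1 D42491 (iv D29340) (iv F123817)
def n42492 : Q := act 8 n29163
theorem D42492 : act 8 n29163 = n42492 := rfl
theorem F177631 : act 0 n42492 = n29176 := d7_1 D42492 (iv D29176) (iv F123814)
theorem F177632 : act 2 n42492 = n29170 := d22_1 D42492 (iv D29170) (iv F123815)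
theorem F177633 : act 5 n42492 = n29341 := d37_1 D42492 (iv D29341) (iv F123817)
theorem F177634 : act 6 n42492 = n29164 := d40_1 D42492 (iv D29164) D29163
def n42493 : Q := act 3 n29164
theorem D42493 : act 3 n29164 = n42493 := rfl
theorem F177635 : act 0 n42493 = n29177 := d2_1 D42493 (iv D29177) (iv F123819)
theorem F177636 : act 2 n42493 = n29206 := d17_1 D42493 (iv D29206) F86654 (iv F86546) (iv F123820)
theorem F177637 : act 5 n42493 = n29165 := d25_2 (iv F123821) D42493 (iv D29165)
theorem F177638 : act 8 n42493 = n42493 := d28_2 D29164 D42493 (iv D42493) (iv D29164) F86528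
def n42494 : Q := act 9 n29164
theorem D42494 : act 9 n29164 = n42494 := rfl
theorem F177639 : act 0 n42494 = n29178 := d8_1 D42494 (iv D29178) (iv F123819)
theorem F177640 : act 2 n42494 = n29171 := d23_1 D42494 (iv D29171) (iv F123820)
theorem F177641 : act 5 n42494 = n29166 := d38_1 D42494 (iv D29166) (iv F123821)
theorem F177642 : act 8 n42494 = n42494 := d44_1 D42494 (iv D42494) (iv D29164) F86529 D29164
def n42495 : Q := act 4 n29165
theorem D42495 : act 4 n29165 = n42495 := rfl
theorem F177644 : act 2 n42495 = n29208 := d18_1 D42495 (iv D29208) (iv F123823)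
def n42496 : Q := act 9 n29165
theorem D42496 : act 9 n29165 = n42496 := rfl
theorem F177648 : act 0 n42496 = n29180 := d8_1 D42496 (iv D29180) (iv F123822)
theorem F177649 : act 2 n42496 = n29209 := d23_1 D42496 (iv D29209) (iv F123823)
theorem F177650 : act 3 n42496 = n29166 := d29_1 D42496 (iv D29166) D29165
theorem F177651 : act 6 n42496 = n29345 := d41_1 D42496 (iv D29345) (iv F123824)
def n42497 : Q := act 5 n29167
theorem D42497 : act 5 n29167 = n42497 := rfl
theorem F177652 : act 0 n42497 = n29181 := d4_1 D42497 (iv D29181) (iv F123831)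
theorem F177655 : act 4 n42497 = n29346 := d30_1 D42497 (iv D29346) F87002 (iv F86542) (iv F123834)
def n42498 : Q := act 7 n29167
theorem D42498 : act 7 n29167 = n42498 := rfl
theorem F177661 : act 4 n42498 = n29169 := d32_1 D42498 (iv D29169) (iv F123834)
def n42499 : Q := act 8 n29167
theorem D42499 : act 8 n29167 = n42499 := rfl
theorem F177663 : act 0 n42499 = n29183 := d7_1 D42499 (iv D29183) (iv F123831)
theorem F177664 : act 1 n42499 = n42499 := d15_1 D42499 (iv D42499) F123832
theorem F177665 : act 4 n42499 = n29170 := d33_1 D42499 (iv D29170) (iv F123834)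
theorem F177666 : act 6 n42499 = n29168 := d40_1 D42499 (iv D29168) D29167
def n42500 : Q := act 3 n29168
theorem D42500 : act 3 n29168 = n42500 := rfl
theorem F177667 : act 0 n42500 = n29184 := d2_1 D42500 (iv D29184) (iv F123836)
theorem F177668 : act 1 n42500 = n42500 := d10_1 D42500 (iv D42500) F123837
theorem F177669 : act 4 n42500 = n29213 := d24_2 (iv F123838) D42500 (iv D29213) F86671 (iv F86546)
theorem F177670 : act 5 n42500 = n42500 := d25_2 F123839 D42500 (iv D42500)
theorem F177671 : act 8 n42500 = n42500 := d28_2 D29168 D42500 (iv D42500) (iv D29168) F86536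
def n42501 : Q := act 9 n29168
theorem D42501 : act 9 n29168 = n42501 := rfl
theorem F177672 : act 0 n42501 = n29185 := d8_1 D42501 (iv D29185) (iv F123836)
theorem F177673 : act 1 n42501 = n42501 := d16_1 D42501 (iv D42501) F123837
theorem F177674 : act 4 n42501 = n29171 := d34_1 D42501 (iv D29171) (iv F123838)
theorem F177675 : act 5 n42501 = n42501 := d38_1 D42501 (iv D42501) F123839
theorem F177676 : act 8 n42501 = n42501 := d44_1 D42501 (iv D42501) (iv D29168) F86538 D29168
def n42502 : Q := act 8 n29169
theorem D42502 : act 8 n29169 = n42502 := rfl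
theorem F177677 : act 0 n42502 = n29186 := d7_1 D42502 (iv D29186) (iv F123840)
theorem F177678 : act 1 n42502 = n42502 := d15_1 D42502 (iv D42502) F123841
theorem F177679 : act 3 n42502 = n29215 := d28_1 D42502 (iv D29215) F86675 (iv F86559) (iv F123842)
theorem F177680 : act 5 n42502 = n29351 := d37_1 D42502 (iv D29351) (iv F123843)
theorem F177681 : act 7 n42502 = n29170 := d42_1 D42502 (iv D29170) D29169
def n42503 : Q := act 9 n29170
theorem D42503 : act 9 n29170 = n42503 := rfl
theorem F177682 : act 0 n42503 = n29187 := d8_1 D42503 (iv D29187) (iv F123845)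
theorem F177683 : act 1 n42503 = n42503 := d16_1 D42503 (iv D42503) F123846
theorem F177684 : act 3 n42503 = n29216 := d29_1 D42503 (iv D29216) (iv F123847)
theorem F177685 : act 5 n42503 = n29352 := d38_1 D42503 (iv D29352) (iv F123848)
theorem F177686 : act 6 n42503 = n29171 := d41_1 D42503 (iv D29171) (iv F123849)
theorem F177687 : act 8 n42503 = n42503 := d44_1 D42503 (iv D42503) (iv D29170) F86543 D29170
def n42504 : Q := act 6 n29172
theorem D42504 : act 6 n29172 = n42504 := rfl
theorem F177690 : act 3 n42504 = n29173 := d26_1 D42504 (iv D29173) D29172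
def n42506 : Q := act 5 n29173
theorem D42506 : act 5 n29173 = n42506 := rfl
theorem F177699 : act 4 n42506 = n29355 := d30_1 D42506 (iv D29355) F87032 (iv F86568) (iv F123862)
def n42508 : Q := act 8 n29173
theorem D42508 : act 8 n29173 = n42508 := rfl
theorem F177707 : act 2 n42508 = n29183 := d22_1 D42508 (iv D29183) (iv F123861)
theorem F177708 : act 4 n42508 = n29176 := d33_1 D42508 (iv D29176) (iv F123862)
theorem F177709 : act 6 n42508 = n29174 := d40_1 D42508 (iv D29174) D29173
def n42509 : Q := act 3 n29174
theorem D42509 : act 3 n29174 = n42509 := rfl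
def n42510 : Q := act 9 n29174
theorem D42510 : act 9 n29174 = n42510 := rfl
theorem F177712 : act 1 n42510 = n42510 := d16_1 D42510 (iv D42510) F123864
theorem F177713 : act 2 n42510 = n29185 := d23_1 D42510 (iv D29185) (iv F123865)
theorem F177714 : act 4 n42510 = n29178 := d34_1 D42510 (iv D29178) (iv F123866)
theorem F177715 : act 5 n42510 = n42510 := d38_1 D42510 (iv D42510) F123867
theorem F177716 : act 8 n42510 = n42510 := d44_1 D42510 (iv D42510) (iv D29174) F86564 D29174
def n42511 : Q := act 8 n29175
theorem D42511 : act 8 n29175 = n42511 := rfl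
theorem F177718 : act 2 n42511 = n29186 := d22_1 D42511 (iv D29186) (iv F123869)
theorem F177719 : act 5 n42511 = n29360 := d37_1 D42511 (iv D29360) (iv F123871)
theorem F177720 : act 7 n42511 = n29176 := d42_1 D42511 (iv D29176) D29175
def n42512 : Q := act 3 n29176
theorem D42512 : act 3 n29176 = n42512 := rfl
theorem F177721 : act 1 n42512 = n42512 := d10_1 D42512 (iv D42512) F123873
theorem F177722 : act 2 n42512 = n29225 := d17_1 D42512 (iv D29225) F86700 (iv F86594) (iv F123874)
theorem F177723 : act 5 n42512 = n29361 := d25_2 (iv F123875) D42512 (iv D29361)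
theorem F177724 : act 6 n42512 = n29177 := d26_2 (iv F123876) D42512 (iv D29177)
theorem F177725 : act 8 n42512 = n42512 := d28_2 D29176 D42512 (iv D42512) (iv D29176) F86567
def n42513 : Q := act 9 n29176
theorem D42513 : act 9 n29176 = n42513 := rfl
theorem F177726 : act 1 n42513 = n42513 := d16_1 D42513 (iv D42513) F123873
theorem F177727 : act 2 n42513 = n29187 := d23_1 D42513 (iv D29187) (iv F123874)
theorem F177728 : act 5 n42513 = n29362 := d38_1 D42513 (iv D29362) (iv F123875)
theorem F177729 : act 6 n42513 = n29178 := d41_1 D42513 (iv D29178) (iv F123876)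
theorem F177730 : act 8 n42513 = n42513 := d44_1 D42513 (iv D42513) (iv D29176) F86569 D29176
def n42514 : Q := act 4 n29177
theorem D42514 : act 4 n29177 = n42514 := rfl
theorem F177731 : act 1 n42514 = n42514 := d11_1 D42514 (iv D42514) F123877
theorem F177732 : act 2 n42514 = n29227 := d18_1 D42514 (iv D29227) (iv F123878)
theorem F177733 : act 8 n42514 = n42514 := d33_2 F123880 D42514 (iv D42514)
def n42515 : Q := act 9 n29177
theorem D42515 : act 9 n29177 = n42515 := rfl
theorem F177734 : act 1 n42515 = n42515 := d16_1 D42515 (iv D42515) F123877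
theorem F177735 : act 2 n42515 = n29228 := d23_1 D42515 (iv D29228) (iv F123878)
theorem F177736 : act 3 n42515 = n29178 := d29_1 D42515 (iv D29178) D29177
theorem F177737 : act 5 n42515 = n29180 := d38_1 D42515 (iv D29180) (iv F123879)
def n42516 : Q := act 5 n29179
theorem D42516 : act 5 n29179 = n42516 := rfl
theorem F177738 : act 1 n42516 = n42516 := d12_1 D42516 (iv D42516) F123885
theorem F177739 : act 2 n42516 = n29229 := d19_1 D42516 (iv D29229) (iv F123886)
theorem F177740 : act 3 n42516 = n42516 := d25_1 D42516 (iv D42516) F123887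
theorem F177741 : act 8 n42516 = n42516 := d37_2 F123889 D42516 (iv D42516)
def n42517 : Q := act 9 n29179
theorem D42517 : act 9 n29179 = n42517 := rfl
theorem F177742 : act 1 n42517 = n42517 := d16_1 D42517 (iv D42517) F123885
theorem F177743 : act 2 n42517 = n29230 := d23_1 D42517 (iv D29230) (iv F123886)
theorem F177744 : act 3 n42517 = n42517 := d29_1 D42517 (iv D42517) F123887
theorem F177745 : act 4 n42517 = n29180 := d34_1 D42517 (iv D29180) D29179
theorem F177746 : act 6 n42517 = n29366 := d41_1 D42517 (iv D29366) (iv F123888)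
def n42518 : Q := act 8 n29180
theorem D42518 : act 8 n29180 = n42518 := rfl
theorem F177747 : act 1 n42518 = n42518 := d15_1 D42518 (iv D42518) F123890
theorem F177748 : act 2 n42518 = n29231 := d22_1 D42518 (iv D29231) (iv F123891)
theorem F177749 : act 3 n42518 = n42518 := d28_1 D42518 (iv D42518) F123892 F86581 (iv F123892)
theorem F177750 : act 6 n42518 = n29367 := d40_1 D42518 (iv D29367) (iv F123893)
theorem F177751 : act 9 n42518 = n42518 := d44_2 D29180 D42518 (iv D42518) (iv D29180) F86576
def n42519 : Q := act 7 n29181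
theorem D42519 : act 7 n29181 = n42519 := rfl
theorem F177754 : act 4 n42519 = n29368 := d32_1 D42519 (iv D29368) (iv F123896)
theorem F177755 : act 5 n42519 = n29182 := d36_1 D42519 (iv D29182) D29181
def n42520 : Q := act 8 n29181
theorem D42520 : act 8 n29181 = n42520 := rfl
theorem F177757 : act 1 n42520 = n29189 := d15_1 D42520 (iv D29189) (iv F123894)
theorem F177758 : act 4 n42520 = n29369 := d33_1 D42520 (iv D29369) (iv F123896)
theorem F177759 : act 5 n42520 = n29183 := d37_1 D42520 (iv D29183) D29181
theorem F177760 : act 6 n42520 = n42520 := d40_1 D42520 (iv D42520) F123897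
def n42521 : Q := act 8 n29182
theorem D42521 : act 8 n29182 = n42521 := rfl
theorem F177761 : act 1 n42521 = n29190 := d15_1 D42521 (iv D29190) (iv F123899)
theorem F177762 : act 4 n42521 = n29186 := d33_1 D42521 (iv D29186) (iv F123901)
theorem F177763 : act 7 n42521 = n29183 := d42_1 D42521 (iv D29183) D29182
def n42522 : Q := act 3 n29183
theorem D42522 : act 3 n29183 = n42522 := rfl
theorem F177764 : act 1 n42522 = n29191 := d10_1 D42522 (iv D29191) (iv F123903)
theorem F177765 : act 4 n42522 = n29235 := d24_2 (iv F123904) D42522 (iv D29235) F86723 (iv F86594)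
theorem F177766 : act 6 n42522 = n29184 := d26_2 (iv F123905) D42522 (iv D29184)
theorem F177767 : act 8 n42522 = n42522 := d28_2 D29183 D42522 (iv D42522) (iv D29183) F86583
def n42523 : Q := act 9 n29183
theorem D42523 : act 9 n29183 = n42523 := rfl
theorem F177768 : act 1 n42523 = n29192 := d16_1 D42523 (iv D29192) (iv F123903)
theorem F177769 : act 4 n42523 = n29187 := d34_1 D42523 (iv D29187) (iv F123904)
theorem F177770 : act 6 n42523 = n29185 := d41_1 D42523 (iv D29185) (iv F123905)
theorem F177771 : act 8 n42523 = n42523 := d44_1 D42523 (iv D42523) (iv D29183) F86585 D29183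
def n42524 : Q := act 2 n29184
theorem D42524 : act 2 n29184 = n42524 := rfl
theorem F177772 : act 4 n42524 = n29237 := d18_2 (iv F123907) D42524 (iv D29237)
theorem F177773 : act 5 n42524 = n42524 := d19_2 F123908 D42524 (iv D42524)
theorem F177774 : act 8 n42524 = n42524 := d22_2 F123909 D42524 (iv D42524)
def n42525 : Q := act 9 n29184
theorem D42525 : act 9 n29184 = n42525 := rfl
theorem F177775 : act 1 n42525 = n29194 := d16_1 D42525 (iv D29194) (iv F123906)
theorem F177776 : act 3 n42525 = n29185 := d29_1 D42525 (iv D29185) D29184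
theorem F177777 : act 4 n42525 = n29238 := d34_1 D42525 (iv D29238) (iv F123907)
theorem F177778 : act 5 n42525 = n42525 := d38_1 D42525 (iv D42525) F123908
def n42526 : Q := act 9 n29186
theorem D42526 : act 9 n29186 = n42526 := rfl
theorem F177779 : act 1 n42526 = n29195 := d16_1 D42526 (iv D29195) (iv F123914)
theorem F177780 : act 3 n42526 = n29239 := d29_1 D42526 (iv D29239) (iv F123915)
theorem F177781 : act 5 n42526 = n29375 := d38_1 D42526 (iv D29375) (iv F123916)
theorem F177782 : act 7 n42526 = n29187 := d43_1 D42526 (iv D29187) (iv F123917)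
theorem F177783 : act 8 n42526 = n42526 := d44_1 D42526 (iv D42526) (iv D29186) F86592 D29186
def n42527 : Q := act 6 n29188
theorem D42527 : act 6 n29188 = n42527 := rfl
theorem F177787 : act 4 n42527 = n29376 := d31_1 D42527 (iv D29376) (iv F123926)
def n42528 : Q := act 8 n29188
theorem D42528 : act 8 n29188 = n42528 := rfl
theorem F177790 : act 0 n42528 = n42528 := d7_1 D42528 (iv D42528) F123923
theorem F177791 : act 2 n42528 = n42528 := d22_1 D42528 (iv D42528) F123924
theorem F177792 : act 4 n42528 = n29377 := d33_1 D42528 (iv D29377) (iv F123926)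
theorem F177793 : act 5 n42528 = n29190 := d37_1 D42528 (iv D29190) (iv F123927)
theorem F177794 : act 7 n42528 = n29189 := d42_1 D42528 (iv D29189) D29188
def n42529 : Q := act 3 n29189
theorem D42529 : act 3 n29189 = n42529 := rfl
theorem F177795 : act 0 n42529 = n42529 := d2_1 D42529 (iv D42529) F123929
theorem F177796 : act 5 n42529 = n29191 := d25_2 (iv F123932) D42529 (iv D29191)
theorem F177797 : act 6 n42529 = n42529 := d26_2 F123933 D42529 (iv D42529)
theorem F177798 : act 8 n42529 = n42529 := d28_2 D29189 D42529 (iv D42529) (iv D29189) F86603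
def n42530 : Q := act 9 n29189
theorem D42530 : act 9 n29189 = n42530 := rfl
theorem F177799 : act 0 n42530 = n42530 := d8_1 D42530 (iv D42530) F123929
theorem F177800 : act 2 n42530 = n42530 := d23_1 D42530 (iv D42530) F123930
theorem F177801 : act 4 n42530 = n29379 := d34_1 D42530 (iv D29379) (iv F123931)
theorem F177802 : act 5 n42530 = n29192 := d38_1 D42530 (iv D29192) (iv F123932)
theorem F177803 : act 6 n42530 = n42530 := d41_1 D42530 (iv D42530) F123933
theorem F177804 : act 8 n42530 = n42530 := d44_1 D42530 (iv D42530) (iv D29189) F86606 D29189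
def n42531 : Q := act 3 n29190
theorem D42531 : act 3 n29190 = n42531 := rfl
theorem F177805 : act 0 n42531 = n42531 := d2_1 D42531 (iv D42531) F123934
theorem F177806 : act 4 n42531 = n29244 := d24_2 (iv F123936) D42531 (iv D29244) F86749 (iv F86627)
theorem F177807 : act 7 n42531 = n29191 := d27_2 (iv F123937) D42531 (iv D29191)
theorem F177808 : act 8 n42531 = n42531 := d28_2 D29190 D42531 (iv D42531) (iv D29190) F86609
def n42532 : Q := act 9 n29190
theorem D42532 : act 9 n29190 = n42532 := rfl
theorem F177809 : act 0 n42532 = n42532 := d8_1 D42532 (iv D42532) F123934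
theorem F177810 : act 2 n42532 = n42532 := d23_1 D42532 (iv D42532) F123935
theorem F177811 : act 4 n42532 = n29195 := d34_1 D42532 (iv D29195) (iv F123936)
theorem F177812 : act 7 n42532 = n29192 := d43_1 D42532 (iv D29192) (iv F123937)
theorem F177813 : act 8 n42532 = n42532 := d44_1 D42532 (iv D42532) (iv D29190) F86611 D29190
def n42533 : Q := act 2 n29191
theorem D42533 : act 2 n29191 = n42533 := rfl
theorem F177814 : act 0 n42533 = n42533 := d1_1 D42533 (iv D42533) F123938
theorem F177815 : act 3 n42533 = n42533 := d17_2 D29191 D42533 (iv D42533) (iv D29191) F86613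
theorem F177816 : act 4 n42533 = n29246 := d18_2 (iv F123939) D42533 (iv D29246)
theorem F177817 : act 6 n42533 = n29193 := d20_2 (iv F123940) D42533 (iv D29193)
theorem F177818 : act 8 n42533 = n42533 := d22_2 F123941 D42533 (iv D42533)
def n42534 : Q := act 9 n29191
theorem D42534 : act 9 n29191 = n42534 := rfl
theorem F177819 : act 0 n42534 = n42534 := d8_1 D42534 (iv D42534) F123938
theorem F177820 : act 3 n42534 = n29192 := d29_1 D42534 (iv D29192) D29191
theorem F177821 : act 4 n42534 = n29247 := d34_1 D42534 (iv D29247) (iv F123939)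
theorem F177822 : act 6 n42534 = n29194 := d41_1 D42534 (iv D29194) (iv F123940)
def n42535 : Q := act 1 n29193
theorem D42535 : act 1 n29193 = n42535 := rfl
theorem F177823 : act 3 n42535 = n42535 := d10_2 F123948 D42535 (iv D42535)
theorem F177824 : act 4 n42535 = n29248 := d11_2 (iv F123949) D42535 (iv D29248)
theorem F177825 : act 5 n42535 = n42535 := d12_2 F123950 D42535 (iv D42535)
theorem F177826 : act 8 n42535 = n42535 := d15_2 F123951 D42535 (iv D42535)
def n42536 : Q := act 9 n29193
theorem D42536 : act 9 n29193 = n42536 := rfl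
theorem F177827 : act 0 n42536 = n42536 := d8_1 D42536 (iv D42536) F123947
theorem F177828 : act 2 n42536 = n29194 := d23_1 D42536 (iv D29194) D29193
theorem F177829 : act 3 n42536 = n42536 := d29_1 D42536 (iv D42536) F123948
theorem F177830 : act 4 n42536 = n29249 := d34_1 D42536 (iv D29249) (iv F123949)
theorem F177831 : act 5 n42536 = n42536 := d38_1 D42536 (iv D42536) F123950
def n42537 : Q := act 8 n29194
theorem D42537 : act 8 n29194 = n42537 := rfl
theorem F177832 : act 0 n42537 = n42537 := d7_1 D42537 (iv D42537) F123952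
theorem F177833 : act 3 n42537 = n42537 := d28_1 D42537 (iv D42537) F123953 F86624 (iv F123953)
theorem F177834 : act 4 n42537 = n29250 := d33_1 D42537 (iv D29250) (iv F123954)
theorem F177835 : act 5 n42537 = n42537 := d37_1 D42537 (iv D42537) F123955
theorem F177836 : act 9 n42537 = n42537 := d44_2 D29194 D42537 (iv D42537) (iv D29194) F86619
def n42538 : Q := act 3 n29196
theorem D42538 : act 3 n29196 = n42538 := rfl
theorem F177837 : act 1 n42538 = n29201 := d10_1 D42538 (iv D29201) (iv F123962)
theorem F177838 : act 4 n42538 = n42538 := d24_2 D29196 D42538 (iv D42538) (iv D29196) F86638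
theorem F177839 : act 5 n42538 = n30967 := d25_2 (iv F123964) D42538 (iv D30967)
theorem F177840 : act 9 n42538 = n29251 := d29_2 (iv F123965) D42538 (iv D29251)
def n42539 : Q := act 6 n29196
theorem D42539 : act 6 n29196 = n42539 := rfl
theorem F177841 : act 1 n42539 = n29202 := d13_1 D42539 (iv D29202) (iv F123962)
theorem F177842 : act 2 n42539 = n42539 := d20_1 D42539 (iv D42539) F123963
theorem F177843 : act 4 n42539 = n29197 := d31_1 D42539 (iv D29197) D29196
theorem F177844 : act 9 n42539 = n29252 := d41_2 (iv F123965) D42539 (iv D29252)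
def n42540 : Q := act 8 n29196
theorem D42540 : act 8 n29196 = n42540 := rfl
theorem F177845 : act 1 n42540 = n29203 := d15_1 D42540 (iv D29203) (iv F123962)
theorem F177846 : act 2 n42540 = n42540 := d22_1 D42540 (iv D42540) F123963
theorem F177847 : act 4 n42540 = n29198 := d33_1 D42540 (iv D29198) D29196
theorem F177848 : act 5 n42540 = n30969 := d37_1 D42540 (iv D30969) (iv F123964)
def n42541 : Q := act 7 n29197
theorem D42541 : act 7 n29197 = n42541 := rfl
theorem F177849 : act 1 n42541 = n29204 := d14_1 D42541 (iv D29204) (iv F123966)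
theorem F177850 : act 2 n42541 = n42541 := d21_1 D42541 (iv D42541) F123967
theorem F177851 : act 3 n42541 = n42541 := d27_1 D42541 (iv D42541) F123968
theorem F177852 : act 5 n42541 = n29390 := d36_1 D42541 (iv D29390) (iv F123969)
theorem F177853 : act 9 n42541 = n29254 := d43_2 (iv F123970) D42541 (iv D29254)
def n42542 : Q := act 8 n29197
theorem D42542 : act 8 n29197 = n42542 := rfl
theorem F177854 : act 1 n42542 = n29205 := d15_1 D42542 (iv D29205) (iv F123966)
theorem F177855 : act 2 n42542 = n42542 := d22_1 D42542 (iv D42542) F123967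
theorem F177856 : act 5 n42542 = n29391 := d37_1 D42542 (iv D29391) (iv F123969)
theorem F177857 : act 6 n42542 = n29198 := d40_1 D42542 (iv D29198) D29197
def n42543 : Q := act 3 n29198
theorem D42543 : act 3 n29198 = n42543 := rfl
theorem F177858 : act 1 n42543 = n29206 := d10_1 D42543 (iv D29206) (iv F123971)
theorem F177859 : act 5 n42543 = n29199 := d25_2 (iv F123973) D42543 (iv D29199)
def n42544 : Q := act 9 n29198
theorem D42544 : act 9 n29198 = n42544 := rfl
theorem F177861 : act 1 n42544 = n29207 := d16_1 D42544 (iv D29207) (iv F123971)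
theorem F177862 : act 2 n42544 = n42544 := d23_1 D42544 (iv D42544) F123972
theorem F177863 : act 5 n42544 = n29200 := d38_1 D42544 (iv D29200) (iv F123973)
theorem F177864 : act 8 n42544 = n29257 := d44_1 D42544 (iv D29257) (iv D20107) (iv F86639) D29198
def n42546 : Q := act 4 n29199
theorem D42546 : act 4 n29199 = n42546 := rfl
theorem F177869 : act 3 n42546 = n30975 := d24_1 D42546 (iv D30975) (iv D21260) (iv F86642) D29199
def n42547 : Q := act 9 n29199
theorem D42547 : act 9 n29199 = n42547 := rfl
theorem F177872 : act 1 n42547 = n29209 := d16_1 D42547 (iv D29209) (iv F123974)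
theorem F177873 : act 3 n42547 = n29200 := d29_1 D42547 (iv D29200) D29199
def n42548 : Q := act 6 n29201
theorem D42548 : act 6 n29201 = n42548 := rfl
theorem F177875 : act 0 n42548 = n29217 := d5_1 D42548 (iv D29217) (iv F123982)
theorem F177876 : act 2 n42548 = n42548 := d20_1 D42548 (iv D42548) F123983
theorem F177877 : act 3 n42548 = n29202 := d26_1 D42548 (iv D29202) D29201
theorem F177878 : act 4 n42548 = n42548 := d31_1 D42548 (iv D42548) F123984
theorem F177879 : act 9 n42548 = n29261 := d41_2 (iv F123986) D42548 (iv D29261)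
def n42549 : Q := act 8 n29201
theorem D42549 : act 8 n29201 = n42549 := rfl
theorem F177880 : act 0 n42549 = n29218 := d7_1 D42549 (iv D29218) (iv F123982)
theorem F177881 : act 2 n42549 = n42549 := d22_1 D42549 (iv D42549) F123983
theorem F177882 : act 4 n42549 = n42549 := d33_1 D42549 (iv D42549) F123984
theorem F177883 : act 5 n42549 = n30978 := d37_1 D42549 (iv D30978) (iv F123985)
def n42550 : Q := act 5 n29202
theorem D42550 : act 5 n29202 = n42550 := rfl
theorem F177884 : act 0 n42550 = n29219 := d4_1 D42550 (iv D29219) (iv F123987)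
theorem F177885 : act 2 n42550 = n29210 := d19_1 D42550 (iv D29210) (iv F123988)
theorem F177886 : act 4 n42550 = n29399 := d30_1 D42550 (iv D29399) F87165 (iv F86651) (iv F123989)
theorem F177887 : act 6 n42550 = n30979 := d35_2 D29202 D42550 (iv D30979) (iv D21263) (iv F86646)
theorem F177888 : act 9 n42550 = n29263 := d38_2 (iv F123990) D42550 (iv D29263)
def n42551 : Q := act 7 n29202
theorem D42551 : act 7 n29202 = n42551 := rfl
theorem F177889 : act 0 n42551 = n29220 := d6_1 D42551 (iv D29220) (iv F123987)
theorem F177890 : act 2 n42551 = n29211 := d21_1 D42551 (iv D29211) (iv F123988)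
theorem F177891 : act 4 n42551 = n29204 := d32_1 D42551 (iv D29204) (iv F123989)
theorem F177892 : act 9 n42551 = n29264 := d43_2 (iv F123990) D42551 (iv D29264)
def n42552 : Q := act 8 n29202
theorem D42552 : act 8 n29202 = n42552 := rfl
theorem F177893 : act 0 n42552 = n29221 := d7_1 D42552 (iv D29221) (iv F123987)
theorem F177894 : act 2 n42552 = n29212 := d22_1 D42552 (iv D29212) (iv F123988)
theorem F177895 : act 4 n42552 = n29205 := d33_1 D42552 (iv D29205) (iv F123989)
theorem F177896 : act 6 n42552 = n29203 := d40_1 D42552 (iv D29203) D29202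
def n42553 : Q := act 3 n29203
theorem D42553 : act 3 n29203 = n42553 := rfl
theorem F177897 : act 0 n42553 = n29222 := d2_1 D42553 (iv D29222) (iv F123991)
theorem F177898 : act 5 n42553 = n30982 := d25_2 (iv F123994) D42553 (iv D30982)
def n42554 : Q := act 9 n29203
theorem D42554 : act 9 n29203 = n42554 := rfl
theorem F177899 : act 0 n42554 = n29223 := d8_1 D42554 (iv D29223) (iv F123991)
theorem F177900 : act 2 n42554 = n29214 := d23_1 D42554 (iv D29214) (iv F123992)
theorem F177901 : act 4 n42554 = n29207 := d34_1 D42554 (iv D29207) (iv F123993)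
theorem F177902 : act 5 n42554 = n30983 := d38_1 D42554 (iv D30983) (iv F123994)
theorem F177903 : act 8 n42554 = n29267 := d44_1 D42554 (iv D29267) (iv D20112) (iv F86647) D29203
def n42555 : Q := act 8 n29204
theorem D42555 : act 8 n29204 = n42555 := rfl
theorem F177904 : act 0 n42555 = n29224 := d7_1 D42555 (iv D29224) (iv F123995)
theorem F177905 : act 2 n42555 = n29215 := d22_1 D42555 (iv D29215) (iv F123996)
theorem F177906 : act 5 n42555 = n29404 := d37_1 D42555 (iv D29404) (iv F123998)
theorem F177907 : act 7 n42555 = n29205 := d42_1 D42555 (iv D29205) D29204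
def n42556 : Q := act 3 n29205
theorem D42556 : act 3 n29205 = n42556 := rfl
theorem F177908 : act 0 n42556 = n29225 := d2_1 D42556 (iv D29225) (iv F124000)
theorem F177909 : act 5 n42556 = n29405 := d25_2 (iv F124002) D42556 (iv D29405)
theorem F177910 : act 6 n42556 = n29206 := d26_2 (iv F124003) D42556 (iv D29206)
theorem F177911 : act 8 n42556 = n42556 := d28_2 D29205 D42556 (iv D42556) (iv D29205) F86650
def n42557 : Q := act 9 n29205
theorem D42557 : act 9 n29205 = n42557 := rfl
theorem F177912 : act 0 n42557 = n29226 := d8_1 D42557 (iv D29226) (iv F124000)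
theorem F177913 : act 2 n42557 = n29216 := d23_1 D42557 (iv D29216) (iv F124001)
theorem F177914 : act 5 n42557 = n29406 := d38_1 D42557 (iv D29406) (iv F124002)
theorem F177915 : act 6 n42557 = n29207 := d41_1 D42557 (iv D29207) (iv F124003)
theorem F177916 : act 8 n42557 = n29270 := d44_1 D42557 (iv D29270) (iv D20114) (iv F86652) D29205
def n42558 : Q := act 4 n29206
theorem D42558 : act 4 n29206 = n42558 := rfl
theorem F177917 : act 0 n42558 = n29227 := d3_1 D42558 (iv D29227) (iv F124004)
theorem F177918 : act 8 n42558 = n42558 := d33_2 F124006 D42558 (iv D42558)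
def n42559 : Q := act 9 n29206
theorem D42559 : act 9 n29206 = n42559 := rfl
theorem F177919 : act 0 n42559 = n29228 := d8_1 D42559 (iv D29228) (iv F124004)
theorem F177920 : act 3 n42559 = n29207 := d29_1 D42559 (iv D29207) D29206
theorem F177921 : act 5 n42559 = n29209 := d38_1 D42559 (iv D29209) (iv F124005)
def n42561 : Q := act 9 n29208
theorem D42561 : act 9 n29208 = n42561 := rfl
theorem F177927 : act 4 n42561 = n29209 := d34_1 D42561 (iv D29209) D29208
def n42562 : Q := act 8 n29209
theorem D42562 : act 8 n29209 = n42562 := rfl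
theorem F177929 : act 0 n42562 = n29231 := d7_1 D42562 (iv D29231) (iv F124015)
theorem F177930 : act 3 n42562 = n29275 := d28_1 D42562 (iv D29275) F86818 (iv F86663) (iv F124016)
theorem F177931 : act 6 n42562 = n29411 := d40_1 D42562 (iv D29411) (iv F124017)
theorem F177932 : act 9 n42562 = n42562 := d44_2 D29209 D42562 (iv D42562) (iv D29209) F86658
def n42563 : Q := act 7 n29210
theorem D42563 : act 7 n29210 = n42563 := rfl
theorem F177933 : act 0 n42563 = n29232 := d6_1 D42563 (iv D29232) (iv F124018)
theorem F177934 : act 1 n42563 = n42563 := d14_1 D42563 (iv D42563) F124019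
theorem F177935 : act 3 n42563 = n42563 := d27_1 D42563 (iv D42563) F124020
theorem F177936 : act 4 n42563 = n29412 := d32_1 D42563 (iv D29412) (iv F124021)
theorem F177937 : act 5 n42563 = n29211 := d36_1 D42563 (iv D29211) D29210
theorem F177938 : act 9 n42563 = n29276 := d43_2 (iv F124023) D42563 (iv D29276)
def n42564 : Q := act 8 n29210
theorem D42564 : act 8 n29210 = n42564 := rfl
theorem F177939 : act 0 n42564 = n29233 := d7_1 D42564 (iv D29233) (iv F124018)
theorem F177940 : act 1 n42564 = n42564 := d15_1 D42564 (iv D42564) F124019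
theorem F177941 : act 4 n42564 = n29413 := d33_1 D42564 (iv D29413) (iv F124021)
theorem F177942 : act 5 n42564 = n29212 := d37_1 D42564 (iv D29212) D29210
theorem F177943 : act 6 n42564 = n30993 := d40_1 D42564 (iv D30993) (iv F124022)
def n42565 : Q := act 8 n29211
theorem D42565 : act 8 n29211 = n42565 := rfl
theorem F177944 : act 0 n42565 = n29234 := d7_1 D42565 (iv D29234) (iv F124024)
theorem F177945 : act 1 n42565 = n42565 := d15_1 D42565 (iv D42565) F124025
theorem F177946 : act 4 n42565 = n29215 := d33_1 D42565 (iv D29215) (iv F124027)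
theorem F177947 : act 7 n42565 = n29212 := d42_1 D42565 (iv D29212) D29211
def n42566 : Q := act 3 n29212
theorem D42566 : act 3 n29212 = n42566 := rfl
theorem F177948 : act 0 n42566 = n29235 := d2_1 D42566 (iv D29235) (iv F124029)
theorem F177949 : act 1 n42566 = n42566 := d10_1 D42566 (iv D42566) F124030
theorem F177950 : act 6 n42566 = n29213 := d26_2 (iv F124032) D42566 (iv D29213)
theorem F177951 : act 8 n42566 = n42566 := d28_2 D29212 D42566 (iv D42566) (iv D29212) F86666
def n42567 : Q := act 9 n29212
theorem D42567 : act 9 n29212 = n42567 := rfl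
theorem F177952 : act 0 n42567 = n29236 := d8_1 D42567 (iv D29236) (iv F124029)
theorem F177953 : act 1 n42567 = n42567 := d16_1 D42567 (iv D42567) F124030
theorem F177954 : act 4 n42567 = n29216 := d34_1 D42567 (iv D29216) (iv F124031)
theorem F177955 : act 6 n42567 = n29214 := d41_1 D42567 (iv D29214) (iv F124032)
theorem F177956 : act 8 n42567 = n29280 := d44_1 D42567 (iv D29280) (iv D20121) (iv F86668) D29212
def n42568 : Q := act 2 n29213
theorem D42568 : act 2 n29213 = n42568 := rfl
theorem F177957 : act 0 n42568 = n29237 := d1_1 D42568 (iv D29237) (iv F124033)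
theorem F177958 : act 5 n42568 = n30997 := d19_2 (iv F124035) D42568 (iv D30997)
theorem F177959 : act 8 n42568 = n42568 := d22_2 F124036 D42568 (iv D42568)
def n42569 : Q := act 9 n29213
theorem D42569 : act 9 n29213 = n42569 := rfl
theorem F177960 : act 0 n42569 = n29238 := d8_1 D42569 (iv D29238) (iv F124033)
theorem F177961 : act 1 n42569 = n42569 := d16_1 D42569 (iv D42569) F124034
theorem F177962 : act 3 n42569 = n29214 := d29_1 D42569 (iv D29214) D29213
theorem F177963 : act 5 n42569 = n30998 := d38_1 D42569 (iv D30998) (iv F124035)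
def n42570 : Q := act 9 n29215
theorem D42570 : act 9 n29215 = n42570 := rfl
theorem F177964 : act 0 n42570 = n29239 := d8_1 D42570 (iv D29239) (iv F124042)
theorem F177965 : act 1 n42570 = n42570 := d16_1 D42570 (iv D42570) F124043
theorem F177966 : act 5 n42570 = n29419 := d38_1 D42570 (iv D29419) (iv F124044)
theorem F177967 : act 7 n42570 = n29216 := d43_1 D42570 (iv D29216) (iv F124045)
theorem F177968 : act 8 n42570 = n29283 := d44_1 D42570 (iv D29283) (iv D20124) (iv F86677) D29215
def n42571 : Q := act 5 n29217
theorem D42571 : act 5 n29217 = n42571 := rfl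
theorem F177969 : act 2 n42571 = n42571 := d19_1 D42571 (iv D42571) F124051
theorem F177970 : act 3 n42571 = n29219 := d25_1 D42571 (iv D29219) (iv F124052)
theorem F177971 : act 6 n42571 = n31000 := d35_2 D29217 D42571 (iv D31000) (iv D21278) (iv F86688)
theorem F177972 : act 9 n42571 = n29284 := d38_2 (iv F124054) D42571 (iv D29284)
def n42572 : Q := act 7 n29217
theorem D42572 : act 7 n29217 = n42572 := rfl
theorem F177973 : act 2 n42572 = n42572 := d21_1 D42572 (iv D42572) F124051
theorem F177974 : act 3 n42572 = n29220 := d27_1 D42572 (iv D29220) (iv F124052)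
theorem F177975 : act 4 n42572 = n42572 := d32_1 D42572 (iv D42572) F124053
theorem F177976 : act 9 n42572 = n29285 := d43_2 (iv F124054) D42572 (iv D29285)
def n42573 : Q := act 8 n29217
theorem D42573 : act 8 n29217 = n42573 := rfl
theorem F177977 : act 2 n42573 = n42573 := d22_1 D42573 (iv D42573) F124051
theorem F177978 : act 4 n42573 = n42573 := d33_1 D42573 (iv D42573) F124053
theorem F177979 : act 6 n42573 = n29218 := d40_1 D42573 (iv D29218) D29217
def n42574 : Q := act 3 n29218
theorem D42574 : act 3 n29218 = n42574 := rfl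
theorem F177980 : act 5 n42574 = n31003 := d25_2 (iv F124057) D42574 (iv D31003)
theorem F177981 : act 8 n42574 = n29222 := d28_2 D29218 D42574 (iv D29222) (iv D20083) D20081
def n42575 : Q := act 9 n29218
theorem D42575 : act 9 n29218 = n42575 := rfl
theorem F177982 : act 2 n42575 = n42575 := d23_1 D42575 (iv D42575) F124055
theorem F177983 : act 4 n42575 = n42575 := d34_1 D42575 (iv D42575) F124056
theorem F177984 : act 5 n42575 = n31004 := d38_1 D42575 (iv D31004) (iv F124057)
theorem F177985 : act 8 n42575 = n29288 := d44_1 D42575 (iv D29288) (iv D20127) (iv F86689) D29218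
def n42576 : Q := act 7 n29219
theorem D42576 : act 7 n29219 = n42576 := rfl
theorem F177986 : act 2 n42576 = n29232 := d21_1 D42576 (iv D29232) (iv F124058)
theorem F177987 : act 4 n42576 = n29425 := d32_1 D42576 (iv D29425) (iv F124059)
theorem F177988 : act 5 n42576 = n29220 := d36_1 D42576 (iv D29220) D29219
theorem F177989 : act 9 n42576 = n29289 := d43_2 (iv F124061) D42576 (iv D29289)
def n42577 : Q := act 8 n29219
theorem D42577 : act 8 n29219 = n42577 := rfl
theorem F177990 : act 2 n42577 = n29233 := d22_1 D42577 (iv D29233) (iv F124058)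
theorem F177991 : act 4 n42577 = n29426 := d33_1 D42577 (iv D29426) (iv F124059)
theorem F177992 : act 5 n42577 = n29221 := d37_1 D42577 (iv D29221) D29219
theorem F177993 : act 6 n42577 = n31006 := d40_1 D42577 (iv D31006) (iv F124060)
def n42578 : Q := act 8 n29220
theorem D42578 : act 8 n29220 = n42578 := rfl
theorem F177994 : act 2 n42578 = n29234 := d22_1 D42578 (iv D29234) (iv F124062)
theorem F177995 : act 4 n42578 = n29224 := d33_1 D42578 (iv D29224) (iv F124063)
theorem F177996 : act 7 n42578 = n29221 := d42_1 D42578 (iv D29221) D29220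
def n42579 : Q := act 3 n29221
theorem D42579 : act 3 n29221 = n42579 := rfl
theorem F177997 : act 6 n42579 = n29222 := d26_2 (iv F124067) D42579 (iv D29222)
def n42580 : Q := act 9 n29221
theorem D42580 : act 9 n29221 = n42580 := rfl
theorem F177998 : act 2 n42580 = n29236 := d23_1 D42580 (iv D29236) (iv F124065)
theorem F177999 : act 4 n42580 = n29226 := d34_1 D42580 (iv D29226) (iv F124066)
theorem F178000 : act 6 n42580 = n29223 := d41_1 D42580 (iv D29223) (iv F124067)
theorem F178001 : act 8 n42580 = n29293 := d44_1 D42580 (iv D29293) (iv D20130) (iv F86692) D29221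
def n42581 : Q := act 2 n29222
theorem D42581 : act 2 n29222 = n42581 := rfl
theorem F178002 : act 3 n42581 = n29237 := d17_2 D29222 D42581 (iv D29237) (iv D20093) (iv F86693)
theorem F178003 : act 5 n42581 = n31010 := d19_2 (iv F124068) D42581 (iv D31010)
def n42582 : Q := act 4 n29222
theorem D42582 : act 4 n29222 = n42582 := rfl
theorem F178004 : act 3 n42582 = n29227 := d24_1 D42582 (iv D29227) (iv D20086) (iv F86694) D29222
def n42583 : Q := act 9 n29222
theorem D42583 : act 9 n29222 = n42583 := rfl
theorem F178005 : act 3 n42583 = n29223 := d29_1 D42583 (iv D29223) D29222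
theorem F178006 : act 5 n42583 = n31012 := d38_1 D42583 (iv D31012) (iv F124068)
def n42584 : Q := act 3 n29224
theorem D42584 : act 3 n29224 = n42584 := rfl
theorem F178007 : act 5 n42584 = n29433 := d25_2 (iv F124074) D42584 (iv D29433)
theorem F178008 : act 7 n42584 = n29225 := d27_2 (iv F124075) D42584 (iv D29225)
theorem F178009 : act 8 n42584 = n42584 := d28_2 D29224 D42584 (iv D42584) (iv D29224) F86697
def n42585 : Q := act 9 n29224
theorem D42585 : act 9 n29224 = n42585 := rfl
theorem F178010 : act 2 n42585 = n29239 := d23_1 D42585 (iv D29239) (iv F124073)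
theorem F178011 : act 5 n42585 = n29434 := d38_1 D42585 (iv D29434) (iv F124074)
theorem F178012 : act 7 n42585 = n29226 := d43_1 D42585 (iv D29226) (iv F124075)
theorem F178013 : act 8 n42585 = n29298 := d44_1 D42585 (iv D29298) (iv D20133) (iv F86699) D29224
def n42586 : Q := act 4 n29225
theorem D42586 : act 4 n29225 = n42586 := rfl
theorem F178014 : act 6 n42586 = n29227 := d31_2 (iv F124077) D42586 (iv D29227)
theorem F178015 : act 8 n42586 = n42586 := d33_2 F124078 D42586 (iv D42586)
def n42587 : Q := act 9 n29225
theorem D42587 : act 9 n29225 = n42587 := rfl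
theorem F178016 : act 3 n42587 = n29226 := d29_1 D42587 (iv D29226) D29225
theorem F178017 : act 5 n42587 = n29436 := d38_1 D42587 (iv D29436) (iv F124076)
theorem F178018 : act 6 n42587 = n29228 := d41_1 D42587 (iv D29228) (iv F124077)
def n42588 : Q := act 5 n29227
theorem D42588 : act 5 n29227 = n42588 := rfl
theorem F178019 : act 4 n42588 = n29229 := d30_1 D42588 (iv D29229) (iv D20088) (iv F86703) D29227
theorem F178020 : act 8 n42588 = n42588 := d37_2 F124083 D42588 (iv D42588)
def n42589 : Q := act 9 n29227
theorem D42589 : act 9 n29227 = n42589 := rfl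
theorem F178021 : act 4 n42589 = n29228 := d34_1 D42589 (iv D29228) D29227
def n42590 : Q := act 8 n29228
theorem D42590 : act 8 n29228 = n42590 := rfl
theorem F178022 : act 3 n42590 = n29303 := d28_1 D42590 (iv D29303) F86883 (iv F86707) (iv F124084)
theorem F178023 : act 5 n42590 = n29231 := d37_1 D42590 (iv D29231) (iv F124085)
theorem F178024 : act 9 n42590 = n42590 := d44_2 D29228 D42590 (iv D42590) (iv D29228) F86704
def n42591 : Q := act 6 n29229
theorem D42591 : act 6 n29229 = n42591 := rfl
theorem F178026 : act 5 n42591 = n29440 := d35_1 D42591 (iv D29440) (iv D20229) (iv F86709) D29229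
theorem F178027 : act 8 n42591 = n42591 := d40_2 F124087 D42591 (iv D42591)
def n42592 : Q := act 9 n29229
theorem D42592 : act 9 n29229 = n42592 := rfl
theorem F178029 : act 5 n42592 = n29230 := d38_1 D42592 (iv D29230) D29229
def n42593 : Q := act 8 n29230
theorem D42593 : act 8 n29230 = n42593 := rfl
theorem F178030 : act 4 n42593 = n29231 := d33_1 D42593 (iv D29231) (iv F124089)
theorem F178031 : act 6 n42593 = n29442 := d40_1 D42593 (iv D29442) (iv F124090)
theorem F178032 : act 9 n42593 = n42593 := d44_2 D29230 D42593 (iv D42593) (iv D29230) F86710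
def n42594 : Q := act 6 n29232
theorem D42594 : act 6 n29232 = n42594 := rfl
theorem F178033 : act 1 n42594 = n29240 := d13_1 D42594 (iv D29240) (iv F124094)
theorem F178034 : act 3 n42594 = n42594 := d26_1 D42594 (iv D42594) F124095
theorem F178035 : act 4 n42594 = n29443 := d31_1 D42594 (iv D29443) (iv F124096)
theorem F178036 : act 7 n42594 = n31023 := d39_2 D29232 D42594 (iv D31023) (iv D21293) (iv F86716)
theorem F178037 : act 9 n42594 = n29307 := d41_2 (iv F124098) D42594 (iv D29307)
def n42595 : Q := act 8 n29232
theorem D42595 : act 8 n29232 = n42595 := rfl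
theorem F178038 : act 1 n42595 = n29241 := d15_1 D42595 (iv D29241) (iv F124094)
theorem F178039 : act 4 n42595 = n29444 := d33_1 D42595 (iv D29444) (iv F124096)
theorem F178040 : act 5 n42595 = n29234 := d37_1 D42595 (iv D29234) (iv F124097)
theorem F178041 : act 7 n42595 = n29233 := d42_1 D42595 (iv D29233) D29232
def n42596 : Q := act 3 n29233
theorem D42596 : act 3 n29233 = n42596 := rfl
theorem F178042 : act 1 n42596 = n29242 := d10_1 D42596 (iv D29242) (iv F124099)
theorem F178043 : act 5 n42596 = n29235 := d25_2 (iv F124101) D42596 (iv D29235)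
theorem F178044 : act 6 n42596 = n31025 := d26_2 (iv F124102) D42596 (iv D31025)
theorem F178045 : act 8 n42596 = n42596 := d28_2 D29233 D42596 (iv D42596) (iv D29233) F86714
def n42597 : Q := act 9 n29233
theorem D42597 : act 9 n29233 = n42597 := rfl
theorem F178046 : act 1 n42597 = n29243 := d16_1 D42597 (iv D29243) (iv F124099)
theorem F178047 : act 4 n42597 = n29446 := d34_1 D42597 (iv D29446) (iv F124100)
theorem F178048 : act 5 n42597 = n29236 := d38_1 D42597 (iv D29236) (iv F124101)
theorem F178049 : act 6 n42597 = n31026 := d41_1 D42597 (iv D31026) (iv F124102)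
theorem F178050 : act 8 n42597 = n29310 := d44_1 D42597 (iv D29310) (iv D20142) (iv F86717) D29233
def n42598 : Q := act 3 n29234
theorem D42598 : act 3 n29234 = n42598 := rfl
theorem F178051 : act 1 n42598 = n29244 := d10_1 D42598 (iv D29244) (iv F124103)
theorem F178052 : act 7 n42598 = n29235 := d27_2 (iv F124105) D42598 (iv D29235)
theorem F178053 : act 8 n42598 = n42598 := d28_2 D29234 D42598 (iv D42598) (iv D29234) F86719
def n42599 : Q := act 9 n29234
theorem D42599 : act 9 n29234 = n42599 := rfl
theorem F178054 : act 1 n42599 = n29245 := d16_1 D42599 (iv D29245) (iv F124103)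
theorem F178055 : act 4 n42599 = n29239 := d34_1 D42599 (iv D29239) (iv F124104)
theorem F178056 : act 7 n42599 = n29236 := d43_1 D42599 (iv D29236) (iv F124105)
theorem F178057 : act 8 n42599 = n29312 := d44_1 D42599 (iv D29312) (iv D20143) (iv F86721) D29234
def n42600 : Q := act 2 n29235
theorem D42600 : act 2 n29235 = n42600 := rfl
theorem F178058 : act 6 n42600 = n29237 := d20_2 (iv F124107) D42600 (iv D29237)
theorem F178059 : act 8 n42600 = n42600 := d22_2 F124108 D42600 (iv D42600)
def n42601 : Q := act 9 n29235
theorem D42601 : act 9 n29235 = n42601 := rfl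
theorem F178060 : act 1 n42601 = n29247 := d16_1 D42601 (iv D29247) (iv F124106)
theorem F178061 : act 3 n42601 = n29236 := d29_1 D42601 (iv D29236) D29235
theorem F178062 : act 6 n42601 = n29238 := d41_1 D42601 (iv D29238) (iv F124107)
def n42602 : Q := act 1 n29237
theorem D42602 : act 1 n29237 = n42602 := rfl
theorem F178063 : act 2 n42602 = n29248 := d9_2 D29237 D42602 (iv D29248) (iv D20102) (iv F86725)
theorem F178064 : act 5 n42602 = n31031 := d12_2 (iv F124113) D42602 (iv D31031)
theorem F178065 : act 8 n42602 = n42602 := d15_2 F124114 D42602 (iv D42602)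
def n42603 : Q := act 9 n29237
theorem D42603 : act 9 n29237 = n42603 := rfl
theorem F178066 : act 2 n42603 = n29238 := d23_1 D42603 (iv D29238) D29237
theorem F178067 : act 5 n42603 = n31032 := d38_1 D42603 (iv D31032) (iv F124113)
def n42604 : Q := act 8 n29238
theorem D42604 : act 8 n29238 = n42604 := rfl
theorem F178068 : act 1 n42604 = n29250 := d15_1 D42604 (iv D29250) (iv F124115)
theorem F178069 : act 3 n42604 = n29317 := d28_1 D42604 (iv D29317) F86917 (iv F86731) (iv F124116)
theorem F178070 : act 5 n42604 = n31033 := d37_1 D42604 (iv D31033) (iv F124117)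
theorem F178071 : act 9 n42604 = n42604 := d44_2 D29238 D42604 (iv D42604) (iv D29238) F86727
def n42605 : Q := act 8 n29240
theorem D42605 : act 8 n29240 = n42605 := rfl
theorem F178072 : act 0 n42605 = n42605 := d7_1 D42605 (iv D42605) F124122
theorem F178073 : act 4 n42605 = n29454 := d33_1 D42605 (iv D29454) (iv F124124)
theorem F178074 : act 6 n42605 = n29241 := d40_1 D42605 (iv D29241) D29240
theorem F178075 : act 7 n42605 = n31034 := d42_1 D42605 (iv D31034) (iv F124125)
def n42606 : Q := act 3 n29241
theorem D42606 : act 3 n29241 = n42606 := rfl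
theorem F178076 : act 0 n42606 = n42606 := d2_1 D42606 (iv D42606) F124127
theorem F178077 : act 5 n42606 = n29244 := d25_2 (iv F124129) D42606 (iv D29244)
theorem F178078 : act 7 n42606 = n29242 := d27_2 (iv F124130) D42606 (iv D29242)
theorem F178079 : act 8 n42606 = n42606 := d28_2 D29241 D42606 (iv D42606) (iv D29241) F86740
def n42607 : Q := act 9 n29241
theorem D42607 : act 9 n29241 = n42607 := rfl
theorem F178080 : act 0 n42607 = n42607 := d8_1 D42607 (iv D42607) F124127
theorem F178081 : act 4 n42607 = n29456 := d34_1 D42607 (iv D29456) (iv F124128)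
theorem F178082 : act 5 n42607 = n29245 := d38_1 D42607 (iv D29245) (iv F124129)
theorem F178083 : act 7 n42607 = n29243 := d43_1 D42607 (iv D29243) (iv F124130)
theorem F178084 : act 8 n42607 = n29320 := d44_1 D42607 (iv D29320) (iv D20150) (iv F86743) D29241
def n42608 : Q := act 2 n29242
theorem D42608 : act 2 n29242 = n42608 := rfl
theorem F178085 : act 0 n42608 = n42608 := d1_1 D42608 (iv D42608) F124131
theorem F178086 : act 5 n42608 = n29246 := d19_2 (iv F124132) D42608 (iv D29246)
theorem F178087 : act 6 n42608 = n31037 := d20_2 (iv F124133) D42608 (iv D31037)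
theorem F178088 : act 8 n42608 = n42608 := d22_2 F124134 D42608 (iv D42608)
def n42609 : Q := act 4 n29242
theorem D42609 : act 4 n29242 = n42609 := rfl
theorem F178089 : act 0 n42609 = n42609 := d3_1 D42609 (iv D42609) F124131
theorem F178090 : act 3 n42609 = n29458 := d24_1 D42609 (iv D29458) (iv D20242) (iv F86745) D29242
theorem F178091 : act 6 n42609 = n31038 := d31_2 (iv F124133) D42609 (iv D31038)
theorem F178092 : act 8 n42609 = n42609 := d33_2 F124134 D42609 (iv D42609)
def n42610 : Q := act 9 n29242
theorem D42610 : act 9 n29242 = n42610 := rfl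
theorem F178093 : act 0 n42610 = n42610 := d8_1 D42610 (iv D42610) F124131
theorem F178094 : act 3 n42610 = n29243 := d29_1 D42610 (iv D29243) D29242
theorem F178095 : act 5 n42610 = n29247 := d38_1 D42610 (iv D29247) (iv F124132)
theorem F178096 : act 6 n42610 = n31039 := d41_1 D42610 (iv D31039) (iv F124133)
def n42611 : Q := act 2 n29244
theorem D42611 : act 2 n29244 = n42611 := rfl
theorem F178097 : act 0 n42611 = n42611 := d1_1 D42611 (iv D42611) F124140
theorem F178098 : act 7 n42611 = n29246 := d21_2 (iv F124141) D42611 (iv D29246)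
theorem F178099 : act 8 n42611 = n42611 := d22_2 F124142 D42611 (iv D42611)
def n42612 : Q := act 9 n29244
theorem D42612 : act 9 n29244 = n42612 := rfl
theorem F178100 : act 0 n42612 = n42612 := d8_1 D42612 (iv D42612) F124140
theorem F178101 : act 3 n42612 = n29245 := d29_1 D42612 (iv D29245) D29244
theorem F178102 : act 7 n42612 = n29247 := d43_1 D42612 (iv D29247) (iv F124141)
def n42613 : Q := act 1 n29246
theorem D42613 : act 1 n29246 = n42613 := rfl
theorem F178103 : act 6 n42613 = n29248 := d13_2 (iv F124148) D42613 (iv D29248)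
theorem F178104 : act 8 n42613 = n42613 := d15_2 F124149 D42613 (iv D42613)
def n42614 : Q := act 9 n29246
theorem D42614 : act 9 n29246 = n42614 := rfl
theorem F178105 : act 0 n42614 = n42614 := d8_1 D42614 (iv D42614) F124147
theorem F178106 : act 2 n42614 = n29247 := d23_1 D42614 (iv D29247) D29246
theorem F178107 : act 6 n42614 = n29249 := d41_1 D42614 (iv D29249) (iv F124148)
def n42615 : Q := act 8 n29247
theorem D42615 : act 8 n29247 = n42615 := rfl
theorem F178108 : act 0 n42615 = n42615 := d7_1 D42615 (iv D42615) F124150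
theorem F178109 : act 3 n42615 = n29328 := d28_1 D42615 (iv D29328) F86952 (iv F86757) (iv F124151)
theorem F178110 : act 6 n42615 = n29250 := d40_1 D42615 (iv D29250) (iv F124152)
theorem F178111 : act 9 n42615 = n42615 := d44_2 D29247 D42615 (iv D42615) (iv D29247) F86753
def n42616 : Q := act 0 n29248
theorem D42616 : act 0 n29248 = n42616 := rfl
theorem F178112 : act 1 n42616 = n42616 := d0_2 D29248 D42616 (iv D42616) (iv D29248) F86758
theorem F178113 : act 5 n42616 = n31045 := d4_2 (iv F124153) D42616 (iv D31045)
theorem F178114 : act 8 n42616 = n42616 := d7_2 F124154 D42616 (iv D42616)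
def n42617 : Q := act 9 n29248
theorem D42617 : act 9 n29248 = n42617 := rfl
theorem F178115 : act 1 n42617 = n29249 := d16_1 D42617 (iv D29249) D29248
theorem F178116 : act 5 n42617 = n31046 := d38_1 D42617 (iv D31046) (iv F124153)
def n42618 : Q := act 8 n29249
theorem D42618 : act 8 n29249 = n42618 := rfl
theorem F178117 : act 0 n42618 = n42618 := d7_1 D42618 (iv D42618) F124155
theorem F178118 : act 2 n42618 = n29250 := d22_1 D42618 (iv D29250) (iv F124156)
theorem F178119 : act 5 n42618 = n31047 := d37_1 D42618 (iv D31047) (iv F124157)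
theorem F178120 : act 9 n42618 = n42618 := d44_2 D29249 D42618 (iv D42618) (iv D29249) F86760
def n42619 : Q := act 2 n29251
theorem D42619 : act 2 n29251 = n42619 := rfl
theorem F178121 : act 1 n42619 = n42619 := d9_1 D42619 (iv D42619) F124162 F86786 (iv F124162)
theorem F178122 : act 3 n42619 = n42619 := d17_2 D29251 D42619 (iv D42619) (iv D29251) F86769
theorem F178123 : act 4 n42619 = n42619 := d18_2 F124163 D42619 (iv D42619)
theorem F178124 : act 5 n42619 = n31048 := d19_2 (iv F124164) D42619 (iv D31048)
def n42620 : Q := act 6 n29251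
theorem D42620 : act 6 n29251 = n42620 := rfl
theorem F178125 : act 1 n42620 = n29261 := d13_1 D42620 (iv D29261) (iv F124162)
theorem F178126 : act 3 n42620 = n29252 := d26_1 D42620 (iv D29252) D29251
theorem F178127 : act 4 n42620 = n42620 := d31_1 D42620 (iv D42620) F124163
def n42621 : Q := act 8 n29251
theorem D42621 : act 8 n29251 = n42621 := rfl
theorem F178128 : act 1 n42621 = n29262 := d15_1 D42621 (iv D29262) (iv F124162)
theorem F178129 : act 4 n42621 = n42621 := d33_1 D42621 (iv D42621) F124163
theorem F178130 : act 5 n42621 = n31050 := d37_1 D42621 (iv D31050) (iv F124164)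
def n42622 : Q := act 5 n29252
theorem D42622 : act 5 n29252 = n42622 := rfl
theorem F178131 : act 1 n42622 = n29263 := d12_1 D42622 (iv D29263) (iv F124165)
theorem F178132 : act 2 n42622 = n42622 := d19_1 D42622 (iv D42622) F124166
theorem F178133 : act 4 n42622 = n29471 := d30_1 D42622 (iv D29471) F87355 (iv F86774) (iv F124167)
theorem F178134 : act 6 n42622 = n31051 := d35_2 D29252 D42622 (iv D31051) (iv D21313) (iv F86770)
def n42623 : Q := act 7 n29252
theorem D42623 : act 7 n29252 = n42623 := rfl
theorem F178135 : act 1 n42623 = n29264 := d14_1 D42623 (iv D29264) (iv F124165)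
theorem F178136 : act 2 n42623 = n42623 := d21_1 D42623 (iv D42623) F124166
theorem F178137 : act 4 n42623 = n29254 := d32_1 D42623 (iv D29254) (iv F124167)
def n42624 : Q := act 8 n29252
theorem D42624 : act 8 n29252 = n42624 := rfl
theorem F178138 : act 1 n42624 = n29265 := d15_1 D42624 (iv D29265) (iv F124165)
theorem F178139 : act 2 n42624 = n42624 := d22_1 D42624 (iv D42624) F124166
theorem F178140 : act 4 n42624 = n29255 := d33_1 D42624 (iv D29255) (iv F124167)
theorem F178141 : act 6 n42624 = n29253 := d40_1 D42624 (iv D29253) D29252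
def n42625 : Q := act 3 n29253
theorem D42625 : act 3 n29253 = n42625 := rfl
theorem F178142 : act 1 n42625 = n29266 := d10_1 D42625 (iv D29266) (iv F124168)
def n42626 : Q := act 9 n29253
theorem D42626 : act 9 n29253 = n42626 := rfl
theorem F178144 : act 1 n42626 = n29267 := d16_1 D42626 (iv D29267) (iv F124168)
theorem F178145 : act 2 n42626 = n42626 := d23_1 D42626 (iv D42626) F124169
theorem F178146 : act 4 n42626 = n29257 := d34_1 D42626 (iv D29257) (iv F124170)
def n42627 : Q := act 8 n29254
theorem D42627 : act 8 n29254 = n42627 := rfl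
theorem F178148 : act 1 n42627 = n29268 := d15_1 D42627 (iv D29268) (iv F124172)
theorem F178149 : act 2 n42627 = n42627 := d22_1 D42627 (iv D42627) F124173
theorem F178150 : act 5 n42627 = n29476 := d37_1 D42627 (iv D29476) (iv F124175)
theorem F178151 : act 7 n42627 = n29255 := d42_1 D42627 (iv D29255) D29254
def n42628 : Q := act 3 n29255
theorem D42628 : act 3 n29255 = n42628 := rfl
theorem F178152 : act 1 n42628 = n29269 := d10_1 D42628 (iv D29269) (iv F124176)
theorem F178154 : act 6 n42628 = n29256 := d26_2 (iv F124179) D42628 (iv D29256)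
def n42629 : Q := act 9 n29255
theorem D42629 : act 9 n29255 = n42629 := rfl
theorem F178156 : act 1 n42629 = n29270 := d16_1 D42629 (iv D29270) (iv F124176)
theorem F178157 : act 2 n42629 = n42629 := d23_1 D42629 (iv D42629) F124177
theorem F178158 : act 5 n42629 = n29478 := d38_1 D42629 (iv D29478) (iv F124178)
theorem F178159 : act 6 n42629 = n29257 := d41_1 D42629 (iv D29257) (iv F124179)
def n42631 : Q := act 4 n29256
theorem D42631 : act 4 n29256 = n42631 := rfl
theorem F178164 : act 1 n42631 = n29271 := d11_1 D42631 (iv D29271) (iv F124180)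
def n42632 : Q := act 9 n29256
theorem D42632 : act 9 n29256 = n42632 := rfl
theorem F178166 : act 1 n42632 = n29272 := d16_1 D42632 (iv D29272) (iv F124180)
theorem F178167 : act 3 n42632 = n29257 := d29_1 D42632 (iv D29257) D29256
theorem F178168 : act 5 n42632 = n29260 := d38_1 D42632 (iv D29260) (iv F124181)
def n42637 : Q := act 8 n29260
theorem D42637 : act 8 n29260 = n42637 := rfl
theorem F178184 : act 1 n42637 = n29275 := d15_1 D42637 (iv D29275) (iv F124194)
def n42638 : Q := act 5 n29261
theorem D42638 : act 5 n29261 = n42638 := rfl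
theorem F178187 : act 0 n42638 = n29284 := d4_1 D42638 (iv D29284) (iv F124197)
theorem F178188 : act 2 n42638 = n42638 := d19_1 D42638 (iv D42638) F124198
theorem F178189 : act 3 n42638 = n29263 := d25_1 D42638 (iv D29263) (iv F124199)
theorem F178190 : act 6 n42638 = n31067 := d35_2 D29261 D42638 (iv D31067) (iv D21322) (iv F86788)
def n42639 : Q := act 7 n29261
theorem D42639 : act 7 n29261 = n42639 := rfl
theorem F178191 : act 0 n42639 = n29285 := d6_1 D42639 (iv D29285) (iv F124197)
theorem F178192 : act 2 n42639 = n42639 := d21_1 D42639 (iv D42639) F124198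
theorem F178193 : act 3 n42639 = n29264 := d27_1 D42639 (iv D29264) (iv F124199)
theorem F178194 : act 4 n42639 = n42639 := d32_1 D42639 (iv D42639) F124200
def n42640 : Q := act 8 n29261
theorem D42640 : act 8 n29261 = n42640 := rfl
theorem F178195 : act 0 n42640 = n29286 := d7_1 D42640 (iv D29286) (iv F124197)
theorem F178196 : act 2 n42640 = n42640 := d22_1 D42640 (iv D42640) F124198
theorem F178197 : act 4 n42640 = n42640 := d33_1 D42640 (iv D42640) F124200
theorem F178198 : act 6 n42640 = n29262 := d40_1 D42640 (iv D29262) D29261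
def n42641 : Q := act 3 n29262
theorem D42641 : act 3 n29262 = n42641 := rfl
theorem F178199 : act 0 n42641 = n29287 := d2_1 D42641 (iv D29287) (iv F124201)
theorem F178200 : act 5 n42641 = n31070 := d25_2 (iv F124204) D42641 (iv D31070)
theorem F178201 : act 8 n42641 = n29266 := d28_2 D29262 D42641 (iv D29266) (iv D20112) D20110
def n42642 : Q := act 9 n29262
theorem D42642 : act 9 n29262 = n42642 := rfl
theorem F178202 : act 0 n42642 = n29288 := d8_1 D42642 (iv D29288) (iv F124201)
theorem F178203 : act 2 n42642 = n42642 := d23_1 D42642 (iv D42642) F124202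
theorem F178204 : act 4 n42642 = n42642 := d34_1 D42642 (iv D42642) F124203
theorem F178205 : act 5 n42642 = n31071 := d38_1 D42642 (iv D31071) (iv F124204)
def n42643 : Q := act 7 n29263
theorem D42643 : act 7 n29263 = n42643 := rfl
theorem F178206 : act 0 n42643 = n29289 := d6_1 D42643 (iv D29289) (iv F124205)
theorem F178207 : act 2 n42643 = n29276 := d21_1 D42643 (iv D29276) (iv F124206)
theorem F178208 : act 4 n42643 = n29492 := d32_1 D42643 (iv D29492) (iv F124207)
theorem F178209 : act 5 n42643 = n29264 := d36_1 D42643 (iv D29264) D29263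
def n42644 : Q := act 8 n29263
theorem D42644 : act 8 n29263 = n42644 := rfl
theorem F178210 : act 0 n42644 = n29290 := d7_1 D42644 (iv D29290) (iv F124205)
theorem F178211 : act 2 n42644 = n29277 := d22_1 D42644 (iv D29277) (iv F124206)
theorem F178212 : act 4 n42644 = n29493 := d33_1 D42644 (iv D29493) (iv F124207)
theorem F178213 : act 5 n42644 = n29265 := d37_1 D42644 (iv D29265) D29263
theorem F178214 : act 6 n42644 = n31073 := d40_1 D42644 (iv D31073) (iv F124208)
def n42645 : Q := act 8 n29264
theorem D42645 : act 8 n29264 = n42645 := rfl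
theorem F178215 : act 0 n42645 = n29291 := d7_1 D42645 (iv D29291) (iv F124209)
theorem F178216 : act 2 n42645 = n29278 := d22_1 D42645 (iv D29278) (iv F124210)
theorem F178217 : act 4 n42645 = n29268 := d33_1 D42645 (iv D29268) (iv F124211)
theorem F178218 : act 7 n42645 = n29265 := d42_1 D42645 (iv D29265) D29264
def n42646 : Q := act 3 n29265
theorem D42646 : act 3 n29265 = n42646 := rfl
theorem F178219 : act 0 n42646 = n29292 := d2_1 D42646 (iv D29292) (iv F124212)
theorem F178220 : act 6 n42646 = n29266 := d26_2 (iv F124215) D42646 (iv D29266)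
def n42647 : Q := act 9 n29265
theorem D42647 : act 9 n29265 = n42647 := rfl
theorem F178221 : act 0 n42647 = n29293 := d8_1 D42647 (iv D29293) (iv F124212)
theorem F178222 : act 2 n42647 = n29280 := d23_1 D42647 (iv D29280) (iv F124213)
theorem F178223 : act 4 n42647 = n29270 := d34_1 D42647 (iv D29270) (iv F124214)
theorem F178224 : act 6 n42647 = n29267 := d41_1 D42647 (iv D29267) (iv F124215)
def n42648 : Q := act 2 n29266
theorem D42648 : act 2 n29266 = n42648 := rfl
theorem F178225 : act 0 n42648 = n29294 := d1_1 D42648 (iv D29294) (iv F124216)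
theorem F178226 : act 3 n42648 = n29281 := d17_2 D29266 D42648 (iv D29281) (iv D20122) (iv F86793)
theorem F178227 : act 5 n42648 = n31077 := d19_2 (iv F124217) D42648 (iv D31077)
def n42649 : Q := act 4 n29266
theorem D42649 : act 4 n29266 = n42649 := rfl
theorem F178228 : act 0 n42649 = n29295 := d3_1 D42649 (iv D29295) (iv F124216)
theorem F178229 : act 3 n42649 = n29271 := d24_1 D42649 (iv D29271) (iv D20115) (iv F86794) D29266
def n42650 : Q := act 9 n29266
theorem D42650 : act 9 n29266 = n42650 := rfl
theorem F178230 : act 0 n42650 = n29296 := d8_1 D42650 (iv D29296) (iv F124216)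
theorem F178231 : act 3 n42650 = n29267 := d29_1 D42650 (iv D29267) D29266
theorem F178232 : act 5 n42650 = n31079 := d38_1 D42650 (iv D31079) (iv F124217)
def n42651 : Q := act 3 n29268
theorem D42651 : act 3 n29268 = n42651 := rfl
theorem F178233 : act 0 n42651 = n29297 := d2_1 D42651 (iv D29297) (iv F124222)
theorem F178234 : act 2 n42651 = n42651 := d17_1 D42651 (iv D42651) F124223 F86844 (iv F124223)
theorem F178235 : act 5 n42651 = n29500 := d25_2 (iv F124224) D42651 (iv D29500)
theorem F178236 : act 7 n42651 = n29269 := d27_2 (iv F124225) D42651 (iv D29269)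
theorem F178237 : act 8 n42651 = n42651 := d28_2 D29268 D42651 (iv D42651) (iv D29268) F86798
def n42652 : Q := act 9 n29268
theorem D42652 : act 9 n29268 = n42652 := rfl
theorem F178238 : act 0 n42652 = n29298 := d8_1 D42652 (iv D29298) (iv F124222)
theorem F178239 : act 2 n42652 = n29283 := d23_1 D42652 (iv D29283) (iv F124223)
theorem F178240 : act 5 n42652 = n29501 := d38_1 D42652 (iv D29501) (iv F124224)
theorem F178241 : act 7 n42652 = n29270 := d43_1 D42652 (iv D29270) (iv F124225)
def n42653 : Q := act 4 n29269
theorem D42653 : act 4 n29269 = n42653 := rfl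
theorem F178242 : act 0 n42653 = n29299 := d3_1 D42653 (iv D29299) (iv F124226)
theorem F178243 : act 2 n42653 = n42653 := d18_1 D42653 (iv D42653) F124227
theorem F178244 : act 6 n42653 = n29271 := d31_2 (iv F124229) D42653 (iv D29271)
theorem F178245 : act 8 n42653 = n42653 := d33_2 F124230 D42653 (iv D42653)
def n42654 : Q := act 9 n29269
theorem D42654 : act 9 n29269 = n42654 := rfl
theorem F178246 : act 0 n42654 = n29300 := d8_1 D42654 (iv D29300) (iv F124226)
theorem F178247 : act 2 n42654 = n42654 := d23_1 D42654 (iv D42654) F124227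
theorem F178248 : act 3 n42654 = n29270 := d29_1 D42654 (iv D29270) D29269
theorem F178249 : act 5 n42654 = n29503 := d38_1 D42654 (iv D29503) (iv F124228)
theorem F178250 : act 6 n42654 = n29272 := d41_1 D42654 (iv D29272) (iv F124229)
def n42655 : Q := act 5 n29271
theorem D42655 : act 5 n29271 = n42655 := rfl
theorem F178251 : act 0 n42655 = n29301 := d4_1 D42655 (iv D29301) (iv F124235)
theorem F178253 : act 4 n42655 = n29273 := d30_1 D42655 (iv D29273) (iv D20117) (iv F86806) D29271
def n42656 : Q := act 9 n29271
theorem D42656 : act 9 n29271 = n42656 := rfl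
theorem F178255 : act 0 n42656 = n29302 := d8_1 D42656 (iv D29302) (iv F124235)
theorem F178256 : act 2 n42656 = n42656 := d23_1 D42656 (iv D42656) F124236
theorem F178257 : act 4 n42656 = n29272 := d34_1 D42656 (iv D29272) D29271
def n42657 : Q := act 8 n29272
theorem D42657 : act 8 n29272 = n42657 := rfl
theorem F178258 : act 0 n42657 = n29303 := d7_1 D42657 (iv D29303) (iv F124238)
theorem F178259 : act 2 n42657 = n42657 := d22_1 D42657 (iv D42657) F124239
theorem F178260 : act 5 n42657 = n29275 := d37_1 D42657 (iv D29275) (iv F124241)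
theorem F178261 : act 9 n42657 = n42657 := d44_2 D29272 D42657 (iv D42657) (iv D29272) F86807
def n42658 : Q := act 6 n29273
theorem D42658 : act 6 n29273 = n42658 := rfl
theorem F178262 : act 0 n42658 = n29304 := d5_1 D42658 (iv D29304) (iv F124242)
theorem F178264 : act 3 n42658 = n31087 := d26_1 D42658 (iv D31087) (iv F124244)
def n42659 : Q := act 9 n29273
theorem D42659 : act 9 n29273 = n42659 := rfl
theorem F178267 : act 0 n42659 = n29305 := d8_1 D42659 (iv D29305) (iv F124242)
theorem F178269 : act 3 n42659 = n31088 := d29_1 D42659 (iv D31088) (iv F124244)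
def n42660 : Q := act 8 n29274
theorem D42660 : act 8 n29274 = n42660 := rfl
theorem F178271 : act 0 n42660 = n29306 := d7_1 D42660 (iv D29306) (iv F124246)
theorem F178273 : act 4 n42660 = n29275 := d33_1 D42660 (iv D29275) (iv F124249)
def n42661 : Q := act 6 n29276
theorem D42661 : act 6 n29276 = n42661 := rfl
theorem F178276 : act 0 n42661 = n29307 := d5_1 D42661 (iv D29307) (iv F124255)
theorem F178277 : act 1 n42661 = n42661 := d13_1 D42661 (iv D42661) F124256
theorem F178278 : act 3 n42661 = n42661 := d26_1 D42661 (iv D42661) F124257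
theorem F178279 : act 4 n42661 = n29510 := d31_1 D42661 (iv D29510) (iv F124258)
theorem F178280 : act 7 n42661 = n31090 := d39_2 D29276 D42661 (iv D31090) (iv D21337) (iv F86824)
def n42662 : Q := act 8 n29276
theorem D42662 : act 8 n29276 = n42662 := rfl
theorem F178281 : act 0 n42662 = n29308 := d7_1 D42662 (iv D29308) (iv F124255)
theorem F178282 : act 1 n42662 = n42662 := d15_1 D42662 (iv D42662) F124256
theorem F178283 : act 4 n42662 = n29511 := d33_1 D42662 (iv D29511) (iv F124258)
theorem F178284 : act 5 n42662 = n29278 := d37_1 D42662 (iv D29278) (iv F124259)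
theorem F178285 : act 7 n42662 = n29277 := d42_1 D42662 (iv D29277) D29276
def n42663 : Q := act 3 n29277
theorem D42663 : act 3 n29277 = n42663 := rfl
theorem F178286 : act 0 n42663 = n29309 := d2_1 D42663 (iv D29309) (iv F124260)
theorem F178287 : act 1 n42663 = n42663 := d10_1 D42663 (iv D42663) F124261
theorem F178288 : act 5 n42663 = n29279 := d25_2 (iv F124263) D42663 (iv D29279)
theorem F178289 : act 6 n42663 = n31092 := d26_2 (iv F124264) D42663 (iv D31092)
theorem F178290 : act 8 n42663 = n42663 := d28_2 D29277 D42663 (iv D42663) (iv D29277) F86822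
def n42664 : Q := act 9 n29277
theorem D42664 : act 9 n29277 = n42664 := rfl
theorem F178291 : act 0 n42664 = n29310 := d8_1 D42664 (iv D29310) (iv F124260)
theorem F178292 : act 1 n42664 = n42664 := d16_1 D42664 (iv D42664) F124261
theorem F178293 : act 4 n42664 = n29513 := d34_1 D42664 (iv D29513) (iv F124262)
theorem F178294 : act 5 n42664 = n29280 := d38_1 D42664 (iv D29280) (iv F124263)
theorem F178295 : act 6 n42664 = n31093 := d41_1 D42664 (iv D31093) (iv F124264)
def n42665 : Q := act 3 n29278
theorem D42665 : act 3 n29278 = n42665 := rfl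
theorem F178296 : act 0 n42665 = n29311 := d2_1 D42665 (iv D29311) (iv F124265)
theorem F178297 : act 1 n42665 = n42665 := d10_1 D42665 (iv D42665) F124266
theorem F178298 : act 4 n42665 = n42665 := d24_2 (iv F124267) D42665 (iv D42665) F124267 F86844
theorem F178299 : act 7 n42665 = n29279 := d27_2 (iv F124268) D42665 (iv D29279)
theorem F178300 : act 8 n42665 = n42665 := d28_2 D29278 D42665 (iv D42665) (iv D29278) F86827
def n42666 : Q := act 9 n29278
theorem D42666 : act 9 n29278 = n42666 := rfl
theorem F178301 : act 0 n42666 = n29312 := d8_1 D42666 (iv D29312) (iv F124265)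
theorem F178302 : act 1 n42666 = n42666 := d16_1 D42666 (iv D42666) F124266
theorem F178303 : act 4 n42666 = n29283 := d34_1 D42666 (iv D29283) (iv F124267)
theorem F178304 : act 7 n42666 = n29280 := d43_1 D42666 (iv D29280) (iv F124268)
def n42667 : Q := act 2 n29279
theorem D42667 : act 2 n29279 = n42667 := rfl
theorem F178305 : act 0 n42667 = n29313 := d1_1 D42667 (iv D29313) (iv F124269)
theorem F178306 : act 4 n42667 = n42667 := d18_2 F124271 D42667 (iv D42667)
theorem F178307 : act 6 n42667 = n29281 := d20_2 (iv F124272) D42667 (iv D29281)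
theorem F178308 : act 8 n42667 = n42667 := d22_2 F124273 D42667 (iv D42667)
def n42668 : Q := act 9 n29279
theorem D42668 : act 9 n29279 = n42668 := rfl
theorem F178309 : act 0 n42668 = n29314 := d8_1 D42668 (iv D29314) (iv F124269)
theorem F178310 : act 1 n42668 = n42668 := d16_1 D42668 (iv D42668) F124270
theorem F178311 : act 3 n42668 = n29280 := d29_1 D42668 (iv D29280) D29279
theorem F178312 : act 4 n42668 = n42668 := d34_1 D42668 (iv D42668) F124271
theorem F178313 : act 6 n42668 = n29282 := d41_1 D42668 (iv D29282) (iv F124272)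
def n42669 : Q := act 1 n29281
theorem D42669 : act 1 n29281 = n42669 := rfl
theorem F178314 : act 2 n42669 = n42669 := d9_2 D29281 D42669 (iv D42669) (iv D29281) F86834
theorem F178315 : act 4 n42669 = n42669 := d11_2 F124279 D42669 (iv D42669)
theorem F178316 : act 5 n42669 = n31098 := d12_2 (iv F124280) D42669 (iv D31098)
theorem F178317 : act 8 n42669 = n42669 := d15_2 F124281 D42669 (iv D42669)
def n42670 : Q := act 9 n29281
theorem D42670 : act 9 n29281 = n42670 := rfl
theorem F178318 : act 0 n42670 = n29316 := d8_1 D42670 (iv D29316) (iv F124278)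
theorem F178319 : act 2 n42670 = n29282 := d23_1 D42670 (iv D29282) D29281
theorem F178320 : act 4 n42670 = n42670 := d34_1 D42670 (iv D42670) F124279
theorem F178321 : act 5 n42670 = n31099 := d38_1 D42670 (iv D31099) (iv F124280)
def n42671 : Q := act 8 n29282
theorem D42671 : act 8 n29282 = n42671 := rfl
theorem F178322 : act 0 n42671 = n29317 := d7_1 D42671 (iv D29317) (iv F124282)
theorem F178323 : act 1 n42671 = n42671 := d15_1 D42671 (iv D42671) F124283
theorem F178324 : act 4 n42671 = n42671 := d33_1 D42671 (iv D42671) F124285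
theorem F178325 : act 5 n42671 = n31100 := d37_1 D42671 (iv D31100) (iv F124286)
theorem F178326 : act 9 n42671 = n42671 := d44_2 D29282 D42671 (iv D42671) (iv D29282) F86837
def n42672 : Q := act 4 n29284
theorem D42672 : act 4 n29284 = n42672 := rfl
theorem F178327 : act 2 n42672 = n42672 := d18_1 D42672 (iv D42672) F124292
theorem F178328 : act 3 n42672 = n29521 := d24_1 D42672 (iv D29521) F87488 (iv F86859) (iv F124293)
theorem F178329 : act 5 n42672 = n42672 := d30_2 D29284 D42672 (iv D42672) (iv D29284) F86854
theorem F178330 : act 6 n42672 = n31101 := d31_2 (iv F124294) D42672 (iv D31101)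
def n42673 : Q := act 7 n29284
theorem D42673 : act 7 n29284 = n42673 := rfl
theorem F178331 : act 2 n42673 = n42673 := d21_1 D42673 (iv D42673) F124292
theorem F178332 : act 3 n42673 = n29289 := d27_1 D42673 (iv D29289) (iv F124293)
theorem F178333 : act 5 n42673 = n29285 := d36_1 D42673 (iv D29285) D29284
def n42674 : Q := act 8 n29284
theorem D42674 : act 8 n29284 = n42674 := rfl
theorem F178334 : act 2 n42674 = n42674 := d22_1 D42674 (iv D42674) F124292
theorem F178335 : act 5 n42674 = n29286 := d37_1 D42674 (iv D29286) D29284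
theorem F178336 : act 6 n42674 = n31103 := d40_1 D42674 (iv D31103) (iv F124294)
def n42675 : Q := act 8 n29285
theorem D42675 : act 8 n29285 = n42675 := rfl
theorem F178337 : act 2 n42675 = n42675 := d22_1 D42675 (iv D42675) F124295
theorem F178338 : act 4 n42675 = n42675 := d33_1 D42675 (iv D42675) F124297
theorem F178339 : act 7 n42675 = n29286 := d42_1 D42675 (iv D29286) D29285
def n42676 : Q := act 3 n29286
theorem D42676 : act 3 n29286 = n42676 := rfl
theorem F178340 : act 6 n42676 = n29287 := d26_2 (iv F124300) D42676 (iv D29287)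
theorem F178341 : act 8 n42676 = n29292 := d28_2 D29286 D42676 (iv D29292) (iv D20130) (iv F86853)
def n42677 : Q := act 9 n29286
theorem D42677 : act 9 n29286 = n42677 := rfl
theorem F178342 : act 2 n42677 = n42677 := d23_1 D42677 (iv D42677) F124298
theorem F178343 : act 4 n42677 = n42677 := d34_1 D42677 (iv D42677) F124299
theorem F178344 : act 6 n42677 = n29288 := d41_1 D42677 (iv D29288) (iv F124300)
def n42678 : Q := act 2 n29287
theorem D42678 : act 2 n29287 = n42678 := rfl
theorem F178345 : act 3 n42678 = n42678 := d17_2 D29287 D42678 (iv D42678) (iv D29287) F86855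
theorem F178346 : act 5 n42678 = n31107 := d19_2 (iv F124301) D42678 (iv D31107)
theorem F178347 : act 8 n42678 = n29294 := d22_2 (iv F124302) D42678 (iv D29294)
def n42679 : Q := act 4 n29287
theorem D42679 : act 4 n29287 = n42679 := rfl
theorem F178348 : act 3 n42679 = n42679 := d24_1 D42679 (iv D42679) (iv D29287) F86856 D29287
theorem F178349 : act 8 n42679 = n29295 := d33_2 (iv F124302) D42679 (iv D29295)
def n42680 : Q := act 9 n29287
theorem D42680 : act 9 n29287 = n42680 := rfl
theorem F178350 : act 3 n42680 = n29288 := d29_1 D42680 (iv D29288) D29287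
theorem F178351 : act 5 n42680 = n31109 := d38_1 D42680 (iv D31109) (iv F124301)
def n42681 : Q := act 6 n29289
theorem D42681 : act 6 n29289 = n42681 := rfl
theorem F178352 : act 2 n42681 = n29307 := d20_1 D42681 (iv D29307) (iv F124306)
theorem F178353 : act 4 n42681 = n29530 := d31_1 D42681 (iv D29530) (iv F124307)
theorem F178354 : act 7 n42681 = n31110 := d39_2 D29289 D42681 (iv D31110) (iv D21350) (iv F86860)
def n42682 : Q := act 8 n29289
theorem D42682 : act 8 n29289 = n42682 := rfl
theorem F178355 : act 2 n42682 = n29308 := d22_1 D42682 (iv D29308) (iv F124306)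
theorem F178356 : act 4 n42682 = n29531 := d33_1 D42682 (iv D29531) (iv F124307)
theorem F178357 : act 5 n42682 = n29291 := d37_1 D42682 (iv D29291) (iv F124308)
theorem F178358 : act 7 n42682 = n29290 := d42_1 D42682 (iv D29290) D29289
def n42683 : Q := act 3 n29290
theorem D42683 : act 3 n29290 = n42683 := rfl
theorem F178359 : act 5 n42683 = n29292 := d25_2 (iv F124311) D42683 (iv D29292)
theorem F178360 : act 6 n42683 = n31112 := d26_2 (iv F124312) D42683 (iv D31112)
def n42684 : Q := act 9 n29290
theorem D42684 : act 9 n29290 = n42684 := rfl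
theorem F178361 : act 2 n42684 = n29310 := d23_1 D42684 (iv D29310) (iv F124309)
theorem F178362 : act 4 n42684 = n29533 := d34_1 D42684 (iv D29533) (iv F124310)
theorem F178363 : act 5 n42684 = n29293 := d38_1 D42684 (iv D29293) (iv F124311)
theorem F178364 : act 6 n42684 = n31113 := d41_1 D42684 (iv D31113) (iv F124312)
def n42685 : Q := act 3 n29291
theorem D42685 : act 3 n29291 = n42685 := rfl
theorem F178365 : act 7 n42685 = n29292 := d27_2 (iv F124315) D42685 (iv D29292)
def n42686 : Q := act 9 n29291
theorem D42686 : act 9 n29291 = n42686 := rfl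
theorem F178366 : act 2 n42686 = n29312 := d23_1 D42686 (iv D29312) (iv F124313)
theorem F178367 : act 4 n42686 = n29298 := d34_1 D42686 (iv D29298) (iv F124314)
theorem F178368 : act 7 n42686 = n29293 := d43_1 D42686 (iv D29293) (iv F124315)
def n42687 : Q := act 2 n29292
theorem D42687 : act 2 n29292 = n42687 := rfl
theorem F178369 : act 3 n42687 = n29313 := d17_2 D29292 D42687 (iv D29313) (iv D20144) (iv F86863)
theorem F178370 : act 6 n42687 = n29294 := d20_2 (iv F124316) D42687 (iv D29294)
def n42688 : Q := act 4 n29292
theorem D42688 : act 4 n29292 = n42688 := rfl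
theorem F178371 : act 3 n42688 = n29299 := d24_1 D42688 (iv D29299) (iv D20134) (iv F86864) D29292
theorem F178372 : act 6 n42688 = n29295 := d31_2 (iv F124316) D42688 (iv D29295)
def n42689 : Q := act 9 n29292
theorem D42689 : act 9 n29292 = n42689 := rfl
theorem F178373 : act 3 n42689 = n29293 := d29_1 D42689 (iv D29293) D29292
theorem F178374 : act 6 n42689 = n29296 := d41_1 D42689 (iv D29296) (iv F124316)
def n42690 : Q := act 1 n29294
theorem D42690 : act 1 n29294 = n42690 := rfl
theorem F178375 : act 3 n42690 = n29315 := d10_2 (iv F124320) D42690 (iv D29315)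
theorem F178376 : act 5 n42690 = n31119 := d12_2 (iv F124321) D42690 (iv D31119)
def n42691 : Q := act 4 n29294
theorem D42691 : act 4 n29294 = n42691 := rfl
theorem F178377 : act 2 n42691 = n29295 := d18_1 D42691 (iv D29295) D29294
theorem F178378 : act 3 n42691 = n42691 := d24_1 D42691 (iv D42691) F124320 F86913 (iv F124320)
def n42692 : Q := act 9 n29294
theorem D42692 : act 9 n29294 = n42692 := rfl
theorem F178379 : act 2 n42692 = n29296 := d23_1 D42692 (iv D29296) D29294
theorem F178380 : act 3 n42692 = n29316 := d29_1 D42692 (iv D29316) (iv F124320)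
theorem F178381 : act 5 n42692 = n31121 := d38_1 D42692 (iv D31121) (iv F124321)
def n42693 : Q := act 5 n29295
theorem D42693 : act 5 n29295 = n42693 := rfl
theorem F178382 : act 3 n42693 = n29301 := d25_1 D42693 (iv D29301) (iv F124322)
theorem F178383 : act 4 n42693 = n31122 := d30_1 D42693 (iv D31122) (iv D21356) (iv F86866) D29295
def n42694 : Q := act 9 n29295
theorem D42694 : act 9 n29295 = n42694 := rfl
theorem F178384 : act 3 n42694 = n29302 := d29_1 D42694 (iv D29302) (iv F124322)
theorem F178385 : act 4 n42694 = n29296 := d34_1 D42694 (iv D29296) D29295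
def n42695 : Q := act 8 n29296
theorem D42695 : act 8 n29296 = n42695 := rfl
theorem F178386 : act 5 n42695 = n31124 := d37_1 D42695 (iv D31124) (iv F124324)
def n42696 : Q := act 4 n29297
theorem D42696 : act 4 n29297 = n42696 := rfl
theorem F178387 : act 2 n42696 = n42696 := d18_1 D42696 (iv D42696) F124325
theorem F178388 : act 7 n42696 = n29299 := d32_2 (iv F124327) D42696 (iv D29299)
theorem F178389 : act 8 n42696 = n42696 := d33_2 F124328 D42696 (iv D42696)
def n42697 : Q := act 9 n29297
theorem D42697 : act 9 n29297 = n42697 := rfl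
theorem F178390 : act 2 n42697 = n42697 := d23_1 D42697 (iv D42697) F124325
theorem F178391 : act 3 n42697 = n29298 := d29_1 D42697 (iv D29298) D29297
theorem F178392 : act 5 n42697 = n29546 := d38_1 D42697 (iv D29546) (iv F124326)
theorem F178393 : act 7 n42697 = n29300 := d43_1 D42697 (iv D29300) (iv F124327)
def n42698 : Q := act 5 n29299
theorem D42698 : act 5 n29299 = n42698 := rfl
theorem F178394 : act 2 n42698 = n42698 := d19_1 D42698 (iv D42698) F124332
theorem F178395 : act 4 n42698 = n29547 := d30_1 D42698 (iv D29547) (iv D20299) (iv F86874) D29299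
theorem F178396 : act 8 n42698 = n42698 := d37_2 F124334 D42698 (iv D42698)
def n42699 : Q := act 9 n29299
theorem D42699 : act 9 n29299 = n42699 := rfl
theorem F178397 : act 2 n42699 = n42699 := d23_1 D42699 (iv D42699) F124332
theorem F178398 : act 4 n42699 = n29300 := d34_1 D42699 (iv D29300) D29299
theorem F178399 : act 6 n42699 = n29302 := d41_1 D42699 (iv D29302) (iv F124333)
def n42700 : Q := act 8 n29300
theorem D42700 : act 8 n29300 = n42700 := rfl
theorem F178400 : act 2 n42700 = n42700 := d22_1 D42700 (iv D42700) F124335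
theorem F178401 : act 5 n42700 = n29549 := d37_1 D42700 (iv D29549) (iv F124337)
theorem F178402 : act 6 n42700 = n29303 := d40_1 D42700 (iv D29303) (iv F124338)
theorem F178403 : act 9 n42700 = n42700 := d44_2 D29300 D42700 (iv D42700) (iv D29300) F86876
def n42701 : Q := act 6 n29301
theorem D42701 : act 6 n29301 = n42701 := rfl
theorem F178404 : act 2 n42701 = n42701 := d20_1 D42701 (iv D42701) F124339
theorem F178405 : act 4 n42701 = n29304 := d31_1 D42701 (iv D29304) (iv F124340)
theorem F178406 : act 8 n42701 = n42701 := d40_2 F124341 D42701 (iv D42701)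
def n42702 : Q := act 9 n29301
theorem D42702 : act 9 n29301 = n42702 := rfl
theorem F178407 : act 2 n42702 = n42702 := d23_1 D42702 (iv D42702) F124339
theorem F178408 : act 4 n42702 = n29305 := d34_1 D42702 (iv D29305) (iv F124340)
theorem F178409 : act 5 n42702 = n29302 := d38_1 D42702 (iv D29302) D29301
def n42703 : Q := act 8 n29302
theorem D42703 : act 8 n29302 = n42703 := rfl
theorem F178410 : act 2 n42703 = n42703 := d22_1 D42703 (iv D42703) F124342
theorem F178411 : act 4 n42703 = n29303 := d33_1 D42703 (iv D29303) (iv F124343)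
theorem F178412 : act 9 n42703 = n42703 := d44_2 D29302 D42703 (iv D42703) (iv D29302) F86881
def n42704 : Q := act 7 n29304
theorem D42704 : act 7 n29304 = n42704 := rfl
theorem F178413 : act 2 n42704 = n42704 := d21_1 D42704 (iv D42704) F124347
theorem F178414 : act 3 n42704 = n31133 := d27_1 D42704 (iv D31133) (iv F124348)
theorem F178415 : act 5 n42704 = n29553 := d36_1 D42704 (iv D29553) (iv F124349)
theorem F178416 : act 8 n42704 = n42704 := d42_2 F124350 D42704 (iv D42704)
def n42705 : Q := act 9 n29304
theorem D42705 : act 9 n29304 = n42705 := rfl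
theorem F178417 : act 2 n42705 = n42705 := d23_1 D42705 (iv D42705) F124347
theorem F178418 : act 3 n42705 = n31134 := d29_1 D42705 (iv D31134) (iv F124348)
theorem F178419 : act 5 n42705 = n29554 := d38_1 D42705 (iv D29554) (iv F124349)
theorem F178420 : act 6 n42705 = n29305 := d41_1 D42705 (iv D29305) D29304
def n42706 : Q := act 8 n29305
theorem D42706 : act 8 n29305 = n42706 := rfl
theorem F178421 : act 2 n42706 = n42706 := d22_1 D42706 (iv D42706) F124351
theorem F178422 : act 5 n42706 = n29306 := d37_1 D42706 (iv D29306) (iv F124353)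
theorem F178423 : act 9 n42706 = n42706 := d44_2 D29305 D42706 (iv D42706) (iv D29305) F86887
def n42707 : Q := act 3 n29306
theorem D42707 : act 3 n29306 = n42707 := rfl
theorem F178425 : act 8 n42707 = n31136 := d28_2 D29306 D42707 (iv D31136) (iv D21367) (iv F86889)
def n42708 : Q := act 8 n29307
theorem D42708 : act 8 n29307 = n42708 := rfl
theorem F178427 : act 1 n42708 = n29318 := d15_1 D42708 (iv D29318) (iv F124358)
theorem F178428 : act 4 n42708 = n29557 := d33_1 D42708 (iv D29557) (iv F124360)
theorem F178429 : act 6 n42708 = n29308 := d40_1 D42708 (iv D29308) D29307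
theorem F178430 : act 7 n42708 = n31137 := d42_1 D42708 (iv D31137) (iv F124361)
def n42709 : Q := act 3 n29308
theorem D42709 : act 3 n29308 = n42709 := rfl
theorem F178431 : act 1 n42709 = n29319 := d10_1 D42709 (iv D29319) (iv F124362)
theorem F178432 : act 5 n42709 = n29311 := d25_2 (iv F124364) D42709 (iv D29311)
theorem F178433 : act 7 n42709 = n29309 := d27_2 (iv F124365) D42709 (iv D29309)
theorem F178434 : act 8 n42709 = n42709 := d28_2 D29308 D42709 (iv D42709) (iv D29308) F86896
def n42710 : Q := act 9 n29308
theorem D42710 : act 9 n29308 = n42710 := rfl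
theorem F178435 : act 1 n42710 = n29320 := d16_1 D42710 (iv D29320) (iv F124362)
theorem F178436 : act 4 n42710 = n29559 := d34_1 D42710 (iv D29559) (iv F124363)
theorem F178437 : act 5 n42710 = n29312 := d38_1 D42710 (iv D29312) (iv F124364)
theorem F178438 : act 7 n42710 = n29310 := d43_1 D42710 (iv D29310) (iv F124365)
def n42711 : Q := act 2 n29309
theorem D42711 : act 2 n29309 = n42711 := rfl
theorem F178439 : act 5 n42711 = n29313 := d19_2 (iv F124367) D42711 (iv D29313)
theorem F178440 : act 6 n42711 = n31140 := d20_2 (iv F124368) D42711 (iv D31140)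
theorem F178441 : act 8 n42711 = n42711 := d22_2 F124369 D42711 (iv D42711)
def n42712 : Q := act 4 n29309
theorem D42712 : act 4 n29309 = n42712 := rfl
theorem F178442 : act 1 n42712 = n29322 := d11_1 D42712 (iv D29322) (iv F124366)
theorem F178443 : act 3 n42712 = n29561 := d24_1 D42712 (iv D29561) (iv D20309) (iv F86900) D29309
theorem F178444 : act 5 n42712 = n42712 := d30_2 (iv F124367) D42712 (iv D42712) F124367 F86907
theorem F178445 : act 6 n42712 = n31141 := d31_2 (iv F124368) D42712 (iv D31141)
theorem F178446 : act 8 n42712 = n42712 := d33_2 F124369 D42712 (iv D42712)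
def n42713 : Q := act 9 n29309
theorem D42713 : act 9 n29309 = n42713 := rfl
theorem F178447 : act 1 n42713 = n29323 := d16_1 D42713 (iv D29323) (iv F124366)
theorem F178448 : act 3 n42713 = n29310 := d29_1 D42713 (iv D29310) D29309
theorem F178449 : act 5 n42713 = n29314 := d38_1 D42713 (iv D29314) (iv F124367)
theorem F178450 : act 6 n42713 = n31142 := d41_1 D42713 (iv D31142) (iv F124368)
def n42714 : Q := act 2 n29311
theorem D42714 : act 2 n29311 = n42714 := rfl
theorem F178451 : act 4 n42714 = n42714 := d18_2 F124375 D42714 (iv D42714)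
theorem F178452 : act 7 n42714 = n29313 := d21_2 (iv F124376) D42714 (iv D29313)
theorem F178453 : act 8 n42714 = n42714 := d22_2 F124377 D42714 (iv D42714)
def n42715 : Q := act 9 n29311
theorem D42715 : act 9 n29311 = n42715 := rfl
theorem F178454 : act 1 n42715 = n29325 := d16_1 D42715 (iv D29325) (iv F124374)
theorem F178455 : act 3 n42715 = n29312 := d29_1 D42715 (iv D29312) D29311
theorem F178456 : act 4 n42715 = n42715 := d34_1 D42715 (iv D42715) F124375
theorem F178457 : act 7 n42715 = n29314 := d43_1 D42715 (iv D29314) (iv F124376)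
def n42716 : Q := act 1 n29313
theorem D42716 : act 1 n29313 = n42716 := rfl
theorem F178458 : act 2 n42716 = n29326 := d9_2 D29313 D42716 (iv D29326) (iv D20155) (iv F86906)
theorem F178459 : act 4 n42716 = n42716 := d11_2 F124381 D42716 (iv D42716)
theorem F178460 : act 6 n42716 = n29315 := d13_2 (iv F124382) D42716 (iv D29315)
theorem F178461 : act 8 n42716 = n42716 := d15_2 F124383 D42716 (iv D42716)
def n42717 : Q := act 9 n29313
theorem D42717 : act 9 n29313 = n42717 := rfl
theorem F178462 : act 2 n42717 = n29314 := d23_1 D42717 (iv D29314) D29313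
theorem F178463 : act 4 n42717 = n42717 := d34_1 D42717 (iv D42717) F124381
theorem F178464 : act 6 n42717 = n29316 := d41_1 D42717 (iv D29316) (iv F124382)
def n42718 : Q := act 8 n29314
theorem D42718 : act 8 n29314 = n42718 := rfl
theorem F178465 : act 1 n42718 = n29328 := d15_1 D42718 (iv D29328) (iv F124384)
theorem F178466 : act 4 n42718 = n42718 := d33_1 D42718 (iv D42718) F124386
theorem F178467 : act 6 n42718 = n29317 := d40_1 D42718 (iv D29317) (iv F124387)
theorem F178468 : act 9 n42718 = n42718 := d44_2 D29314 D42718 (iv D42718) (iv D29314) F86909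
def n42719 : Q := act 0 n29315
theorem D42719 : act 0 n29315 = n42719 := rfl
theorem F178469 : act 2 n42719 = n29329 := d1_2 (iv F124388) D42719 (iv D29329)
theorem F178470 : act 4 n42719 = n42719 := d3_2 F124389 D42719 (iv D42719)
theorem F178471 : act 5 n42719 = n31148 := d4_2 (iv F124390) D42719 (iv D31148)
theorem F178472 : act 8 n42719 = n42719 := d7_2 F124391 D42719 (iv D42719)
def n42720 : Q := act 9 n29315
theorem D42720 : act 9 n29315 = n42720 := rfl
theorem F178473 : act 1 n42720 = n29316 := d16_1 D42720 (iv D29316) D29315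
theorem F178474 : act 2 n42720 = n29330 := d23_1 D42720 (iv D29330) (iv F124388)
theorem F178475 : act 4 n42720 = n42720 := d34_1 D42720 (iv D42720) F124389
theorem F178476 : act 5 n42720 = n31149 := d38_1 D42720 (iv D31149) (iv F124390)
def n42721 : Q := act 8 n29316
theorem D42721 : act 8 n29316 = n42721 := rfl
theorem F178477 : act 2 n42721 = n29317 := d22_1 D42721 (iv D29317) (iv F124392)
theorem F178478 : act 4 n42721 = n42721 := d33_1 D42721 (iv D42721) F124393
theorem F178479 : act 5 n42721 = n31150 := d37_1 D42721 (iv D31150) (iv F124394)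
theorem F178480 : act 9 n42721 = n42721 := d44_2 D29316 D42721 (iv D42721) (iv D29316) F86915
def n42722 : Q := act 3 n29318
theorem D42722 : act 3 n29318 = n42722 := rfl
theorem F178482 : act 6 n42722 = n29319 := d26_2 (iv F124401) D42722 (iv D29319)
theorem F178483 : act 7 n42722 = n31151 := d27_2 (iv F124402) D42722 (iv D31151)
def n42723 : Q := act 9 n29318
theorem D42723 : act 9 n29318 = n42723 := rfl
theorem F178485 : act 0 n42723 = n42723 := d8_1 D42723 (iv D42723) F124399
theorem F178486 : act 4 n42723 = n29572 := d34_1 D42723 (iv D29572) (iv F124400)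
theorem F178487 : act 6 n42723 = n29320 := d41_1 D42723 (iv D29320) (iv F124401)
theorem F178488 : act 7 n42723 = n31152 := d43_1 D42723 (iv D31152) (iv F124402)
def n42724 : Q := act 2 n29319
theorem D42724 : act 2 n29319 = n42724 := rfl
theorem F178490 : act 5 n42724 = n29324 := d19_2 (iv F124404) D42724 (iv D29324)
theorem F178491 : act 7 n42724 = n29321 := d21_2 (iv F124405) D42724 (iv D29321)
def n42725 : Q := act 4 n29319
theorem D42725 : act 4 n29319 = n42725 := rfl
theorem F178493 : act 0 n42725 = n42725 := d3_1 D42725 (iv D42725) F124403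
theorem F178494 : act 3 n42725 = n29574 := d24_1 D42725 (iv D29574) (iv D20319) (iv F86929) D29319
theorem F178495 : act 5 n42725 = n42725 := d30_2 (iv F124404) D42725 (iv D42725) F124404 F86941
theorem F178496 : act 7 n42725 = n29322 := d32_2 (iv F124405) D42725 (iv D29322)
theorem F178497 : act 8 n42725 = n42725 := d33_2 F124406 D42725 (iv D42725)
def n42726 : Q := act 9 n29319
theorem D42726 : act 9 n29319 = n42726 := rfl
theorem F178498 : act 0 n42726 = n42726 := d8_1 D42726 (iv D42726) F124403
theorem F178499 : act 3 n42726 = n29320 := d29_1 D42726 (iv D29320) D29319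
theorem F178500 : act 5 n42726 = n29325 := d38_1 D42726 (iv D29325) (iv F124404)
theorem F178501 : act 7 n42726 = n29323 := d43_1 D42726 (iv D29323) (iv F124405)
def n42727 : Q := act 1 n29321
theorem D42727 : act 1 n29321 = n42727 := rfl
theorem F178502 : act 5 n42727 = n29326 := d12_2 (iv F124412) D42727 (iv D29326)
theorem F178503 : act 6 n42727 = n31156 := d13_2 (iv F124413) D42727 (iv D31156)
theorem F178504 : act 8 n42727 = n42727 := d15_2 F124414 D42727 (iv D42727)
def n42728 : Q := act 4 n29321
theorem D42728 : act 4 n29321 = n42728 := rfl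
theorem F178505 : act 0 n42728 = n42728 := d3_1 D42728 (iv D42728) F124411
theorem F178506 : act 2 n42728 = n29322 := d18_1 D42728 (iv D29322) D29321
theorem F178507 : act 5 n42728 = n42728 := d30_2 (iv F124412) D42728 (iv D42728) F124412 F86948
theorem F178508 : act 6 n42728 = n31157 := d31_2 (iv F124413) D42728 (iv D31157)
theorem F178509 : act 8 n42728 = n42728 := d33_2 F124414 D42728 (iv D42728)
def n42729 : Q := act 9 n29321
theorem D42729 : act 9 n29321 = n42729 := rfl
theorem F178510 : act 0 n42729 = n42729 := d8_1 D42729 (iv D42729) F124411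
theorem F178511 : act 2 n42729 = n29323 := d23_1 D42729 (iv D29323) D29321
theorem F178512 : act 5 n42729 = n29327 := d38_1 D42729 (iv D29327) (iv F124412)
theorem F178513 : act 6 n42729 = n31158 := d41_1 D42729 (iv D31158) (iv F124413)
def n42730 : Q := act 9 n29322
theorem D42730 : act 9 n29322 = n42730 := rfl
theorem F178514 : act 0 n42730 = n42730 := d8_1 D42730 (iv D42730) F124415
theorem F178515 : act 3 n42730 = n29579 := d29_1 D42730 (iv D29579) (iv F124416)
theorem F178516 : act 4 n42730 = n29323 := d34_1 D42730 (iv D29323) D29322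
theorem F178517 : act 5 n42730 = n42730 := d38_1 D42730 (iv D42730) F124417
theorem F178518 : act 6 n42730 = n31159 := d41_1 D42730 (iv D31159) (iv F124418)
def n42731 : Q := act 8 n29323
theorem D42731 : act 8 n29323 = n42731 := rfl
theorem F178519 : act 0 n42731 = n42731 := d7_1 D42731 (iv D42731) F124420
theorem F178520 : act 5 n42731 = n29328 := d37_1 D42731 (iv D29328) (iv F124422)
theorem F178521 : act 6 n42731 = n31160 := d40_1 D42731 (iv D31160) (iv F124423)
theorem F178522 : act 9 n42731 = n42731 := d44_2 D29323 D42731 (iv D42731) (iv D29323) F86935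
def n42732 : Q := act 1 n29324
theorem D42732 : act 1 n29324 = n42732 := rfl
theorem F178524 : act 7 n42732 = n29326 := d14_2 (iv F124426) D42732 (iv D29326)
def n42733 : Q := act 9 n29324
theorem D42733 : act 9 n29324 = n42733 := rfl
theorem F178527 : act 2 n42733 = n29325 := d23_1 D42733 (iv D29325) D29324
theorem F178529 : act 7 n42733 = n29327 := d43_1 D42733 (iv D29327) (iv F124426)
def n42734 : Q := act 8 n29325
theorem D42734 : act 8 n29325 = n42734 := rfl
theorem F178530 : act 0 n42734 = n42734 := d7_1 D42734 (iv D42734) F124428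
theorem F178531 : act 4 n42734 = n42734 := d33_1 D42734 (iv D42734) F124430
theorem F178532 : act 7 n42734 = n29328 := d42_1 D42734 (iv D29328) (iv F124431)
theorem F178533 : act 9 n42734 = n42734 := d44_2 D29325 D42734 (iv D42734) (iv D29325) F86943
def n42735 : Q := act 0 n29326
theorem D42735 : act 0 n29326 = n42735 := rfl
theorem F178534 : act 1 n42735 = n42735 := d0_2 D29326 D42735 (iv D42735) (iv D29326) F86947
theorem F178535 : act 4 n42735 = n42735 := d3_2 F124432 D42735 (iv D42735)
theorem F178536 : act 6 n42735 = n29329 := d5_2 (iv F124433) D42735 (iv D29329)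
theorem F178537 : act 8 n42735 = n42735 := d7_2 F124434 D42735 (iv D42735)
def n42736 : Q := act 9 n29326
theorem D42736 : act 9 n29326 = n42736 := rfl
theorem F178538 : act 1 n42736 = n29327 := d16_1 D42736 (iv D29327) D29326
theorem F178539 : act 4 n42736 = n42736 := d34_1 D42736 (iv D42736) F124432
theorem F178540 : act 6 n42736 = n29330 := d41_1 D42736 (iv D29330) (iv F124433)
def n42737 : Q := act 8 n29327
theorem D42737 : act 8 n29327 = n42737 := rfl
theorem F178541 : act 0 n42737 = n42737 := d7_1 D42737 (iv D42737) F124435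
theorem F178542 : act 2 n42737 = n29328 := d22_1 D42737 (iv D29328) (iv F124436)
theorem F178543 : act 4 n42737 = n42737 := d33_1 D42737 (iv D42737) F124437
theorem F178544 : act 6 n42737 = n29331 := d40_1 D42737 (iv D29331) (iv F124438)
theorem F178545 : act 9 n42737 = n42737 := d44_2 D29327 D42737 (iv D42737) (iv D29327) F86950
def n42738 : Q := act 9 n29329
theorem D42738 : act 9 n29329 = n42738 := rfl
theorem F178546 : act 0 n42738 = n29330 := d8_1 D42738 (iv D29330) D29329
theorem F178547 : act 1 n42738 = n42738 := d16_1 D42738 (iv D42738) F124443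
theorem F178548 : act 4 n42738 = n42738 := d34_1 D42738 (iv D42738) F124444
theorem F178549 : act 5 n42738 = n31167 := d38_1 D42738 (iv D31167) (iv F124445)
def n42739 : Q := act 8 n29330
theorem D42739 : act 8 n29330 = n42739 := rfl
theorem F178550 : act 1 n42739 = n29331 := d15_1 D42739 (iv D29331) (iv F124447)
theorem F178551 : act 4 n42739 = n42739 := d33_1 D42739 (iv D42739) F124448
theorem F178552 : act 5 n42739 = n31168 := d37_1 D42739 (iv D31168) (iv F124449)
theorem F178553 : act 9 n42739 = n42739 := d44_2 D29330 D42739 (iv D42739) (iv D29330) F86957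
def n42740 : Q := act 3 n29331
theorem D42740 : act 3 n29331 = n42740 := rfl
theorem F178554 : act 0 n42740 = n42740 := d2_1 D42740 (iv D42740) F124450
theorem F178555 : act 5 n42740 = n31169 := d25_2 (iv F124453) D42740 (iv D31169)
theorem F178556 : act 9 n42740 = n42740 := d29_2 F124454 D42740 (iv D42740)
def n42741 : Q := act 3 n29332
theorem D42741 : act 3 n29332 = n42741 := rfl
theorem F178558 : act 1 n42741 = n29337 := d10_1 D42741 (iv D29337) (iv F124456)
def n42742 : Q := act 6 n29332
theorem D42742 : act 6 n29332 = n42742 := rfl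
theorem F178564 : act 1 n42742 = n29338 := d13_1 D42742 (iv D29338) (iv F124456)
theorem F178566 : act 4 n42742 = n29333 := d31_1 D42742 (iv D29333) D29332
def n42745 : Q := act 8 n29333
theorem D42745 : act 8 n29333 = n42745 := rfl
theorem F178581 : act 1 n42745 = n29341 := d15_1 D42745 (iv D29341) (iv F124462)
theorem F178583 : act 6 n42745 = n29334 := d40_1 D42745 (iv D29334) D29333
def n42746 : Q := act 3 n29334
theorem D42746 : act 3 n29334 = n42746 := rfl
theorem F178584 : act 0 n42746 = n42746 := d2_1 D42746 (iv D42746) F124466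
theorem F178585 : act 1 n42746 = n29342 := d10_1 D42746 (iv D29342) (iv F124467)
theorem F178586 : act 5 n42746 = n29335 := d25_2 (iv F124469) D42746 (iv D29335)
theorem F178587 : act 7 n42746 = n42746 := d27_2 F124470 D42746 (iv D42746)
theorem F178588 : act 8 n42746 = n42746 := d28_2 D29334 D42746 (iv D42746) (iv D29334) F86969
def n42747 : Q := act 9 n29334
theorem D42747 : act 9 n29334 = n42747 := rfl
theorem F178589 : act 0 n42747 = n42747 := d8_1 D42747 (iv D42747) F124466
theorem F178590 : act 1 n42747 = n29343 := d16_1 D42747 (iv D29343) (iv F124467)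
theorem F178591 : act 2 n42747 = n42747 := d23_1 D42747 (iv D42747) F124468
theorem F178592 : act 5 n42747 = n29336 := d38_1 D42747 (iv D29336) (iv F124469)
theorem F178593 : act 7 n42747 = n42747 := d43_1 D42747 (iv D42747) F124470
theorem F178594 : act 8 n42747 = n42747 := d44_1 D42747 (iv D42747) (iv D29334) F86971 D29334
def n42748 : Q := act 2 n29335
theorem D42748 : act 2 n29335 = n42748 := rfl
theorem F178596 : act 1 n42748 = n29394 := d9_1 D42748 (iv D29394) F87149 (iv F86991) (iv F124472)
def n42749 : Q := act 4 n29335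
theorem D42749 : act 4 n29335 = n42749 := rfl
theorem F178601 : act 1 n42749 = n29344 := d11_1 D42749 (iv D29344) (iv F124472)
def n42750 : Q := act 9 n29335
theorem D42750 : act 9 n29335 = n42750 := rfl
theorem F178605 : act 0 n42750 = n42750 := d8_1 D42750 (iv D42750) F124471
theorem F178606 : act 1 n42750 = n29345 := d16_1 D42750 (iv D29345) (iv F124472)
theorem F178607 : act 3 n42750 = n29336 := d29_1 D42750 (iv D29336) D29335
theorem F178608 : act 7 n42750 = n42750 := d43_1 D42750 (iv D42750) F124473
def n42751 : Q := act 6 n29337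
theorem D42751 : act 6 n29337 = n42751 := rfl
theorem F178610 : act 2 n42751 = n29655 := d20_1 D42751 (iv D29655) (iv F124482)
theorem F178611 : act 3 n42751 = n29338 := d26_1 D42751 (iv D29338) D29337
def n42752 : Q := act 8 n29337
theorem D42752 : act 8 n29337 = n42752 := rfl
def n42754 : Q := act 7 n29338
theorem D42754 : act 7 n29338 = n42754 := rfl
theorem F178624 : act 2 n42754 = n29347 := d21_1 D42754 (iv D29347) (iv F124488)
theorem F178625 : act 4 n42754 = n29340 := d32_1 D42754 (iv D29340) (iv F124489)
def n42755 : Q := act 8 n29338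
theorem D42755 : act 8 n29338 = n42755 := rfl
theorem F178628 : act 0 n42755 = n29357 := d7_1 D42755 (iv D29357) (iv F124487)
def n42756 : Q := act 3 n29339
theorem D42756 : act 3 n29339 = n42756 := rfl
theorem F178632 : act 0 n42756 = n29358 := d2_1 D42756 (iv D29358) (iv F124491)
def n42757 : Q := act 9 n29339
theorem D42757 : act 9 n29339 = n42757 := rfl
theorem F178635 : act 0 n42757 = n29359 := d8_1 D42757 (iv D29359) (iv F124491)
def n42758 : Q := act 8 n29340
theorem D42758 : act 8 n29340 = n42758 := rfl
theorem F178641 : act 0 n42758 = n29360 := d7_1 D42758 (iv D29360) (iv F124496)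
theorem F178642 : act 2 n42758 = n29351 := d22_1 D42758 (iv D29351) (iv F124497)
theorem F178644 : act 7 n42758 = n29341 := d42_1 D42758 (iv D29341) D29340
def n42759 : Q := act 3 n29341
theorem D42759 : act 3 n29341 = n42759 := rfl
theorem F178645 : act 0 n42759 = n29361 := d2_1 D42759 (iv D29361) (iv F124501)
theorem F178646 : act 2 n42759 = n29405 := d17_1 D42759 (iv D29405) F87178 (iv F87016) (iv F124502)
theorem F178647 : act 6 n42759 = n29342 := d26_2 (iv F124503) D42759 (iv D29342)
theorem F178648 : act 8 n42759 = n42759 := d28_2 D29341 D42759 (iv D42759) (iv D29341) F86984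
def n42760 : Q := act 9 n29341
theorem D42760 : act 9 n29341 = n42760 := rfl
theorem F178649 : act 0 n42760 = n29362 := d8_1 D42760 (iv D29362) (iv F124501)
theorem F178650 : act 2 n42760 = n29352 := d23_1 D42760 (iv D29352) (iv F124502)
theorem F178651 : act 6 n42760 = n29343 := d41_1 D42760 (iv D29343) (iv F124503)
theorem F178652 : act 8 n42760 = n42760 := d44_1 D42760 (iv D42760) (iv D29341) F86985 D29341
def n42761 : Q := act 4 n29342
theorem D42761 : act 4 n29342 = n42761 := rfl
theorem F178653 : act 0 n42761 = n29363 := d3_1 D42761 (iv D29363) (iv F124504)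
theorem F178654 : act 2 n42761 = n29407 := d18_1 D42761 (iv D29407) (iv F124505)
theorem F178655 : act 7 n42761 = n42761 := d32_2 F124507 D42761 (iv D42761)
theorem F178656 : act 8 n42761 = n42761 := d33_2 F124508 D42761 (iv D42761)
def n42762 : Q := act 9 n29342
theorem D42762 : act 9 n29342 = n42762 := rfl
theorem F178657 : act 0 n42762 = n29364 := d8_1 D42762 (iv D29364) (iv F124504)
theorem F178658 : act 2 n42762 = n29408 := d23_1 D42762 (iv D29408) (iv F124505)
theorem F178659 : act 3 n42762 = n29343 := d29_1 D42762 (iv D29343) D29342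
theorem F178660 : act 5 n42762 = n29345 := d38_1 D42762 (iv D29345) (iv F124506)
theorem F178661 : act 7 n42762 = n42762 := d43_1 D42762 (iv D42762) F124507
def n42764 : Q := act 9 n29344
theorem D42764 : act 9 n29344 = n42764 := rfl
theorem F178670 : act 4 n42764 = n29345 := d34_1 D42764 (iv D29345) D29344
def n42765 : Q := act 8 n29345
theorem D42765 : act 8 n29345 = n42765 := rfl
theorem F178672 : act 0 n42765 = n29367 := d7_1 D42765 (iv D29367) (iv F124519)
theorem F178673 : act 2 n42765 = n29411 := d22_1 D42765 (iv D29411) (iv F124520)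
theorem F178674 : act 3 n42765 = n42765 := d28_1 D42765 (iv D42765) F124521 F86998 (iv F124521)
theorem F178675 : act 7 n42765 = n42765 := d42_1 D42765 (iv D42765) F124522
theorem F178676 : act 9 n42765 = n42765 := d44_2 D29345 D42765 (iv D42765) (iv D29345) F86993
def n42767 : Q := act 8 n29346
theorem D42767 : act 8 n29346 = n42767 := rfl
theorem F178684 : act 5 n42767 = n29348 := d37_1 D42767 (iv D29348) D29346
def n42769 : Q := act 3 n29348
theorem D42769 : act 3 n29348 = n42769 := rfl
theorem F178695 : act 8 n42769 = n29673 := d28_2 D29348 D42769 (iv D29673) (iv D20384) (iv F87001)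
def n42773 : Q := act 9 n29351
theorem D42773 : act 9 n29351 = n42773 := rfl
theorem F178712 : act 0 n42773 = n29375 := d8_1 D42773 (iv D29375) (iv F124550)
theorem F178713 : act 1 n42773 = n42773 := d16_1 D42773 (iv D42773) F124551
theorem F178714 : act 3 n42773 = n29419 := d29_1 D42773 (iv D29419) (iv F124552)
theorem F178715 : act 6 n42773 = n42773 := d41_1 D42773 (iv D42773) F124553
theorem F178716 : act 7 n42773 = n29352 := d43_1 D42773 (iv D29352) (iv F124554)
theorem F178717 : act 8 n42773 = n42773 := d44_1 D42773 (iv D42773) (iv D29351) F87013 D29351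
def n42774 : Q := act 5 n29353
theorem D42774 : act 5 n29353 = n42774 := rfl
theorem F178719 : act 2 n42774 = n29678 := d19_1 D42774 (iv D29678) (iv F124561)
theorem F178720 : act 3 n42774 = n29355 := d25_1 D42774 (iv D29355) (iv F124562)
def n42775 : Q := act 7 n29353
theorem D42775 : act 7 n29353 = n42775 := rfl
theorem F178724 : act 2 n42775 = n29679 := d21_1 D42775 (iv D29679) (iv F124561)
theorem F178725 : act 3 n42775 = n29356 := d27_1 D42775 (iv D29356) (iv F124562)
def n42776 : Q := act 8 n29353
theorem D42776 : act 8 n29353 = n42776 := rfl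
def n42777 : Q := act 3 n29354
theorem D42777 : act 3 n29354 = n42777 := rfl
theorem F178736 : act 8 n42777 = n29358 := d28_2 D29354 D42777 (iv D29358) (iv D20174) D20172
def n42781 : Q := act 8 n29356
theorem D42781 : act 8 n29356 = n42781 := rfl
theorem F178753 : act 4 n42781 = n29360 := d33_1 D42781 (iv D29360) (iv F124576)
def n42782 : Q := act 3 n29357
theorem D42782 : act 3 n29357 = n42782 := rfl
theorem F178757 : act 6 n42782 = n29358 := d26_2 (iv F124582) D42782 (iv D29358)
def n42783 : Q := act 9 n29357
theorem D42783 : act 9 n29357 = n42783 := rfl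
theorem F178758 : act 1 n42783 = n42783 := d16_1 D42783 (iv D42783) F124579
theorem F178759 : act 2 n42783 = n29372 := d23_1 D42783 (iv D29372) (iv F124580)
theorem F178760 : act 4 n42783 = n29362 := d34_1 D42783 (iv D29362) (iv F124581)
theorem F178761 : act 6 n42783 = n29359 := d41_1 D42783 (iv D29359) (iv F124582)
theorem F178762 : act 8 n42783 = n42783 := d44_1 D42783 (iv D42783) (iv D29357) F87033 D29357
def n42785 : Q := act 4 n29358
theorem D42785 : act 4 n29358 = n42785 := rfl
theorem F178766 : act 1 n42785 = n42785 := d11_1 D42785 (iv D42785) F124583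
theorem F178767 : act 3 n42785 = n29363 := d24_1 D42785 (iv D29363) (iv D20177) (iv F87036) D29358
theorem F178768 : act 7 n42785 = n42785 := d32_2 F124585 D42785 (iv D42785)
def n42786 : Q := act 9 n29358
theorem D42786 : act 9 n29358 = n42786 := rfl
theorem F178769 : act 1 n42786 = n42786 := d16_1 D42786 (iv D42786) F124583
theorem F178770 : act 3 n42786 = n29359 := d29_1 D42786 (iv D29359) D29358
theorem F178771 : act 5 n42786 = n42786 := d38_1 D42786 (iv D42786) F124584
theorem F178772 : act 7 n42786 = n42786 := d43_1 D42786 (iv D42786) F124585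
def n42787 : Q := act 3 n29360
theorem D42787 : act 3 n29360 = n42787 := rfl
theorem F178773 : act 1 n42787 = n42787 := d10_1 D42787 (iv D42787) F124592
theorem F178774 : act 2 n42787 = n29433 := d17_1 D42787 (iv D29433) F87255 (iv F87089) (iv F124593)
theorem F178775 : act 6 n42787 = n42787 := d26_2 F124594 D42787 (iv D42787)
theorem F178776 : act 7 n42787 = n29361 := d27_2 (iv F124595) D42787 (iv D29361)
theorem F178777 : act 8 n42787 = n42787 := d28_2 D29360 D42787 (iv D42787) (iv D29360) F87041
def n42788 : Q := act 9 n29360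
theorem D42788 : act 9 n29360 = n42788 := rfl
theorem F178778 : act 1 n42788 = n42788 := d16_1 D42788 (iv D42788) F124592
theorem F178779 : act 2 n42788 = n29375 := d23_1 D42788 (iv D29375) (iv F124593)
theorem F178780 : act 6 n42788 = n42788 := d41_1 D42788 (iv D42788) F124594
theorem F178781 : act 7 n42788 = n29362 := d43_1 D42788 (iv D29362) (iv F124595)
theorem F178782 : act 8 n42788 = n42788 := d44_1 D42788 (iv D42788) (iv D29360) F87043 D29360
def n42789 : Q := act 4 n29361
theorem D42789 : act 4 n29361 = n42789 := rfl
theorem F178783 : act 1 n42789 = n42789 := d11_1 D42789 (iv D42789) F124596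
theorem F178784 : act 2 n42789 = n29435 := d18_1 D42789 (iv D29435) (iv F124597)
theorem F178785 : act 6 n42789 = n29363 := d31_2 (iv F124598) D42789 (iv D29363)
theorem F178786 : act 8 n42789 = n42789 := d33_2 F124599 D42789 (iv D42789)
def n42790 : Q := act 9 n29361
theorem D42790 : act 9 n29361 = n42790 := rfl
theorem F178787 : act 1 n42790 = n42790 := d16_1 D42790 (iv D42790) F124596
theorem F178788 : act 2 n42790 = n29436 := d23_1 D42790 (iv D29436) (iv F124597)
theorem F178789 : act 3 n42790 = n29362 := d29_1 D42790 (iv D29362) D29361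
theorem F178790 : act 6 n42790 = n29364 := d41_1 D42790 (iv D29364) (iv F124598)
def n42791 : Q := act 5 n29363
theorem D42791 : act 5 n29363 = n42791 := rfl
theorem F178791 : act 1 n42791 = n42791 := d12_1 D42791 (iv D42791) F124604
theorem F178792 : act 2 n42791 = n29437 := d19_1 D42791 (iv D29437) (iv F124605)
theorem F178793 : act 4 n42791 = n29365 := d30_1 D42791 (iv D29365) (iv D20179) (iv F87049) D29363
theorem F178794 : act 7 n42791 = n42791 := d36_2 F124606 D42791 (iv D42791)
theorem F178795 : act 8 n42791 = n42791 := d37_2 F124607 D42791 (iv D42791)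
def n42792 : Q := act 9 n29363
theorem D42792 : act 9 n29363 = n42792 := rfl
theorem F178796 : act 1 n42792 = n42792 := d16_1 D42792 (iv D42792) F124604
theorem F178797 : act 2 n42792 = n29438 := d23_1 D42792 (iv D29438) (iv F124605)
theorem F178798 : act 4 n42792 = n29364 := d34_1 D42792 (iv D29364) D29363
theorem F178799 : act 7 n42792 = n42792 := d43_1 D42792 (iv D42792) F124606
def n42793 : Q := act 8 n29364
theorem D42793 : act 8 n29364 = n42793 := rfl
theorem F178800 : act 1 n42793 = n42793 := d15_1 D42793 (iv D42793) F124608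
theorem F178801 : act 2 n42793 = n29439 := d22_1 D42793 (iv D29439) (iv F124609)
theorem F178802 : act 3 n42793 = n42793 := d28_1 D42793 (iv D42793) F124610 F87056 (iv F124610)
theorem F178803 : act 5 n42793 = n29367 := d37_1 D42793 (iv D29367) (iv F124611)
theorem F178804 : act 7 n42793 = n42793 := d42_1 D42793 (iv D42793) F124612
theorem F178805 : act 9 n42793 = n42793 := d44_2 D29364 D42793 (iv D42793) (iv D29364) F87051
def n42794 : Q := act 6 n29365
theorem D42794 : act 6 n29365 = n42794 := rfl
theorem F178806 : act 1 n42794 = n42794 := d13_1 D42794 (iv D42794) F124613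
theorem F178807 : act 2 n42794 = n29440 := d20_1 D42794 (iv D29440) (iv F124614)
theorem F178808 : act 3 n42794 = n42794 := d26_1 D42794 (iv D42794) F124615
theorem F178809 : act 8 n42794 = n42794 := d40_2 F124617 D42794 (iv D42794)
def n42795 : Q := act 9 n29365
theorem D42795 : act 9 n29365 = n42795 := rfl
theorem F178810 : act 1 n42795 = n42795 := d16_1 D42795 (iv D42795) F124613
theorem F178811 : act 2 n42795 = n29441 := d23_1 D42795 (iv D29441) (iv F124614)
theorem F178812 : act 3 n42795 = n42795 := d29_1 D42795 (iv D42795) F124615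
theorem F178813 : act 5 n42795 = n29366 := d38_1 D42795 (iv D29366) D29365
theorem F178814 : act 7 n42795 = n42795 := d43_1 D42795 (iv D42795) F124616
def n42796 : Q := act 8 n29366
theorem D42796 : act 8 n29366 = n42796 := rfl
theorem F178815 : act 1 n42796 = n42796 := d15_1 D42796 (iv D42796) F124618
theorem F178816 : act 2 n42796 = n29442 := d22_1 D42796 (iv D29442) (iv F124619)
theorem F178817 : act 4 n42796 = n29367 := d33_1 D42796 (iv D29367) (iv F124621)
theorem F178818 : act 7 n42796 = n42796 := d42_1 D42796 (iv D42796) F124622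
theorem F178819 : act 9 n42796 = n42796 := d44_2 D29366 D42796 (iv D42796) (iv D29366) F87061
def n42799 : Q := act 3 n29369
theorem D42799 : act 3 n29369 = n42799 := rfl
theorem F178831 : act 8 n42799 = n29703 := d28_2 D29369 D42799 (iv D29703) (iv D20405) (iv F87067)
def n42800 : Q := act 9 n29369
theorem D42800 : act 9 n29369 = n42800 := rfl
theorem F178832 : act 1 n42800 = n29379 := d16_1 D42800 (iv D29379) (iv F124632)
theorem F178833 : act 5 n42800 = n29372 := d38_1 D42800 (iv D29372) (iv F124633)
theorem F178834 : act 6 n42800 = n42800 := d41_1 D42800 (iv D42800) F124634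
theorem F178835 : act 8 n42800 = n42800 := d44_1 D42800 (iv D42800) (iv D29369) F87069 D29369
def n42801 : Q := act 3 n29370
theorem D42801 : act 3 n29370 = n42801 := rfl
theorem F178840 : act 8 n42801 = n29705 := d28_2 D29370 D42801 (iv D29705) (iv D20406) (iv F87071)
def n42802 : Q := act 9 n29370
theorem D42802 : act 9 n29370 = n42802 := rfl
theorem F178841 : act 1 n42802 = n29381 := d16_1 D42802 (iv D29381) (iv F124635)
theorem F178842 : act 4 n42802 = n29375 := d34_1 D42802 (iv D29375) (iv F124636)
theorem F178843 : act 6 n42802 = n42802 := d41_1 D42802 (iv D42802) F124637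
theorem F178844 : act 7 n42802 = n29372 := d43_1 D42802 (iv D29372) (iv F124638)
theorem F178845 : act 8 n42802 = n42802 := d44_1 D42802 (iv D42802) (iv D29370) F87074 D29370
def n42805 : Q := act 1 n29373
theorem D42805 : act 1 n29373 = n42805 := rfl
theorem F178853 : act 2 n42805 = n29384 := d9_2 D29373 D42805 (iv D29384) (iv D20193) (iv F87078)
theorem F178857 : act 8 n42805 = n29709 := d15_2 (iv F124650) D42805 (iv D29709)
def n42809 : Q := act 3 n29377
theorem D42809 : act 3 n29377 = n42809 := rfl
theorem F178876 : act 8 n42809 = n29713 := d28_2 D29377 D42809 (iv D29713) (iv D20413) (iv F87098)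
def n42810 : Q := act 9 n29377
theorem D42810 : act 9 n29377 = n42810 := rfl
theorem F178877 : act 0 n42810 = n42810 := d8_1 D42810 (iv D42810) F124667
theorem F178878 : act 2 n42810 = n42810 := d23_1 D42810 (iv D42810) F124668
theorem F178879 : act 5 n42810 = n29381 := d38_1 D42810 (iv D29381) (iv F124669)
theorem F178880 : act 7 n42810 = n29379 := d43_1 D42810 (iv D29379) (iv F124670)
theorem F178881 : act 8 n42810 = n42810 := d44_1 D42810 (iv D42810) (iv D29377) F87100 D29377
def n42811 : Q := act 2 n29378
theorem D42811 : act 2 n29378 = n42811 := rfl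
theorem F178884 : act 5 n42811 = n29382 := d19_2 (iv F124672) D42811 (iv D29382)
theorem F178886 : act 8 n42811 = n29715 := d22_2 (iv F124674) D42811 (iv D29715)
def n42812 : Q := act 4 n29378
theorem D42812 : act 4 n29378 = n42812 := rfl
theorem F178887 : act 0 n42812 = n42812 := d3_1 D42812 (iv D42812) F124671
theorem F178888 : act 5 n42812 = n29458 := d30_2 (iv F124672) D42812 (iv D29458) F87315 (iv F87111)
theorem F178889 : act 6 n42812 = n42812 := d31_2 F124673 D42812 (iv D42812)
theorem F178890 : act 8 n42812 = n29716 := d33_2 (iv F124674) D42812 (iv D29716)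
def n42813 : Q := act 9 n29378
theorem D42813 : act 9 n29378 = n42813 := rfl
theorem F178891 : act 0 n42813 = n42813 := d8_1 D42813 (iv D42813) F124671
theorem F178892 : act 3 n42813 = n29379 := d29_1 D42813 (iv D29379) D29378
theorem F178893 : act 5 n42813 = n29383 := d38_1 D42813 (iv D29383) (iv F124672)
theorem F178894 : act 6 n42813 = n42813 := d41_1 D42813 (iv D42813) F124673
def n42814 : Q := act 2 n29380
theorem D42814 : act 2 n29380 = n42814 := rfl
theorem F178899 : act 7 n42814 = n29382 := d21_2 (iv F124683) D42814 (iv D29382)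
theorem F178900 : act 8 n42814 = n29718 := d22_2 (iv F124684) D42814 (iv D29718)
def n42815 : Q := act 9 n29380
theorem D42815 : act 9 n29380 = n42815 := rfl
theorem F178901 : act 0 n42815 = n42815 := d8_1 D42815 (iv D42815) F124680
theorem F178902 : act 3 n42815 = n29381 := d29_1 D42815 (iv D29381) D29380
theorem F178903 : act 4 n42815 = n29461 := d34_1 D42815 (iv D29461) (iv F124681)
theorem F178904 : act 6 n42815 = n42815 := d41_1 D42815 (iv D42815) F124682
theorem F178905 : act 7 n42815 = n29383 := d43_1 D42815 (iv D29383) (iv F124683)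
def n42816 : Q := act 1 n29382
theorem D42816 : act 1 n29382 = n42816 := rfl
theorem F178908 : act 6 n42816 = n29384 := d13_2 (iv F124694) D42816 (iv D29384)
theorem F178909 : act 8 n42816 = n29720 := d15_2 (iv F124695) D42816 (iv D29720)
def n42817 : Q := act 9 n29382
theorem D42817 : act 9 n29382 = n42817 := rfl
theorem F178910 : act 0 n42817 = n42817 := d8_1 D42817 (iv D42817) F124691
theorem F178911 : act 2 n42817 = n29383 := d23_1 D42817 (iv D29383) D29382
theorem F178912 : act 3 n42817 = n42817 := d29_1 D42817 (iv D42817) F124692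
theorem F178913 : act 4 n42817 = n29463 := d34_1 D42817 (iv D29463) (iv F124693)
theorem F178914 : act 6 n42817 = n29385 := d41_1 D42817 (iv D29385) (iv F124694)
def n42818 : Q := act 8 n29383
theorem D42818 : act 8 n29383 = n42818 := rfl
theorem F178917 : act 4 n42818 = n29464 := d33_1 D42818 (iv D29464) (iv F124698)
theorem F178919 : act 9 n42818 = n29722 := d44_2 D29383 D42818 (iv D29722) (iv D20419) (iv F87113)
def n42820 : Q := act 9 n29384
theorem D42820 : act 9 n29384 = n42820 := rfl
theorem F178926 : act 1 n42820 = n29385 := d16_1 D42820 (iv D29385) D29384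
theorem F178927 : act 3 n42820 = n42820 := d29_1 D42820 (iv D42820) F124700
theorem F178928 : act 4 n42820 = n29466 := d34_1 D42820 (iv D29466) (iv F124701)
theorem F178929 : act 5 n42820 = n42820 := d38_1 D42820 (iv D42820) F124702
theorem F178930 : act 7 n42820 = n42820 := d43_1 D42820 (iv D42820) F124703
def n42821 : Q := act 8 n29385
theorem D42821 : act 8 n29385 = n42821 := rfl
theorem F178936 : act 9 n42821 = n29725 := d44_2 D29385 D42821 (iv D29725) (iv D20421) (iv F87124)
def n42823 : Q := act 6 n29387
theorem D42823 : act 6 n29387 = n42823 := rfl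
theorem F178944 : act 3 n42823 = n29388 := d26_1 D42823 (iv D29388) D29387
def n42825 : Q := act 5 n29388
theorem D42825 : act 5 n29388 = n42825 := rfl
theorem F178951 : act 1 n42825 = n29399 := d12_1 D42825 (iv D29399) (iv F124722)
theorem F178952 : act 2 n42825 = n42825 := d19_1 D42825 (iv D42825) F124723
theorem F178953 : act 6 n42825 = n31173 := d35_2 D29388 D42825 (iv D31173) (iv D21394) (iv F87138)
theorem F178954 : act 9 n42825 = n29471 := d38_2 (iv F124725) D42825 (iv D29471)
def n42826 : Q := act 7 n29388
theorem D42826 : act 7 n29388 = n42826 := rfl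
theorem F178955 : act 1 n42826 = n29400 := d14_1 D42826 (iv D29400) (iv F124722)
theorem F178956 : act 2 n42826 = n42826 := d21_1 D42826 (iv D42826) F124723
theorem F178957 : act 4 n42826 = n29390 := d32_1 D42826 (iv D29390) (iv F124724)
theorem F178958 : act 6 n42826 = n42826 := d39_1 D42826 (iv D42826) (iv D29388) F87139 D29388
theorem F178959 : act 9 n42826 = n29472 := d43_2 (iv F124725) D42826 (iv D29472)
def n42827 : Q := act 8 n29388
theorem D42827 : act 8 n29388 = n42827 := rfl
theorem F178960 : act 1 n42827 = n29401 := d15_1 D42827 (iv D29401) (iv F124722)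
theorem F178961 : act 2 n42827 = n42827 := d22_1 D42827 (iv D42827) F124723
theorem F178962 : act 4 n42827 = n29391 := d33_1 D42827 (iv D29391) (iv F124724)
theorem F178963 : act 6 n42827 = n29389 := d40_1 D42827 (iv D29389) D29388
def n42828 : Q := act 3 n29389
theorem D42828 : act 3 n29389 = n42828 := rfl
theorem F178964 : act 1 n42828 = n29402 := d10_1 D42828 (iv D29402) (iv F124726)
theorem F178965 : act 5 n42828 = n31176 := d25_2 (iv F124729) D42828 (iv D31176)
theorem F178966 : act 7 n42828 = n42828 := d27_2 F124730 D42828 (iv D42828)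
def n42829 : Q := act 9 n29389
theorem D42829 : act 9 n29389 = n42829 := rfl
theorem F178967 : act 1 n42829 = n29403 := d16_1 D42829 (iv D29403) (iv F124726)
theorem F178968 : act 2 n42829 = n42829 := d23_1 D42829 (iv D42829) F124727
theorem F178969 : act 4 n42829 = n29393 := d34_1 D42829 (iv D29393) (iv F124728)
theorem F178971 : act 7 n42829 = n42829 := d43_1 D42829 (iv D42829) F124730
theorem F178972 : act 8 n42829 = n29475 := d44_1 D42829 (iv D29475) (iv D20253) (iv F87140) D29389
def n42830 : Q := act 8 n29390
theorem D42830 : act 8 n29390 = n42830 := rfl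
theorem F178973 : act 1 n42830 = n29404 := d15_1 D42830 (iv D29404) (iv F124731)
theorem F178974 : act 2 n42830 = n42830 := d22_1 D42830 (iv D42830) F124732
theorem F178975 : act 6 n42830 = n42830 := d40_1 D42830 (iv D42830) F124734
theorem F178976 : act 7 n42830 = n29391 := d42_1 D42830 (iv D29391) D29390
def n42831 : Q := act 3 n29391
theorem D42831 : act 3 n29391 = n42831 := rfl
theorem F178977 : act 1 n42831 = n29405 := d10_1 D42831 (iv D29405) (iv F124736)
theorem F178978 : act 6 n42831 = n29392 := d26_2 (iv F124738) D42831 (iv D29392)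
def n42832 : Q := act 9 n29391
theorem D42832 : act 9 n29391 = n42832 := rfl
theorem F178980 : act 1 n42832 = n29406 := d16_1 D42832 (iv D29406) (iv F124736)
theorem F178981 : act 2 n42832 = n42832 := d23_1 D42832 (iv D42832) F124737
theorem F178982 : act 6 n42832 = n29393 := d41_1 D42832 (iv D29393) (iv F124738)
theorem F178983 : act 8 n42832 = n29478 := d44_1 D42832 (iv D29478) (iv D20255) (iv F87144) D29391
def n42834 : Q := act 4 n29392
theorem D42834 : act 4 n29392 = n42834 := rfl
theorem F178988 : act 1 n42834 = n29407 := d11_1 D42834 (iv D29407) (iv F124739)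
def n42835 : Q := act 9 n29392
theorem D42835 : act 9 n29392 = n42835 := rfl
theorem F178991 : act 1 n42835 = n29408 := d16_1 D42835 (iv D29408) (iv F124739)
theorem F178992 : act 3 n42835 = n29393 := d29_1 D42835 (iv D29393) D29392
theorem F178993 : act 5 n42835 = n29396 := d38_1 D42835 (iv D29396) (iv F124740)
def n42836 : Q := act 4 n29394
theorem D42836 : act 4 n29394 = n42836 := rfl
theorem F178995 : act 2 n42836 = n29395 := d18_1 D42836 (iv D29395) D29394
def n42839 : Q := act 9 n29395
theorem D42839 : act 9 n29395 = n42839 := rfl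
theorem F179007 : act 4 n42839 = n29396 := d34_1 D42839 (iv D29396) D29395
def n42840 : Q := act 8 n29396
theorem D42840 : act 8 n29396 = n42840 := rfl
theorem F179009 : act 1 n42840 = n29411 := d15_1 D42840 (iv D29411) (iv F124755)
def n42841 : Q := act 5 n29397
theorem D42841 : act 5 n29397 = n42841 := rfl
theorem F179013 : act 0 n42841 = n29420 := d4_1 D42841 (iv D29420) (iv F124758)
theorem F179015 : act 3 n42841 = n29399 := d25_1 D42841 (iv D29399) (iv F124760)
theorem F179016 : act 6 n42841 = n31189 := d35_2 D29397 D42841 (iv D31189) (iv D21403) (iv F87160)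
def n42842 : Q := act 7 n29397
theorem D42842 : act 7 n29397 = n42842 := rfl
theorem F179018 : act 0 n42842 = n29421 := d6_1 D42842 (iv D29421) (iv F124758)
theorem F179020 : act 3 n42842 = n29400 := d27_1 D42842 (iv D29400) (iv F124760)
def n42843 : Q := act 8 n29397
theorem D42843 : act 8 n29397 = n42843 := rfl
theorem F179024 : act 0 n42843 = n29422 := d7_1 D42843 (iv D29422) (iv F124758)
theorem F179025 : act 2 n42843 = n29747 := d22_1 D42843 (iv D29747) (iv F124759)
def n42844 : Q := act 3 n29398
theorem D42844 : act 3 n29398 = n42844 := rfl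
theorem F179028 : act 0 n42844 = n29423 := d2_1 D42844 (iv D29423) (iv F124763)
theorem F179031 : act 8 n42844 = n29402 := d28_2 D29398 D42844 (iv D29402) (iv D20203) D20201
def n42845 : Q := act 9 n29398
theorem D42845 : act 9 n29398 = n42845 := rfl
theorem F179032 : act 0 n42845 = n29424 := d8_1 D42845 (iv D29424) (iv F124763)
def n42846 : Q := act 7 n29399
theorem D42846 : act 7 n29399 = n42846 := rfl
theorem F179038 : act 0 n42846 = n29425 := d6_1 D42846 (iv D29425) (iv F124768)
theorem F179039 : act 2 n42846 = n29412 := d21_1 D42846 (iv D29412) (iv F124769)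
theorem F179040 : act 5 n42846 = n29400 := d36_1 D42846 (iv D29400) D29399
theorem F179041 : act 9 n42846 = n29492 := d43_2 (iv F124771) D42846 (iv D29492)
def n42847 : Q := act 8 n29399
theorem D42847 : act 8 n29399 = n42847 := rfl
theorem F179042 : act 0 n42847 = n29426 := d7_1 D42847 (iv D29426) (iv F124768)
theorem F179043 : act 2 n42847 = n29413 := d22_1 D42847 (iv D29413) (iv F124769)
theorem F179044 : act 5 n42847 = n29401 := d37_1 D42847 (iv D29401) D29399
theorem F179045 : act 6 n42847 = n31195 := d40_1 D42847 (iv D31195) (iv F124770)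
def n42848 : Q := act 8 n29400
theorem D42848 : act 8 n29400 = n42848 := rfl
theorem F179046 : act 0 n42848 = n29427 := d7_1 D42848 (iv D29427) (iv F124772)
theorem F179047 : act 2 n42848 = n29414 := d22_1 D42848 (iv D29414) (iv F124773)
theorem F179048 : act 4 n42848 = n29404 := d33_1 D42848 (iv D29404) (iv F124774)
theorem F179049 : act 6 n42848 = n42848 := d40_1 D42848 (iv D42848) F124775
theorem F179050 : act 7 n42848 = n29401 := d42_1 D42848 (iv D29401) D29400
def n42849 : Q := act 3 n29401
theorem D42849 : act 3 n29401 = n42849 := rfl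
theorem F179051 : act 0 n42849 = n29428 := d2_1 D42849 (iv D29428) (iv F124777)
theorem F179052 : act 6 n42849 = n29402 := d26_2 (iv F124780) D42849 (iv D29402)
def n42850 : Q := act 9 n29401
theorem D42850 : act 9 n29401 = n42850 := rfl
theorem F179053 : act 0 n42850 = n29429 := d8_1 D42850 (iv D29429) (iv F124777)
theorem F179054 : act 2 n42850 = n29416 := d23_1 D42850 (iv D29416) (iv F124778)
theorem F179055 : act 4 n42850 = n29406 := d34_1 D42850 (iv D29406) (iv F124779)
theorem F179056 : act 6 n42850 = n29403 := d41_1 D42850 (iv D29403) (iv F124780)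
theorem F179057 : act 8 n42850 = n29496 := d44_1 D42850 (iv D29496) (iv D20265) (iv F87166) D29401
def n42852 : Q := act 4 n29402
theorem D42852 : act 4 n29402 = n42852 := rfl
theorem F179062 : act 0 n42852 = n29431 := d3_1 D42852 (iv D29431) (iv F124781)
theorem F179063 : act 3 n42852 = n29407 := d24_1 D42852 (iv D29407) (iv D20206) (iv F87169) D29402
theorem F179064 : act 7 n42852 = n42852 := d32_2 F124783 D42852 (iv D42852)
def n42853 : Q := act 9 n29402
theorem D42853 : act 9 n29402 = n42853 := rfl
theorem F179065 : act 0 n42853 = n29432 := d8_1 D42853 (iv D29432) (iv F124781)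
theorem F179066 : act 3 n42853 = n29403 := d29_1 D42853 (iv D29403) D29402
theorem F179067 : act 5 n42853 = n31201 := d38_1 D42853 (iv D31201) (iv F124782)
theorem F179068 : act 7 n42853 = n42853 := d43_1 D42853 (iv D42853) F124783
def n42854 : Q := act 3 n29404
theorem D42854 : act 3 n29404 = n42854 := rfl
theorem F179069 : act 0 n42854 = n29433 := d2_1 D42854 (iv D29433) (iv F124790)
theorem F179070 : act 6 n42854 = n42854 := d26_2 F124792 D42854 (iv D42854)
theorem F179071 : act 7 n42854 = n29405 := d27_2 (iv F124793) D42854 (iv D29405)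
theorem F179072 : act 8 n42854 = n42854 := d28_2 D29404 D42854 (iv D42854) (iv D29404) F87174
def n42855 : Q := act 9 n29404
theorem D42855 : act 9 n29404 = n42855 := rfl
theorem F179073 : act 0 n42855 = n29434 := d8_1 D42855 (iv D29434) (iv F124790)
theorem F179074 : act 2 n42855 = n29419 := d23_1 D42855 (iv D29419) (iv F124791)
theorem F179075 : act 6 n42855 = n42855 := d41_1 D42855 (iv D42855) F124792
theorem F179076 : act 7 n42855 = n29406 := d43_1 D42855 (iv D29406) (iv F124793)
theorem F179077 : act 8 n42855 = n29501 := d44_1 D42855 (iv D29501) (iv D20268) (iv F87176) D29404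
def n42856 : Q := act 4 n29405
theorem D42856 : act 4 n29405 = n42856 := rfl
theorem F179078 : act 0 n42856 = n29435 := d3_1 D42856 (iv D29435) (iv F124794)
theorem F179079 : act 6 n42856 = n29407 := d31_2 (iv F124795) D42856 (iv D29407)
theorem F179080 : act 8 n42856 = n42856 := d33_2 F124796 D42856 (iv D42856)
def n42857 : Q := act 9 n29405
theorem D42857 : act 9 n29405 = n42857 := rfl
theorem F179081 : act 0 n42857 = n29436 := d8_1 D42857 (iv D29436) (iv F124794)
theorem F179082 : act 3 n42857 = n29406 := d29_1 D42857 (iv D29406) D29405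
theorem F179083 : act 6 n42857 = n29408 := d41_1 D42857 (iv D29408) (iv F124795)
def n42858 : Q := act 5 n29407
theorem D42858 : act 5 n29407 = n42858 := rfl
theorem F179085 : act 4 n42858 = n29409 := d30_1 D42858 (iv D29409) (iv D20208) (iv F87181) D29407
def n42859 : Q := act 9 n29407
theorem D42859 : act 9 n29407 = n42859 := rfl
theorem F179088 : act 0 n42859 = n29438 := d8_1 D42859 (iv D29438) (iv F124801)
theorem F179089 : act 4 n42859 = n29408 := d34_1 D42859 (iv D29408) D29407
theorem F179090 : act 7 n42859 = n42859 := d43_1 D42859 (iv D42859) F124802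
def n42860 : Q := act 8 n29408
theorem D42860 : act 8 n29408 = n42860 := rfl
theorem F179091 : act 0 n42860 = n29439 := d7_1 D42860 (iv D29439) (iv F124804)
theorem F179092 : act 3 n42860 = n29506 := d28_1 D42860 (iv D29506) F87432 (iv F87188) (iv F124805)
theorem F179093 : act 5 n42860 = n29411 := d37_1 D42860 (iv D29411) (iv F124806)
theorem F179094 : act 7 n42860 = n42860 := d42_1 D42860 (iv D42860) F124807
theorem F179095 : act 9 n42860 = n42860 := d44_2 D29408 D42860 (iv D42860) (iv D29408) F87183
def n42863 : Q := act 8 n29410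
theorem D42863 : act 8 n29410 = n42863 := rfl
theorem F179104 : act 4 n42863 = n29411 := d33_1 D42863 (iv D29411) (iv F124814)
def n42864 : Q := act 6 n29412
theorem D42864 : act 6 n29412 = n42864 := rfl
theorem F179107 : act 0 n42864 = n29443 := d5_1 D42864 (iv D29443) (iv F124820)
theorem F179108 : act 1 n42864 = n42864 := d13_1 D42864 (iv D42864) F124821
theorem F179109 : act 3 n42864 = n29768 := d26_1 D42864 (iv D29768) (iv F124822)
theorem F179110 : act 5 n42864 = n42864 := d35_1 D42864 (iv D42864) F124823 F87205 (iv F124823)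
theorem F179111 : act 7 n42864 = n31212 := d39_2 D29412 D42864 (iv D31212) (iv D21418) (iv F87199)
theorem F179112 : act 9 n42864 = n29510 := d41_2 (iv F124824) D42864 (iv D29510)
def n42865 : Q := act 8 n29412
theorem D42865 : act 8 n29412 = n42865 := rfl
theorem F179113 : act 0 n42865 = n29444 := d7_1 D42865 (iv D29444) (iv F124820)
theorem F179114 : act 1 n42865 = n42865 := d15_1 D42865 (iv D42865) F124821
theorem F179115 : act 5 n42865 = n29414 := d37_1 D42865 (iv D29414) (iv F124823)
theorem F179116 : act 7 n42865 = n29413 := d42_1 D42865 (iv D29413) D29412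
def n42867 : Q := act 9 n29413
theorem D42867 : act 9 n29413 = n42867 := rfl
theorem F179122 : act 0 n42867 = n29446 := d8_1 D42867 (iv D29446) (iv F124825)
theorem F179123 : act 1 n42867 = n42867 := d16_1 D42867 (iv D42867) F124826
theorem F179124 : act 5 n42867 = n29416 := d38_1 D42867 (iv D29416) (iv F124827)
theorem F179125 : act 6 n42867 = n31215 := d41_1 D42867 (iv D31215) (iv F124828)
theorem F179126 : act 8 n42867 = n29513 := d44_1 D42867 (iv D29513) (iv D20277) (iv F87200) D29413
def n42868 : Q := act 3 n29414
theorem D42868 : act 3 n29414 = n42868 := rfl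
theorem F179131 : act 8 n42868 = n29772 := d28_2 D29414 D42868 (iv D29772) (iv D20450) (iv F87203)
def n42869 : Q := act 9 n29414
theorem D42869 : act 9 n29414 = n42869 := rfl
theorem F179132 : act 0 n42869 = n29448 := d8_1 D42869 (iv D29448) (iv F124829)
theorem F179133 : act 1 n42869 = n42869 := d16_1 D42869 (iv D42869) F124830
theorem F179134 : act 4 n42869 = n29419 := d34_1 D42869 (iv D29419) (iv F124831)
theorem F179135 : act 6 n42869 = n42869 := d41_1 D42869 (iv D42869) F124832
theorem F179136 : act 7 n42869 = n29416 := d43_1 D42869 (iv D29416) (iv F124833)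
theorem F179137 : act 8 n42869 = n29515 := d44_1 D42869 (iv D29515) (iv D20278) (iv F87206) D29414
def n42875 : Q := act 4 n29420
theorem D42875 : act 4 n29420 = n42875 := rfl
theorem F179159 : act 2 n42875 = n29779 := d18_1 D42875 (iv D29779) (iv F124857)
theorem F179160 : act 5 n42875 = n42875 := d30_2 D29420 D42875 (iv D42875) (iv D29420) F87232
theorem F179161 : act 6 n42875 = n31223 := d31_2 (iv F124859) D42875 (iv D31223)
theorem F179162 : act 9 n42875 = n29521 := d34_2 (iv F124860) D42875 (iv D29521)
def n42876 : Q := act 7 n29420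
theorem D42876 : act 7 n29420 = n42876 := rfl
theorem F179163 : act 2 n42876 = n29780 := d21_1 D42876 (iv D29780) (iv F124857)
theorem F179164 : act 3 n42876 = n29425 := d27_1 D42876 (iv D29425) (iv F124858)
theorem F179165 : act 5 n42876 = n29421 := d36_1 D42876 (iv D29421) D29420
theorem F179166 : act 9 n42876 = n29522 := d43_2 (iv F124860) D42876 (iv D29522)
def n42877 : Q := act 8 n29420
theorem D42877 : act 8 n29420 = n42877 := rfl
theorem F179167 : act 2 n42877 = n29781 := d22_1 D42877 (iv D29781) (iv F124857)
theorem F179168 : act 5 n42877 = n29422 := d37_1 D42877 (iv D29422) D29420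
theorem F179169 : act 6 n42877 = n31225 := d40_1 D42877 (iv D31225) (iv F124859)
def n42878 : Q := act 8 n29421
theorem D42878 : act 8 n29421 = n42878 := rfl
theorem F179170 : act 2 n42878 = n29782 := d22_1 D42878 (iv D29782) (iv F124861)
theorem F179171 : act 4 n42878 = n42878 := d33_1 D42878 (iv D42878) F124863
theorem F179172 : act 6 n42878 = n42878 := d40_1 D42878 (iv D42878) F124864
theorem F179173 : act 7 n42878 = n29422 := d42_1 D42878 (iv D29422) D29421
def n42879 : Q := act 3 n29422
theorem D42879 : act 3 n29422 = n42879 := rfl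
theorem F179174 : act 6 n42879 = n29423 := d26_2 (iv F124868) D42879 (iv D29423)
theorem F179175 : act 8 n42879 = n29428 := d28_2 D29422 D42879 (iv D29428) (iv D20221) (iv F87231)
def n42880 : Q := act 9 n29422
theorem D42880 : act 9 n29422 = n42880 := rfl
theorem F179176 : act 2 n42880 = n29784 := d23_1 D42880 (iv D29784) (iv F124866)
theorem F179177 : act 4 n42880 = n42880 := d34_1 D42880 (iv D42880) F124867
theorem F179178 : act 6 n42880 = n29424 := d41_1 D42880 (iv D29424) (iv F124868)
theorem F179179 : act 8 n42880 = n29526 := d44_1 D42880 (iv D29526) (iv D20286) (iv F87233) D29422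
def n42881 : Q := act 2 n29423
theorem D42881 : act 2 n29423 = n42881 := rfl
theorem F179180 : act 3 n42881 = n29785 := d17_2 D29423 D42881 (iv D29785) (iv D20459) (iv F87234)
def n42882 : Q := act 4 n29423
theorem D42882 : act 4 n29423 = n42882 := rfl
theorem F179184 : act 3 n42882 = n42882 := d24_1 D42882 (iv D42882) (iv D29423) F87235 D29423
theorem F179185 : act 7 n42882 = n42882 := d32_2 F124870 D42882 (iv D42882)
theorem F179186 : act 8 n42882 = n29431 := d33_2 (iv F124871) D42882 (iv D29431)
def n42883 : Q := act 9 n29423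
theorem D42883 : act 9 n29423 = n42883 := rfl
theorem F179187 : act 3 n42883 = n29424 := d29_1 D42883 (iv D29424) D29423
theorem F179188 : act 5 n42883 = n31231 := d38_1 D42883 (iv D31231) (iv F124869)
theorem F179189 : act 7 n42883 = n42883 := d43_1 D42883 (iv D42883) F124870
def n42884 : Q := act 6 n29425
theorem D42884 : act 6 n29425 = n42884 := rfl
theorem F179190 : act 2 n42884 = n29443 := d20_1 D42884 (iv D29443) (iv F124877)
theorem F179191 : act 5 n42884 = n42884 := d35_1 D42884 (iv D42884) F124878 F87243 (iv F124878)
theorem F179192 : act 7 n42884 = n31232 := d39_2 D29425 D42884 (iv D31232) (iv D21431) (iv F87239)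
theorem F179193 : act 9 n42884 = n29530 := d41_2 (iv F124879) D42884 (iv D29530)
def n42885 : Q := act 8 n29425
theorem D42885 : act 8 n29425 = n42885 := rfl
theorem F179194 : act 2 n42885 = n29444 := d22_1 D42885 (iv D29444) (iv F124877)
theorem F179195 : act 5 n42885 = n29427 := d37_1 D42885 (iv D29427) (iv F124878)
theorem F179196 : act 7 n42885 = n29426 := d42_1 D42885 (iv D29426) D29425
def n42886 : Q := act 3 n29426
theorem D42886 : act 3 n29426 = n42886 := rfl
theorem F179197 : act 5 n42886 = n29428 := d25_2 (iv F124881) D42886 (iv D29428)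
theorem F179198 : act 6 n42886 = n31234 := d26_2 (iv F124882) D42886 (iv D31234)
def n42887 : Q := act 9 n29426
theorem D42887 : act 9 n29426 = n42887 := rfl
theorem F179199 : act 2 n42887 = n29446 := d23_1 D42887 (iv D29446) (iv F124880)
theorem F179200 : act 5 n42887 = n29429 := d38_1 D42887 (iv D29429) (iv F124881)
theorem F179201 : act 6 n42887 = n31235 := d41_1 D42887 (iv D31235) (iv F124882)
theorem F179202 : act 8 n42887 = n29533 := d44_1 D42887 (iv D29533) (iv D20290) (iv F87240) D29426
def n42888 : Q := act 3 n29427
theorem D42888 : act 3 n29427 = n42888 := rfl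
theorem F179203 : act 6 n42888 = n42888 := d26_2 F124885 D42888 (iv D42888)
theorem F179204 : act 7 n42888 = n29428 := d27_2 (iv F124886) D42888 (iv D29428)
def n42889 : Q := act 9 n29427
theorem D42889 : act 9 n29427 = n42889 := rfl
theorem F179205 : act 2 n42889 = n29448 := d23_1 D42889 (iv D29448) (iv F124883)
theorem F179206 : act 4 n42889 = n29434 := d34_1 D42889 (iv D29434) (iv F124884)
theorem F179207 : act 6 n42889 = n42889 := d41_1 D42889 (iv D42889) F124885
theorem F179208 : act 7 n42889 = n29429 := d43_1 D42889 (iv D29429) (iv F124886)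
theorem F179209 : act 8 n42889 = n29535 := d44_1 D42889 (iv D29535) (iv D20291) (iv F87244) D29427
def n42890 : Q := act 2 n29428
theorem D42890 : act 2 n29428 = n42890 := rfl
theorem F179210 : act 3 n42890 = n29449 := d17_2 D29428 D42890 (iv D29449) (iv D20235) (iv F87245)
theorem F179211 : act 6 n42890 = n29430 := d20_2 (iv F124887) D42890 (iv D29430)
def n42891 : Q := act 4 n29428
theorem D42891 : act 4 n29428 = n42891 := rfl
theorem F179212 : act 3 n42891 = n29435 := d24_1 D42891 (iv D29435) (iv D20225) (iv F87246) D29428
theorem F179213 : act 6 n42891 = n29431 := d31_2 (iv F124887) D42891 (iv D29431)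
def n42892 : Q := act 9 n29428
theorem D42892 : act 9 n29428 = n42892 := rfl
theorem F179214 : act 3 n42892 = n29429 := d29_1 D42892 (iv D29429) D29428
theorem F179215 : act 6 n42892 = n29432 := d41_1 D42892 (iv D29432) (iv F124887)
def n42893 : Q := act 1 n29430
theorem D42893 : act 1 n29430 = n42893 := rfl
theorem F179216 : act 3 n42893 = n29451 := d10_2 (iv F124892) D42893 (iv D29451)
theorem F179217 : act 5 n42893 = n31241 := d12_2 (iv F124893) D42893 (iv D31241)
theorem F179218 : act 7 n42893 = n42893 := d14_2 F124894 D42893 (iv D42893)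
def n42894 : Q := act 4 n29430
theorem D42894 : act 4 n29430 = n42894 := rfl
theorem F179219 : act 2 n42894 = n29431 := d18_1 D42894 (iv D29431) D29430
theorem F179220 : act 7 n42894 = n42894 := d32_2 F124894 D42894 (iv D42894)
def n42895 : Q := act 9 n29430
theorem D42895 : act 9 n29430 = n42895 := rfl
theorem F179221 : act 2 n42895 = n29432 := d23_1 D42895 (iv D29432) D29430
theorem F179222 : act 3 n42895 = n29452 := d29_1 D42895 (iv D29452) (iv F124892)
theorem F179223 : act 5 n42895 = n31243 := d38_1 D42895 (iv D31243) (iv F124893)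
theorem F179224 : act 7 n42895 = n42895 := d43_1 D42895 (iv D42895) F124894
def n42896 : Q := act 5 n29431
theorem D42896 : act 5 n29431 = n42896 := rfl
theorem F179225 : act 3 n42896 = n29437 := d25_1 D42896 (iv D29437) (iv F124895)
theorem F179227 : act 7 n42896 = n42896 := d36_2 F124896 D42896 (iv D42896)
def n42897 : Q := act 9 n29431
theorem D42897 : act 9 n29431 = n42897 := rfl
theorem F179228 : act 3 n42897 = n29438 := d29_1 D42897 (iv D29438) (iv F124895)
theorem F179229 : act 4 n42897 = n29432 := d34_1 D42897 (iv D29432) D29431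
theorem F179230 : act 7 n42897 = n42897 := d43_1 D42897 (iv D42897) F124896
def n42898 : Q := act 8 n29432
theorem D42898 : act 8 n29432 = n42898 := rfl
theorem F179231 : act 3 n42898 = n29544 := d28_1 D42898 (iv D29544) F87522 (iv F87254) (iv F124897)
theorem F179232 : act 5 n42898 = n31246 := d37_1 D42898 (iv D31246) (iv F124898)
theorem F179233 : act 7 n42898 = n42898 := d42_1 D42898 (iv D42898) F124899
def n42899 : Q := act 4 n29433
theorem D42899 : act 4 n29433 = n42899 := rfl
theorem F179234 : act 6 n42899 = n42899 := d31_2 F124900 D42899 (iv D42899)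
theorem F179235 : act 7 n42899 = n29435 := d32_2 (iv F124901) D42899 (iv D29435)
theorem F179236 : act 8 n42899 = n42899 := d33_2 F124902 D42899 (iv D42899)
def n42900 : Q := act 9 n29433
theorem D42900 : act 9 n29433 = n42900 := rfl
theorem F179237 : act 3 n42900 = n29434 := d29_1 D42900 (iv D29434) D29433
theorem F179238 : act 6 n42900 = n42900 := d41_1 D42900 (iv D42900) F124900
theorem F179239 : act 7 n42900 = n29436 := d43_1 D42900 (iv D29436) (iv F124901)
def n42901 : Q := act 5 n29435
theorem D42901 : act 5 n29435 = n42901 := rfl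
theorem F179240 : act 8 n42901 = n42901 := d37_2 F124908 D42901 (iv D42901)
def n42902 : Q := act 9 n29435
theorem D42902 : act 9 n29435 = n42902 := rfl
theorem F179241 : act 4 n42902 = n29436 := d34_1 D42902 (iv D29436) D29435
theorem F179242 : act 6 n42902 = n29438 := d41_1 D42902 (iv D29438) (iv F124907)
def n42903 : Q := act 8 n29436
theorem D42903 : act 8 n29436 = n42903 := rfl
theorem F179243 : act 3 n42903 = n29549 := d28_1 D42903 (iv D29549) F87536 (iv F87262) (iv F124909)
theorem F179244 : act 6 n42903 = n29439 := d40_1 D42903 (iv D29439) (iv F124910)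
theorem F179245 : act 9 n42903 = n42903 := d44_2 D29436 D42903 (iv D42903) (iv D29436) F87259
def n42904 : Q := act 6 n29437
theorem D42904 : act 6 n29437 = n42904 := rfl
theorem F179246 : act 4 n42904 = n29440 := d31_1 D42904 (iv D29440) (iv F124911)
theorem F179247 : act 8 n42904 = n42904 := d40_2 F124913 D42904 (iv D42904)
def n42905 : Q := act 9 n29437
theorem D42905 : act 9 n29437 = n42905 := rfl
theorem F179248 : act 4 n42905 = n29441 := d34_1 D42905 (iv D29441) (iv F124911)
theorem F179249 : act 5 n42905 = n29438 := d38_1 D42905 (iv D29438) D29437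
theorem F179250 : act 7 n42905 = n42905 := d43_1 D42905 (iv D42905) F124912
def n42906 : Q := act 8 n29438
theorem D42906 : act 8 n29438 = n42906 := rfl
theorem F179251 : act 4 n42906 = n29439 := d33_1 D42906 (iv D29439) (iv F124914)
theorem F179252 : act 7 n42906 = n42906 := d42_1 D42906 (iv D42906) F124915
theorem F179253 : act 9 n42906 = n42906 := d44_2 D29438 D42906 (iv D42906) (iv D29438) F87264
def n42907 : Q := act 7 n29440
theorem D42907 : act 7 n29440 = n42907 := rfl
theorem F179255 : act 6 n42907 = n42907 := d39_1 D42907 (iv D42907) (iv D29440) F87269 D29440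
theorem F179256 : act 8 n42907 = n42907 := d42_2 F124921 D42907 (iv D42907)
def n42908 : Q := act 9 n29440
theorem D42908 : act 9 n29440 = n42908 := rfl
theorem F179258 : act 6 n42908 = n29441 := d41_1 D42908 (iv D29441) D29440
def n42909 : Q := act 8 n29441
theorem D42909 : act 8 n29441 = n42909 := rfl
theorem F179259 : act 5 n42909 = n29442 := d37_1 D42909 (iv D29442) (iv F124923)
theorem F179260 : act 7 n42909 = n42909 := d42_1 D42909 (iv D42909) F124924
theorem F179261 : act 9 n42909 = n42909 := d44_2 D29441 D42909 (iv D42909) (iv D29441) F87270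
def n42910 : Q := act 3 n29442
theorem D42910 : act 3 n29442 = n42910 := rfl
theorem F179264 : act 8 n42910 = n31258 := d28_2 D29442 D42910 (iv D31258) (iv D21448) (iv F87271)
def n42911 : Q := act 8 n29443
theorem D42911 : act 8 n29443 = n42911 := rfl
theorem F179266 : act 1 n42911 = n29454 := d15_1 D42911 (iv D29454) (iv F124928)
theorem F179267 : act 5 n42911 = n42911 := d37_1 D42911 (iv D42911) F124930
theorem F179268 : act 6 n42911 = n29444 := d40_1 D42911 (iv D29444) D29443
theorem F179269 : act 7 n42911 = n31259 := d42_1 D42911 (iv D31259) (iv F124931)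
def n42912 : Q := act 3 n29444
theorem D42912 : act 3 n29444 = n42912 := rfl
theorem F179270 : act 1 n42912 = n29455 := d10_1 D42912 (iv D29455) (iv F124933)
theorem F179271 : act 5 n42912 = n29447 := d25_2 (iv F124934) D42912 (iv D29447)
theorem F179272 : act 7 n42912 = n29445 := d27_2 (iv F124935) D42912 (iv D29445)
theorem F179273 : act 8 n42912 = n29815 := d28_2 D29444 D42912 (iv D29815) (iv D20480) (iv F87278)
def n42913 : Q := act 9 n29444
theorem D42913 : act 9 n29444 = n42913 := rfl
theorem F179274 : act 1 n42913 = n29456 := d16_1 D42913 (iv D29456) (iv F124933)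
theorem F179275 : act 5 n42913 = n29448 := d38_1 D42913 (iv D29448) (iv F124934)
theorem F179276 : act 7 n42913 = n29446 := d43_1 D42913 (iv D29446) (iv F124935)
theorem F179277 : act 8 n42913 = n29559 := d44_1 D42913 (iv D29559) (iv D20308) (iv F87280) D29444
def n42914 : Q := act 2 n29445
theorem D42914 : act 2 n29445 = n42914 := rfl
theorem F179278 : act 5 n42914 = n29449 := d19_2 (iv F124937) D42914 (iv D29449)
theorem F179279 : act 6 n42914 = n31262 := d20_2 (iv F124938) D42914 (iv D31262)
theorem F179280 : act 8 n42914 = n29817 := d22_2 (iv F124939) D42914 (iv D29817)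
def n42915 : Q := act 4 n29445
theorem D42915 : act 4 n29445 = n42915 := rfl
theorem F179281 : act 1 n42915 = n29458 := d11_1 D42915 (iv D29458) (iv F124936)
theorem F179282 : act 6 n42915 = n31263 := d31_2 (iv F124938) D42915 (iv D31263)
theorem F179283 : act 8 n42915 = n29818 := d33_2 (iv F124939) D42915 (iv D29818)
def n42916 : Q := act 9 n29445
theorem D42916 : act 9 n29445 = n42916 := rfl
theorem F179284 : act 1 n42916 = n29459 := d16_1 D42916 (iv D29459) (iv F124936)
theorem F179285 : act 3 n42916 = n29446 := d29_1 D42916 (iv D29446) D29445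
theorem F179286 : act 5 n42916 = n29450 := d38_1 D42916 (iv D29450) (iv F124937)
theorem F179287 : act 6 n42916 = n31264 := d41_1 D42916 (iv D31264) (iv F124938)
def n42917 : Q := act 2 n29447
theorem D42917 : act 2 n29447 = n42917 := rfl
theorem F179288 : act 6 n42917 = n42917 := d20_2 F124945 D42917 (iv D42917)
theorem F179289 : act 7 n42917 = n29449 := d21_2 (iv F124946) D42917 (iv D29449)
theorem F179290 : act 8 n42917 = n29820 := d22_2 (iv F124947) D42917 (iv D29820)
def n42918 : Q := act 9 n29447
theorem D42918 : act 9 n29447 = n42918 := rfl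
theorem F179291 : act 1 n42918 = n29461 := d16_1 D42918 (iv D29461) (iv F124944)
theorem F179292 : act 3 n42918 = n29448 := d29_1 D42918 (iv D29448) D29447
theorem F179293 : act 6 n42918 = n42918 := d41_1 D42918 (iv D42918) F124945
theorem F179294 : act 7 n42918 = n29450 := d43_1 D42918 (iv D29450) (iv F124946)
def n42919 : Q := act 1 n29449
theorem D42919 : act 1 n29449 = n42919 := rfl
theorem F179295 : act 2 n42919 = n29462 := d9_2 D29449 D42919 (iv D29462) (iv D20246) (iv F87288)
theorem F179296 : act 6 n42919 = n29451 := d13_2 (iv F124953) D42919 (iv D29451)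
theorem F179297 : act 8 n42919 = n29822 := d15_2 (iv F124954) D42919 (iv D29822)
def n42920 : Q := act 9 n29449
theorem D42920 : act 9 n29449 = n42920 := rfl
theorem F179298 : act 2 n42920 = n29450 := d23_1 D42920 (iv D29450) D29449
theorem F179299 : act 6 n42920 = n29452 := d41_1 D42920 (iv D29452) (iv F124953)
def n42921 : Q := act 8 n29450
theorem D42921 : act 8 n29450 = n42921 := rfl
theorem F179300 : act 1 n42921 = n29464 := d15_1 D42921 (iv D29464) (iv F124955)
theorem F179303 : act 9 n42921 = n29824 := d44_2 D29450 D42921 (iv D29824) (iv D20486) (iv F87290)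
def n42923 : Q := act 9 n29451
theorem D42923 : act 9 n29451 = n42923 := rfl
theorem F179308 : act 1 n42923 = n29452 := d16_1 D42923 (iv D29452) D29451
theorem F179309 : act 2 n42923 = n29466 := d23_1 D42923 (iv D29466) (iv F124958)
theorem F179310 : act 5 n42923 = n31271 := d38_1 D42923 (iv D31271) (iv F124959)
theorem F179311 : act 7 n42923 = n42923 := d43_1 D42923 (iv D42923) F124960
def n42924 : Q := act 8 n29452
theorem D42924 : act 8 n29452 = n42924 := rfl
theorem F179315 : act 9 n42924 = n29827 := d44_2 D29452 D42924 (iv D29827) (iv D20488) (iv F87297)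
def n42925 : Q := act 3 n29454
theorem D42925 : act 3 n29454 = n42925 := rfl
theorem F179316 : act 0 n42925 = n42925 := d2_1 D42925 (iv D42925) F124970
theorem F179317 : act 5 n42925 = n42925 := d25_2 F124971 D42925 (iv D42925)
theorem F179318 : act 6 n42925 = n29455 := d26_2 (iv F124972) D42925 (iv D29455)
theorem F179319 : act 7 n42925 = n31273 := d27_2 (iv F124973) D42925 (iv D31273)
theorem F179320 : act 8 n42925 = n29828 := d28_2 D29454 D42925 (iv D29828) (iv D20490) (iv F87307)
def n42926 : Q := act 9 n29454
theorem D42926 : act 9 n29454 = n42926 := rfl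
theorem F179321 : act 0 n42926 = n42926 := d8_1 D42926 (iv D42926) F124970
theorem F179322 : act 5 n42926 = n42926 := d38_1 D42926 (iv D42926) F124971
theorem F179323 : act 6 n42926 = n29456 := d41_1 D42926 (iv D29456) (iv F124972)
theorem F179324 : act 7 n42926 = n31274 := d43_1 D42926 (iv D31274) (iv F124973)
theorem F179325 : act 8 n42926 = n29572 := d44_1 D42926 (iv D29572) (iv D20318) (iv F87310) D29454
def n42927 : Q := act 2 n29455
theorem D42927 : act 2 n29455 = n42927 := rfl
theorem F179326 : act 0 n42927 = n42927 := d1_1 D42927 (iv D42927) F124974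
theorem F179327 : act 5 n42927 = n29460 := d19_2 (iv F124975) D42927 (iv D29460)
theorem F179328 : act 7 n42927 = n29457 := d21_2 (iv F124976) D42927 (iv D29457)
theorem F179329 : act 8 n42927 = n29830 := d22_2 (iv F124977) D42927 (iv D29830)
def n42928 : Q := act 4 n29455
theorem D42928 : act 4 n29455 = n42928 := rfl
theorem F179330 : act 0 n42928 = n42928 := d3_1 D42928 (iv D42928) F124974
theorem F179331 : act 7 n42928 = n29458 := d32_2 (iv F124976) D42928 (iv D29458)
theorem F179332 : act 8 n42928 = n29831 := d33_2 (iv F124977) D42928 (iv D29831)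
def n42929 : Q := act 9 n29455
theorem D42929 : act 9 n29455 = n42929 := rfl
theorem F179333 : act 0 n42929 = n42929 := d8_1 D42929 (iv D42929) F124974
theorem F179334 : act 3 n42929 = n29456 := d29_1 D42929 (iv D29456) D29455
theorem F179335 : act 5 n42929 = n29461 := d38_1 D42929 (iv D29461) (iv F124975)
theorem F179336 : act 7 n42929 = n29459 := d43_1 D42929 (iv D29459) (iv F124976)
def n42930 : Q := act 1 n29457
theorem D42930 : act 1 n29457 = n42930 := rfl
theorem F179337 : act 5 n42930 = n29462 := d12_2 (iv F124983) D42930 (iv D29462)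
theorem F179338 : act 6 n42930 = n31278 := d13_2 (iv F124984) D42930 (iv D31278)
theorem F179339 : act 8 n42930 = n29833 := d15_2 (iv F124985) D42930 (iv D29833)
def n42931 : Q := act 4 n29457
theorem D42931 : act 4 n29457 = n42931 := rfl
theorem F179340 : act 0 n42931 = n42931 := d3_1 D42931 (iv D42931) F124982
theorem F179341 : act 2 n42931 = n29458 := d18_1 D42931 (iv D29458) D29457
theorem F179342 : act 6 n42931 = n31279 := d31_2 (iv F124984) D42931 (iv D31279)
theorem F179343 : act 8 n42931 = n29834 := d33_2 (iv F124985) D42931 (iv D29834)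
def n42932 : Q := act 9 n29457
theorem D42932 : act 9 n29457 = n42932 := rfl
theorem F179344 : act 0 n42932 = n42932 := d8_1 D42932 (iv D42932) F124982
theorem F179345 : act 2 n42932 = n29459 := d23_1 D42932 (iv D29459) D29457
theorem F179346 : act 5 n42932 = n29463 := d38_1 D42932 (iv D29463) (iv F124983)
theorem F179347 : act 6 n42932 = n31280 := d41_1 D42932 (iv D31280) (iv F124984)
def n42933 : Q := act 9 n29458
theorem D42933 : act 9 n29458 = n42933 := rfl
theorem F179348 : act 0 n42933 = n42933 := d8_1 D42933 (iv D42933) F124986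
theorem F179349 : act 4 n42933 = n29459 := d34_1 D42933 (iv D29459) D29458
theorem F179350 : act 6 n42933 = n31281 := d41_1 D42933 (iv D31281) (iv F124987)
def n42934 : Q := act 8 n29459
theorem D42934 : act 8 n29459 = n42934 := rfl
theorem F179351 : act 0 n42934 = n42934 := d7_1 D42934 (iv D42934) F124989
theorem F179352 : act 3 n42934 = n29580 := d28_1 D42934 (iv D29580) F87624 (iv F87321) (iv F124990)
theorem F179353 : act 5 n42934 = n29464 := d37_1 D42934 (iv D29464) (iv F124991)
theorem F179354 : act 6 n42934 = n31282 := d40_1 D42934 (iv D31282) (iv F124992)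
theorem F179355 : act 9 n42934 = n29837 := d44_2 D29459 D42934 (iv D29837) (iv D20495) (iv F87317)
def n42935 : Q := act 1 n29460
theorem D42935 : act 1 n29460 = n42935 := rfl
theorem F179357 : act 7 n42935 = n29462 := d14_2 (iv F124995) D42935 (iv D29462)
theorem F179358 : act 8 n42935 = n29838 := d15_2 (iv F124996) D42935 (iv D29838)
def n42936 : Q := act 9 n29460
theorem D42936 : act 9 n29460 = n42936 := rfl
theorem F179359 : act 0 n42936 = n42936 := d8_1 D42936 (iv D42936) F124993
theorem F179360 : act 2 n42936 = n29461 := d23_1 D42936 (iv D29461) D29460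
theorem F179361 : act 6 n42936 = n42936 := d41_1 D42936 (iv D42936) F124994
theorem F179362 : act 7 n42936 = n29463 := d43_1 D42936 (iv D29463) (iv F124995)
def n42937 : Q := act 8 n29461
theorem D42937 : act 8 n29461 = n42937 := rfl
theorem F179363 : act 0 n42937 = n42937 := d7_1 D42937 (iv D42937) F124997
theorem F179364 : act 3 n42937 = n29583 := d28_1 D42937 (iv D29583) F87633 (iv F87330) (iv F124998)
theorem F179365 : act 6 n42937 = n42937 := d40_1 D42937 (iv D42937) F124999
theorem F179366 : act 7 n42937 = n29464 := d42_1 D42937 (iv D29464) (iv F125000)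
theorem F179367 : act 9 n42937 = n29840 := d44_2 D29461 D42937 (iv D29840) (iv D20497) (iv F87325)
def n42938 : Q := act 0 n29462
theorem D42938 : act 0 n29462 = n42938 := rfl
theorem F179369 : act 6 n42938 = n29465 := d5_2 (iv F125001) D42938 (iv D29465)
theorem F179370 : act 8 n42938 = n29841 := d7_2 (iv F125002) D42938 (iv D29841)
def n42939 : Q := act 9 n29462
theorem D42939 : act 9 n29462 = n42939 := rfl
theorem F179371 : act 1 n42939 = n29463 := d16_1 D42939 (iv D29463) D29462
theorem F179372 : act 6 n42939 = n29466 := d41_1 D42939 (iv D29466) (iv F125001)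
def n42940 : Q := act 8 n29463
theorem D42940 : act 8 n29463 = n42940 := rfl
theorem F179373 : act 0 n42940 = n42940 := d7_1 D42940 (iv D42940) F125003
theorem F179374 : act 2 n42940 = n29464 := d22_1 D42940 (iv D29464) (iv F125004)
theorem F179375 : act 6 n42940 = n29467 := d40_1 D42940 (iv D29467) (iv F125005)
theorem F179376 : act 9 n42940 = n29843 := d44_2 D29463 D42940 (iv D29843) (iv D20499) (iv F87333)
def n42941 : Q := act 9 n29465
theorem D42941 : act 9 n29465 = n42941 := rfl
theorem F179377 : act 0 n42941 = n29466 := d8_1 D42941 (iv D29466) D29465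
theorem F179378 : act 1 n42941 = n42941 := d16_1 D42941 (iv D42941) F125010
theorem F179379 : act 5 n42941 = n31289 := d38_1 D42941 (iv D31289) (iv F125011)
theorem F179380 : act 7 n42941 = n42941 := d43_1 D42941 (iv D42941) F125012
def n42942 : Q := act 8 n29466
theorem D42942 : act 8 n29466 = n42942 := rfl
theorem F179381 : act 1 n42942 = n29467 := d15_1 D42942 (iv D29467) (iv F125014)
theorem F179382 : act 5 n42942 = n31290 := d37_1 D42942 (iv D31290) (iv F125015)
theorem F179383 : act 7 n42942 = n42942 := d42_1 D42942 (iv D42942) F125016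
theorem F179384 : act 9 n42942 = n29845 := d44_2 D29466 D42942 (iv D29845) (iv D20502) (iv F87339)
def n42943 : Q := act 3 n29467
theorem D42943 : act 3 n29467 = n42943 := rfl
theorem F179385 : act 0 n42943 = n42943 := d2_1 D42943 (iv D42943) F125017
theorem F179386 : act 2 n42943 = n29589 := d17_1 D42943 (iv D29589) F87658 (iv F87345) (iv F125018)
theorem F179387 : act 5 n42943 = n31291 := d25_2 (iv F125019) D42943 (iv D31291)
theorem F179388 : act 7 n42943 = n42943 := d27_2 F125020 D42943 (iv D42943)
theorem F179389 : act 9 n42943 = n29846 := d29_2 (iv F125021) D42943 (iv D29846)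
def n42944 : Q := act 6 n29468
theorem D42944 : act 6 n29468 = n42944 := rfl
theorem F179391 : act 2 n42944 = n29469 := d20_1 D42944 (iv D29469) D29468
def n42945 : Q := act 8 n29468
theorem D42945 : act 8 n29468 = n42945 := rfl
theorem F179395 : act 2 n42945 = n29470 := d22_1 D42945 (iv D29470) D29468
def n42946 : Q := act 5 n29469
theorem D42946 : act 5 n29469 = n42946 := rfl
theorem F179399 : act 1 n42946 = n29487 := d12_1 D42946 (iv D29487) (iv F125027)
theorem F179400 : act 3 n42946 = n29471 := d25_1 D42946 (iv D29471) (iv F125028)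
theorem F179401 : act 6 n42946 = n31294 := d35_2 D29469 D42946 (iv D31294) (iv D21475) (iv F87351)
def n42947 : Q := act 7 n29469
theorem D42947 : act 7 n29469 = n42947 := rfl
theorem F179402 : act 1 n42947 = n29488 := d14_1 D42947 (iv D29488) (iv F125027)
theorem F179403 : act 3 n42947 = n29472 := d27_1 D42947 (iv D29472) (iv F125028)
theorem F179404 : act 4 n42947 = n42947 := d32_1 D42947 (iv D42947) F125029
theorem F179405 : act 6 n42947 = n42947 := d39_1 D42947 (iv D42947) (iv D29469) F87352 D29469
def n42948 : Q := act 8 n29469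
theorem D42948 : act 8 n29469 = n42948 := rfl
theorem F179406 : act 1 n42948 = n29489 := d15_1 D42948 (iv D29489) (iv F125027)
theorem F179407 : act 4 n42948 = n42948 := d33_1 D42948 (iv D42948) F125029
theorem F179408 : act 6 n42948 = n29470 := d40_1 D42948 (iv D29470) D29469
def n42949 : Q := act 3 n29470
theorem D42949 : act 3 n29470 = n42949 := rfl
theorem F179409 : act 1 n42949 = n29490 := d10_1 D42949 (iv D29490) (iv F125030)
theorem F179411 : act 7 n42949 = n42949 := d27_2 F125033 D42949 (iv D42949)
theorem F179412 : act 8 n42949 = n29474 := d28_2 D29470 D42949 (iv D29474) (iv D20253) D20251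
def n42950 : Q := act 9 n29470
theorem D42950 : act 9 n29470 = n42950 := rfl
theorem F179413 : act 1 n42950 = n29491 := d16_1 D42950 (iv D29491) (iv F125030)
theorem F179414 : act 4 n42950 = n42950 := d34_1 D42950 (iv D42950) F125031
theorem F179415 : act 5 n42950 = n31298 := d38_1 D42950 (iv D31298) (iv F125032)
theorem F179416 : act 7 n42950 = n42950 := d43_1 D42950 (iv D42950) F125033
def n42951 : Q := act 7 n29471
theorem D42951 : act 7 n29471 = n42951 := rfl
theorem F179417 : act 1 n42951 = n29492 := d14_1 D42951 (iv D29492) (iv F125034)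
theorem F179418 : act 2 n42951 = n42951 := d21_1 D42951 (iv D42951) F125035
theorem F179419 : act 5 n42951 = n29472 := d36_1 D42951 (iv D29472) D29471
def n42952 : Q := act 8 n29471
theorem D42952 : act 8 n29471 = n42952 := rfl
theorem F179420 : act 1 n42952 = n29493 := d15_1 D42952 (iv D29493) (iv F125034)
theorem F179421 : act 2 n42952 = n42952 := d22_1 D42952 (iv D42952) F125035
theorem F179422 : act 5 n42952 = n29473 := d37_1 D42952 (iv D29473) D29471
def n42953 : Q := act 8 n29472
theorem D42953 : act 8 n29472 = n42953 := rfl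
theorem F179424 : act 1 n42953 = n29494 := d15_1 D42953 (iv D29494) (iv F125037)
theorem F179425 : act 2 n42953 = n42953 := d22_1 D42953 (iv D42953) F125038
theorem F179426 : act 4 n42953 = n29476 := d33_1 D42953 (iv D29476) (iv F125039)
theorem F179427 : act 6 n42953 = n42953 := d40_1 D42953 (iv D42953) F125040
theorem F179428 : act 7 n42953 = n29473 := d42_1 D42953 (iv D29473) D29472
def n42954 : Q := act 3 n29473
theorem D42954 : act 3 n29473 = n42954 := rfl
theorem F179429 : act 1 n42954 = n29495 := d10_1 D42954 (iv D29495) (iv F125041)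
theorem F179430 : act 6 n42954 = n29474 := d26_2 (iv F125044) D42954 (iv D29474)
def n42955 : Q := act 9 n29473
theorem D42955 : act 9 n29473 = n42955 := rfl
theorem F179431 : act 1 n42955 = n29496 := d16_1 D42955 (iv D29496) (iv F125041)
theorem F179432 : act 2 n42955 = n42955 := d23_1 D42955 (iv D42955) F125042
theorem F179433 : act 4 n42955 = n29478 := d34_1 D42955 (iv D29478) (iv F125043)
theorem F179434 : act 6 n42955 = n29475 := d41_1 D42955 (iv D29475) (iv F125044)
def n42956 : Q := act 2 n29474
theorem D42956 : act 2 n29474 = n42956 := rfl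
theorem F179435 : act 3 n42956 = n42956 := d17_2 D29474 D42956 (iv D42956) (iv D29474) F87357
theorem F179437 : act 7 n42956 = n42956 := d21_2 F125047 D42956 (iv D42956)
def n42957 : Q := act 4 n29474
theorem D42957 : act 4 n29474 = n42957 := rfl
theorem F179438 : act 1 n42957 = n29498 := d11_1 D42957 (iv D29498) (iv F125045)
theorem F179439 : act 3 n42957 = n29480 := d24_1 D42957 (iv D29480) (iv D20256) (iv F87358) D29474
def n42958 : Q := act 9 n29474
theorem D42958 : act 9 n29474 = n42958 := rfl
theorem F179441 : act 1 n42958 = n29499 := d16_1 D42958 (iv D29499) (iv F125045)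
theorem F179442 : act 3 n42958 = n29475 := d29_1 D42958 (iv D29475) D29474
theorem F179444 : act 7 n42958 = n42958 := d43_1 D42958 (iv D42958) F125047
def n42959 : Q := act 3 n29476
theorem D42959 : act 3 n29476 = n42959 := rfl
theorem F179445 : act 1 n42959 = n29500 := d10_1 D42959 (iv D29500) (iv F125053)
theorem F179447 : act 7 n42959 = n29477 := d27_2 (iv F125056) D42959 (iv D29477)
def n42960 : Q := act 9 n29476
theorem D42960 : act 9 n29476 = n42960 := rfl
theorem F179449 : act 1 n42960 = n29501 := d16_1 D42960 (iv D29501) (iv F125053)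
theorem F179450 : act 2 n42960 = n42960 := d23_1 D42960 (iv D42960) F125054
theorem F179451 : act 6 n42960 = n42960 := d41_1 D42960 (iv D42960) F125055
theorem F179452 : act 7 n42960 = n29478 := d43_1 D42960 (iv D29478) (iv F125056)
def n42962 : Q := act 4 n29477
theorem D42962 : act 4 n29477 = n42962 := rfl
theorem F179457 : act 1 n42962 = n29502 := d11_1 D42962 (iv D29502) (iv F125057)
theorem F179458 : act 6 n42962 = n29480 := d31_2 (iv F125058) D42962 (iv D29480)
def n42963 : Q := act 9 n29477
theorem D42963 : act 9 n29477 = n42963 := rfl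
theorem F179460 : act 1 n42963 = n29503 := d16_1 D42963 (iv D29503) (iv F125057)
theorem F179461 : act 3 n42963 = n29478 := d29_1 D42963 (iv D29478) D29477
theorem F179462 : act 6 n42963 = n29481 := d41_1 D42963 (iv D29481) (iv F125058)
def n42967 : Q := act 9 n29480
theorem D42967 : act 9 n29480 = n42967 := rfl
theorem F179476 : act 1 n42967 = n29505 := d16_1 D42967 (iv D29505) (iv F125068)
theorem F179477 : act 4 n42967 = n29481 := d34_1 D42967 (iv D29481) D29480
def n42968 : Q := act 8 n29481
theorem D42968 : act 8 n29481 = n42968 := rfl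
theorem F179479 : act 1 n42968 = n29506 := d15_1 D42968 (iv D29506) (iv F125071)
def n42976 : Q := act 4 n29487
theorem D42976 : act 4 n29487 = n42976 := rfl
theorem F179510 : act 0 n42976 = n29521 := d3_1 D42976 (iv D29521) (iv F125094)
theorem F179511 : act 2 n42976 = n29872 := d18_1 D42976 (iv D29872) (iv F125095)
theorem F179512 : act 5 n42976 = n42976 := d30_2 D29487 D42976 (iv D42976) (iv D29487) F87390
theorem F179513 : act 6 n42976 = n31324 := d31_2 (iv F125097) D42976 (iv D31324)
def n42977 : Q := act 7 n29487
theorem D42977 : act 7 n29487 = n42977 := rfl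
theorem F179514 : act 0 n42977 = n29522 := d6_1 D42977 (iv D29522) (iv F125094)
theorem F179515 : act 2 n42977 = n29873 := d21_1 D42977 (iv D29873) (iv F125095)
theorem F179516 : act 3 n42977 = n29492 := d27_1 D42977 (iv D29492) (iv F125096)
theorem F179517 : act 5 n42977 = n29488 := d36_1 D42977 (iv D29488) D29487
def n42978 : Q := act 8 n29487
theorem D42978 : act 8 n29487 = n42978 := rfl
theorem F179518 : act 0 n42978 = n29523 := d7_1 D42978 (iv D29523) (iv F125094)
theorem F179519 : act 2 n42978 = n29874 := d22_1 D42978 (iv D29874) (iv F125095)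
theorem F179520 : act 5 n42978 = n29489 := d37_1 D42978 (iv D29489) D29487
theorem F179521 : act 6 n42978 = n31326 := d40_1 D42978 (iv D31326) (iv F125097)
def n42979 : Q := act 8 n29488
theorem D42979 : act 8 n29488 = n42979 := rfl
theorem F179522 : act 0 n42979 = n29524 := d7_1 D42979 (iv D29524) (iv F125098)
theorem F179523 : act 2 n42979 = n29875 := d22_1 D42979 (iv D29875) (iv F125099)
theorem F179524 : act 4 n42979 = n42979 := d33_1 D42979 (iv D42979) F125101
theorem F179525 : act 6 n42979 = n42979 := d40_1 D42979 (iv D42979) F125102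
theorem F179526 : act 7 n42979 = n29489 := d42_1 D42979 (iv D29489) D29488
def n42980 : Q := act 3 n29489
theorem D42980 : act 3 n29489 = n42980 := rfl
theorem F179527 : act 0 n42980 = n29525 := d2_1 D42980 (iv D29525) (iv F125103)
theorem F179528 : act 6 n42980 = n29490 := d26_2 (iv F125106) D42980 (iv D29490)
theorem F179529 : act 8 n42980 = n29495 := d28_2 D29489 D42980 (iv D29495) (iv D20265) (iv F87389)
def n42981 : Q := act 9 n29489
theorem D42981 : act 9 n29489 = n42981 := rfl
theorem F179530 : act 0 n42981 = n29526 := d8_1 D42981 (iv D29526) (iv F125103)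
theorem F179531 : act 2 n42981 = n29877 := d23_1 D42981 (iv D29877) (iv F125104)
theorem F179532 : act 4 n42981 = n42981 := d34_1 D42981 (iv D42981) F125105
theorem F179533 : act 6 n42981 = n29491 := d41_1 D42981 (iv D29491) (iv F125106)
def n42982 : Q := act 2 n29490
theorem D42982 : act 2 n29490 = n42982 := rfl
theorem F179534 : act 0 n42982 = n29527 := d1_1 D42982 (iv D29527) (iv F125107)
theorem F179538 : act 8 n42982 = n29497 := d22_2 (iv F125110) D42982 (iv D29497)
def n42983 : Q := act 4 n29490
theorem D42983 : act 4 n29490 = n42983 := rfl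
theorem F179539 : act 0 n42983 = n29528 := d3_1 D42983 (iv D29528) (iv F125107)
theorem F179540 : act 3 n42983 = n42983 := d24_1 D42983 (iv D42983) (iv D29490) F87393 D29490
theorem F179541 : act 7 n42983 = n42983 := d32_2 F125109 D42983 (iv D42983)
theorem F179542 : act 8 n42983 = n29498 := d33_2 (iv F125110) D42983 (iv D29498)
def n42984 : Q := act 9 n29490
theorem D42984 : act 9 n29490 = n42984 := rfl
theorem F179543 : act 0 n42984 = n29529 := d8_1 D42984 (iv D29529) (iv F125107)
theorem F179544 : act 3 n42984 = n29491 := d29_1 D42984 (iv D29491) D29490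
theorem F179545 : act 5 n42984 = n31332 := d38_1 D42984 (iv D31332) (iv F125108)
theorem F179546 : act 7 n42984 = n42984 := d43_1 D42984 (iv D42984) F125109
def n42985 : Q := act 6 n29492
theorem D42985 : act 6 n29492 = n42985 := rfl
theorem F179547 : act 0 n42985 = n29530 := d5_1 D42985 (iv D29530) (iv F125116)
theorem F179548 : act 2 n42985 = n29510 := d20_1 D42985 (iv D29510) (iv F125117)
theorem F179549 : act 5 n42985 = n42985 := d35_1 D42985 (iv D42985) F125118 F87402 (iv F125118)
theorem F179550 : act 7 n42985 = n31333 := d39_2 D29492 D42985 (iv D31333) (iv D21498) (iv F87398)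
def n42986 : Q := act 8 n29492
theorem D42986 : act 8 n29492 = n42986 := rfl
theorem F179551 : act 0 n42986 = n29531 := d7_1 D42986 (iv D29531) (iv F125116)
theorem F179552 : act 2 n42986 = n29511 := d22_1 D42986 (iv D29511) (iv F125117)
theorem F179553 : act 5 n42986 = n29494 := d37_1 D42986 (iv D29494) (iv F125118)
theorem F179554 : act 7 n42986 = n29493 := d42_1 D42986 (iv D29493) D29492
def n42987 : Q := act 3 n29493
theorem D42987 : act 3 n29493 = n42987 := rfl
theorem F179555 : act 0 n42987 = n29532 := d2_1 D42987 (iv D29532) (iv F125119)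
theorem F179556 : act 5 n42987 = n29495 := d25_2 (iv F125121) D42987 (iv D29495)
theorem F179557 : act 6 n42987 = n31335 := d26_2 (iv F125122) D42987 (iv D31335)
def n42988 : Q := act 9 n29493
theorem D42988 : act 9 n29493 = n42988 := rfl
theorem F179558 : act 0 n42988 = n29533 := d8_1 D42988 (iv D29533) (iv F125119)
theorem F179559 : act 2 n42988 = n29513 := d23_1 D42988 (iv D29513) (iv F125120)
theorem F179560 : act 5 n42988 = n29496 := d38_1 D42988 (iv D29496) (iv F125121)
theorem F179561 : act 6 n42988 = n31336 := d41_1 D42988 (iv D31336) (iv F125122)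
def n42989 : Q := act 3 n29494
theorem D42989 : act 3 n29494 = n42989 := rfl
theorem F179562 : act 0 n42989 = n29534 := d2_1 D42989 (iv D29534) (iv F125123)
theorem F179563 : act 6 n42989 = n42989 := d26_2 F125126 D42989 (iv D42989)
theorem F179564 : act 7 n42989 = n29495 := d27_2 (iv F125127) D42989 (iv D29495)
def n42990 : Q := act 9 n29494
theorem D42990 : act 9 n29494 = n42990 := rfl
theorem F179565 : act 0 n42990 = n29535 := d8_1 D42990 (iv D29535) (iv F125123)
theorem F179566 : act 2 n42990 = n29515 := d23_1 D42990 (iv D29515) (iv F125124)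
theorem F179567 : act 4 n42990 = n29501 := d34_1 D42990 (iv D29501) (iv F125125)
theorem F179568 : act 6 n42990 = n42990 := d41_1 D42990 (iv D42990) F125126
theorem F179569 : act 7 n42990 = n29496 := d43_1 D42990 (iv D29496) (iv F125127)
def n42991 : Q := act 2 n29495
theorem D42991 : act 2 n29495 = n42991 := rfl
theorem F179570 : act 0 n42991 = n29536 := d1_1 D42991 (iv D29536) (iv F125128)
theorem F179571 : act 3 n42991 = n29516 := d17_2 D29495 D42991 (iv D29516) (iv D20279) (iv F87404)
theorem F179572 : act 6 n42991 = n29497 := d20_2 (iv F125129) D42991 (iv D29497)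
def n42992 : Q := act 4 n29495
theorem D42992 : act 4 n29495 = n42992 := rfl
theorem F179573 : act 0 n42992 = n29537 := d3_1 D42992 (iv D29537) (iv F125128)
theorem F179574 : act 3 n42992 = n29502 := d24_1 D42992 (iv D29502) (iv D20269) (iv F87405) D29495
theorem F179575 : act 6 n42992 = n29498 := d31_2 (iv F125129) D42992 (iv D29498)
def n42993 : Q := act 9 n29495
theorem D42993 : act 9 n29495 = n42993 := rfl
theorem F179576 : act 0 n42993 = n29538 := d8_1 D42993 (iv D29538) (iv F125128)
theorem F179577 : act 3 n42993 = n29496 := d29_1 D42993 (iv D29496) D29495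
theorem F179578 : act 6 n42993 = n29499 := d41_1 D42993 (iv D29499) (iv F125129)
def n42994 : Q := act 1 n29497
theorem D42994 : act 1 n29497 = n42994 := rfl
theorem F179579 : act 3 n42994 = n29518 := d10_2 (iv F125135) D42994 (iv D29518)
theorem F179580 : act 5 n42994 = n31342 := d12_2 (iv F125136) D42994 (iv D31342)
theorem F179581 : act 7 n42994 = n42994 := d14_2 F125137 D42994 (iv D42994)
def n42995 : Q := act 4 n29497
theorem D42995 : act 4 n29497 = n42995 := rfl
theorem F179582 : act 0 n42995 = n29540 := d3_1 D42995 (iv D29540) (iv F125134)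
theorem F179583 : act 2 n42995 = n29498 := d18_1 D42995 (iv D29498) D29497
theorem F179584 : act 3 n42995 = n42995 := d24_1 D42995 (iv D42995) F125135 F87472 (iv F125135)
theorem F179585 : act 7 n42995 = n42995 := d32_2 F125137 D42995 (iv D42995)
def n42996 : Q := act 9 n29497
theorem D42996 : act 9 n29497 = n42996 := rfl
theorem F179586 : act 0 n42996 = n29541 := d8_1 D42996 (iv D29541) (iv F125134)
theorem F179587 : act 2 n42996 = n29499 := d23_1 D42996 (iv D29499) D29497
theorem F179588 : act 3 n42996 = n29519 := d29_1 D42996 (iv D29519) (iv F125135)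
theorem F179589 : act 5 n42996 = n31344 := d38_1 D42996 (iv D31344) (iv F125136)
theorem F179590 : act 7 n42996 = n42996 := d43_1 D42996 (iv D42996) F125137
def n42997 : Q := act 5 n29498
theorem D42997 : act 5 n29498 = n42997 := rfl
theorem F179591 : act 0 n42997 = n29542 := d4_1 D42997 (iv D29542) (iv F125138)
theorem F179593 : act 4 n42997 = n31345 := d30_1 D42997 (iv D31345) (iv D21504) (iv F87408) D29498
def n42998 : Q := act 9 n29498
theorem D42998 : act 9 n29498 = n42998 := rfl
theorem F179595 : act 0 n42998 = n29543 := d8_1 D42998 (iv D29543) (iv F125138)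
theorem F179596 : act 3 n42998 = n29505 := d29_1 D42998 (iv D29505) (iv F125139)
theorem F179597 : act 4 n42998 = n29499 := d34_1 D42998 (iv D29499) D29498
theorem F179598 : act 7 n42998 = n42998 := d43_1 D42998 (iv D42998) F125140
def n42999 : Q := act 8 n29499
theorem D42999 : act 8 n29499 = n42999 := rfl
theorem F179599 : act 0 n42999 = n29544 := d7_1 D42999 (iv D29544) (iv F125141)
theorem F179600 : act 5 n42999 = n31347 := d37_1 D42999 (iv D31347) (iv F125143)
theorem F179601 : act 7 n42999 = n42999 := d42_1 D42999 (iv D42999) F125144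
def n43000 : Q := act 4 n29500
theorem D43000 : act 4 n29500 = n43000 := rfl
theorem F179602 : act 0 n43000 = n29545 := d3_1 D43000 (iv D29545) (iv F125145)
theorem F179603 : act 2 n43000 = n43000 := d18_1 D43000 (iv D43000) F125146
theorem F179604 : act 6 n43000 = n43000 := d31_2 F125147 D43000 (iv D43000)
theorem F179605 : act 7 n43000 = n29502 := d32_2 (iv F125148) D43000 (iv D29502)
theorem F179606 : act 8 n43000 = n43000 := d33_2 F125149 D43000 (iv D43000)
def n43001 : Q := act 9 n29500
theorem D43001 : act 9 n29500 = n43001 := rfl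
theorem F179607 : act 0 n43001 = n29546 := d8_1 D43001 (iv D29546) (iv F125145)
theorem F179608 : act 2 n43001 = n43001 := d23_1 D43001 (iv D43001) F125146
theorem F179609 : act 3 n43001 = n29501 := d29_1 D43001 (iv D29501) D29500
theorem F179610 : act 6 n43001 = n43001 := d41_1 D43001 (iv D43001) F125147
theorem F179611 : act 7 n43001 = n29503 := d43_1 D43001 (iv D29503) (iv F125148)
def n43002 : Q := act 5 n29502
theorem D43002 : act 5 n29502 = n43002 := rfl
theorem F179612 : act 0 n43002 = n29547 := d4_1 D43002 (iv D29547) (iv F125154)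
theorem F179613 : act 2 n43002 = n43002 := d19_1 D43002 (iv D43002) F125155
theorem F179614 : act 8 n43002 = n43002 := d37_2 F125157 D43002 (iv D43002)
def n43003 : Q := act 9 n29502
theorem D43003 : act 9 n29502 = n43003 := rfl
theorem F179615 : act 0 n43003 = n29548 := d8_1 D43003 (iv D29548) (iv F125154)
theorem F179616 : act 2 n43003 = n43003 := d23_1 D43003 (iv D43003) F125155
theorem F179617 : act 4 n43003 = n29503 := d34_1 D43003 (iv D29503) D29502
theorem F179618 : act 6 n43003 = n29505 := d41_1 D43003 (iv D29505) (iv F125156)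
def n43004 : Q := act 8 n29503
theorem D43004 : act 8 n29503 = n43004 := rfl
theorem F179619 : act 0 n43004 = n29549 := d7_1 D43004 (iv D29549) (iv F125158)
theorem F179620 : act 2 n43004 = n43004 := d22_1 D43004 (iv D43004) F125159
theorem F179621 : act 6 n43004 = n29506 := d40_1 D43004 (iv D29506) (iv F125161)
theorem F179622 : act 9 n43004 = n43004 := d44_2 D29503 D43004 (iv D43004) (iv D29503) F87422
def n43005 : Q := act 6 n29504
theorem D43005 : act 6 n29504 = n43005 := rfl
theorem F179623 : act 0 n43005 = n29550 := d5_1 D43005 (iv D29550) (iv F125162)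
theorem F179625 : act 4 n43005 = n29507 := d31_1 D43005 (iv D29507) (iv F125164)
def n43006 : Q := act 9 n29504
theorem D43006 : act 9 n29504 = n43006 := rfl
theorem F179627 : act 0 n43006 = n29551 := d8_1 D43006 (iv D29551) (iv F125162)
theorem F179629 : act 4 n43006 = n29508 := d34_1 D43006 (iv D29508) (iv F125164)
theorem F179630 : act 5 n43006 = n29505 := d38_1 D43006 (iv D29505) D29504
def n43007 : Q := act 8 n29505
theorem D43007 : act 8 n29505 = n43007 := rfl
theorem F179632 : act 0 n43007 = n29552 := d7_1 D43007 (iv D29552) (iv F125167)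
theorem F179633 : act 2 n43007 = n43007 := d22_1 D43007 (iv D43007) F125168
theorem F179634 : act 4 n43007 = n29506 := d33_1 D43007 (iv D29506) (iv F125169)
theorem F179635 : act 7 n43007 = n43007 := d42_1 D43007 (iv D43007) F125170
theorem F179636 : act 9 n43007 = n43007 := d44_2 D29505 D43007 (iv D43007) (iv D29505) F87429
def n43008 : Q := act 7 n29507
theorem D43008 : act 7 n29507 = n43008 := rfl
theorem F179637 : act 0 n43008 = n29553 := d6_1 D43008 (iv D29553) (iv F125176)
theorem F179639 : act 3 n43008 = n31356 := d27_1 D43008 (iv D31356) (iv F125178)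
def n43009 : Q := act 9 n29507
theorem D43009 : act 9 n29507 = n43009 := rfl
theorem F179642 : act 0 n43009 = n29554 := d8_1 D43009 (iv D29554) (iv F125176)
theorem F179644 : act 3 n43009 = n31357 := d29_1 D43009 (iv D31357) (iv F125178)
def n43010 : Q := act 8 n29508
theorem D43010 : act 8 n29508 = n43010 := rfl
theorem F179646 : act 0 n43010 = n29555 := d7_1 D43010 (iv D29555) (iv F125180)
def n43012 : Q := act 8 n29510
theorem D43012 : act 8 n29510 = n43012 := rfl
theorem F179655 : act 0 n43012 = n29557 := d7_1 D43012 (iv D29557) (iv F125190)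
theorem F179656 : act 1 n43012 = n43012 := d15_1 D43012 (iv D43012) F125191
theorem F179657 : act 5 n43012 = n43012 := d37_1 D43012 (iv D43012) F125193
theorem F179658 : act 6 n43012 = n29511 := d40_1 D43012 (iv D29511) D29510
theorem F179659 : act 7 n43012 = n31360 := d42_1 D43012 (iv D31360) (iv F125194)
def n43013 : Q := act 3 n29511
theorem D43013 : act 3 n29511 = n43013 := rfl
theorem F179660 : act 0 n43013 = n29558 := d2_1 D43013 (iv D29558) (iv F125195)
theorem F179661 : act 1 n43013 = n43013 := d10_1 D43013 (iv D43013) F125196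
theorem F179662 : act 5 n43013 = n29514 := d25_2 (iv F125197) D43013 (iv D29514)
theorem F179663 : act 7 n43013 = n29512 := d27_2 (iv F125198) D43013 (iv D29512)
theorem F179664 : act 8 n43013 = n29902 := d28_2 D29511 D43013 (iv D29902) (iv D20540) (iv F87451)
def n43014 : Q := act 9 n29511
theorem D43014 : act 9 n29511 = n43014 := rfl
theorem F179665 : act 0 n43014 = n29559 := d8_1 D43014 (iv D29559) (iv F125195)
theorem F179666 : act 1 n43014 = n43014 := d16_1 D43014 (iv D43014) F125196
theorem F179667 : act 5 n43014 = n29515 := d38_1 D43014 (iv D29515) (iv F125197)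
theorem F179668 : act 7 n43014 = n29513 := d43_1 D43014 (iv D29513) (iv F125198)
def n43015 : Q := act 2 n29512
theorem D43015 : act 2 n29512 = n43015 := rfl
theorem F179669 : act 0 n43015 = n29560 := d1_1 D43015 (iv D29560) (iv F125199)
theorem F179670 : act 5 n43015 = n29516 := d19_2 (iv F125201) D43015 (iv D29516)
theorem F179671 : act 6 n43015 = n31363 := d20_2 (iv F125202) D43015 (iv D31363)
theorem F179672 : act 8 n43015 = n29904 := d22_2 (iv F125203) D43015 (iv D29904)
def n43016 : Q := act 4 n29512
theorem D43016 : act 4 n29512 = n43016 := rfl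
theorem F179673 : act 0 n43016 = n29561 := d3_1 D43016 (iv D29561) (iv F125199)
theorem F179674 : act 1 n43016 = n43016 := d11_1 D43016 (iv D43016) F125200
theorem F179675 : act 5 n43016 = n43016 := d30_2 (iv F125201) D43016 (iv D43016) F125201 F87464
theorem F179676 : act 6 n43016 = n31364 := d31_2 (iv F125202) D43016 (iv D31364)
theorem F179677 : act 8 n43016 = n29905 := d33_2 (iv F125203) D43016 (iv D29905)
def n43017 : Q := act 9 n29512
theorem D43017 : act 9 n29512 = n43017 := rfl
theorem F179678 : act 0 n43017 = n29562 := d8_1 D43017 (iv D29562) (iv F125199)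
theorem F179679 : act 1 n43017 = n43017 := d16_1 D43017 (iv D43017) F125200
theorem F179680 : act 3 n43017 = n29513 := d29_1 D43017 (iv D29513) D29512
theorem F179681 : act 5 n43017 = n29517 := d38_1 D43017 (iv D29517) (iv F125201)
theorem F179682 : act 6 n43017 = n31365 := d41_1 D43017 (iv D31365) (iv F125202)
def n43018 : Q := act 2 n29514
theorem D43018 : act 2 n29514 = n43018 := rfl
theorem F179683 : act 0 n43018 = n29563 := d1_1 D43018 (iv D29563) (iv F125208)
theorem F179684 : act 4 n43018 = n43018 := d18_2 F125210 D43018 (iv D43018)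
theorem F179685 : act 6 n43018 = n43018 := d20_2 F125211 D43018 (iv D43018)
theorem F179686 : act 7 n43018 = n29516 := d21_2 (iv F125212) D43018 (iv D29516)
theorem F179687 : act 8 n43018 = n29907 := d22_2 (iv F125213) D43018 (iv D29907)
def n43019 : Q := act 9 n29514
theorem D43019 : act 9 n29514 = n43019 := rfl
theorem F179688 : act 0 n43019 = n29564 := d8_1 D43019 (iv D29564) (iv F125208)
theorem F179689 : act 1 n43019 = n43019 := d16_1 D43019 (iv D43019) F125209
theorem F179690 : act 3 n43019 = n29515 := d29_1 D43019 (iv D29515) D29514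
theorem F179691 : act 4 n43019 = n43019 := d34_1 D43019 (iv D43019) F125210
theorem F179692 : act 6 n43019 = n43019 := d41_1 D43019 (iv D43019) F125211
theorem F179693 : act 7 n43019 = n29517 := d43_1 D43019 (iv D29517) (iv F125212)
def n43020 : Q := act 1 n29516
theorem D43020 : act 1 n29516 = n43020 := rfl
theorem F179694 : act 2 n43020 = n43020 := d9_2 D29516 D43020 (iv D43020) (iv D29516) F87463
theorem F179695 : act 4 n43020 = n43020 := d11_2 F125220 D43020 (iv D43020)
theorem F179696 : act 6 n43020 = n29518 := d13_2 (iv F125221) D43020 (iv D29518)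
theorem F179697 : act 8 n43020 = n29909 := d15_2 (iv F125222) D43020 (iv D29909)
def n43021 : Q := act 9 n29516
theorem D43021 : act 9 n29516 = n43021 := rfl
theorem F179698 : act 0 n43021 = n29566 := d8_1 D43021 (iv D29566) (iv F125219)
theorem F179699 : act 2 n43021 = n29517 := d23_1 D43021 (iv D29517) D29516
theorem F179700 : act 4 n43021 = n43021 := d34_1 D43021 (iv D43021) F125220
theorem F179701 : act 6 n43021 = n29519 := d41_1 D43021 (iv D29519) (iv F125221)
def n43023 : Q := act 0 n29518
theorem D43023 : act 0 n29518 = n43023 := rfl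
theorem F179707 : act 1 n43023 = n29568 := d0_2 D29518 D43023 (iv D29568) (iv D20315) (iv F87471)
theorem F179708 : act 2 n43023 = n43023 := d1_2 F125228 D43023 (iv D43023)
theorem F179709 : act 4 n43023 = n43023 := d3_2 F125229 D43023 (iv D43023)
theorem F179710 : act 5 n43023 = n31371 := d4_2 (iv F125230) D43023 (iv D31371)
theorem F179711 : act 7 n43023 = n43023 := d6_2 F125231 D43023 (iv D43023)
theorem F179712 : act 8 n43023 = n29912 := d7_2 (iv F125232) D43023 (iv D29912)
def n43024 : Q := act 9 n29518
theorem D43024 : act 9 n29518 = n43024 := rfl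
theorem F179713 : act 1 n43024 = n29519 := d16_1 D43024 (iv D29519) D29518
theorem F179714 : act 2 n43024 = n43024 := d23_1 D43024 (iv D43024) F125228
theorem F179715 : act 4 n43024 = n43024 := d34_1 D43024 (iv D43024) F125229
theorem F179716 : act 5 n43024 = n31372 := d38_1 D43024 (iv D31372) (iv F125230)
theorem F179717 : act 7 n43024 = n43024 := d43_1 D43024 (iv D43024) F125231
def n43026 : Q := act 7 n29521
theorem D43026 : act 7 n29521 = n43026 := rfl
theorem F179724 : act 2 n43026 = n29915 := d21_1 D43026 (iv D29915) (iv F125244)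
theorem F179725 : act 4 n43026 = n29522 := d32_1 D43026 (iv D29522) D29521
theorem F179726 : act 5 n43026 = n43026 := d36_1 D43026 (iv D43026) F125245
def n43027 : Q := act 8 n29521
theorem D43027 : act 8 n29521 = n43027 := rfl
theorem F179727 : act 2 n43027 = n29916 := d22_1 D43027 (iv D29916) (iv F125244)
theorem F179728 : act 4 n43027 = n29523 := d33_1 D43027 (iv D29523) D29521
theorem F179729 : act 5 n43027 = n43027 := d37_1 D43027 (iv D43027) F125245
theorem F179730 : act 6 n43027 = n31375 := d40_1 D43027 (iv D31375) (iv F125246)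
def n43028 : Q := act 6 n29522
theorem D43028 : act 6 n29522 = n43028 := rfl
theorem F179731 : act 2 n43028 = n29917 := d20_1 D43028 (iv D29917) (iv F125247)
theorem F179732 : act 3 n43028 = n29530 := d26_1 D43028 (iv D29530) (iv F125248)
theorem F179733 : act 5 n43028 = n43028 := d35_1 D43028 (iv D43028) F125249 F87493 (iv F125249)
theorem F179734 : act 7 n43028 = n31376 := d39_2 D29522 D43028 (iv D31376) (iv D21528) (iv F87489)
def n43029 : Q := act 8 n29522
theorem D43029 : act 8 n29522 = n43029 := rfl
theorem F179735 : act 2 n43029 = n29918 := d22_1 D43029 (iv D29918) (iv F125247)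
theorem F179736 : act 5 n43029 = n29524 := d37_1 D43029 (iv D29524) (iv F125249)
theorem F179737 : act 7 n43029 = n29523 := d42_1 D43029 (iv D29523) D29522
def n43030 : Q := act 3 n29523
theorem D43030 : act 3 n29523 = n43030 := rfl
theorem F179738 : act 5 n43030 = n29525 := d25_2 (iv F125251) D43030 (iv D29525)
theorem F179739 : act 6 n43030 = n31378 := d26_2 (iv F125252) D43030 (iv D31378)
theorem F179740 : act 8 n43030 = n29532 := d28_2 D29523 D43030 (iv D29532) (iv D20290) (iv F87488)
def n43031 : Q := act 9 n29523
theorem D43031 : act 9 n29523 = n43031 := rfl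
theorem F179741 : act 2 n43031 = n29920 := d23_1 D43031 (iv D29920) (iv F125250)
theorem F179742 : act 5 n43031 = n29526 := d38_1 D43031 (iv D29526) (iv F125251)
theorem F179743 : act 6 n43031 = n31379 := d41_1 D43031 (iv D31379) (iv F125252)
def n43032 : Q := act 3 n29524
theorem D43032 : act 3 n29524 = n43032 := rfl
theorem F179744 : act 6 n43032 = n43032 := d26_2 F125255 D43032 (iv D43032)
theorem F179745 : act 7 n43032 = n29525 := d27_2 (iv F125256) D43032 (iv D29525)
theorem F179746 : act 8 n43032 = n29534 := d28_2 D29524 D43032 (iv D29534) (iv D20291) (iv F87491)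
def n43033 : Q := act 9 n29524
theorem D43033 : act 9 n29524 = n43033 := rfl
theorem F179747 : act 2 n43033 = n29922 := d23_1 D43033 (iv D29922) (iv F125253)
theorem F179748 : act 4 n43033 = n43033 := d34_1 D43033 (iv D43033) F125254
theorem F179749 : act 6 n43033 = n43033 := d41_1 D43033 (iv D43033) F125255
theorem F179750 : act 7 n43033 = n29526 := d43_1 D43033 (iv D29526) (iv F125256)
def n43034 : Q := act 2 n29525
theorem D43034 : act 2 n29525 = n43034 := rfl
theorem F179751 : act 3 n43034 = n29923 := d17_2 D29525 D43034 (iv D29923) (iv D20554) (iv F87494)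
theorem F179752 : act 6 n43034 = n29527 := d20_2 (iv F125257) D43034 (iv D29527)
theorem F179753 : act 8 n43034 = n29536 := d22_2 (iv F125258) D43034 (iv D29536)
def n43035 : Q := act 4 n29525
theorem D43035 : act 4 n29525 = n43035 := rfl
theorem F179754 : act 3 n43035 = n43035 := d24_1 D43035 (iv D43035) (iv D29525) F87495 D29525
theorem F179755 : act 6 n43035 = n29528 := d31_2 (iv F125257) D43035 (iv D29528)
theorem F179756 : act 8 n43035 = n29537 := d33_2 (iv F125258) D43035 (iv D29537)
def n43036 : Q := act 9 n29525
theorem D43036 : act 9 n29525 = n43036 := rfl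
theorem F179757 : act 3 n43036 = n29526 := d29_1 D43036 (iv D29526) D29525
theorem F179758 : act 6 n43036 = n29529 := d41_1 D43036 (iv D29529) (iv F125257)
def n43037 : Q := act 1 n29527
theorem D43037 : act 1 n29527 = n43037 := rfl
theorem F179759 : act 3 n43037 = n29926 := d10_2 (iv F125262) D43037 (iv D29926)
theorem F179760 : act 5 n43037 = n31385 := d12_2 (iv F125263) D43037 (iv D31385)
theorem F179761 : act 7 n43037 = n43037 := d14_2 F125264 D43037 (iv D43037)
theorem F179762 : act 8 n43037 = n29539 := d15_2 (iv F125265) D43037 (iv D29539)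
def n43038 : Q := act 4 n29527
theorem D43038 : act 4 n29527 = n43038 := rfl
theorem F179763 : act 2 n43038 = n29528 := d18_1 D43038 (iv D29528) D29527
theorem F179764 : act 7 n43038 = n43038 := d32_2 F125264 D43038 (iv D43038)
theorem F179765 : act 8 n43038 = n29540 := d33_2 (iv F125265) D43038 (iv D29540)
def n43039 : Q := act 9 n29527
theorem D43039 : act 9 n29527 = n43039 := rfl
theorem F179766 : act 2 n43039 = n29529 := d23_1 D43039 (iv D29529) D29527
theorem F179767 : act 3 n43039 = n29928 := d29_1 D43039 (iv D29928) (iv F125262)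
theorem F179768 : act 5 n43039 = n31387 := d38_1 D43039 (iv D31387) (iv F125263)
theorem F179769 : act 7 n43039 = n43039 := d43_1 D43039 (iv D43039) F125264
def n43040 : Q := act 5 n29528
theorem D43040 : act 5 n29528 = n43040 := rfl
theorem F179770 : act 3 n43040 = n43040 := d25_1 D43040 (iv D43040) F125266
theorem F179771 : act 4 n43040 = n31388 := d30_1 D43040 (iv D31388) (iv D21534) (iv F87497) D29528
theorem F179772 : act 7 n43040 = n43040 := d36_2 F125267 D43040 (iv D43040)
theorem F179773 : act 8 n43040 = n29542 := d37_2 (iv F125268) D43040 (iv D29542)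
def n43041 : Q := act 9 n29528
theorem D43041 : act 9 n29528 = n43041 := rfl
theorem F179774 : act 3 n43041 = n43041 := d29_1 D43041 (iv D43041) F125266
theorem F179775 : act 4 n43041 = n29529 := d34_1 D43041 (iv D29529) D29528
theorem F179776 : act 7 n43041 = n43041 := d43_1 D43041 (iv D43041) F125267
def n43042 : Q := act 8 n29529
theorem D43042 : act 8 n29529 = n43042 := rfl
theorem F179777 : act 5 n43042 = n31390 := d37_1 D43042 (iv D31390) (iv F125270)
theorem F179778 : act 7 n43042 = n43042 := d42_1 D43042 (iv D43042) F125271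
theorem F179779 : act 9 n43042 = n29544 := d44_2 D29529 D43042 (iv D29544) (iv D20296) (iv F87499)
def n43043 : Q := act 8 n29530
theorem D43043 : act 8 n29530 = n43043 := rfl
theorem F179780 : act 2 n43043 = n29557 := d22_1 D43043 (iv D29557) (iv F125272)
theorem F179781 : act 5 n43043 = n43043 := d37_1 D43043 (iv D43043) F125273
theorem F179782 : act 6 n43043 = n29531 := d40_1 D43043 (iv D29531) D29530
theorem F179783 : act 7 n43043 = n31391 := d42_1 D43043 (iv D31391) (iv F125274)
def n43044 : Q := act 3 n29531
theorem D43044 : act 3 n29531 = n43044 := rfl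
theorem F179784 : act 5 n43044 = n29534 := d25_2 (iv F125276) D43044 (iv D29534)
theorem F179785 : act 7 n43044 = n29532 := d27_2 (iv F125277) D43044 (iv D29532)
def n43045 : Q := act 9 n29531
theorem D43045 : act 9 n29531 = n43045 := rfl
theorem F179786 : act 2 n43045 = n29559 := d23_1 D43045 (iv D29559) (iv F125275)
theorem F179787 : act 5 n43045 = n29535 := d38_1 D43045 (iv D29535) (iv F125276)
theorem F179788 : act 7 n43045 = n29533 := d43_1 D43045 (iv D29533) (iv F125277)
def n43046 : Q := act 2 n29532
theorem D43046 : act 2 n29532 = n43046 := rfl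
theorem F179789 : act 3 n43046 = n29560 := d17_2 D29532 D43046 (iv D29560) (iv D20309) (iv F87506)
theorem F179790 : act 5 n43046 = n29536 := d19_2 (iv F125278) D43046 (iv D29536)
theorem F179791 : act 6 n43046 = n31394 := d20_2 (iv F125279) D43046 (iv D31394)
def n43047 : Q := act 4 n29532
theorem D43047 : act 4 n29532 = n43047 := rfl
theorem F179792 : act 6 n43047 = n31395 := d31_2 (iv F125279) D43047 (iv D31395)
def n43048 : Q := act 9 n29532
theorem D43048 : act 9 n29532 = n43048 := rfl
theorem F179793 : act 3 n43048 = n29533 := d29_1 D43048 (iv D29533) D29532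
theorem F179794 : act 5 n43048 = n29538 := d38_1 D43048 (iv D29538) (iv F125278)
theorem F179795 : act 6 n43048 = n31396 := d41_1 D43048 (iv D31396) (iv F125279)
def n43049 : Q := act 2 n29534
theorem D43049 : act 2 n29534 = n43049 := rfl
theorem F179796 : act 3 n43049 = n29563 := d17_2 D29534 D43049 (iv D29563) (iv D20311) (iv F87509)
theorem F179797 : act 6 n43049 = n43049 := d20_2 F125283 D43049 (iv D43049)
theorem F179798 : act 7 n43049 = n29536 := d21_2 (iv F125284) D43049 (iv D29536)
def n43050 : Q := act 4 n29534
theorem D43050 : act 4 n29534 = n43050 := rfl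
theorem F179799 : act 3 n43050 = n29545 := d24_1 D43050 (iv D29545) (iv D20297) (iv F87510) D29534
theorem F179800 : act 6 n43050 = n43050 := d31_2 F125283 D43050 (iv D43050)
theorem F179801 : act 7 n43050 = n29537 := d32_2 (iv F125284) D43050 (iv D29537)
def n43051 : Q := act 9 n29534
theorem D43051 : act 9 n29534 = n43051 := rfl
theorem F179802 : act 3 n43051 = n29535 := d29_1 D43051 (iv D29535) D29534
theorem F179803 : act 6 n43051 = n43051 := d41_1 D43051 (iv D43051) F125283
theorem F179804 : act 7 n43051 = n29538 := d43_1 D43051 (iv D29538) (iv F125284)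
def n43052 : Q := act 1 n29536
theorem D43052 : act 1 n29536 = n43052 := rfl
theorem F179805 : act 3 n43052 = n29565 := d10_2 (iv F125289) D43052 (iv D29565)
theorem F179806 : act 6 n43052 = n29539 := d13_2 (iv F125290) D43052 (iv D29539)
def n43053 : Q := act 4 n29536
theorem D43053 : act 4 n29536 = n43053 := rfl
theorem F179807 : act 2 n43053 = n29537 := d18_1 D43053 (iv D29537) D29536
theorem F179808 : act 3 n43053 = n43053 := d24_1 D43053 (iv D43053) F125289 F87583 (iv F125289)
theorem F179809 : act 6 n43053 = n29540 := d31_2 (iv F125290) D43053 (iv D29540)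
def n43054 : Q := act 9 n29536
theorem D43054 : act 9 n29536 = n43054 := rfl
theorem F179810 : act 2 n43054 = n29538 := d23_1 D43054 (iv D29538) D29536
theorem F179811 : act 3 n43054 = n29566 := d29_1 D43054 (iv D29566) (iv F125289)
theorem F179812 : act 6 n43054 = n29541 := d41_1 D43054 (iv D29541) (iv F125290)
def n43055 : Q := act 5 n29537
theorem D43055 : act 5 n29537 = n43055 := rfl
theorem F179813 : act 3 n43055 = n29547 := d25_1 D43055 (iv D29547) (iv F125291)
def n43056 : Q := act 9 n29537
theorem D43056 : act 9 n29537 = n43056 := rfl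
theorem F179814 : act 3 n43056 = n29548 := d29_1 D43056 (iv D29548) (iv F125291)
theorem F179815 : act 4 n43056 = n29538 := d34_1 D43056 (iv D29538) D29537
theorem F179816 : act 6 n43056 = n29543 := d41_1 D43056 (iv D29543) (iv F125292)
def n43057 : Q := act 8 n29538
theorem D43057 : act 8 n29538 = n43057 := rfl
theorem F179817 : act 6 n43057 = n29544 := d40_1 D43057 (iv D29544) (iv F125294)
def n43058 : Q := act 0 n29539
theorem D43058 : act 0 n29539 = n43058 := rfl
theorem F179818 : act 3 n43058 = n29568 := d2_2 (iv F125295) D43058 (iv D29568)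
theorem F179819 : act 5 n43058 = n31406 := d4_2 (iv F125296) D43058 (iv D31406)
theorem F179820 : act 7 n43058 = n43058 := d6_2 F125297 D43058 (iv D43058)
def n43059 : Q := act 4 n29539
theorem D43059 : act 4 n29539 = n43059 := rfl
theorem F179821 : act 1 n43059 = n29540 := d11_1 D43059 (iv D29540) D29539
theorem F179822 : act 3 n43059 = n43059 := d24_1 D43059 (iv D43059) F125295 F87591 (iv F125295)
theorem F179823 : act 7 n43059 = n43059 := d32_2 F125297 D43059 (iv D43059)
def n43060 : Q := act 9 n29539
theorem D43060 : act 9 n29539 = n43060 := rfl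
theorem F179824 : act 1 n43060 = n29541 := d16_1 D43060 (iv D29541) D29539
theorem F179825 : act 3 n43060 = n29569 := d29_1 D43060 (iv D29569) (iv F125295)
theorem F179826 : act 5 n43060 = n31408 := d38_1 D43060 (iv D31408) (iv F125296)
theorem F179827 : act 7 n43060 = n43060 := d43_1 D43060 (iv D43060) F125297
def n43061 : Q := act 5 n29540
theorem D43061 : act 5 n29540 = n43061 := rfl
theorem F179828 : act 2 n43061 = n29542 := d19_1 D43061 (iv D29542) (iv F125298)
theorem F179829 : act 3 n43061 = n43061 := d25_1 D43061 (iv D43061) F125299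
theorem F179830 : act 4 n43061 = n31409 := d30_1 D43061 (iv D31409) (iv D21546) (iv F87518) D29540
theorem F179831 : act 7 n43061 = n43061 := d36_2 F125300 D43061 (iv D43061)
def n43062 : Q := act 9 n29540
theorem D43062 : act 9 n29540 = n43062 := rfl
theorem F179832 : act 2 n43062 = n29543 := d23_1 D43062 (iv D29543) (iv F125298)
theorem F179833 : act 3 n43062 = n43062 := d29_1 D43062 (iv D43062) F125299
theorem F179834 : act 4 n43062 = n29541 := d34_1 D43062 (iv D29541) D29540
theorem F179835 : act 7 n43062 = n43062 := d43_1 D43062 (iv D43062) F125300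
def n43063 : Q := act 8 n29541
theorem D43063 : act 8 n29541 = n43063 := rfl
theorem F179836 : act 2 n43063 = n29544 := d22_1 D43063 (iv D29544) (iv F125301)
theorem F179837 : act 5 n43063 = n31411 := d37_1 D43063 (iv D31411) (iv F125303)
theorem F179838 : act 7 n43063 = n43063 := d42_1 D43063 (iv D43063) F125304
def n43064 : Q := act 6 n29542
theorem D43064 : act 6 n29542 = n43064 := rfl
theorem F179839 : act 3 n43064 = n29550 := d26_1 D43064 (iv D29550) (iv F125305)
theorem F179840 : act 4 n43064 = n31412 := d31_1 D43064 (iv D31412) (iv F125306)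
def n43065 : Q := act 9 n29542
theorem D43065 : act 9 n29542 = n43065 := rfl
theorem F179841 : act 3 n43065 = n29551 := d29_1 D43065 (iv D29551) (iv F125305)
theorem F179842 : act 4 n43065 = n31413 := d34_1 D43065 (iv D31413) (iv F125306)
theorem F179843 : act 5 n43065 = n29543 := d38_1 D43065 (iv D29543) D29542
theorem F179844 : act 7 n43065 = n43065 := d43_1 D43065 (iv D43065) F125307
def n43066 : Q := act 8 n29543
theorem D43066 : act 8 n29543 = n43066 := rfl
theorem F179845 : act 4 n43066 = n29544 := d33_1 D43066 (iv D29544) (iv F125309)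
theorem F179846 : act 7 n43066 = n43066 := d42_1 D43066 (iv D43066) F125310
def n43067 : Q := act 5 n29545
theorem D43067 : act 5 n29545 = n43067 := rfl
theorem F179847 : act 2 n43067 = n43067 := d19_1 D43067 (iv D43067) F125313
theorem F179848 : act 7 n43067 = n29547 := d36_2 (iv F125315) D43067 (iv D29547)
theorem F179849 : act 8 n43067 = n43067 := d37_2 F125316 D43067 (iv D43067)
def n43068 : Q := act 9 n29545
theorem D43068 : act 9 n29545 = n43068 := rfl
theorem F179850 : act 2 n43068 = n43068 := d23_1 D43068 (iv D43068) F125313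
theorem F179851 : act 4 n43068 = n29546 := d34_1 D43068 (iv D29546) D29545
theorem F179852 : act 6 n43068 = n43068 := d41_1 D43068 (iv D43068) F125314
theorem F179853 : act 7 n43068 = n29548 := d43_1 D43068 (iv D29548) (iv F125315)
def n43069 : Q := act 8 n29546
theorem D43069 : act 8 n29546 = n43069 := rfl
theorem F179854 : act 2 n43069 = n43069 := d22_1 D43069 (iv D43069) F125317
theorem F179855 : act 6 n43069 = n43069 := d40_1 D43069 (iv D43069) F125319
theorem F179856 : act 7 n43069 = n29549 := d42_1 D43069 (iv D29549) (iv F125320)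
theorem F179857 : act 9 n43069 = n43069 := d44_2 D29546 D43069 (iv D43069) (iv D29546) F87528
def n43070 : Q := act 6 n29547
theorem D43070 : act 6 n29547 = n43070 := rfl
theorem F179858 : act 2 n43070 = n43070 := d20_1 D43070 (iv D43070) F125321
theorem F179859 : act 5 n43070 = n29550 := d35_1 D43070 (iv D29550) (iv D20301) (iv F87533) D29547
theorem F179860 : act 8 n43070 = n43070 := d40_2 F125322 D43070 (iv D43070)
def n43071 : Q := act 9 n29547
theorem D43071 : act 9 n29547 = n43071 := rfl
theorem F179861 : act 2 n43071 = n43071 := d23_1 D43071 (iv D43071) F125321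
theorem F179862 : act 5 n43071 = n29548 := d38_1 D43071 (iv D29548) D29547
def n43072 : Q := act 8 n29548
theorem D43072 : act 8 n29548 = n43072 := rfl
theorem F179863 : act 2 n43072 = n43072 := d22_1 D43072 (iv D43072) F125323
theorem F179864 : act 4 n43072 = n29549 := d33_1 D43072 (iv D29549) (iv F125324)
theorem F179865 : act 6 n43072 = n29552 := d40_1 D43072 (iv D29552) (iv F125325)
theorem F179866 : act 9 n43072 = n43072 := d44_2 D29548 D43072 (iv D43072) (iv D29548) F87534
def n43073 : Q := act 7 n29550
theorem D43073 : act 7 n29550 = n43073 := rfl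
theorem F179867 : act 2 n43073 = n43073 := d21_1 D43073 (iv D43073) F125329
theorem F179868 : act 4 n43073 = n29553 := d32_1 D43073 (iv D29553) (iv F125330)
theorem F179869 : act 6 n43073 = n43073 := d39_1 D43073 (iv D43073) (iv D29550) F87540 D29550
theorem F179870 : act 8 n43073 = n43073 := d42_2 F125331 D43073 (iv D43073)
def n43074 : Q := act 9 n29550
theorem D43074 : act 9 n29550 = n43074 := rfl
theorem F179871 : act 2 n43074 = n43074 := d23_1 D43074 (iv D43074) F125329
theorem F179872 : act 4 n43074 = n29554 := d34_1 D43074 (iv D29554) (iv F125330)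
theorem F179873 : act 6 n43074 = n29551 := d41_1 D43074 (iv D29551) D29550
def n43075 : Q := act 8 n29551
theorem D43075 : act 8 n29551 = n43075 := rfl
theorem F179874 : act 2 n43075 = n43075 := d22_1 D43075 (iv D43075) F125332
theorem F179875 : act 4 n43075 = n29555 := d33_1 D43075 (iv D29555) (iv F125333)
theorem F179876 : act 5 n43075 = n29552 := d37_1 D43075 (iv D29552) (iv F125334)
theorem F179877 : act 7 n43075 = n43075 := d42_1 D43075 (iv D43075) F125335
theorem F179878 : act 9 n43075 = n43075 := d44_2 D29551 D43075 (iv D43075) (iv D29551) F87541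
def n43076 : Q := act 3 n29552
theorem D43076 : act 3 n29552 = n43076 := rfl
theorem F179879 : act 7 n43076 = n43076 := d27_2 F125338 D43076 (iv D43076)
theorem F179880 : act 9 n43076 = n43076 := d29_2 F125339 D43076 (iv D43076)
def n43077 : Q := act 9 n29553
theorem D43077 : act 9 n29553 = n43077 := rfl
theorem F179881 : act 2 n43077 = n43077 := d23_1 D43077 (iv D43077) F125340
theorem F179882 : act 3 n43077 = n31425 := d29_1 D43077 (iv D31425) (iv F125341)
theorem F179883 : act 6 n43077 = n43077 := d41_1 D43077 (iv D43077) F125342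
theorem F179884 : act 7 n43077 = n29554 := d43_1 D43077 (iv D29554) D29553
def n43078 : Q := act 8 n29554
theorem D43078 : act 8 n29554 = n43078 := rfl
theorem F179885 : act 2 n43078 = n43078 := d22_1 D43078 (iv D43078) F125344
theorem F179886 : act 6 n43078 = n29555 := d40_1 D43078 (iv D29555) (iv F125346)
theorem F179887 : act 9 n43078 = n43078 := d44_2 D29554 D43078 (iv D43078) (iv D29554) F87551
def n43079 : Q := act 3 n29555
theorem D43079 : act 3 n29555 = n43079 := rfl
theorem F179890 : act 8 n43079 = n31427 := d28_2 D29555 D43079 (iv D31427) (iv D21561) (iv F87553)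
def n43081 : Q := act 3 n29557
theorem D43081 : act 3 n29557 = n43081 := rfl
theorem F179896 : act 1 n43081 = n29571 := d10_1 D43081 (iv D29571) (iv F125354)
theorem F179897 : act 5 n43081 = n43081 := d25_2 F125355 D43081 (iv D43081)
theorem F179898 : act 6 n43081 = n29558 := d26_2 (iv F125356) D43081 (iv D29558)
theorem F179899 : act 7 n43081 = n31429 := d27_2 (iv F125357) D43081 (iv D31429)
theorem F179900 : act 8 n43081 = n29958 := d28_2 D29557 D43081 (iv D29958) (iv D20579) (iv F87561)
def n43082 : Q := act 9 n29557
theorem D43082 : act 9 n29557 = n43082 := rfl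
theorem F179901 : act 1 n43082 = n29572 := d16_1 D43082 (iv D29572) (iv F125354)
theorem F179902 : act 5 n43082 = n43082 := d38_1 D43082 (iv D43082) F125355
theorem F179903 : act 6 n43082 = n29559 := d41_1 D43082 (iv D29559) (iv F125356)
theorem F179904 : act 7 n43082 = n31430 := d43_1 D43082 (iv D31430) (iv F125357)
def n43083 : Q := act 2 n29558
theorem D43083 : act 2 n29558 = n43083 := rfl
theorem F179905 : act 5 n43083 = n29563 := d19_2 (iv F125359) D43083 (iv D29563)
theorem F179906 : act 7 n43083 = n29560 := d21_2 (iv F125360) D43083 (iv D29560)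
theorem F179907 : act 8 n43083 = n29960 := d22_2 (iv F125361) D43083 (iv D29960)
def n43084 : Q := act 4 n29558
theorem D43084 : act 4 n29558 = n43084 := rfl
theorem F179908 : act 1 n43084 = n29574 := d11_1 D43084 (iv D29574) (iv F125358)
theorem F179909 : act 5 n43084 = n43084 := d30_2 (iv F125359) D43084 (iv D43084) F125359 F87575
theorem F179910 : act 7 n43084 = n29561 := d32_2 (iv F125360) D43084 (iv D29561)
theorem F179911 : act 8 n43084 = n29961 := d33_2 (iv F125361) D43084 (iv D29961)
def n43085 : Q := act 9 n29558
theorem D43085 : act 9 n29558 = n43085 := rfl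
theorem F179912 : act 1 n43085 = n29575 := d16_1 D43085 (iv D29575) (iv F125358)
theorem F179913 : act 3 n43085 = n29559 := d29_1 D43085 (iv D29559) D29558
theorem F179914 : act 5 n43085 = n29564 := d38_1 D43085 (iv D29564) (iv F125359)
theorem F179915 : act 7 n43085 = n29562 := d43_1 D43085 (iv D29562) (iv F125360)
def n43086 : Q := act 1 n29560
theorem D43086 : act 1 n29560 = n43086 := rfl
theorem F179916 : act 2 n43086 = n29576 := d9_2 D29560 D43086 (iv D29576) (iv D20321) (iv F87567)
theorem F179917 : act 5 n43086 = n29565 := d12_2 (iv F125365) D43086 (iv D29565)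
theorem F179918 : act 6 n43086 = n31434 := d13_2 (iv F125366) D43086 (iv D31434)
theorem F179919 : act 8 n43086 = n29963 := d15_2 (iv F125367) D43086 (iv D29963)
def n43087 : Q := act 4 n29560
theorem D43087 : act 4 n29560 = n43087 := rfl
theorem F179920 : act 2 n43087 = n29561 := d18_1 D43087 (iv D29561) D29560
theorem F179921 : act 5 n43087 = n43087 := d30_2 (iv F125365) D43087 (iv D43087) F125365 F87583
theorem F179922 : act 6 n43087 = n31435 := d31_2 (iv F125366) D43087 (iv D31435)
theorem F179923 : act 8 n43087 = n29964 := d33_2 (iv F125367) D43087 (iv D29964)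
def n43088 : Q := act 9 n29560
theorem D43088 : act 9 n29560 = n43088 := rfl
theorem F179924 : act 2 n43088 = n29562 := d23_1 D43088 (iv D29562) D29560
theorem F179925 : act 5 n43088 = n29566 := d38_1 D43088 (iv D29566) (iv F125365)
theorem F179926 : act 6 n43088 = n31436 := d41_1 D43088 (iv D31436) (iv F125366)
def n43089 : Q := act 9 n29561
theorem D43089 : act 9 n29561 = n43089 := rfl
theorem F179927 : act 1 n43089 = n29579 := d16_1 D43089 (iv D29579) (iv F125368)
theorem F179928 : act 4 n43089 = n29562 := d34_1 D43089 (iv D29562) D29561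
theorem F179929 : act 5 n43089 = n43089 := d38_1 D43089 (iv D43089) F125369
theorem F179930 : act 6 n43089 = n31437 := d41_1 D43089 (iv D31437) (iv F125370)
def n43090 : Q := act 8 n29562
theorem D43090 : act 8 n29562 = n43090 := rfl
theorem F179931 : act 1 n43090 = n29580 := d15_1 D43090 (iv D29580) (iv F125372)
theorem F179932 : act 5 n43090 = n29567 := d37_1 D43090 (iv D29567) (iv F125374)
theorem F179933 : act 6 n43090 = n31438 := d40_1 D43090 (iv D31438) (iv F125375)
theorem F179934 : act 9 n43090 = n29967 := d44_2 D29562 D43090 (iv D29967) (iv D20584) (iv F87570)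
def n43091 : Q := act 1 n29563
theorem D43091 : act 1 n29563 = n43091 := rfl
theorem F179935 : act 2 n43091 = n29581 := d9_2 D29563 D43091 (iv D29581) (iv D20324) (iv F87574)
theorem F179936 : act 4 n43091 = n43091 := d11_2 F125376 D43091 (iv D43091)
theorem F179937 : act 6 n43091 = n43091 := d13_2 F125377 D43091 (iv D43091)
theorem F179938 : act 7 n43091 = n29565 := d14_2 (iv F125378) D43091 (iv D29565)
theorem F179939 : act 8 n43091 = n29968 := d15_2 (iv F125379) D43091 (iv D29968)
def n43092 : Q := act 9 n29563
theorem D43092 : act 9 n29563 = n43092 := rfl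
theorem F179940 : act 2 n43092 = n29564 := d23_1 D43092 (iv D29564) D29563
theorem F179941 : act 4 n43092 = n43092 := d34_1 D43092 (iv D43092) F125376
theorem F179942 : act 6 n43092 = n43092 := d41_1 D43092 (iv D43092) F125377
theorem F179943 : act 7 n43092 = n29566 := d43_1 D43092 (iv D29566) (iv F125378)
def n43093 : Q := act 8 n29564
theorem D43093 : act 8 n29564 = n43093 := rfl
theorem F179944 : act 1 n43093 = n29583 := d15_1 D43093 (iv D29583) (iv F125380)
theorem F179945 : act 4 n43093 = n43093 := d33_1 D43093 (iv D43093) F125382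
theorem F179946 : act 6 n43093 = n43093 := d40_1 D43093 (iv D43093) F125383
theorem F179947 : act 7 n43093 = n29567 := d42_1 D43093 (iv D29567) (iv F125384)
theorem F179948 : act 9 n43093 = n29970 := d44_2 D29564 D43093 (iv D29970) (iv D20586) (iv F87578)
def n43094 : Q := act 0 n29565
theorem D43094 : act 0 n29565 = n43094 := rfl
theorem F179949 : act 2 n43094 = n29584 := d1_2 (iv F125385) D43094 (iv D29584)
theorem F179950 : act 4 n43094 = n43094 := d3_2 F125386 D43094 (iv D43094)
theorem F179951 : act 6 n43094 = n29568 := d5_2 (iv F125387) D43094 (iv D29568)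
theorem F179952 : act 8 n43094 = n29971 := d7_2 (iv F125388) D43094 (iv D29971)
def n43095 : Q := act 9 n29565
theorem D43095 : act 9 n29565 = n43095 := rfl
theorem F179953 : act 1 n43095 = n29566 := d16_1 D43095 (iv D29566) D29565
theorem F179954 : act 2 n43095 = n29585 := d23_1 D43095 (iv D29585) (iv F125385)
theorem F179955 : act 4 n43095 = n43095 := d34_1 D43095 (iv D43095) F125386
theorem F179956 : act 6 n43095 = n29569 := d41_1 D43095 (iv D29569) (iv F125387)
def n43096 : Q := act 8 n29566
theorem D43096 : act 8 n29566 = n43096 := rfl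
theorem F179957 : act 2 n43096 = n29567 := d22_1 D43096 (iv D29567) (iv F125389)
theorem F179958 : act 4 n43096 = n43096 := d33_1 D43096 (iv D43096) F125390
theorem F179959 : act 6 n43096 = n29570 := d40_1 D43096 (iv D29570) (iv F125391)
theorem F179960 : act 9 n43096 = n29973 := d44_2 D29566 D43096 (iv D29973) (iv D20588) (iv F87585)
def n43097 : Q := act 9 n29568
theorem D43097 : act 9 n29568 = n43097 := rfl
theorem F179961 : act 0 n43097 = n29569 := d8_1 D43097 (iv D29569) D29568
theorem F179962 : act 2 n43097 = n29587 := d23_1 D43097 (iv D29587) (iv F125396)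
theorem F179963 : act 4 n43097 = n43097 := d34_1 D43097 (iv D43097) F125397
theorem F179964 : act 5 n43097 = n31445 := d38_1 D43097 (iv D31445) (iv F125398)
theorem F179965 : act 7 n43097 = n43097 := d43_1 D43097 (iv D43097) F125399
def n43098 : Q := act 8 n29569
theorem D43098 : act 8 n29569 = n43098 := rfl
theorem F179966 : act 1 n43098 = n29570 := d15_1 D43098 (iv D29570) (iv F125401)
theorem F179967 : act 2 n43098 = n29588 := d22_1 D43098 (iv D29588) (iv F125402)
theorem F179968 : act 4 n43098 = n43098 := d33_1 D43098 (iv D43098) F125403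
theorem F179969 : act 5 n43098 = n31446 := d37_1 D43098 (iv D31446) (iv F125404)
theorem F179970 : act 7 n43098 = n43098 := d42_1 D43098 (iv D43098) F125405
theorem F179971 : act 9 n43098 = n29975 := d44_2 D29569 D43098 (iv D29975) (iv D20591) (iv F87594)
def n43099 : Q := act 3 n29570
theorem D43099 : act 3 n29570 = n43099 := rfl
theorem F179972 : act 5 n43099 = n31447 := d25_2 (iv F125408) D43099 (iv D31447)
theorem F179973 : act 7 n43099 = n43099 := d27_2 F125409 D43099 (iv D43099)
theorem F179974 : act 9 n43099 = n29976 := d29_2 (iv F125410) D43099 (iv D29976)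
def n43100 : Q := act 2 n29571
theorem D43100 : act 2 n29571 = n43100 := rfl
theorem F179975 : act 0 n43100 = n43100 := d1_1 D43100 (iv D43100) F125411
theorem F179976 : act 5 n43100 = n43100 := d19_2 F125412 D43100 (iv D43100)
theorem F179977 : act 6 n43100 = n29573 := d20_2 (iv F125413) D43100 (iv D29573)
theorem F179979 : act 8 n43100 = n29977 := d22_2 (iv F125415) D43100 (iv D29977)
def n43101 : Q := act 4 n29571
theorem D43101 : act 4 n29571 = n43101 := rfl
theorem F179980 : act 0 n43101 = n43101 := d3_1 D43101 (iv D43101) F125411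
theorem F179981 : act 6 n43101 = n29574 := d31_2 (iv F125413) D43101 (iv D29574)
theorem F179983 : act 8 n43101 = n29978 := d33_2 (iv F125415) D43101 (iv D29978)
def n43102 : Q := act 9 n29571
theorem D43102 : act 9 n29571 = n43102 := rfl
theorem F179984 : act 0 n43102 = n43102 := d8_1 D43102 (iv D43102) F125411
theorem F179985 : act 3 n43102 = n29572 := d29_1 D43102 (iv D29572) D29571
theorem F179986 : act 5 n43102 = n43102 := d38_1 D43102 (iv D43102) F125412
theorem F179987 : act 6 n43102 = n29575 := d41_1 D43102 (iv D29575) (iv F125413)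
theorem F179988 : act 7 n43102 = n31450 := d43_1 D43102 (iv D31450) (iv F125414)
def n43103 : Q := act 1 n29573
theorem D43103 : act 1 n29573 = n43103 := rfl
theorem F179989 : act 5 n43103 = n29581 := d12_2 (iv F125421) D43103 (iv D29581)
theorem F179990 : act 7 n43103 = n29576 := d14_2 (iv F125422) D43103 (iv D29576)
theorem F179991 : act 8 n43103 = n29980 := d15_2 (iv F125423) D43103 (iv D29980)
def n43104 : Q := act 4 n29573
theorem D43104 : act 4 n29573 = n43104 := rfl
theorem F179992 : act 0 n43104 = n43104 := d3_1 D43104 (iv D43104) F125420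
theorem F179993 : act 2 n43104 = n29574 := d18_1 D43104 (iv D29574) D29573
theorem F179994 : act 5 n43104 = n43104 := d30_2 (iv F125421) D43104 (iv D43104) F125421 F87628
theorem F179995 : act 7 n43104 = n29577 := d32_2 (iv F125422) D43104 (iv D29577)
theorem F179996 : act 8 n43104 = n29981 := d33_2 (iv F125423) D43104 (iv D29981)
def n43105 : Q := act 9 n29573
theorem D43105 : act 9 n29573 = n43105 := rfl
theorem F179997 : act 0 n43105 = n43105 := d8_1 D43105 (iv D43105) F125420
theorem F179998 : act 2 n43105 = n29575 := d23_1 D43105 (iv D29575) D29573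
theorem F179999 : act 5 n43105 = n29582 := d38_1 D43105 (iv D29582) (iv F125421)
theorem F180000 : act 7 n43105 = n29578 := d43_1 D43105 (iv D29578) (iv F125422)
def n43106 : Q := act 9 n29574
theorem D43106 : act 9 n29574 = n43106 := rfl
theorem F180001 : act 0 n43106 = n43106 := d8_1 D43106 (iv D43106) F125424
theorem F180002 : act 4 n43106 = n29575 := d34_1 D43106 (iv D29575) D29574
theorem F180003 : act 5 n43106 = n43106 := d38_1 D43106 (iv D43106) F125425
theorem F180004 : act 7 n43106 = n29579 := d43_1 D43106 (iv D29579) (iv F125426)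
def n43107 : Q := act 8 n29575
theorem D43107 : act 8 n29575 = n43107 := rfl
theorem F180005 : act 0 n43107 = n43107 := d7_1 D43107 (iv D43107) F125428
theorem F180006 : act 5 n43107 = n29583 := d37_1 D43107 (iv D29583) (iv F125430)
theorem F180007 : act 7 n43107 = n29580 := d42_1 D43107 (iv D29580) (iv F125431)
theorem F180008 : act 9 n43107 = n29984 := d44_2 D29575 D43107 (iv D29984) (iv D20597) (iv F87611)
def n43108 : Q := act 0 n29576
theorem D43108 : act 0 n29576 = n43108 := rfl
theorem F180009 : act 1 n43108 = n43108 := d0_2 D29576 D43108 (iv D43108) (iv D29576) F87615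
theorem F180010 : act 5 n43108 = n29584 := d4_2 (iv F125432) D43108 (iv D29584)
theorem F180011 : act 6 n43108 = n31456 := d5_2 (iv F125433) D43108 (iv D31456)
theorem F180012 : act 8 n43108 = n29985 := d7_2 (iv F125434) D43108 (iv D29985)
def n43109 : Q := act 4 n29576
theorem D43109 : act 4 n29576 = n43109 := rfl
theorem F180013 : act 1 n43109 = n29577 := d11_1 D43109 (iv D29577) D29576
theorem F180014 : act 5 n43109 = n43109 := d30_2 (iv F125432) D43109 (iv D43109) F125432 F87637
theorem F180015 : act 6 n43109 = n31457 := d31_2 (iv F125433) D43109 (iv D31457)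
theorem F180016 : act 8 n43109 = n29986 := d33_2 (iv F125434) D43109 (iv D29986)
def n43110 : Q := act 9 n29576
theorem D43110 : act 9 n29576 = n43110 := rfl
theorem F180017 : act 1 n43110 = n29578 := d16_1 D43110 (iv D29578) D29576
theorem F180018 : act 5 n43110 = n29585 := d38_1 D43110 (iv D29585) (iv F125432)
theorem F180019 : act 6 n43110 = n31458 := d41_1 D43110 (iv D31458) (iv F125433)
def n43111 : Q := act 3 n29577
theorem D43111 : act 3 n29577 = n43111 := rfl
theorem F180020 : act 0 n43111 = n43111 := d2_1 D43111 (iv D43111) F125435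
theorem F180021 : act 5 n43111 = n43111 := d25_2 F125437 D43111 (iv D43111)
theorem F180022 : act 6 n43111 = n31459 := d26_2 (iv F125438) D43111 (iv D31459)
def n43112 : Q := act 9 n29577
theorem D43112 : act 9 n29577 = n43112 := rfl
theorem F180023 : act 0 n43112 = n43112 := d8_1 D43112 (iv D43112) F125435
theorem F180024 : act 2 n43112 = n29579 := d23_1 D43112 (iv D29579) (iv F125436)
theorem F180025 : act 4 n43112 = n29578 := d34_1 D43112 (iv D29578) D29577
theorem F180026 : act 5 n43112 = n43112 := d38_1 D43112 (iv D43112) F125437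
theorem F180027 : act 6 n43112 = n31460 := d41_1 D43112 (iv D31460) (iv F125438)
def n43113 : Q := act 8 n29578
theorem D43113 : act 8 n29578 = n43113 := rfl
theorem F180028 : act 0 n43113 = n43113 := d7_1 D43113 (iv D43113) F125440
theorem F180029 : act 2 n43113 = n29580 := d22_1 D43113 (iv D29580) (iv F125441)
theorem F180030 : act 5 n43113 = n29586 := d37_1 D43113 (iv D29586) (iv F125442)
theorem F180031 : act 6 n43113 = n31461 := d40_1 D43113 (iv D31461) (iv F125443)
theorem F180032 : act 9 n43113 = n29990 := d44_2 D29578 D43113 (iv D29990) (iv D20600) (iv F87618)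
def n43114 : Q := act 8 n29579
theorem D43114 : act 8 n29579 = n43114 := rfl
theorem F180033 : act 0 n43114 = n43114 := d7_1 D43114 (iv D43114) F125444
theorem F180034 : act 4 n43114 = n29580 := d33_1 D43114 (iv D29580) (iv F125445)
theorem F180035 : act 5 n43114 = n43114 := d37_1 D43114 (iv D43114) F125446
theorem F180036 : act 6 n43114 = n31462 := d40_1 D43114 (iv D31462) (iv F125447)
theorem F180037 : act 9 n43114 = n29991 := d44_2 D29579 D43114 (iv D29991) (iv D20601) (iv F87622)
def n43115 : Q := act 0 n29581
theorem D43115 : act 0 n29581 = n43115 := rfl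
theorem F180038 : act 1 n43115 = n43115 := d0_2 D29581 D43115 (iv D43115) (iv D29581) F87627
theorem F180039 : act 4 n43115 = n43115 := d3_2 F125452 D43115 (iv D43115)
theorem F180040 : act 6 n43115 = n43115 := d5_2 F125453 D43115 (iv D43115)
theorem F180041 : act 7 n43115 = n29584 := d6_2 (iv F125454) D43115 (iv D29584)
theorem F180042 : act 8 n43115 = n29992 := d7_2 (iv F125455) D43115 (iv D29992)
def n43116 : Q := act 9 n29581
theorem D43116 : act 9 n29581 = n43116 := rfl
theorem F180043 : act 1 n43116 = n29582 := d16_1 D43116 (iv D29582) D29581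
theorem F180044 : act 4 n43116 = n43116 := d34_1 D43116 (iv D43116) F125452
theorem F180045 : act 6 n43116 = n43116 := d41_1 D43116 (iv D43116) F125453
theorem F180046 : act 7 n43116 = n29585 := d43_1 D43116 (iv D29585) (iv F125454)
def n43117 : Q := act 8 n29582
theorem D43117 : act 8 n29582 = n43117 := rfl
theorem F180047 : act 0 n43117 = n43117 := d7_1 D43117 (iv D43117) F125456
theorem F180048 : act 2 n43117 = n29583 := d22_1 D43117 (iv D29583) (iv F125457)
theorem F180049 : act 4 n43117 = n43117 := d33_1 D43117 (iv D43117) F125458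
theorem F180050 : act 6 n43117 = n43117 := d40_1 D43117 (iv D43117) F125459
theorem F180051 : act 7 n43117 = n29586 := d42_1 D43117 (iv D29586) (iv F125460)
theorem F180052 : act 9 n43117 = n29994 := d44_2 D29582 D43117 (iv D29994) (iv D20604) (iv F87631)
def n43118 : Q := act 9 n29584
theorem D43118 : act 9 n29584 = n43118 := rfl
theorem F180053 : act 0 n43118 = n29585 := d8_1 D43118 (iv D29585) D29584
theorem F180054 : act 1 n43118 = n43118 := d16_1 D43118 (iv D43118) F125466
theorem F180055 : act 4 n43118 = n43118 := d34_1 D43118 (iv D43118) F125467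
theorem F180056 : act 6 n43118 = n29587 := d41_1 D43118 (iv D29587) (iv F125468)
def n43119 : Q := act 8 n29585
theorem D43119 : act 8 n29585 = n43119 := rfl
theorem F180057 : act 1 n43119 = n29586 := d15_1 D43119 (iv D29586) (iv F125470)
theorem F180058 : act 4 n43119 = n43119 := d33_1 D43119 (iv D43119) F125471
theorem F180059 : act 6 n43119 = n29588 := d40_1 D43119 (iv D29588) (iv F125472)
theorem F180060 : act 9 n43119 = n29996 := d44_2 D29585 D43119 (iv D29996) (iv D20607) (iv F87639)
def n43120 : Q := act 3 n29586
theorem D43120 : act 3 n29586 = n43120 := rfl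
theorem F180061 : act 0 n43120 = n43120 := d2_1 D43120 (iv D43120) F125473
theorem F180062 : act 6 n43120 = n29589 := d26_2 (iv F125476) D43120 (iv D29589)
theorem F180063 : act 9 n43120 = n29997 := d29_2 (iv F125477) D43120 (iv D29997)
def n43121 : Q := act 8 n29587
theorem D43121 : act 8 n29587 = n43121 := rfl
theorem F180064 : act 0 n43121 = n29588 := d7_1 D43121 (iv D29588) (iv F125478)
theorem F180065 : act 1 n43121 = n43121 := d15_1 D43121 (iv D43121) F125479
theorem F180066 : act 4 n43121 = n43121 := d33_1 D43121 (iv D43121) F125480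
theorem F180067 : act 5 n43121 = n31469 := d37_1 D43121 (iv D31469) (iv F125481)
theorem F180068 : act 7 n43121 = n43121 := d42_1 D43121 (iv D43121) F125482
theorem F180069 : act 9 n43121 = n29998 := d44_2 D29587 D43121 (iv D29998) (iv D20609) (iv F87652)
def n43122 : Q := act 3 n29588
theorem D43122 : act 3 n29588 = n43122 := rfl
theorem F180070 : act 1 n43122 = n29589 := d10_1 D43122 (iv D29589) (iv F125483)
theorem F180071 : act 5 n43122 = n31470 := d25_2 (iv F125485) D43122 (iv D31470)
theorem F180072 : act 7 n43122 = n43122 := d27_2 F125486 D43122 (iv D43122)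
theorem F180073 : act 9 n43122 = n29999 := d29_2 (iv F125487) D43122 (iv D29999)
def n43123 : Q := act 4 n29589
theorem D43123 : act 4 n29589 = n43123 := rfl
theorem F180074 : act 0 n43123 = n43123 := d3_1 D43123 (iv D43123) F125488
theorem F180075 : act 3 n43123 = n43123 := d24_1 D43123 (iv D43123) (iv D29589) F87659 D29589
theorem F180076 : act 7 n43123 = n43123 := d32_2 F125490 D43123 (iv D43123)
theorem F180077 : act 9 n43123 = n30000 := d34_2 (iv F125491) D43123 (iv D30000)
def n43128 : Q := act 8 n29591
theorem D43128 : act 8 n29591 = n43128 := rfl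
theorem F180105 : act 5 n43128 = n43128 := d37_1 D43128 (iv D43128) F125502
def n43136 : Q := act 5 n29596
theorem D43136 : act 5 n29596 = n43136 := rfl
theorem F180147 : act 4 n43136 = n43136 := d30_1 D43136 (iv D43136) F125529 F87683 (iv F125529)
def n43163 : Q := act 8 n29613
theorem D43163 : act 8 n29613 = n43163 := rfl
theorem F180284 : act 2 n43163 = n29627 := d22_1 D43163 (iv D29627) (iv F125618)
theorem F180285 : act 4 n43163 = n43163 := d33_1 D43163 (iv D43163) F125619
def n43177 : Q := act 6 n29623
theorem D43177 : act 6 n29623 = n43177 := rfl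
theorem F180349 : act 5 n43177 = n43177 := d35_1 D43177 (iv D43177) (iv D29623) F87765 D29623
def n43181 : Q := act 8 n29626
theorem D43181 : act 8 n29626 = n43181 := rfl
theorem F180370 : act 5 n43181 = n29628 := d37_1 D43181 (iv D29628) (iv F125684)
def n43185 : Q := act 9 n29628
theorem D43185 : act 9 n29628 = n43185 := rfl
theorem F180387 : act 4 n43185 = n29633 := d34_1 D43185 (iv D29633) (iv F125691)
def n43191 : Q := act 8 n29634
theorem D43191 : act 8 n29634 = n43191 := rfl
theorem F180417 : act 6 n43191 = n29635 := d40_1 D43191 (iv D29635) D29634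
def n43193 : Q := act 9 n29635
theorem D43193 : act 9 n29635 = n43193 := rfl
theorem F180426 : act 5 n43193 = n29639 := d38_1 D43193 (iv D29639) (iv F125727)
def n43194 : Q := act 2 n29636
theorem D43194 : act 2 n29636 = n43194 := rfl
theorem F180430 : act 3 n43194 = n29715 := d17_2 D29636 D43194 (iv D29715) (iv D20414) (iv F87813)
def n43196 : Q := act 9 n29636
theorem D43196 : act 9 n29636 = n43196 := rfl
def n43197 : Q := act 2 n29638
theorem D43197 : act 2 n29638 = n43197 := rfl
theorem F180444 : act 3 n43197 = n29718 := d17_2 D29638 D43197 (iv D29718) (iv D20416) (iv F87818)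
def n43213 : Q := act 8 n29648
theorem D43213 : act 8 n29648 = n43213 := rfl
theorem F180521 : act 1 n43213 = n29662 := d15_1 D43213 (iv D29662) (iv F125790)
def n43226 : Q := act 8 n29655
theorem D43226 : act 8 n29655 = n43226 := rfl
def n43230 : Q := act 8 n29657
theorem D43230 : act 8 n29657 = n43230 := rfl
theorem F180600 : act 5 n43230 = n29659 := d37_1 D43230 (iv D29659) D29657
def n43231 : Q := act 8 n29658
theorem D43231 : act 8 n29658 = n43231 := rfl
theorem F180602 : act 0 n43231 = n29685 := d7_1 D43231 (iv D29685) (iv F125836)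
def n43232 : Q := act 3 n29659
theorem D43232 : act 3 n29659 = n43232 := rfl
theorem F180608 : act 6 n43232 = n29660 := d26_2 (iv F125844) D43232 (iv D29660)
def n43233 : Q := act 9 n29659
theorem D43233 : act 9 n29659 = n43233 := rfl
def n43234 : Q := act 2 n29660
theorem D43234 : act 2 n29660 = n43234 := rfl
theorem F180615 : act 3 n43234 = n29675 := d17_2 D29660 D43234 (iv D29675) (iv D20385) (iv F87883)
def n43238 : Q := act 9 n29662
theorem D43238 : act 9 n29662 = n43238 := rfl
theorem F180631 : act 0 n43238 = n29692 := d8_1 D43238 (iv D29692) (iv F125854)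
theorem F180632 : act 2 n43238 = n29677 := d23_1 D43238 (iv D29677) (iv F125855)
def n43239 : Q := act 4 n29663
theorem D43239 : act 4 n29663 = n43239 := rfl
theorem F180639 : act 6 n43239 = n29665 := d31_2 (iv F125862) D43239 (iv D29665)
def n43240 : Q := act 9 n29663
theorem D43240 : act 9 n29663 = n43240 := rfl
theorem F180644 : act 5 n43240 = n43240 := d38_1 D43240 (iv D43240) F125861
def n43251 : Q := act 3 n29672
theorem D43251 : act 3 n29672 = n43251 := rfl
theorem F180700 : act 4 n43251 = n29772 := d24_2 (iv F125907) D43251 (iv D29772) F88225 (iv F87945)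
def n43252 : Q := act 9 n29672
theorem D43252 : act 9 n29672 = n43252 := rfl
theorem F180703 : act 0 n43252 = n29706 := d8_1 D43252 (iv D29706) (iv F125905)
def n43256 : Q := act 9 n29675
theorem D43256 : act 9 n29675 = n43256 := rfl
theorem F180722 : act 2 n43256 = n29676 := d23_1 D43256 (iv D29676) D29675
theorem F180723 : act 4 n43256 = n29777 := d34_1 D43256 (iv D29777) (iv F125920)
def n43260 : Q := act 8 n29678
theorem D43260 : act 8 n29678 = n43260 := rfl
def n43261 : Q := act 8 n29679
theorem D43261 : act 8 n29679 = n43261 := rfl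
def n43268 : Q := act 8 n29683
theorem D43268 : act 8 n29683 = n43268 := rfl
theorem F180765 : act 5 n43268 = n29685 := d37_1 D43268 (iv D29685) (iv F125954)
def n43269 : Q := act 3 n29684
theorem D43269 : act 3 n29684 = n43269 := rfl
theorem F180767 : act 5 n43269 = n29686 := d25_2 (iv F125958) D43269 (iv D29686)
def n43272 : Q := act 9 n29685
theorem D43272 : act 9 n29685 = n43272 := rfl
def n43277 : Q := act 4 n29688
theorem D43277 : act 4 n29688 = n43277 := rfl
theorem F180791 : act 3 n43277 = n29798 := d24_1 D43277 (iv D29798) F88293 (iv F88031) (iv F125969)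
def n43283 : Q := act 9 n29691
theorem D43283 : act 9 n29691 = n43283 := rfl
theorem F180811 : act 3 n43283 = n29692 := d29_1 D43283 (iv D29692) D29691
def n43284 : Q := act 5 n29693
theorem D43284 : act 5 n29693 = n43284 := rfl
theorem F180816 : act 4 n43284 = n43284 := d30_1 D43284 (iv D43284) (iv D29693) F87984 D29693
def n43294 : Q := act 8 n29701
theorem D43294 : act 8 n29701 = n43294 := rfl
theorem F180859 : act 6 n43294 = n29702 := d40_1 D43294 (iv D29702) D29701
def n43296 : Q := act 9 n29702
theorem D43296 : act 9 n29702 = n43296 := rfl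
theorem F180864 : act 1 n43296 = n29714 := d16_1 D43296 (iv D29714) (iv F126024)
theorem F180866 : act 5 n43296 = n29706 := d38_1 D43296 (iv D29706) (iv F126026)
def n43301 : Q := act 9 n29705
theorem D43301 : act 9 n29705 = n43301 := rfl
theorem F180883 : act 3 n43301 = n29706 := d29_1 D43301 (iv D29706) D29705
theorem F180884 : act 4 n43301 = n29821 := d34_1 D43301 (iv D29821) (iv F126037)
def n43302 : Q := act 1 n29707
theorem D43302 : act 1 n29707 = n43302 := rfl
theorem F180887 : act 2 n43302 = n29720 := d9_2 D29707 D43302 (iv D29720) (iv D20418) (iv F88024)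
theorem F180889 : act 6 n43302 = n29709 := d13_2 (iv F126046) D43302 (iv D29709)
def n43303 : Q := act 9 n29707
theorem D43303 : act 9 n29707 = n43303 := rfl
theorem F180890 : act 2 n43303 = n29708 := d23_1 D43303 (iv D29708) D29707
def n43305 : Q := act 0 n29709
theorem D43305 : act 0 n29709 = n43305 := rfl
theorem F180898 : act 4 n43305 = n29825 := d3_2 (iv F126052) D43305 (iv D29825)
def n43309 : Q := act 9 n29712
theorem D43309 : act 9 n29712 = n43309 := rfl
theorem F180917 : act 6 n43309 = n29714 := d41_1 D43309 (iv D29714) (iv F126067)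
def n43311 : Q := act 4 n29713
theorem D43311 : act 4 n29713 = n43311 := rfl
theorem F180925 : act 5 n43311 = n29831 := d30_2 (iv F126070) D43311 (iv D29831) F88393 (iv F88063)
def n43314 : Q := act 4 n29715
theorem D43314 : act 4 n29715 = n43314 := rfl
theorem F180935 : act 5 n43314 = n29834 := d30_2 (iv F126078) D43314 (iv D29834) F88403 (iv F88072)
def n43316 : Q := act 9 n29716
theorem D43316 : act 9 n29716 = n43316 := rfl
theorem F180943 : act 4 n43316 = n29717 := d34_1 D43316 (iv D29717) D29716
theorem F180944 : act 5 n43316 = n29836 := d38_1 D43316 (iv D29836) (iv F126082)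
def n43319 : Q := act 9 n29718
theorem D43319 : act 9 n29718 = n43319 := rfl
theorem F180954 : act 2 n43319 = n29719 := d23_1 D43319 (iv D29719) D29718
theorem F180955 : act 4 n43319 = n29839 := d34_1 D43319 (iv D29839) (iv F126089)
def n43322 : Q := act 9 n29720
theorem D43322 : act 9 n29720 = n43322 := rfl
theorem F180966 : act 1 n43322 = n29721 := d16_1 D43322 (iv D29721) D29720
theorem F180968 : act 6 n43322 = n29724 := d41_1 D43322 (iv D29724) (iv F126098)
def n43325 : Q := act 8 n29724
theorem D43325 : act 8 n29724 = n43325 := rfl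
theorem F180978 : act 1 n43325 = n29725 := d15_1 D43325 (iv D29725) (iv F126111)
def n43326 : Q := act 3 n29725
theorem D43326 : act 3 n29725 = n43326 := rfl
def n43340 : Q := act 4 n29732
theorem D43340 : act 4 n29732 = n43340 := rfl
theorem F181055 : act 3 n43340 = n29738 := d24_1 D43340 (iv D29738) (iv D20428) (iv F88105) D29732
def n43349 : Q := act 5 n29738
theorem D43349 : act 5 n29738 = n43349 := rfl
theorem F181100 : act 4 n43349 = n29742 := d30_1 D43349 (iv D29742) (iv D20431) (iv F88122) D29738
def n43359 : Q := act 4 n29745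
theorem D43359 : act 4 n29745 = n43359 := rfl
theorem F181149 : act 0 n43359 = n29779 := d3_1 D43359 (iv D29779) (iv F126222)
theorem F181152 : act 6 n43359 = n31501 := d31_2 (iv F126224) D43359 (iv D31501)
def n43360 : Q := act 7 n29745
theorem D43360 : act 7 n29745 = n43360 := rfl
theorem F181154 : act 0 n43360 = n29780 := d6_1 D43360 (iv D29780) (iv F126222)
def n43363 : Q := act 3 n29747
theorem D43363 : act 3 n29747 = n43363 := rfl
theorem F181167 : act 8 n43363 = n29753 := d28_2 D29747 D43363 (iv D29753) (iv D20437) (iv F88148)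
def n43364 : Q := act 9 n29747
theorem D43364 : act 9 n29747 = n43364 := rfl
theorem F181171 : act 8 n43364 = n29877 := d44_1 D43364 (iv D29877) (iv D20522) (iv F88150) D29747
def n43369 : Q := act 8 n29750
theorem D43369 : act 8 n29750 = n43369 := rfl
theorem F181194 : act 7 n43369 = n29751 := d42_1 D43369 (iv D29751) D29750
def n43371 : Q := act 9 n29751
theorem D43371 : act 9 n29751 = n43371 := rfl
theorem F181201 : act 5 n43371 = n29754 := d38_1 D43371 (iv D29754) (iv F126251)
theorem F181203 : act 8 n43371 = n29884 := d44_1 D43371 (iv D29884) (iv D20526) (iv F88159) D29751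
def n43373 : Q := act 9 n29752
theorem D43373 : act 9 n29752 = n43373 := rfl
theorem F181209 : act 4 n43373 = n29759 := d34_1 D43373 (iv D29759) (iv F126255)
theorem F181212 : act 8 n43373 = n29886 := d44_1 D43373 (iv D29886) (iv D20527) (iv F88164) D29752
def n43375 : Q := act 4 n29753
theorem D43375 : act 4 n29753 = n43375 := rfl
theorem F181217 : act 3 n43375 = n29760 := d24_1 D43375 (iv D29760) (iv D20441) (iv F88167) D29753
def n43379 : Q := act 9 n29755
theorem D43379 : act 9 n29755 = n43379 := rfl
theorem F181230 : act 3 n43379 = n29777 := d29_1 D43379 (iv D29777) (iv F126266)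
theorem F181231 : act 5 n43379 = n31521 := d38_1 D43379 (iv D31521) (iv F126267)
def n43380 : Q := act 5 n29756
theorem D43380 : act 5 n29756 = n43380 := rfl
theorem F181235 : act 4 n43380 = n31522 := d30_1 D43380 (iv D31522) (iv D21625) (iv F88170) D29756
def n43381 : Q := act 9 n29756
theorem D43381 : act 9 n29756 = n43381 := rfl
theorem F181239 : act 4 n43381 = n29757 := d34_1 D43381 (iv D29757) D29756
def n43382 : Q := act 8 n29757
theorem D43382 : act 8 n29757 = n43382 := rfl
theorem F181242 : act 3 n43382 = n29894 := d28_1 D43382 (iv D29894) F88572 (iv F88177) (iv F126273)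
def n43384 : Q := act 9 n29758
theorem D43384 : act 9 n29758 = n43384 := rfl
theorem F181249 : act 0 n43384 = n29804 := d8_1 D43384 (iv D29804) (iv F126276)
theorem F181250 : act 3 n43384 = n29759 := d29_1 D43384 (iv D29759) D29758
def n43386 : Q := act 9 n29760
theorem D43386 : act 9 n29760 = n43386 := rfl
theorem F181258 : act 4 n43386 = n29761 := d34_1 D43386 (iv D29761) D29760
def n43396 : Q := act 9 n29769
theorem D43396 : act 9 n29769 = n43396 := rfl
theorem F181303 : act 5 n43396 = n29773 := d38_1 D43396 (iv D29773) (iv F126329)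
theorem F181305 : act 8 n43396 = n29903 := d44_1 D43396 (iv D29903) (iv D20540) (iv F88217) D29769
def n43398 : Q := act 4 n29770
theorem D43398 : act 4 n29770 = n43398 := rfl
theorem F181312 : act 6 n43398 = n31537 := d31_2 (iv F126334) D43398 (iv D31537)
def n43408 : Q := act 7 n29779
theorem D43408 : act 7 n29779 = n43408 := rfl
theorem F181347 : act 1 n43408 = n43408 := d14_1 D43408 (iv D43408) F126369
theorem F181348 : act 3 n43408 = n43408 := d27_1 D43408 (iv D43408) F126370
theorem F181349 : act 4 n43408 = n29780 := d32_1 D43408 (iv D29780) D29779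
theorem F181350 : act 5 n43408 = n43408 := d36_1 D43408 (iv D43408) F126371
theorem F181351 : act 9 n43408 = n29915 := d43_2 (iv F126373) D43408 (iv D29915)
def n43409 : Q := act 8 n29779
theorem D43409 : act 8 n29779 = n43409 := rfl
theorem F181352 : act 1 n43409 = n43409 := d15_1 D43409 (iv D43409) F126369
theorem F181353 : act 4 n43409 = n29781 := d33_1 D43409 (iv D29781) D29779
theorem F181354 : act 5 n43409 = n43409 := d37_1 D43409 (iv D43409) F126371
theorem F181355 : act 6 n43409 = n31548 := d40_1 D43409 (iv D31548) (iv F126372)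
def n43410 : Q := act 6 n29780
theorem D43410 : act 6 n29780 = n43410 := rfl
theorem F181356 : act 1 n43410 = n43410 := d13_1 D43410 (iv D43410) F126374
theorem F181357 : act 3 n43410 = n29788 := d26_1 D43410 (iv D29788) (iv F126375)
theorem F181358 : act 5 n43410 = n43410 := d35_1 D43410 (iv D43410) F126376 F88257 (iv F126376)
theorem F181359 : act 7 n43410 = n31549 := d39_2 D29780 D43410 (iv D31549) (iv D21647) (iv F88252)
theorem F181360 : act 9 n43410 = n29917 := d41_2 (iv F126377) D43410 (iv D29917)
def n43411 : Q := act 8 n29780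
theorem D43411 : act 8 n29780 = n43411 := rfl
theorem F181361 : act 1 n43411 = n43411 := d15_1 D43411 (iv D43411) F126374
theorem F181362 : act 5 n43411 = n29782 := d37_1 D43411 (iv D29782) (iv F126376)
theorem F181363 : act 7 n43411 = n29781 := d42_1 D43411 (iv D29781) D29780
def n43412 : Q := act 3 n29781
theorem D43412 : act 3 n29781 = n43412 := rfl
theorem F181367 : act 8 n43412 = n29790 := d28_2 D29781 D43412 (iv D29790) (iv D20462) (iv F88251)
def n43413 : Q := act 9 n29781
theorem D43413 : act 9 n29781 = n43413 := rfl
theorem F181368 : act 1 n43413 = n43413 := d16_1 D43413 (iv D43413) F126378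
theorem F181369 : act 5 n43413 = n29784 := d38_1 D43413 (iv D29784) (iv F126379)
theorem F181370 : act 6 n43413 = n31552 := d41_1 D43413 (iv D31552) (iv F126380)
theorem F181371 : act 8 n43413 = n29920 := d44_1 D43413 (iv D29920) (iv D20552) (iv F88253) D29781
def n43414 : Q := act 3 n29782
theorem D43414 : act 3 n29782 = n43414 := rfl
theorem F181375 : act 8 n43414 = n29792 := d28_2 D29782 D43414 (iv D29792) (iv D20463) (iv F88255)
def n43415 : Q := act 9 n29782
theorem D43415 : act 9 n29782 = n43415 := rfl
theorem F181376 : act 1 n43415 = n43415 := d16_1 D43415 (iv D43415) F126381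
theorem F181377 : act 4 n43415 = n43415 := d34_1 D43415 (iv D43415) F126382
theorem F181378 : act 6 n43415 = n43415 := d41_1 D43415 (iv D43415) F126383
theorem F181379 : act 7 n43415 = n29784 := d43_1 D43415 (iv D29784) (iv F126384)
theorem F181380 : act 8 n43415 = n29922 := d44_1 D43415 (iv D29922) (iv D20553) (iv F88258) D29782
def n43425 : Q := act 8 n29788
theorem D43425 : act 8 n29788 = n43425 := rfl
theorem F181418 : act 6 n43425 = n29789 := d40_1 D43425 (iv D29789) D29788
theorem F181419 : act 7 n43425 = n31564 := d42_1 D43425 (iv D31564) (iv F126407)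
def n43427 : Q := act 9 n29789
theorem D43427 : act 9 n29789 = n43427 := rfl
theorem F181426 : act 5 n43427 = n29793 := d38_1 D43427 (iv D29793) (iv F126412)
theorem F181428 : act 8 n43427 = n29933 := d44_1 D43427 (iv D29933) (iv D20560) (iv F88275) D29789
def n43428 : Q := act 2 n29790
theorem D43428 : act 2 n29790 = n43428 := rfl
theorem F181430 : act 5 n43428 = n29794 := d19_2 (iv F126415) D43428 (iv D29794)
theorem F181431 : act 6 n43428 = n31567 := d20_2 (iv F126416) D43428 (iv D31567)
def n43432 : Q := act 4 n29792
theorem D43432 : act 4 n29792 = n43432 := rfl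
theorem F181443 : act 3 n43432 = n29803 := d24_1 D43432 (iv D29803) (iv D20469) (iv F88283) D29792
def n43434 : Q := act 1 n29794
theorem D43434 : act 1 n29794 = n43434 := rfl
theorem F181451 : act 3 n43434 = n29822 := d10_2 (iv F126432) D43434 (iv D29822)
theorem F181452 : act 6 n43434 = n29797 := d13_2 (iv F126433) D43434 (iv D29797)
def n43435 : Q := act 4 n29794
theorem D43435 : act 4 n29794 = n43435 := rfl
theorem F181453 : act 2 n43435 = n29795 := d18_1 D43435 (iv D29795) D29794
theorem F181454 : act 6 n43435 = n29798 := d31_2 (iv F126433) D43435 (iv D29798)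
def n43436 : Q := act 9 n29794
theorem D43436 : act 9 n29794 = n43436 := rfl
theorem F181456 : act 3 n43436 = n29823 := d29_1 D43436 (iv D29823) (iv F126432)
def n43439 : Q := act 8 n29796
theorem D43439 : act 8 n29796 = n43439 := rfl
theorem F181465 : act 3 n43439 = n29945 := d28_1 D43439 (iv D29945) F88720 (iv F88292) (iv F126438)
def n43440 : Q := act 0 n29797
theorem D43440 : act 0 n29797 = n43440 := rfl
theorem F181468 : act 3 n43440 = n29825 := d2_2 (iv F126441) D43440 (iv D29825)
theorem F181469 : act 5 n43440 = n31579 := d4_2 (iv F126442) D43440 (iv D31579)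
def n43450 : Q := act 9 n29803
theorem D43450 : act 9 n29803 = n43450 := rfl
theorem F181504 : act 4 n43450 = n29804 := d34_1 D43450 (iv D29804) D29803
def n43452 : Q := act 6 n29805
theorem D43452 : act 6 n29805 = n43452 := rfl
theorem F181515 : act 5 n43452 = n29808 := d35_1 D43452 (iv D29808) (iv D20473) (iv F88315) D29805
def n43461 : Q := act 3 n29814
theorem D43461 : act 3 n29814 = n43461 := rfl
theorem F181550 : act 1 n43461 = n29828 := d10_1 D43461 (iv D29828) (iv F126507)
theorem F181551 : act 5 n43461 = n43461 := d25_2 F126509 D43461 (iv D43461)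
theorem F181552 : act 6 n43461 = n29815 := d26_2 (iv F126510) D43461 (iv D29815)
theorem F181553 : act 7 n43461 = n31595 := d27_2 (iv F126511) D43461 (iv D31595)
def n43462 : Q := act 9 n29814
theorem D43462 : act 9 n29814 = n43462 := rfl
theorem F181557 : act 6 n43462 = n29816 := d41_1 D43462 (iv D29816) (iv F126510)
theorem F181558 : act 7 n43462 = n31596 := d43_1 D43462 (iv D31596) (iv F126511)
theorem F181559 : act 8 n43462 = n29959 := d44_1 D43462 (iv D29959) (iv D20579) (iv F88351) D29814
def n43463 : Q := act 2 n29815
theorem D43463 : act 2 n29815 = n43463 := rfl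
theorem F181560 : act 5 n43463 = n29820 := d19_2 (iv F126513) D43463 (iv D29820)
theorem F181561 : act 7 n43463 = n29817 := d21_2 (iv F126514) D43463 (iv D29817)
def n43464 : Q := act 4 n29815
theorem D43464 : act 4 n29815 = n43464 := rfl
theorem F181562 : act 1 n43464 = n29831 := d11_1 D43464 (iv D29831) (iv F126512)
theorem F181563 : act 3 n43464 = n43464 := d24_1 D43464 (iv D43464) (iv D29815) F88353 D29815
theorem F181564 : act 7 n43464 = n29818 := d32_2 (iv F126514) D43464 (iv D29818)
def n43465 : Q := act 9 n29815
theorem D43465 : act 9 n29815 = n43465 := rfl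
theorem F181567 : act 5 n43465 = n29821 := d38_1 D43465 (iv D29821) (iv F126513)
def n43466 : Q := act 1 n29817
theorem D43466 : act 1 n29817 = n43466 := rfl
theorem F181569 : act 2 n43466 = n29833 := d9_2 D29817 D43466 (iv D29833) (iv D20493) (iv F88356)
theorem F181570 : act 5 n43466 = n29822 := d12_2 (iv F126520) D43466 (iv D29822)
theorem F181571 : act 6 n43466 = n31600 := d13_2 (iv F126521) D43466 (iv D31600)
def n43467 : Q := act 4 n29817
theorem D43467 : act 4 n29817 = n43467 := rfl
theorem F181572 : act 2 n43467 = n29818 := d18_1 D43467 (iv D29818) D29817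
theorem F181573 : act 6 n43467 = n31601 := d31_2 (iv F126521) D43467 (iv D31601)
def n43468 : Q := act 9 n29817
theorem D43468 : act 9 n29817 = n43468 := rfl
theorem F181575 : act 5 n43468 = n29823 := d38_1 D43468 (iv D29823) (iv F126520)
theorem F181576 : act 6 n43468 = n31602 := d41_1 D43468 (iv D31602) (iv F126521)
def n43469 : Q := act 9 n29818
theorem D43469 : act 9 n29818 = n43469 := rfl
theorem F181579 : act 4 n43469 = n29819 := d34_1 D43469 (iv D29819) D29818
theorem F181580 : act 6 n43469 = n31603 := d41_1 D43469 (iv D31603) (iv F126524)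
def n43470 : Q := act 8 n29819
theorem D43470 : act 8 n29819 = n43470 := rfl
theorem F181582 : act 3 n43470 = n29967 := d28_1 D43470 (iv D29967) F88792 (iv F88363) (iv F126526)
def n43471 : Q := act 1 n29820
theorem D43471 : act 1 n29820 = n43471 := rfl
theorem F181587 : act 7 n43471 = n29822 := d14_2 (iv F126530) D43471 (iv D29822)
def n43472 : Q := act 9 n29820
theorem D43472 : act 9 n29820 = n43472 := rfl
theorem F181590 : act 7 n43472 = n29823 := d43_1 D43472 (iv D29823) (iv F126530)
def n43473 : Q := act 8 n29821
theorem D43473 : act 8 n29821 = n43473 := rfl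
theorem F181592 : act 3 n43473 = n29970 := d28_1 D43473 (iv D29970) F88799 (iv F88371) (iv F126532)
def n43475 : Q := act 9 n29822
theorem D43475 : act 9 n29822 = n43475 := rfl
theorem F181598 : act 2 n43475 = n29842 := d23_1 D43475 (iv D29842) (iv F126535)
def n43477 : Q := act 9 n29825
theorem D43477 : act 9 n29825 = n43477 := rfl
theorem F181603 : act 2 n43477 = n29844 := d23_1 D43477 (iv D29844) (iv F126542)
def n43479 : Q := act 3 n29827
theorem D43479 : act 3 n29827 = n43479 := rfl
theorem F181610 : act 2 n43479 = n29976 := d17_1 D43479 (iv D29976) F88821 (iv F88383) (iv F126549)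
def n43480 : Q := act 2 n29828
theorem D43480 : act 2 n29828 = n43480 := rfl
theorem F181616 : act 6 n43480 = n29830 := d20_2 (iv F126554) D43480 (iv D29830)
theorem F181617 : act 7 n43480 = n31614 := d21_2 (iv F126555) D43480 (iv D31614)
def n43481 : Q := act 4 n29828
theorem D43481 : act 4 n29828 = n43481 := rfl
theorem F181620 : act 6 n43481 = n29831 := d31_2 (iv F126554) D43481 (iv D29831)
theorem F181621 : act 7 n43481 = n31615 := d32_2 (iv F126555) D43481 (iv D31615)
def n43482 : Q := act 9 n29828
theorem D43482 : act 9 n29828 = n43482 := rfl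
theorem F181625 : act 6 n43482 = n29832 := d41_1 D43482 (iv D29832) (iv F126554)
theorem F181626 : act 7 n43482 = n31616 := d43_1 D43482 (iv D31616) (iv F126555)
def n43483 : Q := act 1 n29830
theorem D43483 : act 1 n29830 = n43483 := rfl
theorem F181629 : act 7 n43483 = n29833 := d14_2 (iv F126566) D43483 (iv D29833)
def n43484 : Q := act 4 n29830
theorem D43484 : act 4 n29830 = n43484 := rfl
theorem F181631 : act 2 n43484 = n29831 := d18_1 D43484 (iv D29831) D29830
def n43485 : Q := act 9 n29830
theorem D43485 : act 9 n29830 = n43485 := rfl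
theorem F181634 : act 2 n43485 = n29832 := d23_1 D43485 (iv D29832) D29830
theorem F181636 : act 5 n43485 = n29839 := d38_1 D43485 (iv D29839) (iv F126565)
def n43486 : Q := act 9 n29831
theorem D43486 : act 9 n29831 = n43486 := rfl
theorem F181640 : act 4 n43486 = n29832 := d34_1 D43486 (iv D29832) D29831
theorem F181641 : act 7 n43486 = n29836 := d43_1 D43486 (iv D29836) (iv F126569)
def n43487 : Q := act 8 n29832
theorem D43487 : act 8 n29832 = n43487 := rfl
theorem F181643 : act 3 n43487 = n29984 := d28_1 D43487 (iv D29984) F88844 (iv F88400) (iv F126571)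
theorem F181644 : act 5 n43487 = n29840 := d37_1 D43487 (iv D29840) (iv F126572)
theorem F181645 : act 7 n43487 = n29837 := d42_1 D43487 (iv D29837) (iv F126573)
def n43488 : Q := act 0 n29833
theorem D43488 : act 0 n29833 = n43488 := rfl
theorem F181648 : act 5 n43488 = n29841 := d4_2 (iv F126575) D43488 (iv D29841)
theorem F181649 : act 6 n43488 = n31622 := d5_2 (iv F126576) D43488 (iv D31622)
def n43489 : Q := act 4 n29833
theorem D43489 : act 4 n29833 = n43489 := rfl
theorem F181651 : act 6 n43489 = n31623 := d31_2 (iv F126576) D43489 (iv D31623)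
def n43490 : Q := act 9 n29833
theorem D43490 : act 9 n29833 = n43490 := rfl
theorem F181654 : act 5 n43490 = n29842 := d38_1 D43490 (iv D29842) (iv F126575)
theorem F181655 : act 6 n43490 = n31624 := d41_1 D43490 (iv D31624) (iv F126576)
def n43492 : Q := act 9 n29834
theorem D43492 : act 9 n29834 = n43492 := rfl
theorem F181661 : act 2 n43492 = n29836 := d23_1 D43492 (iv D29836) (iv F126578)
theorem F181663 : act 6 n43492 = n31626 := d41_1 D43492 (iv D31626) (iv F126579)
def n43493 : Q := act 8 n29835
theorem D43493 : act 8 n29835 = n43493 := rfl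
theorem F181665 : act 2 n43493 = n29837 := d22_1 D43493 (iv D29837) (iv F126581)
theorem F181666 : act 5 n43493 = n29843 := d37_1 D43493 (iv D29843) (iv F126583)
theorem F181667 : act 6 n43493 = n31627 := d40_1 D43493 (iv D31627) (iv F126584)
def n43494 : Q := act 8 n29836
theorem D43494 : act 8 n29836 = n43494 := rfl
theorem F181669 : act 4 n43494 = n29837 := d33_1 D43494 (iv D29837) (iv F126587)
theorem F181670 : act 6 n43494 = n31628 := d40_1 D43494 (iv D31628) (iv F126588)
def n43496 : Q := act 9 n29838
theorem D43496 : act 9 n29838 = n43496 := rfl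
theorem F181678 : act 7 n43496 = n29842 := d43_1 D43496 (iv D29842) (iv F126595)
def n43497 : Q := act 8 n29839
theorem D43497 : act 8 n29839 = n43497 := rfl
theorem F181680 : act 2 n43497 = n29840 := d22_1 D43497 (iv D29840) (iv F126597)
theorem F181682 : act 7 n43497 = n29843 := d42_1 D43497 (iv D29843) (iv F126600)
def n43498 : Q := act 9 n29841
theorem D43498 : act 9 n29841 = n43498 := rfl
theorem F181683 : act 0 n43498 = n29842 := d8_1 D43498 (iv D29842) D29841
theorem F181686 : act 6 n43498 = n29844 := d41_1 D43498 (iv D29844) (iv F126607)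
def n43499 : Q := act 8 n29842
theorem D43499 : act 8 n29842 = n43499 := rfl
theorem F181687 : act 1 n43499 = n29843 := d15_1 D43499 (iv D29843) (iv F126608)
theorem F181688 : act 6 n43499 = n29845 := d40_1 D43499 (iv D29845) (iv F126610)
def n43500 : Q := act 3 n29843
theorem D43500 : act 3 n29843 = n43500 := rfl
theorem F181689 : act 0 n43500 = n43500 := d2_1 D43500 (iv D43500) F126611
theorem F181690 : act 2 n43500 = n29997 := d17_1 D43500 (iv D29997) F88890 (iv F88427) (iv F126612)
theorem F181691 : act 6 n43500 = n29846 := d26_2 (iv F126613) D43500 (iv D29846)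
theorem F181692 : act 8 n43500 = n43500 := d28_2 D29843 D43500 (iv D43500) (iv D29843) F88424
def n43501 : Q := act 8 n29844
theorem D43501 : act 8 n29844 = n43501 := rfl
theorem F181693 : act 0 n43501 = n29845 := d7_1 D43501 (iv D29845) (iv F126614)
theorem F181695 : act 5 n43501 = n31635 := d37_1 D43501 (iv D31635) (iv F126617)
def n43502 : Q := act 3 n29845
theorem D43502 : act 3 n29845 = n43502 := rfl
theorem F181697 : act 1 n43502 = n29846 := d10_1 D43502 (iv D29846) (iv F126619)
theorem F181698 : act 5 n43502 = n31636 := d25_2 (iv F126620) D43502 (iv D31636)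
def n43503 : Q := act 4 n29846
theorem D43503 : act 4 n29846 = n43503 := rfl
theorem F181702 : act 2 n43503 = n30000 := d18_1 D43503 (iv D30000) (iv F126623)
def n43545 : Q := act 7 n29872
theorem D43545 : act 7 n29872 = n43545 := rfl
theorem F181906 : act 0 n43545 = n29915 := d6_1 D43545 (iv D29915) (iv F126754)
theorem F181907 : act 3 n43545 = n43545 := d27_1 D43545 (iv D43545) F126755
theorem F181908 : act 4 n43545 = n29873 := d32_1 D43545 (iv D29873) D29872
theorem F181909 : act 5 n43545 = n43545 := d36_1 D43545 (iv D43545) F126756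
def n43546 : Q := act 8 n29872
theorem D43546 : act 8 n29872 = n43546 := rfl
theorem F181910 : act 0 n43546 = n29916 := d7_1 D43546 (iv D29916) (iv F126754)
theorem F181911 : act 4 n43546 = n29874 := d33_1 D43546 (iv D29874) D29872
theorem F181912 : act 5 n43546 = n43546 := d37_1 D43546 (iv D43546) F126756
theorem F181913 : act 6 n43546 = n31663 := d40_1 D43546 (iv D31663) (iv F126757)
def n43547 : Q := act 6 n29873
theorem D43547 : act 6 n29873 = n43547 := rfl
theorem F181914 : act 0 n43547 = n29917 := d5_1 D43547 (iv D29917) (iv F126758)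
theorem F181915 : act 3 n43547 = n29881 := d26_1 D43547 (iv D29881) (iv F126759)
theorem F181916 : act 5 n43547 = n43547 := d35_1 D43547 (iv D43547) F126760 F88531 (iv F126760)
theorem F181917 : act 7 n43547 = n31664 := d39_2 D29873 D43547 (iv D31664) (iv D21727) (iv F88527)
def n43548 : Q := act 8 n29873
theorem D43548 : act 8 n29873 = n43548 := rfl
theorem F181918 : act 0 n43548 = n29918 := d7_1 D43548 (iv D29918) (iv F126758)
theorem F181919 : act 5 n43548 = n29875 := d37_1 D43548 (iv D29875) (iv F126760)
theorem F181920 : act 7 n43548 = n29874 := d42_1 D43548 (iv D29874) D29873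
def n43549 : Q := act 3 n29874
theorem D43549 : act 3 n29874 = n43549 := rfl
theorem F181921 : act 0 n43549 = n29919 := d2_1 D43549 (iv D29919) (iv F126761)
def n43550 : Q := act 9 n29874
theorem D43550 : act 9 n29874 = n43550 := rfl
theorem F181925 : act 0 n43550 = n29920 := d8_1 D43550 (iv D29920) (iv F126761)
theorem F181926 : act 5 n43550 = n29877 := d38_1 D43550 (iv D29877) (iv F126762)
theorem F181927 : act 6 n43550 = n31667 := d41_1 D43550 (iv D31667) (iv F126763)
def n43551 : Q := act 3 n29875
theorem D43551 : act 3 n29875 = n43551 := rfl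
theorem F181928 : act 0 n43551 = n29921 := d2_1 D43551 (iv D29921) (iv F126764)
theorem F181931 : act 8 n43551 = n29885 := d28_2 D29875 D43551 (iv D29885) (iv D20527) (iv F88529)
def n43552 : Q := act 9 n29875
theorem D43552 : act 9 n29875 = n43552 := rfl
theorem F181932 : act 0 n43552 = n29922 := d8_1 D43552 (iv D29922) (iv F126764)
theorem F181933 : act 4 n43552 = n43552 := d34_1 D43552 (iv D43552) F126765
theorem F181934 : act 6 n43552 = n43552 := d41_1 D43552 (iv D43552) F126766
theorem F181935 : act 7 n43552 = n29877 := d43_1 D43552 (iv D29877) (iv F126767)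
def n43553 : Q := act 2 n29876
theorem D43553 : act 2 n29876 = n43553 := rfl
theorem F181936 : act 0 n43553 = n29923 := d1_1 D43553 (iv D29923) (iv F126768)
theorem F181938 : act 8 n43553 = n29887 := d22_2 (iv F126770) D43553 (iv D29887)
def n43555 : Q := act 9 n29876
theorem D43555 : act 9 n29876 = n43555 := rfl
theorem F181944 : act 3 n43555 = n29877 := d29_1 D43555 (iv D29877) D29876
theorem F181945 : act 6 n43555 = n29880 := d41_1 D43555 (iv D29880) (iv F126769)
def n43560 : Q := act 8 n29880
theorem D43560 : act 8 n29880 = n43560 := rfl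
theorem F181966 : act 9 n43560 = n29894 := d44_2 D29880 D43560 (iv D29894) (iv D20532) (iv F88538)
def n43561 : Q := act 8 n29881
theorem D43561 : act 8 n29881 = n43561 := rfl
theorem F181967 : act 0 n43561 = n29931 := d7_1 D43561 (iv D29931) (iv F126787)
theorem F181968 : act 2 n43561 = n29901 := d22_1 D43561 (iv D29901) (iv F126788)
theorem F181971 : act 6 n43561 = n29882 := d40_1 D43561 (iv D29882) D29881
def n43562 : Q := act 3 n29882
theorem D43562 : act 3 n29882 = n43562 := rfl
theorem F181973 : act 0 n43562 = n29932 := d2_1 D43562 (iv D29932) (iv F126792)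
theorem F181974 : act 5 n43562 = n29885 := d25_2 (iv F126795) D43562 (iv D29885)
def n43563 : Q := act 9 n29882
theorem D43563 : act 9 n29882 = n43563 := rfl
theorem F181979 : act 5 n43563 = n29886 := d38_1 D43563 (iv D29886) (iv F126795)
def n43567 : Q := act 2 n29885
theorem D43567 : act 2 n29885 = n43567 := rfl
theorem F181992 : act 0 n43567 = n29937 := d1_1 D43567 (iv D29937) (iv F126805)
theorem F181993 : act 3 n43567 = n29907 := d17_2 D29885 D43567 (iv D29907) (iv D20543) (iv F88553)
def n43569 : Q := act 9 n29885
theorem D43569 : act 9 n29885 = n43569 := rfl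
theorem F182001 : act 3 n43569 = n29886 := d29_1 D43569 (iv D29886) D29885
def n43572 : Q := act 9 n29887
theorem D43572 : act 9 n29887 = n43572 := rfl
theorem F182011 : act 2 n43572 = n29889 := d23_1 D43572 (iv D29889) D29887
def n43588 : Q := act 3 n29901
theorem D43588 : act 3 n29901 = n43588 := rfl
theorem F182079 : act 0 n43588 = n29958 := d2_1 D43588 (iv D29958) (iv F126874)
theorem F182080 : act 1 n43588 = n43588 := d10_1 D43588 (iv D43588) F126875
theorem F182081 : act 5 n43588 = n43588 := d25_2 F126877 D43588 (iv D43588)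
theorem F182082 : act 6 n43588 = n29902 := d26_2 (iv F126878) D43588 (iv D29902)
theorem F182083 : act 7 n43588 = n31689 := d27_2 (iv F126879) D43588 (iv D31689)
def n43590 : Q := act 2 n29902
theorem D43590 : act 2 n29902 = n43590 := rfl
theorem F182090 : act 0 n43590 = n29960 := d1_1 D43590 (iv D29960) (iv F126880)
theorem F182091 : act 5 n43590 = n29907 := d19_2 (iv F126882) D43590 (iv D29907)
theorem F182092 : act 7 n43590 = n29904 := d21_2 (iv F126883) D43590 (iv D29904)
def n43591 : Q := act 4 n29902
theorem D43591 : act 4 n29902 = n43591 := rfl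
theorem F182093 : act 0 n43591 = n29961 := d3_1 D43591 (iv D29961) (iv F126880)
theorem F182094 : act 1 n43591 = n43591 := d11_1 D43591 (iv D43591) F126881
theorem F182095 : act 3 n43591 = n43591 := d24_1 D43591 (iv D43591) (iv D29902) F88612 D29902
theorem F182096 : act 5 n43591 = n43591 := d30_2 (iv F126882) D43591 (iv D43591) F126882 F88626
theorem F182097 : act 7 n43591 = n29905 := d32_2 (iv F126883) D43591 (iv D29905)
def n43592 : Q := act 9 n29902
theorem D43592 : act 9 n29902 = n43592 := rfl
theorem F182100 : act 3 n43592 = n29903 := d29_1 D43592 (iv D29903) D29902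
def n43593 : Q := act 1 n29904
theorem D43593 : act 1 n29904 = n43593 := rfl
theorem F182103 : act 2 n43593 = n43593 := d9_2 D29904 D43593 (iv D43593) (iv D29904) F88616
theorem F182104 : act 5 n43593 = n29909 := d12_2 (iv F126890) D43593 (iv D29909)
theorem F182105 : act 6 n43593 = n31694 := d13_2 (iv F126891) D43593 (iv D31694)
def n43594 : Q := act 4 n29904
theorem D43594 : act 4 n29904 = n43594 := rfl
theorem F182106 : act 0 n43594 = n29964 := d3_1 D43594 (iv D29964) (iv F126889)
theorem F182107 : act 2 n43594 = n29905 := d18_1 D43594 (iv D29905) D29904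
theorem F182108 : act 5 n43594 = n43594 := d30_2 (iv F126890) D43594 (iv D43594) F126890 F88635
theorem F182109 : act 6 n43594 = n31695 := d31_2 (iv F126891) D43594 (iv D31695)
def n43598 : Q := act 1 n29907
theorem D43598 : act 1 n29907 = n43598 := rfl
def n43599 : Q := act 9 n29907
theorem D43599 : act 9 n29907 = n43599 := rfl
theorem F182129 : act 2 n43599 = n29908 := d23_1 D43599 (iv D29908) D29907
def n43600 : Q := act 8 n29908
theorem D43600 : act 8 n29908 = n43600 := rfl
theorem F182133 : act 0 n43600 = n29970 := d7_1 D43600 (iv D29970) (iv F126906)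
def n43601 : Q := act 0 n29909
theorem D43601 : act 0 n29909 = n43601 := rfl
theorem F182138 : act 1 n43601 = n29971 := d0_2 D29909 D43601 (iv D29971) (iv D20587) (iv F88634)
theorem F182139 : act 2 n43601 = n43601 := d1_2 F126912 D43601 (iv D43601)
theorem F182140 : act 4 n43601 = n43601 := d3_2 F126913 D43601 (iv D43601)
theorem F182141 : act 6 n43601 = n29912 := d5_2 (iv F126914) D43601 (iv D29912)
def n43606 : Q := act 3 n29914
theorem D43606 : act 3 n29914 = n43606 := rfl
theorem F182161 : act 0 n43606 = n29976 := d2_1 D43606 (iv D29976) (iv F126933)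
def n43607 : Q := act 6 n29915
theorem D43607 : act 6 n29915 = n43607 := rfl
theorem F182164 : act 1 n43607 = n43607 := d13_1 D43607 (iv D43607) F126938
theorem F182165 : act 3 n43607 = n43607 := d26_1 D43607 (iv D43607) F126939
theorem F182166 : act 4 n43607 = n29917 := d31_1 D43607 (iv D29917) (iv F126940)
theorem F182167 : act 7 n43607 = n31708 := d39_2 D29915 D43607 (iv D31708) (iv D21759) (iv F88659)
def n43608 : Q := act 8 n29915
theorem D43608 : act 8 n29915 = n43608 := rfl
theorem F182168 : act 1 n43608 = n43608 := d15_1 D43608 (iv D43608) F126938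
theorem F182169 : act 4 n43608 = n29918 := d33_1 D43608 (iv D29918) (iv F126940)
theorem F182170 : act 5 n43608 = n43608 := d37_1 D43608 (iv D43608) F126941
theorem F182171 : act 7 n43608 = n29916 := d42_1 D43608 (iv D29916) D29915
def n43609 : Q := act 3 n29916
theorem D43609 : act 3 n29916 = n43609 := rfl
theorem F182172 : act 1 n43609 = n43609 := d10_1 D43609 (iv D43609) F126942
theorem F182173 : act 5 n43609 = n43609 := d25_2 F126944 D43609 (iv D43609)
theorem F182174 : act 6 n43609 = n31710 := d26_2 (iv F126945) D43609 (iv D31710)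
theorem F182175 : act 8 n43609 = n43609 := d28_2 D29916 D43609 (iv D43609) (iv D29916) F88657
def n43610 : Q := act 9 n29916
theorem D43610 : act 9 n29916 = n43610 := rfl
theorem F182176 : act 1 n43610 = n43610 := d16_1 D43610 (iv D43610) F126942
theorem F182177 : act 4 n43610 = n29920 := d34_1 D43610 (iv D29920) (iv F126943)
theorem F182178 : act 5 n43610 = n43610 := d38_1 D43610 (iv D43610) F126944
theorem F182179 : act 6 n43610 = n31711 := d41_1 D43610 (iv D31711) (iv F126945)
def n43611 : Q := act 8 n29917
theorem D43611 : act 8 n29917 = n43611 := rfl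
theorem F182180 : act 1 n43611 = n43611 := d15_1 D43611 (iv D43611) F126946
theorem F182181 : act 5 n43611 = n43611 := d37_1 D43611 (iv D43611) F126948
theorem F182182 : act 6 n43611 = n29918 := d40_1 D43611 (iv D29918) D29917
theorem F182183 : act 7 n43611 = n31712 := d42_1 D43611 (iv D31712) (iv F126949)
def n43612 : Q := act 3 n29918
theorem D43612 : act 3 n29918 = n43612 := rfl
theorem F182184 : act 1 n43612 = n43612 := d10_1 D43612 (iv D43612) F126950
theorem F182185 : act 5 n43612 = n29921 := d25_2 (iv F126951) D43612 (iv D29921)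
theorem F182186 : act 7 n43612 = n29919 := d27_2 (iv F126952) D43612 (iv D29919)
theorem F182187 : act 8 n43612 = n29932 := d28_2 D29918 D43612 (iv D29932) (iv D20560) (iv F88661)
def n43613 : Q := act 9 n29918
theorem D43613 : act 9 n29918 = n43613 := rfl
theorem F182188 : act 1 n43613 = n43613 := d16_1 D43613 (iv D43613) F126950
theorem F182189 : act 5 n43613 = n29922 := d38_1 D43613 (iv D29922) (iv F126951)
theorem F182190 : act 7 n43613 = n29920 := d43_1 D43613 (iv D29920) (iv F126952)
def n43614 : Q := act 2 n29919
theorem D43614 : act 2 n29919 = n43614 := rfl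
theorem F182191 : act 5 n43614 = n29923 := d19_2 (iv F126954) D43614 (iv D29923)
theorem F182192 : act 6 n43614 = n31715 := d20_2 (iv F126955) D43614 (iv D31715)
theorem F182193 : act 8 n43614 = n29934 := d22_2 (iv F126956) D43614 (iv D29934)
def n43615 : Q := act 4 n29919
theorem D43615 : act 4 n29919 = n43615 := rfl
theorem F182194 : act 1 n43615 = n43615 := d11_1 D43615 (iv D43615) F126953
theorem F182195 : act 6 n43615 = n31716 := d31_2 (iv F126955) D43615 (iv D31716)
theorem F182196 : act 8 n43615 = n29935 := d33_2 (iv F126956) D43615 (iv D29935)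
def n43616 : Q := act 9 n29919
theorem D43616 : act 9 n29919 = n43616 := rfl
theorem F182197 : act 1 n43616 = n43616 := d16_1 D43616 (iv D43616) F126953
theorem F182198 : act 3 n43616 = n29920 := d29_1 D43616 (iv D29920) D29919
theorem F182199 : act 5 n43616 = n29925 := d38_1 D43616 (iv D29925) (iv F126954)
theorem F182200 : act 6 n43616 = n31717 := d41_1 D43616 (iv D31717) (iv F126955)
def n43617 : Q := act 2 n29921
theorem D43617 : act 2 n29921 = n43617 := rfl
theorem F182201 : act 6 n43617 = n43617 := d20_2 F126961 D43617 (iv D43617)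
theorem F182202 : act 7 n43617 = n29923 := d21_2 (iv F126962) D43617 (iv D29923)
theorem F182203 : act 8 n43617 = n29937 := d22_2 (iv F126963) D43617 (iv D29937)
def n43618 : Q := act 4 n29921
theorem D43618 : act 4 n29921 = n43618 := rfl
theorem F182208 : act 8 n43618 = n29938 := d33_2 (iv F126963) D43618 (iv D29938)
def n43619 : Q := act 9 n29921
theorem D43619 : act 9 n29921 = n43619 := rfl
theorem F182209 : act 1 n43619 = n43619 := d16_1 D43619 (iv D43619) F126960
theorem F182210 : act 3 n43619 = n29922 := d29_1 D43619 (iv D29922) D29921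
theorem F182211 : act 6 n43619 = n43619 := d41_1 D43619 (iv D43619) F126961
theorem F182212 : act 7 n43619 = n29925 := d43_1 D43619 (iv D29925) (iv F126962)
def n43620 : Q := act 1 n29923
theorem D43620 : act 1 n29923 = n43620 := rfl
theorem F182213 : act 2 n43620 = n43620 := d9_2 D29923 D43620 (iv D43620) (iv D29923) F88670
theorem F182214 : act 6 n43620 = n29926 := d13_2 (iv F126968) D43620 (iv D29926)
theorem F182215 : act 8 n43620 = n29940 := d15_2 (iv F126969) D43620 (iv D29940)
def n43621 : Q := act 4 n29923
theorem D43621 : act 4 n29923 = n43621 := rfl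
def n43622 : Q := act 9 n29923
theorem D43622 : act 9 n29923 = n43622 := rfl
theorem F182219 : act 2 n43622 = n29925 := d23_1 D43622 (iv D29925) D29923
theorem F182220 : act 6 n43622 = n29928 := d41_1 D43622 (iv D29928) (iv F126968)
def n43624 : Q := act 9 n29924
theorem D43624 : act 9 n29924 = n43624 := rfl
theorem F182227 : act 4 n43624 = n29925 := d34_1 D43624 (iv D29925) D29924
def n43625 : Q := act 8 n29925
theorem D43625 : act 8 n29925 = n43625 := rfl
theorem F182231 : act 9 n43625 = n29945 := d44_2 D29925 D43625 (iv D29945) (iv D20567) (iv F88672)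
def n43626 : Q := act 0 n29926
theorem D43626 : act 0 n29926 = n43626 := rfl
theorem F182232 : act 2 n43626 = n43626 := d1_2 F126977 D43626 (iv D43626)
theorem F182233 : act 5 n43626 = n31723 := d4_2 (iv F126978) D43626 (iv D31723)
theorem F182234 : act 7 n43626 = n43626 := d6_2 F126979 D43626 (iv D43626)
theorem F182235 : act 8 n43626 = n29946 := d7_2 (iv F126980) D43626 (iv D29946)
def n43627 : Q := act 4 n29926
theorem D43627 : act 4 n29926 = n43627 := rfl
def n43628 : Q := act 9 n29926
theorem D43628 : act 9 n29926 = n43628 := rfl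
theorem F182241 : act 1 n43628 = n29928 := d16_1 D43628 (iv D29928) D29926
theorem F182242 : act 2 n43628 = n43628 := d23_1 D43628 (iv D43628) F126977
theorem F182243 : act 5 n43628 = n31724 := d38_1 D43628 (iv D31724) (iv F126978)
theorem F182244 : act 7 n43628 = n43628 := d43_1 D43628 (iv D43628) F126979
def n43630 : Q := act 9 n29927
theorem D43630 : act 9 n29927 = n43630 := rfl
theorem F182250 : act 4 n43630 = n29928 := d34_1 D43630 (iv D29928) D29927
def n43631 : Q := act 8 n29928
theorem D43631 : act 8 n29928 = n43631 := rfl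
theorem F182256 : act 9 n43631 = n29950 := d44_2 D29928 D43631 (iv D29950) (iv D20570) (iv F88678)
def n43632 : Q := act 8 n29929
theorem D43632 : act 8 n29929 = n43632 := rfl
theorem F182261 : act 9 n43632 = n29951 := d44_2 D29929 D43632 (iv D29951) (iv D20571) (iv F88683)
def n43633 : Q := act 3 n29931
theorem D43633 : act 3 n29931 = n43633 := rfl
theorem F182262 : act 1 n43633 = n43633 := d10_1 D43633 (iv D43633) F126997
theorem F182263 : act 5 n43633 = n43633 := d25_2 F127000 D43633 (iv D43633)
theorem F182264 : act 6 n43633 = n29932 := d26_2 (iv F127001) D43633 (iv D29932)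
theorem F182265 : act 7 n43633 = n31726 := d27_2 (iv F127002) D43633 (iv D31726)
def n43634 : Q := act 9 n29931
theorem D43634 : act 9 n29931 = n43634 := rfl
theorem F182270 : act 6 n43634 = n29933 := d41_1 D43634 (iv D29933) (iv F127001)
theorem F182271 : act 7 n43634 = n31727 := d43_1 D43634 (iv D31727) (iv F127002)
def n43635 : Q := act 2 n29932
theorem D43635 : act 2 n29932 = n43635 := rfl
theorem F182272 : act 3 n43635 = n29960 := d17_2 D29932 D43635 (iv D29960) (iv D20580) (iv F88694)
theorem F182273 : act 5 n43635 = n29937 := d19_2 (iv F127004) D43635 (iv D29937)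
theorem F182274 : act 7 n43635 = n29934 := d21_2 (iv F127005) D43635 (iv D29934)
def n43636 : Q := act 4 n29932
theorem D43636 : act 4 n29932 = n43636 := rfl
theorem F182277 : act 7 n43636 = n29935 := d32_2 (iv F127005) D43636 (iv D29935)
def n43637 : Q := act 9 n29932
theorem D43637 : act 9 n29932 = n43637 := rfl
theorem F182279 : act 3 n43637 = n29933 := d29_1 D43637 (iv D29933) D29932
def n43638 : Q := act 1 n29934
theorem D43638 : act 1 n29934 = n43638 := rfl
theorem F182282 : act 2 n43638 = n43638 := d9_2 D29934 D43638 (iv D43638) (iv D29934) F88698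
theorem F182283 : act 3 n43638 = n29963 := d10_2 (iv F127011) D43638 (iv D29963)
theorem F182284 : act 5 n43638 = n29940 := d12_2 (iv F127012) D43638 (iv D29940)
theorem F182285 : act 6 n43638 = n31731 := d13_2 (iv F127013) D43638 (iv D31731)
def n43639 : Q := act 4 n29934
theorem D43639 : act 4 n29934 = n43639 := rfl
theorem F182286 : act 2 n43639 = n29935 := d18_1 D43639 (iv D29935) D29934
theorem F182287 : act 6 n43639 = n31732 := d31_2 (iv F127013) D43639 (iv D31732)
def n43640 : Q := act 9 n29934
theorem D43640 : act 9 n29934 = n43640 := rfl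
theorem F182290 : act 5 n43640 = n29942 := d38_1 D43640 (iv D29942) (iv F127012)
theorem F182291 : act 6 n43640 = n31733 := d41_1 D43640 (iv D31733) (iv F127013)
def n43641 : Q := act 5 n29935
theorem D43641 : act 5 n29935 = n43641 := rfl
theorem F182294 : act 4 n43641 = n29943 := d30_1 D43641 (iv D29943) (iv D20566) (iv F88699) D29935
def n43642 : Q := act 9 n29935
theorem D43642 : act 9 n29935 = n43642 := rfl
theorem F182298 : act 4 n43642 = n29936 := d34_1 D43642 (iv D29936) D29935
def n43643 : Q := act 8 n29936
theorem D43643 : act 8 n29936 = n43643 := rfl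
theorem F182301 : act 5 n43643 = n29945 := d37_1 D43643 (iv D29945) (iv F127019)
theorem F182302 : act 6 n43643 = n31735 := d40_1 D43643 (iv D31735) (iv F127020)
def n43644 : Q := act 1 n29937
theorem D43644 : act 1 n29937 = n43644 := rfl
theorem F182303 : act 2 n43644 = n43644 := d9_2 D29937 D43644 (iv D43644) (iv D29937) F88706
theorem F182304 : act 3 n43644 = n29968 := d10_2 (iv F127021) D43644 (iv D29968)
theorem F182305 : act 6 n43644 = n43644 := d13_2 F127022 D43644 (iv D43644)
theorem F182306 : act 7 n43644 = n29940 := d14_2 (iv F127023) D43644 (iv D29940)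
def n43645 : Q := act 4 n29937
theorem D43645 : act 4 n29937 = n43645 := rfl
def n43646 : Q := act 9 n29937
theorem D43646 : act 9 n29937 = n43646 := rfl
theorem F182311 : act 2 n43646 = n29939 := d23_1 D43646 (iv D29939) D29937
def n43648 : Q := act 9 n29938
theorem D43648 : act 9 n29938 = n43648 := rfl
theorem F182320 : act 4 n43648 = n29939 := d34_1 D43648 (iv D29939) D29938
def n43650 : Q := act 0 n29940
theorem D43650 : act 0 n29940 = n43650 := rfl
theorem F182326 : act 2 n43650 = n43650 := d1_2 F127032 D43650 (iv D43650)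
theorem F182327 : act 3 n43650 = n29971 := d2_2 (iv F127033) D43650 (iv D29971)
theorem F182328 : act 6 n43650 = n29946 := d5_2 (iv F127034) D43650 (iv D29946)
def n43651 : Q := act 4 n29940
theorem D43651 : act 4 n29940 = n43651 := rfl
theorem F182329 : act 1 n43651 = n29941 := d11_1 D43651 (iv D29941) D29940
def n43652 : Q := act 9 n29940
theorem D43652 : act 9 n29940 = n43652 := rfl
theorem F182333 : act 1 n43652 = n29942 := d16_1 D43652 (iv D29942) D29940
theorem F182335 : act 3 n43652 = n29972 := d29_1 D43652 (iv D29972) (iv F127033)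
def n43654 : Q := act 9 n29941
theorem D43654 : act 9 n29941 = n43654 := rfl
theorem F182340 : act 2 n43654 = n29944 := d23_1 D43654 (iv D29944) (iv F127035)
def n43655 : Q := act 8 n29942
theorem D43655 : act 8 n29942 = n43655 := rfl
theorem F182344 : act 2 n43655 = n29945 := d22_1 D43655 (iv D29945) (iv F127038)
def n43656 : Q := act 9 n29943
theorem D43656 : act 9 n29943 = n43656 := rfl
theorem F182348 : act 5 n43656 = n29944 := d38_1 D43656 (iv D29944) D29943
def n43657 : Q := act 8 n29944
theorem D43657 : act 8 n29944 = n43657 := rfl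
theorem F182352 : act 6 n43657 = n29951 := d40_1 D43657 (iv D29951) (iv F127047)
def n43658 : Q := act 4 n29946
theorem D43658 : act 4 n29946 = n43658 := rfl
def n43659 : Q := act 9 n29946
theorem D43659 : act 9 n29946 = n43659 := rfl
theorem F182358 : act 0 n43659 = n29948 := d8_1 D43659 (iv D29948) D29946
def n43660 : Q := act 9 n29947
theorem D43660 : act 9 n29947 = n43660 := rfl
theorem F182366 : act 4 n43660 = n29948 := d34_1 D43660 (iv D29948) D29947
def n43663 : Q := act 3 n29950
theorem D43663 : act 3 n29950 = n43663 := rfl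
theorem F182379 : act 8 n43663 = n29976 := d28_2 D29950 D43663 (iv D29976) (iv D20592) (iv F88731)
def n43671 : Q := act 2 n29958
theorem D43671 : act 2 n29958 = n43671 := rfl
theorem F182414 : act 5 n43671 = n43671 := d19_2 F127107 D43671 (iv D43671)
theorem F182415 : act 6 n43671 = n29960 := d20_2 (iv F127108) D43671 (iv D29960)
theorem F182416 : act 7 n43671 = n31745 := d21_2 (iv F127109) D43671 (iv D31745)
def n43672 : Q := act 4 n29958
theorem D43672 : act 4 n29958 = n43672 := rfl
theorem F182417 : act 1 n43672 = n29978 := d11_1 D43672 (iv D29978) (iv F127106)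
theorem F182418 : act 3 n43672 = n43672 := d24_1 D43672 (iv D43672) (iv D29958) F88774 D29958
theorem F182419 : act 6 n43672 = n29961 := d31_2 (iv F127108) D43672 (iv D29961)
theorem F182420 : act 7 n43672 = n31746 := d32_2 (iv F127109) D43672 (iv D31746)
def n43673 : Q := act 9 n29958
theorem D43673 : act 9 n29958 = n43673 := rfl
theorem F182421 : act 1 n43673 = n29979 := d16_1 D43673 (iv D29979) (iv F127106)
theorem F182422 : act 3 n43673 = n29959 := d29_1 D43673 (iv D29959) D29958
theorem F182423 : act 5 n43673 = n43673 := d38_1 D43673 (iv D43673) F127107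
theorem F182424 : act 6 n43673 = n29962 := d41_1 D43673 (iv D29962) (iv F127108)
theorem F182425 : act 7 n43673 = n31747 := d43_1 D43673 (iv D31747) (iv F127109)
def n43674 : Q := act 1 n29960
theorem D43674 : act 1 n29960 = n43674 := rfl
theorem F182426 : act 2 n43674 = n29980 := d9_2 D29960 D43674 (iv D29980) (iv D20595) (iv F88778)
theorem F182427 : act 5 n43674 = n29968 := d12_2 (iv F127115) D43674 (iv D29968)
theorem F182428 : act 7 n43674 = n29963 := d14_2 (iv F127116) D43674 (iv D29963)
def n43675 : Q := act 4 n29960
theorem D43675 : act 4 n29960 = n43675 := rfl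
theorem F182429 : act 2 n43675 = n29961 := d18_1 D43675 (iv D29961) D29960
theorem F182430 : act 5 n43675 = n43675 := d30_2 (iv F127115) D43675 (iv D43675) F127115 F88795
theorem F182431 : act 7 n43675 = n29964 := d32_2 (iv F127116) D43675 (iv D29964)
def n43676 : Q := act 9 n29960
theorem D43676 : act 9 n29960 = n43676 := rfl
theorem F182432 : act 2 n43676 = n29962 := d23_1 D43676 (iv D29962) D29960
theorem F182433 : act 5 n43676 = n29969 := d38_1 D43676 (iv D29969) (iv F127115)
theorem F182434 : act 7 n43676 = n29965 := d43_1 D43676 (iv D29965) (iv F127116)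
def n43677 : Q := act 9 n29961
theorem D43677 : act 9 n29961 = n43677 := rfl
theorem F182435 : act 1 n43677 = n29983 := d16_1 D43677 (iv D29983) (iv F127117)
theorem F182436 : act 3 n43677 = n43677 := d29_1 D43677 (iv D43677) F127118
theorem F182437 : act 4 n43677 = n29962 := d34_1 D43677 (iv D29962) D29961
theorem F182438 : act 5 n43677 = n43677 := d38_1 D43677 (iv D43677) F127119
theorem F182439 : act 7 n43677 = n29966 := d43_1 D43677 (iv D29966) (iv F127120)
def n43678 : Q := act 8 n29962
theorem D43678 : act 8 n29962 = n43678 := rfl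
theorem F182440 : act 1 n43678 = n29984 := d15_1 D43678 (iv D29984) (iv F127121)
theorem F182441 : act 5 n43678 = n29970 := d37_1 D43678 (iv D29970) (iv F127123)
theorem F182442 : act 7 n43678 = n29967 := d42_1 D43678 (iv D29967) (iv F127124)
def n43679 : Q := act 0 n29963
theorem D43679 : act 0 n29963 = n43679 := rfl
theorem F182443 : act 2 n43679 = n29985 := d1_2 (iv F127125) D43679 (iv D29985)
theorem F182444 : act 5 n43679 = n29971 := d4_2 (iv F127126) D43679 (iv D29971)
theorem F182445 : act 6 n43679 = n31753 := d5_2 (iv F127127) D43679 (iv D31753)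
def n43680 : Q := act 4 n29963
theorem D43680 : act 4 n29963 = n43680 := rfl
theorem F182446 : act 1 n43680 = n29964 := d11_1 D43680 (iv D29964) D29963
theorem F182447 : act 2 n43680 = n29986 := d18_1 D43680 (iv D29986) (iv F127125)
theorem F182448 : act 5 n43680 = n43680 := d30_2 (iv F127126) D43680 (iv D43680) F127126 F88804
def n43681 : Q := act 9 n29963
theorem D43681 : act 9 n29963 = n43681 := rfl
theorem F182450 : act 1 n43681 = n29965 := d16_1 D43681 (iv D29965) D29963
theorem F182451 : act 2 n43681 = n29987 := d23_1 D43681 (iv D29987) (iv F127125)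
theorem F182452 : act 5 n43681 = n29972 := d38_1 D43681 (iv D29972) (iv F127126)
def n43682 : Q := act 3 n29964
theorem D43682 : act 3 n29964 = n43682 := rfl
theorem F182454 : act 2 n43682 = n43682 := d17_1 D43682 (iv D43682) F127128 F88788 (iv F127128)
theorem F182455 : act 5 n43682 = n43682 := d25_2 F127129 D43682 (iv D43682)
theorem F182456 : act 6 n43682 = n31756 := d26_2 (iv F127130) D43682 (iv D31756)
def n43683 : Q := act 9 n29964
theorem D43683 : act 9 n29964 = n43683 := rfl
theorem F182457 : act 2 n43683 = n29966 := d23_1 D43683 (iv D29966) (iv F127128)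
theorem F182458 : act 4 n43683 = n29965 := d34_1 D43683 (iv D29965) D29964
theorem F182459 : act 5 n43683 = n43683 := d38_1 D43683 (iv D43683) F127129
theorem F182460 : act 6 n43683 = n31757 := d41_1 D43683 (iv D31757) (iv F127130)
def n43684 : Q := act 8 n29965
theorem D43684 : act 8 n29965 = n43684 := rfl
theorem F182461 : act 2 n43684 = n29967 := d22_1 D43684 (iv D29967) (iv F127131)
theorem F182462 : act 5 n43684 = n29973 := d37_1 D43684 (iv D29973) (iv F127132)
theorem F182463 : act 6 n43684 = n31758 := d40_1 D43684 (iv D31758) (iv F127133)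
def n43685 : Q := act 8 n29966
theorem D43685 : act 8 n29966 = n43685 := rfl
theorem F182464 : act 1 n43685 = n29991 := d15_1 D43685 (iv D29991) (iv F127134)
theorem F182465 : act 4 n43685 = n29967 := d33_1 D43685 (iv D29967) (iv F127136)
theorem F182466 : act 5 n43685 = n43685 := d37_1 D43685 (iv D43685) F127137
theorem F182467 : act 6 n43685 = n31759 := d40_1 D43685 (iv D31759) (iv F127138)
def n43686 : Q := act 0 n29968
theorem D43686 : act 0 n29968 = n43686 := rfl
theorem F182468 : act 2 n43686 = n29992 := d1_2 (iv F127142) D43686 (iv D29992)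
theorem F182469 : act 4 n43686 = n43686 := d3_2 F127143 D43686 (iv D43686)
theorem F182470 : act 6 n43686 = n43686 := d5_2 F127144 D43686 (iv D43686)
theorem F182471 : act 7 n43686 = n29971 := d6_2 (iv F127145) D43686 (iv D29971)
def n43687 : Q := act 9 n29968
theorem D43687 : act 9 n29968 = n43687 := rfl
theorem F182472 : act 1 n43687 = n29969 := d16_1 D43687 (iv D29969) D29968
theorem F182473 : act 2 n43687 = n29993 := d23_1 D43687 (iv D29993) (iv F127142)
theorem F182474 : act 4 n43687 = n43687 := d34_1 D43687 (iv D43687) F127143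
theorem F182475 : act 6 n43687 = n43687 := d41_1 D43687 (iv D43687) F127144
theorem F182476 : act 7 n43687 = n29972 := d43_1 D43687 (iv D29972) (iv F127145)
def n43688 : Q := act 8 n29969
theorem D43688 : act 8 n29969 = n43688 := rfl
theorem F182477 : act 2 n43688 = n29970 := d22_1 D43688 (iv D29970) (iv F127146)
theorem F182478 : act 4 n43688 = n43688 := d33_1 D43688 (iv D43688) F127147
theorem F182479 : act 6 n43688 = n43688 := d40_1 D43688 (iv D43688) F127148
theorem F182480 : act 7 n43688 = n29973 := d42_1 D43688 (iv D29973) (iv F127149)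
def n43689 : Q := act 9 n29971
theorem D43689 : act 9 n29971 = n43689 := rfl
theorem F182481 : act 0 n43689 = n29972 := d8_1 D43689 (iv D29972) D29971
theorem F182482 : act 2 n43689 = n29995 := d23_1 D43689 (iv D29995) (iv F127154)
theorem F182483 : act 4 n43689 = n43689 := d34_1 D43689 (iv D43689) F127155
theorem F182484 : act 6 n43689 = n29974 := d41_1 D43689 (iv D29974) (iv F127156)
def n43690 : Q := act 8 n29972
theorem D43690 : act 8 n29972 = n43690 := rfl
theorem F182485 : act 1 n43690 = n29973 := d15_1 D43690 (iv D29973) (iv F127157)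
theorem F182486 : act 2 n43690 = n29996 := d22_1 D43690 (iv D29996) (iv F127158)
theorem F182487 : act 4 n43690 = n43690 := d33_1 D43690 (iv D43690) F127159
theorem F182488 : act 6 n43690 = n29975 := d40_1 D43690 (iv D29975) (iv F127160)
def n43691 : Q := act 3 n29973
theorem D43691 : act 3 n29973 = n43691 := rfl
theorem F182489 : act 6 n43691 = n29976 := d26_2 (iv F127163) D43691 (iv D29976)
def n43692 : Q := act 8 n29974
theorem D43692 : act 8 n29974 = n43692 := rfl
theorem F182490 : act 0 n43692 = n29975 := d7_1 D43692 (iv D29975) (iv F127164)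
theorem F182491 : act 2 n43692 = n29998 := d22_1 D43692 (iv D29998) (iv F127165)
theorem F182492 : act 4 n43692 = n43692 := d33_1 D43692 (iv D43692) F127166
theorem F182493 : act 5 n43692 = n31766 := d37_1 D43692 (iv D31766) (iv F127167)
theorem F182494 : act 7 n43692 = n43692 := d42_1 D43692 (iv D43692) F127168
def n43693 : Q := act 3 n29975
theorem D43693 : act 3 n29975 = n43693 := rfl
theorem F182495 : act 1 n43693 = n29976 := d10_1 D43693 (iv D29976) (iv F127169)
theorem F182496 : act 5 n43693 = n31767 := d25_2 (iv F127172) D43693 (iv D31767)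
theorem F182497 : act 7 n43693 = n43693 := d27_2 F127173 D43693 (iv D43693)
def n43694 : Q := act 4 n29976
theorem D43694 : act 4 n29976 = n43694 := rfl
theorem F182498 : act 3 n43694 = n43694 := d24_1 D43694 (iv D43694) (iv D29976) F88822 D29976
theorem F182499 : act 7 n43694 = n43694 := d32_2 F127175 D43694 (iv D43694)
def n43695 : Q := act 1 n29977
theorem D43695 : act 1 n29977 = n43695 := rfl
theorem F182502 : act 6 n43695 = n29980 := d13_2 (iv F127179) D43695 (iv D29980)
theorem F182503 : act 7 n43695 = n31769 := d14_2 (iv F127180) D43695 (iv D31769)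
def n43696 : Q := act 4 n29977
theorem D43696 : act 4 n29977 = n43696 := rfl
theorem F182507 : act 7 n43696 = n31770 := d32_2 (iv F127180) D43696 (iv D31770)
def n43697 : Q := act 9 n29977
theorem D43697 : act 9 n29977 = n43697 := rfl
def n43698 : Q := act 5 n29978
theorem D43698 : act 5 n29978 = n43698 := rfl
theorem F182518 : act 7 n43698 = n31772 := d36_2 (iv F127184) D43698 (iv D31772)
def n43700 : Q := act 8 n29979
theorem D43700 : act 8 n29979 = n43700 := rfl
theorem F182526 : act 6 n43700 = n29984 := d40_1 D43700 (iv D29984) (iv F127188)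
def n43701 : Q := act 0 n29980
theorem D43701 : act 0 n29980 = n43701 := rfl
theorem F182528 : act 1 n43701 = n43701 := d0_2 D29980 D43701 (iv D43701) (iv D29980) F88835
theorem F182529 : act 3 n43701 = n43701 := d2_2 F127190 D43701 (iv D43701)
theorem F182530 : act 5 n43701 = n29992 := d4_2 (iv F127191) D43701 (iv D29992)
theorem F182531 : act 7 n43701 = n29985 := d6_2 (iv F127192) D43701 (iv D29985)
def n43702 : Q := act 4 n29980
theorem D43702 : act 4 n29980 = n43702 := rfl
theorem F182534 : act 7 n43702 = n29986 := d32_2 (iv F127192) D43702 (iv D29986)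
def n43703 : Q := act 9 n29980
theorem D43703 : act 9 n29980 = n43703 := rfl
theorem F182537 : act 5 n43703 = n29993 := d38_1 D43703 (iv D29993) (iv F127191)
theorem F182538 : act 7 n43703 = n29987 := d43_1 D43703 (iv D29987) (iv F127192)
def n43705 : Q := act 9 n29981
theorem D43705 : act 9 n29981 = n43705 := rfl
theorem F182548 : act 7 n43705 = n29989 := d43_1 D43705 (iv D29989) (iv F127196)
def n43706 : Q := act 8 n29982
theorem D43706 : act 8 n29982 = n43706 := rfl
theorem F182550 : act 2 n43706 = n29984 := d22_1 D43706 (iv D29984) (iv F127198)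
theorem F182551 : act 5 n43706 = n29994 := d37_1 D43706 (iv D29994) (iv F127200)
theorem F182552 : act 7 n43706 = n29990 := d42_1 D43706 (iv D29990) (iv F127201)
def n43707 : Q := act 8 n29983
theorem D43707 : act 8 n29983 = n43707 := rfl
theorem F182554 : act 4 n43707 = n29984 := d33_1 D43707 (iv D29984) (iv F127204)
theorem F182556 : act 7 n43707 = n29991 := d42_1 D43707 (iv D29991) (iv F127206)
def n43708 : Q := act 4 n29985
theorem D43708 : act 4 n29985 = n43708 := rfl
theorem F182557 : act 0 n43708 = n29986 := d3_1 D43708 (iv D29986) D29985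
def n43709 : Q := act 9 n29985
theorem D43709 : act 9 n29985 = n43709 := rfl
theorem F182561 : act 0 n43709 = n29987 := d8_1 D43709 (iv D29987) D29985
theorem F182562 : act 1 n43709 = n43709 := d16_1 D43709 (iv D43709) F127210
theorem F182563 : act 3 n43709 = n43709 := d29_1 D43709 (iv D43709) F127211
theorem F182564 : act 5 n43709 = n29995 := d38_1 D43709 (iv D29995) (iv F127212)
def n43710 : Q := act 3 n29986
theorem D43710 : act 3 n29986 = n43710 := rfl
def n43711 : Q := act 9 n29986
theorem D43711 : act 9 n29986 = n43711 := rfl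
theorem F182570 : act 1 n43711 = n29989 := d16_1 D43711 (iv D29989) (iv F127214)
theorem F182571 : act 4 n43711 = n29987 := d34_1 D43711 (iv D29987) D29986
theorem F182573 : act 6 n43711 = n31785 := d41_1 D43711 (iv D31785) (iv F127216)
def n43712 : Q := act 8 n29987
theorem D43712 : act 8 n29987 = n43712 := rfl
theorem F182574 : act 1 n43712 = n29990 := d15_1 D43712 (iv D29990) (iv F127217)
theorem F182575 : act 5 n43712 = n29996 := d37_1 D43712 (iv D29996) (iv F127219)
def n43714 : Q := act 9 n29988
theorem D43714 : act 9 n29988 = n43714 := rfl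
theorem F182584 : act 3 n43714 = n29989 := d29_1 D43714 (iv D29989) D29988
theorem F182587 : act 6 n43714 = n31788 := d41_1 D43714 (iv D31788) (iv F127225)
def n43715 : Q := act 8 n29989
theorem D43715 : act 8 n29989 = n43715 := rfl
theorem F182589 : act 2 n43715 = n29991 := d22_1 D43715 (iv D29991) (iv F127227)
def n43716 : Q := act 3 n29990
theorem D43716 : act 3 n29990 = n43716 := rfl
theorem F182593 : act 0 n43716 = n43716 := d2_1 D43716 (iv D43716) F127231
theorem F182594 : act 5 n43716 = n29997 := d25_2 (iv F127233) D43716 (iv D29997)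
theorem F182595 : act 6 n43716 = n31790 := d26_2 (iv F127234) D43716 (iv D31790)
theorem F182596 : act 8 n43716 = n43716 := d28_2 D29990 D43716 (iv D43716) (iv D29990) F88856
def n43717 : Q := act 3 n29991
theorem D43717 : act 3 n29991 = n43717 := rfl
theorem F182597 : act 0 n43717 = n43717 := d2_1 D43717 (iv D43717) F127235
theorem F182598 : act 5 n43717 = n43717 := d25_2 F127237 D43717 (iv D43717)
theorem F182599 : act 6 n43717 = n31791 := d26_2 (iv F127238) D43717 (iv D31791)
theorem F182600 : act 8 n43717 = n43717 := d28_2 D29991 D43717 (iv D43717) (iv D29991) F88860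
def n43718 : Q := act 9 n29992
theorem D43718 : act 9 n29992 = n43718 := rfl
theorem F182601 : act 0 n43718 = n29993 := d8_1 D43718 (iv D29993) D29992
theorem F182602 : act 1 n43718 = n43718 := d16_1 D43718 (iv D43718) F127239
theorem F182603 : act 3 n43718 = n43718 := d29_1 D43718 (iv D43718) F127240
theorem F182604 : act 4 n43718 = n43718 := d34_1 D43718 (iv D43718) F127241
theorem F182605 : act 6 n43718 = n43718 := d41_1 D43718 (iv D43718) F127242
theorem F182606 : act 7 n43718 = n29995 := d43_1 D43718 (iv D29995) (iv F127243)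
def n43719 : Q := act 8 n29993
theorem D43719 : act 8 n29993 = n43719 := rfl
theorem F182607 : act 1 n43719 = n29994 := d15_1 D43719 (iv D29994) (iv F127244)
theorem F182608 : act 4 n43719 = n43719 := d33_1 D43719 (iv D43719) F127246
theorem F182609 : act 6 n43719 = n43719 := d40_1 D43719 (iv D43719) F127247
theorem F182610 : act 7 n43719 = n29996 := d42_1 D43719 (iv D29996) (iv F127248)
def n43720 : Q := act 3 n29994
theorem D43720 : act 3 n29994 = n43720 := rfl
theorem F182611 : act 0 n43720 = n43720 := d2_1 D43720 (iv D43720) F127249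
theorem F182612 : act 6 n43720 = n43720 := d26_2 F127252 D43720 (iv D43720)
theorem F182613 : act 7 n43720 = n29997 := d27_2 (iv F127253) D43720 (iv D29997)
theorem F182614 : act 8 n43720 = n43720 := d28_2 D29994 D43720 (iv D43720) (iv D29994) F88873
def n43721 : Q := act 8 n29995
theorem D43721 : act 8 n29995 = n43721 := rfl
theorem F182615 : act 0 n43721 = n29996 := d7_1 D43721 (iv D29996) (iv F127254)
theorem F182616 : act 1 n43721 = n43721 := d15_1 D43721 (iv D43721) F127255
theorem F182617 : act 4 n43721 = n43721 := d33_1 D43721 (iv D43721) F127257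
theorem F182618 : act 6 n43721 = n29998 := d40_1 D43721 (iv D29998) (iv F127258)
def n43722 : Q := act 3 n29996
theorem D43722 : act 3 n29996 = n43722 := rfl
theorem F182619 : act 1 n43722 = n29997 := d10_1 D43722 (iv D29997) (iv F127259)
theorem F182620 : act 6 n43722 = n29999 := d26_2 (iv F127261) D43722 (iv D29999)
theorem F182621 : act 8 n43722 = n43722 := d28_2 D29996 D43722 (iv D43722) (iv D29996) F88886
def n43723 : Q := act 4 n29997
theorem D43723 : act 4 n29997 = n43723 := rfl
theorem F182622 : act 0 n43723 = n43723 := d3_1 D43723 (iv D43723) F127262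
theorem F182623 : act 3 n43723 = n43723 := d24_1 D43723 (iv D43723) (iv D29997) F88891 D29997
theorem F182624 : act 6 n43723 = n30000 := d31_2 (iv F127263) D43723 (iv D30000)
theorem F182625 : act 8 n43723 = n43723 := d33_2 F127264 D43723 (iv D43723)
def n43724 : Q := act 3 n29998
theorem D43724 : act 3 n29998 = n43724 := rfl
theorem F182626 : act 0 n43724 = n29999 := d2_1 D43724 (iv D29999) (iv F127265)
theorem F182628 : act 5 n43724 = n31798 := d25_2 (iv F127268) D43724 (iv D31798)
def n43725 : Q := act 2 n29999
theorem D43725 : act 2 n29999 = n43725 := rfl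
def n43726 : Q := act 4 n29999
theorem D43726 : act 4 n29999 = n43726 := rfl
theorem F182634 : act 1 n43726 = n30000 := d11_1 D43726 (iv D30000) (iv F127270)
def n43727 : Q := act 5 n30000
theorem D43727 : act 5 n30000 = n43727 := rfl
theorem F182640 : act 4 n43727 = n31801 := d30_1 D43727 (iv D31801) (iv D21828) (iv F88904) D30000
def n43734 : Q := act 7 n30005
theorem D43734 : act 7 n30005 = n43734 := rfl
def n43747 : Q := act 5 n30013
theorem D43747 : act 5 n30013 = n43747 := rfl
theorem F182754 : act 3 n43747 = n30014 := d25_1 D43747 (iv D30014) D30013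
def n43748 : Q := act 8 n30013
theorem D43748 : act 8 n30013 = n43748 := rfl
theorem F182759 : act 3 n43748 = n30026 := d28_1 D43748 (iv D30026) (iv D20627) (iv F88962) D30013
def n43749 : Q := act 6 n30014
theorem D43749 : act 6 n30014 = n43749 := rfl
theorem F182767 : act 5 n43749 = n30079 := d35_1 D43749 (iv D30079) (iv D20662) (iv F88960) D30014
theorem F182768 : act 8 n43749 = n30027 := d40_2 (iv F127362) D43749 (iv D30027)
def n43753 : Q := act 6 n30016
theorem D43753 : act 6 n30016 = n43753 := rfl
theorem F182785 : act 5 n43753 = n30083 := d35_1 D43753 (iv D30083) (iv D20664) (iv F88966) D30016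
def n43765 : Q := act 4 n30025
theorem D43765 : act 4 n30025 = n43765 := rfl
theorem F182845 : act 9 n43765 = n30043 := d34_2 (iv F127419) D43765 (iv D30043)
def n43768 : Q := act 9 n30026
theorem D43768 : act 9 n30026 = n43768 := rfl
theorem F182855 : act 0 n43768 = n30033 := d8_1 D43768 (iv D30033) (iv F127420)
def n43774 : Q := act 9 n30029
theorem D43774 : act 9 n30029 = n43774 := rfl
theorem F182885 : act 2 n43774 = n30033 := d23_1 D43774 (iv D30033) (iv F127436)
theorem F182886 : act 6 n43774 = n30104 := d41_1 D43774 (iv D30104) (iv F127437)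
def n43775 : Q := act 6 n30030
theorem D43775 : act 6 n30030 = n43775 := rfl
theorem F182891 : act 4 n43775 = n30031 := d31_1 D43775 (iv D30031) D30030
theorem F182892 : act 9 n43775 = n30053 := d41_2 (iv F127442) D43775 (iv D30053)
def n43795 : Q := act 8 n30043
theorem D43795 : act 8 n30043 = n43795 := rfl
theorem F182975 : act 0 n43795 = n30054 := d7_1 D43795 (iv D30054) (iv F127497)
def n43803 : Q := act 8 n30049
theorem D43803 : act 8 n30049 = n43803 := rfl
theorem F183012 : act 5 n43803 = n30133 := d37_1 D43803 (iv D30133) (iv F127528)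
theorem F183013 : act 6 n43803 = n30050 := d40_1 D43803 (iv D30050) D30049
def n43804 : Q := act 3 n30050
theorem D43804 : act 3 n30050 = n43804 := rfl
theorem F183018 : act 8 n43804 = n32591 := d28_2 D30050 D43804 (iv D32591) (iv D22374) (iv F89071)
def n43805 : Q := act 9 n30050
theorem D43805 : act 9 n30050 = n43805 := rfl
theorem F183021 : act 5 n43805 = n30052 := d38_1 D43805 (iv D30052) (iv F127531)
def n43808 : Q := act 5 n30053
theorem D43808 : act 5 n30053 = n43808 := rfl
theorem F183035 : act 4 n43808 = n30138 := d30_1 D43808 (iv D30138) F89327 (iv F89082) (iv F127544)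
def n43846 : Q := act 7 n30079
theorem D43846 : act 7 n30079 = n43846 := rfl
theorem F183213 : act 6 n43846 = n30176 := d39_1 D43846 (iv D30176) (iv D20727) (iv F89167) D30079
theorem F183214 : act 8 n43846 = n30099 := d42_2 (iv F127668) D43846 (iv D30099)
def n43854 : Q := act 7 n30083
theorem D43854 : act 7 n30083 = n43854 := rfl
theorem F183243 : act 6 n43854 = n30184 := d39_1 D43854 (iv D30184) (iv D20731) (iv F89176) D30083
def n43855 : Q := act 8 n30083
theorem D43855 : act 8 n30083 = n43855 := rfl
theorem F183246 : act 3 n43855 = n30108 := d28_1 D43855 (iv D30108) F89240 (iv F89185) (iv F127683)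
def n43860 : Q := act 3 n30088
theorem D43860 : act 3 n30088 = n43860 := rfl
theorem F183266 : act 4 n43860 = n30113 := d24_2 (iv F127705) D43860 (iv D30113) F89260 (iv F89196)
def n43871 : Q := act 6 n30095
theorem D43871 : act 6 n30095 = n43871 := rfl
theorem F183312 : act 0 n43871 = n30105 := d5_1 D43871 (iv D30105) (iv F127733)
theorem F183315 : act 4 n43871 = n30096 := d31_1 D43871 (iv D30096) D30095
theorem F183316 : act 9 n43871 = n30124 := d41_2 (iv F127737) D43871 (iv D30124)
def n43872 : Q := act 8 n30095
theorem D43872 : act 8 n30095 = n43872 := rfl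
theorem F183317 : act 0 n43872 = n30106 := d7_1 D43872 (iv D30106) (iv F127733)
theorem F183319 : act 4 n43872 = n30097 := d33_1 D43872 (iv D30097) D30095
def n43873 : Q := act 7 n30096
theorem D43873 : act 7 n30096 = n43873 := rfl
theorem F183323 : act 3 n43873 = n30099 := d27_1 D43873 (iv D30099) (iv F127740)
theorem F183325 : act 9 n43873 = n30126 := d43_2 (iv F127741) D43873 (iv D30126)
def n43875 : Q := act 9 n30097
theorem D43875 : act 9 n30097 = n43875 := rfl
theorem F183329 : act 0 n43875 = n30109 := d8_1 D43875 (iv D30109) (iv F127742)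
theorem F183333 : act 8 n43875 = n30128 := d44_1 D43875 (iv D30128) (iv D20693) (iv F89218) D30097
def n43876 : Q := act 3 n30100
theorem D43876 : act 3 n30100 = n43876 := rfl
theorem F183338 : act 9 n43876 = n30129 := d29_2 (iv F127759) D43876 (iv D30129)
def n43877 : Q := act 6 n30100
theorem D43877 : act 6 n30100 = n43877 := rfl
theorem F183340 : act 2 n43877 = n30105 := d20_1 D43877 (iv D30105) (iv F127757)
theorem F183341 : act 4 n43877 = n30101 := d31_1 D43877 (iv D30101) D30100
def n43878 : Q := act 8 n30100
theorem D43878 : act 8 n30100 = n43878 := rfl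
theorem F183345 : act 4 n43878 = n30102 := d33_1 D43878 (iv D30102) D30100
theorem F183346 : act 7 n43878 = n30208 := d42_1 D43878 (iv D30208) (iv F127758)
def n43880 : Q := act 8 n30101
theorem D43880 : act 8 n30101 = n43880 := rfl
theorem F183353 : act 2 n43880 = n30108 := d22_1 D43880 (iv D30108) (iv F127761)
def n43882 : Q := act 9 n30102
theorem D43882 : act 9 n30102 = n43882 := rfl
theorem F183361 : act 5 n43882 = n30104 := d38_1 D43882 (iv D30104) (iv F127766)
theorem F183362 : act 7 n43882 = n30212 := d43_1 D43882 (iv D30212) (iv F127767)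
def n43885 : Q := act 5 n30105
theorem D43885 : act 5 n30105 = n43885 := rfl
theorem F183371 : act 3 n43885 = n30331 := d25_1 D43885 (iv D30331) (iv F127776)
theorem F183372 : act 9 n43885 = n30138 := d38_2 (iv F127778) D43885 (iv D30138)
def n43886 : Q := act 7 n30105
theorem D43886 : act 7 n30105 = n43886 := rfl
theorem F183375 : act 4 n43886 = n30107 := d32_1 D43886 (iv D30107) (iv F127777)
theorem F183377 : act 9 n43886 = n30139 := d43_2 (iv F127778) D43886 (iv D30139)
def n43889 : Q := act 9 n30106
theorem D43889 : act 9 n30106 = n43889 := rfl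
theorem F183386 : act 7 n43889 = n30219 := d43_1 D43889 (iv D30219) (iv F127781)
theorem F183387 : act 8 n43889 = n30142 := d44_1 D43889 (iv D30142) (iv D20702) (iv F89238) D30106
def n43891 : Q := act 9 n30108
theorem D43891 : act 9 n30108 = n43891 := rfl
theorem F183393 : act 8 n43891 = n30144 := d44_1 D43891 (iv D30144) (iv D20704) (iv F89241) D30108
def n43910 : Q := act 3 n30121
theorem D43910 : act 3 n30121 = n43910 := rfl
theorem F183470 : act 8 n43910 = n32736 := d28_2 D30121 D43910 (iv D32736) (iv D22471) (iv F89281)
def n43914 : Q := act 5 n30124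
theorem D43914 : act 5 n30124 = n43914 := rfl
theorem F183483 : act 0 n43914 = n30138 := d4_1 D43914 (iv D30138) (iv F127848)
theorem F183485 : act 3 n43914 = n30360 := d25_1 D43914 (iv D30360) (iv F127850)
def n43915 : Q := act 7 n30124
theorem D43915 : act 7 n30124 = n43915 := rfl
theorem F183486 : act 0 n43915 = n30139 := d6_1 D43915 (iv D30139) (iv F127848)
theorem F183489 : act 4 n43915 = n30126 := d32_1 D43915 (iv D30126) (iv F127851)
def n43916 : Q := act 8 n30124
theorem D43916 : act 8 n30124 = n43916 := rfl
theorem F183491 : act 0 n43916 = n30140 := d7_1 D43916 (iv D30140) (iv F127848)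
def n43917 : Q := act 3 n30125
theorem D43917 : act 3 n30125 = n43917 := rfl
theorem F183498 : act 7 n43917 = n30247 := d27_2 (iv F127855) D43917 (iv D30247)
theorem F183499 : act 8 n43917 = n30363 := d28_2 D30125 D43917 (iv D30363) (iv D20850) (iv F89288)
def n43921 : Q := act 6 n30129
theorem D43921 : act 6 n30129 = n43921 := rfl
theorem F183516 : act 4 n43921 = n32747 := d31_1 D43921 (iv D32747) (iv F127871)
def n43922 : Q := act 8 n30129
theorem D43922 : act 8 n30129 = n43922 := rfl
theorem F183518 : act 2 n43922 = n30368 := d22_1 D43922 (iv D30368) (iv F127870)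
def n43923 : Q := act 5 n30130
theorem D43923 : act 5 n30130 = n43923 := rfl
theorem F183522 : act 2 n43923 = n30138 := d19_1 D43923 (iv D30138) (iv F127874)
def n43925 : Q := act 8 n30130
theorem D43925 : act 8 n30130 = n43925 := rfl
theorem F183528 : act 2 n43925 = n30140 := d22_1 D43925 (iv D30140) (iv F127874)
theorem F183529 : act 4 n43925 = n30133 := d33_1 D43925 (iv D30133) (iv F127875)
theorem F183530 : act 6 n43925 = n30131 := d40_1 D43925 (iv D30131) D30130
def n43928 : Q := act 8 n30132
theorem D43928 : act 8 n30132 = n43928 := rfl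
theorem F183539 : act 6 n43928 = n30258 := d40_1 D43928 (iv D30258) (iv F127883)
theorem F183540 : act 7 n43928 = n30133 := d42_1 D43928 (iv D30133) D30132
def n43930 : Q := act 9 n30133
theorem D43930 : act 9 n30133 = n43930 := rfl
theorem F183547 : act 6 n43930 = n30135 := d41_1 D43930 (iv D30135) (iv F127886)
def n43936 : Q := act 7 n30138
theorem D43936 : act 7 n30138 = n43936 := rfl
theorem F183571 : act 5 n43936 = n30139 := d36_1 D43936 (iv D30139) D30138
def n43937 : Q := act 8 n30138
theorem D43937 : act 8 n30138 = n43937 := rfl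
theorem F183573 : act 5 n43937 = n30140 := d37_1 D43937 (iv D30140) D30138
def n43938 : Q := act 8 n30139
theorem D43938 : act 8 n30139 = n43938 := rfl
theorem F183574 : act 1 n43938 = n30147 := d15_1 D43938 (iv D30147) (iv F127906)
theorem F183576 : act 6 n43938 = n30268 := d40_1 D43938 (iv D30268) (iv F127909)
theorem F183577 : act 7 n43938 = n30140 := d42_1 D43938 (iv D30140) D30139
def n43939 : Q := act 3 n30140
theorem D43939 : act 3 n30140 = n43939 := rfl
theorem F183580 : act 6 n43939 = n30141 := d26_2 (iv F127912) D43939 (iv D30141)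
theorem F183581 : act 8 n43939 = n30385 := d28_2 D30140 D43939 (iv D30385) (iv D20865) (iv F89326)
def n43940 : Q := act 9 n30140
theorem D43940 : act 9 n30140 = n43940 := rfl
theorem F183583 : act 4 n43940 = n30144 := d34_1 D43940 (iv D30144) (iv F127911)
def n43941 : Q := act 2 n30141
theorem D43941 : act 2 n30141 = n43941 := rfl
theorem F183586 : act 7 n43941 = n30271 := d21_2 (iv F127915) D43941 (iv D30271)
theorem F183587 : act 8 n43941 = n30387 := d22_2 (iv F127916) D43941 (iv D30387)
def n43942 : Q := act 9 n30141
theorem D43942 : act 9 n30141 = n43942 := rfl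
theorem F183591 : act 7 n43942 = n30272 := d43_1 D43942 (iv D30272) (iv F127915)
def n43944 : Q := act 6 n30145
theorem D43944 : act 6 n30145 = n43944 := rfl
theorem F183599 : act 5 n43944 = n30274 := d35_1 D43944 (iv D30274) F89692 (iv F89348) (iv F127930)
def n43948 : Q := act 3 n30147
theorem D43948 : act 3 n30147 = n43948 := rfl
theorem F183612 : act 6 n43948 = n30278 := d26_2 (iv F127937) D43948 (iv D30278)
theorem F183613 : act 7 n43948 = n30148 := d27_2 (iv F127938) D43948 (iv D30148)
theorem F183614 : act 8 n43948 = n30394 := d28_2 D30147 D43948 (iv D30394) (iv D20872) (iv F89346)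
def n43952 : Q := act 1 n30150
theorem D43952 : act 1 n30150 = n43952 := rfl
theorem F183631 : act 7 n43952 = n30282 := d14_2 (iv F127950) D43952 (iv D30282)
theorem F183632 : act 8 n43952 = n30398 := d15_2 (iv F127951) D43952 (iv D30398)
def n43954 : Q := act 8 n30151
theorem D43954 : act 8 n30151 = n43954 := rfl
theorem F183640 : act 7 n43954 = n30284 := d42_1 D43954 (iv D30284) (iv F127955)
def n43973 : Q := act 5 n30164
theorem D43973 : act 5 n30164 = n43973 := rfl
theorem F183724 : act 2 n43973 = n30187 := d19_1 D43973 (iv D30187) (iv F128013)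
def n44004 : Q := act 3 n30183
theorem D44004 : act 3 n30183 = n44004 := rfl
theorem F183854 : act 4 n44004 = n30218 := d24_2 (iv F128097) D44004 (iv D30218) F89550 (iv F89461)
def n44006 : Q := act 8 n30184
theorem D44006 : act 8 n30184 = n44006 := rfl
theorem F183862 : act 3 n44006 = n30220 := d28_1 D44006 (iv D30220) F89552 (iv F89472) (iv F128100)
def n44008 : Q := act 7 n30187
theorem D44008 : act 7 n30187 = n44008 := rfl
theorem F183871 : act 3 n44008 = n30429 := d27_1 D44008 (iv D30429) (iv F128112)
theorem F183873 : act 5 n44008 = n30188 := d36_1 D44008 (iv D30188) D30187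
def n44013 : Q := act 2 n30190
theorem D44013 : act 2 n30190 = n44013 := rfl
theorem F183891 : act 4 n44013 = n30227 := d18_2 (iv F128124) D44013 (iv D30227)
def n44021 : Q := act 3 n30196
theorem D44021 : act 3 n30196 = n44021 := rfl
theorem F183929 : act 9 n44021 = n30235 := d29_2 (iv F128151) D44021 (iv D30235)
def n44023 : Q := act 8 n30196
theorem D44023 : act 8 n30196 = n44023 := rfl
theorem F183934 : act 0 n44023 = n30208 := d7_1 D44023 (iv D30208) (iv F128149)
def n44030 : Q := act 5 n30201
theorem D44030 : act 5 n30201 = n44030 := rfl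
theorem F183959 : act 0 n44030 = n30215 := d4_1 D44030 (iv D30215) (iv F128167)
theorem F183963 : act 9 n44030 = n30244 := d38_2 (iv F128171) D44030 (iv D30244)
def n44031 : Q := act 7 n30201
theorem D44031 : act 7 n30201 = n44031 := rfl
theorem F183967 : act 4 n44031 = n30203 := d32_1 D44031 (iv D30203) (iv F128170)
theorem F183968 : act 9 n44031 = n30245 := d43_2 (iv F128171) D44031 (iv D30245)
def n44032 : Q := act 8 n30201
theorem D44032 : act 8 n30201 = n44032 := rfl
theorem F183969 : act 0 n44032 = n30217 := d7_1 D44032 (iv D30217) (iv F128167)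
theorem F183971 : act 4 n44032 = n30204 := d33_1 D44032 (iv D30204) (iv F128170)
def n44033 : Q := act 3 n30202
theorem D44033 : act 3 n30202 = n44033 := rfl
theorem F183973 : act 0 n44033 = n30218 := d2_1 D44033 (iv D30218) (iv F128172)
def n44034 : Q := act 9 n30202
theorem D44034 : act 9 n30202 = n44034 := rfl
theorem F183976 : act 0 n44034 = n30219 := d8_1 D44034 (iv D30219) (iv F128172)
theorem F183979 : act 8 n44034 = n30248 := d44_1 D44034 (iv D30248) (iv D20773) (iv F89508) D30202
def n44036 : Q := act 9 n30204
theorem D44036 : act 9 n30204 = n44036 := rfl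
theorem F183984 : act 0 n44036 = n30221 := d8_1 D44036 (iv D30221) (iv F128180)
theorem F183988 : act 8 n44036 = n30250 := d44_1 D44036 (iv D30250) (iv D20775) (iv F89513) D30204
def n44037 : Q := act 6 n30206
theorem D44037 : act 6 n30206 = n44037 := rfl
theorem F183991 : act 3 n44037 = n30207 := d26_1 D44037 (iv D30207) D30206
theorem F183993 : act 9 n44037 = n30251 := d41_2 (iv F128191) D44037 (iv D30251)
def n44038 : Q := act 8 n30206
theorem D44038 : act 8 n30206 = n44038 := rfl
theorem F183994 : act 1 n44038 = n44038 := d15_1 D44038 (iv D44038) F128188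
theorem F183995 : act 2 n44038 = n30459 := d22_1 D44038 (iv D30459) (iv F128189)
def n44039 : Q := act 5 n30207
theorem D44039 : act 5 n30207 = n44039 := rfl
theorem F183997 : act 1 n44039 = n44039 := d12_1 D44039 (iv D44039) F128192
theorem F183998 : act 2 n44039 = n30215 := d19_1 D44039 (iv D30215) (iv F128193)
theorem F183999 : act 4 n44039 = n44039 := d30_1 D44039 (iv D44039) F128194 F89533 (iv F128194)
theorem F184000 : act 9 n44039 = n30253 := d38_2 (iv F128195) D44039 (iv D30253)
def n44040 : Q := act 7 n30207
theorem D44040 : act 7 n30207 = n44040 := rfl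
theorem F184002 : act 2 n44040 = n30216 := d21_1 D44040 (iv D30216) (iv F128193)
theorem F184003 : act 4 n44040 = n30209 := d32_1 D44040 (iv D30209) (iv F128194)
def n44041 : Q := act 8 n30207
theorem D44041 : act 8 n30207 = n44041 := rfl
theorem F184007 : act 4 n44041 = n30210 := d33_1 D44041 (iv D30210) (iv F128194)
theorem F184008 : act 6 n44041 = n30208 := d40_1 D44041 (iv D30208) D30207
def n44042 : Q := act 3 n30208
theorem D44042 : act 3 n30208 = n44042 := rfl
theorem F184009 : act 1 n44042 = n44042 := d10_1 D44042 (iv D44042) F128196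
def n44044 : Q := act 8 n30209
theorem D44044 : act 8 n30209 = n44044 := rfl
theorem F184015 : act 2 n44044 = n30220 := d22_1 D44044 (iv D30220) (iv F128200)
def n44046 : Q := act 9 n30210
theorem D44046 : act 9 n30210 = n44046 := rfl
theorem F184025 : act 6 n44046 = n30212 := d41_1 D44046 (iv D30212) (iv F128207)
theorem F184026 : act 8 n44046 = n30260 := d44_1 D44046 (iv D30260) (iv D20781) (iv F89534) D30210
def n44052 : Q := act 7 n30215
theorem D44052 : act 7 n30215 = n44052 := rfl
theorem F184042 : act 3 n44052 = n30473 := d27_1 D44052 (iv D30473) (iv F128222)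
theorem F184044 : act 5 n44052 = n30216 := d36_1 D44052 (iv D30216) D30215
theorem F184045 : act 9 n44052 = n30266 := d43_2 (iv F128224) D44052 (iv D30266)
def n44053 : Q := act 8 n30215
theorem D44053 : act 8 n30215 = n44053 := rfl
theorem F184048 : act 5 n44053 = n30217 := d37_1 D44053 (iv D30217) D30215
def n44056 : Q := act 9 n30217
theorem D44056 : act 9 n30217 = n44056 := rfl
theorem F184057 : act 6 n44056 = n30219 := d41_1 D44056 (iv D30219) (iv F128231)
theorem F184058 : act 8 n44056 = n30270 := d44_1 D44056 (iv D30270) (iv D20788) (iv F89548) D30217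
def n44057 : Q := act 2 n30218
theorem D44057 : act 2 n30218 = n44057 := rfl
theorem F184059 : act 8 n44057 = n30478 := d22_2 (iv F128233) D44057 (iv D30478)
def n44058 : Q := act 9 n30218
theorem D44058 : act 9 n30218 = n44058 := rfl
theorem F184061 : act 3 n44058 = n30219 := d29_1 D44058 (iv D30219) D30218
def n44059 : Q := act 9 n30220
theorem D44059 : act 9 n30220 = n44059 := rfl
theorem F184065 : act 8 n44059 = n30273 := d44_1 D44059 (iv D30273) (iv D20791) (iv F89554) D30220
def n44060 : Q := act 6 n30222
theorem D44060 : act 6 n30222 = n44060 := rfl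
theorem F184068 : act 3 n44060 = n30481 := d26_1 D44060 (iv D30481) (iv F128246)
theorem F184070 : act 9 n44060 = n30274 := d41_2 (iv F128249) D44060 (iv D30274)
def n44063 : Q := act 9 n30223
theorem D44063 : act 9 n30223 = n44063 := rfl
theorem F184083 : act 8 n44063 = n30277 := d44_1 D44063 (iv D30277) (iv D20794) (iv F89565) D30223
def n44064 : Q := act 3 n30224
theorem D44064 : act 3 n30224 = n44064 := rfl
theorem F184086 : act 8 n44064 = n30485 := d28_2 D30224 D44064 (iv D30485) (iv D20933) (iv F89568)
def n44065 : Q := act 9 n30224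
theorem D44065 : act 9 n30224 = n44065 := rfl
theorem F184091 : act 8 n44065 = n30279 := d44_1 D44065 (iv D30279) (iv D20795) (iv F89570) D30224
def n44070 : Q := act 8 n30228
theorem D44070 : act 8 n30228 = n44070 := rfl
theorem F184105 : act 3 n44070 = n30284 := d28_1 D44070 (iv D30284) F89714 (iv F89580) (iv F128270)
theorem F184106 : act 9 n44070 = n30491 := d44_2 D30228 D44070 (iv D30491) (iv D20937) (iv F89576)
def n44081 : Q := act 6 n30235
theorem D44081 : act 6 n30235 = n44081 := rfl
theorem F184152 : act 4 n44081 = n32966 := d31_1 D44081 (iv D32966) (iv F128298)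
def n44082 : Q := act 8 n30235
theorem D44082 : act 8 n30235 = n44082 := rfl
def n44083 : Q := act 5 n30236
theorem D44083 : act 5 n30236 = n44083 := rfl
theorem F184156 : act 0 n44083 = n30253 := d4_1 D44083 (iv D30253) (iv F128299)
theorem F184157 : act 2 n44083 = n30244 := d19_1 D44083 (iv D30244) (iv F128300)
def n44089 : Q := act 3 n30239
theorem D44089 : act 3 n30239 = n44089 := rfl
theorem F184178 : act 8 n44089 = n32974 := d28_2 D30239 D44089 (iv D32974) (iv D22628) (iv F89602)
def n44096 : Q := act 7 n30244
theorem D44096 : act 7 n30244 = n44096 := rfl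
theorem F184201 : act 0 n44096 = n30266 := d6_1 D44096 (iv D30266) (iv F128328)
theorem F184203 : act 3 n44096 = n30517 := d27_1 D44096 (iv D30517) (iv F128330)
theorem F184205 : act 5 n44096 = n30245 := d36_1 D44096 (iv D30245) D30244
def n44097 : Q := act 8 n30244
theorem D44097 : act 8 n30244 = n44097 := rfl
theorem F184206 : act 0 n44097 = n30267 := d7_1 D44097 (iv D30267) (iv F128328)
theorem F184209 : act 5 n44097 = n30246 := d37_1 D44097 (iv D30246) D30244
def n44098 : Q := act 8 n30245
theorem D44098 : act 8 n30245 = n44098 := rfl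
theorem F184210 : act 0 n44098 = n30268 := d7_1 D44098 (iv D30268) (iv F128332)
def n44099 : Q := act 3 n30246
theorem D44099 : act 3 n30246 = n44099 := rfl
theorem F184214 : act 0 n44099 = n30269 := d2_1 D44099 (iv D30269) (iv F128336)
theorem F184217 : act 6 n44099 = n30247 := d26_2 (iv F128339) D44099 (iv D30247)
theorem F184218 : act 8 n44099 = n30520 := d28_2 D30246 D44099 (iv D30520) (iv D20955) (iv F89616)
def n44100 : Q := act 9 n30246
theorem D44100 : act 9 n30246 = n44100 := rfl
theorem F184219 : act 0 n44100 = n30270 := d8_1 D44100 (iv D30270) (iv F128336)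
def n44104 : Q := act 5 n30251
theorem D44104 : act 5 n30251 = n44104 := rfl
theorem F184236 : act 2 n44104 = n30525 := d19_1 D44104 (iv D30525) (iv F128358)
theorem F184237 : act 3 n44104 = n30253 := d25_1 D44104 (iv D30253) (iv F128359)
def n44105 : Q := act 7 n30251
theorem D44105 : act 7 n30251 = n44105 := rfl
theorem F184241 : act 4 n44105 = n32990 := d32_1 D44105 (iv D32990) (iv F128360)
def n44106 : Q := act 8 n30251
theorem D44106 : act 8 n30251 = n44106 := rfl
theorem F184243 : act 2 n44106 = n30527 := d22_1 D44106 (iv D30527) (iv F128358)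
theorem F184245 : act 6 n44106 = n30252 := d40_1 D44106 (iv D30252) D30251
def n44108 : Q := act 9 n30252
theorem D44108 : act 9 n30252 = n44108 := rfl
theorem F184249 : act 2 n44108 = n30529 := d23_1 D44108 (iv D30529) (iv F128362)
theorem F184250 : act 4 n44108 = n32993 := d34_1 D44108 (iv D32993) (iv F128363)
def n44109 : Q := act 7 n30253
theorem D44109 : act 7 n30253 = n44109 := rfl
theorem F184252 : act 2 n44109 = n30266 := d21_1 D44109 (iv D30266) (iv F128365)
theorem F184254 : act 5 n44109 = n30254 := d36_1 D44109 (iv D30254) D30253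
def n44110 : Q := act 8 n30253
theorem D44110 : act 8 n30253 = n44110 := rfl
theorem F184256 : act 2 n44110 = n30267 := d22_1 D44110 (iv D30267) (iv F128365)
theorem F184258 : act 5 n44110 = n30255 := d37_1 D44110 (iv D30255) D30253
def n44111 : Q := act 8 n30254
theorem D44111 : act 8 n30254 = n44111 := rfl
theorem F184260 : act 2 n44111 = n30268 := d22_1 D44111 (iv D30268) (iv F128368)
theorem F184261 : act 4 n44111 = n30258 := d33_1 D44111 (iv D30258) (iv F128369)
theorem F184262 : act 7 n44111 = n30255 := d42_1 D44111 (iv D30255) D30254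
def n44118 : Q := act 9 n30258
theorem D44118 : act 9 n30258 = n44118 := rfl
theorem F184282 : act 7 n44118 = n30260 := d43_1 D44118 (iv D30260) (iv F128381)
def n44127 : Q := act 6 n30266
theorem D44127 : act 6 n30266 = n44127 := rfl
theorem F184315 : act 1 n44127 = n30274 := d13_1 D44127 (iv D30274) (iv F128409)
theorem F184316 : act 3 n44127 = n30548 := d26_1 D44127 (iv D30548) (iv F128410)
theorem F184317 : act 4 n44127 = n44127 := d31_1 D44127 (iv D44127) F128411
def n44128 : Q := act 8 n30266
theorem D44128 : act 8 n30266 = n44128 := rfl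
theorem F184318 : act 1 n44128 = n30275 := d15_1 D44128 (iv D30275) (iv F128409)
theorem F184319 : act 4 n44128 = n44128 := d33_1 D44128 (iv D44128) F128411
theorem F184320 : act 5 n44128 = n30268 := d37_1 D44128 (iv D30268) (iv F128412)
theorem F184321 : act 7 n44128 = n30267 := d42_1 D44128 (iv D30267) D30266
def n44129 : Q := act 3 n30267
theorem D44129 : act 3 n30267 = n44129 := rfl
theorem F184322 : act 1 n44129 = n30276 := d10_1 D44129 (iv D30276) (iv F128413)
theorem F184323 : act 5 n44129 = n30269 := d25_2 (iv F128415) D44129 (iv D30269)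
theorem F184324 : act 8 n44129 = n30550 := d28_2 D30267 D44129 (iv D30550) (iv D20976) (iv F89667)
def n44130 : Q := act 9 n30267
theorem D44130 : act 9 n30267 = n44130 := rfl
theorem F184325 : act 1 n44130 = n30277 := d16_1 D44130 (iv D30277) (iv F128413)
theorem F184327 : act 5 n44130 = n30270 := d38_1 D44130 (iv D30270) (iv F128415)
def n44131 : Q := act 3 n30268
theorem D44131 : act 3 n30268 = n44131 := rfl
theorem F184328 : act 1 n44131 = n30278 := d10_1 D44131 (iv D30278) (iv F128416)
theorem F184329 : act 4 n44131 = n44131 := d24_2 (iv F128417) D44131 (iv D44131) F128417 F89681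
theorem F184330 : act 7 n44131 = n30269 := d27_2 (iv F128418) D44131 (iv D30269)
theorem F184331 : act 8 n44131 = n30552 := d28_2 D30268 D44131 (iv D30552) (iv D20977) (iv F89670)
def n44132 : Q := act 9 n30268
theorem D44132 : act 9 n30268 = n44132 := rfl
theorem F184333 : act 4 n44132 = n30273 := d34_1 D44132 (iv D30273) (iv F128417)
theorem F184334 : act 7 n44132 = n30270 := d43_1 D44132 (iv D30270) (iv F128418)
def n44133 : Q := act 2 n30269
theorem D44133 : act 2 n30269 = n44133 := rfl
theorem F184336 : act 6 n44133 = n30271 := d20_2 (iv F128421) D44133 (iv D30271)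
theorem F184337 : act 8 n44133 = n30554 := d22_2 (iv F128422) D44133 (iv D30554)
def n44134 : Q := act 9 n30269
theorem D44134 : act 9 n30269 = n44134 := rfl
theorem F184338 : act 1 n44134 = n30281 := d16_1 D44134 (iv D30281) (iv F128419)
theorem F184339 : act 3 n44134 = n30270 := d29_1 D44134 (iv D30270) D30269
theorem F184340 : act 4 n44134 = n44134 := d34_1 D44134 (iv D44134) F128420
theorem F184341 : act 6 n44134 = n30272 := d41_1 D44134 (iv D30272) (iv F128421)
def n44135 : Q := act 1 n30271
theorem D44135 : act 1 n30271 = n44135 := rfl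
theorem F184344 : act 8 n44135 = n30556 := d15_2 (iv F128427) D44135 (iv D30556)
def n44136 : Q := act 9 n30271
theorem D44136 : act 9 n30271 = n44136 := rfl
theorem F184345 : act 2 n44136 = n30272 := d23_1 D44136 (iv D30272) D30271
def n44137 : Q := act 8 n30272
theorem D44137 : act 8 n30272 = n44137 := rfl
theorem F184347 : act 1 n44137 = n30284 := d15_1 D44137 (iv D30284) (iv F128428)
theorem F184348 : act 4 n44137 = n44137 := d33_1 D44137 (iv D44137) F128430
theorem F184349 : act 9 n44137 = n30558 := d44_2 D30272 D44137 (iv D30558) (iv D20981) (iv F89677)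
def n44138 : Q := act 8 n30274
theorem D44138 : act 8 n30274 = n44138 := rfl
theorem F184353 : act 6 n44138 = n30275 := d40_1 D44138 (iv D30275) D30274
def n44139 : Q := act 3 n30275
theorem D44139 : act 3 n30275 = n44139 := rfl
theorem F184355 : act 5 n44139 = n30278 := d25_2 (iv F128442) D44139 (iv D30278)
theorem F184356 : act 7 n44139 = n30276 := d27_2 (iv F128443) D44139 (iv D30276)
theorem F184357 : act 8 n44139 = n30560 := d28_2 D30275 D44139 (iv D30560) (iv D20984) (iv F89690)
def n44140 : Q := act 9 n30275
theorem D44140 : act 9 n30275 = n44140 := rfl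
theorem F184361 : act 5 n44140 = n30279 := d38_1 D44140 (iv D30279) (iv F128442)
def n44141 : Q := act 2 n30276
theorem D44141 : act 2 n30276 = n44141 := rfl
theorem F184366 : act 8 n44141 = n30562 := d22_2 (iv F128446) D44141 (iv D30562)
def n44142 : Q := act 4 n30276
theorem D44142 : act 4 n30276 = n44142 := rfl
theorem F184370 : act 8 n44142 = n30563 := d33_2 (iv F128446) D44142 (iv D30563)
def n44143 : Q := act 9 n30276
theorem D44143 : act 9 n30276 = n44143 := rfl
def n44144 : Q := act 2 n30278
theorem D44144 : act 2 n30278 = n44144 := rfl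
theorem F184377 : act 7 n44144 = n30280 := d21_2 (iv F128453) D44144 (iv D30280)
theorem F184378 : act 8 n44144 = n30565 := d22_2 (iv F128454) D44144 (iv D30565)
def n44145 : Q := act 9 n30278
theorem D44145 : act 9 n30278 = n44145 := rfl
theorem F184380 : act 3 n44145 = n30279 := d29_1 D44145 (iv D30279) D30278
def n44146 : Q := act 1 n30280
theorem D44146 : act 1 n30280 = n44146 := rfl
theorem F184383 : act 3 n44146 = n44146 := d10_2 F128460 D44146 (iv D44146)
theorem F184384 : act 4 n44146 = n44146 := d11_2 F128461 D44146 (iv D44146)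
theorem F184385 : act 6 n44146 = n30282 := d13_2 (iv F128462) D44146 (iv D30282)
theorem F184386 : act 8 n44146 = n30567 := d15_2 (iv F128463) D44146 (iv D30567)
def n44147 : Q := act 9 n30280
theorem D44147 : act 9 n30280 = n44147 := rfl
theorem F184388 : act 2 n44147 = n30281 := d23_1 D44147 (iv D30281) D30280
def n44148 : Q := act 8 n30281
theorem D44148 : act 8 n30281 = n44148 := rfl
theorem F184394 : act 6 n44148 = n30284 := d40_1 D44148 (iv D30284) (iv F128467)
theorem F184395 : act 9 n44148 = n30569 := d44_2 D30281 D44148 (iv D30569) (iv D20990) (iv F89704)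
def n44149 : Q := act 0 n30282
theorem D44149 : act 0 n30282 = n44149 := rfl
theorem F184399 : act 8 n44149 = n30570 := d7_2 (iv F128470) D44149 (iv D30570)
def n44150 : Q := act 9 n30282
theorem D44150 : act 9 n30282 = n44150 := rfl
def n44151 : Q := act 8 n30283
theorem D44151 : act 8 n30283 = n44151 := rfl
theorem F184404 : act 2 n44151 = n30284 := d22_1 D44151 (iv D30284) (iv F128472)
theorem F184406 : act 9 n44151 = n30572 := d44_2 D30283 D44151 (iv D30572) (iv D20992) (iv F89712)
def n44176 : Q := act 3 n30299
theorem D44176 : act 3 n30299 = n44176 := rfl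
theorem F184527 : act 4 n44176 = n30334 := d24_2 (iv F128553) D44176 (iv D30334) F89869 (iv F89763)
def n44177 : Q := act 9 n30299
theorem D44177 : act 9 n30299 = n44177 := rfl
theorem F184530 : act 1 n44177 = n30307 := d16_1 D44177 (iv D30307) (iv F128552)
theorem F184531 : act 4 n44177 = n30302 := d34_1 D44177 (iv D30302) (iv F128553)
def n44179 : Q := act 9 n30301
theorem D44179 : act 9 n30301 = n44179 := rfl
theorem F184540 : act 1 n44179 = n30309 := d16_1 D44179 (iv D30309) (iv F128561)
theorem F184541 : act 3 n44179 = n30337 := d29_1 D44179 (iv D30337) (iv F128562)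
def n44185 : Q := act 2 n30306
theorem D44185 : act 2 n30306 = n44185 := rfl
theorem F184570 : act 4 n44185 = n30343 := d18_2 (iv F128585) D44185 (iv D30343)
def n44188 : Q := act 4 n30310
theorem D44188 : act 4 n30310 = n44188 := rfl
theorem F184586 : act 1 n44188 = n30312 := d11_1 D44188 (iv D30312) (iv F128607)
theorem F184588 : act 7 n44188 = n30437 := d32_2 (iv F128610) D44188 (iv D30437)
theorem F184589 : act 9 n44188 = n30346 := d34_2 (iv F128611) D44188 (iv D30346)
def n44189 : Q := act 6 n30310
theorem D44189 : act 6 n30310 = n44189 := rfl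
theorem F184590 : act 0 n44189 = n30832 := d5_1 D44189 (iv D30832) (iv F128606)
theorem F184591 : act 1 n44189 = n30313 := d13_1 D44189 (iv D30313) (iv F128607)
theorem F184595 : act 9 n44189 = n30347 := d41_2 (iv F128611) D44189 (iv D30347)
def n44191 : Q := act 3 n30311
theorem D44191 : act 3 n30311 = n44191 := rfl
theorem F184605 : act 8 n44191 = n33101 := d28_2 D30311 D44191 (iv D33101) (iv D22716) (iv F89806)
def n44192 : Q := act 9 n30311
theorem D44192 : act 9 n30311 = n44192 := rfl
theorem F184611 : act 8 n44192 = n30350 := d44_1 D44192 (iv D30350) (iv D20843) (iv F89809) D30311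
def n44194 : Q := act 6 n30312
theorem D44194 : act 6 n30312 = n44194 := rfl
theorem F184616 : act 0 n44194 = n30323 := d5_1 D44194 (iv D30323) (iv F128617)
theorem F184618 : act 4 n44194 = n30313 := d31_1 D44194 (iv D30313) D30312
theorem F184619 : act 9 n44194 = n30352 := d41_2 (iv F128620) D44194 (iv D30352)
def n44195 : Q := act 8 n30312
theorem D44195 : act 8 n30312 = n44195 := rfl
theorem F184620 : act 0 n44195 = n30324 := d7_1 D44195 (iv D30324) (iv F128617)
theorem F184622 : act 4 n44195 = n30314 := d33_1 D44195 (iv D30314) D30312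
def n44196 : Q := act 7 n30313
theorem D44196 : act 7 n30313 = n44196 := rfl
theorem F184625 : act 2 n44196 = n30319 := d21_1 D44196 (iv D30319) (iv F128622)
theorem F184629 : act 9 n44196 = n30354 := d43_2 (iv F128625) D44196 (iv D30354)
def n44198 : Q := act 3 n30314
theorem D44198 : act 3 n30314 = n44198 := rfl
theorem F184637 : act 8 n44198 = n33108 := d28_2 D30314 D44198 (iv D33108) (iv D22719) (iv F89812)
def n44199 : Q := act 9 n30314
theorem D44199 : act 9 n30314 = n44199 := rfl
theorem F184638 : act 0 n44199 = n30328 := d8_1 D44199 (iv D30328) (iv F128626)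
theorem F184642 : act 8 n44199 = n30357 := d44_1 D44199 (iv D30357) (iv D20846) (iv F89814) D30314
def n44202 : Q := act 5 n30317
theorem D44202 : act 5 n30317 = n44202 := rfl
theorem F184651 : act 0 n44202 = n30331 := d4_1 D44202 (iv D30331) (iv F128639)
def n44203 : Q := act 7 n30317
theorem D44203 : act 7 n30317 = n44203 := rfl
theorem F184657 : act 4 n44203 = n30319 := d32_1 D44203 (iv D30319) (iv F128641)
theorem F184659 : act 9 n44203 = n30361 := d43_2 (iv F128642) D44203 (iv D30361)
def n44204 : Q := act 8 n30317
theorem D44204 : act 8 n30317 = n44204 := rfl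
theorem F184660 : act 0 n44204 = n30333 := d7_1 D44204 (iv D30333) (iv F128639)
def n44205 : Q := act 3 n30318
theorem D44205 : act 3 n30318 = n44205 := rfl
theorem F184664 : act 0 n44205 = n30334 := d2_1 D44205 (iv D30334) (iv F128643)
def n44206 : Q := act 9 n30318
theorem D44206 : act 9 n30318 = n44206 := rfl
theorem F184667 : act 0 n44206 = n30335 := d8_1 D44206 (iv D30335) (iv F128643)
theorem F184671 : act 8 n44206 = n30364 := d44_1 D44206 (iv D30364) (iv D20850) (iv F89822) D30318
def n44207 : Q := act 8 n30319
theorem D44207 : act 8 n30319 = n44207 := rfl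
theorem F184672 : act 0 n44207 = n30336 := d7_1 D44207 (iv D30336) (iv F128647)
def n44208 : Q := act 9 n30320
theorem D44208 : act 9 n30320 = n44208 := rfl
theorem F184677 : act 0 n44208 = n30337 := d8_1 D44208 (iv D30337) (iv F128653)
def n44209 : Q := act 6 n30322
theorem D44209 : act 6 n30322 = n44209 := rfl
theorem F184683 : act 3 n44209 = n30323 := d26_1 D44209 (iv D30323) D30322
def n44210 : Q := act 8 n30322
theorem D44210 : act 8 n30322 = n44210 := rfl
theorem F184686 : act 1 n44210 = n30853 := d15_1 D44210 (iv D30853) (iv F128662)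
theorem F184688 : act 7 n44210 = n30459 := d42_1 D44210 (iv D30459) (iv F128664)
def n44211 : Q := act 5 n30323
theorem D44211 : act 5 n30323 = n44211 := rfl
theorem F184689 : act 1 n44211 = n30854 := d12_1 D44211 (iv D30854) (iv F128666)
theorem F184692 : act 9 n44211 = n30369 := d38_2 (iv F128669) D44211 (iv D30369)
def n44212 : Q := act 7 n30323
theorem D44212 : act 7 n30323 = n44212 := rfl
theorem F184695 : act 4 n44212 = n30325 := d32_1 D44212 (iv D30325) (iv F128668)
theorem F184697 : act 9 n44212 = n30370 := d43_2 (iv F128669) D44212 (iv D30370)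
def n44213 : Q := act 8 n30323
theorem D44213 : act 8 n30323 = n44213 := rfl
theorem F184698 : act 1 n44213 = n30856 := d15_1 D44213 (iv D30856) (iv F128666)
theorem F184700 : act 4 n44213 = n30326 := d33_1 D44213 (iv D30326) (iv F128668)
theorem F184701 : act 6 n44213 = n30324 := d40_1 D44213 (iv D30324) D30323
def n44214 : Q := act 3 n30324
theorem D44214 : act 3 n30324 = n44214 := rfl
theorem F184702 : act 1 n44214 = n30857 := d10_1 D44214 (iv D30857) (iv F128670)
theorem F184703 : act 7 n44214 = n30463 := d27_2 (iv F128673) D44214 (iv D30463)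
def n44215 : Q := act 9 n30324
theorem D44215 : act 9 n30324 = n44215 := rfl
theorem F184704 : act 1 n44215 = n30858 := d16_1 D44215 (iv D30858) (iv F128670)
theorem F184705 : act 2 n44215 = n30335 := d23_1 D44215 (iv D30335) (iv F128671)
theorem F184706 : act 4 n44215 = n30328 := d34_1 D44215 (iv D30328) (iv F128672)
theorem F184707 : act 7 n44215 = n30464 := d43_1 D44215 (iv D30464) (iv F128673)
theorem F184708 : act 8 n44215 = n30373 := d44_1 D44215 (iv D30373) (iv D20856) (iv F89846) D30324
def n44216 : Q := act 8 n30325
theorem D44216 : act 8 n30325 = n44216 := rfl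
theorem F184710 : act 2 n44216 = n30336 := d22_1 D44216 (iv D30336) (iv F128675)
theorem F184713 : act 7 n44216 = n30326 := d42_1 D44216 (iv D30326) D30325
def n44218 : Q := act 9 n30326
theorem D44218 : act 9 n30326 = n44218 := rfl
theorem F184718 : act 1 n44218 = n30861 := d16_1 D44218 (iv D30861) (iv F128680)
theorem F184719 : act 2 n44218 = n30337 := d23_1 D44218 (iv D30337) (iv F128681)
theorem F184720 : act 5 n44218 = n44218 := d38_1 D44218 (iv D44218) F128682
theorem F184721 : act 6 n44218 = n30328 := d41_1 D44218 (iv D30328) (iv F128683)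
theorem F184722 : act 8 n44218 = n30376 := d44_1 D44218 (iv D30376) (iv D20858) (iv F89851) D30326
def n44219 : Q := act 4 n30327
theorem D44219 : act 4 n30327 = n44219 := rfl
theorem F184723 : act 1 n44219 = n30862 := d11_1 D44219 (iv D30862) (iv F128684)
theorem F184725 : act 8 n44219 = n33129 := d33_2 (iv F128687) D44219 (iv D33129)
def n44220 : Q := act 9 n30327
theorem D44220 : act 9 n30327 = n44220 := rfl
theorem F184726 : act 1 n44220 = n30863 := d16_1 D44220 (iv D30863) (iv F128684)
theorem F184727 : act 3 n44220 = n30328 := d29_1 D44220 (iv D30328) D30327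
def n44224 : Q := act 7 n30331
theorem D44224 : act 7 n30331 = n44224 := rfl
theorem F184744 : act 5 n44224 = n30332 := d36_1 D44224 (iv D30332) D30331
theorem F184745 : act 9 n44224 = n30382 := d43_2 (iv F128703) D44224 (iv D30382)
def n44225 : Q := act 8 n30331
theorem D44225 : act 8 n30331 = n44225 := rfl
theorem F184748 : act 5 n44225 = n30333 := d37_1 D44225 (iv D30333) D30331
def n44226 : Q := act 8 n30332
theorem D44226 : act 8 n30332 = n44226 := rfl
theorem F184751 : act 6 n44226 = n30475 := d40_1 D44226 (iv D30475) (iv F128706)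
theorem F184752 : act 7 n44226 = n30333 := d42_1 D44226 (iv D30333) D30332
def n44228 : Q := act 9 n30333
theorem D44228 : act 9 n30333 = n44228 := rfl
theorem F184756 : act 4 n44228 = n30337 := d34_1 D44228 (iv D30337) (iv F128709)
theorem F184757 : act 6 n44228 = n30335 := d41_1 D44228 (iv D30335) (iv F128710)
theorem F184758 : act 8 n44228 = n30386 := d44_1 D44228 (iv D30386) (iv D20865) (iv F89867) D30333
def n44229 : Q := act 2 n30334
theorem D44229 : act 2 n30334 = n44229 := rfl
theorem F184759 : act 7 n44229 = n30478 := d21_2 (iv F128712) D44229 (iv D30478)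
def n44230 : Q := act 9 n30334
theorem D44230 : act 9 n30334 = n44230 := rfl
theorem F184761 : act 3 n44230 = n30335 := d29_1 D44230 (iv D30335) D30334
theorem F184762 : act 7 n44230 = n30479 := d43_1 D44230 (iv D30479) (iv F128712)
def n44231 : Q := act 9 n30336
theorem D44231 : act 9 n30336 = n44231 := rfl
theorem F184765 : act 6 n44231 = n30480 := d41_1 D44231 (iv D30480) (iv F128719)
theorem F184766 : act 7 n44231 = n30337 := d43_1 D44231 (iv D30337) (iv F128720)
theorem F184767 : act 8 n44231 = n30389 := d44_1 D44231 (iv D30389) (iv D20868) (iv F89875) D30336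
def n44232 : Q := act 6 n30338
theorem D44232 : act 6 n30338 = n44232 := rfl
theorem F184771 : act 5 n44232 = n30481 := d35_1 D44232 (iv D30481) F90272 (iv F89890) (iv F128728)
theorem F184772 : act 9 n44232 = n30390 := d41_2 (iv F128729) D44232 (iv D30390)
def n44233 : Q := act 8 n30338
theorem D44233 : act 8 n30338 = n44233 := rfl
theorem F184776 : act 5 n44233 = n30340 := d37_1 D44233 (iv D30340) (iv F128728)
theorem F184777 : act 7 n44233 = n30339 := d42_1 D44233 (iv D30339) D30338
def n44235 : Q := act 9 n30339
theorem D44235 : act 9 n30339 = n44235 := rfl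
theorem F184784 : act 8 n44235 = n30393 := d44_1 D44235 (iv D30393) (iv D20871) (iv F89886) D30339
def n44237 : Q := act 9 n30340
theorem D44237 : act 9 n30340 = n44237 := rfl
theorem F184793 : act 8 n44237 = n30395 := d44_1 D44237 (iv D30395) (iv D20872) (iv F89891) D30340
def n44240 : Q := act 1 n30343
theorem D44240 : act 1 n30343 = n44240 := rfl
theorem F184800 : act 3 n44240 = n30883 := d10_2 (iv F128747) D44240 (iv D30883)
def n44242 : Q := act 8 n30344
theorem D44242 : act 8 n30344 = n44242 := rfl
theorem F184808 : act 7 n44242 = n30491 := d42_1 D44242 (iv D30491) (iv F128751)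
def n44243 : Q := act 3 n30346
theorem D44243 : act 3 n30346 = n44243 := rfl
theorem F184811 : act 4 n44243 = n33153 := d24_2 D30346 D44243 (iv D33153) (iv D22751) (iv F89916)
def n44244 : Q := act 6 n30346
theorem D44244 : act 6 n30346 = n44244 := rfl
theorem F184816 : act 4 n44244 = n30347 := d31_1 D44244 (iv D30347) D30346
def n44245 : Q := act 8 n30346
theorem D44245 : act 8 n30346 = n44245 := rfl
theorem F184817 : act 0 n44245 = n30888 := d7_1 D44245 (iv D30888) (iv F128758)
theorem F184818 : act 1 n44245 = n30353 := d15_1 D44245 (iv D30353) (iv F128759)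
theorem F184819 : act 2 n44245 = n44245 := d22_1 D44245 (iv D44245) F128760
theorem F184820 : act 4 n44245 = n30348 := d33_1 D44245 (iv D30348) D30346
theorem F184821 : act 7 n44245 = n30494 := d42_1 D44245 (iv D30494) (iv F128761)
def n44246 : Q := act 7 n30347
theorem D44246 : act 7 n30347 = n44246 := rfl
theorem F184822 : act 0 n44246 = n30889 := d6_1 D44246 (iv D30889) (iv F128762)
theorem F184823 : act 1 n44246 = n30354 := d14_1 D44246 (iv D30354) (iv F128763)
def n44247 : Q := act 8 n30347
theorem D44247 : act 8 n30347 = n44247 := rfl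
theorem F184829 : act 1 n44247 = n30355 := d15_1 D44247 (iv D30355) (iv F128763)
theorem F184832 : act 6 n44247 = n30348 := d40_1 D44247 (iv D30348) D30347
def n44248 : Q := act 3 n30348
theorem D44248 : act 3 n30348 = n44248 := rfl
theorem F184834 : act 1 n44248 = n30356 := d10_1 D44248 (iv D30356) (iv F128768)
theorem F184837 : act 8 n44248 = n33158 := d28_2 D30348 D44248 (iv D33158) (iv D22753) (iv F89916)
def n44249 : Q := act 9 n30348
theorem D44249 : act 9 n30348 = n44249 := rfl
theorem F184838 : act 0 n44249 = n30892 := d8_1 D44249 (iv D30892) (iv F128767)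
theorem F184839 : act 1 n44249 = n30357 := d16_1 D44249 (iv D30357) (iv F128768)
theorem F184840 : act 2 n44249 = n44249 := d23_1 D44249 (iv D44249) F128769
theorem F184841 : act 5 n44249 = n30350 := d38_1 D44249 (iv D30350) (iv F128770)
theorem F184842 : act 7 n44249 = n30498 := d43_1 D44249 (iv D30498) (iv F128771)
def n44252 : Q := act 9 n30349
theorem D44252 : act 9 n30349 = n44252 := rfl
theorem F184855 : act 1 n44252 = n30359 := d16_1 D44252 (iv D30359) (iv F128773)
theorem F184856 : act 3 n44252 = n30350 := d29_1 D44252 (iv D30350) D30349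
def n44254 : Q := act 8 n30351
theorem D44254 : act 8 n30351 = n44254 := rfl
theorem F184862 : act 0 n44254 = n30368 := d7_1 D44254 (iv D30368) (iv F128782)
theorem F184864 : act 7 n44254 = n30503 := d42_1 D44254 (iv D30503) (iv F128784)
def n44255 : Q := act 5 n30352
theorem D44255 : act 5 n30352 = n44255 := rfl
theorem F184865 : act 0 n44255 = n30369 := d4_1 D44255 (iv D30369) (iv F128785)
theorem F184866 : act 2 n44255 = n30360 := d19_1 D44255 (iv D30360) (iv F128786)
def n44256 : Q := act 7 n30352
theorem D44256 : act 7 n30352 = n44256 := rfl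
theorem F184868 : act 0 n44256 = n30370 := d6_1 D44256 (iv D30370) (iv F128785)
theorem F184870 : act 4 n44256 = n30354 := d32_1 D44256 (iv D30354) (iv F128787)
def n44257 : Q := act 8 n30352
theorem D44257 : act 8 n30352 = n44257 := rfl
theorem F184872 : act 0 n44257 = n30371 := d7_1 D44257 (iv D30371) (iv F128785)
theorem F184873 : act 2 n44257 = n30362 := d22_1 D44257 (iv D30362) (iv F128786)
theorem F184874 : act 4 n44257 = n30355 := d33_1 D44257 (iv D30355) (iv F128787)
theorem F184875 : act 6 n44257 = n30353 := d40_1 D44257 (iv D30353) D30352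
def n44258 : Q := act 3 n30353
theorem D44258 : act 3 n30353 = n44258 := rfl
theorem F184876 : act 0 n44258 = n30372 := d2_1 D44258 (iv D30372) (iv F128788)
theorem F184877 : act 7 n44258 = n30507 := d27_2 (iv F128791) D44258 (iv D30507)
def n44259 : Q := act 9 n30353
theorem D44259 : act 9 n30353 = n44259 := rfl
theorem F184878 : act 0 n44259 = n30373 := d8_1 D44259 (iv D30373) (iv F128788)
theorem F184879 : act 2 n44259 = n30364 := d23_1 D44259 (iv D30364) (iv F128789)
theorem F184880 : act 4 n44259 = n30357 := d34_1 D44259 (iv D30357) (iv F128790)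
theorem F184881 : act 7 n44259 = n30508 := d43_1 D44259 (iv D30508) (iv F128791)
def n44260 : Q := act 8 n30354
theorem D44260 : act 8 n30354 = n44260 := rfl
theorem F184883 : act 2 n44260 = n30365 := d22_1 D44260 (iv D30365) (iv F128793)
theorem F184886 : act 7 n44260 = n30355 := d42_1 D44260 (iv D30355) D30354
def n44261 : Q := act 3 n30355
theorem D44261 : act 3 n30355 = n44261 := rfl
theorem F184890 : act 6 n44261 = n30356 := d26_2 (iv F128800) D44261 (iv D30356)
theorem F184891 : act 8 n44261 = n33171 := d28_2 D30355 D44261 (iv D33171) (iv D22760) (iv F89928)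
def n44262 : Q := act 9 n30355
theorem D44262 : act 9 n30355 = n44262 := rfl
theorem F184892 : act 0 n44262 = n30376 := d8_1 D44262 (iv D30376) (iv F128797)
theorem F184893 : act 2 n44262 = n30366 := d23_1 D44262 (iv D30366) (iv F128798)
theorem F184894 : act 5 n44262 = n44262 := d38_1 D44262 (iv D44262) F128799
theorem F184895 : act 6 n44262 = n30357 := d41_1 D44262 (iv D30357) (iv F128800)
def n44263 : Q := act 4 n30356
theorem D44263 : act 4 n30356 = n44263 := rfl
theorem F184896 : act 0 n44263 = n30377 := d3_1 D44263 (iv D30377) (iv F128801)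
theorem F184897 : act 2 n44263 = n44263 := d18_1 D44263 (iv D44263) F128802
theorem F184898 : act 7 n44263 = n30512 := d32_2 (iv F128804) D44263 (iv D30512)
theorem F184899 : act 8 n44263 = n33173 := d33_2 (iv F128805) D44263 (iv D33173)
def n44264 : Q := act 9 n30356
theorem D44264 : act 9 n30356 = n44264 := rfl
theorem F184900 : act 0 n44264 = n30378 := d8_1 D44264 (iv D30378) (iv F128801)
theorem F184901 : act 2 n44264 = n44264 := d23_1 D44264 (iv D44264) F128802
theorem F184902 : act 3 n44264 = n30357 := d29_1 D44264 (iv D30357) D30356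
theorem F184903 : act 5 n44264 = n30359 := d38_1 D44264 (iv D30359) (iv F128803)
theorem F184904 : act 7 n44264 = n30513 := d43_1 D44264 (iv D30513) (iv F128804)
def n44265 : Q := act 5 n30358
theorem D44265 : act 5 n30358 = n44265 := rfl
theorem F184905 : act 0 n44265 = n30379 := d4_1 D44265 (iv D30379) (iv F128810)
def n44266 : Q := act 9 n30358
theorem D44266 : act 9 n30358 = n44266 := rfl
theorem F184909 : act 0 n44266 = n30380 := d8_1 D44266 (iv D30380) (iv F128810)
theorem F184911 : act 4 n44266 = n30359 := d34_1 D44266 (iv D30359) D30358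
def n44267 : Q := act 8 n30359
theorem D44267 : act 8 n30359 = n44267 := rfl
theorem F184918 : act 9 n44267 = n33177 := d44_2 D30359 D44267 (iv D33177) (iv D22764) (iv F89938)
def n44268 : Q := act 7 n30360
theorem D44268 : act 7 n30360 = n44268 := rfl
theorem F184919 : act 0 n44268 = n30382 := d6_1 D44268 (iv D30382) (iv F128820)
theorem F184922 : act 5 n44268 = n30361 := d36_1 D44268 (iv D30361) D30360
def n44269 : Q := act 8 n30360
theorem D44269 : act 8 n30360 = n44269 := rfl
theorem F184923 : act 0 n44269 = n30383 := d7_1 D44269 (iv D30383) (iv F128820)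
theorem F184924 : act 1 n44269 = n44269 := d15_1 D44269 (iv D44269) F128821
theorem F184925 : act 4 n44269 = n44269 := d33_1 D44269 (iv D44269) F128822
theorem F184926 : act 5 n44269 = n30362 := d37_1 D44269 (iv D30362) D30360
def n44270 : Q := act 8 n30361
theorem D44270 : act 8 n30361 = n44270 := rfl
theorem F184927 : act 0 n44270 = n30384 := d7_1 D44270 (iv D30384) (iv F128823)
theorem F184929 : act 4 n44270 = n30365 := d33_1 D44270 (iv D30365) (iv F128825)
theorem F184930 : act 6 n44270 = n30519 := d40_1 D44270 (iv D30519) (iv F128826)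
theorem F184931 : act 7 n44270 = n30362 := d42_1 D44270 (iv D30362) D30361
def n44271 : Q := act 3 n30362
theorem D44271 : act 3 n30362 = n44271 := rfl
theorem F184932 : act 0 n44271 = n30385 := d2_1 D44271 (iv D30385) (iv F128827)
theorem F184933 : act 1 n44271 = n44271 := d10_1 D44271 (iv D44271) F128828
theorem F184934 : act 4 n44271 = n44271 := d24_2 (iv F128829) D44271 (iv D44271) F128829 F89957
theorem F184935 : act 6 n44271 = n30363 := d26_2 (iv F128830) D44271 (iv D30363)
def n44272 : Q := act 9 n30362
theorem D44272 : act 9 n30362 = n44272 := rfl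
theorem F184936 : act 0 n44272 = n30386 := d8_1 D44272 (iv D30386) (iv F128827)
theorem F184937 : act 1 n44272 = n44272 := d16_1 D44272 (iv D44272) F128828
theorem F184938 : act 4 n44272 = n30366 := d34_1 D44272 (iv D30366) (iv F128829)
theorem F184939 : act 6 n44272 = n30364 := d41_1 D44272 (iv D30364) (iv F128830)
def n44273 : Q := act 2 n30363
theorem D44273 : act 2 n30363 = n44273 := rfl
theorem F184940 : act 0 n44273 = n30387 := d1_1 D44273 (iv D30387) (iv F128831)
theorem F184942 : act 7 n44273 = n30522 := d21_2 (iv F128834) D44273 (iv D30522)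
def n44274 : Q := act 9 n30363
theorem D44274 : act 9 n30363 = n44274 := rfl
theorem F184943 : act 0 n44274 = n30388 := d8_1 D44274 (iv D30388) (iv F128831)
theorem F184944 : act 1 n44274 = n44274 := d16_1 D44274 (iv D44274) F128832
theorem F184945 : act 3 n44274 = n30364 := d29_1 D44274 (iv D30364) D30363
theorem F184946 : act 4 n44274 = n44274 := d34_1 D44274 (iv D44274) F128833
theorem F184947 : act 7 n44274 = n30523 := d43_1 D44274 (iv D30523) (iv F128834)
def n44275 : Q := act 9 n30365
theorem D44275 : act 9 n30365 = n44275 := rfl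
theorem F184948 : act 0 n44275 = n30389 := d8_1 D44275 (iv D30389) (iv F128839)
theorem F184949 : act 1 n44275 = n44275 := d16_1 D44275 (iv D44275) F128840
theorem F184950 : act 3 n44275 = n44275 := d29_1 D44275 (iv D44275) F128841
theorem F184951 : act 5 n44275 = n44275 := d38_1 D44275 (iv D44275) F128842
theorem F184952 : act 6 n44275 = n30524 := d41_1 D44275 (iv D30524) (iv F128843)
theorem F184953 : act 7 n44275 = n30366 := d43_1 D44275 (iv D30366) (iv F128844)
def n44276 : Q := act 5 n30367
theorem D44276 : act 5 n30367 = n44276 := rfl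
theorem F184954 : act 1 n44276 = n30919 := d12_1 D44276 (iv D30919) (iv F128850)
theorem F184955 : act 3 n44276 = n30369 := d25_1 D44276 (iv D30369) (iv F128851)
def n44277 : Q := act 7 n30367
theorem D44277 : act 7 n30367 = n44277 := rfl
theorem F184959 : act 6 n44277 = n30526 := d39_1 D44277 (iv D30526) (iv D20960) (iv F89967) D30367
def n44278 : Q := act 8 n30367
theorem D44278 : act 8 n30367 = n44278 := rfl
theorem F184962 : act 6 n44278 = n30368 := d40_1 D44278 (iv D30368) D30367
def n44279 : Q := act 3 n30368
theorem D44279 : act 3 n30368 = n44279 := rfl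
theorem F184963 : act 1 n44279 = n30922 := d10_1 D44279 (iv D30922) (iv F128853)
theorem F184964 : act 7 n44279 = n30528 := d27_2 (iv F128855) D44279 (iv D30528)
theorem F184965 : act 8 n44279 = n30372 := d28_2 D30368 D44279 (iv D30372) (iv D20856) D20854
def n44280 : Q := act 9 n30368
theorem D44280 : act 9 n30368 = n44280 := rfl
theorem F184966 : act 1 n44280 = n30923 := d16_1 D44280 (iv D30923) (iv F128853)
theorem F184968 : act 7 n44280 = n30529 := d43_1 D44280 (iv D30529) (iv F128855)
def n44281 : Q := act 7 n30369
theorem D44281 : act 7 n30369 = n44281 := rfl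
theorem F184969 : act 1 n44281 = n30924 := d14_1 D44281 (iv D30924) (iv F128856)
theorem F184972 : act 5 n44281 = n30370 := d36_1 D44281 (iv D30370) D30369
def n44282 : Q := act 8 n30369
theorem D44282 : act 8 n30369 = n44282 := rfl
theorem F184973 : act 1 n44282 = n30925 := d15_1 D44282 (iv D30925) (iv F128856)
theorem F184974 : act 2 n44282 = n30383 := d22_1 D44282 (iv D30383) (iv F128857)
theorem F184975 : act 4 n44282 = n44282 := d33_1 D44282 (iv D44282) F128858
theorem F184976 : act 5 n44282 = n30371 := d37_1 D44282 (iv D30371) D30369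
def n44283 : Q := act 8 n30370
theorem D44283 : act 8 n30370 = n44283 := rfl
theorem F184977 : act 1 n44283 = n30926 := d15_1 D44283 (iv D30926) (iv F128859)
theorem F184981 : act 7 n44283 = n30371 := d42_1 D44283 (iv D30371) D30370
def n44284 : Q := act 3 n30371
theorem D44284 : act 3 n30371 = n44284 := rfl
theorem F184982 : act 1 n44284 = n30927 := d10_1 D44284 (iv D30927) (iv F128863)
theorem F184983 : act 6 n44284 = n30372 := d26_2 (iv F128866) D44284 (iv D30372)
def n44285 : Q := act 9 n30371
theorem D44285 : act 9 n30371 = n44285 := rfl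
theorem F184984 : act 1 n44285 = n30928 := d16_1 D44285 (iv D30928) (iv F128863)
theorem F184985 : act 2 n44285 = n30386 := d23_1 D44285 (iv D30386) (iv F128864)
theorem F184986 : act 4 n44285 = n30376 := d34_1 D44285 (iv D30376) (iv F128865)
theorem F184987 : act 6 n44285 = n30373 := d41_1 D44285 (iv D30373) (iv F128866)
def n44286 : Q := act 2 n30372
theorem D44286 : act 2 n30372 = n44286 := rfl
theorem F184988 : act 3 n44286 = n30387 := d17_2 D30372 D44286 (iv D30387) (iv D20866) (iv F89972)
theorem F184989 : act 7 n44286 = n30535 := d21_2 (iv F128868) D44286 (iv D30535)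
def n44287 : Q := act 4 n30372
theorem D44287 : act 4 n30372 = n44287 := rfl
theorem F184990 : act 1 n44287 = n30930 := d11_1 D44287 (iv D30930) (iv F128867)
theorem F184991 : act 3 n44287 = n30377 := d24_1 D44287 (iv D30377) (iv D20859) (iv F89973) D30372
theorem F184992 : act 7 n44287 = n30536 := d32_2 (iv F128868) D44287 (iv D30536)
def n44288 : Q := act 9 n30372
theorem D44288 : act 9 n30372 = n44288 := rfl
theorem F184993 : act 1 n44288 = n30931 := d16_1 D44288 (iv D30931) (iv F128867)
theorem F184994 : act 3 n44288 = n30373 := d29_1 D44288 (iv D30373) D30372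
theorem F184995 : act 7 n44288 = n30537 := d43_1 D44288 (iv D30537) (iv F128868)
def n44290 : Q := act 9 n30374
theorem D44290 : act 9 n30374 = n44290 := rfl
theorem F185002 : act 1 n44290 = n30933 := d16_1 D44290 (iv D30933) (iv F128873)
theorem F185006 : act 7 n44290 = n30376 := d43_1 D44290 (iv D30376) (iv F128877)
def n44293 : Q := act 5 n30377
theorem D44293 : act 5 n30377 = n44293 := rfl
theorem F185016 : act 1 n44293 = n30936 := d12_1 D44293 (iv D30936) (iv F128887)
theorem F185017 : act 2 n44293 = n44293 := d19_1 D44293 (iv D44293) F128888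
theorem F185018 : act 4 n44293 = n30379 := d30_1 D44293 (iv D30379) (iv D20861) (iv F89986) D30377
theorem F185019 : act 7 n44293 = n30542 := d36_2 (iv F128889) D44293 (iv D30542)
def n44294 : Q := act 9 n30377
theorem D44294 : act 9 n30377 = n44294 := rfl
theorem F185021 : act 1 n44294 = n30937 := d16_1 D44294 (iv D30937) (iv F128887)
theorem F185022 : act 2 n44294 = n44294 := d23_1 D44294 (iv D44294) F128888
theorem F185023 : act 4 n44294 = n30378 := d34_1 D44294 (iv D30378) D30377
theorem F185024 : act 7 n44294 = n30543 := d43_1 D44294 (iv D30543) (iv F128889)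
def n44295 : Q := act 8 n30378
theorem D44295 : act 8 n30378 = n44295 := rfl
theorem F185029 : act 9 n44295 = n33205 := d44_2 D30378 D44295 (iv D33205) (iv D22783) (iv F89988)
def n44296 : Q := act 6 n30379
theorem D44296 : act 6 n30379 = n44296 := rfl
theorem F185030 : act 1 n44296 = n30939 := d13_1 D44296 (iv D30939) (iv F128896)
theorem F185031 : act 2 n44296 = n44296 := d20_1 D44296 (iv D44296) F128897
theorem F185032 : act 5 n44296 = n44296 := d35_1 D44296 (iv D44296) (iv D30379) F89995 D30379
theorem F185033 : act 8 n44296 = n33206 := d40_2 (iv F128899) D44296 (iv D33206)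
def n44297 : Q := act 9 n30379
theorem D44297 : act 9 n30379 = n44297 := rfl
theorem F185034 : act 1 n44297 = n30940 := d16_1 D44297 (iv D30940) (iv F128896)
theorem F185035 : act 2 n44297 = n44297 := d23_1 D44297 (iv D44297) F128897
theorem F185036 : act 5 n44297 = n30380 := d38_1 D44297 (iv D30380) D30379
theorem F185037 : act 7 n44297 = n30546 := d43_1 D44297 (iv D30546) (iv F128898)
def n44298 : Q := act 8 n30380
theorem D44298 : act 8 n30380 = n44298 := rfl
theorem F185043 : act 9 n44298 = n33208 := d44_2 D30380 D44298 (iv D33208) (iv D22785) (iv F89997)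
def n44299 : Q := act 6 n30382
theorem D44299 : act 6 n30382 = n44299 := rfl
theorem F185046 : act 5 n44299 = n30548 := d35_1 D44299 (iv D30548) F90427 (iv F90007) (iv F128912)
def n44300 : Q := act 8 n30382
theorem D44300 : act 8 n30382 = n44300 := rfl
theorem F185049 : act 5 n44300 = n30384 := d37_1 D44300 (iv D30384) (iv F128912)
theorem F185050 : act 7 n44300 = n30383 := d42_1 D44300 (iv D30383) D30382
def n44301 : Q := act 3 n30383
theorem D44301 : act 3 n30383 = n44301 := rfl
theorem F185051 : act 1 n44301 = n30392 := d10_1 D44301 (iv D30392) (iv F128913)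
theorem F185052 : act 5 n44301 = n30385 := d25_2 (iv F128915) D44301 (iv D30385)
def n44302 : Q := act 9 n30383
theorem D44302 : act 9 n30383 = n44302 := rfl
theorem F185053 : act 1 n44302 = n30393 := d16_1 D44302 (iv D30393) (iv F128913)
theorem F185054 : act 4 n44302 = n44302 := d34_1 D44302 (iv D44302) F128914
theorem F185055 : act 5 n44302 = n30386 := d38_1 D44302 (iv D30386) (iv F128915)
def n44303 : Q := act 3 n30384
theorem D44303 : act 3 n30384 = n44303 := rfl
theorem F185056 : act 1 n44303 = n30394 := d10_1 D44303 (iv D30394) (iv F128916)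
theorem F185057 : act 4 n44303 = n44303 := d24_2 (iv F128917) D44303 (iv D44303) F128917 F90018
theorem F185058 : act 6 n44303 = n30552 := d26_2 (iv F128918) D44303 (iv D30552)
theorem F185059 : act 7 n44303 = n30385 := d27_2 (iv F128919) D44303 (iv D30385)
def n44304 : Q := act 9 n30384
theorem D44304 : act 9 n30384 = n44304 := rfl
theorem F185060 : act 1 n44304 = n30395 := d16_1 D44304 (iv D30395) (iv F128916)
theorem F185061 : act 4 n44304 = n30389 := d34_1 D44304 (iv D30389) (iv F128917)
theorem F185062 : act 6 n44304 = n30553 := d41_1 D44304 (iv D30553) (iv F128918)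
theorem F185063 : act 7 n44304 = n30386 := d43_1 D44304 (iv D30386) (iv F128919)
def n44305 : Q := act 2 n30385
theorem D44305 : act 2 n30385 = n44305 := rfl
theorem F185064 : act 4 n44305 = n44305 := d18_2 F128921 D44305 (iv D44305)
theorem F185065 : act 6 n44305 = n30387 := d20_2 (iv F128922) D44305 (iv D30387)
def n44306 : Q := act 9 n30385
theorem D44306 : act 9 n30385 = n44306 := rfl
theorem F185066 : act 1 n44306 = n30397 := d16_1 D44306 (iv D30397) (iv F128920)
theorem F185067 : act 3 n44306 = n30386 := d29_1 D44306 (iv D30386) D30385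
theorem F185068 : act 4 n44306 = n44306 := d34_1 D44306 (iv D44306) F128921
theorem F185069 : act 6 n44306 = n30388 := d41_1 D44306 (iv D30388) (iv F128922)
def n44307 : Q := act 1 n30387
theorem D44307 : act 1 n30387 = n44307 := rfl
theorem F185070 : act 2 n44307 = n30398 := d9_2 D30387 D44307 (iv D30398) (iv D20875) (iv F90011)
theorem F185071 : act 4 n44307 = n44307 := d11_2 F128926 D44307 (iv D44307)
theorem F185072 : act 7 n44307 = n30556 := d14_2 (iv F128927) D44307 (iv D30556)
def n44308 : Q := act 9 n30387
theorem D44308 : act 9 n30387 = n44308 := rfl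
theorem F185073 : act 2 n44308 = n30388 := d23_1 D44308 (iv D30388) D30387
theorem F185074 : act 4 n44308 = n44308 := d34_1 D44308 (iv D44308) F128926
theorem F185075 : act 7 n44308 = n30557 := d43_1 D44308 (iv D30557) (iv F128927)
def n44309 : Q := act 8 n30388
theorem D44309 : act 8 n30388 = n44309 := rfl
theorem F185076 : act 1 n44309 = n30400 := d15_1 D44309 (iv D30400) (iv F128928)
theorem F185078 : act 7 n44309 = n30558 := d42_1 D44309 (iv D30558) (iv F128931)
def n44310 : Q := act 8 n30390
theorem D44310 : act 8 n30390 = n44310 := rfl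
theorem F185080 : act 2 n44310 = n30953 := d22_1 D44310 (iv D30953) (iv F128938)
theorem F185082 : act 5 n44310 = n30559 := d37_1 D44310 (iv D30559) (iv F128940)
def n44311 : Q := act 3 n30391
theorem D44311 : act 3 n30391 = n44311 := rfl
theorem F185085 : act 5 n44311 = n30394 := d25_2 (iv F128944) D44311 (iv D30394)
theorem F185086 : act 7 n44311 = n30392 := d27_2 (iv F128945) D44311 (iv D30392)
def n44315 : Q := act 9 n30392
theorem D44315 : act 9 n30392 = n44315 := rfl
theorem F185099 : act 3 n44315 = n30393 := d29_1 D44315 (iv D30393) D30392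
theorem F185100 : act 5 n44315 = n30397 := d38_1 D44315 (iv D30397) (iv F128947)
def n44316 : Q := act 2 n30394
theorem D44316 : act 2 n30394 = n44316 := rfl
theorem F185102 : act 3 n44316 = n30959 := d17_2 D30394 D44316 (iv D30959) (iv D21250) (iv F90035)
theorem F185104 : act 6 n44316 = n30565 := d20_2 (iv F128954) D44316 (iv D30565)
theorem F185105 : act 7 n44316 = n30396 := d21_2 (iv F128955) D44316 (iv D30396)
def n44317 : Q := act 9 n30394
theorem D44317 : act 9 n30394 = n44317 := rfl
theorem F185107 : act 3 n44317 = n30395 := d29_1 D44317 (iv D30395) D30394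
theorem F185109 : act 6 n44317 = n30566 := d41_1 D44317 (iv D30566) (iv F128954)
theorem F185110 : act 7 n44317 = n30397 := d43_1 D44317 (iv D30397) (iv F128955)
def n44318 : Q := act 1 n30396
theorem D44318 : act 1 n30396 = n44318 := rfl
theorem F185111 : act 3 n44318 = n30961 := d10_2 (iv F128962) D44318 (iv D30961)
theorem F185113 : act 6 n44318 = n30398 := d13_2 (iv F128964) D44318 (iv D30398)
def n44319 : Q := act 9 n30396
theorem D44319 : act 9 n30396 = n44319 := rfl
theorem F185115 : act 2 n44319 = n30397 := d23_1 D44319 (iv D30397) D30396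
theorem F185116 : act 3 n44319 = n30962 := d29_1 D44319 (iv D30962) (iv F128962)
theorem F185118 : act 6 n44319 = n30399 := d41_1 D44319 (iv D30399) (iv F128964)
def n44320 : Q := act 8 n30397
theorem D44320 : act 8 n30397 = n44320 := rfl
theorem F185121 : act 6 n44320 = n30400 := d40_1 D44320 (iv D30400) (iv F128968)
def n44321 : Q := act 0 n30398
theorem D44321 : act 0 n30398 = n44321 := rfl
theorem F185122 : act 1 n44321 = n44321 := d0_2 D30398 D44321 (iv D44321) (iv D30398) F90046
theorem F185123 : act 3 n44321 = n30964 := d2_2 (iv F128969) D44321 (iv D30964)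
theorem F185124 : act 4 n44321 = n44321 := d3_2 F128970 D44321 (iv D44321)
theorem F185125 : act 7 n44321 = n30570 := d6_2 (iv F128971) D44321 (iv D30570)
def n44322 : Q := act 9 n30398
theorem D44322 : act 9 n30398 = n44322 := rfl
theorem F185126 : act 1 n44322 = n30399 := d16_1 D44322 (iv D30399) D30398
theorem F185127 : act 3 n44322 = n30965 := d29_1 D44322 (iv D30965) (iv F128969)
theorem F185128 : act 4 n44322 = n44322 := d34_1 D44322 (iv D44322) F128970
theorem F185129 : act 7 n44322 = n30571 := d43_1 D44322 (iv D30571) (iv F128971)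
def n44323 : Q := act 8 n30399
theorem D44323 : act 8 n30399 = n44323 := rfl
theorem F185133 : act 7 n44323 = n30572 := d42_1 D44323 (iv D30572) (iv F128976)
def n44363 : Q := act 3 n30424
theorem D44363 : act 3 n30424 = n44363 := rfl
theorem F185304 : act 4 n44363 = n30476 := d24_2 (iv F129080) D44363 (iv D30476) F90256 (iv F90131)
def n44364 : Q := act 9 n30424
theorem D44364 : act 9 n30424 = n44364 := rfl
theorem F185306 : act 1 n44364 = n30433 := d16_1 D44364 (iv D30433) (iv F129079)
def n44365 : Q := act 2 n30425
theorem D44365 : act 2 n30425 = n44365 := rfl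
theorem F185310 : act 4 n44365 = n30478 := d18_2 (iv F129083) D44365 (iv D30478)
def n44366 : Q := act 9 n30425
theorem D44366 : act 9 n30425 = n44366 := rfl
theorem F185312 : act 1 n44366 = n30435 := d16_1 D44366 (iv D30435) (iv F129082)
theorem F185314 : act 4 n44366 = n30479 := d34_1 D44366 (iv D30479) (iv F129083)
def n44367 : Q := act 9 n30427
theorem D44367 : act 9 n30427 = n44367 := rfl
theorem F185316 : act 1 n44367 = n30436 := d16_1 D44367 (iv D30436) (iv F129089)
theorem F185317 : act 3 n44367 = n30480 := d29_1 D44367 (iv D30480) (iv F129090)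
def n44369 : Q := act 8 n30429
theorem D44369 : act 8 n30429 = n44369 := rfl
theorem F185328 : act 4 n44369 = n30618 := d33_1 D44369 (iv D30618) (iv F129100)
theorem F185329 : act 5 n44369 = n30431 := d37_1 D44369 (iv D30431) (iv F129101)
def n44372 : Q := act 3 n30431
theorem D44372 : act 3 n30431 = n44372 := rfl
theorem F185341 : act 4 n44372 = n30485 := d24_2 (iv F129110) D44372 (iv D30485) F90280 (iv F90161)
def n44374 : Q := act 2 n30432
theorem D44374 : act 2 n30432 = n44374 := rfl
theorem F185350 : act 4 n44374 = n30487 := d18_2 (iv F129113) D44374 (iv D30487)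
def n44376 : Q := act 1 n30434
theorem D44376 : act 1 n30434 = n44376 := rfl
theorem F185357 : act 4 n44376 = n30489 := d11_2 (iv F129122) D44376 (iv D30489)
def n44378 : Q := act 8 n30435
theorem D44378 : act 8 n30435 = n44378 := rfl
theorem F185366 : act 4 n44378 = n30491 := d33_1 D44378 (iv D30491) (iv F129126)
def n44379 : Q := act 3 n30437
theorem D44379 : act 3 n30437 = n44379 := rfl
theorem F185371 : act 9 n44379 = n30492 := d29_2 (iv F129137) D44379 (iv D30492)
def n44380 : Q := act 6 n30437
theorem D44380 : act 6 n30437 = n44380 := rfl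
theorem F185373 : act 1 n44380 = n30443 := d13_1 D44380 (iv D30443) (iv F129135)
theorem F185376 : act 9 n44380 = n30493 := d41_2 (iv F129137) D44380 (iv D30493)
def n44382 : Q := act 7 n30438
theorem D44382 : act 7 n30438 = n44382 := rfl
theorem F185381 : act 0 n44382 = n30970 := d6_1 D44382 (iv D30970) (iv F129138)
theorem F185382 : act 1 n44382 = n30445 := d14_1 D44382 (iv D30445) (iv F129139)
theorem F185386 : act 9 n44382 = n30495 := d43_2 (iv F129143) D44382 (iv D30495)
def n44384 : Q := act 3 n30439
theorem D44384 : act 3 n30439 = n44384 := rfl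
theorem F185395 : act 8 n44384 = n33330 := d28_2 D30439 D44384 (iv D33330) (iv D22869) (iv F90173)
def n44385 : Q := act 9 n30439
theorem D44385 : act 9 n30439 = n44385 := rfl
theorem F185400 : act 8 n44385 = n30498 := d44_1 D44385 (iv D30498) (iv D20941) (iv F90174) D30439
def n44386 : Q := act 2 n30440
theorem D44386 : act 2 n30440 = n44386 := rfl
theorem F185404 : act 8 n44386 = n33332 := d22_2 (iv F129151) D44386 (iv D33332)
def n44390 : Q := act 8 n30442
theorem D44390 : act 8 n30442 = n44390 := rfl
theorem F185417 : act 0 n44390 = n30459 := d7_1 D44390 (iv D30459) (iv F129157)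
def n44391 : Q := act 5 n30443
theorem D44391 : act 5 n30443 = n44391 := rfl
theorem F185419 : act 0 n44391 = n30460 := d4_1 D44391 (iv D30460) (iv F129160)
theorem F185422 : act 9 n44391 = n30504 := d38_2 (iv F129163) D44391 (iv D30504)
def n44392 : Q := act 7 n30443
theorem D44392 : act 7 n30443 = n44392 := rfl
theorem F185423 : act 0 n44392 = n30461 := d6_1 D44392 (iv D30461) (iv F129160)
theorem F185425 : act 4 n44392 = n30445 := d32_1 D44392 (iv D30445) (iv F129162)
theorem F185426 : act 9 n44392 = n30505 := d43_2 (iv F129163) D44392 (iv D30505)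
def n44393 : Q := act 8 n30443
theorem D44393 : act 8 n30443 = n44393 := rfl
theorem F185427 : act 0 n44393 = n30462 := d7_1 D44393 (iv D30462) (iv F129160)
def n44394 : Q := act 3 n30444
theorem D44394 : act 3 n30444 = n44394 := rfl
theorem F185431 : act 0 n44394 = n30463 := d2_1 D44394 (iv D30463) (iv F129164)
def n44395 : Q := act 9 n30444
theorem D44395 : act 9 n30444 = n44395 := rfl
theorem F185432 : act 0 n44395 = n30464 := d8_1 D44395 (iv D30464) (iv F129164)
theorem F185435 : act 8 n44395 = n30508 := d44_1 D44395 (iv D30508) (iv D20946) (iv F90181) D30444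
def n44396 : Q := act 8 n30445
theorem D44396 : act 8 n30445 = n44396 := rfl
theorem F185436 : act 0 n44396 = n30465 := d7_1 D44396 (iv D30465) (iv F129167)
def n44398 : Q := act 9 n30446
theorem D44398 : act 9 n30446 = n44398 := rfl
theorem F185444 : act 0 n44398 = n30467 := d8_1 D44398 (iv D30467) (iv F129172)
theorem F185448 : act 8 n44398 = n30511 := d44_1 D44398 (iv D30511) (iv D20948) (iv F90186) D30446
def n44404 : Q := act 7 n30451
theorem D44404 : act 7 n30451 = n44404 := rfl
theorem F185463 : act 0 n44404 = n30473 := d6_1 D44404 (iv D30473) (iv F129189)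
theorem F185465 : act 4 n44404 = n30653 := d32_1 D44404 (iv D30653) (iv F129191)
theorem F185466 : act 5 n44404 = n30452 := d36_1 D44404 (iv D30452) D30451
theorem F185467 : act 9 n44404 = n30517 := d43_2 (iv F129192) D44404 (iv D30517)
def n44405 : Q := act 8 n30451
theorem D44405 : act 8 n30451 = n44405 := rfl
theorem F185468 : act 0 n44405 = n30474 := d7_1 D44405 (iv D30474) (iv F129189)
def n44406 : Q := act 8 n30452
theorem D44406 : act 8 n30452 = n44406 := rfl
theorem F185472 : act 0 n44406 = n30475 := d7_1 D44406 (iv D30475) (iv F129193)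
def n44407 : Q := act 3 n30453
theorem D44407 : act 3 n30453 = n44407 := rfl
theorem F185476 : act 0 n44407 = n30476 := d2_1 D44407 (iv D30476) (iv F129197)
def n44408 : Q := act 9 n30453
theorem D44408 : act 9 n30453 = n44408 := rfl
theorem F185479 : act 0 n44408 = n30477 := d8_1 D44408 (iv D30477) (iv F129197)
theorem F185483 : act 8 n44408 = n30521 := d44_1 D44408 (iv D30521) (iv D20955) (iv F90200) D30453
def n44409 : Q := act 2 n30454
theorem D44409 : act 2 n30454 = n44409 := rfl
theorem F185484 : act 0 n44409 = n30478 := d1_1 D44409 (iv D30478) (iv F129201)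
def n44410 : Q := act 9 n30454
theorem D44410 : act 9 n30454 = n44410 := rfl
theorem F185485 : act 0 n44410 = n30479 := d8_1 D44410 (iv D30479) (iv F129201)
def n44411 : Q := act 9 n30456
theorem D44411 : act 9 n30456 = n44411 := rfl
theorem F185488 : act 0 n44411 = n30480 := d8_1 D44411 (iv D30480) (iv F129207)
theorem F185492 : act 8 n44411 = n30524 := d44_1 D44411 (iv D30524) (iv D20958) (iv F90208) D30456
def n44412 : Q := act 5 n30458
theorem D44412 : act 5 n30458 = n44412 := rfl
theorem F185493 : act 1 n44412 = n31000 := d12_1 D44412 (iv D31000) (iv F129216)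
theorem F185494 : act 3 n44412 = n30460 := d25_1 D44412 (iv D30460) (iv F129217)
theorem F185495 : act 9 n44412 = n30525 := d38_2 (iv F129219) D44412 (iv D30525)
def n44413 : Q := act 7 n30458
theorem D44413 : act 7 n30458 = n44413 := rfl
theorem F185497 : act 3 n44413 = n30461 := d27_1 D44413 (iv D30461) (iv F129217)
def n44414 : Q := act 8 n30458
theorem D44414 : act 8 n30458 = n44414 := rfl
theorem F185500 : act 1 n44414 = n31002 := d15_1 D44414 (iv D31002) (iv F129216)
theorem F185502 : act 6 n44414 = n30459 := d40_1 D44414 (iv D30459) D30458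
def n44415 : Q := act 3 n30459
theorem D44415 : act 3 n30459 = n44415 := rfl
theorem F185503 : act 1 n44415 = n31003 := d10_1 D44415 (iv D31003) (iv F129220)
theorem F185504 : act 8 n44415 = n30463 := d28_2 D30459 D44415 (iv D30463) (iv D20917) D20915
def n44416 : Q := act 9 n30459
theorem D44416 : act 9 n30459 = n44416 := rfl
theorem F185505 : act 1 n44416 = n31004 := d16_1 D44416 (iv D31004) (iv F129220)
theorem F185506 : act 4 n44416 = n33362 := d34_1 D44416 (iv D33362) (iv F129221)
theorem F185507 : act 8 n44416 = n30529 := d44_1 D44416 (iv D30529) (iv D20961) (iv F90219) D30459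
def n44417 : Q := act 7 n30460
theorem D44417 : act 7 n30460 = n44417 := rfl
theorem F185508 : act 1 n44417 = n31005 := d14_1 D44417 (iv D31005) (iv F129222)
theorem F185509 : act 2 n44417 = n30473 := d21_1 D44417 (iv D30473) (iv F129223)
theorem F185510 : act 4 n44417 = n30666 := d32_1 D44417 (iv D30666) (iv F129224)
theorem F185511 : act 5 n44417 = n30461 := d36_1 D44417 (iv D30461) D30460
theorem F185512 : act 9 n44417 = n30530 := d43_2 (iv F129225) D44417 (iv D30530)
def n44418 : Q := act 8 n30460
theorem D44418 : act 8 n30460 = n44418 := rfl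
theorem F185513 : act 1 n44418 = n31006 := d15_1 D44418 (iv D31006) (iv F129222)
theorem F185514 : act 2 n44418 = n30474 := d22_1 D44418 (iv D30474) (iv F129223)
theorem F185515 : act 4 n44418 = n30667 := d33_1 D44418 (iv D30667) (iv F129224)
theorem F185516 : act 5 n44418 = n30462 := d37_1 D44418 (iv D30462) D30460
def n44419 : Q := act 8 n30461
theorem D44419 : act 8 n30461 = n44419 := rfl
theorem F185517 : act 1 n44419 = n31007 := d15_1 D44419 (iv D31007) (iv F129226)
theorem F185518 : act 2 n44419 = n30475 := d22_1 D44419 (iv D30475) (iv F129227)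
theorem F185519 : act 4 n44419 = n30465 := d33_1 D44419 (iv D30465) (iv F129228)
theorem F185520 : act 7 n44419 = n30462 := d42_1 D44419 (iv D30462) D30461
def n44420 : Q := act 3 n30462
theorem D44420 : act 3 n30462 = n44420 := rfl
theorem F185521 : act 1 n44420 = n31008 := d10_1 D44420 (iv D31008) (iv F129230)
theorem F185522 : act 6 n44420 = n30463 := d26_2 (iv F129233) D44420 (iv D30463)
def n44421 : Q := act 9 n30462
theorem D44421 : act 9 n30462 = n44421 := rfl
theorem F185523 : act 1 n44421 = n31009 := d16_1 D44421 (iv D31009) (iv F129230)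
theorem F185524 : act 2 n44421 = n30477 := d23_1 D44421 (iv D30477) (iv F129231)
theorem F185525 : act 4 n44421 = n30467 := d34_1 D44421 (iv D30467) (iv F129232)
theorem F185526 : act 6 n44421 = n30464 := d41_1 D44421 (iv D30464) (iv F129233)
theorem F185527 : act 8 n44421 = n30534 := d44_1 D44421 (iv D30534) (iv D20964) (iv F90223) D30462
def n44422 : Q := act 2 n30463
theorem D44422 : act 2 n30463 = n44422 := rfl
theorem F185528 : act 3 n44422 = n30478 := d17_2 D30463 D44422 (iv D30478) (iv D20927) (iv F90225)
def n44423 : Q := act 4 n30463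
theorem D44423 : act 4 n30463 = n44423 := rfl
theorem F185529 : act 1 n44423 = n31011 := d11_1 D44423 (iv D31011) (iv F129234)
theorem F185530 : act 3 n44423 = n30468 := d24_1 D44423 (iv D30468) (iv D20920) (iv F90226) D30463
def n44424 : Q := act 9 n30463
theorem D44424 : act 9 n30463 = n44424 := rfl
theorem F185531 : act 1 n44424 = n31012 := d16_1 D44424 (iv D31012) (iv F129234)
theorem F185532 : act 3 n44424 = n30464 := d29_1 D44424 (iv D30464) D30463
def n44425 : Q := act 3 n30465
theorem D44425 : act 3 n30465 = n44425 := rfl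
theorem F185534 : act 5 n44425 = n30674 := d25_2 (iv F129241) D44425 (iv D30674)
theorem F185535 : act 7 n44425 = n30466 := d27_2 (iv F129242) D44425 (iv D30466)
def n44426 : Q := act 9 n30465
theorem D44426 : act 9 n30465 = n44426 := rfl
theorem F185537 : act 1 n44426 = n31014 := d16_1 D44426 (iv D31014) (iv F129239)
theorem F185538 : act 2 n44426 = n30480 := d23_1 D44426 (iv D30480) (iv F129240)
theorem F185539 : act 5 n44426 = n30675 := d38_1 D44426 (iv D30675) (iv F129241)
theorem F185540 : act 7 n44426 = n30467 := d43_1 D44426 (iv D30467) (iv F129242)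
theorem F185541 : act 8 n44426 = n30539 := d44_1 D44426 (iv D30539) (iv D20967) (iv F90231) D30465
def n44427 : Q := act 4 n30466
theorem D44427 : act 4 n30466 = n44427 := rfl
theorem F185542 : act 1 n44427 = n31015 := d11_1 D44427 (iv D31015) (iv F129243)
def n44428 : Q := act 9 n30466
theorem D44428 : act 9 n30466 = n44428 := rfl
theorem F185545 : act 1 n44428 = n31016 := d16_1 D44428 (iv D31016) (iv F129243)
theorem F185546 : act 3 n44428 = n30467 := d29_1 D44428 (iv D30467) D30466
def n44430 : Q := act 9 n30468
theorem D44430 : act 9 n30468 = n44430 := rfl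
theorem F185552 : act 1 n44430 = n31018 := d16_1 D44430 (iv D31018) (iv F129252)
def n44435 : Q := act 6 n30473
theorem D44435 : act 6 n30473 = n44435 := rfl
theorem F185567 : act 1 n44435 = n30481 := d13_1 D44435 (iv D30481) (iv F129266)
theorem F185568 : act 4 n44435 = n30684 := d31_1 D44435 (iv D30684) (iv F129267)
theorem F185569 : act 9 n44435 = n30548 := d41_2 (iv F129269) D44435 (iv D30548)
def n44436 : Q := act 8 n30473
theorem D44436 : act 8 n30473 = n44436 := rfl
theorem F185571 : act 4 n44436 = n30685 := d33_1 D44436 (iv D30685) (iv F129267)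
theorem F185572 : act 5 n44436 = n30475 := d37_1 D44436 (iv D30475) (iv F129268)
theorem F185573 : act 7 n44436 = n30474 := d42_1 D44436 (iv D30474) D30473
def n44437 : Q := act 3 n30474
theorem D44437 : act 3 n30474 = n44437 := rfl
theorem F185575 : act 5 n44437 = n30476 := d25_2 (iv F129272) D44437 (iv D30476)
def n44438 : Q := act 9 n30474
theorem D44438 : act 9 n30474 = n44438 := rfl
theorem F185576 : act 1 n44438 = n30484 := d16_1 D44438 (iv D30484) (iv F129270)
theorem F185577 : act 4 n44438 = n30687 := d34_1 D44438 (iv D30687) (iv F129271)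
theorem F185578 : act 5 n44438 = n30477 := d38_1 D44438 (iv D30477) (iv F129272)
theorem F185579 : act 8 n44438 = n30551 := d44_1 D44438 (iv D30551) (iv D20976) (iv F90251) D30474
def n44440 : Q := act 9 n30475
theorem D44440 : act 9 n30475 = n44440 := rfl
theorem F185583 : act 4 n44440 = n30480 := d34_1 D44440 (iv D30480) (iv F129274)
theorem F185584 : act 7 n44440 = n30477 := d43_1 D44440 (iv D30477) (iv F129275)
theorem F185585 : act 8 n44440 = n30553 := d44_1 D44440 (iv D30553) (iv D20977) (iv F90254) D30475
def n44441 : Q := act 2 n30476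
theorem D44441 : act 2 n30476 = n44441 := rfl
theorem F185586 : act 6 n44441 = n30478 := d20_2 (iv F129277) D44441 (iv D30478)
def n44442 : Q := act 9 n30476
theorem D44442 : act 9 n30476 = n44442 := rfl
theorem F185588 : act 3 n44442 = n30477 := d29_1 D44442 (iv D30477) D30476
theorem F185589 : act 6 n44442 = n30479 := d41_1 D44442 (iv D30479) (iv F129277)
def n44443 : Q := act 1 n30478
theorem D44443 : act 1 n30478 = n44443 := rfl
theorem F185590 : act 2 n44443 = n30489 := d9_2 D30478 D44443 (iv D30489) (iv D20936) (iv F90258)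
def n44444 : Q := act 9 n30478
theorem D44444 : act 9 n30478 = n44444 := rfl
theorem F185591 : act 2 n44444 = n30479 := d23_1 D44444 (iv D30479) D30478
def n44445 : Q := act 8 n30479
theorem D44445 : act 8 n30479 = n44445 := rfl
theorem F185592 : act 1 n44445 = n30491 := d15_1 D44445 (iv D30491) (iv F129282)
theorem F185593 : act 3 n44445 = n30558 := d28_1 D44445 (iv D30558) F90442 (iv F90261) (iv F129283)
def n44446 : Q := act 8 n30481
theorem D44446 : act 8 n30481 = n44446 := rfl
theorem F185597 : act 6 n44446 = n30482 := d40_1 D44446 (iv D30482) D30481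
def n44448 : Q := act 9 n30482
theorem D44448 : act 9 n30482 = n44448 := rfl
theorem F185602 : act 2 n44448 = n31036 := d23_1 D44448 (iv D31036) (iv F129293)
theorem F185603 : act 4 n44448 = n30697 := d34_1 D44448 (iv D30697) (iv F129294)
theorem F185605 : act 7 n44448 = n30484 := d43_1 D44448 (iv D30484) (iv F129296)
theorem F185606 : act 8 n44448 = n30561 := d44_1 D44448 (iv D30561) (iv D20984) (iv F90273) D30482
def n44451 : Q := act 9 n30483
theorem D44451 : act 9 n30483 = n44451 := rfl
theorem F185613 : act 3 n44451 = n30484 := d29_1 D44451 (iv D30484) D30483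
def n44452 : Q := act 2 n30485
theorem D44452 : act 2 n30485 = n44452 := rfl
theorem F185616 : act 3 n44452 = n31040 := d17_2 D30485 D44452 (iv D31040) (iv D21305) (iv F90279)
def n44454 : Q := act 1 n30487
theorem D44454 : act 1 n30487 = n44454 := rfl
theorem F185621 : act 3 n44454 = n31042 := d10_2 (iv F129312) D44454 (iv D31042)
def n44456 : Q := act 8 n30488
theorem D44456 : act 8 n30488 = n44456 := rfl
theorem F185628 : act 3 n44456 = n30569 := d28_1 D44456 (iv D30569) F90474 (iv F90288) (iv F129315)
theorem F185629 : act 6 n44456 = n30491 := d40_1 D44456 (iv D30491) (iv F129316)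
def n44457 : Q := act 0 n30489
theorem D44457 : act 0 n30489 = n44457 := rfl
theorem F185631 : act 3 n44457 = n31045 := d2_2 (iv F129317) D44457 (iv D31045)
def n44458 : Q := act 9 n30489
theorem D44458 : act 9 n30489 = n44458 := rfl
theorem F185633 : act 3 n44458 = n31046 := d29_1 D44458 (iv D31046) (iv F129317)
def n44459 : Q := act 8 n30490
theorem D44459 : act 8 n30490 = n44459 := rfl
theorem F185635 : act 2 n44459 = n30491 := d22_1 D44459 (iv D30491) (iv F129319)
def n44461 : Q := act 6 n30492
theorem D44461 : act 6 n30492 = n44461 := rfl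
theorem F185641 : act 3 n44461 = n30493 := d26_1 D44461 (iv D30493) D30492
theorem F185642 : act 4 n44461 = n33407 := d31_1 D44461 (iv D33407) (iv F129325)
def n44462 : Q := act 8 n30492
theorem D44462 : act 8 n30492 = n44462 := rfl
theorem F185643 : act 0 n44462 = n31050 := d7_1 D44462 (iv D31050) (iv F129323)
theorem F185644 : act 1 n44462 = n30503 := d15_1 D44462 (iv D30503) (iv F129324)
def n44463 : Q := act 5 n30493
theorem D44463 : act 5 n30493 = n44463 := rfl
theorem F185646 : act 0 n44463 = n31051 := d4_1 D44463 (iv D31051) (iv F129326)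
theorem F185647 : act 1 n44463 = n30504 := d12_1 D44463 (iv D30504) (iv F129327)
theorem F185648 : act 2 n44463 = n44463 := d19_1 D44463 (iv D44463) F129328
theorem F185649 : act 4 n44463 = n30712 := d30_1 D44463 (iv D30712) F90879 (iv F90305) (iv F129329)
def n44464 : Q := act 7 n30493
theorem D44464 : act 7 n30493 = n44464 := rfl
theorem F185653 : act 4 n44464 = n30495 := d32_1 D44464 (iv D30495) (iv F129329)
def n44465 : Q := act 8 n30493
theorem D44465 : act 8 n30493 = n44465 := rfl
theorem F185654 : act 0 n44465 = n31053 := d7_1 D44465 (iv D31053) (iv F129326)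
theorem F185655 : act 1 n44465 = n30506 := d15_1 D44465 (iv D30506) (iv F129327)
theorem F185656 : act 2 n44465 = n44465 := d22_1 D44465 (iv D44465) F129328
theorem F185657 : act 4 n44465 = n30496 := d33_1 D44465 (iv D30496) (iv F129329)
theorem F185658 : act 6 n44465 = n30494 := d40_1 D44465 (iv D30494) D30493
def n44466 : Q := act 3 n30494
theorem D44466 : act 3 n30494 = n44466 := rfl
theorem F185659 : act 0 n44466 = n31054 := d2_1 D44466 (iv D31054) (iv F129330)
theorem F185660 : act 1 n44466 = n30507 := d10_1 D44466 (iv D30507) (iv F129331)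
def n44467 : Q := act 9 n30494
theorem D44467 : act 9 n30494 = n44467 := rfl
theorem F185661 : act 0 n44467 = n31055 := d8_1 D44467 (iv D31055) (iv F129330)
theorem F185662 : act 1 n44467 = n30508 := d16_1 D44467 (iv D30508) (iv F129331)
theorem F185663 : act 2 n44467 = n44467 := d23_1 D44467 (iv D44467) F129332
theorem F185664 : act 4 n44467 = n30498 := d34_1 D44467 (iv D30498) (iv F129333)
def n44468 : Q := act 8 n30495
theorem D44468 : act 8 n30495 = n44468 := rfl
theorem F185666 : act 1 n44468 = n30509 := d15_1 D44468 (iv D30509) (iv F129335)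
theorem F185669 : act 7 n44468 = n30496 := d42_1 D44468 (iv D30496) D30495
def n44469 : Q := act 3 n30496
theorem D44469 : act 3 n30496 = n44469 := rfl
theorem F185671 : act 1 n44469 = n30510 := d10_1 D44469 (iv D30510) (iv F129340)
theorem F185674 : act 8 n44469 = n33415 := d28_2 D30496 D44469 (iv D33415) (iv D22926) (iv F90304)
def n44470 : Q := act 9 n30496
theorem D44470 : act 9 n30496 = n44470 := rfl
theorem F185675 : act 0 n44470 = n31058 := d8_1 D44470 (iv D31058) (iv F129339)
theorem F185676 : act 1 n44470 = n30511 := d16_1 D44470 (iv D30511) (iv F129340)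
theorem F185677 : act 2 n44470 = n44470 := d23_1 D44470 (iv D44470) F129341
theorem F185678 : act 5 n44470 = n30719 := d38_1 D44470 (iv D30719) (iv F129342)
theorem F185679 : act 6 n44470 = n30498 := d41_1 D44470 (iv D30498) (iv F129343)
def n44472 : Q := act 4 n30497
theorem D44472 : act 4 n30497 = n44472 := rfl
theorem F185686 : act 1 n44472 = n30512 := d11_1 D44472 (iv D30512) (iv F129345)
theorem F185687 : act 8 n44472 = n33418 := d33_2 (iv F129347) D44472 (iv D33418)
def n44473 : Q := act 9 n30497
theorem D44473 : act 9 n30497 = n44473 := rfl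
theorem F185689 : act 1 n44473 = n30513 := d16_1 D44473 (iv D30513) (iv F129345)
theorem F185690 : act 3 n44473 = n30498 := d29_1 D44473 (iv D30498) D30497
def n44479 : Q := act 5 n30502
theorem D44479 : act 5 n30502 = n44479 := rfl
theorem F185713 : act 0 n44479 = n30525 := d4_1 D44479 (iv D30525) (iv F129365)
theorem F185714 : act 3 n44479 = n30504 := d25_1 D44479 (iv D30504) (iv F129366)
def n44481 : Q := act 8 n30502
theorem D44481 : act 8 n30502 = n44481 := rfl
theorem F185718 : act 0 n44481 = n30527 := d7_1 D44481 (iv D30527) (iv F129365)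
theorem F185720 : act 6 n44481 = n30503 := d40_1 D44481 (iv D30503) D30502
def n44482 : Q := act 3 n30503
theorem D44482 : act 3 n30503 = n44482 := rfl
theorem F185721 : act 0 n44482 = n30528 := d2_1 D44482 (iv D30528) (iv F129368)
theorem F185722 : act 8 n44482 = n30507 := d28_2 D30503 D44482 (iv D30507) (iv D20946) D20944
def n44483 : Q := act 9 n30503
theorem D44483 : act 9 n30503 = n44483 := rfl
theorem F185723 : act 0 n44483 = n30529 := d8_1 D44483 (iv D30529) (iv F129368)
theorem F185724 : act 4 n44483 = n33429 := d34_1 D44483 (iv D33429) (iv F129369)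
def n44484 : Q := act 7 n30504
theorem D44484 : act 7 n30504 = n44484 := rfl
theorem F185725 : act 0 n44484 = n30530 := d6_1 D44484 (iv D30530) (iv F129370)
theorem F185726 : act 2 n44484 = n30517 := d21_1 D44484 (iv D30517) (iv F129371)
theorem F185727 : act 4 n44484 = n30733 := d32_1 D44484 (iv D30733) (iv F129372)
theorem F185728 : act 5 n44484 = n30505 := d36_1 D44484 (iv D30505) D30504
def n44485 : Q := act 8 n30504
theorem D44485 : act 8 n30504 = n44485 := rfl
theorem F185729 : act 0 n44485 = n30531 := d7_1 D44485 (iv D30531) (iv F129370)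
theorem F185730 : act 2 n44485 = n30518 := d22_1 D44485 (iv D30518) (iv F129371)
theorem F185731 : act 4 n44485 = n30734 := d33_1 D44485 (iv D30734) (iv F129372)
theorem F185732 : act 5 n44485 = n30506 := d37_1 D44485 (iv D30506) D30504
def n44486 : Q := act 8 n30505
theorem D44486 : act 8 n30505 = n44486 := rfl
theorem F185733 : act 0 n44486 = n30532 := d7_1 D44486 (iv D30532) (iv F129373)
theorem F185734 : act 2 n44486 = n30519 := d22_1 D44486 (iv D30519) (iv F129374)
theorem F185735 : act 4 n44486 = n30509 := d33_1 D44486 (iv D30509) (iv F129375)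
theorem F185736 : act 7 n44486 = n30506 := d42_1 D44486 (iv D30506) D30505
def n44487 : Q := act 3 n30506
theorem D44487 : act 3 n30506 = n44487 := rfl
theorem F185737 : act 0 n44487 = n30533 := d2_1 D44487 (iv D30533) (iv F129376)
theorem F185738 : act 6 n44487 = n30507 := d26_2 (iv F129379) D44487 (iv D30507)
def n44488 : Q := act 9 n30506
theorem D44488 : act 9 n30506 = n44488 := rfl
theorem F185739 : act 0 n44488 = n30534 := d8_1 D44488 (iv D30534) (iv F129376)
theorem F185740 : act 2 n44488 = n30521 := d23_1 D44488 (iv D30521) (iv F129377)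
theorem F185741 : act 4 n44488 = n30511 := d34_1 D44488 (iv D30511) (iv F129378)
theorem F185742 : act 6 n44488 = n30508 := d41_1 D44488 (iv D30508) (iv F129379)
def n44489 : Q := act 2 n30507
theorem D44489 : act 2 n30507 = n44489 := rfl
theorem F185743 : act 0 n44489 = n30535 := d1_1 D44489 (iv D30535) (iv F129380)
theorem F185744 : act 3 n44489 = n30522 := d17_2 D30507 D44489 (iv D30522) (iv D20956) (iv F90324)
def n44490 : Q := act 4 n30507
theorem D44490 : act 4 n30507 = n44490 := rfl
theorem F185745 : act 0 n44490 = n30536 := d3_1 D44490 (iv D30536) (iv F129380)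
theorem F185746 : act 3 n44490 = n30512 := d24_1 D44490 (iv D30512) (iv D20949) (iv F90325) D30507
def n44491 : Q := act 9 n30507
theorem D44491 : act 9 n30507 = n44491 := rfl
theorem F185747 : act 0 n44491 = n30537 := d8_1 D44491 (iv D30537) (iv F129380)
theorem F185748 : act 3 n44491 = n30508 := d29_1 D44491 (iv D30508) D30507
def n44492 : Q := act 3 n30509
theorem D44492 : act 3 n30509 = n44492 := rfl
theorem F185752 : act 7 n44492 = n30510 := d27_2 (iv F129387) D44492 (iv D30510)
def n44493 : Q := act 9 n30509
theorem D44493 : act 9 n30509 = n44493 := rfl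
theorem F185754 : act 0 n44493 = n30539 := d8_1 D44493 (iv D30539) (iv F129384)
theorem F185755 : act 2 n44493 = n30524 := d23_1 D44493 (iv D30524) (iv F129385)
theorem F185756 : act 5 n44493 = n30742 := d38_1 D44493 (iv D30742) (iv F129386)
theorem F185757 : act 7 n44493 = n30511 := d43_1 D44493 (iv D30511) (iv F129387)
def n44494 : Q := act 4 n30510
theorem D44494 : act 4 n30510 = n44494 := rfl
theorem F185758 : act 0 n44494 = n30540 := d3_1 D44494 (iv D30540) (iv F129388)
theorem F185759 : act 2 n44494 = n44494 := d18_1 D44494 (iv D44494) F129389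
theorem F185760 : act 6 n44494 = n30512 := d31_2 (iv F129391) D44494 (iv D30512)
def n44495 : Q := act 9 n30510
theorem D44495 : act 9 n30510 = n44495 := rfl
theorem F185762 : act 0 n44495 = n30541 := d8_1 D44495 (iv D30541) (iv F129388)
theorem F185763 : act 2 n44495 = n44495 := d23_1 D44495 (iv D44495) F129389
theorem F185764 : act 3 n44495 = n30511 := d29_1 D44495 (iv D30511) D30510
theorem F185765 : act 5 n44495 = n30744 := d38_1 D44495 (iv D30744) (iv F129390)
theorem F185766 : act 6 n44495 = n30513 := d41_1 D44495 (iv D30513) (iv F129391)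
def n44496 : Q := act 5 n30512
theorem D44496 : act 5 n30512 = n44496 := rfl
theorem F185767 : act 0 n44496 = n30542 := d4_1 D44496 (iv D30542) (iv F129397)
def n44497 : Q := act 9 n30512
theorem D44497 : act 9 n30512 = n44497 := rfl
theorem F185771 : act 0 n44497 = n30543 := d8_1 D44497 (iv D30543) (iv F129397)
theorem F185772 : act 2 n44497 = n44497 := d23_1 D44497 (iv D44497) F129398
theorem F185773 : act 4 n44497 = n30513 := d34_1 D44497 (iv D30513) D30512
def n44498 : Q := act 8 n30513
theorem D44498 : act 8 n30513 = n44498 := rfl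
theorem F185777 : act 9 n44498 = n33444 := d44_2 D30513 D44498 (iv D33444) (iv D22943) (iv F90337)
def n44499 : Q := act 6 n30514
theorem D44499 : act 6 n30514 = n44499 := rfl
theorem F185778 : act 0 n44499 = n30545 := d5_1 D44499 (iv D30545) (iv F129404)
def n44500 : Q := act 9 n30514
theorem D44500 : act 9 n30514 = n44500 := rfl
theorem F185782 : act 0 n44500 = n30546 := d8_1 D44500 (iv D30546) (iv F129404)
theorem F185784 : act 5 n44500 = n30515 := d38_1 D44500 (iv D30515) D30514
def n44501 : Q := act 8 n30515
theorem D44501 : act 8 n30515 = n44501 := rfl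
theorem F185787 : act 4 n44501 = n30516 := d33_1 D44501 (iv D30516) (iv F129409)
theorem F185789 : act 9 n44501 = n33447 := d44_2 D30515 D44501 (iv D33447) (iv D22945) (iv F90344)
def n44502 : Q := act 6 n30517
theorem D44502 : act 6 n30517 = n44502 := rfl
theorem F185790 : act 0 n44502 = n30548 := d5_1 D44502 (iv D30548) (iv F129415)
theorem F185791 : act 1 n44502 = n44502 := d13_1 D44502 (iv D44502) F129416
theorem F185792 : act 4 n44502 = n30751 := d31_1 D44502 (iv D30751) (iv F129417)
def n44503 : Q := act 8 n30517
theorem D44503 : act 8 n30517 = n44503 := rfl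
theorem F185793 : act 0 n44503 = n30549 := d7_1 D44503 (iv D30549) (iv F129415)
theorem F185794 : act 1 n44503 = n44503 := d15_1 D44503 (iv D44503) F129416
theorem F185795 : act 4 n44503 = n30752 := d33_1 D44503 (iv D30752) (iv F129417)
theorem F185796 : act 5 n44503 = n30519 := d37_1 D44503 (iv D30519) (iv F129418)
theorem F185797 : act 7 n44503 = n30518 := d42_1 D44503 (iv D30518) D30517
def n44504 : Q := act 3 n30518
theorem D44504 : act 3 n30518 = n44504 := rfl
theorem F185798 : act 0 n44504 = n30550 := d2_1 D44504 (iv D30550) (iv F129419)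
theorem F185799 : act 1 n44504 = n44504 := d10_1 D44504 (iv D44504) F129420
theorem F185800 : act 5 n44504 = n30520 := d25_2 (iv F129422) D44504 (iv D30520)
def n44505 : Q := act 9 n30518
theorem D44505 : act 9 n30518 = n44505 := rfl
theorem F185801 : act 0 n44505 = n30551 := d8_1 D44505 (iv D30551) (iv F129419)
theorem F185802 : act 1 n44505 = n44505 := d16_1 D44505 (iv D44505) F129420
theorem F185803 : act 4 n44505 = n30754 := d34_1 D44505 (iv D30754) (iv F129421)
theorem F185804 : act 5 n44505 = n30521 := d38_1 D44505 (iv D30521) (iv F129422)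
def n44506 : Q := act 3 n30519
theorem D44506 : act 3 n30519 = n44506 := rfl
theorem F185805 : act 0 n44506 = n30552 := d2_1 D44506 (iv D30552) (iv F129423)
theorem F185806 : act 1 n44506 = n44506 := d10_1 D44506 (iv D44506) F129424
theorem F185807 : act 4 n44506 = n44506 := d24_2 (iv F129425) D44506 (iv D44506) F129425 F90367
theorem F185808 : act 7 n44506 = n30520 := d27_2 (iv F129426) D44506 (iv D30520)
def n44507 : Q := act 9 n30519
theorem D44507 : act 9 n30519 = n44507 := rfl
theorem F185809 : act 0 n44507 = n30553 := d8_1 D44507 (iv D30553) (iv F129423)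
theorem F185810 : act 1 n44507 = n44507 := d16_1 D44507 (iv D44507) F129424
theorem F185811 : act 4 n44507 = n30524 := d34_1 D44507 (iv D30524) (iv F129425)
theorem F185812 : act 7 n44507 = n30521 := d43_1 D44507 (iv D30521) (iv F129426)
def n44508 : Q := act 2 n30520
theorem D44508 : act 2 n30520 = n44508 := rfl
theorem F185813 : act 0 n44508 = n30554 := d1_1 D44508 (iv D30554) (iv F129427)
theorem F185815 : act 6 n44508 = n30522 := d20_2 (iv F129430) D44508 (iv D30522)
def n44509 : Q := act 9 n30520
theorem D44509 : act 9 n30520 = n44509 := rfl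
theorem F185816 : act 0 n44509 = n30555 := d8_1 D44509 (iv D30555) (iv F129427)
theorem F185817 : act 1 n44509 = n44509 := d16_1 D44509 (iv D44509) F129428
theorem F185818 : act 3 n44509 = n30521 := d29_1 D44509 (iv D30521) D30520
theorem F185819 : act 4 n44509 = n44509 := d34_1 D44509 (iv D44509) F129429
theorem F185820 : act 6 n44509 = n30523 := d41_1 D44509 (iv D30523) (iv F129430)
def n44511 : Q := act 9 n30522
theorem D44511 : act 9 n30522 = n44511 := rfl
theorem F185823 : act 0 n44511 = n30557 := d8_1 D44511 (iv D30557) (iv F129435)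
theorem F185824 : act 2 n44511 = n30523 := d23_1 D44511 (iv D30523) D30522
def n44512 : Q := act 8 n30523
theorem D44512 : act 8 n30523 = n44512 := rfl
theorem F185826 : act 0 n44512 = n30558 := d7_1 D44512 (iv D30558) (iv F129437)
theorem F185827 : act 1 n44512 = n44512 := d15_1 D44512 (iv D44512) F129438
theorem F185828 : act 4 n44512 = n44512 := d33_1 D44512 (iv D44512) F129440
def n44513 : Q := act 4 n30525
theorem D44513 : act 4 n30525 = n44513 := rfl
theorem F185830 : act 3 n44513 = n30762 := d24_1 D44513 (iv D30762) F91010 (iv F90382) (iv F129447)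
theorem F185831 : act 5 n44513 = n33459 := d30_2 D30525 D44513 (iv D33459) (iv D22955) (iv F90377)
def n44514 : Q := act 7 n30525
theorem D44514 : act 7 n30525 = n44514 := rfl
theorem F185832 : act 1 n44514 = n31102 := d14_1 D44514 (iv D31102) (iv F129446)
theorem F185833 : act 3 n44514 = n30530 := d27_1 D44514 (iv D30530) (iv F129447)
theorem F185834 : act 5 n44514 = n30526 := d36_1 D44514 (iv D30526) D30525
def n44515 : Q := act 8 n30525
theorem D44515 : act 8 n30525 = n44515 := rfl
theorem F185835 : act 1 n44515 = n31103 := d15_1 D44515 (iv D31103) (iv F129446)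
theorem F185836 : act 5 n44515 = n30527 := d37_1 D44515 (iv D30527) D30525
def n44516 : Q := act 8 n30526
theorem D44516 : act 8 n30526 = n44516 := rfl
theorem F185839 : act 7 n44516 = n30527 := d42_1 D44516 (iv D30527) D30526
def n44517 : Q := act 3 n30527
theorem D44517 : act 3 n30527 = n44517 := rfl
theorem F185840 : act 1 n44517 = n31105 := d10_1 D44517 (iv D31105) (iv F129451)
theorem F185841 : act 6 n44517 = n30528 := d26_2 (iv F129453) D44517 (iv D30528)
theorem F185842 : act 8 n44517 = n30533 := d28_2 D30527 D44517 (iv D30533) (iv D20964) (iv F90376)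
def n44518 : Q := act 9 n30527
theorem D44518 : act 9 n30527 = n44518 := rfl
theorem F185843 : act 1 n44518 = n31106 := d16_1 D44518 (iv D31106) (iv F129451)
theorem F185845 : act 6 n44518 = n30529 := d41_1 D44518 (iv D30529) (iv F129453)
def n44519 : Q := act 2 n30528
theorem D44519 : act 2 n30528 = n44519 := rfl
theorem F185846 : act 8 n44519 = n30535 := d22_2 (iv F129455) D44519 (iv D30535)
def n44520 : Q := act 4 n30528
theorem D44520 : act 4 n30528 = n44520 := rfl
theorem F185847 : act 1 n44520 = n31108 := d11_1 D44520 (iv D31108) (iv F129454)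
theorem F185848 : act 3 n44520 = n33466 := d24_1 D44520 (iv D33466) (iv D22958) (iv F90379) D30528
theorem F185849 : act 8 n44520 = n30536 := d33_2 (iv F129455) D44520 (iv D30536)
def n44521 : Q := act 9 n30528
theorem D44521 : act 9 n30528 = n44521 := rfl
theorem F185850 : act 1 n44521 = n31109 := d16_1 D44521 (iv D31109) (iv F129454)
theorem F185851 : act 3 n44521 = n30529 := d29_1 D44521 (iv D30529) D30528
def n44522 : Q := act 6 n30530
theorem D44522 : act 6 n30530 = n44522 := rfl
theorem F185852 : act 1 n44522 = n31110 := d13_1 D44522 (iv D31110) (iv F129458)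
theorem F185853 : act 2 n44522 = n30548 := d20_1 D44522 (iv D30548) (iv F129459)
theorem F185854 : act 4 n44522 = n30771 := d31_1 D44522 (iv D30771) (iv F129460)
def n44523 : Q := act 8 n30530
theorem D44523 : act 8 n30530 = n44523 := rfl
theorem F185855 : act 1 n44523 = n31111 := d15_1 D44523 (iv D31111) (iv F129458)
theorem F185856 : act 2 n44523 = n30549 := d22_1 D44523 (iv D30549) (iv F129459)
theorem F185857 : act 4 n44523 = n30772 := d33_1 D44523 (iv D30772) (iv F129460)
theorem F185858 : act 5 n44523 = n30532 := d37_1 D44523 (iv D30532) (iv F129461)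
theorem F185859 : act 7 n44523 = n30531 := d42_1 D44523 (iv D30531) D30530
def n44524 : Q := act 3 n30531
theorem D44524 : act 3 n30531 = n44524 := rfl
theorem F185860 : act 1 n44524 = n31112 := d10_1 D44524 (iv D31112) (iv F129462)
theorem F185861 : act 5 n44524 = n30533 := d25_2 (iv F129465) D44524 (iv D30533)
def n44525 : Q := act 9 n30531
theorem D44525 : act 9 n30531 = n44525 := rfl
theorem F185862 : act 1 n44525 = n31113 := d16_1 D44525 (iv D31113) (iv F129462)
theorem F185863 : act 2 n44525 = n30551 := d23_1 D44525 (iv D30551) (iv F129463)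
theorem F185864 : act 4 n44525 = n30774 := d34_1 D44525 (iv D30774) (iv F129464)
theorem F185865 : act 5 n44525 = n30534 := d38_1 D44525 (iv D30534) (iv F129465)
def n44526 : Q := act 3 n30532
theorem D44526 : act 3 n30532 = n44526 := rfl
theorem F185866 : act 1 n44526 = n31114 := d10_1 D44526 (iv D31114) (iv F129466)
theorem F185867 : act 7 n44526 = n30533 := d27_2 (iv F129469) D44526 (iv D30533)
def n44527 : Q := act 9 n30532
theorem D44527 : act 9 n30532 = n44527 := rfl
theorem F185868 : act 1 n44527 = n31115 := d16_1 D44527 (iv D31115) (iv F129466)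
theorem F185869 : act 2 n44527 = n30553 := d23_1 D44527 (iv D30553) (iv F129467)
theorem F185870 : act 4 n44527 = n30539 := d34_1 D44527 (iv D30539) (iv F129468)
theorem F185871 : act 7 n44527 = n30534 := d43_1 D44527 (iv D30534) (iv F129469)
def n44528 : Q := act 2 n30533
theorem D44528 : act 2 n30533 = n44528 := rfl
theorem F185872 : act 3 n44528 = n30554 := d17_2 D30533 D44528 (iv D30554) (iv D20978) (iv F90387)
theorem F185873 : act 6 n44528 = n30535 := d20_2 (iv F129471) D44528 (iv D30535)
def n44529 : Q := act 4 n30533
theorem D44529 : act 4 n30533 = n44529 := rfl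
theorem F185874 : act 1 n44529 = n31117 := d11_1 D44529 (iv D31117) (iv F129470)
theorem F185875 : act 3 n44529 = n30540 := d24_1 D44529 (iv D30540) (iv D20968) (iv F90388) D30533
theorem F185876 : act 6 n44529 = n30536 := d31_2 (iv F129471) D44529 (iv D30536)
def n44530 : Q := act 9 n30533
theorem D44530 : act 9 n30533 = n44530 := rfl
theorem F185877 : act 1 n44530 = n31118 := d16_1 D44530 (iv D31118) (iv F129470)
theorem F185878 : act 3 n44530 = n30534 := d29_1 D44530 (iv D30534) D30533
theorem F185879 : act 6 n44530 = n30537 := d41_1 D44530 (iv D30537) (iv F129471)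
def n44531 : Q := act 1 n30535
theorem D44531 : act 1 n30535 = n44531 := rfl
theorem F185880 : act 2 n44531 = n31119 := d9_2 D30535 D44531 (iv D31119) (iv D21355) (iv F90390)
theorem F185881 : act 3 n44531 = n30556 := d10_2 (iv F129476) D44531 (iv D30556)
def n44532 : Q := act 4 n30535
theorem D44532 : act 4 n30535 = n44532 := rfl
theorem F185882 : act 2 n44532 = n30536 := d18_1 D44532 (iv D30536) D30535
theorem F185883 : act 3 n44532 = n44532 := d24_1 D44532 (iv D44532) F129476 F90440 (iv F129476)
def n44533 : Q := act 9 n30535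
theorem D44533 : act 9 n30535 = n44533 := rfl
theorem F185884 : act 2 n44533 = n30537 := d23_1 D44533 (iv D30537) D30535
theorem F185885 : act 3 n44533 = n30557 := d29_1 D44533 (iv D30557) (iv F129476)
def n44534 : Q := act 5 n30536
theorem D44534 : act 5 n30536 = n44534 := rfl
theorem F185886 : act 1 n44534 = n31122 := d12_1 D44534 (iv D31122) (iv F129477)
theorem F185887 : act 3 n44534 = n30542 := d25_1 D44534 (iv D30542) (iv F129478)
def n44535 : Q := act 9 n30536
theorem D44535 : act 9 n30536 = n44535 := rfl
theorem F185888 : act 1 n44535 = n31123 := d16_1 D44535 (iv D31123) (iv F129477)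
theorem F185889 : act 3 n44535 = n30543 := d29_1 D44535 (iv D30543) (iv F129478)
theorem F185890 : act 4 n44535 = n30537 := d34_1 D44535 (iv D30537) D30536
def n44536 : Q := act 8 n30537
theorem D44536 : act 8 n30537 = n44536 := rfl
theorem F185891 : act 1 n44536 = n31124 := d15_1 D44536 (iv D31124) (iv F129479)
def n44539 : Q := act 5 n30540
theorem D44539 : act 5 n30540 = n44539 := rfl
theorem F185901 : act 1 n44539 = n31127 := d12_1 D44539 (iv D31127) (iv F129490)
theorem F185902 : act 2 n44539 = n44539 := d19_1 D44539 (iv D44539) F129491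
theorem F185903 : act 4 n44539 = n30788 := d30_1 D44539 (iv D30788) (iv D21133) (iv F90400) D30540
def n44540 : Q := act 9 n30540
theorem D44540 : act 9 n30540 = n44540 := rfl
theorem F185905 : act 1 n44540 = n31128 := d16_1 D44540 (iv D31128) (iv F129490)
theorem F185906 : act 2 n44540 = n44540 := d23_1 D44540 (iv D44540) F129491
theorem F185907 : act 4 n44540 = n30541 := d34_1 D44540 (iv D30541) D30540
theorem F185908 : act 6 n44540 = n30543 := d41_1 D44540 (iv D30543) (iv F129492)
def n44541 : Q := act 8 n30541
theorem D44541 : act 8 n30541 = n44541 := rfl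
theorem F185913 : act 9 n44541 = n33487 := d44_2 D30541 D44541 (iv D33487) (iv D22971) (iv F90402)
def n44542 : Q := act 6 n30542
theorem D44542 : act 6 n30542 = n44542 := rfl
theorem F185914 : act 1 n44542 = n31130 := d13_1 D44542 (iv D31130) (iv F129499)
theorem F185915 : act 2 n44542 = n44542 := d20_1 D44542 (iv D44542) F129500
theorem F185916 : act 4 n44542 = n30545 := d31_1 D44542 (iv D30545) (iv F129501)
theorem F185917 : act 8 n44542 = n33488 := d40_2 (iv F129502) D44542 (iv D33488)
def n44543 : Q := act 9 n30542
theorem D44543 : act 9 n30542 = n44543 := rfl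
theorem F185918 : act 1 n44543 = n31131 := d16_1 D44543 (iv D31131) (iv F129499)
theorem F185919 : act 2 n44543 = n44543 := d23_1 D44543 (iv D44543) F129500
theorem F185920 : act 4 n44543 = n30546 := d34_1 D44543 (iv D30546) (iv F129501)
theorem F185921 : act 5 n44543 = n30543 := d38_1 D44543 (iv D30543) D30542
def n44544 : Q := act 8 n30543
theorem D44544 : act 8 n30543 = n44544 := rfl
theorem F185925 : act 9 n44544 = n33490 := d44_2 D30543 D44544 (iv D33490) (iv D22973) (iv F90409)
def n44545 : Q := act 7 n30545
theorem D44545 : act 7 n30545 = n44545 := rfl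
theorem F185926 : act 1 n44545 = n31133 := d14_1 D44545 (iv D31133) (iv F129510)
theorem F185927 : act 2 n44545 = n44545 := d21_1 D44545 (iv D44545) F129511
theorem F185928 : act 5 n44545 = n30794 := d36_1 D44545 (iv D30794) (iv F129512)
theorem F185929 : act 8 n44545 = n33491 := d42_2 (iv F129513) D44545 (iv D33491)
def n44546 : Q := act 9 n30545
theorem D44546 : act 9 n30545 = n44546 := rfl
theorem F185930 : act 1 n44546 = n31134 := d16_1 D44546 (iv D31134) (iv F129510)
theorem F185931 : act 2 n44546 = n44546 := d23_1 D44546 (iv D44546) F129511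
theorem F185932 : act 5 n44546 = n30795 := d38_1 D44546 (iv D30795) (iv F129512)
theorem F185933 : act 6 n44546 = n30546 := d41_1 D44546 (iv D30546) D30545
def n44547 : Q := act 8 n30546
theorem D44547 : act 8 n30546 = n44547 := rfl
theorem F185937 : act 9 n44547 = n33493 := d44_2 D30546 D44547 (iv D33493) (iv D22976) (iv F90416)
def n44549 : Q := act 8 n30548
theorem D44549 : act 8 n30548 = n44549 := rfl
theorem F185941 : act 1 n44549 = n30559 := d15_1 D44549 (iv D30559) (iv F129522)
theorem F185942 : act 4 n44549 = n30798 := d33_1 D44549 (iv D30798) (iv F129523)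
theorem F185943 : act 6 n44549 = n30549 := d40_1 D44549 (iv D30549) D30548
def n44550 : Q := act 3 n30549
theorem D44550 : act 3 n30549 = n44550 := rfl
theorem F185944 : act 1 n44550 = n30560 := d10_1 D44550 (iv D30560) (iv F129524)
theorem F185945 : act 5 n44550 = n30552 := d25_2 (iv F129526) D44550 (iv D30552)
theorem F185946 : act 7 n44550 = n30550 := d27_2 (iv F129527) D44550 (iv D30550)
def n44551 : Q := act 9 n30549
theorem D44551 : act 9 n30549 = n44551 := rfl
theorem F185947 : act 1 n44551 = n30561 := d16_1 D44551 (iv D30561) (iv F129524)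
theorem F185948 : act 4 n44551 = n30800 := d34_1 D44551 (iv D30800) (iv F129525)
theorem F185949 : act 5 n44551 = n30553 := d38_1 D44551 (iv D30553) (iv F129526)
theorem F185950 : act 7 n44551 = n30551 := d43_1 D44551 (iv D30551) (iv F129527)
def n44552 : Q := act 2 n30550
theorem D44552 : act 2 n30550 = n44552 := rfl
theorem F185951 : act 5 n44552 = n30554 := d19_2 (iv F129529) D44552 (iv D30554)
def n44553 : Q := act 4 n30550
theorem D44553 : act 4 n30550 = n44553 := rfl
theorem F185952 : act 1 n44553 = n30563 := d11_1 D44553 (iv D30563) (iv F129528)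
theorem F185953 : act 3 n44553 = n30802 := d24_1 D44553 (iv D30802) (iv D21143) (iv F90429) D30550
theorem F185954 : act 5 n44553 = n44553 := d30_2 (iv F129529) D44553 (iv D44553) F129529 F90435
def n44554 : Q := act 9 n30550
theorem D44554 : act 9 n30550 = n44554 := rfl
theorem F185955 : act 1 n44554 = n30564 := d16_1 D44554 (iv D30564) (iv F129528)
theorem F185956 : act 3 n44554 = n30551 := d29_1 D44554 (iv D30551) D30550
theorem F185957 : act 5 n44554 = n30555 := d38_1 D44554 (iv D30555) (iv F129529)
def n44555 : Q := act 2 n30552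
theorem D44555 : act 2 n30552 = n44555 := rfl
theorem F185958 : act 4 n44555 = n44555 := d18_2 F129534 D44555 (iv D44555)
theorem F185959 : act 7 n44555 = n30554 := d21_2 (iv F129535) D44555 (iv D30554)
def n44556 : Q := act 9 n30552
theorem D44556 : act 9 n30552 = n44556 := rfl
theorem F185960 : act 1 n44556 = n30566 := d16_1 D44556 (iv D30566) (iv F129533)
theorem F185961 : act 3 n44556 = n30553 := d29_1 D44556 (iv D30553) D30552
theorem F185962 : act 4 n44556 = n44556 := d34_1 D44556 (iv D44556) F129534
theorem F185963 : act 7 n44556 = n30555 := d43_1 D44556 (iv D30555) (iv F129535)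
def n44557 : Q := act 1 n30554
theorem D44557 : act 1 n30554 = n44557 := rfl
theorem F185964 : act 2 n44557 = n30567 := d9_2 D30554 D44557 (iv D30567) (iv D20989) (iv F90434)
theorem F185965 : act 4 n44557 = n44557 := d11_2 F129539 D44557 (iv D44557)
theorem F185966 : act 6 n44557 = n30556 := d13_2 (iv F129540) D44557 (iv D30556)
def n44558 : Q := act 9 n30554
theorem D44558 : act 9 n30554 = n44558 := rfl
theorem F185967 : act 2 n44558 = n30555 := d23_1 D44558 (iv D30555) D30554
theorem F185968 : act 4 n44558 = n44558 := d34_1 D44558 (iv D44558) F129539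
theorem F185969 : act 6 n44558 = n30557 := d41_1 D44558 (iv D30557) (iv F129540)
def n44559 : Q := act 8 n30555
theorem D44559 : act 8 n30555 = n44559 := rfl
theorem F185970 : act 1 n44559 = n30569 := d15_1 D44559 (iv D30569) (iv F129541)
theorem F185971 : act 4 n44559 = n44559 := d33_1 D44559 (iv D44559) F129543
theorem F185972 : act 6 n44559 = n30558 := d40_1 D44559 (iv D30558) (iv F129544)
def n44560 : Q := act 0 n30556
theorem D44560 : act 0 n30556 = n44560 := rfl
theorem F185973 : act 2 n44560 = n30570 := d1_2 (iv F129545) D44560 (iv D30570)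
def n44561 : Q := act 9 n30556
theorem D44561 : act 9 n30556 = n44561 := rfl
theorem F185975 : act 1 n44561 = n30557 := d16_1 D44561 (iv D30557) D30556
theorem F185976 : act 2 n44561 = n30571 := d23_1 D44561 (iv D30571) (iv F129545)
theorem F185977 : act 4 n44561 = n44561 := d34_1 D44561 (iv D44561) F129546
def n44562 : Q := act 8 n30557
theorem D44562 : act 8 n30557 = n44562 := rfl
theorem F185978 : act 2 n44562 = n30558 := d22_1 D44562 (iv D30558) (iv F129547)
theorem F185979 : act 4 n44562 = n44562 := d33_1 D44562 (iv D44562) F129548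
def n44563 : Q := act 3 n30559
theorem D44563 : act 3 n30559 = n44563 := rfl
theorem F185981 : act 6 n44563 = n30560 := d26_2 (iv F129554) D44563 (iv D30560)
def n44564 : Q := act 9 n30559
theorem D44564 : act 9 n30559 = n44564 := rfl
theorem F185982 : act 0 n44564 = n44564 := d8_1 D44564 (iv D44564) F129551
theorem F185983 : act 2 n44564 = n31152 := d23_1 D44564 (iv D31152) (iv F129552)
theorem F185984 : act 4 n44564 = n30813 := d34_1 D44564 (iv D30813) (iv F129553)
theorem F185985 : act 6 n44564 = n30561 := d41_1 D44564 (iv D30561) (iv F129554)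
def n44565 : Q := act 2 n30560
theorem D44565 : act 2 n30560 = n44565 := rfl
theorem F185987 : act 3 n44565 = n31153 := d17_2 D30560 D44565 (iv D31153) (iv D21380) (iv F90452)
theorem F185988 : act 5 n44565 = n30565 := d19_2 (iv F129556) D44565 (iv D30565)
theorem F185989 : act 7 n44565 = n30562 := d21_2 (iv F129557) D44565 (iv D30562)
def n44566 : Q := act 4 n30560
theorem D44566 : act 4 n30560 = n44566 := rfl
theorem F185991 : act 3 n44566 = n30815 := d24_1 D44566 (iv D30815) (iv D21153) (iv F90453) D30560
theorem F185993 : act 7 n44566 = n30563 := d32_2 (iv F129557) D44566 (iv D30563)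
def n44567 : Q := act 9 n30560
theorem D44567 : act 9 n30560 = n44567 := rfl
theorem F185994 : act 0 n44567 = n44567 := d8_1 D44567 (iv D44567) F129555
theorem F185995 : act 3 n44567 = n30561 := d29_1 D44567 (iv D30561) D30560
theorem F185996 : act 5 n44567 = n30566 := d38_1 D44567 (iv D30566) (iv F129556)
theorem F185997 : act 7 n44567 = n30564 := d43_1 D44567 (iv D30564) (iv F129557)
def n44568 : Q := act 1 n30562
theorem D44568 : act 1 n30562 = n44568 := rfl
theorem F185998 : act 3 n44568 = n31156 := d10_2 (iv F129564) D44568 (iv D31156)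
theorem F185999 : act 5 n44568 = n30567 := d12_2 (iv F129565) D44568 (iv D30567)
def n44569 : Q := act 4 n30562
theorem D44569 : act 4 n30562 = n44569 := rfl
theorem F186001 : act 2 n44569 = n30563 := d18_1 D44569 (iv D30563) D30562
def n44570 : Q := act 9 n30562
theorem D44570 : act 9 n30562 = n44570 := rfl
theorem F186003 : act 0 n44570 = n44570 := d8_1 D44570 (iv D44570) F129563
theorem F186004 : act 2 n44570 = n30564 := d23_1 D44570 (iv D30564) D30562
theorem F186005 : act 3 n44570 = n31158 := d29_1 D44570 (iv D31158) (iv F129564)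
theorem F186006 : act 5 n44570 = n30568 := d38_1 D44570 (iv D30568) (iv F129565)
def n44571 : Q := act 9 n30563
theorem D44571 : act 9 n30563 = n44571 := rfl
theorem F186007 : act 0 n44571 = n44571 := d8_1 D44571 (iv D44571) F129566
theorem F186008 : act 3 n44571 = n30820 := d29_1 D44571 (iv D30820) (iv F129567)
theorem F186009 : act 4 n44571 = n30564 := d34_1 D44571 (iv D30564) D30563
theorem F186010 : act 5 n44571 = n44571 := d38_1 D44571 (iv D44571) F129568
def n44572 : Q := act 8 n30564
theorem D44572 : act 8 n30564 = n44572 := rfl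
theorem F186012 : act 5 n44572 = n30569 := d37_1 D44572 (iv D30569) (iv F129571)
def n44573 : Q := act 1 n30565
theorem D44573 : act 1 n30565 = n44573 := rfl
theorem F186013 : act 3 n44573 = n31161 := d10_2 (iv F129573) D44573 (iv D31161)
theorem F186014 : act 4 n44573 = n44573 := d11_2 F129574 D44573 (iv D44573)
theorem F186015 : act 7 n44573 = n30567 := d14_2 (iv F129575) D44573 (iv D30567)
def n44574 : Q := act 9 n30565
theorem D44574 : act 9 n30565 = n44574 := rfl
theorem F186016 : act 0 n44574 = n44574 := d8_1 D44574 (iv D44574) F129572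
theorem F186017 : act 2 n44574 = n30566 := d23_1 D44574 (iv D30566) D30565
theorem F186018 : act 3 n44574 = n31162 := d29_1 D44574 (iv D31162) (iv F129573)
theorem F186019 : act 4 n44574 = n44574 := d34_1 D44574 (iv D44574) F129574
theorem F186020 : act 7 n44574 = n30568 := d43_1 D44574 (iv D30568) (iv F129575)
def n44575 : Q := act 8 n30566
theorem D44575 : act 8 n30566 = n44575 := rfl
theorem F186023 : act 7 n44575 = n30569 := d42_1 D44575 (iv D30569) (iv F129579)
def n44576 : Q := act 0 n30567
theorem D44576 : act 0 n30567 = n44576 := rfl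
theorem F186024 : act 1 n44576 = n44576 := d0_2 D30567 D44576 (iv D44576) (iv D30567) F90469
theorem F186025 : act 3 n44576 = n31164 := d2_2 (iv F129580) D44576 (iv D31164)
theorem F186026 : act 4 n44576 = n44576 := d3_2 F129581 D44576 (iv D44576)
theorem F186027 : act 6 n44576 = n30570 := d5_2 (iv F129582) D44576 (iv D30570)
def n44577 : Q := act 9 n30567
theorem D44577 : act 9 n30567 = n44577 := rfl
theorem F186028 : act 1 n44577 = n30568 := d16_1 D44577 (iv D30568) D30567
theorem F186029 : act 3 n44577 = n31165 := d29_1 D44577 (iv D31165) (iv F129580)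
theorem F186030 : act 4 n44577 = n44577 := d34_1 D44577 (iv D44577) F129581
theorem F186031 : act 6 n44577 = n30571 := d41_1 D44577 (iv D30571) (iv F129582)
def n44578 : Q := act 8 n30568
theorem D44578 : act 8 n30568 = n44578 := rfl
theorem F186032 : act 0 n44578 = n44578 := d7_1 D44578 (iv D44578) F129583
theorem F186033 : act 2 n44578 = n30569 := d22_1 D44578 (iv D30569) (iv F129584)
theorem F186034 : act 4 n44578 = n44578 := d33_1 D44578 (iv D44578) F129586
theorem F186035 : act 6 n44578 = n30572 := d40_1 D44578 (iv D30572) (iv F129587)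
def n44579 : Q := act 9 n30570
theorem D44579 : act 9 n30570 = n44579 := rfl
theorem F186036 : act 0 n44579 = n30571 := d8_1 D44579 (iv D30571) D30570
theorem F186037 : act 1 n44579 = n44579 := d16_1 D44579 (iv D44579) F129591
theorem F186038 : act 3 n44579 = n31167 := d29_1 D44579 (iv D31167) (iv F129592)
theorem F186039 : act 4 n44579 = n44579 := d34_1 D44579 (iv D44579) F129593
def n44580 : Q := act 8 n30571
theorem D44580 : act 8 n30571 = n44580 := rfl
theorem F186040 : act 1 n44580 = n30572 := d15_1 D44580 (iv D30572) (iv F129594)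
theorem F186041 : act 4 n44580 = n44580 := d33_1 D44580 (iv D44580) F129596
def n44581 : Q := act 3 n30572
theorem D44581 : act 3 n30572 = n44581 := rfl
theorem F186042 : act 0 n44581 = n44581 := d2_1 D44581 (iv D44581) F129597
theorem F186043 : act 8 n44581 = n31169 := d28_2 D30572 D44581 (iv D31169) (iv D21392) (iv F90481)
def n44623 : Q := act 3 n30598
theorem D44623 : act 3 n30598 = n44623 := rfl
theorem F186244 : act 6 n44623 = n30599 := d26_2 (iv F129727) D44623 (iv D30599)
def n44626 : Q := act 4 n30599
theorem D44626 : act 4 n30599 = n44626 := rfl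
theorem F186254 : act 3 n44626 = n30604 := d24_1 D44626 (iv D30604) (iv D21011) (iv F90555) D30599
def n44628 : Q := act 3 n30601
theorem D44628 : act 3 n30601 = n44628 := rfl
theorem F186261 : act 2 n44628 = n30674 := d17_1 D44628 (iv D30674) F90775 (iv F90608) (iv F129738)
theorem F186263 : act 7 n44628 = n30602 := d27_2 (iv F129740) D44628 (iv D30602)
def n44630 : Q := act 4 n30602
theorem D44630 : act 4 n30602 = n44630 := rfl
theorem F186273 : act 8 n44630 = n33631 := d33_2 (iv F129744) D44630 (iv D33631)
def n44639 : Q := act 8 n30609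
theorem D44639 : act 8 n30609 = n44639 := rfl
theorem F186312 : act 1 n44639 = n30618 := d15_1 D44639 (iv D30618) (iv F129773)
theorem F186313 : act 5 n44639 = n30611 := d37_1 D44639 (iv D30611) (iv F129775)
def n44640 : Q := act 3 n30610
theorem D44640 : act 3 n30610 = n44640 := rfl
theorem F186315 : act 1 n44640 = n30619 := d10_1 D44640 (iv D30619) (iv F129777)
theorem F186316 : act 5 n44640 = n30612 := d25_2 (iv F129778) D44640 (iv D30612)
def n44641 : Q := act 9 n30610
theorem D44641 : act 9 n30610 = n44641 := rfl
theorem F186319 : act 1 n44641 = n30620 := d16_1 D44641 (iv D30620) (iv F129777)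
def n44642 : Q := act 3 n30611
theorem D44642 : act 3 n30611 = n44642 := rfl
theorem F186323 : act 1 n44642 = n30621 := d10_1 D44642 (iv D30621) (iv F129780)
theorem F186324 : act 4 n44642 = n30688 := d24_2 (iv F129781) D44642 (iv D30688) F90809 (iv F90608)
def n44643 : Q := act 9 n30611
theorem D44643 : act 9 n30611 = n44643 := rfl
theorem F186328 : act 1 n44643 = n30622 := d16_1 D44643 (iv D30622) (iv F129780)
def n44644 : Q := act 2 n30612
theorem D44644 : act 2 n30612 = n44644 := rfl
theorem F186333 : act 4 n44644 = n30690 := d18_2 (iv F129785) D44644 (iv D30690)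
def n44645 : Q := act 9 n30612
theorem D44645 : act 9 n30612 = n44645 := rfl
theorem F186336 : act 1 n44645 = n30624 := d16_1 D44645 (iv D30624) (iv F129784)
theorem F186338 : act 4 n44645 = n30691 := d34_1 D44645 (iv D30691) (iv F129785)
def n44646 : Q := act 1 n30614
theorem D44646 : act 1 n30614 = n44646 := rfl
theorem F186340 : act 2 n44646 = n30625 := d9_2 D30614 D44646 (iv D30625) (iv D21027) (iv F90597)
theorem F186341 : act 4 n44646 = n30692 := d11_2 (iv F129792) D44646 (iv D30692)
def n44647 : Q := act 9 n30614
theorem D44647 : act 9 n30614 = n44647 := rfl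
theorem F186346 : act 4 n44647 = n30693 := d34_1 D44647 (iv D30693) (iv F129792)
def n44648 : Q := act 8 n30615
theorem D44648 : act 8 n30615 = n44648 := rfl
theorem F186349 : act 1 n44648 = n30627 := d15_1 D44648 (iv D30627) (iv F129796)
theorem F186351 : act 4 n44648 = n30694 := d33_1 D44648 (iv D30694) (iv F129798)
def n44650 : Q := act 3 n30618
theorem D44650 : act 3 n30618 = n44650 := rfl
theorem F186361 : act 5 n44650 = n30621 := d25_2 (iv F129814) D44650 (iv D30621)
def n44652 : Q := act 2 n30619
theorem D44652 : act 2 n30619 = n44652 := rfl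
theorem F186371 : act 5 n44652 = n30623 := d19_2 (iv F129817) D44652 (iv D30623)
def n44653 : Q := act 4 n30619
theorem D44653 : act 4 n30619 = n44653 := rfl
theorem F186375 : act 5 n44653 = n30699 := d30_2 (iv F129817) D44653 (iv D30699) F90838 (iv F90630)
def n44654 : Q := act 9 n30619
theorem D44654 : act 9 n30619 = n44654 := rfl
theorem F186380 : act 5 n44654 = n30624 := d38_1 D44654 (iv D30624) (iv F129817)
def n44655 : Q := act 2 n30621
theorem D44655 : act 2 n30621 = n44655 := rfl
theorem F186384 : act 4 n44655 = n30701 := d18_2 (iv F129826) D44655 (iv D30701)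
theorem F186386 : act 7 n44655 = n30623 := d21_2 (iv F129828) D44655 (iv D30623)
def n44656 : Q := act 9 n30621
theorem D44656 : act 9 n30621 = n44656 := rfl
theorem F186390 : act 4 n44656 = n30702 := d34_1 D44656 (iv D30702) (iv F129826)
theorem F186392 : act 7 n44656 = n30624 := d43_1 D44656 (iv D30624) (iv F129828)
def n44657 : Q := act 1 n30623
theorem D44657 : act 1 n30623 = n44657 := rfl
theorem F186393 : act 3 n44657 = n44657 := d10_2 F129837 D44657 (iv D44657)
theorem F186394 : act 4 n44657 = n30703 := d11_2 (iv F129838) D44657 (iv D30703)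
theorem F186395 : act 6 n44657 = n30625 := d13_2 (iv F129839) D44657 (iv D30625)
theorem F186396 : act 8 n44657 = n44657 := d15_2 F129840 D44657 (iv D44657)
def n44658 : Q := act 9 n30623
theorem D44658 : act 9 n30623 = n44658 := rfl
theorem F186397 : act 0 n44658 = n44658 := d8_1 D44658 (iv D44658) F129836
theorem F186398 : act 2 n44658 = n30624 := d23_1 D44658 (iv D30624) D30623
theorem F186399 : act 3 n44658 = n44658 := d29_1 D44658 (iv D44658) F129837
theorem F186400 : act 4 n44658 = n30704 := d34_1 D44658 (iv D30704) (iv F129838)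
theorem F186401 : act 6 n44658 = n30626 := d41_1 D44658 (iv D30626) (iv F129839)
def n44659 : Q := act 8 n30624
theorem D44659 : act 8 n30624 = n44659 := rfl
theorem F186402 : act 0 n44659 = n44659 := d7_1 D44659 (iv D44659) F129841
theorem F186403 : act 3 n44659 = n44659 := d28_1 D44659 (iv D44659) F129842 F90637 (iv F129842)
theorem F186404 : act 4 n44659 = n30705 := d33_1 D44659 (iv D30705) (iv F129843)
theorem F186405 : act 6 n44659 = n30627 := d40_1 D44659 (iv D30627) (iv F129844)
theorem F186406 : act 9 n44659 = n44659 := d44_2 D30624 D44659 (iv D44659) (iv D30624) F90632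
def n44660 : Q := act 0 n30625
theorem D44660 : act 0 n30625 = n44660 := rfl
theorem F186407 : act 1 n44660 = n44660 := d0_2 D30625 D44660 (iv D44660) (iv D30625) F90638
theorem F186408 : act 3 n44660 = n44660 := d2_2 F129845 D44660 (iv D44660)
theorem F186409 : act 4 n44660 = n30706 := d3_2 (iv F129846) D44660 (iv D30706)
theorem F186410 : act 5 n44660 = n44660 := d4_2 F129847 D44660 (iv D44660)
theorem F186411 : act 7 n44660 = n44660 := d6_2 F129848 D44660 (iv D44660)
theorem F186412 : act 8 n44660 = n44660 := d7_2 F129849 D44660 (iv D44660)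
def n44661 : Q := act 9 n30625
theorem D44661 : act 9 n30625 = n44661 := rfl
theorem F186413 : act 1 n44661 = n30626 := d16_1 D44661 (iv D30626) D30625
theorem F186414 : act 3 n44661 = n44661 := d29_1 D44661 (iv D44661) F129845
theorem F186415 : act 4 n44661 = n30707 := d34_1 D44661 (iv D30707) (iv F129846)
theorem F186416 : act 5 n44661 = n44661 := d38_1 D44661 (iv D44661) F129847
theorem F186417 : act 7 n44661 = n44661 := d43_1 D44661 (iv D44661) F129848
def n44662 : Q := act 8 n30626
theorem D44662 : act 8 n30626 = n44662 := rfl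
theorem F186418 : act 0 n44662 = n44662 := d7_1 D44662 (iv D44662) F129850
theorem F186419 : act 2 n44662 = n30627 := d22_1 D44662 (iv D30627) (iv F129851)
theorem F186420 : act 4 n44662 = n30708 := d33_1 D44662 (iv D30708) (iv F129853)
theorem F186421 : act 5 n44662 = n44662 := d37_1 D44662 (iv D44662) F129854
theorem F186422 : act 7 n44662 = n44662 := d42_1 D44662 (iv D44662) F129855
theorem F186423 : act 9 n44662 = n44662 := d44_2 D30626 D44662 (iv D44662) (iv D30626) F90643
def n44664 : Q := act 6 n30628
theorem D44664 : act 6 n30628 = n44664 := rfl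
theorem F186430 : act 0 n44664 = n31171 := d5_1 D44664 (iv D31171) (iv F129862)
theorem F186432 : act 3 n44664 = n30629 := d26_1 D44664 (iv D30629) D30628
def n44666 : Q := act 5 n30629
theorem D44666 : act 5 n30629 = n44666 := rfl
theorem F186439 : act 0 n44666 = n31173 := d4_1 D44666 (iv D31173) (iv F129867)
def n44667 : Q := act 7 n30629
theorem D44667 : act 7 n30629 = n44667 := rfl
theorem F186446 : act 4 n44667 = n30631 := d32_1 D44667 (iv D30631) (iv F129870)
theorem F186448 : act 9 n44667 = n30713 := d43_2 (iv F129871) D44667 (iv D30713)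
def n44670 : Q := act 9 n30630
theorem D44670 : act 9 n30630 = n44670 := rfl
theorem F186462 : act 8 n44670 = n30716 := d44_1 D44670 (iv D30716) (iv D21087) (iv F90659) D30630
def n44672 : Q := act 3 n30632
theorem D44672 : act 3 n30632 = n44672 := rfl
theorem F186471 : act 8 n44672 = n33673 := d28_2 D30632 D44672 (iv D33673) (iv D23098) (iv F90663)
def n44673 : Q := act 9 n30632
theorem D44673 : act 9 n30632 = n44673 := rfl
theorem F186476 : act 8 n44673 = n30719 := d44_1 D44673 (iv D30719) (iv D21089) (iv F90664) D30632
def n44682 : Q := act 5 n30638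
theorem D44682 : act 5 n30638 = n44682 := rfl
theorem F186512 : act 0 n44682 = n30661 := d4_1 D44682 (iv D30661) (iv F129910)
theorem F186515 : act 9 n44682 = n30728 := d38_2 (iv F129914) D44682 (iv D30728)
def n44683 : Q := act 7 n30638
theorem D44683 : act 7 n30638 = n44683 := rfl
theorem F186516 : act 0 n44683 = n30662 := d6_1 D44683 (iv D30662) (iv F129910)
theorem F186518 : act 3 n44683 = n30641 := d27_1 D44683 (iv D30641) (iv F129912)
theorem F186521 : act 9 n44683 = n30729 := d43_2 (iv F129914) D44683 (iv D30729)
def n44684 : Q := act 8 n30638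
theorem D44684 : act 8 n30638 = n44684 := rfl
theorem F186522 : act 0 n44684 = n30663 := d7_1 D44684 (iv D30663) (iv F129910)
def n44685 : Q := act 3 n30639
theorem D44685 : act 3 n30639 = n44685 := rfl
theorem F186526 : act 0 n44685 = n30664 := d2_1 D44685 (iv D30664) (iv F129915)
theorem F186528 : act 8 n44685 = n30643 := d28_2 D30639 D44685 (iv D30643) (iv D21037) D21035
def n44686 : Q := act 9 n30639
theorem D44686 : act 9 n30639 = n44686 := rfl
theorem F186529 : act 0 n44686 = n30665 := d8_1 D44686 (iv D30665) (iv F129915)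
theorem F186533 : act 8 n44686 = n30732 := d44_1 D44686 (iv D30732) (iv D21096) (iv F90683) D30639
def n44687 : Q := act 7 n30640
theorem D44687 : act 7 n30640 = n44687 := rfl
theorem F186534 : act 0 n44687 = n30666 := d6_1 D44687 (iv D30666) (iv F129919)
theorem F186536 : act 5 n44687 = n30641 := d36_1 D44687 (iv D30641) D30640
theorem F186537 : act 9 n44687 = n30733 := d43_2 (iv F129921) D44687 (iv D30733)
def n44688 : Q := act 8 n30640
theorem D44688 : act 8 n30640 = n44688 := rfl
theorem F186538 : act 0 n44688 = n30667 := d7_1 D44688 (iv D30667) (iv F129919)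
def n44689 : Q := act 8 n30641
theorem D44689 : act 8 n30641 = n44689 := rfl
theorem F186541 : act 0 n44689 = n30668 := d7_1 D44689 (iv D30668) (iv F129922)
theorem F186543 : act 4 n44689 = n30645 := d33_1 D44689 (iv D30645) (iv F129924)
theorem F186545 : act 7 n44689 = n30642 := d42_1 D44689 (iv D30642) D30641
def n44690 : Q := act 3 n30642
theorem D44690 : act 3 n30642 = n44690 := rfl
theorem F186546 : act 0 n44690 = n30669 := d2_1 D44690 (iv D30669) (iv F129927)
def n44691 : Q := act 9 n30642
theorem D44691 : act 9 n30642 = n44691 := rfl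
theorem F186548 : act 0 n44691 = n30670 := d8_1 D44691 (iv D30670) (iv F129927)
theorem F186552 : act 8 n44691 = n30737 := d44_1 D44691 (iv D30737) (iv D21099) (iv F90687) D30642
def n44692 : Q := act 2 n30643
theorem D44692 : act 2 n30643 = n44692 := rfl
theorem F186553 : act 0 n44692 = n30671 := d1_1 D44692 (iv D30671) (iv F129931)
theorem F186554 : act 3 n44692 = n30658 := d17_2 D30643 D44692 (iv D30658) (iv D21047) (iv F90689)
def n44693 : Q := act 4 n30643
theorem D44693 : act 4 n30643 = n44693 := rfl
theorem F186557 : act 3 n44693 = n30648 := d24_1 D44693 (iv D30648) (iv D21040) (iv F90690) D30643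
def n44694 : Q := act 9 n30643
theorem D44694 : act 9 n30643 = n44694 := rfl
theorem F186559 : act 0 n44694 = n30673 := d8_1 D44694 (iv D30673) (iv F129931)
def n44696 : Q := act 9 n30645
theorem D44696 : act 9 n30645 = n44696 := rfl
theorem F186566 : act 0 n44696 = n30675 := d8_1 D44696 (iv D30675) (iv F129938)
theorem F186570 : act 8 n44696 = n30742 := d44_1 D44696 (iv D30742) (iv D21102) (iv F90696) D30645
def n44705 : Q := act 6 n30653
theorem D44705 : act 6 n30653 = n44705 := rfl
theorem F186598 : act 0 n44705 = n30684 := d5_1 D44705 (iv D30684) (iv F129966)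
theorem F186602 : act 9 n44705 = n30751 := d41_2 (iv F129970) D44705 (iv D30751)
def n44706 : Q := act 8 n30653
theorem D44706 : act 8 n30653 = n44706 := rfl
theorem F186603 : act 0 n44706 = n30685 := d7_1 D44706 (iv D30685) (iv F129966)
def n44707 : Q := act 3 n30654
theorem D44707 : act 3 n30654 = n44707 := rfl
theorem F186607 : act 0 n44707 = n30686 := d2_1 D44707 (iv D30686) (iv F129971)
def n44708 : Q := act 9 n30654
theorem D44708 : act 9 n30654 = n44708 := rfl
theorem F186611 : act 0 n44708 = n30687 := d8_1 D44708 (iv D30687) (iv F129971)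
theorem F186614 : act 8 n44708 = n30754 := d44_1 D44708 (iv D30754) (iv D21111) (iv F90718) D30654
def n44709 : Q := act 3 n30655
theorem D44709 : act 3 n30655 = n44709 := rfl
theorem F186615 : act 0 n44709 = n30688 := d2_1 D44709 (iv D30688) (iv F129974)
def n44710 : Q := act 9 n30655
theorem D44710 : act 9 n30655 = n44710 := rfl
theorem F186620 : act 0 n44710 = n30689 := d8_1 D44710 (iv D30689) (iv F129974)
theorem F186625 : act 8 n44710 = n30756 := d44_1 D44710 (iv D30756) (iv D21112) (iv F90724) D30655
def n44711 : Q := act 2 n30656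
theorem D44711 : act 2 n30656 = n44711 := rfl
theorem F186626 : act 0 n44711 = n30690 := d1_1 D44711 (iv D30690) (iv F129979)
def n44712 : Q := act 9 n30656
theorem D44712 : act 9 n30656 = n44712 := rfl
theorem F186629 : act 0 n44712 = n30691 := d8_1 D44712 (iv D30691) (iv F129979)
def n44714 : Q := act 9 n30658
theorem D44714 : act 9 n30658 = n44714 := rfl
theorem F186636 : act 0 n44714 = n30693 := d8_1 D44714 (iv D30693) (iv F129988)
def n44715 : Q := act 8 n30659
theorem D44715 : act 8 n30659 = n44715 := rfl
theorem F186639 : act 0 n44715 = n30694 := d7_1 D44715 (iv D30694) (iv F129991)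
theorem F186641 : act 3 n44715 = n30761 := d28_1 D44715 (iv D30761) F91000 (iv F90737) (iv F129993)
def n44716 : Q := act 4 n30661
theorem D44716 : act 4 n30661 = n44716 := rfl
theorem F186644 : act 1 n44716 = n31223 := d11_1 D44716 (iv D31223) (iv F130000)
theorem F186645 : act 2 n44716 = n44716 := d18_1 D44716 (iv D44716) F130001
theorem F186646 : act 5 n44716 = n33717 := d30_2 D30661 D44716 (iv D33717) (iv D23127) (iv F90749)
theorem F186647 : act 9 n44716 = n30762 := d34_2 (iv F130003) D44716 (iv D30762)
def n44717 : Q := act 7 n30661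
theorem D44717 : act 7 n30661 = n44717 := rfl
theorem F186648 : act 1 n44717 = n31224 := d14_1 D44717 (iv D31224) (iv F130000)
theorem F186649 : act 2 n44717 = n44717 := d21_1 D44717 (iv D44717) F130001
theorem F186650 : act 3 n44717 = n30666 := d27_1 D44717 (iv D30666) (iv F130002)
theorem F186651 : act 5 n44717 = n30662 := d36_1 D44717 (iv D30662) D30661
theorem F186652 : act 9 n44717 = n30763 := d43_2 (iv F130003) D44717 (iv D30763)
def n44718 : Q := act 8 n30661
theorem D44718 : act 8 n30661 = n44718 := rfl
theorem F186653 : act 1 n44718 = n31225 := d15_1 D44718 (iv D31225) (iv F130000)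
theorem F186654 : act 2 n44718 = n44718 := d22_1 D44718 (iv D44718) F130001
theorem F186655 : act 5 n44718 = n30663 := d37_1 D44718 (iv D30663) D30661
def n44719 : Q := act 8 n30662
theorem D44719 : act 8 n30662 = n44719 := rfl
theorem F186656 : act 1 n44719 = n31226 := d15_1 D44719 (iv D31226) (iv F130004)
theorem F186657 : act 2 n44719 = n44719 := d22_1 D44719 (iv D44719) F130005
theorem F186658 : act 4 n44719 = n33720 := d33_1 D44719 (iv D33720) (iv F130007)
theorem F186659 : act 6 n44719 = n44719 := d40_1 D44719 (iv D44719) F130008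
theorem F186660 : act 7 n44719 = n30663 := d42_1 D44719 (iv D30663) D30662
def n44720 : Q := act 3 n30663
theorem D44720 : act 3 n30663 = n44720 := rfl
theorem F186661 : act 1 n44720 = n31227 := d10_1 D44720 (iv D31227) (iv F130010)
theorem F186662 : act 6 n44720 = n30664 := d26_2 (iv F130013) D44720 (iv D30664)
theorem F186663 : act 8 n44720 = n30669 := d28_2 D30663 D44720 (iv D30669) (iv D21055) (iv F90748)
def n44721 : Q := act 9 n30663
theorem D44721 : act 9 n30663 = n44721 := rfl
theorem F186664 : act 1 n44721 = n31228 := d16_1 D44721 (iv D31228) (iv F130010)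
theorem F186665 : act 2 n44721 = n44721 := d23_1 D44721 (iv D44721) F130011
theorem F186666 : act 4 n44721 = n33722 := d34_1 D44721 (iv D33722) (iv F130012)
theorem F186667 : act 6 n44721 = n30665 := d41_1 D44721 (iv D30665) (iv F130013)
theorem F186668 : act 8 n44721 = n30767 := d44_1 D44721 (iv D30767) (iv D21120) (iv F90750) D30663
def n44722 : Q := act 2 n30664
theorem D44722 : act 2 n30664 = n44722 := rfl
theorem F186671 : act 8 n44722 = n30671 := d22_2 (iv F130016) D44722 (iv D30671)
def n44723 : Q := act 4 n30664
theorem D44723 : act 4 n30664 = n44723 := rfl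
theorem F186672 : act 1 n44723 = n31230 := d11_1 D44723 (iv D31230) (iv F130014)
theorem F186673 : act 3 n44723 = n33724 := d24_1 D44723 (iv D33724) (iv D23130) (iv F90753) D30664
def n44724 : Q := act 9 n30664
theorem D44724 : act 9 n30664 = n44724 := rfl
theorem F186676 : act 1 n44724 = n31231 := d16_1 D44724 (iv D31231) (iv F130014)
theorem F186677 : act 3 n44724 = n30665 := d29_1 D44724 (iv D30665) D30664
theorem F186678 : act 7 n44724 = n44724 := d43_1 D44724 (iv D44724) F130015
def n44725 : Q := act 6 n30666
theorem D44725 : act 6 n30666 = n44725 := rfl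
theorem F186679 : act 1 n44725 = n31232 := d13_1 D44725 (iv D31232) (iv F130022)
theorem F186680 : act 2 n44725 = n30684 := d20_1 D44725 (iv D30684) (iv F130023)
theorem F186681 : act 5 n44725 = n44725 := d35_1 D44725 (iv D44725) F130024 F90761 (iv F130024)
theorem F186682 : act 9 n44725 = n30771 := d41_2 (iv F130025) D44725 (iv D30771)
def n44726 : Q := act 8 n30666
theorem D44726 : act 8 n30666 = n44726 := rfl
theorem F186683 : act 1 n44726 = n31233 := d15_1 D44726 (iv D31233) (iv F130022)
theorem F186684 : act 2 n44726 = n30685 := d22_1 D44726 (iv D30685) (iv F130023)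
theorem F186685 : act 5 n44726 = n30668 := d37_1 D44726 (iv D30668) (iv F130024)
theorem F186686 : act 7 n44726 = n30667 := d42_1 D44726 (iv D30667) D30666
def n44727 : Q := act 3 n30667
theorem D44727 : act 3 n30667 = n44727 := rfl
theorem F186687 : act 1 n44727 = n31234 := d10_1 D44727 (iv D31234) (iv F130026)
theorem F186688 : act 5 n44727 = n30669 := d25_2 (iv F130028) D44727 (iv D30669)
def n44728 : Q := act 9 n30667
theorem D44728 : act 9 n30667 = n44728 := rfl
theorem F186689 : act 1 n44728 = n31235 := d16_1 D44728 (iv D31235) (iv F130026)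
theorem F186690 : act 2 n44728 = n30687 := d23_1 D44728 (iv D30687) (iv F130027)
theorem F186691 : act 5 n44728 = n30670 := d38_1 D44728 (iv D30670) (iv F130028)
theorem F186692 : act 8 n44728 = n30774 := d44_1 D44728 (iv D30774) (iv D21124) (iv F90757) D30667
def n44729 : Q := act 3 n30668
theorem D44729 : act 3 n30668 = n44729 := rfl
theorem F186693 : act 1 n44729 = n31236 := d10_1 D44729 (iv D31236) (iv F130029)
theorem F186694 : act 6 n44729 = n44729 := d26_2 F130032 D44729 (iv D44729)
theorem F186695 : act 7 n44729 = n30669 := d27_2 (iv F130033) D44729 (iv D30669)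
def n44730 : Q := act 9 n30668
theorem D44730 : act 9 n30668 = n44730 := rfl
theorem F186696 : act 1 n44730 = n31237 := d16_1 D44730 (iv D31237) (iv F130029)
theorem F186697 : act 2 n44730 = n30689 := d23_1 D44730 (iv D30689) (iv F130030)
theorem F186698 : act 4 n44730 = n30675 := d34_1 D44730 (iv D30675) (iv F130031)
theorem F186699 : act 6 n44730 = n44730 := d41_1 D44730 (iv D44730) F130032
theorem F186700 : act 7 n44730 = n30670 := d43_1 D44730 (iv D30670) (iv F130033)
theorem F186701 : act 8 n44730 = n30776 := d44_1 D44730 (iv D30776) (iv D21125) (iv F90762) D30668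
def n44731 : Q := act 2 n30669
theorem D44731 : act 2 n30669 = n44731 := rfl
theorem F186702 : act 3 n44731 = n30690 := d17_2 D30669 D44731 (iv D30690) (iv D21069) (iv F90764)
theorem F186703 : act 6 n44731 = n30671 := d20_2 (iv F130035) D44731 (iv D30671)
def n44732 : Q := act 4 n30669
theorem D44732 : act 4 n30669 = n44732 := rfl
theorem F186704 : act 1 n44732 = n31239 := d11_1 D44732 (iv D31239) (iv F130034)
theorem F186705 : act 3 n44732 = n30676 := d24_1 D44732 (iv D30676) (iv D21059) (iv F90765) D30669
def n44733 : Q := act 9 n30669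
theorem D44733 : act 9 n30669 = n44733 := rfl
theorem F186707 : act 1 n44733 = n31240 := d16_1 D44733 (iv D31240) (iv F130034)
theorem F186708 : act 3 n44733 = n30670 := d29_1 D44733 (iv D30670) D30669
theorem F186709 : act 6 n44733 = n30673 := d41_1 D44733 (iv D30673) (iv F130035)
def n44734 : Q := act 1 n30671
theorem D44734 : act 1 n30671 = n44734 := rfl
theorem F186710 : act 2 n44734 = n31241 := d9_2 D30671 D44734 (iv D31241) (iv D21436) (iv F90767)
theorem F186711 : act 3 n44734 = n30692 := d10_2 (iv F130041) D44734 (iv D30692)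
theorem F186712 : act 7 n44734 = n44734 := d14_2 F130042 D44734 (iv D44734)
def n44735 : Q := act 4 n30671
theorem D44735 : act 4 n30671 = n44735 := rfl
theorem F186713 : act 2 n44735 = n30672 := d18_1 D44735 (iv D30672) D30671
def n44736 : Q := act 9 n30671
theorem D44736 : act 9 n30671 = n44736 := rfl
theorem F186715 : act 2 n44736 = n30673 := d23_1 D44736 (iv D30673) D30671
theorem F186716 : act 3 n44736 = n30693 := d29_1 D44736 (iv D30693) (iv F130041)
theorem F186717 : act 7 n44736 = n44736 := d43_1 D44736 (iv D44736) F130042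
def n44737 : Q := act 5 n30672
theorem D44737 : act 5 n30672 = n44737 := rfl
theorem F186719 : act 3 n44737 = n30678 := d25_1 D44737 (iv D30678) (iv F130044)
def n44738 : Q := act 9 n30672
theorem D44738 : act 9 n30672 = n44738 := rfl
theorem F186721 : act 1 n44738 = n31245 := d16_1 D44738 (iv D31245) (iv F130043)
theorem F186723 : act 4 n44738 = n30673 := d34_1 D44738 (iv D30673) D30672
def n44739 : Q := act 8 n30673
theorem D44739 : act 8 n30673 = n44739 := rfl
theorem F186725 : act 1 n44739 = n31246 := d15_1 D44739 (iv D31246) (iv F130046)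
theorem F186726 : act 3 n44739 = n30785 := d28_1 D44739 (iv D30785) F91050 (iv F90773) (iv F130047)
theorem F186727 : act 7 n44739 = n44739 := d42_1 D44739 (iv D44739) F130048
def n44740 : Q := act 4 n30674
theorem D44740 : act 4 n30674 = n44740 := rfl
theorem F186730 : act 7 n44740 = n30676 := d32_2 (iv F130051) D44740 (iv D30676)
def n44741 : Q := act 9 n30674
theorem D44741 : act 9 n30674 = n44741 := rfl
theorem F186733 : act 3 n44741 = n30675 := d29_1 D44741 (iv D30675) D30674
def n44742 : Q := act 5 n30676
theorem D44742 : act 5 n30676 = n44742 := rfl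
theorem F186736 : act 1 n44742 = n31249 := d12_1 D44742 (iv D31249) (iv F130058)
def n44743 : Q := act 9 n30676
theorem D44743 : act 9 n30676 = n44743 := rfl
theorem F186738 : act 1 n44743 = n31250 := d16_1 D44743 (iv D31250) (iv F130058)
def n44752 : Q := act 8 n30684
theorem D44752 : act 8 n30684 = n44752 := rfl
theorem F186769 : act 1 n44752 = n30695 := d15_1 D44752 (iv D30695) (iv F130085)
theorem F186771 : act 6 n44752 = n30685 := d40_1 D44752 (iv D30685) D30684
def n44753 : Q := act 3 n30685
theorem D44753 : act 3 n30685 = n44753 := rfl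
theorem F186772 : act 1 n44753 = n30696 := d10_1 D44753 (iv D30696) (iv F130089)
theorem F186773 : act 5 n44753 = n30688 := d25_2 (iv F130090) D44753 (iv D30688)
theorem F186774 : act 7 n44753 = n30686 := d27_2 (iv F130091) D44753 (iv D30686)
def n44754 : Q := act 9 n30685
theorem D44754 : act 9 n30685 = n44754 := rfl
theorem F186776 : act 1 n44754 = n30697 := d16_1 D44754 (iv D30697) (iv F130089)
theorem F186777 : act 5 n44754 = n30689 := d38_1 D44754 (iv D30689) (iv F130090)
theorem F186778 : act 7 n44754 = n30687 := d43_1 D44754 (iv D30687) (iv F130091)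
theorem F186779 : act 8 n44754 = n30800 := d44_1 D44754 (iv D30800) (iv D21142) (iv F90805) D30685
def n44755 : Q := act 2 n30686
theorem D44755 : act 2 n30686 = n44755 := rfl
theorem F186780 : act 5 n44755 = n30690 := d19_2 (iv F130093) D44755 (iv D30690)
theorem F186781 : act 8 n44755 = n44755 := d22_2 F130094 D44755 (iv D44755)
def n44756 : Q := act 4 n30686
theorem D44756 : act 4 n30686 = n44756 := rfl
theorem F186782 : act 1 n44756 = n30699 := d11_1 D44756 (iv D30699) (iv F130092)
def n44757 : Q := act 9 n30686
theorem D44757 : act 9 n30686 = n44757 := rfl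
theorem F186784 : act 1 n44757 = n30700 := d16_1 D44757 (iv D30700) (iv F130092)
theorem F186785 : act 3 n44757 = n30687 := d29_1 D44757 (iv D30687) D30686
theorem F186786 : act 5 n44757 = n30691 := d38_1 D44757 (iv D30691) (iv F130093)
def n44758 : Q := act 2 n30688
theorem D44758 : act 2 n30688 = n44758 := rfl
theorem F186787 : act 6 n44758 = n44758 := d20_2 F130099 D44758 (iv D44758)
theorem F186788 : act 7 n44758 = n30690 := d21_2 (iv F130100) D44758 (iv D30690)
theorem F186789 : act 8 n44758 = n44758 := d22_2 F130101 D44758 (iv D44758)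
def n44759 : Q := act 9 n30688
theorem D44759 : act 9 n30688 = n44759 := rfl
theorem F186790 : act 1 n44759 = n30702 := d16_1 D44759 (iv D30702) (iv F130098)
theorem F186791 : act 3 n44759 = n30689 := d29_1 D44759 (iv D30689) D30688
theorem F186792 : act 6 n44759 = n44759 := d41_1 D44759 (iv D44759) F130099
theorem F186793 : act 7 n44759 = n30691 := d43_1 D44759 (iv D30691) (iv F130100)
def n44760 : Q := act 1 n30690
theorem D44760 : act 1 n30690 = n44760 := rfl
theorem F186794 : act 2 n44760 = n30703 := d9_2 D30690 D44760 (iv D30703) (iv D21080) (iv F90812)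
theorem F186795 : act 6 n44760 = n30692 := d13_2 (iv F130107) D44760 (iv D30692)
theorem F186796 : act 8 n44760 = n44760 := d15_2 F130108 D44760 (iv D44760)
def n44761 : Q := act 9 n30690
theorem D44761 : act 9 n30690 = n44761 := rfl
theorem F186797 : act 2 n44761 = n30691 := d23_1 D44761 (iv D30691) D30690
theorem F186798 : act 6 n44761 = n30693 := d41_1 D44761 (iv D30693) (iv F130107)
def n44762 : Q := act 8 n30691
theorem D44762 : act 8 n30691 = n44762 := rfl
theorem F186799 : act 1 n44762 = n30705 := d15_1 D44762 (iv D30705) (iv F130109)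
theorem F186800 : act 3 n44762 = n30808 := d28_1 D44762 (iv D30808) F91119 (iv F90818) (iv F130110)
theorem F186801 : act 6 n44762 = n30694 := d40_1 D44762 (iv D30694) (iv F130111)
theorem F186802 : act 9 n44762 = n44762 := d44_2 D30691 D44762 (iv D44762) (iv D30691) F90814
def n44763 : Q := act 0 n30692
theorem D44763 : act 0 n30692 = n44763 := rfl
theorem F186803 : act 2 n44763 = n30706 := d1_2 (iv F130112) D44763 (iv D30706)
theorem F186804 : act 7 n44763 = n44763 := d6_2 F130113 D44763 (iv D44763)
theorem F186805 : act 8 n44763 = n44763 := d7_2 F130114 D44763 (iv D44763)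
def n44764 : Q := act 9 n30692
theorem D44764 : act 9 n30692 = n44764 := rfl
theorem F186806 : act 1 n44764 = n30693 := d16_1 D44764 (iv D30693) D30692
theorem F186807 : act 2 n44764 = n30707 := d23_1 D44764 (iv D30707) (iv F130112)
theorem F186808 : act 7 n44764 = n44764 := d43_1 D44764 (iv D44764) F130113
def n44765 : Q := act 8 n30693
theorem D44765 : act 8 n30693 = n44765 := rfl
theorem F186809 : act 2 n44765 = n30694 := d22_1 D44765 (iv D30694) (iv F130115)
theorem F186810 : act 7 n44765 = n44765 := d42_1 D44765 (iv D44765) F130116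
theorem F186811 : act 9 n44765 = n44765 := d44_2 D30693 D44765 (iv D44765) (iv D30693) F90820
def n44767 : Q := act 9 n30695
theorem D44767 : act 9 n30695 = n44767 := rfl
theorem F186817 : act 2 n44767 = n31274 := d23_1 D44767 (iv D31274) (iv F130122)
theorem F186819 : act 6 n44767 = n30697 := d41_1 D44767 (iv D30697) (iv F130124)
theorem F186820 : act 8 n44767 = n30813 := d44_1 D44767 (iv D30813) (iv D21152) (iv F90832) D30695
def n44768 : Q := act 2 n30696
theorem D44768 : act 2 n30696 = n44768 := rfl
theorem F186822 : act 3 n44768 = n31275 := d17_2 D30696 D44768 (iv D31275) (iv D21461) (iv F90834)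
theorem F186823 : act 5 n44768 = n30701 := d19_2 (iv F130126) D44768 (iv D30701)
theorem F186824 : act 7 n44768 = n30698 := d21_2 (iv F130127) D44768 (iv D30698)
def n44770 : Q := act 9 n30696
theorem D44770 : act 9 n30696 = n44770 := rfl
theorem F186830 : act 3 n44770 = n30697 := d29_1 D44770 (iv D30697) D30696
theorem F186831 : act 5 n44770 = n30702 := d38_1 D44770 (iv D30702) (iv F130126)
theorem F186832 : act 7 n44770 = n30700 := d43_1 D44770 (iv D30700) (iv F130127)
def n44771 : Q := act 1 n30698
theorem D44771 : act 1 n30698 = n44771 := rfl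
theorem F186833 : act 3 n44771 = n31278 := d10_2 (iv F130135) D44771 (iv D31278)
theorem F186834 : act 5 n44771 = n30703 := d12_2 (iv F130136) D44771 (iv D30703)
theorem F186835 : act 8 n44771 = n44771 := d15_2 F130137 D44771 (iv D44771)
def n44772 : Q := act 4 n30698
theorem D44772 : act 4 n30698 = n44772 := rfl
theorem F186837 : act 2 n44772 = n30699 := d18_1 D44772 (iv D30699) D30698
def n44773 : Q := act 9 n30698
theorem D44773 : act 9 n30698 = n44773 := rfl
theorem F186839 : act 0 n44773 = n44773 := d8_1 D44773 (iv D44773) F130134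
theorem F186840 : act 2 n44773 = n30700 := d23_1 D44773 (iv D30700) D30698
theorem F186841 : act 3 n44773 = n31280 := d29_1 D44773 (iv D31280) (iv F130135)
theorem F186842 : act 5 n44773 = n30704 := d38_1 D44773 (iv D30704) (iv F130136)
def n44774 : Q := act 9 n30699
theorem D44774 : act 9 n30699 = n44774 := rfl
theorem F186844 : act 4 n44774 = n30700 := d34_1 D44774 (iv D30700) D30699
def n44775 : Q := act 8 n30700
theorem D44775 : act 8 n30700 = n44775 := rfl
theorem F186845 : act 0 n44775 = n44775 := d7_1 D44775 (iv D44775) F130140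
theorem F186846 : act 3 n44775 = n30821 := d28_1 D44775 (iv D30821) F91153 (iv F90843) (iv F130141)
theorem F186847 : act 5 n44775 = n30705 := d37_1 D44775 (iv D30705) (iv F130142)
theorem F186848 : act 9 n44775 = n44775 := d44_2 D30700 D44775 (iv D44775) (iv D30700) F90839
def n44776 : Q := act 1 n30701
theorem D44776 : act 1 n30701 = n44776 := rfl
theorem F186849 : act 3 n44776 = n31283 := d10_2 (iv F130144) D44776 (iv D31283)
theorem F186850 : act 6 n44776 = n44776 := d13_2 F130145 D44776 (iv D44776)
theorem F186851 : act 7 n44776 = n30703 := d14_2 (iv F130146) D44776 (iv D30703)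
theorem F186852 : act 8 n44776 = n44776 := d15_2 F130147 D44776 (iv D44776)
def n44777 : Q := act 9 n30701
theorem D44777 : act 9 n30701 = n44777 := rfl
theorem F186853 : act 0 n44777 = n44777 := d8_1 D44777 (iv D44777) F130143
theorem F186854 : act 2 n44777 = n30702 := d23_1 D44777 (iv D30702) D30701
theorem F186855 : act 3 n44777 = n31284 := d29_1 D44777 (iv D31284) (iv F130144)
theorem F186856 : act 6 n44777 = n44777 := d41_1 D44777 (iv D44777) F130145
theorem F186857 : act 7 n44777 = n30704 := d43_1 D44777 (iv D30704) (iv F130146)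
def n44778 : Q := act 8 n30702
theorem D44778 : act 8 n30702 = n44778 := rfl
theorem F186858 : act 0 n44778 = n44778 := d7_1 D44778 (iv D44778) F130148
theorem F186859 : act 3 n44778 = n30824 := d28_1 D44778 (iv D30824) F91162 (iv F90853) (iv F130149)
theorem F186860 : act 6 n44778 = n44778 := d40_1 D44778 (iv D44778) F130150
theorem F186861 : act 7 n44778 = n30705 := d42_1 D44778 (iv D30705) (iv F130151)
theorem F186862 : act 9 n44778 = n44778 := d44_2 D30702 D44778 (iv D44778) (iv D30702) F90847
def n44779 : Q := act 0 n30703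
theorem D44779 : act 0 n30703 = n44779 := rfl
theorem F186863 : act 1 n44779 = n44779 := d0_2 D30703 D44779 (iv D44779) (iv D30703) F90854
theorem F186864 : act 3 n44779 = n31286 := d2_2 (iv F130152) D44779 (iv D31286)
theorem F186865 : act 6 n44779 = n30706 := d5_2 (iv F130153) D44779 (iv D30706)
theorem F186866 : act 8 n44779 = n44779 := d7_2 F130154 D44779 (iv D44779)
def n44780 : Q := act 9 n30703
theorem D44780 : act 9 n30703 = n44780 := rfl
theorem F186867 : act 1 n44780 = n30704 := d16_1 D44780 (iv D30704) D30703
theorem F186868 : act 3 n44780 = n31287 := d29_1 D44780 (iv D31287) (iv F130152)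
theorem F186869 : act 6 n44780 = n30707 := d41_1 D44780 (iv D30707) (iv F130153)
def n44781 : Q := act 8 n30704
theorem D44781 : act 8 n30704 = n44781 := rfl
theorem F186870 : act 0 n44781 = n44781 := d7_1 D44781 (iv D44781) F130155
theorem F186871 : act 2 n44781 = n30705 := d22_1 D44781 (iv D30705) (iv F130156)
theorem F186872 : act 6 n44781 = n30708 := d40_1 D44781 (iv D30708) (iv F130158)
theorem F186873 : act 9 n44781 = n44781 := d44_2 D30704 D44781 (iv D44781) (iv D30704) F90857
def n44782 : Q := act 9 n30706
theorem D44782 : act 9 n30706 = n44782 := rfl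
theorem F186874 : act 0 n44782 = n30707 := d8_1 D44782 (iv D30707) D30706
theorem F186875 : act 1 n44782 = n44782 := d16_1 D44782 (iv D44782) F130163
theorem F186876 : act 3 n44782 = n31289 := d29_1 D44782 (iv D31289) (iv F130164)
theorem F186877 : act 7 n44782 = n44782 := d43_1 D44782 (iv D44782) F130165
def n44783 : Q := act 8 n30707
theorem D44783 : act 8 n30707 = n44783 := rfl
theorem F186878 : act 1 n44783 = n30708 := d15_1 D44783 (iv D30708) (iv F130167)
theorem F186879 : act 7 n44783 = n44783 := d42_1 D44783 (iv D44783) F130169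
theorem F186880 : act 9 n44783 = n44783 := d44_2 D30707 D44783 (iv D44783) (iv D30707) F90863
def n44784 : Q := act 3 n30708
theorem D44784 : act 3 n30708 = n44784 := rfl
theorem F186881 : act 0 n44784 = n44784 := d2_1 D44784 (iv D44784) F130170
theorem F186882 : act 2 n44784 = n30830 := d17_1 D44784 (iv D30830) F91189 (iv F90869) (iv F130171)
theorem F186883 : act 7 n44784 = n44784 := d27_2 F130172 D44784 (iv D44784)
theorem F186884 : act 8 n44784 = n31291 := d28_2 D30708 D44784 (iv D31291) (iv D21473) (iv F90866)
theorem F186885 : act 9 n44784 = n44784 := d29_2 F130173 D44784 (iv D44784)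
def n44785 : Q := act 6 n30709
theorem D44785 : act 6 n30709 = n44785 := rfl
theorem F186888 : act 2 n44785 = n30710 := d20_1 D44785 (iv D30710) D30709
theorem F186890 : act 4 n44785 = n33785 := d31_1 D44785 (iv D33785) (iv F130177)
def n44786 : Q := act 8 n30709
theorem D44786 : act 8 n30709 = n44786 := rfl
theorem F186893 : act 2 n44786 = n30711 := d22_1 D44786 (iv D30711) D30709
theorem F186894 : act 4 n44786 = n33786 := d33_1 D44786 (iv D33786) (iv F130177)
def n44787 : Q := act 5 n30710
theorem D44787 : act 5 n30710 = n44787 := rfl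
theorem F186896 : act 0 n44787 = n31294 := d4_1 D44787 (iv D31294) (iv F130179)
theorem F186897 : act 1 n44787 = n30728 := d12_1 D44787 (iv D30728) (iv F130180)
theorem F186898 : act 3 n44787 = n30712 := d25_1 D44787 (iv D30712) (iv F130181)
def n44788 : Q := act 7 n30710
theorem D44788 : act 7 n30710 = n44788 := rfl
theorem F186900 : act 1 n44788 = n30729 := d14_1 D44788 (iv D30729) (iv F130180)
theorem F186901 : act 3 n44788 = n30713 := d27_1 D44788 (iv D30713) (iv F130181)
def n44789 : Q := act 8 n30710
theorem D44789 : act 8 n30710 = n44789 := rfl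
theorem F186904 : act 0 n44789 = n31296 := d7_1 D44789 (iv D31296) (iv F130179)
theorem F186905 : act 1 n44789 = n30730 := d15_1 D44789 (iv D30730) (iv F130180)
theorem F186906 : act 4 n44789 = n33789 := d33_1 D44789 (iv D33789) (iv F130182)
theorem F186907 : act 6 n44789 = n30711 := d40_1 D44789 (iv D30711) D30710
def n44790 : Q := act 3 n30711
theorem D44790 : act 3 n30711 = n44790 := rfl
theorem F186908 : act 0 n44790 = n31297 := d2_1 D44790 (iv D31297) (iv F130183)
theorem F186909 : act 1 n44790 = n30731 := d10_1 D44790 (iv D30731) (iv F130184)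
theorem F186911 : act 8 n44790 = n30715 := d28_2 D30711 D44790 (iv D30715) (iv D21087) D21085
def n44791 : Q := act 9 n30711
theorem D44791 : act 9 n30711 = n44791 := rfl
theorem F186912 : act 0 n44791 = n31298 := d8_1 D44791 (iv D31298) (iv F130183)
theorem F186913 : act 1 n44791 = n30732 := d16_1 D44791 (iv D30732) (iv F130184)
theorem F186914 : act 4 n44791 = n33791 := d34_1 D44791 (iv D33791) (iv F130185)
theorem F186915 : act 7 n44791 = n44791 := d43_1 D44791 (iv D44791) F130186
def n44792 : Q := act 7 n30712
theorem D44792 : act 7 n30712 = n44792 := rfl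
theorem F186916 : act 0 n44792 = n31299 := d6_1 D44792 (iv D31299) (iv F130187)
theorem F186917 : act 1 n44792 = n30733 := d14_1 D44792 (iv D30733) (iv F130188)
theorem F186918 : act 2 n44792 = n44792 := d21_1 D44792 (iv D44792) F130189
theorem F186919 : act 5 n44792 = n30713 := d36_1 D44792 (iv D30713) D30712
def n44793 : Q := act 8 n30712
theorem D44793 : act 8 n30712 = n44793 := rfl
theorem F186920 : act 0 n44793 = n31300 := d7_1 D44793 (iv D31300) (iv F130187)
theorem F186921 : act 1 n44793 = n30734 := d15_1 D44793 (iv D30734) (iv F130188)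
theorem F186922 : act 2 n44793 = n44793 := d22_1 D44793 (iv D44793) F130189
theorem F186923 : act 5 n44793 = n30714 := d37_1 D44793 (iv D30714) D30712
def n44794 : Q := act 8 n30713
theorem D44794 : act 8 n30713 = n44794 := rfl
theorem F186924 : act 0 n44794 = n31301 := d7_1 D44794 (iv D31301) (iv F130190)
theorem F186925 : act 1 n44794 = n30735 := d15_1 D44794 (iv D30735) (iv F130191)
theorem F186926 : act 2 n44794 = n44794 := d22_1 D44794 (iv D44794) F130192
theorem F186927 : act 4 n44794 = n30717 := d33_1 D44794 (iv D30717) (iv F130193)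
theorem F186928 : act 6 n44794 = n44794 := d40_1 D44794 (iv D44794) F130194
theorem F186929 : act 7 n44794 = n30714 := d42_1 D44794 (iv D30714) D30713
def n44795 : Q := act 3 n30714
theorem D44795 : act 3 n30714 = n44795 := rfl
theorem F186930 : act 0 n44795 = n31302 := d2_1 D44795 (iv D31302) (iv F130195)
theorem F186931 : act 1 n44795 = n30736 := d10_1 D44795 (iv D30736) (iv F130196)
theorem F186932 : act 6 n44795 = n30715 := d26_2 (iv F130199) D44795 (iv D30715)
def n44796 : Q := act 9 n30714
theorem D44796 : act 9 n30714 = n44796 := rfl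
theorem F186933 : act 0 n44796 = n31303 := d8_1 D44796 (iv D31303) (iv F130195)
theorem F186934 : act 1 n44796 = n30737 := d16_1 D44796 (iv D30737) (iv F130196)
theorem F186935 : act 2 n44796 = n44796 := d23_1 D44796 (iv D44796) F130197
theorem F186936 : act 4 n44796 = n30719 := d34_1 D44796 (iv D30719) (iv F130198)
theorem F186937 : act 6 n44796 = n30716 := d41_1 D44796 (iv D30716) (iv F130199)
def n44797 : Q := act 2 n30715
theorem D44797 : act 2 n30715 = n44797 := rfl
theorem F186938 : act 0 n44797 = n31304 := d1_1 D44797 (iv D31304) (iv F130200)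
def n44798 : Q := act 4 n30715
theorem D44798 : act 4 n30715 = n44798 := rfl
theorem F186942 : act 1 n44798 = n30739 := d11_1 D44798 (iv D30739) (iv F130201)
theorem F186943 : act 3 n44798 = n30721 := d24_1 D44798 (iv D30721) (iv D21090) (iv F90883) D30715
def n44799 : Q := act 9 n30715
theorem D44799 : act 9 n30715 = n44799 := rfl
theorem F186945 : act 0 n44799 = n31306 := d8_1 D44799 (iv D31306) (iv F130200)
theorem F186946 : act 1 n44799 = n30740 := d16_1 D44799 (iv D30740) (iv F130201)
theorem F186947 : act 3 n44799 = n30716 := d29_1 D44799 (iv D30716) D30715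
theorem F186948 : act 7 n44799 = n44799 := d43_1 D44799 (iv D44799) F130202
def n44800 : Q := act 3 n30717
theorem D44800 : act 3 n30717 = n44800 := rfl
theorem F186950 : act 1 n44800 = n30741 := d10_1 D44800 (iv D30741) (iv F130209)
theorem F186953 : act 8 n44800 = n33800 := d28_2 D30717 D44800 (iv D33800) (iv D23183) (iv F90888)
def n44801 : Q := act 9 n30717
theorem D44801 : act 9 n30717 = n44801 := rfl
theorem F186954 : act 0 n44801 = n31308 := d8_1 D44801 (iv D31308) (iv F130208)
theorem F186955 : act 1 n44801 = n30742 := d16_1 D44801 (iv D30742) (iv F130209)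
theorem F186956 : act 2 n44801 = n44801 := d23_1 D44801 (iv D44801) F130210
theorem F186957 : act 6 n44801 = n44801 := d41_1 D44801 (iv D44801) F130211
theorem F186958 : act 7 n44801 = n30719 := d43_1 D44801 (iv D30719) (iv F130212)
def n44803 : Q := act 4 n30718
theorem D44803 : act 4 n30718 = n44803 := rfl
theorem F186965 : act 1 n44803 = n30743 := d11_1 D44803 (iv D30743) (iv F130214)
theorem F186967 : act 8 n44803 = n33803 := d33_2 (iv F130216) D44803 (iv D33803)
def n44804 : Q := act 9 n30718
theorem D44804 : act 9 n30718 = n44804 := rfl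
theorem F186969 : act 1 n44804 = n30744 := d16_1 D44804 (iv D30744) (iv F130214)
theorem F186970 : act 3 n44804 = n30719 := d29_1 D44804 (iv D30719) D30718
def n44808 : Q := act 9 n30721
theorem D44808 : act 9 n30721 = n44808 := rfl
theorem F186989 : act 1 n44808 = n30746 := d16_1 D44808 (iv D30746) (iv F130228)
def n44817 : Q := act 4 n30728
theorem D44817 : act 4 n30728 = n44817 := rfl
theorem F187028 : act 0 n44817 = n30762 := d3_1 D44817 (iv D30762) (iv F130258)
theorem F187030 : act 5 n44817 = n33817 := d30_2 D30728 D44817 (iv D33817) (iv D23194) (iv F90920)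
def n44818 : Q := act 7 n30728
theorem D44818 : act 7 n30728 = n44818 := rfl
theorem F187031 : act 0 n44818 = n30763 := d6_1 D44818 (iv D30763) (iv F130258)
theorem F187033 : act 3 n44818 = n30733 := d27_1 D44818 (iv D30733) (iv F130260)
theorem F187034 : act 5 n44818 = n30729 := d36_1 D44818 (iv D30729) D30728
def n44819 : Q := act 8 n30728
theorem D44819 : act 8 n30728 = n44819 := rfl
theorem F187035 : act 0 n44819 = n30764 := d7_1 D44819 (iv D30764) (iv F130258)
theorem F187036 : act 2 n44819 = n44819 := d22_1 D44819 (iv D44819) F130259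
theorem F187037 : act 5 n44819 = n30730 := d37_1 D44819 (iv D30730) D30728
def n44820 : Q := act 8 n30729
theorem D44820 : act 8 n30729 = n44820 := rfl
theorem F187038 : act 0 n44820 = n30765 := d7_1 D44820 (iv D30765) (iv F130261)
theorem F187039 : act 2 n44820 = n44820 := d22_1 D44820 (iv D44820) F130262
theorem F187040 : act 4 n44820 = n33820 := d33_1 D44820 (iv D33820) (iv F130264)
theorem F187041 : act 6 n44820 = n44820 := d40_1 D44820 (iv D44820) F130265
theorem F187042 : act 7 n44820 = n30730 := d42_1 D44820 (iv D30730) D30729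
def n44821 : Q := act 3 n30730
theorem D44821 : act 3 n30730 = n44821 := rfl
theorem F187043 : act 0 n44821 = n30766 := d2_1 D44821 (iv D30766) (iv F130266)
theorem F187044 : act 6 n44821 = n30731 := d26_2 (iv F130269) D44821 (iv D30731)
theorem F187045 : act 8 n44821 = n30736 := d28_2 D30730 D44821 (iv D30736) (iv D21099) (iv F90919)
def n44822 : Q := act 9 n30730
theorem D44822 : act 9 n30730 = n44822 := rfl
theorem F187046 : act 0 n44822 = n30767 := d8_1 D44822 (iv D30767) (iv F130266)
theorem F187047 : act 2 n44822 = n44822 := d23_1 D44822 (iv D44822) F130267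
theorem F187048 : act 4 n44822 = n33822 := d34_1 D44822 (iv D33822) (iv F130268)
theorem F187049 : act 6 n44822 = n30732 := d41_1 D44822 (iv D30732) (iv F130269)
def n44823 : Q := act 2 n30731
theorem D44823 : act 2 n30731 = n44823 := rfl
theorem F187050 : act 0 n44823 = n30768 := d1_1 D44823 (iv D30768) (iv F130270)
theorem F187051 : act 3 n44823 = n44823 := d17_2 D30731 D44823 (iv D44823) (iv D30731) F90922
theorem F187052 : act 7 n44823 = n44823 := d21_2 F130271 D44823 (iv D44823)
theorem F187053 : act 8 n44823 = n30738 := d22_2 (iv F130272) D44823 (iv D30738)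
def n44824 : Q := act 4 n30731
theorem D44824 : act 4 n30731 = n44824 := rfl
theorem F187054 : act 0 n44824 = n30769 := d3_1 D44824 (iv D30769) (iv F130270)
theorem F187055 : act 3 n44824 = n33824 := d24_1 D44824 (iv D33824) (iv D23197) (iv F90923) D30731
theorem F187057 : act 8 n44824 = n30739 := d33_2 (iv F130272) D44824 (iv D30739)
def n44825 : Q := act 9 n30731
theorem D44825 : act 9 n30731 = n44825 := rfl
theorem F187058 : act 0 n44825 = n30770 := d8_1 D44825 (iv D30770) (iv F130270)
theorem F187059 : act 3 n44825 = n30732 := d29_1 D44825 (iv D30732) D30731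
theorem F187060 : act 7 n44825 = n44825 := d43_1 D44825 (iv D44825) F130271
def n44826 : Q := act 6 n30733
theorem D44826 : act 6 n30733 = n44826 := rfl
theorem F187061 : act 0 n44826 = n30771 := d5_1 D44826 (iv D30771) (iv F130277)
theorem F187062 : act 2 n44826 = n30751 := d20_1 D44826 (iv D30751) (iv F130278)
theorem F187063 : act 5 n44826 = n44826 := d35_1 D44826 (iv D44826) F130279 F90930 (iv F130279)
def n44827 : Q := act 8 n30733
theorem D44827 : act 8 n30733 = n44827 := rfl
theorem F187064 : act 0 n44827 = n30772 := d7_1 D44827 (iv D30772) (iv F130277)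
theorem F187065 : act 2 n44827 = n30752 := d22_1 D44827 (iv D30752) (iv F130278)
theorem F187066 : act 5 n44827 = n30735 := d37_1 D44827 (iv D30735) (iv F130279)
theorem F187067 : act 7 n44827 = n30734 := d42_1 D44827 (iv D30734) D30733
def n44828 : Q := act 3 n30734
theorem D44828 : act 3 n30734 = n44828 := rfl
theorem F187068 : act 0 n44828 = n30773 := d2_1 D44828 (iv D30773) (iv F130280)
theorem F187069 : act 5 n44828 = n30736 := d25_2 (iv F130282) D44828 (iv D30736)
def n44829 : Q := act 9 n30734
theorem D44829 : act 9 n30734 = n44829 := rfl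
theorem F187070 : act 0 n44829 = n30774 := d8_1 D44829 (iv D30774) (iv F130280)
theorem F187071 : act 2 n44829 = n30754 := d23_1 D44829 (iv D30754) (iv F130281)
theorem F187072 : act 5 n44829 = n30737 := d38_1 D44829 (iv D30737) (iv F130282)
def n44830 : Q := act 3 n30735
theorem D44830 : act 3 n30735 = n44830 := rfl
theorem F187073 : act 0 n44830 = n30775 := d2_1 D44830 (iv D30775) (iv F130283)
theorem F187074 : act 6 n44830 = n44830 := d26_2 F130286 D44830 (iv D44830)
theorem F187075 : act 7 n44830 = n30736 := d27_2 (iv F130287) D44830 (iv D30736)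
def n44831 : Q := act 9 n30735
theorem D44831 : act 9 n30735 = n44831 := rfl
theorem F187076 : act 0 n44831 = n30776 := d8_1 D44831 (iv D30776) (iv F130283)
theorem F187077 : act 2 n44831 = n30756 := d23_1 D44831 (iv D30756) (iv F130284)
theorem F187078 : act 4 n44831 = n30742 := d34_1 D44831 (iv D30742) (iv F130285)
theorem F187079 : act 6 n44831 = n44831 := d41_1 D44831 (iv D44831) F130286
theorem F187080 : act 7 n44831 = n30737 := d43_1 D44831 (iv D30737) (iv F130287)
def n44832 : Q := act 2 n30736
theorem D44832 : act 2 n30736 = n44832 := rfl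
theorem F187081 : act 0 n44832 = n30777 := d1_1 D44832 (iv D30777) (iv F130288)
theorem F187082 : act 3 n44832 = n30757 := d17_2 D30736 D44832 (iv D30757) (iv D21113) (iv F90932)
theorem F187083 : act 6 n44832 = n30738 := d20_2 (iv F130289) D44832 (iv D30738)
def n44833 : Q := act 4 n30736
theorem D44833 : act 4 n30736 = n44833 := rfl
theorem F187084 : act 0 n44833 = n30778 := d3_1 D44833 (iv D30778) (iv F130288)
theorem F187085 : act 3 n44833 = n30743 := d24_1 D44833 (iv D30743) (iv D21103) (iv F90933) D30736
theorem F187086 : act 6 n44833 = n30739 := d31_2 (iv F130289) D44833 (iv D30739)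
def n44834 : Q := act 9 n30736
theorem D44834 : act 9 n30736 = n44834 := rfl
theorem F187087 : act 0 n44834 = n30779 := d8_1 D44834 (iv D30779) (iv F130288)
theorem F187088 : act 3 n44834 = n30737 := d29_1 D44834 (iv D30737) D30736
theorem F187089 : act 6 n44834 = n30740 := d41_1 D44834 (iv D30740) (iv F130289)
def n44835 : Q := act 1 n30738
theorem D44835 : act 1 n30738 = n44835 := rfl
theorem F187090 : act 3 n44835 = n30759 := d10_2 (iv F130295) D44835 (iv D30759)
theorem F187091 : act 7 n44835 = n44835 := d14_2 F130296 D44835 (iv D44835)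
def n44836 : Q := act 4 n30738
theorem D44836 : act 4 n30738 = n44836 := rfl
theorem F187092 : act 0 n44836 = n30781 := d3_1 D44836 (iv D30781) (iv F130294)
theorem F187093 : act 2 n44836 = n30739 := d18_1 D44836 (iv D30739) D30738
theorem F187094 : act 3 n44836 = n44836 := d24_1 D44836 (iv D44836) F130295 F90995 (iv F130295)
theorem F187095 : act 7 n44836 = n44836 := d32_2 F130296 D44836 (iv D44836)
def n44837 : Q := act 9 n30738
theorem D44837 : act 9 n30738 = n44837 := rfl
theorem F187096 : act 0 n44837 = n30782 := d8_1 D44837 (iv D30782) (iv F130294)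
theorem F187097 : act 2 n44837 = n30740 := d23_1 D44837 (iv D30740) D30738
theorem F187098 : act 3 n44837 = n30760 := d29_1 D44837 (iv D30760) (iv F130295)
theorem F187099 : act 7 n44837 = n44837 := d43_1 D44837 (iv D44837) F130296
def n44838 : Q := act 5 n30739
theorem D44838 : act 5 n30739 = n44838 := rfl
theorem F187100 : act 0 n44838 = n30783 := d4_1 D44838 (iv D30783) (iv F130297)
def n44839 : Q := act 9 n30739
theorem D44839 : act 9 n30739 = n44839 := rfl
theorem F187103 : act 0 n44839 = n30784 := d8_1 D44839 (iv D30784) (iv F130297)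
theorem F187104 : act 3 n44839 = n30746 := d29_1 D44839 (iv D30746) (iv F130298)
theorem F187105 : act 4 n44839 = n30740 := d34_1 D44839 (iv D30740) D30739
theorem F187106 : act 7 n44839 = n44839 := d43_1 D44839 (iv D44839) F130299
def n44840 : Q := act 8 n30740
theorem D44840 : act 8 n30740 = n44840 := rfl
theorem F187107 : act 0 n44840 = n30785 := d7_1 D44840 (iv D30785) (iv F130300)
theorem F187108 : act 7 n44840 = n44840 := d42_1 D44840 (iv D44840) F130302
def n44841 : Q := act 4 n30741
theorem D44841 : act 4 n30741 = n44841 := rfl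
theorem F187109 : act 0 n44841 = n30786 := d3_1 D44841 (iv D30786) (iv F130303)
theorem F187110 : act 2 n44841 = n44841 := d18_1 D44841 (iv D44841) F130304
theorem F187111 : act 6 n44841 = n44841 := d31_2 F130305 D44841 (iv D44841)
theorem F187112 : act 7 n44841 = n30743 := d32_2 (iv F130306) D44841 (iv D30743)
def n44842 : Q := act 9 n30741
theorem D44842 : act 9 n30741 = n44842 := rfl
theorem F187114 : act 0 n44842 = n30787 := d8_1 D44842 (iv D30787) (iv F130303)
theorem F187115 : act 2 n44842 = n44842 := d23_1 D44842 (iv D44842) F130304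
theorem F187116 : act 3 n44842 = n30742 := d29_1 D44842 (iv D30742) D30741
theorem F187117 : act 6 n44842 = n44842 := d41_1 D44842 (iv D44842) F130305
theorem F187118 : act 7 n44842 = n30744 := d43_1 D44842 (iv D30744) (iv F130306)
def n44843 : Q := act 5 n30743
theorem D44843 : act 5 n30743 = n44843 := rfl
theorem F187119 : act 0 n44843 = n30788 := d4_1 D44843 (iv D30788) (iv F130312)
theorem F187120 : act 2 n44843 = n44843 := d19_1 D44843 (iv D44843) F130313
def n44844 : Q := act 9 n30743
theorem D44844 : act 9 n30743 = n44844 := rfl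
theorem F187122 : act 0 n44844 = n30789 := d8_1 D44844 (iv D30789) (iv F130312)
theorem F187123 : act 2 n44844 = n44844 := d23_1 D44844 (iv D44844) F130313
theorem F187124 : act 4 n44844 = n30744 := d34_1 D44844 (iv D30744) D30743
theorem F187125 : act 6 n44844 = n30746 := d41_1 D44844 (iv D30746) (iv F130314)
def n44845 : Q := act 8 n30744
theorem D44845 : act 8 n30744 = n44845 := rfl
theorem F187129 : act 9 n44845 = n33845 := d44_2 D30744 D44845 (iv D33845) (iv D23210) (iv F90948)
def n44846 : Q := act 6 n30745
theorem D44846 : act 6 n30745 = n44846 := rfl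
theorem F187130 : act 0 n44846 = n30791 := d5_1 D44846 (iv D30791) (iv F130320)
def n44847 : Q := act 9 n30745
theorem D44847 : act 9 n30745 = n44847 := rfl
theorem F187134 : act 0 n44847 = n30792 := d8_1 D44847 (iv D30792) (iv F130320)
theorem F187137 : act 5 n44847 = n30746 := d38_1 D44847 (iv D30746) D30745
def n44848 : Q := act 8 n30746
theorem D44848 : act 8 n30746 = n44848 := rfl
theorem F187143 : act 9 n44848 = n33848 := d44_2 D30746 D44848 (iv D33848) (iv D23212) (iv F90955)
def n44849 : Q := act 7 n30748
theorem D44849 : act 7 n30748 = n44849 := rfl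
theorem F187144 : act 0 n44849 = n30794 := d6_1 D44849 (iv D30794) (iv F130334)
def n44850 : Q := act 9 n30748
theorem D44850 : act 9 n30748 = n44850 := rfl
theorem F187148 : act 0 n44850 = n30795 := d8_1 D44850 (iv D30795) (iv F130334)
theorem F187150 : act 6 n44850 = n30749 := d41_1 D44850 (iv D30749) D30748
def n44852 : Q := act 3 n30750
theorem D44852 : act 3 n30750 = n44852 := rfl
theorem F187158 : act 9 n44852 = n33852 := d29_2 (iv F130345) D44852 (iv D33852)
def n44853 : Q := act 8 n30751
theorem D44853 : act 8 n30751 = n44853 := rfl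
theorem F187159 : act 0 n44853 = n30798 := d7_1 D44853 (iv D30798) (iv F130346)
theorem F187160 : act 1 n44853 = n44853 := d15_1 D44853 (iv D44853) F130347
theorem F187161 : act 5 n44853 = n44853 := d37_1 D44853 (iv D44853) F130349
theorem F187162 : act 6 n44853 = n30752 := d40_1 D44853 (iv D30752) D30751
def n44854 : Q := act 3 n30752
theorem D44854 : act 3 n30752 = n44854 := rfl
theorem F187163 : act 0 n44854 = n30799 := d2_1 D44854 (iv D30799) (iv F130350)
theorem F187164 : act 1 n44854 = n44854 := d10_1 D44854 (iv D44854) F130351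
theorem F187165 : act 5 n44854 = n30755 := d25_2 (iv F130352) D44854 (iv D30755)
theorem F187166 : act 7 n44854 = n30753 := d27_2 (iv F130353) D44854 (iv D30753)
theorem F187167 : act 8 n44854 = n44854 := d28_2 D30752 D44854 (iv D44854) (iv D30752) F90975
def n44855 : Q := act 9 n30752
theorem D44855 : act 9 n30752 = n44855 := rfl
theorem F187168 : act 0 n44855 = n30800 := d8_1 D44855 (iv D30800) (iv F130350)
theorem F187169 : act 1 n44855 = n44855 := d16_1 D44855 (iv D44855) F130351
theorem F187170 : act 5 n44855 = n30756 := d38_1 D44855 (iv D30756) (iv F130352)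
theorem F187171 : act 7 n44855 = n30754 := d43_1 D44855 (iv D30754) (iv F130353)
def n44856 : Q := act 2 n30753
theorem D44856 : act 2 n30753 = n44856 := rfl
theorem F187172 : act 0 n44856 = n30801 := d1_1 D44856 (iv D30801) (iv F130354)
theorem F187173 : act 5 n44856 = n30757 := d19_2 (iv F130356) D44856 (iv D30757)
theorem F187174 : act 8 n44856 = n44856 := d22_2 F130357 D44856 (iv D44856)
def n44857 : Q := act 4 n30753
theorem D44857 : act 4 n30753 = n44857 := rfl
theorem F187175 : act 0 n44857 = n30802 := d3_1 D44857 (iv D30802) (iv F130354)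
theorem F187176 : act 1 n44857 = n44857 := d11_1 D44857 (iv D44857) F130355
theorem F187177 : act 5 n44857 = n44857 := d30_2 (iv F130356) D44857 (iv D44857) F130356 F90987
theorem F187178 : act 8 n44857 = n44857 := d33_2 F130357 D44857 (iv D44857)
def n44858 : Q := act 9 n30753
theorem D44858 : act 9 n30753 = n44858 := rfl
theorem F187179 : act 0 n44858 = n30803 := d8_1 D44858 (iv D30803) (iv F130354)
theorem F187180 : act 1 n44858 = n44858 := d16_1 D44858 (iv D44858) F130355
theorem F187181 : act 3 n44858 = n30754 := d29_1 D44858 (iv D30754) D30753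
theorem F187182 : act 5 n44858 = n30758 := d38_1 D44858 (iv D30758) (iv F130356)
def n44859 : Q := act 2 n30755
theorem D44859 : act 2 n30755 = n44859 := rfl
theorem F187183 : act 0 n44859 = n30804 := d1_1 D44859 (iv D30804) (iv F130361)
theorem F187184 : act 4 n44859 = n44859 := d18_2 F130363 D44859 (iv D44859)
theorem F187185 : act 6 n44859 = n44859 := d20_2 F130364 D44859 (iv D44859)
theorem F187186 : act 7 n44859 = n30757 := d21_2 (iv F130365) D44859 (iv D30757)
theorem F187187 : act 8 n44859 = n44859 := d22_2 F130366 D44859 (iv D44859)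
def n44860 : Q := act 9 n30755
theorem D44860 : act 9 n30755 = n44860 := rfl
theorem F187188 : act 0 n44860 = n30805 := d8_1 D44860 (iv D30805) (iv F130361)
theorem F187189 : act 1 n44860 = n44860 := d16_1 D44860 (iv D44860) F130362
theorem F187190 : act 3 n44860 = n30756 := d29_1 D44860 (iv D30756) D30755
theorem F187191 : act 4 n44860 = n44860 := d34_1 D44860 (iv D44860) F130363
theorem F187192 : act 6 n44860 = n44860 := d41_1 D44860 (iv D44860) F130364
theorem F187193 : act 7 n44860 = n30758 := d43_1 D44860 (iv D30758) (iv F130365)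
def n44861 : Q := act 1 n30757
theorem D44861 : act 1 n30757 = n44861 := rfl
theorem F187194 : act 2 n44861 = n44861 := d9_2 D30757 D44861 (iv D44861) (iv D30757) F90986
theorem F187195 : act 4 n44861 = n44861 := d11_2 F130373 D44861 (iv D44861)
theorem F187196 : act 6 n44861 = n30759 := d13_2 (iv F130374) D44861 (iv D30759)
theorem F187197 : act 8 n44861 = n44861 := d15_2 F130375 D44861 (iv D44861)
def n44862 : Q := act 9 n30757
theorem D44862 : act 9 n30757 = n44862 := rfl
theorem F187198 : act 0 n44862 = n30807 := d8_1 D44862 (iv D30807) (iv F130372)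
theorem F187199 : act 2 n44862 = n30758 := d23_1 D44862 (iv D30758) D30757
theorem F187200 : act 4 n44862 = n44862 := d34_1 D44862 (iv D44862) F130373
theorem F187201 : act 6 n44862 = n30760 := d41_1 D44862 (iv D30760) (iv F130374)
def n44863 : Q := act 8 n30758
theorem D44863 : act 8 n30758 = n44863 := rfl
theorem F187202 : act 0 n44863 = n30808 := d7_1 D44863 (iv D30808) (iv F130376)
theorem F187203 : act 1 n44863 = n44863 := d15_1 D44863 (iv D44863) F130377
theorem F187204 : act 4 n44863 = n44863 := d33_1 D44863 (iv D44863) F130379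
theorem F187205 : act 6 n44863 = n30761 := d40_1 D44863 (iv D30761) (iv F130380)
theorem F187206 : act 9 n44863 = n44863 := d44_2 D30758 D44863 (iv D44863) (iv D30758) F90989
def n44864 : Q := act 0 n30759
theorem D44864 : act 0 n30759 = n44864 := rfl
theorem F187207 : act 1 n44864 = n30809 := d0_2 D30759 D44864 (iv D30809) (iv D21149) (iv F90994)
theorem F187208 : act 2 n44864 = n44864 := d1_2 F130381 D44864 (iv D44864)
theorem F187209 : act 4 n44864 = n44864 := d3_2 F130382 D44864 (iv D44864)
theorem F187210 : act 7 n44864 = n44864 := d6_2 F130383 D44864 (iv D44864)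
theorem F187211 : act 8 n44864 = n44864 := d7_2 F130384 D44864 (iv D44864)
def n44865 : Q := act 9 n30759
theorem D44865 : act 9 n30759 = n44865 := rfl
theorem F187212 : act 1 n44865 = n30760 := d16_1 D44865 (iv D30760) D30759
theorem F187213 : act 2 n44865 = n44865 := d23_1 D44865 (iv D44865) F130381
theorem F187214 : act 4 n44865 = n44865 := d34_1 D44865 (iv D44865) F130382
theorem F187215 : act 7 n44865 = n44865 := d43_1 D44865 (iv D44865) F130383
def n44866 : Q := act 8 n30760
theorem D44866 : act 8 n30760 = n44866 := rfl
theorem F187216 : act 0 n44866 = n30811 := d7_1 D44866 (iv D30811) (iv F130385)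
theorem F187217 : act 2 n44866 = n30761 := d22_1 D44866 (iv D30761) (iv F130386)
theorem F187218 : act 4 n44866 = n44866 := d33_1 D44866 (iv D44866) F130387
theorem F187219 : act 7 n44866 = n44866 := d42_1 D44866 (iv D44866) F130388
theorem F187220 : act 9 n44866 = n44866 := d44_2 D30760 D44866 (iv D44866) (iv D30760) F90997
def n44867 : Q := act 7 n30762
theorem D44867 : act 7 n30762 = n44867 := rfl
theorem F187221 : act 1 n44867 = n31374 := d14_1 D44867 (iv D31374) (iv F130394)
theorem F187223 : act 4 n44867 = n30763 := d32_1 D44867 (iv D30763) D30762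
theorem F187224 : act 5 n44867 = n33866 := d36_1 D44867 (iv D33866) (iv F130396)
def n44868 : Q := act 8 n30762
theorem D44868 : act 8 n30762 = n44868 := rfl
theorem F187225 : act 1 n44868 = n31375 := d15_1 D44868 (iv D31375) (iv F130394)
theorem F187226 : act 2 n44868 = n44868 := d22_1 D44868 (iv D44868) F130395
theorem F187227 : act 4 n44868 = n30764 := d33_1 D44868 (iv D30764) D30762
theorem F187228 : act 5 n44868 = n33867 := d37_1 D44868 (iv D33867) (iv F130396)
def n44869 : Q := act 6 n30763
theorem D44869 : act 6 n30763 = n44869 := rfl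
theorem F187229 : act 1 n44869 = n31376 := d13_1 D44869 (iv D31376) (iv F130397)
theorem F187230 : act 2 n44869 = n44869 := d20_1 D44869 (iv D44869) F130398
theorem F187231 : act 3 n44869 = n30771 := d26_1 D44869 (iv D30771) (iv F130399)
theorem F187232 : act 5 n44869 = n44869 := d35_1 D44869 (iv D44869) F130400 F91015 (iv F130400)
def n44870 : Q := act 8 n30763
theorem D44870 : act 8 n30763 = n44870 := rfl
theorem F187233 : act 1 n44870 = n31377 := d15_1 D44870 (iv D31377) (iv F130397)
theorem F187234 : act 2 n44870 = n44870 := d22_1 D44870 (iv D44870) F130398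
theorem F187235 : act 5 n44870 = n30765 := d37_1 D44870 (iv D30765) (iv F130400)
theorem F187236 : act 7 n44870 = n30764 := d42_1 D44870 (iv D30764) D30763
def n44871 : Q := act 3 n30764
theorem D44871 : act 3 n30764 = n44871 := rfl
theorem F187237 : act 1 n44871 = n31378 := d10_1 D44871 (iv D31378) (iv F130401)
theorem F187238 : act 5 n44871 = n30766 := d25_2 (iv F130403) D44871 (iv D30766)
theorem F187239 : act 8 n44871 = n30773 := d28_2 D30764 D44871 (iv D30773) (iv D21124) (iv F91010)
def n44872 : Q := act 9 n30764
theorem D44872 : act 9 n30764 = n44872 := rfl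
theorem F187240 : act 1 n44872 = n31379 := d16_1 D44872 (iv D31379) (iv F130401)
theorem F187241 : act 2 n44872 = n44872 := d23_1 D44872 (iv D44872) F130402
theorem F187242 : act 5 n44872 = n30767 := d38_1 D44872 (iv D30767) (iv F130403)
def n44873 : Q := act 3 n30765
theorem D44873 : act 3 n30765 = n44873 := rfl
theorem F187243 : act 1 n44873 = n31380 := d10_1 D44873 (iv D31380) (iv F130404)
theorem F187244 : act 6 n44873 = n44873 := d26_2 F130407 D44873 (iv D44873)
theorem F187245 : act 7 n44873 = n30766 := d27_2 (iv F130408) D44873 (iv D30766)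
theorem F187246 : act 8 n44873 = n30775 := d28_2 D30765 D44873 (iv D30775) (iv D21125) (iv F91013)
def n44874 : Q := act 9 n30765
theorem D44874 : act 9 n30765 = n44874 := rfl
theorem F187247 : act 1 n44874 = n31381 := d16_1 D44874 (iv D31381) (iv F130404)
theorem F187248 : act 2 n44874 = n44874 := d23_1 D44874 (iv D44874) F130405
theorem F187249 : act 4 n44874 = n33873 := d34_1 D44874 (iv D33873) (iv F130406)
theorem F187250 : act 6 n44874 = n44874 := d41_1 D44874 (iv D44874) F130407
theorem F187251 : act 7 n44874 = n30767 := d43_1 D44874 (iv D30767) (iv F130408)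
def n44875 : Q := act 2 n30766
theorem D44875 : act 2 n30766 = n44875 := rfl
theorem F187252 : act 3 n44875 = n44875 := d17_2 D30766 D44875 (iv D44875) (iv D30766) F91017
theorem F187253 : act 6 n44875 = n30768 := d20_2 (iv F130410) D44875 (iv D30768)
theorem F187254 : act 8 n44875 = n30777 := d22_2 (iv F130411) D44875 (iv D30777)
def n44876 : Q := act 4 n30766
theorem D44876 : act 4 n30766 = n44876 := rfl
theorem F187255 : act 1 n44876 = n31383 := d11_1 D44876 (iv D31383) (iv F130409)
theorem F187256 : act 3 n44876 = n33875 := d24_1 D44876 (iv D33875) (iv D23232) (iv F91018) D30766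
theorem F187257 : act 6 n44876 = n30769 := d31_2 (iv F130410) D44876 (iv D30769)
theorem F187258 : act 8 n44876 = n30778 := d33_2 (iv F130411) D44876 (iv D30778)
def n44877 : Q := act 9 n30766
theorem D44877 : act 9 n30766 = n44877 := rfl
theorem F187259 : act 1 n44877 = n31384 := d16_1 D44877 (iv D31384) (iv F130409)
theorem F187260 : act 3 n44877 = n30767 := d29_1 D44877 (iv D30767) D30766
theorem F187261 : act 6 n44877 = n30770 := d41_1 D44877 (iv D30770) (iv F130410)
def n44878 : Q := act 1 n30768
theorem D44878 : act 1 n30768 = n44878 := rfl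
theorem F187262 : act 2 n44878 = n31385 := d9_2 D30768 D44878 (iv D31385) (iv D21533) (iv F91020)
theorem F187263 : act 3 n44878 = n44878 := d10_2 F130416 D44878 (iv D44878)
theorem F187264 : act 7 n44878 = n44878 := d14_2 F130417 D44878 (iv D44878)
theorem F187265 : act 8 n44878 = n30780 := d15_2 (iv F130418) D44878 (iv D30780)
def n44879 : Q := act 4 n30768
theorem D44879 : act 4 n30768 = n44879 := rfl
theorem F187266 : act 2 n44879 = n30769 := d18_1 D44879 (iv D30769) D30768
theorem F187267 : act 7 n44879 = n44879 := d32_2 F130417 D44879 (iv D44879)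
theorem F187268 : act 8 n44879 = n30781 := d33_2 (iv F130418) D44879 (iv D30781)
def n44880 : Q := act 9 n30768
theorem D44880 : act 9 n30768 = n44880 := rfl
theorem F187269 : act 2 n44880 = n30770 := d23_1 D44880 (iv D30770) D30768
theorem F187270 : act 3 n44880 = n44880 := d29_1 D44880 (iv D44880) F130416
theorem F187271 : act 7 n44880 = n44880 := d43_1 D44880 (iv D44880) F130417
def n44881 : Q := act 5 n30769
theorem D44881 : act 5 n30769 = n44881 := rfl
theorem F187272 : act 1 n44881 = n31388 := d12_1 D44881 (iv D31388) (iv F130419)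
theorem F187273 : act 3 n44881 = n33879 := d25_1 D44881 (iv D33879) (iv F130420)
theorem F187274 : act 7 n44881 = n44881 := d36_2 F130421 D44881 (iv D44881)
theorem F187275 : act 8 n44881 = n30783 := d37_2 (iv F130422) D44881 (iv D30783)
def n44882 : Q := act 9 n30769
theorem D44882 : act 9 n30769 = n44882 := rfl
theorem F187276 : act 1 n44882 = n31389 := d16_1 D44882 (iv D31389) (iv F130419)
theorem F187277 : act 3 n44882 = n33880 := d29_1 D44882 (iv D33880) (iv F130420)
theorem F187278 : act 4 n44882 = n30770 := d34_1 D44882 (iv D30770) D30769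
theorem F187279 : act 7 n44882 = n44882 := d43_1 D44882 (iv D44882) F130421
def n44883 : Q := act 8 n30770
theorem D44883 : act 8 n30770 = n44883 := rfl
theorem F187280 : act 1 n44883 = n31390 := d15_1 D44883 (iv D31390) (iv F130423)
theorem F187281 : act 7 n44883 = n44883 := d42_1 D44883 (iv D44883) F130425
theorem F187282 : act 9 n44883 = n30785 := d44_2 D30770 D44883 (iv D30785) (iv D21130) (iv F91022)
def n44884 : Q := act 8 n30771
theorem D44884 : act 8 n30771 = n44884 := rfl
theorem F187283 : act 1 n44884 = n31391 := d15_1 D44884 (iv D31391) (iv F130426)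
theorem F187284 : act 2 n44884 = n30798 := d22_1 D44884 (iv D30798) (iv F130427)
theorem F187285 : act 5 n44884 = n44884 := d37_1 D44884 (iv D44884) F130428
theorem F187286 : act 6 n44884 = n30772 := d40_1 D44884 (iv D30772) D30771
def n44885 : Q := act 3 n30772
theorem D44885 : act 3 n30772 = n44885 := rfl
theorem F187287 : act 1 n44885 = n31392 := d10_1 D44885 (iv D31392) (iv F130429)
theorem F187288 : act 5 n44885 = n30775 := d25_2 (iv F130431) D44885 (iv D30775)
theorem F187289 : act 7 n44885 = n30773 := d27_2 (iv F130432) D44885 (iv D30773)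
def n44886 : Q := act 9 n30772
theorem D44886 : act 9 n30772 = n44886 := rfl
theorem F187290 : act 1 n44886 = n31393 := d16_1 D44886 (iv D31393) (iv F130429)
theorem F187291 : act 2 n44886 = n30800 := d23_1 D44886 (iv D30800) (iv F130430)
theorem F187292 : act 5 n44886 = n30776 := d38_1 D44886 (iv D30776) (iv F130431)
theorem F187293 : act 7 n44886 = n30774 := d43_1 D44886 (iv D30774) (iv F130432)
def n44887 : Q := act 2 n30773
theorem D44887 : act 2 n30773 = n44887 := rfl
theorem F187294 : act 3 n44887 = n30801 := d17_2 D30773 D44887 (iv D30801) (iv D21143) (iv F91031)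
theorem F187295 : act 5 n44887 = n30777 := d19_2 (iv F130434) D44887 (iv D30777)
def n44888 : Q := act 4 n30773
theorem D44888 : act 4 n30773 = n44888 := rfl
theorem F187296 : act 1 n44888 = n31395 := d11_1 D44888 (iv D31395) (iv F130433)
def n44889 : Q := act 9 n30773
theorem D44889 : act 9 n30773 = n44889 := rfl
theorem F187297 : act 1 n44889 = n31396 := d16_1 D44889 (iv D31396) (iv F130433)
theorem F187298 : act 3 n44889 = n30774 := d29_1 D44889 (iv D30774) D30773
theorem F187299 : act 5 n44889 = n30779 := d38_1 D44889 (iv D30779) (iv F130434)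
def n44890 : Q := act 2 n30775
theorem D44890 : act 2 n30775 = n44890 := rfl
theorem F187300 : act 3 n44890 = n30804 := d17_2 D30775 D44890 (iv D30804) (iv D21145) (iv F91034)
theorem F187301 : act 6 n44890 = n44890 := d20_2 F130439 D44890 (iv D44890)
theorem F187302 : act 7 n44890 = n30777 := d21_2 (iv F130440) D44890 (iv D30777)
def n44891 : Q := act 4 n30775
theorem D44891 : act 4 n30775 = n44891 := rfl
theorem F187303 : act 1 n44891 = n31398 := d11_1 D44891 (iv D31398) (iv F130438)
theorem F187304 : act 3 n44891 = n30786 := d24_1 D44891 (iv D30786) (iv D21131) (iv F91035) D30775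
theorem F187305 : act 6 n44891 = n44891 := d31_2 F130439 D44891 (iv D44891)
theorem F187306 : act 7 n44891 = n30778 := d32_2 (iv F130440) D44891 (iv D30778)
def n44892 : Q := act 9 n30775
theorem D44892 : act 9 n30775 = n44892 := rfl
theorem F187307 : act 1 n44892 = n31399 := d16_1 D44892 (iv D31399) (iv F130438)
theorem F187308 : act 3 n44892 = n30776 := d29_1 D44892 (iv D30776) D30775
theorem F187309 : act 6 n44892 = n44892 := d41_1 D44892 (iv D44892) F130439
theorem F187310 : act 7 n44892 = n30779 := d43_1 D44892 (iv D30779) (iv F130440)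
def n44893 : Q := act 1 n30777
theorem D44893 : act 1 n30777 = n44893 := rfl
theorem F187311 : act 2 n44893 = n31400 := d9_2 D30777 D44893 (iv D31400) (iv D21542) (iv F91038)
theorem F187312 : act 3 n44893 = n30806 := d10_2 (iv F130446) D44893 (iv D30806)
theorem F187313 : act 6 n44893 = n30780 := d13_2 (iv F130447) D44893 (iv D30780)
def n44894 : Q := act 4 n30777
theorem D44894 : act 4 n30777 = n44894 := rfl
theorem F187314 : act 2 n44894 = n30778 := d18_1 D44894 (iv D30778) D30777
theorem F187315 : act 3 n44894 = n44894 := d24_1 D44894 (iv D44894) F130446 F91115 (iv F130446)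
theorem F187316 : act 6 n44894 = n30781 := d31_2 (iv F130447) D44894 (iv D30781)
def n44895 : Q := act 9 n30777
theorem D44895 : act 9 n30777 = n44895 := rfl
theorem F187317 : act 2 n44895 = n30779 := d23_1 D44895 (iv D30779) D30777
theorem F187318 : act 3 n44895 = n30807 := d29_1 D44895 (iv D30807) (iv F130446)
theorem F187319 : act 6 n44895 = n30782 := d41_1 D44895 (iv D30782) (iv F130447)
def n44896 : Q := act 5 n30778
theorem D44896 : act 5 n30778 = n44896 := rfl
theorem F187320 : act 1 n44896 = n31403 := d12_1 D44896 (iv D31403) (iv F130448)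
theorem F187321 : act 3 n44896 = n30788 := d25_1 D44896 (iv D30788) (iv F130449)
def n44897 : Q := act 9 n30778
theorem D44897 : act 9 n30778 = n44897 := rfl
theorem F187322 : act 1 n44897 = n31404 := d16_1 D44897 (iv D31404) (iv F130448)
theorem F187323 : act 3 n44897 = n30789 := d29_1 D44897 (iv D30789) (iv F130449)
theorem F187324 : act 4 n44897 = n30779 := d34_1 D44897 (iv D30779) D30778
theorem F187325 : act 6 n44897 = n30784 := d41_1 D44897 (iv D30784) (iv F130450)
def n44898 : Q := act 8 n30779
theorem D44898 : act 8 n30779 = n44898 := rfl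
theorem F187326 : act 1 n44898 = n31405 := d15_1 D44898 (iv D31405) (iv F130451)
theorem F187327 : act 6 n44898 = n30785 := d40_1 D44898 (iv D30785) (iv F130453)
def n44899 : Q := act 0 n30780
theorem D44899 : act 0 n30780 = n44899 := rfl
theorem F187328 : act 2 n44899 = n31406 := d1_2 (iv F130454) D44899 (iv D31406)
theorem F187329 : act 3 n44899 = n30809 := d2_2 (iv F130455) D44899 (iv D30809)
theorem F187330 : act 7 n44899 = n44899 := d6_2 F130456 D44899 (iv D44899)
def n44900 : Q := act 4 n30780
theorem D44900 : act 4 n30780 = n44900 := rfl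
theorem F187331 : act 1 n44900 = n30781 := d11_1 D44900 (iv D30781) D30780
theorem F187332 : act 2 n44900 = n31407 := d18_1 D44900 (iv D31407) (iv F130454)
theorem F187333 : act 3 n44900 = n44900 := d24_1 D44900 (iv D44900) F130455 F91123 (iv F130455)
theorem F187334 : act 7 n44900 = n44900 := d32_2 F130456 D44900 (iv D44900)
def n44901 : Q := act 9 n30780
theorem D44901 : act 9 n30780 = n44901 := rfl
theorem F187335 : act 1 n44901 = n30782 := d16_1 D44901 (iv D30782) D30780
theorem F187336 : act 2 n44901 = n31408 := d23_1 D44901 (iv D31408) (iv F130454)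
theorem F187337 : act 3 n44901 = n30810 := d29_1 D44901 (iv D30810) (iv F130455)
theorem F187338 : act 7 n44901 = n44901 := d43_1 D44901 (iv D44901) F130456
def n44902 : Q := act 5 n30781
theorem D44902 : act 5 n30781 = n44902 := rfl
theorem F187339 : act 2 n44902 = n30783 := d19_1 D44902 (iv D30783) (iv F130457)
theorem F187340 : act 3 n44902 = n44902 := d25_1 D44902 (iv D44902) F130458
theorem F187341 : act 7 n44902 = n44902 := d36_2 F130459 D44902 (iv D44902)
def n44903 : Q := act 9 n30781
theorem D44903 : act 9 n30781 = n44903 := rfl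
theorem F187342 : act 2 n44903 = n30784 := d23_1 D44903 (iv D30784) (iv F130457)
theorem F187343 : act 3 n44903 = n44903 := d29_1 D44903 (iv D44903) F130458
theorem F187344 : act 4 n44903 = n30782 := d34_1 D44903 (iv D30782) D30781
theorem F187345 : act 7 n44903 = n44903 := d43_1 D44903 (iv D44903) F130459
def n44904 : Q := act 8 n30782
theorem D44904 : act 8 n30782 = n44904 := rfl
theorem F187346 : act 2 n44904 = n30785 := d22_1 D44904 (iv D30785) (iv F130460)
theorem F187347 : act 7 n44904 = n44904 := d42_1 D44904 (iv D44904) F130462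
def n44905 : Q := act 6 n30783
theorem D44905 : act 6 n30783 = n44905 := rfl
theorem F187348 : act 1 n44905 = n31412 := d13_1 D44905 (iv D31412) (iv F130463)
theorem F187349 : act 3 n44905 = n30791 := d26_1 D44905 (iv D30791) (iv F130464)
def n44906 : Q := act 9 n30783
theorem D44906 : act 9 n30783 = n44906 := rfl
theorem F187350 : act 1 n44906 = n31413 := d16_1 D44906 (iv D31413) (iv F130463)
theorem F187351 : act 3 n44906 = n30792 := d29_1 D44906 (iv D30792) (iv F130464)
theorem F187352 : act 5 n44906 = n30784 := d38_1 D44906 (iv D30784) D30783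
theorem F187353 : act 7 n44906 = n44906 := d43_1 D44906 (iv D44906) F130465
def n44907 : Q := act 8 n30784
theorem D44907 : act 8 n30784 = n44907 := rfl
theorem F187354 : act 1 n44907 = n31414 := d15_1 D44907 (iv D31414) (iv F130466)
theorem F187355 : act 4 n44907 = n30785 := d33_1 D44907 (iv D30785) (iv F130468)
theorem F187356 : act 7 n44907 = n44907 := d42_1 D44907 (iv D44907) F130469
def n44908 : Q := act 5 n30786
theorem D44908 : act 5 n30786 = n44908 := rfl
theorem F187357 : act 1 n44908 = n31415 := d12_1 D44908 (iv D31415) (iv F130472)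
theorem F187358 : act 2 n44908 = n44908 := d19_1 D44908 (iv D44908) F130473
theorem F187359 : act 7 n44908 = n30788 := d36_2 (iv F130475) D44908 (iv D30788)
theorem F187360 : act 8 n44908 = n33902 := d37_2 (iv F130476) D44908 (iv D33902)
def n44909 : Q := act 9 n30786
theorem D44909 : act 9 n30786 = n44909 := rfl
theorem F187361 : act 1 n44909 = n31416 := d16_1 D44909 (iv D31416) (iv F130472)
theorem F187362 : act 2 n44909 = n44909 := d23_1 D44909 (iv D44909) F130473
theorem F187363 : act 4 n44909 = n30787 := d34_1 D44909 (iv D30787) D30786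
theorem F187364 : act 6 n44909 = n44909 := d41_1 D44909 (iv D44909) F130474
theorem F187365 : act 7 n44909 = n30789 := d43_1 D44909 (iv D30789) (iv F130475)
def n44910 : Q := act 8 n30787
theorem D44910 : act 8 n30787 = n44910 := rfl
theorem F187370 : act 9 n44910 = n33904 := d44_2 D30787 D44910 (iv D33904) (iv D23252) (iv F91056)
def n44911 : Q := act 6 n30788
theorem D44911 : act 6 n30788 = n44911 := rfl
theorem F187371 : act 1 n44911 = n31418 := d13_1 D44911 (iv D31418) (iv F130482)
theorem F187372 : act 2 n44911 = n44911 := d20_1 D44911 (iv D44911) F130483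
theorem F187373 : act 5 n44911 = n30791 := d35_1 D44911 (iv D30791) (iv D21135) (iv F91063) D30788
theorem F187374 : act 8 n44911 = n33905 := d40_2 (iv F130484) D44911 (iv D33905)
def n44912 : Q := act 9 n30788
theorem D44912 : act 9 n30788 = n44912 := rfl
theorem F187375 : act 1 n44912 = n31419 := d16_1 D44912 (iv D31419) (iv F130482)
theorem F187376 : act 2 n44912 = n44912 := d23_1 D44912 (iv D44912) F130483
theorem F187377 : act 5 n44912 = n30789 := d38_1 D44912 (iv D30789) D30788
def n44913 : Q := act 8 n30789
theorem D44913 : act 8 n30789 = n44913 := rfl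
theorem F187382 : act 9 n44913 = n33907 := d44_2 D30789 D44913 (iv D33907) (iv D23254) (iv F91064)
def n44914 : Q := act 7 n30791
theorem D44914 : act 7 n30791 = n44914 := rfl
theorem F187383 : act 1 n44914 = n31421 := d14_1 D44914 (iv D31421) (iv F130493)
theorem F187384 : act 2 n44914 = n44914 := d21_1 D44914 (iv D44914) F130494
theorem F187385 : act 4 n44914 = n30794 := d32_1 D44914 (iv D30794) (iv F130495)
theorem F187386 : act 6 n44914 = n44914 := d39_1 D44914 (iv D44914) (iv D30791) F91072 D30791
theorem F187387 : act 8 n44914 = n33908 := d42_2 (iv F130496) D44914 (iv D33908)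
def n44915 : Q := act 9 n30791
theorem D44915 : act 9 n30791 = n44915 := rfl
theorem F187388 : act 1 n44915 = n31422 := d16_1 D44915 (iv D31422) (iv F130493)
theorem F187389 : act 2 n44915 = n44915 := d23_1 D44915 (iv D44915) F130494
theorem F187390 : act 4 n44915 = n30795 := d34_1 D44915 (iv D30795) (iv F130495)
theorem F187391 : act 6 n44915 = n30792 := d41_1 D44915 (iv D30792) D30791
def n44916 : Q := act 8 n30792
theorem D44916 : act 8 n30792 = n44916 := rfl
theorem F187397 : act 9 n44916 = n33910 := d44_2 D30792 D44916 (iv D33910) (iv D23257) (iv F91073)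
def n44918 : Q := act 9 n30794
theorem D44918 : act 9 n30794 = n44918 := rfl
theorem F187401 : act 1 n44918 = n31425 := d16_1 D44918 (iv D31425) (iv F130507)
theorem F187402 : act 2 n44918 = n44918 := d23_1 D44918 (iv D44918) F130508
theorem F187403 : act 6 n44918 = n44918 := d41_1 D44918 (iv D44918) F130509
theorem F187404 : act 7 n44918 = n30795 := d43_1 D44918 (iv D30795) D30794
def n44919 : Q := act 8 n30795
theorem D44919 : act 8 n30795 = n44919 := rfl
theorem F187408 : act 9 n44919 = n33913 := d44_2 D30795 D44919 (iv D33913) (iv D23260) (iv F91085)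
def n44922 : Q := act 3 n30798
theorem D44922 : act 3 n30798 = n44922 := rfl
theorem F187416 : act 1 n44922 = n30812 := d10_1 D44922 (iv D30812) (iv F130522)
theorem F187417 : act 5 n44922 = n44922 := d25_2 F130523 D44922 (iv D44922)
theorem F187418 : act 6 n44922 = n30799 := d26_2 (iv F130524) D44922 (iv D30799)
theorem F187419 : act 8 n44922 = n44922 := d28_2 D30798 D44922 (iv D44922) (iv D30798) F91096
def n44923 : Q := act 9 n30798
theorem D44923 : act 9 n30798 = n44923 := rfl
theorem F187420 : act 1 n44923 = n30813 := d16_1 D44923 (iv D30813) (iv F130522)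
theorem F187421 : act 5 n44923 = n44923 := d38_1 D44923 (iv D44923) F130523
theorem F187422 : act 6 n44923 = n30800 := d41_1 D44923 (iv D30800) (iv F130524)
def n44924 : Q := act 2 n30799
theorem D44924 : act 2 n30799 = n44924 := rfl
theorem F187423 : act 5 n44924 = n30804 := d19_2 (iv F130526) D44924 (iv D30804)
theorem F187424 : act 7 n44924 = n30801 := d21_2 (iv F130527) D44924 (iv D30801)
theorem F187425 : act 8 n44924 = n44924 := d22_2 F130528 D44924 (iv D44924)
def n44925 : Q := act 4 n30799
theorem D44925 : act 4 n30799 = n44925 := rfl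
theorem F187426 : act 1 n44925 = n30815 := d11_1 D44925 (iv D30815) (iv F130525)
theorem F187427 : act 5 n44925 = n44925 := d30_2 (iv F130526) D44925 (iv D44925) F130526 F91107
theorem F187428 : act 7 n44925 = n30802 := d32_2 (iv F130527) D44925 (iv D30802)
theorem F187429 : act 8 n44925 = n44925 := d33_2 F130528 D44925 (iv D44925)
def n44926 : Q := act 9 n30799
theorem D44926 : act 9 n30799 = n44926 := rfl
theorem F187430 : act 1 n44926 = n30816 := d16_1 D44926 (iv D30816) (iv F130525)
theorem F187431 : act 3 n44926 = n30800 := d29_1 D44926 (iv D30800) D30799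
theorem F187432 : act 5 n44926 = n30805 := d38_1 D44926 (iv D30805) (iv F130526)
theorem F187433 : act 7 n44926 = n30803 := d43_1 D44926 (iv D30803) (iv F130527)
def n44927 : Q := act 1 n30801
theorem D44927 : act 1 n30801 = n44927 := rfl
theorem F187434 : act 2 n44927 = n30817 := d9_2 D30801 D44927 (iv D30817) (iv D21155) (iv F91101)
theorem F187435 : act 5 n44927 = n30806 := d12_2 (iv F130532) D44927 (iv D30806)
theorem F187436 : act 8 n44927 = n44927 := d15_2 F130533 D44927 (iv D44927)
def n44928 : Q := act 4 n30801
theorem D44928 : act 4 n30801 = n44928 := rfl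
theorem F187437 : act 2 n44928 = n30802 := d18_1 D44928 (iv D30802) D30801
theorem F187438 : act 5 n44928 = n44928 := d30_2 (iv F130532) D44928 (iv D44928) F130532 F91115
theorem F187439 : act 8 n44928 = n44928 := d33_2 F130533 D44928 (iv D44928)
def n44929 : Q := act 9 n30801
theorem D44929 : act 9 n30801 = n44929 := rfl
theorem F187440 : act 2 n44929 = n30803 := d23_1 D44929 (iv D30803) D30801
theorem F187441 : act 5 n44929 = n30807 := d38_1 D44929 (iv D30807) (iv F130532)
def n44930 : Q := act 9 n30802
theorem D44930 : act 9 n30802 = n44930 := rfl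
theorem F187442 : act 1 n44930 = n30820 := d16_1 D44930 (iv D30820) (iv F130534)
theorem F187443 : act 4 n44930 = n30803 := d34_1 D44930 (iv D30803) D30802
theorem F187444 : act 5 n44930 = n44930 := d38_1 D44930 (iv D44930) F130535
def n44931 : Q := act 8 n30803
theorem D44931 : act 8 n30803 = n44931 := rfl
theorem F187445 : act 1 n44931 = n30821 := d15_1 D44931 (iv D30821) (iv F130537)
theorem F187446 : act 5 n44931 = n30808 := d37_1 D44931 (iv D30808) (iv F130539)
theorem F187447 : act 9 n44931 = n44931 := d44_2 D30803 D44931 (iv D44931) (iv D30803) F91103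
def n44932 : Q := act 1 n30804
theorem D44932 : act 1 n30804 = n44932 := rfl
theorem F187448 : act 2 n44932 = n30822 := d9_2 D30804 D44932 (iv D30822) (iv D21158) (iv F91106)
theorem F187449 : act 4 n44932 = n44932 := d11_2 F130540 D44932 (iv D44932)
theorem F187450 : act 6 n44932 = n44932 := d13_2 F130541 D44932 (iv D44932)
theorem F187451 : act 7 n44932 = n30806 := d14_2 (iv F130542) D44932 (iv D30806)
theorem F187452 : act 8 n44932 = n44932 := d15_2 F130543 D44932 (iv D44932)
def n44933 : Q := act 9 n30804
theorem D44933 : act 9 n30804 = n44933 := rfl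
theorem F187453 : act 2 n44933 = n30805 := d23_1 D44933 (iv D30805) D30804
theorem F187454 : act 4 n44933 = n44933 := d34_1 D44933 (iv D44933) F130540
theorem F187455 : act 6 n44933 = n44933 := d41_1 D44933 (iv D44933) F130541
theorem F187456 : act 7 n44933 = n30807 := d43_1 D44933 (iv D30807) (iv F130542)
def n44934 : Q := act 8 n30805
theorem D44934 : act 8 n30805 = n44934 := rfl
theorem F187457 : act 1 n44934 = n30824 := d15_1 D44934 (iv D30824) (iv F130544)
theorem F187458 : act 4 n44934 = n44934 := d33_1 D44934 (iv D44934) F130546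
theorem F187459 : act 6 n44934 = n44934 := d40_1 D44934 (iv D44934) F130547
theorem F187460 : act 7 n44934 = n30808 := d42_1 D44934 (iv D30808) (iv F130548)
theorem F187461 : act 9 n44934 = n44934 := d44_2 D30805 D44934 (iv D44934) (iv D30805) F91110
def n44935 : Q := act 0 n30806
theorem D44935 : act 0 n30806 = n44935 := rfl
theorem F187462 : act 2 n44935 = n30825 := d1_2 (iv F130549) D44935 (iv D30825)
theorem F187463 : act 4 n44935 = n44935 := d3_2 F130550 D44935 (iv D44935)
theorem F187464 : act 6 n44935 = n30809 := d5_2 (iv F130551) D44935 (iv D30809)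
theorem F187465 : act 8 n44935 = n44935 := d7_2 F130552 D44935 (iv D44935)
def n44936 : Q := act 9 n30806
theorem D44936 : act 9 n30806 = n44936 := rfl
theorem F187466 : act 1 n44936 = n30807 := d16_1 D44936 (iv D30807) D30806
theorem F187467 : act 2 n44936 = n30826 := d23_1 D44936 (iv D30826) (iv F130549)
theorem F187468 : act 4 n44936 = n44936 := d34_1 D44936 (iv D44936) F130550
theorem F187469 : act 6 n44936 = n30810 := d41_1 D44936 (iv D30810) (iv F130551)
def n44937 : Q := act 8 n30807
theorem D44937 : act 8 n30807 = n44937 := rfl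
theorem F187470 : act 2 n44937 = n30808 := d22_1 D44937 (iv D30808) (iv F130553)
theorem F187471 : act 4 n44937 = n44937 := d33_1 D44937 (iv D44937) F130554
theorem F187472 : act 6 n44937 = n30811 := d40_1 D44937 (iv D30811) (iv F130555)
theorem F187473 : act 9 n44937 = n44937 := d44_2 D30807 D44937 (iv D44937) (iv D30807) F91117
def n44938 : Q := act 9 n30809
theorem D44938 : act 9 n30809 = n44938 := rfl
theorem F187474 : act 0 n44938 = n30810 := d8_1 D44938 (iv D30810) D30809
theorem F187475 : act 2 n44938 = n30828 := d23_1 D44938 (iv D30828) (iv F130560)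
theorem F187476 : act 4 n44938 = n44938 := d34_1 D44938 (iv D44938) F130561
theorem F187477 : act 7 n44938 = n44938 := d43_1 D44938 (iv D44938) F130562
def n44939 : Q := act 8 n30810
theorem D44939 : act 8 n30810 = n44939 := rfl
theorem F187478 : act 1 n44939 = n30811 := d15_1 D44939 (iv D30811) (iv F130564)
theorem F187479 : act 2 n44939 = n30829 := d22_1 D44939 (iv D30829) (iv F130565)
theorem F187480 : act 4 n44939 = n44939 := d33_1 D44939 (iv D44939) F130566
theorem F187481 : act 7 n44939 = n44939 := d42_1 D44939 (iv D44939) F130567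
theorem F187482 : act 9 n44939 = n44939 := d44_2 D30810 D44939 (iv D44939) (iv D30810) F91125
def n44940 : Q := act 3 n30811
theorem D44940 : act 3 n30811 = n44940 := rfl
theorem F187483 : act 7 n44940 = n44940 := d27_2 F130570 D44940 (iv D44940)
theorem F187484 : act 9 n44940 = n44940 := d29_2 F130571 D44940 (iv D44940)
def n44941 : Q := act 2 n30812
theorem D44941 : act 2 n30812 = n44941 := rfl
theorem F187486 : act 3 n44941 = n31448 := d17_2 D30812 D44941 (iv D31448) (iv D21577) (iv F91134)
def n44942 : Q := act 4 n30812
theorem D44942 : act 4 n30812 = n44942 := rfl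
theorem F187491 : act 6 n44942 = n30815 := d31_2 (iv F130574) D44942 (iv D30815)
def n44943 : Q := act 9 n30812
theorem D44943 : act 9 n30812 = n44943 := rfl
theorem F187493 : act 0 n44943 = n44943 := d8_1 D44943 (iv D44943) F130572
theorem F187494 : act 3 n44943 = n30813 := d29_1 D44943 (iv D30813) D30812
theorem F187495 : act 5 n44943 = n44943 := d38_1 D44943 (iv D44943) F130573
theorem F187496 : act 6 n44943 = n30816 := d41_1 D44943 (iv D30816) (iv F130574)
def n44944 : Q := act 1 n30814
theorem D44944 : act 1 n30814 = n44944 := rfl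
theorem F187497 : act 3 n44944 = n31451 := d10_2 (iv F130581) D44944 (iv D31451)
theorem F187498 : act 5 n44944 = n30822 := d12_2 (iv F130582) D44944 (iv D30822)
theorem F187499 : act 7 n44944 = n30817 := d14_2 (iv F130583) D44944 (iv D30817)
theorem F187500 : act 8 n44944 = n44944 := d15_2 F130584 D44944 (iv D44944)
def n44945 : Q := act 4 n30814
theorem D44945 : act 4 n30814 = n44945 := rfl
theorem F187501 : act 0 n44945 = n44945 := d3_1 D44945 (iv D44945) F130580
theorem F187502 : act 2 n44945 = n30815 := d18_1 D44945 (iv D30815) D30814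
theorem F187503 : act 5 n44945 = n44945 := d30_2 (iv F130582) D44945 (iv D44945) F130582 F91157
theorem F187504 : act 7 n44945 = n30818 := d32_2 (iv F130583) D44945 (iv D30818)
theorem F187505 : act 8 n44945 = n44945 := d33_2 F130584 D44945 (iv D44945)
def n44946 : Q := act 9 n30814
theorem D44946 : act 9 n30814 = n44946 := rfl
theorem F187506 : act 0 n44946 = n44946 := d8_1 D44946 (iv D44946) F130580
theorem F187507 : act 2 n44946 = n30816 := d23_1 D44946 (iv D30816) D30814
theorem F187508 : act 3 n44946 = n31453 := d29_1 D44946 (iv D31453) (iv F130581)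
theorem F187509 : act 5 n44946 = n30823 := d38_1 D44946 (iv D30823) (iv F130582)
theorem F187510 : act 7 n44946 = n30819 := d43_1 D44946 (iv D30819) (iv F130583)
def n44947 : Q := act 9 n30815
theorem D44947 : act 9 n30815 = n44947 := rfl
theorem F187511 : act 0 n44947 = n44947 := d8_1 D44947 (iv D44947) F130585
theorem F187512 : act 4 n44947 = n30816 := d34_1 D44947 (iv D30816) D30815
theorem F187513 : act 5 n44947 = n44947 := d38_1 D44947 (iv D44947) F130586
theorem F187514 : act 7 n44947 = n30820 := d43_1 D44947 (iv D30820) (iv F130587)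
def n44948 : Q := act 8 n30816
theorem D44948 : act 8 n30816 = n44948 := rfl
theorem F187515 : act 0 n44948 = n44948 := d7_1 D44948 (iv D44948) F130589
theorem F187516 : act 5 n44948 = n30824 := d37_1 D44948 (iv D30824) (iv F130591)
theorem F187517 : act 7 n44948 = n30821 := d42_1 D44948 (iv D30821) (iv F130592)
theorem F187518 : act 9 n44948 = n44948 := d44_2 D30816 D44948 (iv D44948) (iv D30816) F91140
def n44949 : Q := act 0 n30817
theorem D44949 : act 0 n30817 = n44949 := rfl
theorem F187519 : act 1 n44949 = n44949 := d0_2 D30817 D44949 (iv D44949) (iv D30817) F91145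
theorem F187520 : act 3 n44949 = n31456 := d2_2 (iv F130593) D44949 (iv D31456)
theorem F187521 : act 5 n44949 = n30825 := d4_2 (iv F130594) D44949 (iv D30825)
theorem F187522 : act 8 n44949 = n44949 := d7_2 F130595 D44949 (iv D44949)
def n44950 : Q := act 4 n30817
theorem D44950 : act 4 n30817 = n44950 := rfl
theorem F187523 : act 1 n44950 = n30818 := d11_1 D44950 (iv D30818) D30817
theorem F187524 : act 5 n44950 = n44950 := d30_2 (iv F130594) D44950 (iv D44950) F130594 F91167
theorem F187525 : act 8 n44950 = n44950 := d33_2 F130595 D44950 (iv D44950)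
def n44951 : Q := act 9 n30817
theorem D44951 : act 9 n30817 = n44951 := rfl
theorem F187526 : act 1 n44951 = n30819 := d16_1 D44951 (iv D30819) D30817
theorem F187527 : act 3 n44951 = n31458 := d29_1 D44951 (iv D31458) (iv F130593)
theorem F187528 : act 5 n44951 = n30826 := d38_1 D44951 (iv D30826) (iv F130594)
def n44952 : Q := act 3 n30818
theorem D44952 : act 3 n30818 = n44952 := rfl
theorem F187529 : act 0 n44952 = n44952 := d2_1 D44952 (iv D44952) F130596
theorem F187530 : act 4 n44952 = n31459 := d24_2 D30818 D44952 (iv D31459) (iv D21583) (iv F91146)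
theorem F187531 : act 5 n44952 = n44952 := d25_2 F130598 D44952 (iv D44952)
def n44953 : Q := act 9 n30818
theorem D44953 : act 9 n30818 = n44953 := rfl
theorem F187532 : act 0 n44953 = n44953 := d8_1 D44953 (iv D44953) F130596
theorem F187533 : act 2 n44953 = n30820 := d23_1 D44953 (iv D30820) (iv F130597)
theorem F187534 : act 4 n44953 = n30819 := d34_1 D44953 (iv D30819) D30818
theorem F187535 : act 5 n44953 = n44953 := d38_1 D44953 (iv D44953) F130598
def n44954 : Q := act 8 n30819
theorem D44954 : act 8 n30819 = n44954 := rfl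
theorem F187536 : act 0 n44954 = n44954 := d7_1 D44954 (iv D44954) F130600
theorem F187537 : act 2 n44954 = n30821 := d22_1 D44954 (iv D30821) (iv F130601)
theorem F187538 : act 5 n44954 = n30827 := d37_1 D44954 (iv D30827) (iv F130603)
theorem F187539 : act 9 n44954 = n44954 := d44_2 D30819 D44954 (iv D44954) (iv D30819) F91148
def n44955 : Q := act 8 n30820
theorem D44955 : act 8 n30820 = n44955 := rfl
theorem F187540 : act 0 n44955 = n44955 := d7_1 D44955 (iv D44955) F130604
theorem F187541 : act 4 n44955 = n30821 := d33_1 D44955 (iv D30821) (iv F130605)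
theorem F187542 : act 5 n44955 = n44955 := d37_1 D44955 (iv D44955) F130606
theorem F187543 : act 9 n44955 = n44955 := d44_2 D30820 D44955 (iv D44955) (iv D30820) F91151
def n44956 : Q := act 0 n30822
theorem D44956 : act 0 n30822 = n44956 := rfl
theorem F187544 : act 1 n44956 = n44956 := d0_2 D30822 D44956 (iv D44956) (iv D30822) F91155
theorem F187545 : act 3 n44956 = n31463 := d2_2 (iv F130610) D44956 (iv D31463)
theorem F187546 : act 4 n44956 = n44956 := d3_2 F130611 D44956 (iv D44956)
theorem F187547 : act 6 n44956 = n44956 := d5_2 F130612 D44956 (iv D44956)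
theorem F187548 : act 7 n44956 = n30825 := d6_2 (iv F130613) D44956 (iv D30825)
theorem F187549 : act 8 n44956 = n44956 := d7_2 F130614 D44956 (iv D44956)
def n44957 : Q := act 9 n30822
theorem D44957 : act 9 n30822 = n44957 := rfl
theorem F187550 : act 1 n44957 = n30823 := d16_1 D44957 (iv D30823) D30822
theorem F187551 : act 3 n44957 = n31464 := d29_1 D44957 (iv D31464) (iv F130610)
theorem F187552 : act 4 n44957 = n44957 := d34_1 D44957 (iv D44957) F130611
theorem F187553 : act 6 n44957 = n44957 := d41_1 D44957 (iv D44957) F130612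
theorem F187554 : act 7 n44957 = n30826 := d43_1 D44957 (iv D30826) (iv F130613)
def n44958 : Q := act 8 n30823
theorem D44958 : act 8 n30823 = n44958 := rfl
theorem F187555 : act 0 n44958 = n44958 := d7_1 D44958 (iv D44958) F130615
theorem F187556 : act 2 n44958 = n30824 := d22_1 D44958 (iv D30824) (iv F130616)
theorem F187557 : act 4 n44958 = n44958 := d33_1 D44958 (iv D44958) F130618
theorem F187558 : act 6 n44958 = n44958 := d40_1 D44958 (iv D44958) F130619
theorem F187559 : act 7 n44958 = n30827 := d42_1 D44958 (iv D30827) (iv F130620)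
theorem F187560 : act 9 n44958 = n44958 := d44_2 D30823 D44958 (iv D44958) (iv D30823) F91160
def n44959 : Q := act 9 n30825
theorem D44959 : act 9 n30825 = n44959 := rfl
theorem F187561 : act 0 n44959 = n30826 := d8_1 D44959 (iv D30826) D30825
theorem F187562 : act 1 n44959 = n44959 := d16_1 D44959 (iv D44959) F130626
theorem F187563 : act 3 n44959 = n31466 := d29_1 D44959 (iv D31466) (iv F130627)
theorem F187564 : act 4 n44959 = n44959 := d34_1 D44959 (iv D44959) F130628
theorem F187565 : act 6 n44959 = n30828 := d41_1 D44959 (iv D30828) (iv F130629)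
def n44960 : Q := act 8 n30826
theorem D44960 : act 8 n30826 = n44960 := rfl
theorem F187566 : act 1 n44960 = n30827 := d15_1 D44960 (iv D30827) (iv F130631)
theorem F187567 : act 4 n44960 = n44960 := d33_1 D44960 (iv D44960) F130633
theorem F187568 : act 6 n44960 = n30829 := d40_1 D44960 (iv D30829) (iv F130634)
theorem F187569 : act 9 n44960 = n44960 := d44_2 D30826 D44960 (iv D44960) (iv D30826) F91169
def n44961 : Q := act 3 n30827
theorem D44961 : act 3 n30827 = n44961 := rfl
theorem F187570 : act 0 n44961 = n44961 := d2_1 D44961 (iv D44961) F130635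
theorem F187571 : act 6 n44961 = n30830 := d26_2 (iv F130638) D44961 (iv D30830)
theorem F187572 : act 8 n44961 = n31468 := d28_2 D30827 D44961 (iv D31468) (iv D21592) (iv F91172)
theorem F187573 : act 9 n44961 = n44961 := d29_2 F130639 D44961 (iv D44961)
def n44962 : Q := act 8 n30828
theorem D44962 : act 8 n30828 = n44962 := rfl
theorem F187574 : act 0 n44962 = n30829 := d7_1 D44962 (iv D30829) (iv F130640)
theorem F187575 : act 1 n44962 = n44962 := d15_1 D44962 (iv D44962) F130641
theorem F187576 : act 4 n44962 = n44962 := d33_1 D44962 (iv D44962) F130643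
theorem F187577 : act 7 n44962 = n44962 := d42_1 D44962 (iv D44962) F130644
theorem F187578 : act 9 n44962 = n44962 := d44_2 D30828 D44962 (iv D44962) (iv D30828) F91183
def n44963 : Q := act 3 n30829
theorem D44963 : act 3 n30829 = n44963 := rfl
theorem F187579 : act 1 n44963 = n30830 := d10_1 D44963 (iv D30830) (iv F130645)
theorem F187580 : act 7 n44963 = n44963 := d27_2 F130647 D44963 (iv D44963)
theorem F187581 : act 8 n44963 = n31470 := d28_2 D30829 D44963 (iv D31470) (iv D21594) (iv F91185)
theorem F187582 : act 9 n44963 = n44963 := d29_2 F130648 D44963 (iv D44963)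
def n44964 : Q := act 4 n30830
theorem D44964 : act 4 n30830 = n44964 := rfl
theorem F187583 : act 0 n44964 = n44964 := d3_1 D44964 (iv D44964) F130649
theorem F187584 : act 3 n44964 = n44964 := d24_1 D44964 (iv D44964) (iv D30830) F91190 D30830
theorem F187585 : act 7 n44964 = n44964 := d32_2 F130650 D44964 (iv D44964)
theorem F187586 : act 8 n44964 = n31471 := d33_2 (iv F130651) D44964 (iv D31471)
theorem F187587 : act 9 n44964 = n44964 := d34_2 F130652 D44964 (iv D44964)
def n44966 : Q := act 6 n30831
theorem D44966 : act 6 n30831 = n44966 := rfl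
theorem F187592 : act 1 n44966 = n30837 := d13_1 D44966 (iv D30837) (iv F130653)
theorem F187594 : act 4 n44966 = n30832 := d31_1 D44966 (iv D30832) D30831
theorem F187595 : act 9 n44966 = n30887 := d41_2 (iv F130656) D44966 (iv D30887)
def n44967 : Q := act 8 n30831
theorem D44967 : act 8 n30831 = n44967 := rfl
theorem F187596 : act 1 n44967 = n30838 := d15_1 D44967 (iv D30838) (iv F130653)
def n44969 : Q := act 8 n30832
theorem D44969 : act 8 n30832 = n44969 := rfl
theorem F187606 : act 1 n44969 = n30840 := d15_1 D44969 (iv D30840) (iv F130657)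
def n44971 : Q := act 9 n30833
theorem D44971 : act 9 n30833 = n44971 := rfl
theorem F187614 : act 1 n44971 = n30842 := d16_1 D44971 (iv D30842) (iv F130662)
def n44975 : Q := act 6 n30836
theorem D44975 : act 6 n30836 = n44975 := rfl
theorem F187634 : act 3 n44975 = n30837 := d26_1 D44975 (iv D30837) D30836
def n44976 : Q := act 8 n30836
theorem D44976 : act 8 n30836 = n44976 := rfl
theorem F187637 : act 0 n44976 = n30853 := d7_1 D44976 (iv D30853) (iv F130675)
theorem F187638 : act 2 n44976 = n44976 := d22_1 D44976 (iv D44976) F130676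
theorem F187640 : act 7 n44976 = n30978 := d42_1 D44976 (iv D30978) (iv F130678)
def n44977 : Q := act 5 n30837
theorem D44977 : act 5 n30837 = n44977 := rfl
theorem F187641 : act 0 n44977 = n30854 := d4_1 D44977 (iv D30854) (iv F130680)
theorem F187642 : act 2 n44977 = n30845 := d19_1 D44977 (iv D30845) (iv F130681)
theorem F187644 : act 9 n44977 = n30898 := d38_2 (iv F130683) D44977 (iv D30898)
def n44978 : Q := act 7 n30837
theorem D44978 : act 7 n30837 = n44978 := rfl
theorem F187646 : act 2 n44978 = n30846 := d21_1 D44978 (iv D30846) (iv F130681)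
theorem F187647 : act 4 n44978 = n30839 := d32_1 D44978 (iv D30839) (iv F130682)
theorem F187649 : act 9 n44978 = n30899 := d43_2 (iv F130683) D44978 (iv D30899)
def n44979 : Q := act 8 n30837
theorem D44979 : act 8 n30837 = n44979 := rfl
theorem F187650 : act 0 n44979 = n30856 := d7_1 D44979 (iv D30856) (iv F130680)
theorem F187651 : act 2 n44979 = n30847 := d22_1 D44979 (iv D30847) (iv F130681)
theorem F187652 : act 4 n44979 = n30840 := d33_1 D44979 (iv D30840) (iv F130682)
theorem F187653 : act 6 n44979 = n30838 := d40_1 D44979 (iv D30838) D30837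
def n44980 : Q := act 3 n30838
theorem D44980 : act 3 n30838 = n44980 := rfl
theorem F187654 : act 0 n44980 = n30857 := d2_1 D44980 (iv D30857) (iv F130684)
theorem F187655 : act 7 n44980 = n30982 := d27_2 (iv F130687) D44980 (iv D30982)
def n44981 : Q := act 9 n30838
theorem D44981 : act 9 n30838 = n44981 := rfl
theorem F187656 : act 0 n44981 = n30858 := d8_1 D44981 (iv D30858) (iv F130684)
theorem F187657 : act 2 n44981 = n30849 := d23_1 D44981 (iv D30849) (iv F130685)
theorem F187658 : act 4 n44981 = n30842 := d34_1 D44981 (iv D30842) (iv F130686)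
theorem F187659 : act 7 n44981 = n30983 := d43_1 D44981 (iv D30983) (iv F130687)
theorem F187660 : act 8 n44981 = n30902 := d44_1 D44981 (iv D30902) (iv D21209) (iv F91205) D30838
def n44982 : Q := act 8 n30839
theorem D44982 : act 8 n30839 = n44982 := rfl
theorem F187661 : act 0 n44982 = n30859 := d7_1 D44982 (iv D30859) (iv F130688)
theorem F187662 : act 2 n44982 = n30850 := d22_1 D44982 (iv D30850) (iv F130689)
theorem F187665 : act 7 n44982 = n30840 := d42_1 D44982 (iv D30840) D30839
def n44984 : Q := act 9 n30840
theorem D44984 : act 9 n30840 = n44984 := rfl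
theorem F187671 : act 0 n44984 = n30861 := d8_1 D44984 (iv D30861) (iv F130694)
theorem F187672 : act 2 n44984 = n30851 := d23_1 D44984 (iv D30851) (iv F130695)
theorem F187673 : act 5 n44984 = n44984 := d38_1 D44984 (iv D44984) F130696
theorem F187674 : act 6 n44984 = n30842 := d41_1 D44984 (iv D30842) (iv F130697)
theorem F187675 : act 8 n44984 = n30905 := d44_1 D44984 (iv D30905) (iv D21211) (iv F91210) D30840
def n44986 : Q := act 9 n30841
theorem D44986 : act 9 n30841 = n44986 := rfl
theorem F187682 : act 3 n44986 = n30842 := d29_1 D44986 (iv D30842) D30841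
def n44990 : Q := act 7 n30845
theorem D44990 : act 7 n30845 = n44990 := rfl
theorem F187700 : act 0 n44990 = n30867 := d6_1 D44990 (iv D30867) (iv F130718)
theorem F187704 : act 5 n44990 = n30846 := d36_1 D44990 (iv D30846) D30845
theorem F187705 : act 9 n44990 = n30911 := d43_2 (iv F130722) D44990 (iv D30911)
def n44991 : Q := act 8 n30845
theorem D44991 : act 8 n30845 = n44991 := rfl
theorem F187706 : act 0 n44991 = n30868 := d7_1 D44991 (iv D30868) (iv F130718)
theorem F187709 : act 5 n44991 = n30847 := d37_1 D44991 (iv D30847) D30845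
def n44992 : Q := act 8 n30846
theorem D44992 : act 8 n30846 = n44992 := rfl
theorem F187710 : act 0 n44992 = n30869 := d7_1 D44992 (iv D30869) (iv F130723)
theorem F187712 : act 4 n44992 = n30850 := d33_1 D44992 (iv D30850) (iv F130726)
theorem F187713 : act 6 n44992 = n30994 := d40_1 D44992 (iv D30994) (iv F130727)
theorem F187714 : act 7 n44992 = n30847 := d42_1 D44992 (iv D30847) D30846
def n44993 : Q := act 3 n30847
theorem D44993 : act 3 n30847 = n44993 := rfl
theorem F187715 : act 0 n44993 = n30870 := d2_1 D44993 (iv D30870) (iv F130729)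
theorem F187718 : act 6 n44993 = n30848 := d26_2 (iv F130732) D44993 (iv D30848)
def n44994 : Q := act 9 n30847
theorem D44994 : act 9 n30847 = n44994 := rfl
theorem F187720 : act 0 n44994 = n30871 := d8_1 D44994 (iv D30871) (iv F130729)
theorem F187721 : act 1 n44994 = n44994 := d16_1 D44994 (iv D44994) F130730
theorem F187722 : act 4 n44994 = n30851 := d34_1 D44994 (iv D30851) (iv F130731)
theorem F187723 : act 6 n44994 = n30849 := d41_1 D44994 (iv D30849) (iv F130732)
theorem F187724 : act 8 n44994 = n30915 := d44_1 D44994 (iv D30915) (iv D21218) (iv F91229) D30847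
def n44995 : Q := act 2 n30848
theorem D44995 : act 2 n30848 = n44995 := rfl
theorem F187725 : act 0 n44995 = n30872 := d1_1 D44995 (iv D30872) (iv F130733)
theorem F187726 : act 4 n44995 = n44995 := d18_2 F130735 D44995 (iv D44995)
theorem F187727 : act 7 n44995 = n30997 := d21_2 (iv F130736) D44995 (iv D30997)
theorem F187728 : act 8 n44995 = n44995 := d22_2 F130737 D44995 (iv D44995)
def n44996 : Q := act 9 n30848
theorem D44996 : act 9 n30848 = n44996 := rfl
theorem F187729 : act 0 n44996 = n30873 := d8_1 D44996 (iv D30873) (iv F130733)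
theorem F187730 : act 1 n44996 = n44996 := d16_1 D44996 (iv D44996) F130734
theorem F187731 : act 3 n44996 = n30849 := d29_1 D44996 (iv D30849) D30848
theorem F187732 : act 4 n44996 = n44996 := d34_1 D44996 (iv D44996) F130735
theorem F187733 : act 7 n44996 = n30998 := d43_1 D44996 (iv D30998) (iv F130736)
def n44997 : Q := act 9 n30850
theorem D44997 : act 9 n30850 = n44997 := rfl
theorem F187734 : act 0 n44997 = n30874 := d8_1 D44997 (iv D30874) (iv F130743)
theorem F187735 : act 1 n44997 = n44997 := d16_1 D44997 (iv D44997) F130744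
theorem F187736 : act 3 n44997 = n44997 := d29_1 D44997 (iv D44997) F130745
theorem F187737 : act 5 n44997 = n44997 := d38_1 D44997 (iv D44997) F130746
theorem F187738 : act 6 n44997 = n30999 := d41_1 D44997 (iv D30999) (iv F130747)
theorem F187739 : act 7 n44997 = n30851 := d43_1 D44997 (iv D30851) (iv F130748)
theorem F187740 : act 8 n44997 = n30918 := d44_1 D44997 (iv D30918) (iv D21221) (iv F91239) D30850
def n44998 : Q := act 5 n30852
theorem D44998 : act 5 n30852 = n44998 := rfl
theorem F187742 : act 3 n44998 = n30854 := d25_1 D44998 (iv D30854) (iv F130756)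
theorem F187743 : act 9 n44998 = n30919 := d38_2 (iv F130758) D44998 (iv D30919)
def n45000 : Q := act 8 n30852
theorem D45000 : act 8 n30852 = n45000 := rfl
theorem F187751 : act 6 n45000 = n30853 := d40_1 D45000 (iv D30853) D30852
def n45001 : Q := act 3 n30853
theorem D45001 : act 3 n30853 = n45001 := rfl
theorem F187752 : act 7 n45001 = n31003 := d27_2 (iv F130761) D45001 (iv D31003)
theorem F187753 : act 8 n45001 = n30857 := d28_2 D30853 D45001 (iv D30857) (iv D21180) D21178
def n45002 : Q := act 9 n30853
theorem D45002 : act 9 n30853 = n45002 := rfl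
theorem F187754 : act 2 n45002 = n45002 := d23_1 D45002 (iv D45002) F130759
theorem F187755 : act 4 n45002 = n33971 := d34_1 D45002 (iv D33971) (iv F130760)
theorem F187756 : act 7 n45002 = n31004 := d43_1 D45002 (iv D31004) (iv F130761)
theorem F187757 : act 8 n45002 = n30923 := d44_1 D45002 (iv D30923) (iv D21224) (iv F91254) D30853
def n45003 : Q := act 7 n30854
theorem D45003 : act 7 n30854 = n45003 := rfl
theorem F187758 : act 2 n45003 = n30867 := d21_1 D45003 (iv D30867) (iv F130762)
theorem F187760 : act 5 n45003 = n30855 := d36_1 D45003 (iv D30855) D30854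
theorem F187761 : act 9 n45003 = n30924 := d43_2 (iv F130764) D45003 (iv D30924)
def n45004 : Q := act 8 n30854
theorem D45004 : act 8 n30854 = n45004 := rfl
theorem F187762 : act 2 n45004 = n30868 := d22_1 D45004 (iv D30868) (iv F130762)
theorem F187764 : act 5 n45004 = n30856 := d37_1 D45004 (iv D30856) D30854
def n45005 : Q := act 8 n30855
theorem D45005 : act 8 n30855 = n45005 := rfl
theorem F187766 : act 4 n45005 = n30859 := d33_1 D45005 (iv D30859) (iv F130766)
theorem F187767 : act 6 n45005 = n31007 := d40_1 D45005 (iv D31007) (iv F130767)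
theorem F187768 : act 7 n45005 = n30856 := d42_1 D45005 (iv D30856) D30855
def n45006 : Q := act 3 n30856
theorem D45006 : act 3 n30856 = n45006 := rfl
theorem F187769 : act 6 n45006 = n30857 := d26_2 (iv F130771) D45006 (iv D30857)
def n45007 : Q := act 9 n30856
theorem D45007 : act 9 n30856 = n45007 := rfl
theorem F187770 : act 2 n45007 = n30871 := d23_1 D45007 (iv D30871) (iv F130769)
theorem F187771 : act 4 n45007 = n30861 := d34_1 D45007 (iv D30861) (iv F130770)
theorem F187772 : act 6 n45007 = n30858 := d41_1 D45007 (iv D30858) (iv F130771)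
theorem F187773 : act 8 n45007 = n30928 := d44_1 D45007 (iv D30928) (iv D21227) (iv F91257) D30856
def n45008 : Q := act 2 n30857
theorem D45008 : act 2 n30857 = n45008 := rfl
theorem F187774 : act 3 n45008 = n30872 := d17_2 D30857 D45008 (iv D30872) (iv D21190) (iv F91258)
theorem F187775 : act 7 n45008 = n31010 := d21_2 (iv F130772) D45008 (iv D31010)
def n45009 : Q := act 4 n30857
theorem D45009 : act 4 n30857 = n45009 := rfl
theorem F187776 : act 3 n45009 = n30862 := d24_1 D45009 (iv D30862) (iv D21183) (iv F91259) D30857
theorem F187777 : act 7 n45009 = n31011 := d32_2 (iv F130772) D45009 (iv D31011)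
def n45010 : Q := act 9 n30857
theorem D45010 : act 9 n30857 = n45010 := rfl
theorem F187778 : act 3 n45010 = n30858 := d29_1 D45010 (iv D30858) D30857
theorem F187779 : act 7 n45010 = n31012 := d43_1 D45010 (iv D31012) (iv F130772)
def n45011 : Q := act 3 n30859
theorem D45011 : act 3 n30859 = n45011 := rfl
theorem F187783 : act 7 n45011 = n30860 := d27_2 (iv F130780) D45011 (iv D30860)
def n45012 : Q := act 9 n30859
theorem D45012 : act 9 n30859 = n45012 := rfl
theorem F187785 : act 2 n45012 = n30874 := d23_1 D45012 (iv D30874) (iv F130777)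
theorem F187786 : act 5 n45012 = n45012 := d38_1 D45012 (iv D45012) F130778
theorem F187787 : act 6 n45012 = n31014 := d41_1 D45012 (iv D31014) (iv F130779)
theorem F187788 : act 7 n45012 = n30861 := d43_1 D45012 (iv D30861) (iv F130780)
theorem F187789 : act 8 n45012 = n30933 := d44_1 D45012 (iv D30933) (iv D21230) (iv F91265) D30859
def n45013 : Q := act 4 n30860
theorem D45013 : act 4 n30860 = n45013 := rfl
theorem F187791 : act 6 n45013 = n30862 := d31_2 (iv F130783) D45013 (iv D30862)
def n45014 : Q := act 9 n30860
theorem D45014 : act 9 n30860 = n45014 := rfl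
theorem F187793 : act 2 n45014 = n45014 := d23_1 D45014 (iv D45014) F130781
theorem F187794 : act 3 n45014 = n30861 := d29_1 D45014 (iv D30861) D30860
theorem F187795 : act 5 n45014 = n45014 := d38_1 D45014 (iv D45014) F130782
theorem F187796 : act 6 n45014 = n30863 := d41_1 D45014 (iv D30863) (iv F130783)
def n45015 : Q := act 5 n30862
theorem D45015 : act 5 n30862 = n45015 := rfl
theorem F187800 : act 8 n45015 = n33984 := d37_2 (iv F130791) D45015 (iv D33984)
def n45016 : Q := act 9 n30862
theorem D45016 : act 9 n30862 = n45016 := rfl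
theorem F187801 : act 2 n45016 = n45016 := d23_1 D45016 (iv D45016) F130789
theorem F187802 : act 4 n45016 = n30863 := d34_1 D45016 (iv D30863) D30862
theorem F187803 : act 7 n45016 = n31018 := d43_1 D45016 (iv D31018) (iv F130790)
def n45017 : Q := act 8 n30863
theorem D45017 : act 8 n30863 = n45017 := rfl
theorem F187808 : act 9 n45017 = n33986 := d44_2 D30863 D45017 (iv D33986) (iv D23313) (iv F91272)
def n45020 : Q := act 8 n30865
theorem D45020 : act 8 n30865 = n45020 := rfl
theorem F187816 : act 4 n45020 = n30866 := d33_1 D45020 (iv D30866) (iv F130800)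
theorem F187819 : act 9 n45020 = n33989 := d44_2 D30865 D45020 (iv D33989) (iv D23315) (iv F91280)
def n45021 : Q := act 6 n30867
theorem D45021 : act 6 n30867 = n45021 := rfl
theorem F187820 : act 1 n45021 = n30875 := d13_1 D45021 (iv D30875) (iv F130808)
theorem F187823 : act 5 n45021 = n31023 := d35_1 D45021 (iv D31023) F91692 (iv F91292) (iv F130811)
theorem F187824 : act 9 n45021 = n30942 := d41_2 (iv F130812) D45021 (iv D30942)
def n45022 : Q := act 8 n30867
theorem D45022 : act 8 n30867 = n45022 := rfl
theorem F187827 : act 5 n45022 = n30869 := d37_1 D45022 (iv D30869) (iv F130811)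
theorem F187828 : act 7 n45022 = n30868 := d42_1 D45022 (iv D30868) D30867
def n45024 : Q := act 9 n30868
theorem D45024 : act 9 n30868 = n45024 := rfl
theorem F187834 : act 5 n45024 = n30871 := d38_1 D45024 (iv D30871) (iv F130815)
theorem F187835 : act 8 n45024 = n30945 := d44_1 D45024 (iv D30945) (iv D21239) (iv F91288) D30868
def n45025 : Q := act 3 n30869
theorem D45025 : act 3 n30869 = n45025 := rfl
theorem F187838 : act 6 n45025 = n31027 := d26_2 (iv F130818) D45025 (iv D31027)
theorem F187839 : act 7 n45025 = n30870 := d27_2 (iv F130819) D45025 (iv D30870)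
def n45026 : Q := act 9 n30869
theorem D45026 : act 9 n30869 = n45026 := rfl
theorem F187842 : act 4 n45026 = n30874 := d34_1 D45026 (iv D30874) (iv F130817)
theorem F187843 : act 6 n45026 = n31028 := d41_1 D45026 (iv D31028) (iv F130818)
theorem F187844 : act 7 n45026 = n30871 := d43_1 D45026 (iv D30871) (iv F130819)
theorem F187845 : act 8 n45026 = n30947 := d44_1 D45026 (iv D30947) (iv D21240) (iv F91293) D30869
def n45027 : Q := act 2 n30870
theorem D45027 : act 2 n30870 = n45027 := rfl
theorem F187847 : act 6 n45027 = n30872 := d20_2 (iv F130822) D45027 (iv D30872)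
def n45028 : Q := act 9 n30870
theorem D45028 : act 9 n30870 = n45028 := rfl
theorem F187850 : act 3 n45028 = n30871 := d29_1 D45028 (iv D30871) D30870
theorem F187852 : act 6 n45028 = n30873 := d41_1 D45028 (iv D30873) (iv F130822)
def n45029 : Q := act 1 n30872
theorem D45029 : act 1 n30872 = n45029 := rfl
theorem F187853 : act 2 n45029 = n30883 := d9_2 D30872 D45029 (iv D30883) (iv D21199) (iv F91297)
theorem F187855 : act 7 n45029 = n31031 := d14_2 (iv F130829) D45029 (iv D31031)
def n45030 : Q := act 9 n30872
theorem D45030 : act 9 n30872 = n45030 := rfl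
theorem F187857 : act 2 n45030 = n30873 := d23_1 D45030 (iv D30873) D30872
theorem F187858 : act 4 n45030 = n45030 := d34_1 D45030 (iv D45030) F130828
theorem F187859 : act 7 n45030 = n31032 := d43_1 D45030 (iv D31032) (iv F130829)
def n45031 : Q := act 8 n30873
theorem D45031 : act 8 n30873 = n45031 := rfl
theorem F187860 : act 1 n45031 = n30885 := d15_1 D45031 (iv D30885) (iv F130831)
theorem F187861 : act 3 n45031 = n30952 := d28_1 D45031 (iv D30952) F91509 (iv F91304) (iv F130832)
theorem F187862 : act 4 n45031 = n45031 := d33_1 D45031 (iv D45031) F130833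
theorem F187863 : act 7 n45031 = n31033 := d42_1 D45031 (iv D31033) (iv F130834)
theorem F187864 : act 9 n45031 = n45031 := d44_2 D30873 D45031 (iv D45031) (iv D30873) F91300
def n45032 : Q := act 8 n30875
theorem D45032 : act 8 n30875 = n45032 := rfl
theorem F187867 : act 5 n45032 = n31034 := d37_1 D45032 (iv D31034) (iv F130844)
def n45033 : Q := act 3 n30876
theorem D45033 : act 3 n30876 = n45033 := rfl
theorem F187870 : act 5 n45033 = n30879 := d25_2 (iv F130848) D45033 (iv D30879)
theorem F187871 : act 7 n45033 = n30877 := d27_2 (iv F130849) D45033 (iv D30877)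
def n45034 : Q := act 9 n30876
theorem D45034 : act 9 n30876 = n45034 := rfl
theorem F187877 : act 8 n45034 = n30955 := d44_1 D45034 (iv D30955) (iv D21247) (iv F91319) D30876
def n45042 : Q := act 8 n30882
theorem D45042 : act 8 n30882 = n45042 := rfl
theorem F187906 : act 3 n45042 = n30963 := d28_1 D45042 (iv D30963) F91545 (iv F91334) (iv F130872)
theorem F187908 : act 6 n45042 = n30885 := d40_1 D45042 (iv D30885) (iv F130874)
def n45043 : Q := act 0 n30883
theorem D45043 : act 0 n30883 = n45043 := rfl
theorem F187912 : act 7 n45043 = n31045 := d6_2 (iv F130876) D45043 (iv D31045)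
def n45044 : Q := act 9 n30883
theorem D45044 : act 9 n30883 = n45044 := rfl
theorem F187916 : act 7 n45044 = n31046 := d43_1 D45044 (iv D31046) (iv F130876)
def n45045 : Q := act 8 n30884
theorem D45045 : act 8 n30884 = n45045 := rfl
theorem F187918 : act 2 n45045 = n30885 := d22_1 D45045 (iv D30885) (iv F130879)
theorem F187920 : act 7 n45045 = n31047 := d42_1 D45045 (iv D31047) (iv F130881)
def n45048 : Q := act 8 n30886
theorem D45048 : act 8 n30886 = n45048 := rfl
theorem F187929 : act 1 n45048 = n30897 := d15_1 D45048 (iv D30897) (iv F130887)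
theorem F187931 : act 7 n45048 = n31050 := d42_1 D45048 (iv D31050) (iv F130889)
def n45049 : Q := act 5 n30887
theorem D45049 : act 5 n30887 = n45049 := rfl
theorem F187932 : act 1 n45049 = n30898 := d12_1 D45049 (iv D30898) (iv F130890)
def n45050 : Q := act 7 n30887
theorem D45050 : act 7 n30887 = n45050 := rfl
theorem F187935 : act 1 n45050 = n30899 := d14_1 D45050 (iv D30899) (iv F130890)
theorem F187937 : act 4 n45050 = n30889 := d32_1 D45050 (iv D30889) (iv F130892)
def n45051 : Q := act 8 n30887
theorem D45051 : act 8 n30887 = n45051 := rfl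
theorem F187939 : act 1 n45051 = n30900 := d15_1 D45051 (iv D30900) (iv F130890)
theorem F187941 : act 4 n45051 = n30890 := d33_1 D45051 (iv D30890) (iv F130892)
def n45052 : Q := act 3 n30888
theorem D45052 : act 3 n30888 = n45052 := rfl
theorem F187943 : act 1 n45052 = n30901 := d10_1 D45052 (iv D30901) (iv F130893)
def n45053 : Q := act 9 n30888
theorem D45053 : act 9 n30888 = n45053 := rfl
theorem F187945 : act 1 n45053 = n30902 := d16_1 D45053 (iv D30902) (iv F130893)
def n45054 : Q := act 8 n30889
theorem D45054 : act 8 n30889 = n45054 := rfl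
theorem F187949 : act 1 n45054 = n30903 := d15_1 D45054 (iv D30903) (iv F130897)
def n45055 : Q := act 3 n30890
theorem D45055 : act 3 n30890 = n45055 := rfl
theorem F187957 : act 8 n45055 = n34024 := d28_2 D30890 D45055 (iv D34024) (iv D23340) (iv F91354)
def n45056 : Q := act 9 n30890
theorem D45056 : act 9 n30890 = n45056 := rfl
theorem F187958 : act 1 n45056 = n30905 := d16_1 D45056 (iv D30905) (iv F130902)
def n45065 : Q := act 5 n30896
theorem D45065 : act 5 n30896 = n45065 := rfl
theorem F187995 : act 0 n45065 = n30919 := d4_1 D45065 (iv D30919) (iv F130927)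
theorem F187997 : act 3 n45065 = n30898 := d25_1 D45065 (iv D30898) (iv F130929)
def n45066 : Q := act 7 n30896
theorem D45066 : act 7 n30896 = n45066 := rfl
theorem F188000 : act 3 n45066 = n30899 := d27_1 D45066 (iv D30899) (iv F130929)
theorem F188002 : act 6 n45066 = n31068 := d39_1 D45066 (iv D31068) (iv D21322) (iv F91371) D30896
def n45067 : Q := act 8 n30896
theorem D45067 : act 8 n30896 = n45067 := rfl
theorem F188006 : act 6 n45067 = n30897 := d40_1 D45067 (iv D30897) D30896
def n45068 : Q := act 3 n30897
theorem D45068 : act 3 n30897 = n45068 := rfl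
theorem F188007 : act 0 n45068 = n30922 := d2_1 D45068 (iv D30922) (iv F130931)
theorem F188008 : act 7 n45068 = n31070 := d27_2 (iv F130934) D45068 (iv D31070)
theorem F188009 : act 8 n45068 = n30901 := d28_2 D30897 D45068 (iv D30901) (iv D21209) D21207
def n45069 : Q := act 9 n30897
theorem D45069 : act 9 n30897 = n45069 := rfl
theorem F188010 : act 0 n45069 = n30923 := d8_1 D45069 (iv D30923) (iv F130931)
theorem F188011 : act 2 n45069 = n45069 := d23_1 D45069 (iv D45069) F130932
theorem F188012 : act 4 n45069 = n34038 := d34_1 D45069 (iv D34038) (iv F130933)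
theorem F188013 : act 7 n45069 = n31071 := d43_1 D45069 (iv D31071) (iv F130934)
def n45070 : Q := act 7 n30898
theorem D45070 : act 7 n30898 = n45070 := rfl
theorem F188014 : act 0 n45070 = n30924 := d6_1 D45070 (iv D30924) (iv F130935)
theorem F188015 : act 2 n45070 = n30911 := d21_1 D45070 (iv D30911) (iv F130936)
theorem F188017 : act 5 n45070 = n30899 := d36_1 D45070 (iv D30899) D30898
def n45071 : Q := act 8 n30898
theorem D45071 : act 8 n30898 = n45071 := rfl
theorem F188018 : act 0 n45071 = n30925 := d7_1 D45071 (iv D30925) (iv F130935)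
theorem F188019 : act 2 n45071 = n30912 := d22_1 D45071 (iv D30912) (iv F130936)
theorem F188020 : act 4 n45071 = n45071 := d33_1 D45071 (iv D45071) F130937
theorem F188021 : act 5 n45071 = n30900 := d37_1 D45071 (iv D30900) D30898
def n45072 : Q := act 8 n30899
theorem D45072 : act 8 n30899 = n45072 := rfl
theorem F188022 : act 0 n45072 = n30926 := d7_1 D45072 (iv D30926) (iv F130938)
theorem F188023 : act 2 n45072 = n30913 := d22_1 D45072 (iv D30913) (iv F130939)
theorem F188024 : act 4 n45072 = n30903 := d33_1 D45072 (iv D30903) (iv F130940)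
theorem F188025 : act 6 n45072 = n31074 := d40_1 D45072 (iv D31074) (iv F130941)
theorem F188026 : act 7 n45072 = n30900 := d42_1 D45072 (iv D30900) D30899
def n45073 : Q := act 3 n30900
theorem D45073 : act 3 n30900 = n45073 := rfl
theorem F188027 : act 0 n45073 = n30927 := d2_1 D45073 (iv D30927) (iv F130942)
theorem F188028 : act 6 n45073 = n30901 := d26_2 (iv F130945) D45073 (iv D30901)
def n45074 : Q := act 9 n30900
theorem D45074 : act 9 n30900 = n45074 := rfl
theorem F188029 : act 0 n45074 = n30928 := d8_1 D45074 (iv D30928) (iv F130942)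
theorem F188030 : act 2 n45074 = n30915 := d23_1 D45074 (iv D30915) (iv F130943)
theorem F188031 : act 4 n45074 = n30905 := d34_1 D45074 (iv D30905) (iv F130944)
theorem F188032 : act 6 n45074 = n30902 := d41_1 D45074 (iv D30902) (iv F130945)
def n45075 : Q := act 2 n30901
theorem D45075 : act 2 n30901 = n45075 := rfl
theorem F188033 : act 0 n45075 = n30929 := d1_1 D45075 (iv D30929) (iv F130946)
theorem F188034 : act 3 n45075 = n30916 := d17_2 D30901 D45075 (iv D30916) (iv D21219) (iv F91376)
theorem F188035 : act 7 n45075 = n31077 := d21_2 (iv F130947) D45075 (iv D31077)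
def n45076 : Q := act 4 n30901
theorem D45076 : act 4 n30901 = n45076 := rfl
theorem F188036 : act 0 n45076 = n30930 := d3_1 D45076 (iv D30930) (iv F130946)
theorem F188037 : act 3 n45076 = n30906 := d24_1 D45076 (iv D30906) (iv D21212) (iv F91377) D30901
def n45077 : Q := act 9 n30901
theorem D45077 : act 9 n30901 = n45077 := rfl
theorem F188039 : act 0 n45077 = n30931 := d8_1 D45077 (iv D30931) (iv F130946)
theorem F188040 : act 3 n45077 = n30902 := d29_1 D45077 (iv D30902) D30901
theorem F188041 : act 7 n45077 = n31079 := d43_1 D45077 (iv D31079) (iv F130947)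
def n45078 : Q := act 3 n30903
theorem D45078 : act 3 n30903 = n45078 := rfl
theorem F188045 : act 6 n45078 = n31080 := d26_2 (iv F130955) D45078 (iv D31080)
theorem F188047 : act 8 n45078 = n34047 := d28_2 D30903 D45078 (iv D34047) (iv D23353) (iv F91381)
def n45079 : Q := act 9 n30903
theorem D45079 : act 9 n30903 = n45079 := rfl
theorem F188048 : act 0 n45079 = n30933 := d8_1 D45079 (iv D30933) (iv F130952)
theorem F188049 : act 2 n45079 = n30918 := d23_1 D45079 (iv D30918) (iv F130953)
theorem F188050 : act 5 n45079 = n45079 := d38_1 D45079 (iv D45079) F130954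
theorem F188051 : act 6 n45079 = n31081 := d41_1 D45079 (iv D31081) (iv F130955)
theorem F188052 : act 7 n45079 = n30905 := d43_1 D45079 (iv D30905) (iv F130956)
def n45081 : Q := act 9 n30904
theorem D45081 : act 9 n30904 = n45081 := rfl
theorem F188057 : act 0 n45081 = n30935 := d8_1 D45081 (iv D30935) (iv F130957)
theorem F188059 : act 3 n45081 = n30905 := d29_1 D45081 (iv D30905) D30904
def n45082 : Q := act 5 n30906
theorem D45082 : act 5 n30906 = n45082 := rfl
theorem F188062 : act 0 n45082 = n30936 := d4_1 D45082 (iv D30936) (iv F130966)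
theorem F188066 : act 8 n45082 = n34051 := d37_2 (iv F130969) D45082 (iv D34051)
def n45083 : Q := act 9 n30906
theorem D45083 : act 9 n30906 = n45083 := rfl
theorem F188067 : act 0 n45083 = n30937 := d8_1 D45083 (iv D30937) (iv F130966)
def n45085 : Q := act 6 n30908
theorem D45085 : act 6 n30908 = n45085 := rfl
theorem F188076 : act 0 n45085 = n30939 := d5_1 D45085 (iv D30939) (iv F130975)
theorem F188079 : act 8 n45085 = n34054 := d40_2 (iv F130978) D45085 (iv D34054)
def n45086 : Q := act 9 n30908
theorem D45086 : act 9 n30908 = n45086 := rfl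
theorem F188080 : act 0 n45086 = n30940 := d8_1 D45086 (iv D30940) (iv F130975)
def n45087 : Q := act 8 n30909
theorem D45087 : act 8 n30909 = n45087 := rfl
theorem F188089 : act 9 n45087 = n34056 := d44_2 D30909 D45087 (iv D34056) (iv D23359) (iv F91401)
def n45088 : Q := act 6 n30911
theorem D45088 : act 6 n30911 = n45088 := rfl
theorem F188090 : act 0 n45088 = n30942 := d5_1 D45088 (iv D30942) (iv F130989)
theorem F188091 : act 1 n45088 = n45088 := d13_1 D45088 (iv D45088) F130990
theorem F188092 : act 3 n45088 = n45088 := d26_1 D45088 (iv D45088) F130991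
theorem F188093 : act 4 n45088 = n45088 := d31_1 D45088 (iv D45088) F130992
theorem F188094 : act 5 n45088 = n31090 := d35_1 D45088 (iv D31090) F91846 (iv F91415) (iv F130993)
def n45089 : Q := act 8 n30911
theorem D45089 : act 8 n30911 = n45089 := rfl
theorem F188095 : act 0 n45089 = n30943 := d7_1 D45089 (iv D30943) (iv F130989)
theorem F188096 : act 1 n45089 = n45089 := d15_1 D45089 (iv D45089) F130990
theorem F188097 : act 4 n45089 = n45089 := d33_1 D45089 (iv D45089) F130992
theorem F188098 : act 5 n45089 = n30913 := d37_1 D45089 (iv D30913) (iv F130993)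
theorem F188099 : act 7 n45089 = n30912 := d42_1 D45089 (iv D30912) D30911
def n45090 : Q := act 3 n30912
theorem D45090 : act 3 n30912 = n45090 := rfl
theorem F188100 : act 0 n45090 = n30944 := d2_1 D45090 (iv D30944) (iv F130994)
theorem F188101 : act 1 n45090 = n45090 := d10_1 D45090 (iv D45090) F130995
theorem F188102 : act 5 n45090 = n30914 := d25_2 (iv F130997) D45090 (iv D30914)
theorem F188103 : act 8 n45090 = n45090 := d28_2 D30912 D45090 (iv D45090) (iv D30912) F91409
def n45091 : Q := act 9 n30912
theorem D45091 : act 9 n30912 = n45091 := rfl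
theorem F188104 : act 0 n45091 = n30945 := d8_1 D45091 (iv D30945) (iv F130994)
theorem F188105 : act 1 n45091 = n45091 := d16_1 D45091 (iv D45091) F130995
theorem F188106 : act 4 n45091 = n45091 := d34_1 D45091 (iv D45091) F130996
theorem F188107 : act 5 n45091 = n30915 := d38_1 D45091 (iv D30915) (iv F130997)
def n45092 : Q := act 3 n30913
theorem D45092 : act 3 n30913 = n45092 := rfl
theorem F188108 : act 0 n45092 = n30946 := d2_1 D45092 (iv D30946) (iv F130998)
theorem F188110 : act 4 n45092 = n31848 := d24_2 (iv F131000) D45092 (iv D31848) F93805 (iv F91431)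
theorem F188111 : act 6 n45092 = n31094 := d26_2 (iv F131001) D45092 (iv D31094)
theorem F188112 : act 7 n45092 = n30914 := d27_2 (iv F131002) D45092 (iv D30914)
def n45093 : Q := act 9 n30913
theorem D45093 : act 9 n30913 = n45093 := rfl
theorem F188114 : act 0 n45093 = n30947 := d8_1 D45093 (iv D30947) (iv F130998)
theorem F188115 : act 1 n45093 = n45093 := d16_1 D45093 (iv D45093) F130999
theorem F188116 : act 4 n45093 = n30918 := d34_1 D45093 (iv D30918) (iv F131000)
theorem F188117 : act 6 n45093 = n31095 := d41_1 D45093 (iv D31095) (iv F131001)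
theorem F188118 : act 7 n45093 = n30915 := d43_1 D45093 (iv D30915) (iv F131002)
def n45094 : Q := act 2 n30914
theorem D45094 : act 2 n30914 = n45094 := rfl
theorem F188119 : act 0 n45094 = n30948 := d1_1 D45094 (iv D30948) (iv F131003)
theorem F188120 : act 4 n45094 = n31850 := d18_2 (iv F131005) D45094 (iv D31850)
theorem F188121 : act 6 n45094 = n30916 := d20_2 (iv F131006) D45094 (iv D30916)
def n45095 : Q := act 9 n30914
theorem D45095 : act 9 n30914 = n45095 := rfl
theorem F188123 : act 0 n45095 = n30949 := d8_1 D45095 (iv D30949) (iv F131003)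
theorem F188124 : act 1 n45095 = n45095 := d16_1 D45095 (iv D45095) F131004
theorem F188125 : act 3 n45095 = n30915 := d29_1 D45095 (iv D30915) D30914
theorem F188126 : act 4 n45095 = n31851 := d34_1 D45095 (iv D31851) (iv F131005)
theorem F188127 : act 6 n45095 = n30917 := d41_1 D45095 (iv D30917) (iv F131006)
def n45096 : Q := act 1 n30916
theorem D45096 : act 1 n30916 = n45096 := rfl
theorem F188129 : act 4 n45096 = n31852 := d11_2 (iv F131013) D45096 (iv D31852)
theorem F188130 : act 7 n45096 = n31098 := d14_2 (iv F131014) D45096 (iv D31098)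
def n45097 : Q := act 9 n30916
theorem D45097 : act 9 n30916 = n45097 := rfl
theorem F188132 : act 0 n45097 = n30951 := d8_1 D45097 (iv D30951) (iv F131012)
theorem F188133 : act 2 n45097 = n30917 := d23_1 D45097 (iv D30917) D30916
theorem F188134 : act 4 n45097 = n31853 := d34_1 D45097 (iv D31853) (iv F131013)
theorem F188135 : act 7 n45097 = n31099 := d43_1 D45097 (iv D31099) (iv F131014)
def n45098 : Q := act 8 n30917
theorem D45098 : act 8 n30917 = n45098 := rfl
theorem F188136 : act 0 n45098 = n30952 := d7_1 D45098 (iv D30952) (iv F131016)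
theorem F188137 : act 1 n45098 = n45098 := d15_1 D45098 (iv D45098) F131017
theorem F188138 : act 4 n45098 = n31854 := d33_1 D45098 (iv D31854) (iv F131019)
theorem F188139 : act 7 n45098 = n31100 := d42_1 D45098 (iv D31100) (iv F131020)
theorem F188140 : act 9 n45098 = n45098 := d44_2 D30917 D45098 (iv D45098) (iv D30917) F91424
def n45100 : Q := act 7 n30919
theorem D45100 : act 7 n30919 = n45100 := rfl
theorem F188145 : act 3 n45100 = n30924 := d27_1 D45100 (iv D30924) (iv F131028)
theorem F188146 : act 5 n45100 = n30920 := d36_1 D45100 (iv D30920) D30919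
def n45101 : Q := act 8 n30919
theorem D45101 : act 8 n30919 = n45101 := rfl
theorem F188148 : act 5 n45101 = n30921 := d37_1 D45101 (iv D30921) D30919
def n45103 : Q := act 3 n30921
theorem D45103 : act 3 n30921 = n45103 := rfl
theorem F188153 : act 6 n45103 = n30922 := d26_2 (iv F131035) D45103 (iv D30922)
theorem F188154 : act 8 n45103 = n30927 := d28_2 D30921 D45103 (iv D30927) (iv D21227) (iv F91441)
def n45104 : Q := act 9 n30921
theorem D45104 : act 9 n30921 = n45104 := rfl
theorem F188157 : act 6 n45104 = n30923 := d41_1 D45104 (iv D30923) (iv F131035)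
def n45105 : Q := act 2 n30922
theorem D45105 : act 2 n30922 = n45105 := rfl
theorem F188158 : act 3 n45105 = n45105 := d17_2 D30922 D45105 (iv D45105) (iv D30922) F91443
theorem F188159 : act 7 n45105 = n31107 := d21_2 (iv F131036) D45105 (iv D31107)
theorem F188160 : act 8 n45105 = n30929 := d22_2 (iv F131037) D45105 (iv D30929)
def n45106 : Q := act 4 n30922
theorem D45106 : act 4 n30922 = n45106 := rfl
theorem F188161 : act 3 n45106 = n34075 := d24_1 D45106 (iv D34075) (iv D23372) (iv F91444) D30922
theorem F188162 : act 7 n45106 = n31108 := d32_2 (iv F131036) D45106 (iv D31108)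
theorem F188163 : act 8 n45106 = n30930 := d33_2 (iv F131037) D45106 (iv D30930)
def n45107 : Q := act 9 n30922
theorem D45107 : act 9 n30922 = n45107 := rfl
theorem F188164 : act 3 n45107 = n30923 := d29_1 D45107 (iv D30923) D30922
theorem F188165 : act 7 n45107 = n31109 := d43_1 D45107 (iv D31109) (iv F131036)
def n45108 : Q := act 6 n30924
theorem D45108 : act 6 n30924 = n45108 := rfl
theorem F188166 : act 2 n45108 = n30942 := d20_1 D45108 (iv D30942) (iv F131041)
theorem F188167 : act 4 n45108 = n45108 := d31_1 D45108 (iv D45108) F131042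
theorem F188168 : act 5 n45108 = n31110 := d35_1 D45108 (iv D31110) F91889 (iv F91450) (iv F131043)
def n45109 : Q := act 8 n30924
theorem D45109 : act 8 n30924 = n45109 := rfl
theorem F188169 : act 2 n45109 = n30943 := d22_1 D45109 (iv D30943) (iv F131041)
theorem F188170 : act 4 n45109 = n45109 := d33_1 D45109 (iv D45109) F131042
theorem F188171 : act 5 n45109 = n30926 := d37_1 D45109 (iv D30926) (iv F131043)
theorem F188172 : act 7 n45109 = n30925 := d42_1 D45109 (iv D30925) D30924
def n45110 : Q := act 3 n30925
theorem D45110 : act 3 n30925 = n45110 := rfl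
theorem F188173 : act 5 n45110 = n30927 := d25_2 (iv F131046) D45110 (iv D30927)
def n45111 : Q := act 9 n30925
theorem D45111 : act 9 n30925 = n45111 := rfl
theorem F188174 : act 2 n45111 = n30945 := d23_1 D45111 (iv D30945) (iv F131044)
theorem F188175 : act 4 n45111 = n45111 := d34_1 D45111 (iv D45111) F131045
theorem F188176 : act 5 n45111 = n30928 := d38_1 D45111 (iv D30928) (iv F131046)
def n45112 : Q := act 3 n30926
theorem D45112 : act 3 n30926 = n45112 := rfl
theorem F188177 : act 6 n45112 = n31114 := d26_2 (iv F131049) D45112 (iv D31114)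
theorem F188178 : act 7 n45112 = n30927 := d27_2 (iv F131050) D45112 (iv D30927)
def n45113 : Q := act 9 n30926
theorem D45113 : act 9 n30926 = n45113 := rfl
theorem F188179 : act 2 n45113 = n30947 := d23_1 D45113 (iv D30947) (iv F131047)
theorem F188180 : act 4 n45113 = n30933 := d34_1 D45113 (iv D30933) (iv F131048)
theorem F188181 : act 6 n45113 = n31115 := d41_1 D45113 (iv D31115) (iv F131049)
theorem F188182 : act 7 n45113 = n30928 := d43_1 D45113 (iv D30928) (iv F131050)
def n45114 : Q := act 2 n30927
theorem D45114 : act 2 n30927 = n45114 := rfl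
theorem F188183 : act 3 n45114 = n30948 := d17_2 D30927 D45114 (iv D30948) (iv D21241) (iv F91451)
theorem F188184 : act 6 n45114 = n30929 := d20_2 (iv F131051) D45114 (iv D30929)
def n45115 : Q := act 4 n30927
theorem D45115 : act 4 n30927 = n45115 := rfl
theorem F188185 : act 3 n45115 = n30934 := d24_1 D45115 (iv D30934) (iv D21231) (iv F91452) D30927
theorem F188186 : act 6 n45115 = n30930 := d31_2 (iv F131051) D45115 (iv D30930)
def n45116 : Q := act 9 n30927
theorem D45116 : act 9 n30927 = n45116 := rfl
theorem F188187 : act 3 n45116 = n30928 := d29_1 D45116 (iv D30928) D30927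
theorem F188188 : act 6 n45116 = n30931 := d41_1 D45116 (iv D30931) (iv F131051)
def n45117 : Q := act 1 n30929
theorem D45117 : act 1 n30929 = n45117 := rfl
theorem F188189 : act 3 n45117 = n30950 := d10_2 (iv F131055) D45117 (iv D30950)
theorem F188190 : act 7 n45117 = n31119 := d14_2 (iv F131056) D45117 (iv D31119)
def n45118 : Q := act 4 n30929
theorem D45118 : act 4 n30929 = n45118 := rfl
theorem F188191 : act 2 n45118 = n30930 := d18_1 D45118 (iv D30930) D30929
theorem F188192 : act 3 n45118 = n31874 := d24_1 D45118 (iv D31874) F93879 (iv F91505) (iv F131055)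
theorem F188193 : act 7 n45118 = n31120 := d32_2 (iv F131056) D45118 (iv D31120)
def n45119 : Q := act 9 n30929
theorem D45119 : act 9 n30929 = n45119 := rfl
theorem F188194 : act 2 n45119 = n30931 := d23_1 D45119 (iv D30931) D30929
theorem F188195 : act 3 n45119 = n30951 := d29_1 D45119 (iv D30951) (iv F131055)
theorem F188196 : act 7 n45119 = n31121 := d43_1 D45119 (iv D31121) (iv F131056)
def n45120 : Q := act 5 n30930
theorem D45120 : act 5 n30930 = n45120 := rfl
theorem F188197 : act 3 n45120 = n30936 := d25_1 D45120 (iv D30936) (iv F131057)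
theorem F188198 : act 7 n45120 = n31122 := d36_2 (iv F131058) D45120 (iv D31122)
def n45121 : Q := act 9 n30930
theorem D45121 : act 9 n30930 = n45121 := rfl
theorem F188199 : act 3 n45121 = n30937 := d29_1 D45121 (iv D30937) (iv F131057)
theorem F188200 : act 4 n45121 = n30931 := d34_1 D45121 (iv D30931) D30930
theorem F188201 : act 7 n45121 = n31123 := d43_1 D45121 (iv D31123) (iv F131058)
def n45122 : Q := act 8 n30931
theorem D45122 : act 8 n30931 = n45122 := rfl
theorem F188202 : act 7 n45122 = n31124 := d42_1 D45122 (iv D31124) (iv F131060)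
def n45124 : Q := act 9 n30932
theorem D45124 : act 9 n30932 = n45124 := rfl
theorem F188208 : act 3 n45124 = n30933 := d29_1 D45124 (iv D30933) D30932
theorem F188211 : act 7 n45124 = n30935 := d43_1 D45124 (iv D30935) (iv F131064)
def n45126 : Q := act 9 n30934
theorem D45126 : act 9 n30934 = n45126 := rfl
theorem F188215 : act 2 n45126 = n31882 := d23_1 D45126 (iv D31882) (iv F131070)
theorem F188216 : act 4 n45126 = n30935 := d34_1 D45126 (iv D30935) D30934
theorem F188217 : act 6 n45126 = n30937 := d41_1 D45126 (iv D30937) (iv F131071)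
def n45127 : Q := act 8 n30935
theorem D45127 : act 8 n30935 = n45127 := rfl
theorem F188221 : act 9 n45127 = n34096 := d44_2 D30935 D45127 (iv D34096) (iv D23385) (iv F91465)
def n45128 : Q := act 6 n30936
theorem D45128 : act 6 n30936 = n45128 := rfl
theorem F188222 : act 2 n45128 = n31884 := d20_1 D45128 (iv D31884) (iv F131077)
theorem F188223 : act 4 n45128 = n30939 := d31_1 D45128 (iv D30939) (iv F131078)
theorem F188224 : act 8 n45128 = n34097 := d40_2 (iv F131080) D45128 (iv D34097)
def n45129 : Q := act 9 n30936
theorem D45129 : act 9 n30936 = n45129 := rfl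
theorem F188225 : act 2 n45129 = n31885 := d23_1 D45129 (iv D31885) (iv F131077)
theorem F188226 : act 4 n45129 = n30940 := d34_1 D45129 (iv D30940) (iv F131078)
theorem F188227 : act 5 n45129 = n30937 := d38_1 D45129 (iv D30937) D30936
theorem F188228 : act 7 n45129 = n31131 := d43_1 D45129 (iv D31131) (iv F131079)
def n45130 : Q := act 8 n30937
theorem D45130 : act 8 n30937 = n45130 := rfl
theorem F188232 : act 9 n45130 = n34099 := d44_2 D30937 D45130 (iv D34099) (iv D23387) (iv F91471)
def n45131 : Q := act 7 n30939
theorem D45131 : act 7 n30939 = n45131 := rfl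
theorem F188233 : act 2 n45131 = n31887 := d21_1 D45131 (iv D31887) (iv F131088)
theorem F188234 : act 5 n45131 = n45131 := d36_1 D45131 (iv D45131) F131089
theorem F188235 : act 6 n45131 = n31133 := d39_1 D45131 (iv D31133) (iv D21365) (iv F91477) D30939
theorem F188236 : act 8 n45131 = n34100 := d42_2 (iv F131090) D45131 (iv D34100)
def n45132 : Q := act 9 n30939
theorem D45132 : act 9 n30939 = n45132 := rfl
theorem F188237 : act 2 n45132 = n31888 := d23_1 D45132 (iv D31888) (iv F131088)
theorem F188238 : act 5 n45132 = n45132 := d38_1 D45132 (iv D45132) F131089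
theorem F188239 : act 6 n45132 = n30940 := d41_1 D45132 (iv D30940) D30939
def n45133 : Q := act 8 n30940
theorem D45133 : act 8 n30940 = n45133 := rfl
theorem F188243 : act 9 n45133 = n34102 := d44_2 D30940 D45133 (iv D34102) (iv D23390) (iv F91478)
def n45135 : Q := act 8 n30942
theorem D45135 : act 8 n30942 = n45135 := rfl
theorem F188247 : act 1 n45135 = n30953 := d15_1 D45135 (iv D30953) (iv F131099)
theorem F188248 : act 4 n45135 = n45135 := d33_1 D45135 (iv D45135) F131101
theorem F188249 : act 5 n45135 = n31137 := d37_1 D45135 (iv D31137) (iv F131102)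
theorem F188250 : act 6 n45135 = n30943 := d40_1 D45135 (iv D30943) D30942
def n45136 : Q := act 3 n30943
theorem D45136 : act 3 n30943 = n45136 := rfl
theorem F188251 : act 1 n45136 = n30954 := d10_1 D45136 (iv D30954) (iv F131103)
theorem F188252 : act 5 n45136 = n30946 := d25_2 (iv F131105) D45136 (iv D30946)
theorem F188253 : act 7 n45136 = n30944 := d27_2 (iv F131106) D45136 (iv D30944)
theorem F188254 : act 8 n45136 = n45136 := d28_2 D30943 D45136 (iv D45136) (iv D30943) F91488
def n45137 : Q := act 9 n30943
theorem D45137 : act 9 n30943 = n45137 := rfl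
theorem F188255 : act 1 n45137 = n30955 := d16_1 D45137 (iv D30955) (iv F131103)
theorem F188257 : act 5 n45137 = n30947 := d38_1 D45137 (iv D30947) (iv F131105)
theorem F188258 : act 7 n45137 = n30945 := d43_1 D45137 (iv D30945) (iv F131106)
def n45138 : Q := act 2 n30944
theorem D45138 : act 2 n30944 = n45138 := rfl
theorem F188259 : act 5 n45138 = n30948 := d19_2 (iv F131108) D45138 (iv D30948)
theorem F188260 : act 8 n45138 = n45138 := d22_2 F131109 D45138 (iv D45138)
def n45139 : Q := act 4 n30944
theorem D45139 : act 4 n30944 = n45139 := rfl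
theorem F188261 : act 1 n45139 = n30957 := d11_1 D45139 (iv D30957) (iv F131107)
theorem F188262 : act 3 n45139 = n45139 := d24_1 D45139 (iv D45139) (iv D30944) F91492 D30944
theorem F188263 : act 5 n45139 = n31895 := d30_2 (iv F131108) D45139 (iv D31895) F93943 (iv F91499)
theorem F188264 : act 8 n45139 = n45139 := d33_2 F131109 D45139 (iv D45139)
def n45140 : Q := act 9 n30944
theorem D45140 : act 9 n30944 = n45140 := rfl
theorem F188265 : act 1 n45140 = n30958 := d16_1 D45140 (iv D30958) (iv F131107)
theorem F188266 : act 3 n45140 = n30945 := d29_1 D45140 (iv D30945) D30944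
theorem F188267 : act 5 n45140 = n30949 := d38_1 D45140 (iv D30949) (iv F131108)
def n45141 : Q := act 2 n30946
theorem D45141 : act 2 n30946 = n45141 := rfl
theorem F188268 : act 4 n45141 = n31897 := d18_2 (iv F131114) D45141 (iv D31897)
theorem F188269 : act 6 n45141 = n31143 := d20_2 (iv F131115) D45141 (iv D31143)
theorem F188270 : act 7 n45141 = n30948 := d21_2 (iv F131116) D45141 (iv D30948)
def n45142 : Q := act 9 n30946
theorem D45142 : act 9 n30946 = n45142 := rfl
theorem F188272 : act 1 n45142 = n30960 := d16_1 D45142 (iv D30960) (iv F131113)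
theorem F188273 : act 3 n45142 = n30947 := d29_1 D45142 (iv D30947) D30946
theorem F188274 : act 4 n45142 = n31898 := d34_1 D45142 (iv D31898) (iv F131114)
theorem F188275 : act 6 n45142 = n31144 := d41_1 D45142 (iv D31144) (iv F131115)
theorem F188276 : act 7 n45142 = n30949 := d43_1 D45142 (iv D30949) (iv F131116)
def n45143 : Q := act 1 n30948
theorem D45143 : act 1 n30948 = n45143 := rfl
theorem F188277 : act 2 n45143 = n30961 := d9_2 D30948 D45143 (iv D30961) (iv D21252) (iv F91498)
theorem F188278 : act 4 n45143 = n31899 := d11_2 (iv F131122) D45143 (iv D31899)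
theorem F188279 : act 6 n45143 = n30950 := d13_2 (iv F131123) D45143 (iv D30950)
theorem F188280 : act 8 n45143 = n45143 := d15_2 F131124 D45143 (iv D45143)
def n45144 : Q := act 9 n30948
theorem D45144 : act 9 n30948 = n45144 := rfl
theorem F188281 : act 2 n45144 = n30949 := d23_1 D45144 (iv D30949) D30948
theorem F188282 : act 4 n45144 = n31900 := d34_1 D45144 (iv D31900) (iv F131122)
theorem F188283 : act 6 n45144 = n30951 := d41_1 D45144 (iv D30951) (iv F131123)
def n45145 : Q := act 8 n30949
theorem D45145 : act 8 n30949 = n45145 := rfl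
theorem F188284 : act 1 n45145 = n30963 := d15_1 D45145 (iv D30963) (iv F131125)
theorem F188285 : act 4 n45145 = n31901 := d33_1 D45145 (iv D31901) (iv F131127)
theorem F188286 : act 6 n45145 = n30952 := d40_1 D45145 (iv D30952) (iv F131128)
theorem F188287 : act 9 n45145 = n45145 := d44_2 D30949 D45145 (iv D45145) (iv D30949) F91501
def n45146 : Q := act 0 n30950
theorem D45146 : act 0 n30950 = n45146 := rfl
theorem F188288 : act 2 n45146 = n30964 := d1_2 (iv F131129) D45146 (iv D30964)
theorem F188289 : act 4 n45146 = n31902 := d3_2 (iv F131130) D45146 (iv D31902)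
theorem F188290 : act 7 n45146 = n31148 := d6_2 (iv F131131) D45146 (iv D31148)
theorem F188291 : act 8 n45146 = n45146 := d7_2 F131132 D45146 (iv D45146)
def n45147 : Q := act 9 n30950
theorem D45147 : act 9 n30950 = n45147 := rfl
theorem F188292 : act 1 n45147 = n30951 := d16_1 D45147 (iv D30951) D30950
theorem F188293 : act 2 n45147 = n30965 := d23_1 D45147 (iv D30965) (iv F131129)
theorem F188294 : act 4 n45147 = n31903 := d34_1 D45147 (iv D31903) (iv F131130)
theorem F188295 : act 7 n45147 = n31149 := d43_1 D45147 (iv D31149) (iv F131131)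
def n45148 : Q := act 8 n30951
theorem D45148 : act 8 n30951 = n45148 := rfl
theorem F188296 : act 2 n45148 = n30952 := d22_1 D45148 (iv D30952) (iv F131133)
theorem F188297 : act 4 n45148 = n31904 := d33_1 D45148 (iv D31904) (iv F131134)
theorem F188298 : act 7 n45148 = n31150 := d42_1 D45148 (iv D31150) (iv F131135)
theorem F188299 : act 9 n45148 = n45148 := d44_2 D30951 D45148 (iv D45148) (iv D30951) F91507
def n45149 : Q := act 3 n30953
theorem D45149 : act 3 n30953 = n45149 := rfl
theorem F188301 : act 5 n45149 = n31151 := d25_2 (iv F131142) D45149 (iv D31151)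
theorem F188302 : act 6 n45149 = n30954 := d26_2 (iv F131143) D45149 (iv D30954)
def n45150 : Q := act 9 n30953
theorem D45150 : act 9 n30953 = n45150 := rfl
theorem F188306 : act 5 n45150 = n31152 := d38_1 D45150 (iv D31152) (iv F131142)
theorem F188307 : act 6 n45150 = n30955 := d41_1 D45150 (iv D30955) (iv F131143)
def n45151 : Q := act 2 n30954
theorem D45151 : act 2 n30954 = n45151 := rfl
theorem F188309 : act 5 n45151 = n30959 := d19_2 (iv F131145) D45151 (iv D30959)
theorem F188310 : act 7 n45151 = n30956 := d21_2 (iv F131146) D45151 (iv D30956)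
def n45152 : Q := act 4 n30954
theorem D45152 : act 4 n30954 = n45152 := rfl
theorem F188312 : act 0 n45152 = n45152 := d3_1 D45152 (iv D45152) F131144
theorem F188313 : act 3 n45152 = n45152 := d24_1 D45152 (iv D45152) (iv D30954) F91522 D30954
theorem F188314 : act 5 n45152 = n31908 := d30_2 (iv F131145) D45152 (iv D31908) F93984 (iv F91532)
theorem F188315 : act 7 n45152 = n30957 := d32_2 (iv F131146) D45152 (iv D30957)
theorem F188316 : act 8 n45152 = n45152 := d33_2 F131147 D45152 (iv D45152)
def n45153 : Q := act 9 n30954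
theorem D45153 : act 9 n30954 = n45153 := rfl
theorem F188318 : act 3 n45153 = n30955 := d29_1 D45153 (iv D30955) D30954
theorem F188319 : act 5 n45153 = n30960 := d38_1 D45153 (iv D30960) (iv F131145)
theorem F188320 : act 7 n45153 = n30958 := d43_1 D45153 (iv D30958) (iv F131146)
def n45154 : Q := act 1 n30956
theorem D45154 : act 1 n30956 = n45154 := rfl
theorem F188321 : act 5 n45154 = n30961 := d12_2 (iv F131153) D45154 (iv D30961)
def n45155 : Q := act 4 n30956
theorem D45155 : act 4 n30956 = n45155 := rfl
theorem F188324 : act 2 n45155 = n30957 := d18_1 D45155 (iv D30957) D30956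
theorem F188325 : act 5 n45155 = n31911 := d30_2 (iv F131153) D45155 (iv D31911) F93995 (iv F91541)
def n45156 : Q := act 9 n30956
theorem D45156 : act 9 n30956 = n45156 := rfl
theorem F188328 : act 2 n45156 = n30958 := d23_1 D45156 (iv D30958) D30956
theorem F188329 : act 5 n45156 = n30962 := d38_1 D45156 (iv D30962) (iv F131153)
def n45157 : Q := act 9 n30957
theorem D45157 : act 9 n30957 = n45157 := rfl
theorem F188330 : act 0 n45157 = n45157 := d8_1 D45157 (iv D45157) F131155
theorem F188331 : act 3 n45157 = n45157 := d29_1 D45157 (iv D45157) F131156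
theorem F188332 : act 4 n45157 = n30958 := d34_1 D45157 (iv D30958) D30957
theorem F188333 : act 5 n45157 = n31913 := d38_1 D45157 (iv D31913) (iv F131157)
def n45158 : Q := act 8 n30958
theorem D45158 : act 8 n30958 = n45158 := rfl
theorem F188334 : act 0 n45158 = n45158 := d7_1 D45158 (iv D45158) F131159
theorem F188335 : act 5 n45158 = n30963 := d37_1 D45158 (iv D30963) (iv F131161)
theorem F188336 : act 9 n45158 = n45158 := d44_2 D30958 D45158 (iv D45158) (iv D30958) F91527
def n45159 : Q := act 1 n30959
theorem D45159 : act 1 n30959 = n45159 := rfl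
theorem F188337 : act 4 n45159 = n31915 := d11_2 (iv F131163) D45159 (iv D31915)
theorem F188338 : act 6 n45159 = n31161 := d13_2 (iv F131164) D45159 (iv D31161)
theorem F188339 : act 7 n45159 = n30961 := d14_2 (iv F131165) D45159 (iv D30961)
theorem F188340 : act 8 n45159 = n45159 := d15_2 F131166 D45159 (iv D45159)
def n45160 : Q := act 9 n30959
theorem D45160 : act 9 n30959 = n45160 := rfl
theorem F188341 : act 0 n45160 = n45160 := d8_1 D45160 (iv D45160) F131162
theorem F188342 : act 2 n45160 = n30960 := d23_1 D45160 (iv D30960) D30959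
theorem F188343 : act 4 n45160 = n31916 := d34_1 D45160 (iv D31916) (iv F131163)
theorem F188344 : act 6 n45160 = n31162 := d41_1 D45160 (iv D31162) (iv F131164)
theorem F188345 : act 7 n45160 = n30962 := d43_1 D45160 (iv D30962) (iv F131165)
def n45161 : Q := act 8 n30960
theorem D45161 : act 8 n30960 = n45161 := rfl
theorem F188347 : act 4 n45161 = n31917 := d33_1 D45161 (iv D31917) (iv F131169)
theorem F188348 : act 6 n45161 = n31163 := d40_1 D45161 (iv D31163) (iv F131170)
theorem F188349 : act 7 n45161 = n30963 := d42_1 D45161 (iv D30963) (iv F131171)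
def n45162 : Q := act 0 n30961
theorem D45162 : act 0 n30961 = n45162 := rfl
theorem F188351 : act 1 n45162 = n45162 := d0_2 D30961 D45162 (iv D45162) (iv D30961) F91540
theorem F188352 : act 4 n45162 = n31918 := d3_2 (iv F131172) D45162 (iv D31918)
theorem F188353 : act 6 n45162 = n30964 := d5_2 (iv F131173) D45162 (iv D30964)
theorem F188354 : act 8 n45162 = n45162 := d7_2 F131174 D45162 (iv D45162)
def n45163 : Q := act 9 n30961
theorem D45163 : act 9 n30961 = n45163 := rfl
theorem F188355 : act 1 n45163 = n30962 := d16_1 D45163 (iv D30962) D30961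
theorem F188356 : act 4 n45163 = n31919 := d34_1 D45163 (iv D31919) (iv F131172)
theorem F188357 : act 6 n45163 = n30965 := d41_1 D45163 (iv D30965) (iv F131173)
def n45164 : Q := act 8 n30962
theorem D45164 : act 8 n30962 = n45164 := rfl
theorem F188358 : act 0 n45164 = n45164 := d7_1 D45164 (iv D45164) F131175
theorem F188359 : act 2 n45164 = n30963 := d22_1 D45164 (iv D30963) (iv F131176)
theorem F188360 : act 4 n45164 = n31920 := d33_1 D45164 (iv D31920) (iv F131177)
theorem F188361 : act 6 n45164 = n30966 := d40_1 D45164 (iv D30966) (iv F131178)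
theorem F188362 : act 9 n45164 = n45164 := d44_2 D30962 D45164 (iv D45164) (iv D30962) F91543
def n45165 : Q := act 9 n30964
theorem D45165 : act 9 n30964 = n45165 := rfl
theorem F188363 : act 0 n45165 = n30965 := d8_1 D45165 (iv D30965) D30964
theorem F188364 : act 1 n45165 = n45165 := d16_1 D45165 (iv D45165) F131183
theorem F188365 : act 4 n45165 = n31921 := d34_1 D45165 (iv D31921) (iv F131184)
theorem F188366 : act 7 n45165 = n31167 := d43_1 D45165 (iv D31167) (iv F131185)
def n45166 : Q := act 8 n30965
theorem D45166 : act 8 n30965 = n45166 := rfl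
theorem F188367 : act 1 n45166 = n30966 := d15_1 D45166 (iv D30966) (iv F131187)
theorem F188368 : act 4 n45166 = n31922 := d33_1 D45166 (iv D31922) (iv F131188)
theorem F188369 : act 7 n45166 = n31168 := d42_1 D45166 (iv D31168) (iv F131189)
theorem F188370 : act 9 n45166 = n45166 := d44_2 D30965 D45166 (iv D45166) (iv D30965) F91550
def n45167 : Q := act 3 n30966
theorem D45167 : act 3 n30966 = n45167 := rfl
theorem F188372 : act 7 n45167 = n31169 := d27_2 (iv F131193) D45167 (iv D31169)
def n45170 : Q := act 8 n30967
theorem D45170 : act 8 n30967 = n45170 := rfl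
theorem F188382 : act 1 n45170 = n30978 := d15_1 D45170 (iv D30978) (iv F131195)
def n45171 : Q := act 5 n30968
theorem D45171 : act 5 n30968 = n45171 := rfl
theorem F188384 : act 1 n45171 = n30979 := d12_1 D45171 (iv D30979) (iv F131198)
theorem F188385 : act 2 n45171 = n45171 := d19_1 D45171 (iv D45171) F131199
theorem F188386 : act 4 n45171 = n31173 := d30_1 D45171 (iv D31173) F92024 (iv F91565) (iv F131200)
theorem F188387 : act 9 n45171 = n31051 := d38_2 (iv F131201) D45171 (iv D31051)
def n45172 : Q := act 7 n30968
theorem D45172 : act 7 n30968 = n45172 := rfl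
theorem F188388 : act 1 n45172 = n30980 := d14_1 D45172 (iv D30980) (iv F131198)
theorem F188390 : act 4 n45172 = n30970 := d32_1 D45172 (iv D30970) (iv F131200)
theorem F188391 : act 9 n45172 = n31052 := d43_2 (iv F131201) D45172 (iv D31052)
def n45173 : Q := act 8 n30968
theorem D45173 : act 8 n30968 = n45173 := rfl
theorem F188392 : act 1 n45173 = n30981 := d15_1 D45173 (iv D30981) (iv F131198)
theorem F188394 : act 4 n45173 = n30971 := d33_1 D45173 (iv D30971) (iv F131200)
def n45174 : Q := act 3 n30969
theorem D45174 : act 3 n30969 = n45174 := rfl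
theorem F188396 : act 1 n45174 = n30982 := d10_1 D45174 (iv D30982) (iv F131202)
def n45175 : Q := act 9 n30969
theorem D45175 : act 9 n30969 = n45175 := rfl
theorem F188397 : act 1 n45175 = n30983 := d16_1 D45175 (iv D30983) (iv F131202)
theorem F188399 : act 4 n45175 = n30973 := d34_1 D45175 (iv D30973) (iv F131204)
def n45176 : Q := act 8 n30970
theorem D45176 : act 8 n30970 = n45176 := rfl
theorem F188401 : act 1 n45176 = n30984 := d15_1 D45176 (iv D30984) (iv F131205)
def n45177 : Q := act 3 n30971
theorem D45177 : act 3 n30971 = n45177 := rfl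
theorem F188408 : act 8 n45177 = n34146 := d28_2 D30971 D45177 (iv D34146) (iv D23421) (iv F91564)
def n45178 : Q := act 9 n30971
theorem D45178 : act 9 n30971 = n45178 := rfl
theorem F188409 : act 1 n45178 = n30986 := d16_1 D45178 (iv D30986) (iv F131210)
def n45181 : Q := act 9 n30972
theorem D45181 : act 9 n30972 = n45181 := rfl
theorem F188421 : act 3 n45181 = n30973 := d29_1 D45181 (iv D30973) D30972
def n45187 : Q := act 5 n30977
theorem D45187 : act 5 n30977 = n45187 := rfl
theorem F188440 : act 0 n45187 = n31000 := d4_1 D45187 (iv D31000) (iv F131231)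
theorem F188441 : act 2 n45187 = n45187 := d19_1 D45187 (iv D45187) F131232
theorem F188442 : act 3 n45187 = n30979 := d25_1 D45187 (iv D30979) (iv F131233)
theorem F188443 : act 9 n45187 = n31067 := d38_2 (iv F131235) D45187 (iv D31067)
def n45188 : Q := act 7 n30977
theorem D45188 : act 7 n30977 = n45188 := rfl
theorem F188446 : act 3 n45188 = n30980 := d27_1 D45188 (iv D30980) (iv F131233)
def n45189 : Q := act 8 n30977
theorem D45189 : act 8 n30977 = n45189 := rfl
theorem F188449 : act 0 n45189 = n31002 := d7_1 D45189 (iv D31002) (iv F131231)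
theorem F188450 : act 2 n45189 = n45189 := d22_1 D45189 (iv D45189) F131232
theorem F188452 : act 6 n45189 = n30978 := d40_1 D45189 (iv D30978) D30977
def n45190 : Q := act 3 n30978
theorem D45190 : act 3 n30978 = n45190 := rfl
theorem F188453 : act 0 n45190 = n31003 := d2_1 D45190 (iv D31003) (iv F131236)
theorem F188454 : act 8 n45190 = n30982 := d28_2 D30978 D45190 (iv D30982) (iv D21264) D21262
def n45191 : Q := act 9 n30978
theorem D45191 : act 9 n30978 = n45191 := rfl
theorem F188455 : act 0 n45191 = n31004 := d8_1 D45191 (iv D31004) (iv F131236)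
theorem F188456 : act 2 n45191 = n45191 := d23_1 D45191 (iv D45191) F131237
theorem F188457 : act 4 n45191 = n34160 := d34_1 D45191 (iv D34160) (iv F131238)
theorem F188458 : act 8 n45191 = n31071 := d44_1 D45191 (iv D31071) (iv D21323) (iv F91580) D30978
def n45192 : Q := act 7 n30979
theorem D45192 : act 7 n30979 = n45192 := rfl
theorem F188459 : act 0 n45192 = n31005 := d6_1 D45192 (iv D31005) (iv F131239)
theorem F188460 : act 2 n45192 = n30992 := d21_1 D45192 (iv D30992) (iv F131240)
theorem F188461 : act 4 n45192 = n31194 := d32_1 D45192 (iv D31194) (iv F131241)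
theorem F188462 : act 5 n45192 = n30980 := d36_1 D45192 (iv D30980) D30979
theorem F188463 : act 9 n45192 = n31072 := d43_2 (iv F131242) D45192 (iv D31072)
def n45193 : Q := act 8 n30979
theorem D45193 : act 8 n30979 = n45193 := rfl
theorem F188464 : act 0 n45193 = n31006 := d7_1 D45193 (iv D31006) (iv F131239)
theorem F188465 : act 2 n45193 = n30993 := d22_1 D45193 (iv D30993) (iv F131240)
theorem F188466 : act 4 n45193 = n31195 := d33_1 D45193 (iv D31195) (iv F131241)
theorem F188467 : act 5 n45193 = n30981 := d37_1 D45193 (iv D30981) D30979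
def n45194 : Q := act 8 n30980
theorem D45194 : act 8 n30980 = n45194 := rfl
theorem F188468 : act 0 n45194 = n31007 := d7_1 D45194 (iv D31007) (iv F131243)
theorem F188469 : act 2 n45194 = n30994 := d22_1 D45194 (iv D30994) (iv F131244)
theorem F188470 : act 4 n45194 = n30984 := d33_1 D45194 (iv D30984) (iv F131245)
theorem F188471 : act 7 n45194 = n30981 := d42_1 D45194 (iv D30981) D30980
def n45195 : Q := act 3 n30981
theorem D45195 : act 3 n30981 = n45195 := rfl
theorem F188472 : act 0 n45195 = n31008 := d2_1 D45195 (iv D31008) (iv F131247)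
theorem F188473 : act 6 n45195 = n30982 := d26_2 (iv F131250) D45195 (iv D30982)
def n45196 : Q := act 9 n30981
theorem D45196 : act 9 n30981 = n45196 := rfl
theorem F188474 : act 0 n45196 = n31009 := d8_1 D45196 (iv D31009) (iv F131247)
theorem F188475 : act 2 n45196 = n30996 := d23_1 D45196 (iv D30996) (iv F131248)
theorem F188476 : act 4 n45196 = n30986 := d34_1 D45196 (iv D30986) (iv F131249)
theorem F188477 : act 6 n45196 = n30983 := d41_1 D45196 (iv D30983) (iv F131250)
theorem F188478 : act 8 n45196 = n31076 := d44_1 D45196 (iv D31076) (iv D21326) (iv F91584) D30981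
def n45197 : Q := act 2 n30982
theorem D45197 : act 2 n30982 = n45197 := rfl
theorem F188479 : act 0 n45197 = n31010 := d1_1 D45197 (iv D31010) (iv F131251)
theorem F188480 : act 3 n45197 = n30997 := d17_2 D30982 D45197 (iv D30997) (iv D21274) (iv F91586)
def n45198 : Q := act 4 n30982
theorem D45198 : act 4 n30982 = n45198 := rfl
theorem F188482 : act 3 n45198 = n30987 := d24_1 D45198 (iv D30987) (iv D21267) (iv F91587) D30982
def n45199 : Q := act 9 n30982
theorem D45199 : act 9 n30982 = n45199 := rfl
theorem F188483 : act 0 n45199 = n31012 := d8_1 D45199 (iv D31012) (iv F131251)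
theorem F188484 : act 3 n45199 = n30983 := d29_1 D45199 (iv D30983) D30982
def n45201 : Q := act 9 n30984
theorem D45201 : act 9 n30984 = n45201 := rfl
theorem F188490 : act 0 n45201 = n31014 := d8_1 D45201 (iv D31014) (iv F131256)
theorem F188491 : act 2 n45201 = n30999 := d23_1 D45201 (iv D30999) (iv F131257)
theorem F188492 : act 5 n45201 = n31203 := d38_1 D45201 (iv D31203) (iv F131258)
theorem F188493 : act 7 n45201 = n30986 := d43_1 D45201 (iv D30986) (iv F131259)
theorem F188494 : act 8 n45201 = n31081 := d44_1 D45201 (iv D31081) (iv D21329) (iv F91592) D30984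
def n45203 : Q := act 9 n30985
theorem D45203 : act 9 n30985 = n45203 := rfl
theorem F188501 : act 3 n45203 = n30986 := d29_1 D45203 (iv D30986) D30985
def n45210 : Q := act 6 n30992
theorem D45210 : act 6 n30992 = n45210 := rfl
theorem F188528 : act 0 n45210 = n31023 := d5_1 D45210 (iv D31023) (iv F131289)
theorem F188529 : act 1 n45210 = n45210 := d13_1 D45210 (iv D45210) F131290
theorem F188530 : act 3 n45210 = n45210 := d26_1 D45210 (iv D45210) F131291
theorem F188531 : act 4 n45210 = n31212 := d31_1 D45210 (iv D31212) (iv F131292)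
theorem F188532 : act 9 n45210 = n31090 := d41_2 (iv F131294) D45210 (iv D31090)
def n45211 : Q := act 8 n30992
theorem D45211 : act 8 n30992 = n45211 := rfl
theorem F188533 : act 0 n45211 = n31024 := d7_1 D45211 (iv D31024) (iv F131289)
theorem F188534 : act 1 n45211 = n45211 := d15_1 D45211 (iv D45211) F131290
theorem F188535 : act 4 n45211 = n31213 := d33_1 D45211 (iv D31213) (iv F131292)
theorem F188536 : act 5 n45211 = n30994 := d37_1 D45211 (iv D30994) (iv F131293)
theorem F188537 : act 7 n45211 = n30993 := d42_1 D45211 (iv D30993) D30992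
def n45212 : Q := act 3 n30993
theorem D45212 : act 3 n30993 = n45212 := rfl
theorem F188538 : act 0 n45212 = n31025 := d2_1 D45212 (iv D31025) (iv F131295)
theorem F188539 : act 1 n45212 = n45212 := d10_1 D45212 (iv D45212) F131296
theorem F188540 : act 5 n45212 = n30995 := d25_2 (iv F131298) D45212 (iv D30995)
theorem F188541 : act 8 n45212 = n45212 := d28_2 D30993 D45212 (iv D45212) (iv D30993) F91615
def n45213 : Q := act 9 n30993
theorem D45213 : act 9 n30993 = n45213 := rfl
theorem F188542 : act 0 n45213 = n31026 := d8_1 D45213 (iv D31026) (iv F131295)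
theorem F188543 : act 1 n45213 = n45213 := d16_1 D45213 (iv D45213) F131296
theorem F188544 : act 4 n45213 = n31215 := d34_1 D45213 (iv D31215) (iv F131297)
theorem F188545 : act 5 n45213 = n30996 := d38_1 D45213 (iv D30996) (iv F131298)
theorem F188546 : act 8 n45213 = n31093 := d44_1 D45213 (iv D31093) (iv D21338) (iv F91617) D30993
def n45214 : Q := act 3 n30994
theorem D45214 : act 3 n30994 = n45214 := rfl
theorem F188547 : act 0 n45214 = n31027 := d2_1 D45214 (iv D31027) (iv F131299)
theorem F188550 : act 7 n45214 = n30995 := d27_2 (iv F131302) D45214 (iv D30995)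
def n45215 : Q := act 9 n30994
theorem D45215 : act 9 n30994 = n45215 := rfl
theorem F188552 : act 0 n45215 = n31028 := d8_1 D45215 (iv D31028) (iv F131299)
theorem F188553 : act 1 n45215 = n45215 := d16_1 D45215 (iv D45215) F131300
theorem F188554 : act 4 n45215 = n30999 := d34_1 D45215 (iv D30999) (iv F131301)
theorem F188555 : act 7 n45215 = n30996 := d43_1 D45215 (iv D30996) (iv F131302)
theorem F188556 : act 8 n45215 = n31095 := d44_1 D45215 (iv D31095) (iv D21339) (iv F91622) D30994
def n45216 : Q := act 2 n30995
theorem D45216 : act 2 n30995 = n45216 := rfl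
theorem F188557 : act 0 n45216 = n31029 := d1_1 D45216 (iv D31029) (iv F131303)
theorem F188558 : act 4 n45216 = n45216 := d18_2 F131305 D45216 (iv D45216)
theorem F188559 : act 6 n45216 = n30997 := d20_2 (iv F131306) D45216 (iv D30997)
theorem F188560 : act 8 n45216 = n45216 := d22_2 F131307 D45216 (iv D45216)
def n45217 : Q := act 9 n30995
theorem D45217 : act 9 n30995 = n45217 := rfl
theorem F188561 : act 0 n45217 = n31030 := d8_1 D45217 (iv D31030) (iv F131303)
theorem F188562 : act 1 n45217 = n45217 := d16_1 D45217 (iv D45217) F131304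
theorem F188563 : act 3 n45217 = n30996 := d29_1 D45217 (iv D30996) D30995
theorem F188564 : act 4 n45217 = n45217 := d34_1 D45217 (iv D45217) F131305
theorem F188565 : act 6 n45217 = n30998 := d41_1 D45217 (iv D30998) (iv F131306)
def n45218 : Q := act 1 n30997
theorem D45218 : act 1 n30997 = n45218 := rfl
theorem F188566 : act 2 n45218 = n45218 := d9_2 D30997 D45218 (iv D45218) (iv D30997) F91628
theorem F188567 : act 4 n45218 = n45218 := d11_2 F131314 D45218 (iv D45218)
theorem F188568 : act 8 n45218 = n45218 := d15_2 F131315 D45218 (iv D45218)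
def n45219 : Q := act 9 n30997
theorem D45219 : act 9 n30997 = n45219 := rfl
theorem F188569 : act 0 n45219 = n31032 := d8_1 D45219 (iv D31032) (iv F131313)
theorem F188570 : act 2 n45219 = n30998 := d23_1 D45219 (iv D30998) D30997
theorem F188571 : act 4 n45219 = n45219 := d34_1 D45219 (iv D45219) F131314
def n45220 : Q := act 8 n30998
theorem D45220 : act 8 n30998 = n45220 := rfl
theorem F188572 : act 0 n45220 = n31033 := d7_1 D45220 (iv D31033) (iv F131316)
theorem F188573 : act 1 n45220 = n45220 := d15_1 D45220 (iv D45220) F131317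
theorem F188574 : act 3 n45220 = n31100 := d28_1 D45220 (iv D31100) F91869 (iv F91634) (iv F131318)
theorem F188575 : act 4 n45220 = n45220 := d33_1 D45220 (iv D45220) F131319
theorem F188576 : act 9 n45220 = n45220 := d44_2 D30998 D45220 (iv D45220) (iv D30998) F91630
def n45221 : Q := act 4 n31000
theorem D45221 : act 4 n31000 = n45221 := rfl
theorem F188578 : act 3 n45221 = n31223 := d24_1 D45221 (iv D31223) F92158 (iv F91653) (iv F131327)
theorem F188579 : act 5 n45221 = n34190 := d30_2 D31000 D45221 (iv D34190) (iv D23450) (iv F91648)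
theorem F188580 : act 9 n45221 = n31101 := d34_2 (iv F131328) D45221 (iv D31101)
def n45222 : Q := act 7 n31000
theorem D45222 : act 7 n31000 = n45222 := rfl
theorem F188582 : act 3 n45222 = n31005 := d27_1 D45222 (iv D31005) (iv F131327)
theorem F188583 : act 5 n45222 = n31001 := d36_1 D45222 (iv D31001) D31000
theorem F188584 : act 9 n45222 = n31102 := d43_2 (iv F131328) D45222 (iv D31102)
def n45223 : Q := act 8 n31000
theorem D45223 : act 8 n31000 = n45223 := rfl
theorem F188585 : act 2 n45223 = n45223 := d22_1 D45223 (iv D45223) F131326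
theorem F188586 : act 5 n45223 = n31002 := d37_1 D45223 (iv D31002) D31000
def n45224 : Q := act 8 n31001
theorem D45224 : act 8 n31001 = n45224 := rfl
theorem F188589 : act 7 n45224 = n31002 := d42_1 D45224 (iv D31002) D31001
def n45225 : Q := act 3 n31002
theorem D45225 : act 3 n31002 = n45225 := rfl
theorem F188590 : act 6 n45225 = n31003 := d26_2 (iv F131335) D45225 (iv D31003)
theorem F188591 : act 8 n45225 = n31008 := d28_2 D31002 D45225 (iv D31008) (iv D21282) (iv F91647)
def n45226 : Q := act 9 n31002
theorem D45226 : act 9 n31002 = n45226 := rfl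
theorem F188592 : act 2 n45226 = n45226 := d23_1 D45226 (iv D45226) F131333
theorem F188593 : act 4 n45226 = n34195 := d34_1 D45226 (iv D34195) (iv F131334)
theorem F188594 : act 6 n45226 = n31004 := d41_1 D45226 (iv D31004) (iv F131335)
theorem F188595 : act 8 n45226 = n31106 := d44_1 D45226 (iv D31106) (iv D21347) (iv F91649) D31002
def n45227 : Q := act 2 n31003
theorem D45227 : act 2 n31003 = n45227 := rfl
theorem F188596 : act 3 n45227 = n45227 := d17_2 D31003 D45227 (iv D45227) (iv D31003) F91650
theorem F188597 : act 8 n45227 = n31010 := d22_2 (iv F131336) D45227 (iv D31010)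
def n45228 : Q := act 4 n31003
theorem D45228 : act 4 n31003 = n45228 := rfl
theorem F188598 : act 3 n45228 = n34197 := d24_1 D45228 (iv D34197) (iv D23453) (iv F91651) D31003
theorem F188599 : act 8 n45228 = n31011 := d33_2 (iv F131336) D45228 (iv D31011)
def n45229 : Q := act 9 n31003
theorem D45229 : act 9 n31003 = n45229 := rfl
theorem F188600 : act 3 n45229 = n31004 := d29_1 D45229 (iv D31004) D31003
def n45230 : Q := act 6 n31005
theorem D45230 : act 6 n31005 = n45230 := rfl
theorem F188601 : act 2 n45230 = n31023 := d20_1 D45230 (iv D31023) (iv F131340)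
theorem F188602 : act 4 n45230 = n31232 := d31_1 D45230 (iv D31232) (iv F131341)
theorem F188603 : act 9 n45230 = n31110 := d41_2 (iv F131343) D45230 (iv D31110)
def n45231 : Q := act 8 n31005
theorem D45231 : act 8 n31005 = n45231 := rfl
theorem F188604 : act 2 n45231 = n31024 := d22_1 D45231 (iv D31024) (iv F131340)
theorem F188605 : act 4 n45231 = n31233 := d33_1 D45231 (iv D31233) (iv F131341)
theorem F188606 : act 5 n45231 = n31007 := d37_1 D45231 (iv D31007) (iv F131342)
theorem F188607 : act 7 n45231 = n31006 := d42_1 D45231 (iv D31006) D31005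
def n45232 : Q := act 3 n31006
theorem D45232 : act 3 n31006 = n45232 := rfl
theorem F188608 : act 5 n45232 = n31008 := d25_2 (iv F131346) D45232 (iv D31008)
def n45233 : Q := act 9 n31006
theorem D45233 : act 9 n31006 = n45233 := rfl
theorem F188609 : act 2 n45233 = n31026 := d23_1 D45233 (iv D31026) (iv F131344)
theorem F188610 : act 4 n45233 = n31235 := d34_1 D45233 (iv D31235) (iv F131345)
theorem F188611 : act 5 n45233 = n31009 := d38_1 D45233 (iv D31009) (iv F131346)
theorem F188612 : act 8 n45233 = n31113 := d44_1 D45233 (iv D31113) (iv D21351) (iv F91654) D31006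
def n45234 : Q := act 3 n31007
theorem D45234 : act 3 n31007 = n45234 := rfl
theorem F188613 : act 7 n45234 = n31008 := d27_2 (iv F131349) D45234 (iv D31008)
def n45235 : Q := act 9 n31007
theorem D45235 : act 9 n31007 = n45235 := rfl
theorem F188614 : act 2 n45235 = n31028 := d23_1 D45235 (iv D31028) (iv F131347)
theorem F188615 : act 4 n45235 = n31014 := d34_1 D45235 (iv D31014) (iv F131348)
theorem F188616 : act 7 n45235 = n31009 := d43_1 D45235 (iv D31009) (iv F131349)
theorem F188617 : act 8 n45235 = n31115 := d44_1 D45235 (iv D31115) (iv D21352) (iv F91657) D31007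
def n45236 : Q := act 2 n31008
theorem D45236 : act 2 n31008 = n45236 := rfl
theorem F188618 : act 3 n45236 = n31029 := d17_2 D31008 D45236 (iv D31029) (iv D21296) (iv F91658)
theorem F188619 : act 6 n45236 = n31010 := d20_2 (iv F131350) D45236 (iv D31010)
def n45237 : Q := act 4 n31008
theorem D45237 : act 4 n31008 = n45237 := rfl
theorem F188620 : act 3 n45237 = n31015 := d24_1 D45237 (iv D31015) (iv D21286) (iv F91659) D31008
theorem F188621 : act 6 n45237 = n31011 := d31_2 (iv F131350) D45237 (iv D31011)
def n45238 : Q := act 9 n31008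
theorem D45238 : act 9 n31008 = n45238 := rfl
theorem F188622 : act 3 n45238 = n31009 := d29_1 D45238 (iv D31009) D31008
theorem F188623 : act 6 n45238 = n31012 := d41_1 D45238 (iv D31012) (iv F131350)
def n45239 : Q := act 1 n31010
theorem D45239 : act 1 n31010 = n45239 := rfl
theorem F188624 : act 3 n45239 = n31031 := d10_2 (iv F131355) D45239 (iv D31031)
def n45240 : Q := act 4 n31010
theorem D45240 : act 4 n31010 = n45240 := rfl
theorem F188625 : act 2 n45240 = n31011 := d18_1 D45240 (iv D31011) D31010
theorem F188626 : act 3 n45240 = n45240 := d24_1 D45240 (iv D45240) F131355 F91708 (iv F131355)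
def n45241 : Q := act 9 n31010
theorem D45241 : act 9 n31010 = n45241 := rfl
theorem F188627 : act 2 n45241 = n31012 := d23_1 D45241 (iv D31012) D31010
theorem F188628 : act 3 n45241 = n31032 := d29_1 D45241 (iv D31032) (iv F131355)
def n45242 : Q := act 5 n31011
theorem D45242 : act 5 n31011 = n45242 := rfl
theorem F188629 : act 3 n45242 = n31017 := d25_1 D45242 (iv D31017) (iv F131356)
def n45243 : Q := act 9 n31011
theorem D45243 : act 9 n31011 = n45243 := rfl
theorem F188630 : act 3 n45243 = n31018 := d29_1 D45243 (iv D31018) (iv F131356)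
theorem F188631 : act 4 n45243 = n31012 := d34_1 D45243 (iv D31012) D31011
def n45244 : Q := act 8 n31012
theorem D45244 : act 8 n31012 = n45244 := rfl
theorem F188632 : act 3 n45244 = n31124 := d28_1 D45244 (iv D31124) F91902 (iv F91663) (iv F131357)
def n45245 : Q := act 4 n31013
theorem D45245 : act 4 n31013 = n45245 := rfl
theorem F188634 : act 7 n45245 = n31015 := d32_2 (iv F131360) D45245 (iv D31015)
def n45246 : Q := act 9 n31013
theorem D45246 : act 9 n31013 = n45246 := rfl
theorem F188636 : act 2 n45246 = n45246 := d23_1 D45246 (iv D45246) F131358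
theorem F188637 : act 3 n45246 = n31014 := d29_1 D45246 (iv D31014) D31013
theorem F188638 : act 5 n45246 = n31248 := d38_1 D45246 (iv D31248) (iv F131359)
theorem F188639 : act 7 n45246 = n31016 := d43_1 D45246 (iv D31016) (iv F131360)
def n45247 : Q := act 5 n31015
theorem D45247 : act 5 n31015 = n45247 := rfl
theorem F188640 : act 2 n45247 = n45247 := d19_1 D45247 (iv D45247) F131366
theorem F188641 : act 4 n45247 = n31249 := d30_1 D45247 (iv D31249) (iv D21441) (iv F91668) D31015
theorem F188642 : act 8 n45247 = n34216 := d37_2 (iv F131368) D45247 (iv D34216)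
def n45248 : Q := act 9 n31015
theorem D45248 : act 9 n31015 = n45248 := rfl
theorem F188643 : act 2 n45248 = n45248 := d23_1 D45248 (iv D45248) F131366
theorem F188644 : act 4 n45248 = n31016 := d34_1 D45248 (iv D31016) D31015
theorem F188645 : act 6 n45248 = n31018 := d41_1 D45248 (iv D31018) (iv F131367)
def n45249 : Q := act 8 n31016
theorem D45249 : act 8 n31016 = n45249 := rfl
theorem F188650 : act 9 n45249 = n34218 := d44_2 D31016 D45249 (iv D34218) (iv D23466) (iv F91670)
def n45251 : Q := act 9 n31017
theorem D45251 : act 9 n31017 = n45251 := rfl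
theorem F188656 : act 5 n45251 = n31018 := d38_1 D45251 (iv D31018) D31017
def n45252 : Q := act 8 n31018
theorem D45252 : act 8 n31018 = n45252 := rfl
theorem F188659 : act 9 n45252 = n34221 := d44_2 D31018 D45252 (iv D34221) (iv D23468) (iv F91676)
def n45256 : Q := act 3 n31022
theorem D45256 : act 3 n31022 = n45256 := rfl
theorem F188671 : act 9 n45256 = n34225 := d29_2 (iv F131390) D45256 (iv D34225)
def n45257 : Q := act 8 n31023
theorem D45257 : act 8 n31023 = n45257 := rfl
theorem F188672 : act 1 n45257 = n31034 := d15_1 D45257 (iv D31034) (iv F131391)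
theorem F188673 : act 4 n45257 = n31259 := d33_1 D45257 (iv D31259) (iv F131393)
theorem F188674 : act 6 n45257 = n31024 := d40_1 D45257 (iv D31024) D31023
def n45258 : Q := act 3 n31024
theorem D45258 : act 3 n31024 = n45258 := rfl
theorem F188675 : act 1 n45258 = n31035 := d10_1 D45258 (iv D31035) (iv F131395)
theorem F188677 : act 7 n45258 = n31025 := d27_2 (iv F131398) D45258 (iv D31025)
def n45259 : Q := act 9 n31024
theorem D45259 : act 9 n31024 = n45259 := rfl
theorem F188679 : act 1 n45259 = n31036 := d16_1 D45259 (iv D31036) (iv F131395)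
theorem F188680 : act 4 n45259 = n31261 := d34_1 D45259 (iv D31261) (iv F131396)
theorem F188681 : act 5 n45259 = n31028 := d38_1 D45259 (iv D31028) (iv F131397)
theorem F188682 : act 7 n45259 = n31026 := d43_1 D45259 (iv D31026) (iv F131398)
theorem F188683 : act 8 n45259 = n31139 := d44_1 D45259 (iv D31139) (iv D21369) (iv F91693) D31024
def n45260 : Q := act 2 n31025
theorem D45260 : act 2 n31025 = n45260 := rfl
theorem F188684 : act 5 n45260 = n31029 := d19_2 (iv F131400) D45260 (iv D31029)
theorem F188685 : act 8 n45260 = n45260 := d22_2 F131401 D45260 (iv D45260)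
def n45261 : Q := act 4 n31025
theorem D45261 : act 4 n31025 = n45261 := rfl
theorem F188686 : act 1 n45261 = n31038 := d11_1 D45261 (iv D31038) (iv F131399)
theorem F188687 : act 3 n45261 = n31263 := d24_1 D45261 (iv D31263) (iv D21451) (iv F91695) D31025
theorem F188688 : act 5 n45261 = n45261 := d30_2 (iv F131400) D45261 (iv D45261) F131400 F91701
theorem F188689 : act 8 n45261 = n45261 := d33_2 F131401 D45261 (iv D45261)
def n45262 : Q := act 9 n31025
theorem D45262 : act 9 n31025 = n45262 := rfl
theorem F188690 : act 1 n45262 = n31039 := d16_1 D45262 (iv D31039) (iv F131399)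
theorem F188691 : act 3 n45262 = n31026 := d29_1 D45262 (iv D31026) D31025
theorem F188692 : act 5 n45262 = n31030 := d38_1 D45262 (iv D31030) (iv F131400)
def n45263 : Q := act 2 n31027
theorem D45263 : act 2 n31027 = n45263 := rfl
theorem F188694 : act 7 n45263 = n31029 := d21_2 (iv F131408) D45263 (iv D31029)
def n45264 : Q := act 9 n31027
theorem D45264 : act 9 n31027 = n45264 := rfl
theorem F188697 : act 3 n45264 = n31028 := d29_1 D45264 (iv D31028) D31027
theorem F188699 : act 7 n45264 = n31030 := d43_1 D45264 (iv D31030) (iv F131408)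
def n45265 : Q := act 1 n31029
theorem D45265 : act 1 n31029 = n45265 := rfl
theorem F188700 : act 2 n45265 = n31042 := d9_2 D31029 D45265 (iv D31042) (iv D21307) (iv F91700)
theorem F188702 : act 6 n45265 = n31031 := d13_2 (iv F131415) D45265 (iv D31031)
def n45266 : Q := act 9 n31029
theorem D45266 : act 9 n31029 = n45266 := rfl
theorem F188704 : act 2 n45266 = n31030 := d23_1 D45266 (iv D31030) D31029
theorem F188705 : act 4 n45266 = n45266 := d34_1 D45266 (iv D45266) F131414
theorem F188706 : act 6 n45266 = n31032 := d41_1 D45266 (iv D31032) (iv F131415)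
def n45267 : Q := act 8 n31030
theorem D45267 : act 8 n31030 = n45267 := rfl
theorem F188707 : act 1 n45267 = n31044 := d15_1 D45267 (iv D31044) (iv F131417)
theorem F188708 : act 3 n45267 = n31147 := d28_1 D45267 (iv D31147) F91958 (iv F91707) (iv F131418)
theorem F188709 : act 4 n45267 = n45267 := d33_1 D45267 (iv D45267) F131419
theorem F188710 : act 6 n45267 = n31033 := d40_1 D45267 (iv D31033) (iv F131420)
theorem F188711 : act 9 n45267 = n45267 := d44_2 D31030 D45267 (iv D45267) (iv D31030) F91703
def n45268 : Q := act 0 n31031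
theorem D45268 : act 0 n31031 = n45268 := rfl
theorem F188712 : act 2 n45268 = n31045 := d1_2 (iv F131421) D45268 (iv D31045)
theorem F188713 : act 4 n45268 = n45268 := d3_2 F131422 D45268 (iv D45268)
theorem F188714 : act 8 n45268 = n45268 := d7_2 F131423 D45268 (iv D45268)
def n45269 : Q := act 9 n31031
theorem D45269 : act 9 n31031 = n45269 := rfl
theorem F188715 : act 1 n45269 = n31032 := d16_1 D45269 (iv D31032) D31031
theorem F188716 : act 2 n45269 = n31046 := d23_1 D45269 (iv D31046) (iv F131421)
theorem F188717 : act 4 n45269 = n45269 := d34_1 D45269 (iv D45269) F131422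
def n45270 : Q := act 8 n31032
theorem D45270 : act 8 n31032 = n45270 := rfl
theorem F188718 : act 2 n45270 = n31033 := d22_1 D45270 (iv D31033) (iv F131424)
theorem F188719 : act 4 n45270 = n45270 := d33_1 D45270 (iv D45270) F131425
theorem F188720 : act 9 n45270 = n45270 := d44_2 D31032 D45270 (iv D45270) (iv D31032) F91709
def n45272 : Q := act 9 n31034
theorem D45272 : act 9 n31034 = n45272 := rfl
theorem F188725 : act 4 n45272 = n31274 := d34_1 D45272 (iv D31274) (iv F131431)
theorem F188726 : act 6 n45272 = n31036 := d41_1 D45272 (iv D31036) (iv F131432)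
theorem F188727 : act 8 n45272 = n31152 := d44_1 D45272 (iv D31152) (iv D21379) (iv F91721) D31034
def n45274 : Q := act 4 n31035
theorem D45274 : act 4 n31035 = n45274 := rfl
theorem F188733 : act 3 n45274 = n31276 := d24_1 D45274 (iv D31276) (iv D21461) (iv F91723) D31035
theorem F188735 : act 7 n45274 = n31038 := d32_2 (iv F131435) D45274 (iv D31038)
def n45275 : Q := act 9 n31035
theorem D45275 : act 9 n31035 = n45275 := rfl
theorem F188738 : act 3 n45275 = n31036 := d29_1 D45275 (iv D31036) D31035
theorem F188740 : act 7 n45275 = n31039 := d43_1 D45275 (iv D31039) (iv F131435)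
def n45277 : Q := act 4 n31037
theorem D45277 : act 4 n31037 = n45277 := rfl
theorem F188744 : act 2 n45277 = n31038 := d18_1 D45277 (iv D31038) D31037
def n45278 : Q := act 9 n31037
theorem D45278 : act 9 n31037 = n45278 := rfl
theorem F188748 : act 2 n45278 = n31039 := d23_1 D45278 (iv D31039) D31037
def n45279 : Q := act 9 n31038
theorem D45279 : act 9 n31038 = n45279 := rfl
theorem F188750 : act 0 n45279 = n45279 := d8_1 D45279 (iv D45279) F131445
theorem F188751 : act 3 n45279 = n31281 := d29_1 D45279 (iv D31281) (iv F131446)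
theorem F188752 : act 4 n45279 = n31039 := d34_1 D45279 (iv D31039) D31038
theorem F188753 : act 5 n45279 = n45279 := d38_1 D45279 (iv D45279) F131447
def n45280 : Q := act 8 n31039
theorem D45280 : act 8 n31039 = n45280 := rfl
theorem F188754 : act 0 n45280 = n45280 := d7_1 D45280 (iv D45280) F131449
theorem F188755 : act 3 n45280 = n31160 := d28_1 D45280 (iv D31160) F91988 (iv F91732) (iv F131450)
theorem F188756 : act 5 n45280 = n31044 := d37_1 D45280 (iv D31044) (iv F131451)
theorem F188757 : act 9 n45280 = n45280 := d44_2 D31039 D45280 (iv D45280) (iv D31039) F91728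
def n45283 : Q := act 8 n31041
theorem D45283 : act 8 n31041 = n45283 := rfl
theorem F188766 : act 3 n45283 = n31163 := d28_1 D45283 (iv D31163) F91995 (iv F91740) (iv F131457)
theorem F188768 : act 7 n45283 = n31044 := d42_1 D45283 (iv D31044) (iv F131459)
def n45284 : Q := act 0 n31042
theorem D45284 : act 0 n31042 = n45284 := rfl
theorem F188772 : act 6 n45284 = n31045 := d5_2 (iv F131461) D45284 (iv D31045)
def n45285 : Q := act 9 n31042
theorem D45285 : act 9 n31042 = n45285 := rfl
theorem F188776 : act 6 n45285 = n31046 := d41_1 D45285 (iv D31046) (iv F131461)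
def n45286 : Q := act 8 n31043
theorem D45286 : act 8 n31043 = n45286 := rfl
theorem F188778 : act 2 n45286 = n31044 := d22_1 D45286 (iv D31044) (iv F131464)
theorem F188780 : act 6 n45286 = n31047 := d40_1 D45286 (iv D31047) (iv F131466)
def n45287 : Q := act 9 n31045
theorem D45287 : act 9 n31045 = n45287 := rfl
theorem F188782 : act 0 n45287 = n31046 := d8_1 D45287 (iv D31046) D31045
theorem F188783 : act 1 n45287 = n45287 := d16_1 D45287 (iv D45287) F131472
theorem F188784 : act 4 n45287 = n45287 := d34_1 D45287 (iv D45287) F131473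
def n45288 : Q := act 8 n31046
theorem D45288 : act 8 n31046 = n45288 := rfl
theorem F188785 : act 1 n45288 = n31047 := d15_1 D45288 (iv D31047) (iv F131475)
theorem F188786 : act 4 n45288 = n45288 := d33_1 D45288 (iv D45288) F131476
theorem F188787 : act 9 n45288 = n45288 := d44_2 D31046 D45288 (iv D45288) (iv D31046) F91750
def n45289 : Q := act 3 n31047
theorem D45289 : act 3 n31047 = n45289 := rfl
theorem F188788 : act 0 n45289 = n45289 := d2_1 D45289 (iv D45289) F131477
theorem F188789 : act 2 n45289 = n31169 := d17_1 D45289 (iv D31169) F92015 (iv F91755) (iv F131478)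
theorem F188790 : act 9 n45289 = n45289 := d29_2 F131480 D45289 (iv D45289)
def n45291 : Q := act 8 n31048
theorem D45291 : act 8 n31048 = n45291 := rfl
theorem F188796 : act 2 n45291 = n31050 := d22_1 D45291 (iv D31050) D31048
def n45292 : Q := act 5 n31049
theorem D45292 : act 5 n31049 = n45292 := rfl
theorem F188798 : act 1 n45292 = n31067 := d12_1 D45292 (iv D31067) (iv F131484)
theorem F188799 : act 3 n45292 = n31051 := d25_1 D45292 (iv D31051) (iv F131485)
def n45294 : Q := act 8 n31049
theorem D45294 : act 8 n31049 = n45294 := rfl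
theorem F188803 : act 1 n45294 = n31069 := d15_1 D45294 (iv D31069) (iv F131484)
theorem F188805 : act 6 n45294 = n31050 := d40_1 D45294 (iv D31050) D31049
def n45295 : Q := act 3 n31050
theorem D45295 : act 3 n31050 = n45295 := rfl
theorem F188806 : act 1 n45295 = n31070 := d10_1 D45295 (iv D31070) (iv F131487)
def n45296 : Q := act 9 n31050
theorem D45296 : act 9 n31050 = n45296 := rfl
theorem F188808 : act 1 n45296 = n31071 := d16_1 D45296 (iv D31071) (iv F131487)
theorem F188809 : act 4 n45296 = n34265 := d34_1 D45296 (iv D34265) (iv F131488)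
def n45297 : Q := act 7 n31051
theorem D45297 : act 7 n31051 = n45297 := rfl
theorem F188810 : act 1 n45297 = n31072 := d14_1 D45297 (iv D31072) (iv F131489)
theorem F188812 : act 4 n45297 = n31299 := d32_1 D45297 (iv D31299) (iv F131491)
theorem F188813 : act 5 n45297 = n31052 := d36_1 D45297 (iv D31052) D31051
def n45298 : Q := act 8 n31051
theorem D45298 : act 8 n31051 = n45298 := rfl
theorem F188814 : act 1 n45298 = n31073 := d15_1 D45298 (iv D31073) (iv F131489)
def n45299 : Q := act 8 n31052
theorem D45299 : act 8 n31052 = n45299 := rfl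
theorem F188818 : act 1 n45299 = n31074 := d15_1 D45299 (iv D31074) (iv F131492)
theorem F188820 : act 4 n45299 = n31056 := d33_1 D45299 (iv D31056) (iv F131494)
def n45300 : Q := act 3 n31053
theorem D45300 : act 3 n31053 = n45300 := rfl
theorem F188822 : act 1 n45300 = n31075 := d10_1 D45300 (iv D31075) (iv F131495)
def n45301 : Q := act 9 n31053
theorem D45301 : act 9 n31053 = n45301 := rfl
theorem F188824 : act 1 n45301 = n31076 := d16_1 D45301 (iv D31076) (iv F131495)
def n45304 : Q := act 9 n31054
theorem D45304 : act 9 n31054 = n45304 := rfl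
theorem F188831 : act 1 n45304 = n31079 := d16_1 D45304 (iv D31079) (iv F131499)
def n45305 : Q := act 3 n31056
theorem D45305 : act 3 n31056 = n45305 := rfl
theorem F188836 : act 8 n45305 = n34274 := d28_2 D31056 D45305 (iv D34274) (iv D23506) (iv F91768)
def n45306 : Q := act 9 n31056
theorem D45306 : act 9 n31056 = n45306 := rfl
theorem F188837 : act 1 n45306 = n31081 := d16_1 D45306 (iv D31081) (iv F131503)
def n45322 : Q := act 4 n31067
theorem D45322 : act 4 n31067 = n45322 := rfl
theorem F188891 : act 0 n45322 = n31101 := d3_1 D45322 (iv D31101) (iv F131540)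
theorem F188892 : act 2 n45322 = n45322 := d18_1 D45322 (iv D45322) F131541
theorem F188893 : act 3 n45322 = n31324 := d24_1 D45322 (iv D31324) F92392 (iv F91799) (iv F131542)
theorem F188894 : act 5 n45322 = n34291 := d30_2 D31067 D45322 (iv D34291) (iv D23517) (iv F91793)
def n45323 : Q := act 7 n31067
theorem D45323 : act 7 n31067 = n45323 := rfl
theorem F188895 : act 0 n45323 = n31102 := d6_1 D45323 (iv D31102) (iv F131540)
theorem F188897 : act 3 n45323 = n31072 := d27_1 D45323 (iv D31072) (iv F131542)
theorem F188898 : act 5 n45323 = n31068 := d36_1 D45323 (iv D31068) D31067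
def n45324 : Q := act 8 n31067
theorem D45324 : act 8 n31067 = n45324 := rfl
theorem F188899 : act 0 n45324 = n31103 := d7_1 D45324 (iv D31103) (iv F131540)
theorem F188900 : act 2 n45324 = n45324 := d22_1 D45324 (iv D45324) F131541
theorem F188901 : act 5 n45324 = n31069 := d37_1 D45324 (iv D31069) D31067
def n45325 : Q := act 8 n31068
theorem D45325 : act 8 n31068 = n45325 := rfl
theorem F188905 : act 7 n45325 = n31069 := d42_1 D45325 (iv D31069) D31068
def n45326 : Q := act 3 n31069
theorem D45326 : act 3 n31069 = n45326 := rfl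
theorem F188906 : act 0 n45326 = n31105 := d2_1 D45326 (iv D31105) (iv F131547)
theorem F188907 : act 6 n45326 = n31070 := d26_2 (iv F131550) D45326 (iv D31070)
theorem F188908 : act 8 n45326 = n31075 := d28_2 D31069 D45326 (iv D31075) (iv D21326) (iv F91792)
def n45327 : Q := act 9 n31069
theorem D45327 : act 9 n31069 = n45327 := rfl
theorem F188909 : act 0 n45327 = n31106 := d8_1 D45327 (iv D31106) (iv F131547)
theorem F188910 : act 2 n45327 = n45327 := d23_1 D45327 (iv D45327) F131548
theorem F188911 : act 4 n45327 = n34296 := d34_1 D45327 (iv D34296) (iv F131549)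
theorem F188912 : act 6 n45327 = n31071 := d41_1 D45327 (iv D31071) (iv F131550)
def n45328 : Q := act 2 n31070
theorem D45328 : act 2 n31070 = n45328 := rfl
theorem F188913 : act 0 n45328 = n31107 := d1_1 D45328 (iv D31107) (iv F131551)
theorem F188914 : act 3 n45328 = n45328 := d17_2 D31070 D45328 (iv D45328) (iv D31070) F91795
theorem F188915 : act 8 n45328 = n31077 := d22_2 (iv F131552) D45328 (iv D31077)
def n45329 : Q := act 4 n31070
theorem D45329 : act 4 n31070 = n45329 := rfl
theorem F188916 : act 0 n45329 = n31108 := d3_1 D45329 (iv D31108) (iv F131551)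
theorem F188917 : act 3 n45329 = n34298 := d24_1 D45329 (iv D34298) (iv D23520) (iv F91796) D31070
def n45330 : Q := act 9 n31070
theorem D45330 : act 9 n31070 = n45330 := rfl
theorem F188919 : act 0 n45330 = n31109 := d8_1 D45330 (iv D31109) (iv F131551)
theorem F188920 : act 3 n45330 = n31071 := d29_1 D45330 (iv D31071) D31070
def n45331 : Q := act 6 n31072
theorem D45331 : act 6 n31072 = n45331 := rfl
theorem F188921 : act 0 n45331 = n31110 := d5_1 D45331 (iv D31110) (iv F131556)
theorem F188922 : act 2 n45331 = n31090 := d20_1 D45331 (iv D31090) (iv F131557)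
theorem F188923 : act 4 n45331 = n31333 := d31_1 D45331 (iv D31333) (iv F131558)
def n45332 : Q := act 8 n31072
theorem D45332 : act 8 n31072 = n45332 := rfl
theorem F188924 : act 0 n45332 = n31111 := d7_1 D45332 (iv D31111) (iv F131556)
theorem F188925 : act 2 n45332 = n31091 := d22_1 D45332 (iv D31091) (iv F131557)
theorem F188926 : act 4 n45332 = n31334 := d33_1 D45332 (iv D31334) (iv F131558)
theorem F188927 : act 5 n45332 = n31074 := d37_1 D45332 (iv D31074) (iv F131559)
theorem F188928 : act 7 n45332 = n31073 := d42_1 D45332 (iv D31073) D31072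
def n45333 : Q := act 3 n31073
theorem D45333 : act 3 n31073 = n45333 := rfl
theorem F188929 : act 0 n45333 = n31112 := d2_1 D45333 (iv D31112) (iv F131560)
theorem F188930 : act 5 n45333 = n31075 := d25_2 (iv F131563) D45333 (iv D31075)
def n45334 : Q := act 9 n31073
theorem D45334 : act 9 n31073 = n45334 := rfl
theorem F188931 : act 0 n45334 = n31113 := d8_1 D45334 (iv D31113) (iv F131560)
theorem F188932 : act 2 n45334 = n31093 := d23_1 D45334 (iv D31093) (iv F131561)
theorem F188933 : act 4 n45334 = n31336 := d34_1 D45334 (iv D31336) (iv F131562)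
theorem F188934 : act 5 n45334 = n31076 := d38_1 D45334 (iv D31076) (iv F131563)
def n45335 : Q := act 3 n31074
theorem D45335 : act 3 n31074 = n45335 := rfl
theorem F188935 : act 0 n45335 = n31114 := d2_1 D45335 (iv D31114) (iv F131564)
theorem F188936 : act 7 n45335 = n31075 := d27_2 (iv F131567) D45335 (iv D31075)
def n45336 : Q := act 9 n31074
theorem D45336 : act 9 n31074 = n45336 := rfl
theorem F188937 : act 0 n45336 = n31115 := d8_1 D45336 (iv D31115) (iv F131564)
theorem F188938 : act 2 n45336 = n31095 := d23_1 D45336 (iv D31095) (iv F131565)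
theorem F188939 : act 4 n45336 = n31081 := d34_1 D45336 (iv D31081) (iv F131566)
theorem F188940 : act 7 n45336 = n31076 := d43_1 D45336 (iv D31076) (iv F131567)
def n45337 : Q := act 2 n31075
theorem D45337 : act 2 n31075 = n45337 := rfl
theorem F188941 : act 0 n45337 = n31116 := d1_1 D45337 (iv D31116) (iv F131568)
theorem F188942 : act 3 n45337 = n31096 := d17_2 D31075 D45337 (iv D31096) (iv D21340) (iv F91804)
theorem F188943 : act 6 n45337 = n31077 := d20_2 (iv F131569) D45337 (iv D31077)
def n45338 : Q := act 4 n31075
theorem D45338 : act 4 n31075 = n45338 := rfl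
theorem F188944 : act 0 n45338 = n31117 := d3_1 D45338 (iv D31117) (iv F131568)
theorem F188945 : act 3 n45338 = n31082 := d24_1 D45338 (iv D31082) (iv D21330) (iv F91805) D31075
def n45339 : Q := act 9 n31075
theorem D45339 : act 9 n31075 = n45339 := rfl
theorem F188947 : act 0 n45339 = n31118 := d8_1 D45339 (iv D31118) (iv F131568)
theorem F188948 : act 3 n45339 = n31076 := d29_1 D45339 (iv D31076) D31075
theorem F188949 : act 6 n45339 = n31079 := d41_1 D45339 (iv D31079) (iv F131569)
def n45340 : Q := act 1 n31077
theorem D45340 : act 1 n31077 = n45340 := rfl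
theorem F188950 : act 3 n45340 = n31098 := d10_2 (iv F131575) D45340 (iv D31098)
def n45341 : Q := act 4 n31077
theorem D45341 : act 4 n31077 = n45341 := rfl
theorem F188951 : act 0 n45341 = n31120 := d3_1 D45341 (iv D31120) (iv F131574)
theorem F188952 : act 2 n45341 = n31078 := d18_1 D45341 (iv D31078) D31077
def n45342 : Q := act 9 n31077
theorem D45342 : act 9 n31077 = n45342 := rfl
theorem F188954 : act 0 n45342 = n31121 := d8_1 D45342 (iv D31121) (iv F131574)
theorem F188955 : act 2 n45342 = n31079 := d23_1 D45342 (iv D31079) D31077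
theorem F188956 : act 3 n45342 = n31099 := d29_1 D45342 (iv D31099) (iv F131575)
def n45343 : Q := act 5 n31078
theorem D45343 : act 5 n31078 = n45343 := rfl
theorem F188957 : act 0 n45343 = n31122 := d4_1 D45343 (iv D31122) (iv F131576)
theorem F188958 : act 3 n45343 = n31084 := d25_1 D45343 (iv D31084) (iv F131577)
def n45344 : Q := act 9 n31078
theorem D45344 : act 9 n31078 = n45344 := rfl
theorem F188959 : act 0 n45344 = n31123 := d8_1 D45344 (iv D31123) (iv F131576)
theorem F188961 : act 4 n45344 = n31079 := d34_1 D45344 (iv D31079) D31078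
def n45345 : Q := act 8 n31079
theorem D45345 : act 8 n31079 = n45345 := rfl
theorem F188962 : act 0 n45345 = n31124 := d7_1 D45345 (iv D31124) (iv F131578)
def n45346 : Q := act 4 n31080
theorem D45346 : act 4 n31080 = n45346 := rfl
theorem F188965 : act 7 n45346 = n31082 := d32_2 (iv F131583) D45346 (iv D31082)
def n45347 : Q := act 9 n31080
theorem D45347 : act 9 n31080 = n45347 := rfl
theorem F188967 : act 0 n45347 = n31126 := d8_1 D45347 (iv D31126) (iv F131580)
theorem F188969 : act 3 n45347 = n31081 := d29_1 D45347 (iv D31081) D31080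
def n45348 : Q := act 5 n31082
theorem D45348 : act 5 n31082 = n45348 := rfl
theorem F188972 : act 0 n45348 = n31127 := d4_1 D45348 (iv D31127) (iv F131589)
theorem F188974 : act 4 n45348 = n31350 := d30_1 D45348 (iv D31350) (iv D21508) (iv F91817) D31082
def n45349 : Q := act 9 n31082
theorem D45349 : act 9 n31082 = n45349 := rfl
theorem F188976 : act 0 n45349 = n31128 := d8_1 D45349 (iv D31128) (iv F131589)
def n45351 : Q := act 6 n31084
theorem D45351 : act 6 n31084 = n45351 := rfl
theorem F188985 : act 0 n45351 = n31130 := d5_1 D45351 (iv D31130) (iv F131598)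
theorem F188988 : act 8 n45351 = n34320 := d40_2 (iv F131601) D45351 (iv D34320)
def n45352 : Q := act 9 n31084
theorem D45352 : act 9 n31084 = n45352 := rfl
theorem F188989 : act 0 n45352 = n31131 := d8_1 D45352 (iv D31131) (iv F131598)
def n45354 : Q := act 7 n31087
theorem D45354 : act 7 n31087 = n45354 := rfl
theorem F188997 : act 0 n45354 = n31133 := d6_1 D45354 (iv D31133) (iv F131609)
theorem F189000 : act 8 n45354 = n34323 := d42_2 (iv F131612) D45354 (iv D34323)
def n45355 : Q := act 9 n31087
theorem D45355 : act 9 n31087 = n45355 := rfl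
theorem F189001 : act 0 n45355 = n31134 := d8_1 D45355 (iv D31134) (iv F131609)
theorem F189004 : act 6 n45355 = n31088 := d41_1 D45355 (iv D31088) D31087
def n45356 : Q := act 8 n31088
theorem D45356 : act 8 n31088 = n45356 := rfl
theorem F189008 : act 9 n45356 = n34325 := d44_2 D31088 D45356 (iv D34325) (iv D23538) (iv F91833)
def n45358 : Q := act 8 n31090
theorem D45358 : act 8 n31090 = n45358 := rfl
theorem F189012 : act 0 n45358 = n31137 := d7_1 D45358 (iv D31137) (iv F131621)
theorem F189013 : act 1 n45358 = n45358 := d15_1 D45358 (iv D45358) F131622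
theorem F189014 : act 4 n45358 = n31360 := d33_1 D45358 (iv D31360) (iv F131624)
theorem F189015 : act 6 n45358 = n31091 := d40_1 D45358 (iv D31091) D31090
def n45359 : Q := act 3 n31091
theorem D45359 : act 3 n31091 = n45359 := rfl
theorem F189016 : act 0 n45359 = n31138 := d2_1 D45359 (iv D31138) (iv F131625)
theorem F189017 : act 1 n45359 = n45359 := d10_1 D45359 (iv D45359) F131626
theorem F189018 : act 5 n45359 = n31094 := d25_2 (iv F131628) D45359 (iv D31094)
theorem F189019 : act 7 n45359 = n31092 := d27_2 (iv F131629) D45359 (iv D31092)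
theorem F189020 : act 8 n45359 = n45359 := d28_2 D31091 D45359 (iv D45359) (iv D31091) F91844
def n45360 : Q := act 9 n31091
theorem D45360 : act 9 n31091 = n45360 := rfl
theorem F189021 : act 0 n45360 = n31139 := d8_1 D45360 (iv D31139) (iv F131625)
theorem F189022 : act 1 n45360 = n45360 := d16_1 D45360 (iv D45360) F131626
theorem F189023 : act 4 n45360 = n31362 := d34_1 D45360 (iv D31362) (iv F131627)
theorem F189024 : act 5 n45360 = n31095 := d38_1 D45360 (iv D31095) (iv F131628)
theorem F189025 : act 7 n45360 = n31093 := d43_1 D45360 (iv D31093) (iv F131629)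
def n45361 : Q := act 2 n31092
theorem D45361 : act 2 n31092 = n45361 := rfl
theorem F189026 : act 0 n45361 = n31140 := d1_1 D45361 (iv D31140) (iv F131630)
theorem F189027 : act 5 n45361 = n31096 := d19_2 (iv F131632) D45361 (iv D31096)
theorem F189028 : act 8 n45361 = n45361 := d22_2 F131633 D45361 (iv D45361)
def n45362 : Q := act 4 n31092
theorem D45362 : act 4 n31092 = n45362 := rfl
theorem F189029 : act 0 n45362 = n31141 := d3_1 D45362 (iv D31141) (iv F131630)
theorem F189030 : act 1 n45362 = n45362 := d11_1 D45362 (iv D45362) F131631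
theorem F189031 : act 3 n45362 = n31364 := d24_1 D45362 (iv D31364) (iv D21518) (iv F91849) D31092
theorem F189032 : act 5 n45362 = n31995 := d30_2 (iv F131632) D45362 (iv D31995) F94230 (iv F91857)
theorem F189033 : act 8 n45362 = n45362 := d33_2 F131633 D45362 (iv D45362)
def n45363 : Q := act 9 n31092
theorem D45363 : act 9 n31092 = n45363 := rfl
theorem F189034 : act 0 n45363 = n31142 := d8_1 D45363 (iv D31142) (iv F131630)
theorem F189035 : act 1 n45363 = n45363 := d16_1 D45363 (iv D45363) F131631
theorem F189036 : act 3 n45363 = n31093 := d29_1 D45363 (iv D31093) D31092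
theorem F189037 : act 5 n45363 = n31097 := d38_1 D45363 (iv D31097) (iv F131632)
def n45364 : Q := act 2 n31094
theorem D45364 : act 2 n31094 = n45364 := rfl
theorem F189038 : act 0 n45364 = n31143 := d1_1 D45364 (iv D31143) (iv F131638)
theorem F189039 : act 4 n45364 = n31997 := d18_2 (iv F131640) D45364 (iv D31997)
theorem F189040 : act 7 n45364 = n31096 := d21_2 (iv F131641) D45364 (iv D31096)
def n45365 : Q := act 9 n31094
theorem D45365 : act 9 n31094 = n45365 := rfl
theorem F189042 : act 0 n45365 = n31144 := d8_1 D45365 (iv D31144) (iv F131638)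
theorem F189043 : act 1 n45365 = n45365 := d16_1 D45365 (iv D45365) F131639
theorem F189044 : act 3 n45365 = n31095 := d29_1 D45365 (iv D31095) D31094
theorem F189045 : act 4 n45365 = n31998 := d34_1 D45365 (iv D31998) (iv F131640)
theorem F189046 : act 7 n45365 = n31097 := d43_1 D45365 (iv D31097) (iv F131641)
def n45366 : Q := act 1 n31096
theorem D45366 : act 1 n31096 = n45366 := rfl
theorem F189048 : act 4 n45366 = n31999 := d11_2 (iv F131648) D45366 (iv D31999)
theorem F189049 : act 6 n45366 = n31098 := d13_2 (iv F131649) D45366 (iv D31098)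
def n45367 : Q := act 9 n31096
theorem D45367 : act 9 n31096 = n45367 := rfl
theorem F189051 : act 0 n45367 = n31146 := d8_1 D45367 (iv D31146) (iv F131647)
theorem F189052 : act 2 n45367 = n31097 := d23_1 D45367 (iv D31097) D31096
theorem F189053 : act 4 n45367 = n32000 := d34_1 D45367 (iv D32000) (iv F131648)
theorem F189054 : act 6 n45367 = n31099 := d41_1 D45367 (iv D31099) (iv F131649)
def n45368 : Q := act 8 n31097
theorem D45368 : act 8 n31097 = n45368 := rfl
theorem F189055 : act 0 n45368 = n31147 := d7_1 D45368 (iv D31147) (iv F131651)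
theorem F189056 : act 1 n45368 = n45368 := d15_1 D45368 (iv D45368) F131652
theorem F189057 : act 4 n45368 = n32001 := d33_1 D45368 (iv D32001) (iv F131654)
theorem F189058 : act 6 n45368 = n31100 := d40_1 D45368 (iv D31100) (iv F131655)
theorem F189059 : act 9 n45368 = n45368 := d44_2 D31097 D45368 (iv D45368) (iv D31097) F91859
def n45369 : Q := act 0 n31098
theorem D45369 : act 0 n31098 = n45369 := rfl
theorem F189060 : act 1 n45369 = n31148 := d0_2 D31098 D45369 (iv D31148) (iv D21376) (iv F91864)
theorem F189061 : act 2 n45369 = n45369 := d1_2 F131656 D45369 (iv D45369)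
theorem F189062 : act 4 n45369 = n32002 := d3_2 (iv F131657) D45369 (iv D32002)
theorem F189063 : act 8 n45369 = n45369 := d7_2 F131658 D45369 (iv D45369)
def n45370 : Q := act 9 n31098
theorem D45370 : act 9 n31098 = n45370 := rfl
theorem F189064 : act 1 n45370 = n31099 := d16_1 D45370 (iv D31099) D31098
theorem F189065 : act 2 n45370 = n45370 := d23_1 D45370 (iv D45370) F131656
theorem F189066 : act 4 n45370 = n32003 := d34_1 D45370 (iv D32003) (iv F131657)
def n45371 : Q := act 8 n31099
theorem D45371 : act 8 n31099 = n45371 := rfl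
theorem F189067 : act 0 n45371 = n31150 := d7_1 D45371 (iv D31150) (iv F131659)
theorem F189068 : act 2 n45371 = n31100 := d22_1 D45371 (iv D31100) (iv F131660)
theorem F189069 : act 4 n45371 = n32004 := d33_1 D45371 (iv D32004) (iv F131661)
theorem F189070 : act 9 n45371 = n45371 := d44_2 D31099 D45371 (iv D45371) (iv D31099) F91866
def n45372 : Q := act 7 n31101
theorem D45372 : act 7 n31101 = n45372 := rfl
theorem F189073 : act 4 n45372 = n31102 := d32_1 D45372 (iv D31102) D31101
theorem F189074 : act 5 n45372 = n34340 := d36_1 D45372 (iv D34340) (iv F131668)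
def n45373 : Q := act 8 n31101
theorem D45373 : act 8 n31101 = n45373 := rfl
theorem F189076 : act 4 n45373 = n31103 := d33_1 D45373 (iv D31103) D31101
def n45374 : Q := act 6 n31102
theorem D45374 : act 6 n31102 = n45374 := rfl
theorem F189078 : act 2 n45374 = n45374 := d20_1 D45374 (iv D45374) F131669
theorem F189079 : act 3 n45374 = n31110 := d26_1 D45374 (iv D31110) (iv F131670)
def n45375 : Q := act 8 n31102
theorem D45375 : act 8 n31102 = n45375 := rfl
theorem F189081 : act 5 n45375 = n31104 := d37_1 D45375 (iv D31104) (iv F131671)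
theorem F189082 : act 7 n45375 = n31103 := d42_1 D45375 (iv D31103) D31102
def n45376 : Q := act 3 n31103
theorem D45376 : act 3 n31103 = n45376 := rfl
theorem F189083 : act 5 n45376 = n31105 := d25_2 (iv F131673) D45376 (iv D31105)
theorem F189084 : act 8 n45376 = n31112 := d28_2 D31103 D45376 (iv D31112) (iv D21351) (iv F91877)
def n45377 : Q := act 9 n31103
theorem D45377 : act 9 n31103 = n45377 := rfl
theorem F189085 : act 2 n45377 = n45377 := d23_1 D45377 (iv D45377) F131672
theorem F189086 : act 5 n45377 = n31106 := d38_1 D45377 (iv D31106) (iv F131673)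
def n45378 : Q := act 3 n31104
theorem D45378 : act 3 n31104 = n45378 := rfl
theorem F189087 : act 7 n45378 = n31105 := d27_2 (iv F131676) D45378 (iv D31105)
theorem F189088 : act 8 n45378 = n31114 := d28_2 D31104 D45378 (iv D31114) (iv D21352) (iv F91879)
def n45379 : Q := act 9 n31104
theorem D45379 : act 9 n31104 = n45379 := rfl
theorem F189091 : act 7 n45379 = n31106 := d43_1 D45379 (iv D31106) (iv F131676)
def n45380 : Q := act 2 n31105
theorem D45380 : act 2 n31105 = n45380 := rfl
theorem F189092 : act 3 n45380 = n45380 := d17_2 D31105 D45380 (iv D45380) (iv D31105) F91881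
theorem F189093 : act 6 n45380 = n31107 := d20_2 (iv F131677) D45380 (iv D31107)
theorem F189094 : act 8 n45380 = n31116 := d22_2 (iv F131678) D45380 (iv D31116)
def n45381 : Q := act 4 n31105
theorem D45381 : act 4 n31105 = n45381 := rfl
theorem F189095 : act 3 n45381 = n34349 := d24_1 D45381 (iv D34349) (iv D23555) (iv F91882) D31105
theorem F189096 : act 6 n45381 = n31108 := d31_2 (iv F131677) D45381 (iv D31108)
theorem F189097 : act 8 n45381 = n31117 := d33_2 (iv F131678) D45381 (iv D31117)
def n45382 : Q := act 9 n31105
theorem D45382 : act 9 n31105 = n45382 := rfl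
theorem F189098 : act 3 n45382 = n31106 := d29_1 D45382 (iv D31106) D31105
theorem F189099 : act 6 n45382 = n31109 := d41_1 D45382 (iv D31109) (iv F131677)
def n45383 : Q := act 1 n31107
theorem D45383 : act 1 n31107 = n45383 := rfl
theorem F189100 : act 3 n45383 = n45383 := d10_2 F131682 D45383 (iv D45383)
theorem F189101 : act 8 n45383 = n31119 := d15_2 (iv F131683) D45383 (iv D31119)
def n45384 : Q := act 4 n31107
theorem D45384 : act 4 n31107 = n45384 := rfl
theorem F189102 : act 2 n45384 = n31108 := d18_1 D45384 (iv D31108) D31107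
theorem F189103 : act 8 n45384 = n31120 := d33_2 (iv F131683) D45384 (iv D31120)
def n45385 : Q := act 9 n31107
theorem D45385 : act 9 n31107 = n45385 := rfl
theorem F189104 : act 2 n45385 = n31109 := d23_1 D45385 (iv D31109) D31107
theorem F189105 : act 3 n45385 = n45385 := d29_1 D45385 (iv D45385) F131682
def n45386 : Q := act 5 n31108
theorem D45386 : act 5 n31108 = n45386 := rfl
theorem F189106 : act 3 n45386 = n34354 := d25_1 D45386 (iv D34354) (iv F131684)
theorem F189107 : act 8 n45386 = n31122 := d37_2 (iv F131685) D45386 (iv D31122)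
def n45387 : Q := act 9 n31108
theorem D45387 : act 9 n31108 = n45387 := rfl
theorem F189108 : act 3 n45387 = n34355 := d29_1 D45387 (iv D34355) (iv F131684)
theorem F189109 : act 4 n45387 = n31109 := d34_1 D45387 (iv D31109) D31108
def n45388 : Q := act 8 n31109
theorem D45388 : act 8 n31109 = n45388 := rfl
theorem F189110 : act 9 n45388 = n31124 := d44_2 D31109 D45388 (iv D31124) (iv D21357) (iv F91884)
def n45389 : Q := act 8 n31110
theorem D45389 : act 8 n31110 = n45389 := rfl
theorem F189111 : act 2 n45389 = n31137 := d22_1 D45389 (iv D31137) (iv F131687)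
theorem F189112 : act 4 n45389 = n31391 := d33_1 D45389 (iv D31391) (iv F131688)
theorem F189113 : act 6 n45389 = n31111 := d40_1 D45389 (iv D31111) D31110
def n45390 : Q := act 3 n31111
theorem D45390 : act 3 n31111 = n45390 := rfl
theorem F189114 : act 5 n45390 = n31114 := d25_2 (iv F131691) D45390 (iv D31114)
theorem F189115 : act 7 n45390 = n31112 := d27_2 (iv F131692) D45390 (iv D31112)
def n45391 : Q := act 9 n31111
theorem D45391 : act 9 n31111 = n45391 := rfl
theorem F189116 : act 2 n45391 = n31139 := d23_1 D45391 (iv D31139) (iv F131689)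
theorem F189117 : act 4 n45391 = n31393 := d34_1 D45391 (iv D31393) (iv F131690)
theorem F189118 : act 5 n45391 = n31115 := d38_1 D45391 (iv D31115) (iv F131691)
theorem F189119 : act 7 n45391 = n31113 := d43_1 D45391 (iv D31113) (iv F131692)
def n45392 : Q := act 2 n31112
theorem D45392 : act 2 n31112 = n45392 := rfl
theorem F189120 : act 3 n45392 = n31140 := d17_2 D31112 D45392 (iv D31140) (iv D21370) (iv F91890)
theorem F189121 : act 5 n45392 = n31116 := d19_2 (iv F131693) D45392 (iv D31116)
def n45393 : Q := act 4 n31112
theorem D45393 : act 4 n31112 = n45393 := rfl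
theorem F189122 : act 3 n45393 = n31395 := d24_1 D45393 (iv D31395) (iv D21538) (iv F91891) D31112
def n45394 : Q := act 9 n31112
theorem D45394 : act 9 n31112 = n45394 := rfl
theorem F189123 : act 3 n45394 = n31113 := d29_1 D45394 (iv D31113) D31112
theorem F189124 : act 5 n45394 = n31118 := d38_1 D45394 (iv D31118) (iv F131693)
def n45395 : Q := act 2 n31114
theorem D45395 : act 2 n31114 = n45395 := rfl
theorem F189125 : act 3 n45395 = n31143 := d17_2 D31114 D45395 (iv D31143) (iv D21372) (iv F91893)
theorem F189126 : act 7 n45395 = n31116 := d21_2 (iv F131697) D45395 (iv D31116)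
def n45396 : Q := act 4 n31114
theorem D45396 : act 4 n31114 = n45396 := rfl
theorem F189127 : act 3 n45396 = n31125 := d24_1 D45396 (iv D31125) (iv D21358) (iv F91894) D31114
theorem F189128 : act 7 n45396 = n31117 := d32_2 (iv F131697) D45396 (iv D31117)
def n45397 : Q := act 9 n31114
theorem D45397 : act 9 n31114 = n45397 := rfl
theorem F189129 : act 3 n45397 = n31115 := d29_1 D45397 (iv D31115) D31114
theorem F189130 : act 7 n45397 = n31118 := d43_1 D45397 (iv D31118) (iv F131697)
def n45398 : Q := act 1 n31116
theorem D45398 : act 1 n31116 = n45398 := rfl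
theorem F189131 : act 3 n45398 = n31145 := d10_2 (iv F131701) D45398 (iv D31145)
theorem F189132 : act 6 n45398 = n31119 := d13_2 (iv F131702) D45398 (iv D31119)
def n45399 : Q := act 4 n31116
theorem D45399 : act 4 n31116 = n45399 := rfl
theorem F189133 : act 2 n45399 = n31117 := d18_1 D45399 (iv D31117) D31116
theorem F189134 : act 3 n45399 = n32030 := d24_1 D45399 (iv D32030) F94324 (iv F91954) (iv F131701)
theorem F189135 : act 6 n45399 = n31120 := d31_2 (iv F131702) D45399 (iv D31120)
def n45400 : Q := act 9 n31116
theorem D45400 : act 9 n31116 = n45400 := rfl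
theorem F189136 : act 2 n45400 = n31118 := d23_1 D45400 (iv D31118) D31116
theorem F189137 : act 3 n45400 = n31146 := d29_1 D45400 (iv D31146) (iv F131701)
theorem F189138 : act 6 n45400 = n31121 := d41_1 D45400 (iv D31121) (iv F131702)
def n45401 : Q := act 5 n31117
theorem D45401 : act 5 n31117 = n45401 := rfl
theorem F189139 : act 3 n45401 = n31127 := d25_1 D45401 (iv D31127) (iv F131703)
def n45402 : Q := act 9 n31117
theorem D45402 : act 9 n31117 = n45402 := rfl
theorem F189140 : act 3 n45402 = n31128 := d29_1 D45402 (iv D31128) (iv F131703)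
theorem F189141 : act 4 n45402 = n31118 := d34_1 D45402 (iv D31118) D31117
theorem F189142 : act 6 n45402 = n31123 := d41_1 D45402 (iv D31123) (iv F131704)
def n45403 : Q := act 8 n31118
theorem D45403 : act 8 n31118 = n45403 := rfl
theorem F189143 : act 6 n45403 = n31124 := d40_1 D45403 (iv D31124) (iv F131706)
def n45404 : Q := act 0 n31119
theorem D45404 : act 0 n31119 = n45404 := rfl
theorem F189144 : act 3 n45404 = n31148 := d2_2 (iv F131707) D45404 (iv D31148)
def n45405 : Q := act 4 n31119
theorem D45405 : act 4 n31119 = n45405 := rfl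
theorem F189145 : act 1 n45405 = n31120 := d11_1 D45405 (iv D31120) D31119
theorem F189146 : act 3 n45405 = n32036 := d24_1 D45405 (iv D32036) F94333 (iv F91962) (iv F131707)
def n45406 : Q := act 9 n31119
theorem D45406 : act 9 n31119 = n45406 := rfl
theorem F189147 : act 1 n45406 = n31121 := d16_1 D45406 (iv D31121) D31119
theorem F189148 : act 3 n45406 = n31149 := d29_1 D45406 (iv D31149) (iv F131707)
def n45407 : Q := act 5 n31120
theorem D45407 : act 5 n31120 = n45407 := rfl
theorem F189149 : act 2 n45407 = n31122 := d19_1 D45407 (iv D31122) (iv F131708)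
theorem F189150 : act 3 n45407 = n32038 := d25_1 D45407 (iv D32038) (iv F131709)
def n45408 : Q := act 9 n31120
theorem D45408 : act 9 n31120 = n45408 := rfl
theorem F189151 : act 2 n45408 = n31123 := d23_1 D45408 (iv D31123) (iv F131708)
theorem F189152 : act 3 n45408 = n32039 := d29_1 D45408 (iv D32039) (iv F131709)
theorem F189153 : act 4 n45408 = n31121 := d34_1 D45408 (iv D31121) D31120
def n45409 : Q := act 8 n31121
theorem D45409 : act 8 n31121 = n45409 := rfl
theorem F189154 : act 2 n45409 = n31124 := d22_1 D45409 (iv D31124) (iv F131710)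
def n45410 : Q := act 6 n31122
theorem D45410 : act 6 n31122 = n45410 := rfl
theorem F189155 : act 3 n45410 = n31130 := d26_1 D45410 (iv D31130) (iv F131712)
def n45411 : Q := act 9 n31122
theorem D45411 : act 9 n31122 = n45411 := rfl
theorem F189156 : act 3 n45411 = n31131 := d29_1 D45411 (iv D31131) (iv F131712)
theorem F189157 : act 5 n45411 = n31123 := d38_1 D45411 (iv D31123) D31122
def n45412 : Q := act 8 n31123
theorem D45412 : act 8 n31123 = n45412 := rfl
theorem F189158 : act 4 n45412 = n31124 := d33_1 D45412 (iv D31124) (iv F131714)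
def n45413 : Q := act 5 n31125
theorem D45413 : act 5 n31125 = n45413 := rfl
theorem F189159 : act 2 n45413 = n32044 := d19_1 D45413 (iv D32044) (iv F131715)
theorem F189160 : act 4 n45413 = n31415 := d30_1 D45413 (iv D31415) (iv D21551) (iv F91904) D31125
theorem F189161 : act 7 n45413 = n31127 := d36_2 (iv F131716) D45413 (iv D31127)
theorem F189162 : act 8 n45413 = n34381 := d37_2 (iv F131717) D45413 (iv D34381)
def n45414 : Q := act 9 n31125
theorem D45414 : act 9 n31125 = n45414 := rfl
theorem F189163 : act 2 n45414 = n32045 := d23_1 D45414 (iv D32045) (iv F131715)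
theorem F189164 : act 4 n45414 = n31126 := d34_1 D45414 (iv D31126) D31125
theorem F189165 : act 7 n45414 = n31128 := d43_1 D45414 (iv D31128) (iv F131716)
def n45415 : Q := act 8 n31126
theorem D45415 : act 8 n31126 = n45415 := rfl
theorem F189169 : act 9 n45415 = n34383 := d44_2 D31126 D45415 (iv D34383) (iv D23576) (iv F91906)
def n45416 : Q := act 6 n31127
theorem D45416 : act 6 n31127 = n45416 := rfl
theorem F189170 : act 2 n45416 = n32047 := d20_1 D45416 (iv D32047) (iv F131722)
theorem F189171 : act 4 n45416 = n31418 := d31_1 D45416 (iv D31418) (iv F131723)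
theorem F189172 : act 5 n45416 = n31130 := d35_1 D45416 (iv D31130) (iv D21362) (iv F91911) D31127
theorem F189173 : act 8 n45416 = n34384 := d40_2 (iv F131724) D45416 (iv D34384)
def n45417 : Q := act 9 n31127
theorem D45417 : act 9 n31127 = n45417 := rfl
theorem F189174 : act 2 n45417 = n32048 := d23_1 D45417 (iv D32048) (iv F131722)
theorem F189175 : act 4 n45417 = n31419 := d34_1 D45417 (iv D31419) (iv F131723)
theorem F189176 : act 5 n45417 = n31128 := d38_1 D45417 (iv D31128) D31127
def n45418 : Q := act 8 n31128
theorem D45418 : act 8 n31128 = n45418 := rfl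
theorem F189180 : act 9 n45418 = n34386 := d44_2 D31128 D45418 (iv D34386) (iv D23578) (iv F91912)
def n45419 : Q := act 7 n31130
theorem D45419 : act 7 n31130 = n45419 := rfl
theorem F189181 : act 2 n45419 = n32050 := d21_1 D45419 (iv D32050) (iv F131732)
theorem F189182 : act 4 n45419 = n31133 := d32_1 D45419 (iv D31133) (iv F131733)
theorem F189183 : act 8 n45419 = n34387 := d42_2 (iv F131734) D45419 (iv D34387)
def n45420 : Q := act 9 n31130
theorem D45420 : act 9 n31130 = n45420 := rfl
theorem F189184 : act 2 n45420 = n32051 := d23_1 D45420 (iv D32051) (iv F131732)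
theorem F189185 : act 4 n45420 = n31134 := d34_1 D45420 (iv D31134) (iv F131733)
theorem F189186 : act 6 n45420 = n31131 := d41_1 D45420 (iv D31131) D31130
def n45421 : Q := act 8 n31131
theorem D45421 : act 8 n31131 = n45421 := rfl
theorem F189190 : act 9 n45421 = n34389 := d44_2 D31131 D45421 (iv D34389) (iv D23581) (iv F91919)
def n45423 : Q := act 9 n31133
theorem D45423 : act 9 n31133 = n45423 := rfl
theorem F189192 : act 2 n45423 = n32054 := d23_1 D45423 (iv D32054) (iv F131741)
theorem F189193 : act 5 n45423 = n31425 := d38_1 D45423 (iv D31425) (iv F131742)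
theorem F189194 : act 7 n45423 = n31134 := d43_1 D45423 (iv D31134) D31133
def n45424 : Q := act 8 n31134
theorem D45424 : act 8 n31134 = n45424 := rfl
theorem F189198 : act 9 n45424 = n34392 := d44_2 D31134 D45424 (iv D34392) (iv D23584) (iv F91927)
def n45427 : Q := act 3 n31137
theorem D45427 : act 3 n31137 = n45427 := rfl
theorem F189204 : act 1 n45427 = n31151 := d10_1 D45427 (iv D31151) (iv F131752)
theorem F189205 : act 6 n45427 = n31138 := d26_2 (iv F131754) D45427 (iv D31138)
theorem F189206 : act 8 n45427 = n45427 := d28_2 D31137 D45427 (iv D45427) (iv D31137) F91935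
def n45428 : Q := act 9 n31137
theorem D45428 : act 9 n31137 = n45428 := rfl
theorem F189207 : act 1 n45428 = n31152 := d16_1 D45428 (iv D31152) (iv F131752)
theorem F189208 : act 4 n45428 = n31430 := d34_1 D45428 (iv D31430) (iv F131753)
theorem F189209 : act 6 n45428 = n31139 := d41_1 D45428 (iv D31139) (iv F131754)
def n45429 : Q := act 2 n31138
theorem D45429 : act 2 n31138 = n45429 := rfl
theorem F189210 : act 5 n45429 = n31143 := d19_2 (iv F131756) D45429 (iv D31143)
theorem F189211 : act 7 n45429 = n31140 := d21_2 (iv F131757) D45429 (iv D31140)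
theorem F189212 : act 8 n45429 = n45429 := d22_2 F131758 D45429 (iv D45429)
def n45430 : Q := act 4 n31138
theorem D45430 : act 4 n31138 = n45430 := rfl
theorem F189213 : act 1 n45430 = n31154 := d11_1 D45430 (iv D31154) (iv F131755)
theorem F189214 : act 3 n45430 = n31432 := d24_1 D45430 (iv D31432) (iv D21564) (iv F91938) D31138
theorem F189215 : act 5 n45430 = n32061 := d30_2 (iv F131756) D45430 (iv D32061) F94396 (iv F91948)
theorem F189216 : act 7 n45430 = n31141 := d32_2 (iv F131757) D45430 (iv D31141)
theorem F189217 : act 8 n45430 = n45430 := d33_2 F131758 D45430 (iv D45430)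
def n45431 : Q := act 9 n31138
theorem D45431 : act 9 n31138 = n45431 := rfl
theorem F189218 : act 1 n45431 = n31155 := d16_1 D45431 (iv D31155) (iv F131755)
theorem F189219 : act 3 n45431 = n31139 := d29_1 D45431 (iv D31139) D31138
theorem F189220 : act 5 n45431 = n31144 := d38_1 D45431 (iv D31144) (iv F131756)
theorem F189221 : act 7 n45431 = n31142 := d43_1 D45431 (iv D31142) (iv F131757)
def n45432 : Q := act 1 n31140
theorem D45432 : act 1 n31140 = n45432 := rfl
theorem F189222 : act 2 n45432 = n31156 := d9_2 D31140 D45432 (iv D31156) (iv D21382) (iv F91941)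
theorem F189223 : act 5 n45432 = n31145 := d12_2 (iv F131763) D45432 (iv D31145)
theorem F189224 : act 8 n45432 = n45432 := d15_2 F131764 D45432 (iv D45432)
def n45433 : Q := act 4 n31140
theorem D45433 : act 4 n31140 = n45433 := rfl
theorem F189225 : act 2 n45433 = n31141 := d18_1 D45433 (iv D31141) D31140
theorem F189226 : act 5 n45433 = n32064 := d30_2 (iv F131763) D45433 (iv D32064) F94404 (iv F91954)
theorem F189227 : act 8 n45433 = n45433 := d33_2 F131764 D45433 (iv D45433)
def n45434 : Q := act 9 n31140
theorem D45434 : act 9 n31140 = n45434 := rfl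
theorem F189228 : act 2 n45434 = n31142 := d23_1 D45434 (iv D31142) D31140
theorem F189229 : act 5 n45434 = n31146 := d38_1 D45434 (iv D31146) (iv F131763)
def n45435 : Q := act 9 n31141
theorem D45435 : act 9 n31141 = n45435 := rfl
theorem F189230 : act 1 n45435 = n31159 := d16_1 D45435 (iv D31159) (iv F131765)
theorem F189231 : act 3 n45435 = n31437 := d29_1 D45435 (iv D31437) (iv F131766)
theorem F189232 : act 4 n45435 = n31142 := d34_1 D45435 (iv D31142) D31141
theorem F189233 : act 5 n45435 = n32066 := d38_1 D45435 (iv D32066) (iv F131767)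
def n45436 : Q := act 8 n31142
theorem D45436 : act 8 n31142 = n45436 := rfl
theorem F189234 : act 1 n45436 = n31160 := d15_1 D45436 (iv D31160) (iv F131769)
theorem F189235 : act 5 n45436 = n31147 := d37_1 D45436 (iv D31147) (iv F131771)
theorem F189236 : act 9 n45436 = n45436 := d44_2 D31142 D45436 (iv D45436) (iv D31142) F91943
def n45437 : Q := act 1 n31143
theorem D45437 : act 1 n31143 = n45437 := rfl
theorem F189237 : act 2 n45437 = n31161 := d9_2 D31143 D45437 (iv D31161) (iv D21385) (iv F91947)
theorem F189238 : act 4 n45437 = n32068 := d11_2 (iv F131772) D45437 (iv D32068)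
theorem F189239 : act 7 n45437 = n31145 := d14_2 (iv F131773) D45437 (iv D31145)
theorem F189240 : act 8 n45437 = n45437 := d15_2 F131774 D45437 (iv D45437)
def n45438 : Q := act 9 n31143
theorem D45438 : act 9 n31143 = n45438 := rfl
theorem F189241 : act 2 n45438 = n31144 := d23_1 D45438 (iv D31144) D31143
theorem F189242 : act 4 n45438 = n32069 := d34_1 D45438 (iv D32069) (iv F131772)
theorem F189243 : act 7 n45438 = n31146 := d43_1 D45438 (iv D31146) (iv F131773)
def n45439 : Q := act 8 n31144
theorem D45439 : act 8 n31144 = n45439 := rfl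
theorem F189244 : act 1 n45439 = n31163 := d15_1 D45439 (iv D31163) (iv F131775)
theorem F189245 : act 4 n45439 = n32070 := d33_1 D45439 (iv D32070) (iv F131777)
theorem F189246 : act 7 n45439 = n31147 := d42_1 D45439 (iv D31147) (iv F131778)
theorem F189247 : act 9 n45439 = n45439 := d44_2 D31144 D45439 (iv D45439) (iv D31144) F91950
def n45440 : Q := act 0 n31145
theorem D45440 : act 0 n31145 = n45440 := rfl
theorem F189248 : act 2 n45440 = n31164 := d1_2 (iv F131779) D45440 (iv D31164)
theorem F189249 : act 4 n45440 = n32071 := d3_2 (iv F131780) D45440 (iv D32071)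
theorem F189250 : act 6 n45440 = n31148 := d5_2 (iv F131781) D45440 (iv D31148)
theorem F189251 : act 8 n45440 = n45440 := d7_2 F131782 D45440 (iv D45440)
def n45441 : Q := act 9 n31145
theorem D45441 : act 9 n31145 = n45441 := rfl
theorem F189252 : act 1 n45441 = n31146 := d16_1 D45441 (iv D31146) D31145
theorem F189253 : act 2 n45441 = n31165 := d23_1 D45441 (iv D31165) (iv F131779)
theorem F189254 : act 4 n45441 = n32072 := d34_1 D45441 (iv D32072) (iv F131780)
theorem F189255 : act 6 n45441 = n31149 := d41_1 D45441 (iv D31149) (iv F131781)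
def n45442 : Q := act 8 n31146
theorem D45442 : act 8 n31146 = n45442 := rfl
theorem F189256 : act 2 n45442 = n31147 := d22_1 D45442 (iv D31147) (iv F131783)
theorem F189257 : act 4 n45442 = n32073 := d33_1 D45442 (iv D32073) (iv F131784)
theorem F189258 : act 6 n45442 = n31150 := d40_1 D45442 (iv D31150) (iv F131785)
theorem F189259 : act 9 n45442 = n45442 := d44_2 D31146 D45442 (iv D45442) (iv D31146) F91956
def n45443 : Q := act 9 n31148
theorem D45443 : act 9 n31148 = n45443 := rfl
theorem F189260 : act 0 n45443 = n31149 := d8_1 D45443 (iv D31149) D31148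
theorem F189261 : act 2 n45443 = n31167 := d23_1 D45443 (iv D31167) (iv F131790)
theorem F189262 : act 4 n45443 = n32074 := d34_1 D45443 (iv D32074) (iv F131791)
def n45444 : Q := act 8 n31149
theorem D45444 : act 8 n31149 = n45444 := rfl
theorem F189263 : act 1 n45444 = n31150 := d15_1 D45444 (iv D31150) (iv F131793)
theorem F189264 : act 2 n45444 = n31168 := d22_1 D45444 (iv D31168) (iv F131794)
theorem F189265 : act 4 n45444 = n32075 := d33_1 D45444 (iv D32075) (iv F131795)
theorem F189266 : act 9 n45444 = n45444 := d44_2 D31149 D45444 (iv D45444) (iv D31149) F91963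
def n45445 : Q := act 3 n31150
theorem D45445 : act 3 n31150 = n45445 := rfl
theorem F189267 : act 9 n45445 = n45445 := d29_2 F131798 D45445 (iv D45445)
def n45446 : Q := act 2 n31151
theorem D45446 : act 2 n31151 = n45446 := rfl
theorem F189269 : act 6 n45446 = n31153 := d20_2 (iv F131800) D45446 (iv D31153)
def n45447 : Q := act 4 n31151
theorem D45447 : act 4 n31151 = n45447 := rfl
theorem F189272 : act 3 n45447 = n31449 := d24_1 D45447 (iv D31449) (iv D21577) (iv F91970) D31151
def n45448 : Q := act 9 n31151
theorem D45448 : act 9 n31151 = n45448 := rfl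
theorem F189275 : act 0 n45448 = n45448 := d8_1 D45448 (iv D45448) F131799
theorem F189276 : act 3 n45448 = n31152 := d29_1 D45448 (iv D31152) D31151
theorem F189277 : act 6 n45448 = n31155 := d41_1 D45448 (iv D31155) (iv F131800)
def n45449 : Q := act 1 n31153
theorem D45449 : act 1 n31153 = n45449 := rfl
theorem F189278 : act 5 n45449 = n31161 := d12_2 (iv F131806) D45449 (iv D31161)
theorem F189279 : act 7 n45449 = n31156 := d14_2 (iv F131807) D45449 (iv D31156)
theorem F189280 : act 8 n45449 = n45449 := d15_2 F131808 D45449 (iv D45449)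
def n45450 : Q := act 4 n31153
theorem D45450 : act 4 n31153 = n45450 := rfl
theorem F189281 : act 0 n45450 = n45450 := d3_1 D45450 (iv D45450) F131805
theorem F189282 : act 2 n45450 = n31154 := d18_1 D45450 (iv D31154) D31153
theorem F189283 : act 5 n45450 = n32081 := d30_2 (iv F131806) D45450 (iv D32081) F94450 (iv F91991)
theorem F189284 : act 7 n45450 = n31157 := d32_2 (iv F131807) D45450 (iv D31157)
theorem F189285 : act 8 n45450 = n45450 := d33_2 F131808 D45450 (iv D45450)
def n45451 : Q := act 9 n31153
theorem D45451 : act 9 n31153 = n45451 := rfl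
theorem F189286 : act 0 n45451 = n45451 := d8_1 D45451 (iv D45451) F131805
theorem F189287 : act 2 n45451 = n31155 := d23_1 D45451 (iv D31155) D31153
theorem F189288 : act 5 n45451 = n31162 := d38_1 D45451 (iv D31162) (iv F131806)
theorem F189289 : act 7 n45451 = n31158 := d43_1 D45451 (iv D31158) (iv F131807)
def n45452 : Q := act 9 n31154
theorem D45452 : act 9 n31154 = n45452 := rfl
theorem F189290 : act 0 n45452 = n45452 := d8_1 D45452 (iv D45452) F131809
theorem F189291 : act 3 n45452 = n31454 := d29_1 D45452 (iv D31454) (iv F131810)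
theorem F189292 : act 4 n45452 = n31155 := d34_1 D45452 (iv D31155) D31154
theorem F189293 : act 5 n45452 = n32083 := d38_1 D45452 (iv D32083) (iv F131811)
theorem F189294 : act 7 n45452 = n31159 := d43_1 D45452 (iv D31159) (iv F131812)
def n45453 : Q := act 8 n31155
theorem D45453 : act 8 n31155 = n45453 := rfl
theorem F189295 : act 0 n45453 = n45453 := d7_1 D45453 (iv D45453) F131814
theorem F189296 : act 5 n45453 = n31163 := d37_1 D45453 (iv D31163) (iv F131816)
theorem F189297 : act 7 n45453 = n31160 := d42_1 D45453 (iv D31160) (iv F131817)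
theorem F189298 : act 9 n45453 = n45453 := d44_2 D31155 D45453 (iv D45453) (iv D31155) F91975
def n45454 : Q := act 0 n31156
theorem D45454 : act 0 n31156 = n45454 := rfl
theorem F189299 : act 1 n45454 = n45454 := d0_2 D31156 D45454 (iv D45454) (iv D31156) F91980
theorem F189300 : act 5 n45454 = n31164 := d4_2 (iv F131818) D45454 (iv D31164)
theorem F189301 : act 8 n45454 = n45454 := d7_2 F131819 D45454 (iv D45454)
def n45455 : Q := act 4 n31156
theorem D45455 : act 4 n31156 = n45455 := rfl
theorem F189302 : act 1 n45455 = n31157 := d11_1 D45455 (iv D31157) D31156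
theorem F189303 : act 5 n45455 = n32086 := d30_2 (iv F131818) D45455 (iv D32086) F94462 (iv F91998)
theorem F189304 : act 8 n45455 = n45455 := d33_2 F131819 D45455 (iv D45455)
def n45456 : Q := act 9 n31156
theorem D45456 : act 9 n31156 = n45456 := rfl
theorem F189305 : act 1 n45456 = n31158 := d16_1 D45456 (iv D31158) D31156
theorem F189306 : act 5 n45456 = n31165 := d38_1 D45456 (iv D31165) (iv F131818)
def n45457 : Q := act 3 n31157
theorem D45457 : act 3 n31157 = n45457 := rfl
theorem F189307 : act 0 n45457 = n45457 := d2_1 D45457 (iv D45457) F131820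
theorem F189308 : act 2 n45457 = n31459 := d17_1 D45457 (iv D31459) F92694 (iv F91984) (iv F131821)
theorem F189309 : act 5 n45457 = n32088 := d25_2 (iv F131822) D45457 (iv D32088)
def n45458 : Q := act 9 n31157
theorem D45458 : act 9 n31157 = n45458 := rfl
theorem F189310 : act 0 n45458 = n45458 := d8_1 D45458 (iv D45458) F131820
theorem F189311 : act 2 n45458 = n31159 := d23_1 D45458 (iv D31159) (iv F131821)
theorem F189312 : act 4 n45458 = n31158 := d34_1 D45458 (iv D31158) D31157
theorem F189313 : act 5 n45458 = n32089 := d38_1 D45458 (iv D32089) (iv F131822)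
def n45459 : Q := act 8 n31158
theorem D45459 : act 8 n31158 = n45459 := rfl
theorem F189314 : act 0 n45459 = n45459 := d7_1 D45459 (iv D45459) F131824
theorem F189315 : act 2 n45459 = n31160 := d22_1 D45459 (iv D31160) (iv F131825)
theorem F189316 : act 5 n45459 = n31166 := d37_1 D45459 (iv D31166) (iv F131826)
theorem F189317 : act 9 n45459 = n45459 := d44_2 D31158 D45459 (iv D45459) (iv D31158) F91982
def n45460 : Q := act 8 n31159
theorem D45460 : act 8 n31159 = n45460 := rfl
theorem F189318 : act 0 n45460 = n45460 := d7_1 D45460 (iv D45460) F131827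
theorem F189319 : act 4 n45460 = n31160 := d33_1 D45460 (iv D31160) (iv F131829)
theorem F189320 : act 5 n45460 = n32091 := d37_1 D45460 (iv D32091) (iv F131830)
theorem F189321 : act 9 n45460 = n45460 := d44_2 D31159 D45460 (iv D45460) (iv D31159) F91986
def n45461 : Q := act 0 n31161
theorem D45461 : act 0 n31161 = n45461 := rfl
theorem F189322 : act 1 n45461 = n45461 := d0_2 D31161 D45461 (iv D45461) (iv D31161) F91990
theorem F189323 : act 4 n45461 = n32092 := d3_2 (iv F131834) D45461 (iv D32092)
theorem F189324 : act 7 n45461 = n31164 := d6_2 (iv F131835) D45461 (iv D31164)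
theorem F189325 : act 8 n45461 = n45461 := d7_2 F131836 D45461 (iv D45461)
def n45462 : Q := act 9 n31161
theorem D45462 : act 9 n31161 = n45462 := rfl
theorem F189326 : act 1 n45462 = n31162 := d16_1 D45462 (iv D31162) D31161
theorem F189327 : act 4 n45462 = n32093 := d34_1 D45462 (iv D32093) (iv F131834)
theorem F189328 : act 7 n45462 = n31165 := d43_1 D45462 (iv D31165) (iv F131835)
def n45463 : Q := act 8 n31162
theorem D45463 : act 8 n31162 = n45463 := rfl
theorem F189329 : act 0 n45463 = n45463 := d7_1 D45463 (iv D45463) F131837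
theorem F189330 : act 2 n45463 = n31163 := d22_1 D45463 (iv D31163) (iv F131838)
theorem F189331 : act 4 n45463 = n32094 := d33_1 D45463 (iv D32094) (iv F131839)
theorem F189332 : act 7 n45463 = n31166 := d42_1 D45463 (iv D31166) (iv F131840)
theorem F189333 : act 9 n45463 = n45463 := d44_2 D31162 D45463 (iv D45463) (iv D31162) F91993
def n45464 : Q := act 9 n31164
theorem D45464 : act 9 n31164 = n45464 := rfl
theorem F189334 : act 0 n45464 = n31165 := d8_1 D45464 (iv D31165) D31164
theorem F189335 : act 1 n45464 = n45464 := d16_1 D45464 (iv D45464) F131845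
theorem F189336 : act 4 n45464 = n32095 := d34_1 D45464 (iv D32095) (iv F131846)
theorem F189337 : act 6 n45464 = n31167 := d41_1 D45464 (iv D31167) (iv F131847)
def n45465 : Q := act 8 n31165
theorem D45465 : act 8 n31165 = n45465 := rfl
theorem F189338 : act 1 n45465 = n31166 := d15_1 D45465 (iv D31166) (iv F131849)
theorem F189339 : act 4 n45465 = n32096 := d33_1 D45465 (iv D32096) (iv F131850)
theorem F189340 : act 6 n45465 = n31168 := d40_1 D45465 (iv D31168) (iv F131851)
theorem F189341 : act 9 n45465 = n45465 := d44_2 D31165 D45465 (iv D45465) (iv D31165) F92000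
def n45466 : Q := act 3 n31166
theorem D45466 : act 3 n31166 = n45466 := rfl
theorem F189342 : act 0 n45466 = n45466 := d2_1 D45466 (iv D45466) F131852
theorem F189343 : act 6 n45466 = n31169 := d26_2 (iv F131855) D45466 (iv D31169)
theorem F189344 : act 9 n45466 = n45466 := d29_2 F131856 D45466 (iv D45466)
def n45467 : Q := act 8 n31167
theorem D45467 : act 8 n31167 = n45467 := rfl
theorem F189345 : act 0 n45467 = n31168 := d7_1 D45467 (iv D31168) (iv F131857)
theorem F189346 : act 1 n45467 = n45467 := d15_1 D45467 (iv D45467) F131858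
theorem F189347 : act 4 n45467 = n32098 := d33_1 D45467 (iv D32098) (iv F131859)
theorem F189348 : act 9 n45467 = n45467 := d44_2 D31167 D45467 (iv D45467) (iv D31167) F92011
def n45468 : Q := act 3 n31168
theorem D45468 : act 3 n31168 = n45468 := rfl
theorem F189349 : act 1 n45468 = n31169 := d10_1 D45468 (iv D31169) (iv F131860)
theorem F189350 : act 9 n45468 = n45468 := d29_2 F131862 D45468 (iv D45468)
def n45469 : Q := act 4 n31169
theorem D45469 : act 4 n31169 = n45469 := rfl
theorem F189351 : act 0 n45469 = n45469 := d3_1 D45469 (iv D45469) F131863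
theorem F189352 : act 3 n45469 = n32100 := d24_1 D45469 (iv D32100) (iv D22030) (iv F92016) D31169
theorem F189353 : act 9 n45469 = n45469 := d34_2 F131864 D45469 (iv D45469)
def n45470 : Q := act 6 n31170
theorem D45470 : act 6 n31170 = n45470 := rfl
theorem F189355 : act 2 n45470 = n31171 := d20_1 D45470 (iv D31171) D31170
def n45472 : Q := act 5 n31171
theorem D45472 : act 5 n31171 = n45472 := rfl
theorem F189364 : act 3 n45472 = n31173 := d25_1 D45472 (iv D31173) (iv F131871)
theorem F189365 : act 9 n45472 = n31294 := d38_2 (iv F131873) D45472 (iv D31294)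
def n45473 : Q := act 7 n31171
theorem D45473 : act 7 n31171 = n45473 := rfl
theorem F189366 : act 1 n45473 = n31190 := d14_1 D45473 (iv D31190) (iv F131870)
theorem F189367 : act 3 n45473 = n31174 := d27_1 D45473 (iv D31174) (iv F131871)
theorem F189370 : act 9 n45473 = n31295 := d43_2 (iv F131873) D45473 (iv D31295)
def n45474 : Q := act 8 n31171
theorem D45474 : act 8 n31171 = n45474 := rfl
theorem F189372 : act 4 n45474 = n34432 := d33_1 D45474 (iv D34432) (iv F131872)
def n45476 : Q := act 9 n31172
theorem D45476 : act 9 n31172 = n45476 := rfl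
theorem F189378 : act 4 n45476 = n34434 := d34_1 D45476 (iv D34434) (iv F131875)
theorem F189380 : act 8 n45476 = n31298 := d44_1 D45476 (iv D31298) (iv D21476) (iv F92021) D31172
def n45477 : Q := act 7 n31173
theorem D45477 : act 7 n31173 = n45477 := rfl
theorem F189381 : act 1 n45477 = n31194 := d14_1 D45477 (iv D31194) (iv F131877)
theorem F189383 : act 5 n45477 = n31174 := d36_1 D45477 (iv D31174) D31173
theorem F189384 : act 9 n45477 = n31299 := d43_2 (iv F131879) D45477 (iv D31299)
def n45478 : Q := act 8 n31173
theorem D45478 : act 8 n31173 = n45478 := rfl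
theorem F189385 : act 1 n45478 = n31195 := d15_1 D45478 (iv D31195) (iv F131877)
theorem F189387 : act 5 n45478 = n31175 := d37_1 D45478 (iv D31175) D31173
def n45479 : Q := act 8 n31174
theorem D45479 : act 8 n31174 = n45479 := rfl
theorem F189388 : act 1 n45479 = n31196 := d15_1 D45479 (iv D31196) (iv F131880)
theorem F189390 : act 4 n45479 = n31178 := d33_1 D45479 (iv D31178) (iv F131882)
def n45480 : Q := act 3 n31175
theorem D45480 : act 3 n31175 = n45480 := rfl
theorem F189393 : act 1 n45480 = n31197 := d10_1 D45480 (iv D31197) (iv F131885)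
def n45481 : Q := act 9 n31175
theorem D45481 : act 9 n31175 = n45481 := rfl
theorem F189395 : act 1 n45481 = n31198 := d16_1 D45481 (iv D31198) (iv F131885)
theorem F189397 : act 4 n45481 = n31180 := d34_1 D45481 (iv D31180) (iv F131887)
def n45483 : Q := act 4 n31176
theorem D45483 : act 4 n31176 = n45483 := rfl
theorem F189403 : act 3 n45483 = n31182 := d24_1 D45483 (iv D31182) (iv D21398) (iv F92028) D31176
def n45484 : Q := act 9 n31176
theorem D45484 : act 9 n31176 = n45484 := rfl
theorem F189405 : act 1 n45484 = n31201 := d16_1 D45484 (iv D31201) (iv F131889)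
def n45485 : Q := act 3 n31178
theorem D45485 : act 3 n31178 = n45485 := rfl
theorem F189411 : act 8 n45485 = n34443 := d28_2 D31178 D45485 (iv D34443) (iv D23624) (iv F92032)
def n45486 : Q := act 9 n31178
theorem D45486 : act 9 n31178 = n45486 := rfl
theorem F189412 : act 1 n45486 = n31203 := d16_1 D45486 (iv D31203) (iv F131896)
def n45489 : Q := act 9 n31179
theorem D45489 : act 9 n31179 = n45489 := rfl
theorem F189425 : act 3 n45489 = n31180 := d29_1 D45489 (iv D31180) D31179
def n45502 : Q := act 4 n31189
theorem D45502 : act 4 n31189 = n45502 := rfl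
theorem F189472 : act 0 n45502 = n31223 := d3_1 D45502 (iv D31223) (iv F131937)
theorem F189474 : act 5 n45502 = n34460 := d30_2 D31189 D45502 (iv D34460) (iv D23635) (iv F92060)
theorem F189475 : act 9 n45502 = n31324 := d34_2 (iv F131940) D45502 (iv D31324)
def n45503 : Q := act 7 n31189
theorem D45503 : act 7 n31189 = n45503 := rfl
theorem F189476 : act 0 n45503 = n31224 := d6_1 D45503 (iv D31224) (iv F131937)
theorem F189478 : act 3 n45503 = n31194 := d27_1 D45503 (iv D31194) (iv F131939)
theorem F189479 : act 5 n45503 = n31190 := d36_1 D45503 (iv D31190) D31189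
theorem F189480 : act 9 n45503 = n31325 := d43_2 (iv F131940) D45503 (iv D31325)
def n45504 : Q := act 8 n31189
theorem D45504 : act 8 n31189 = n45504 := rfl
theorem F189481 : act 0 n45504 = n31225 := d7_1 D45504 (iv D31225) (iv F131937)
def n45505 : Q := act 8 n31190
theorem D45505 : act 8 n31190 = n45505 := rfl
theorem F189484 : act 0 n45505 = n31226 := d7_1 D45505 (iv D31226) (iv F131941)
theorem F189486 : act 4 n45505 = n34463 := d33_1 D45505 (iv D34463) (iv F131944)
def n45506 : Q := act 3 n31191
theorem D45506 : act 3 n31191 = n45506 := rfl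
theorem F189489 : act 0 n45506 = n31227 := d2_1 D45506 (iv D31227) (iv F131947)
theorem F189491 : act 8 n45506 = n31197 := d28_2 D31191 D45506 (iv D31197) (iv D21407) (iv F92059)
def n45507 : Q := act 9 n31191
theorem D45507 : act 9 n31191 = n45507 := rfl
theorem F189492 : act 0 n45507 = n31228 := d8_1 D45507 (iv D31228) (iv F131947)
theorem F189494 : act 4 n45507 = n34465 := d34_1 D45507 (iv D34465) (iv F131949)
theorem F189496 : act 8 n45507 = n31329 := d44_1 D45507 (iv D31329) (iv D21495) (iv F92061) D31191
def n45509 : Q := act 4 n31192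
theorem D45509 : act 4 n31192 = n45509 := rfl
theorem F189502 : act 3 n45509 = n34467 := d24_1 D45509 (iv D34467) (iv D23638) (iv F92064) D31192
def n45510 : Q := act 9 n31192
theorem D45510 : act 9 n31192 = n45510 := rfl
theorem F189505 : act 0 n45510 = n31231 := d8_1 D45510 (iv D31231) (iv F131951)
def n45511 : Q := act 6 n31194
theorem D45511 : act 6 n31194 = n45511 := rfl
theorem F189508 : act 0 n45511 = n31232 := d5_1 D45511 (iv D31232) (iv F131959)
theorem F189509 : act 2 n45511 = n31212 := d20_1 D45511 (iv D31212) (iv F131960)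
theorem F189510 : act 5 n45511 = n45511 := d35_1 D45511 (iv D45511) F131961 F92072 (iv F131961)
theorem F189511 : act 9 n45511 = n31333 := d41_2 (iv F131962) D45511 (iv D31333)
def n45512 : Q := act 8 n31194
theorem D45512 : act 8 n31194 = n45512 := rfl
theorem F189512 : act 0 n45512 = n31233 := d7_1 D45512 (iv D31233) (iv F131959)
theorem F189513 : act 2 n45512 = n31213 := d22_1 D45512 (iv D31213) (iv F131960)
theorem F189514 : act 5 n45512 = n31196 := d37_1 D45512 (iv D31196) (iv F131961)
theorem F189515 : act 7 n45512 = n31195 := d42_1 D45512 (iv D31195) D31194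
def n45513 : Q := act 3 n31195
theorem D45513 : act 3 n31195 = n45513 := rfl
theorem F189516 : act 0 n45513 = n31234 := d2_1 D45513 (iv D31234) (iv F131963)
theorem F189517 : act 5 n45513 = n31197 := d25_2 (iv F131965) D45513 (iv D31197)
def n45514 : Q := act 9 n31195
theorem D45514 : act 9 n31195 = n45514 := rfl
theorem F189518 : act 0 n45514 = n31235 := d8_1 D45514 (iv D31235) (iv F131963)
theorem F189519 : act 2 n45514 = n31215 := d23_1 D45514 (iv D31215) (iv F131964)
theorem F189520 : act 5 n45514 = n31198 := d38_1 D45514 (iv D31198) (iv F131965)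
theorem F189521 : act 8 n45514 = n31336 := d44_1 D45514 (iv D31336) (iv D21499) (iv F92068) D31195
def n45515 : Q := act 3 n31196
theorem D45515 : act 3 n31196 = n45515 := rfl
theorem F189522 : act 0 n45515 = n31236 := d2_1 D45515 (iv D31236) (iv F131966)
theorem F189523 : act 6 n45515 = n45515 := d26_2 F131969 D45515 (iv D45515)
theorem F189524 : act 7 n45515 = n31197 := d27_2 (iv F131970) D45515 (iv D31197)
def n45516 : Q := act 9 n31196
theorem D45516 : act 9 n31196 = n45516 := rfl
theorem F189525 : act 0 n45516 = n31237 := d8_1 D45516 (iv D31237) (iv F131966)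
theorem F189526 : act 2 n45516 = n31217 := d23_1 D45516 (iv D31217) (iv F131967)
theorem F189527 : act 4 n45516 = n31203 := d34_1 D45516 (iv D31203) (iv F131968)
theorem F189528 : act 6 n45516 = n45516 := d41_1 D45516 (iv D45516) F131969
theorem F189529 : act 7 n45516 = n31198 := d43_1 D45516 (iv D31198) (iv F131970)
theorem F189530 : act 8 n45516 = n31338 := d44_1 D45516 (iv D31338) (iv D21500) (iv F92073) D31196
def n45517 : Q := act 2 n31197
theorem D45517 : act 2 n31197 = n45517 := rfl
theorem F189531 : act 0 n45517 = n31238 := d1_1 D45517 (iv D31238) (iv F131971)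
theorem F189533 : act 6 n45517 = n31199 := d20_2 (iv F131972) D45517 (iv D31199)
def n45518 : Q := act 4 n31197
theorem D45518 : act 4 n31197 = n45518 := rfl
theorem F189535 : act 3 n45518 = n31204 := d24_1 D45518 (iv D31204) (iv D21411) (iv F92076) D31197
def n45519 : Q := act 9 n31197
theorem D45519 : act 9 n31197 = n45519 := rfl
theorem F189537 : act 0 n45519 = n31240 := d8_1 D45519 (iv D31240) (iv F131971)
theorem F189538 : act 3 n45519 = n31198 := d29_1 D45519 (iv D31198) D31197
theorem F189539 : act 6 n45519 = n31201 := d41_1 D45519 (iv D31201) (iv F131972)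
def n45521 : Q := act 4 n31199
theorem D45521 : act 4 n31199 = n45521 := rfl
theorem F189543 : act 2 n45521 = n31200 := d18_1 D45521 (iv D31200) D31199
def n45522 : Q := act 9 n31199
theorem D45522 : act 9 n31199 = n45522 := rfl
theorem F189546 : act 0 n45522 = n31243 := d8_1 D45522 (iv D31243) (iv F131978)
theorem F189547 : act 2 n45522 = n31201 := d23_1 D45522 (iv D31201) D31199
def n45524 : Q := act 9 n31200
theorem D45524 : act 9 n31200 = n45524 := rfl
theorem F189555 : act 4 n45524 = n31201 := d34_1 D45524 (iv D31201) D31200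
def n45525 : Q := act 8 n31201
theorem D45525 : act 8 n31201 = n45525 := rfl
theorem F189557 : act 0 n45525 = n31246 := d7_1 D45525 (iv D31246) (iv F131984)
theorem F189558 : act 3 n45525 = n31347 := d28_1 D45525 (iv D31347) F92433 (iv F92084) (iv F131985)
theorem F189559 : act 7 n45525 = n45525 := d42_1 D45525 (iv D45525) F131986
def n45527 : Q := act 9 n31202
theorem D45527 : act 9 n31202 = n45527 := rfl
theorem F189567 : act 3 n45527 = n31203 := d29_1 D45527 (iv D31203) D31202
def n45538 : Q := act 8 n31212
theorem D45538 : act 8 n31212 = n45538 := rfl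
theorem F189612 : act 0 n45538 = n31259 := d7_1 D45538 (iv D31259) (iv F132032)
theorem F189613 : act 1 n45538 = n45538 := d15_1 D45538 (iv D45538) F132033
theorem F189614 : act 5 n45538 = n45538 := d37_1 D45538 (iv D45538) F132035
theorem F189615 : act 6 n45538 = n31213 := d40_1 D45538 (iv D31213) D31212
def n45539 : Q := act 3 n31213
theorem D45539 : act 3 n31213 = n45539 := rfl
theorem F189616 : act 0 n45539 = n31260 := d2_1 D45539 (iv D31260) (iv F132037)
theorem F189618 : act 5 n45539 = n31216 := d25_2 (iv F132039) D45539 (iv D31216)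
def n45540 : Q := act 9 n31213
theorem D45540 : act 9 n31213 = n45540 := rfl
theorem F189621 : act 0 n45540 = n31261 := d8_1 D45540 (iv D31261) (iv F132037)
theorem F189622 : act 1 n45540 = n45540 := d16_1 D45540 (iv D45540) F132038
theorem F189623 : act 5 n45540 = n31217 := d38_1 D45540 (iv D31217) (iv F132039)
theorem F189624 : act 7 n45540 = n31215 := d43_1 D45540 (iv D31215) (iv F132040)
theorem F189625 : act 8 n45540 = n31362 := d44_1 D45540 (iv D31362) (iv D21517) (iv F92123) D31213
def n45541 : Q := act 2 n31214
theorem D45541 : act 2 n31214 = n45541 := rfl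
theorem F189626 : act 0 n45541 = n31262 := d1_1 D45541 (iv D31262) (iv F132041)
theorem F189628 : act 8 n45541 = n31536 := d22_2 (iv F132044) D45541 (iv D31536)
def n45542 : Q := act 4 n31214
theorem D45542 : act 4 n31214 = n45542 := rfl
theorem F189629 : act 0 n45542 = n31263 := d3_1 D45542 (iv D31263) (iv F132041)
def n45543 : Q := act 9 n31214
theorem D45543 : act 9 n31214 = n45543 := rfl
theorem F189633 : act 0 n45543 = n31264 := d8_1 D45543 (iv D31264) (iv F132041)
theorem F189635 : act 3 n45543 = n31215 := d29_1 D45543 (iv D31215) D31214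
def n45544 : Q := act 2 n31216
theorem D45544 : act 2 n31216 = n45544 := rfl
theorem F189637 : act 0 n45544 = n31265 := d1_1 D45544 (iv D31265) (iv F132049)
theorem F189641 : act 8 n45544 = n31539 := d22_2 (iv F132054) D45544 (iv D31539)
def n45545 : Q := act 9 n31216
theorem D45545 : act 9 n31216 = n45545 := rfl
theorem F189642 : act 0 n45545 = n31266 := d8_1 D45545 (iv D31266) (iv F132049)
theorem F189644 : act 3 n45545 = n31217 := d29_1 D45545 (iv D31217) D31216
def n45547 : Q := act 9 n31218
theorem D45547 : act 9 n31218 = n45547 := rfl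
theorem F189652 : act 0 n45547 = n31268 := d8_1 D45547 (iv D31268) (iv F132061)
def n45549 : Q := act 0 n31220
theorem D45549 : act 0 n31220 = n45549 := rfl
theorem F189662 : act 1 n45549 = n31270 := d0_2 D31220 D45549 (iv D31270) (iv D21457) (iv F92142)
theorem F189666 : act 8 n45549 = n31544 := d7_2 (iv F132073) D45549 (iv D31544)
def n45552 : Q := act 7 n31223
theorem D45552 : act 7 n31223 = n45552 := rfl
theorem F189676 : act 2 n45552 = n31547 := d21_1 D45552 (iv D31547) (iv F132084)
theorem F189677 : act 4 n45552 = n31224 := d32_1 D45552 (iv D31224) D31223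
theorem F189678 : act 5 n45552 = n34508 := d36_1 D45552 (iv D34508) (iv F132085)
theorem F189679 : act 9 n45552 = n31374 := d43_2 (iv F132086) D45552 (iv D31374)
def n45553 : Q := act 8 n31223
theorem D45553 : act 8 n31223 = n45553 := rfl
theorem F189680 : act 2 n45553 = n31548 := d22_1 D45553 (iv D31548) (iv F132084)
theorem F189681 : act 4 n45553 = n31225 := d33_1 D45553 (iv D31225) D31223
theorem F189682 : act 5 n45553 = n34509 := d37_1 D45553 (iv D34509) (iv F132085)
def n45554 : Q := act 6 n31224
theorem D45554 : act 6 n31224 = n45554 := rfl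
theorem F189683 : act 2 n45554 = n31549 := d20_1 D45554 (iv D31549) (iv F132087)
theorem F189684 : act 3 n45554 = n31232 := d26_1 D45554 (iv D31232) (iv F132088)
theorem F189685 : act 5 n45554 = n45554 := d35_1 D45554 (iv D45554) F132089 F92163 (iv F132089)
theorem F189686 : act 9 n45554 = n31376 := d41_2 (iv F132090) D45554 (iv D31376)
def n45555 : Q := act 8 n31224
theorem D45555 : act 8 n31224 = n45555 := rfl
theorem F189687 : act 2 n45555 = n31550 := d22_1 D45555 (iv D31550) (iv F132087)
theorem F189688 : act 5 n45555 = n31226 := d37_1 D45555 (iv D31226) (iv F132089)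
theorem F189689 : act 7 n45555 = n31225 := d42_1 D45555 (iv D31225) D31224
def n45556 : Q := act 3 n31225
theorem D45556 : act 3 n31225 = n45556 := rfl
theorem F189690 : act 5 n45556 = n31227 := d25_2 (iv F132092) D45556 (iv D31227)
theorem F189691 : act 8 n45556 = n31234 := d28_2 D31225 D45556 (iv D31234) (iv D21432) (iv F92158)
def n45557 : Q := act 9 n31225
theorem D45557 : act 9 n31225 = n45557 := rfl
theorem F189692 : act 2 n45557 = n31552 := d23_1 D45557 (iv D31552) (iv F132091)
theorem F189693 : act 5 n45557 = n31228 := d38_1 D45557 (iv D31228) (iv F132092)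
theorem F189694 : act 8 n45557 = n31379 := d44_1 D45557 (iv D31379) (iv D21529) (iv F92159) D31225
def n45558 : Q := act 3 n31226
theorem D45558 : act 3 n31226 = n45558 := rfl
theorem F189695 : act 6 n45558 = n45558 := d26_2 F132095 D45558 (iv D45558)
theorem F189696 : act 7 n45558 = n31227 := d27_2 (iv F132096) D45558 (iv D31227)
theorem F189697 : act 8 n45558 = n31236 := d28_2 D31226 D45558 (iv D31236) (iv D21433) (iv F92161)
def n45559 : Q := act 9 n31226
theorem D45559 : act 9 n31226 = n45559 := rfl
theorem F189698 : act 2 n45559 = n31554 := d23_1 D45559 (iv D31554) (iv F132093)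
theorem F189699 : act 4 n45559 = n34515 := d34_1 D45559 (iv D34515) (iv F132094)
theorem F189700 : act 6 n45559 = n45559 := d41_1 D45559 (iv D45559) F132095
theorem F189701 : act 7 n45559 = n31228 := d43_1 D45559 (iv D31228) (iv F132096)
theorem F189702 : act 8 n45559 = n31381 := d44_1 D45559 (iv D31381) (iv D21530) (iv F92164) D31226
def n45560 : Q := act 2 n31227
theorem D45560 : act 2 n31227 = n45560 := rfl
theorem F189703 : act 3 n45560 = n31555 := d17_2 D31227 D45560 (iv D31555) (iv D21650) (iv F92165)
theorem F189705 : act 8 n45560 = n31238 := d22_2 (iv F132098) D45560 (iv D31238)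
def n45561 : Q := act 4 n31227
theorem D45561 : act 4 n31227 = n45561 := rfl
theorem F189706 : act 3 n45561 = n34517 := d24_1 D45561 (iv D34517) (iv D23672) (iv F92166) D31227
theorem F189707 : act 6 n45561 = n31230 := d31_2 (iv F132097) D45561 (iv D31230)
theorem F189708 : act 8 n45561 = n31239 := d33_2 (iv F132098) D45561 (iv D31239)
def n45562 : Q := act 9 n31227
theorem D45562 : act 9 n31227 = n45562 := rfl
theorem F189709 : act 3 n45562 = n31228 := d29_1 D45562 (iv D31228) D31227
theorem F189710 : act 6 n45562 = n31231 := d41_1 D45562 (iv D31231) (iv F132097)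
def n45563 : Q := act 1 n31229
theorem D45563 : act 1 n31229 = n45563 := rfl
theorem F189711 : act 3 n45563 = n31558 := d10_2 (iv F132103) D45563 (iv D31558)
theorem F189713 : act 8 n45563 = n31241 := d15_2 (iv F132105) D45563 (iv D31241)
def n45564 : Q := act 4 n31229
theorem D45564 : act 4 n31229 = n45564 := rfl
theorem F189714 : act 2 n45564 = n31230 := d18_1 D45564 (iv D31230) D31229
theorem F189716 : act 8 n45564 = n31242 := d33_2 (iv F132105) D45564 (iv D31242)
def n45565 : Q := act 9 n31229
theorem D45565 : act 9 n31229 = n45565 := rfl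
theorem F189717 : act 2 n45565 = n31231 := d23_1 D45565 (iv D31231) D31229
def n45566 : Q := act 5 n31230
theorem D45566 : act 5 n31230 = n45566 := rfl
theorem F189722 : act 8 n45566 = n31244 := d37_2 (iv F132108) D45566 (iv D31244)
def n45567 : Q := act 9 n31230
theorem D45567 : act 9 n31230 = n45567 := rfl
theorem F189724 : act 4 n45567 = n31231 := d34_1 D45567 (iv D31231) D31230
theorem F189725 : act 7 n45567 = n45567 := d43_1 D45567 (iv D45567) F132107
def n45568 : Q := act 8 n31231
theorem D45568 : act 8 n31231 = n45568 := rfl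
theorem F189726 : act 3 n45568 = n31390 := d28_1 D45568 (iv D31390) F92548 (iv F92173) (iv F132109)
theorem F189727 : act 7 n45568 = n45568 := d42_1 D45568 (iv D45568) F132110
theorem F189728 : act 9 n45568 = n31246 := d44_2 D31231 D45568 (iv D31246) (iv D21438) (iv F92169)
def n45569 : Q := act 8 n31232
theorem D45569 : act 8 n31232 = n45569 := rfl
theorem F189729 : act 2 n45569 = n31259 := d22_1 D45569 (iv D31259) (iv F132111)
theorem F189730 : act 5 n45569 = n45569 := d37_1 D45569 (iv D45569) F132112
theorem F189731 : act 6 n45569 = n31233 := d40_1 D45569 (iv D31233) D31232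
def n45570 : Q := act 3 n31233
theorem D45570 : act 3 n31233 = n45570 := rfl
theorem F189732 : act 5 n45570 = n31236 := d25_2 (iv F132115) D45570 (iv D31236)
theorem F189733 : act 7 n45570 = n31234 := d27_2 (iv F132116) D45570 (iv D31234)
def n45571 : Q := act 9 n31233
theorem D45571 : act 9 n31233 = n45571 := rfl
theorem F189734 : act 2 n45571 = n31261 := d23_1 D45571 (iv D31261) (iv F132114)
theorem F189735 : act 5 n45571 = n31237 := d38_1 D45571 (iv D31237) (iv F132115)
theorem F189736 : act 7 n45571 = n31235 := d43_1 D45571 (iv D31235) (iv F132116)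
theorem F189737 : act 8 n45571 = n31393 := d44_1 D45571 (iv D31393) (iv D21537) (iv F92176) D31233
def n45572 : Q := act 2 n31234
theorem D45572 : act 2 n31234 = n45572 := rfl
theorem F189738 : act 3 n45572 = n31262 := d17_2 D31234 D45572 (iv D31262) (iv D21451) (iv F92177)
theorem F189739 : act 5 n45572 = n31238 := d19_2 (iv F132117) D45572 (iv D31238)
def n45573 : Q := act 4 n31234
theorem D45573 : act 4 n31234 = n45573 := rfl
def n45574 : Q := act 9 n31234
theorem D45574 : act 9 n31234 = n45574 := rfl
theorem F189740 : act 3 n45574 = n31235 := d29_1 D45574 (iv D31235) D31234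
theorem F189741 : act 5 n45574 = n31240 := d38_1 D45574 (iv D31240) (iv F132117)
def n45575 : Q := act 2 n31236
theorem D45575 : act 2 n31236 = n45575 := rfl
theorem F189742 : act 3 n45575 = n31265 := d17_2 D31236 D45575 (iv D31265) (iv D21453) (iv F92179)
theorem F189743 : act 6 n45575 = n45575 := d20_2 F132121 D45575 (iv D45575)
theorem F189744 : act 7 n45575 = n31238 := d21_2 (iv F132122) D45575 (iv D31238)
def n45576 : Q := act 4 n31236
theorem D45576 : act 4 n31236 = n45576 := rfl
theorem F189745 : act 3 n45576 = n31247 := d24_1 D45576 (iv D31247) (iv D21439) (iv F92180) D31236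
theorem F189746 : act 6 n45576 = n45576 := d31_2 F132121 D45576 (iv D45576)
theorem F189747 : act 7 n45576 = n31239 := d32_2 (iv F132122) D45576 (iv D31239)
def n45577 : Q := act 9 n31236
theorem D45577 : act 9 n31236 = n45577 := rfl
theorem F189748 : act 3 n45577 = n31237 := d29_1 D45577 (iv D31237) D31236
theorem F189749 : act 6 n45577 = n45577 := d41_1 D45577 (iv D45577) F132121
theorem F189750 : act 7 n45577 = n31240 := d43_1 D45577 (iv D31240) (iv F132122)
def n45578 : Q := act 1 n31238
theorem D45578 : act 1 n31238 = n45578 := rfl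
theorem F189751 : act 3 n45578 = n31267 := d10_2 (iv F132128) D45578 (iv D31267)
theorem F189752 : act 6 n45578 = n31241 := d13_2 (iv F132129) D45578 (iv D31241)
def n45579 : Q := act 4 n31238
theorem D45579 : act 4 n31238 = n45579 := rfl
theorem F189753 : act 2 n45579 = n31239 := d18_1 D45579 (iv D31239) D31238
theorem F189754 : act 3 n45579 = n45579 := d24_1 D45579 (iv D45579) F132128 F92252 (iv F132128)
theorem F189755 : act 6 n45579 = n31242 := d31_2 (iv F132129) D45579 (iv D31242)
def n45580 : Q := act 9 n31238
theorem D45580 : act 9 n31238 = n45580 := rfl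
theorem F189756 : act 2 n45580 = n31240 := d23_1 D45580 (iv D31240) D31238
theorem F189757 : act 3 n45580 = n31268 := d29_1 D45580 (iv D31268) (iv F132128)
theorem F189758 : act 6 n45580 = n31243 := d41_1 D45580 (iv D31243) (iv F132129)
def n45581 : Q := act 5 n31239
theorem D45581 : act 5 n31239 = n45581 := rfl
theorem F189759 : act 3 n45581 = n31249 := d25_1 D45581 (iv D31249) (iv F132130)
def n45582 : Q := act 9 n31239
theorem D45582 : act 9 n31239 = n45582 := rfl
theorem F189760 : act 3 n45582 = n31250 := d29_1 D45582 (iv D31250) (iv F132130)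
theorem F189761 : act 4 n45582 = n31240 := d34_1 D45582 (iv D31240) D31239
theorem F189762 : act 6 n45582 = n31245 := d41_1 D45582 (iv D31245) (iv F132131)
def n45583 : Q := act 8 n31240
theorem D45583 : act 8 n31240 = n45583 := rfl
theorem F189763 : act 3 n45583 = n31405 := d28_1 D45583 (iv D31405) F92568 (iv F92187) (iv F132132)
theorem F189764 : act 6 n45583 = n31246 := d40_1 D45583 (iv D31246) (iv F132133)
def n45584 : Q := act 0 n31241
theorem D45584 : act 0 n31241 = n45584 := rfl
theorem F189765 : act 3 n45584 = n31270 := d2_2 (iv F132134) D45584 (iv D31270)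
def n45585 : Q := act 4 n31241
theorem D45585 : act 4 n31241 = n45585 := rfl
theorem F189767 : act 1 n45585 = n31242 := d11_1 D45585 (iv D31242) D31241
theorem F189768 : act 3 n45585 = n45585 := d24_1 D45585 (iv D45585) F132134 F92260 (iv F132134)
theorem F189769 : act 7 n45585 = n45585 := d32_2 F132135 D45585 (iv D45585)
def n45586 : Q := act 9 n31241
theorem D45586 : act 9 n31241 = n45586 := rfl
theorem F189770 : act 1 n45586 = n31243 := d16_1 D45586 (iv D31243) D31241
theorem F189771 : act 3 n45586 = n31271 := d29_1 D45586 (iv D31271) (iv F132134)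
theorem F189772 : act 7 n45586 = n45586 := d43_1 D45586 (iv D45586) F132135
def n45587 : Q := act 5 n31242
theorem D45587 : act 5 n31242 = n45587 := rfl
theorem F189773 : act 2 n45587 = n31244 := d19_1 D45587 (iv D31244) (iv F132136)
def n45588 : Q := act 9 n31242
theorem D45588 : act 9 n31242 = n45588 := rfl
theorem F189776 : act 2 n45588 = n31245 := d23_1 D45588 (iv D31245) (iv F132136)
theorem F189777 : act 3 n45588 = n45588 := d29_1 D45588 (iv D45588) F132137
theorem F189778 : act 4 n45588 = n31243 := d34_1 D45588 (iv D31243) D31242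
theorem F189779 : act 7 n45588 = n45588 := d43_1 D45588 (iv D45588) F132138
def n45589 : Q := act 8 n31243
theorem D45589 : act 8 n31243 = n45589 := rfl
theorem F189780 : act 2 n45589 = n31246 := d22_1 D45589 (iv D31246) (iv F132139)
theorem F189781 : act 7 n45589 = n45589 := d42_1 D45589 (iv D45589) F132141
def n45591 : Q := act 9 n31244
theorem D45591 : act 9 n31244 = n45591 := rfl
theorem F189783 : act 3 n45591 = n31253 := d29_1 D45591 (iv D31253) (iv F132142)
theorem F189784 : act 5 n45591 = n31245 := d38_1 D45591 (iv D31245) D31244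
def n45592 : Q := act 8 n31245
theorem D45592 : act 8 n31245 = n45592 := rfl
theorem F189786 : act 4 n45592 = n31246 := d33_1 D45592 (iv D31246) (iv F132145)
theorem F189787 : act 7 n45592 = n45592 := d42_1 D45592 (iv D45592) F132146
def n45593 : Q := act 5 n31247
theorem D45593 : act 5 n31247 = n45593 := rfl
theorem F189788 : act 2 n45593 = n45593 := d19_1 D45593 (iv D45593) F132149
theorem F189789 : act 7 n45593 = n31249 := d36_2 (iv F132151) D45593 (iv D31249)
def n45594 : Q := act 9 n31247
theorem D45594 : act 9 n31247 = n45594 := rfl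
theorem F189791 : act 2 n45594 = n45594 := d23_1 D45594 (iv D45594) F132149
theorem F189792 : act 4 n45594 = n31248 := d34_1 D45594 (iv D31248) D31247
theorem F189793 : act 6 n45594 = n45594 := d41_1 D45594 (iv D45594) F132150
theorem F189794 : act 7 n45594 = n31250 := d43_1 D45594 (iv D31250) (iv F132151)
def n45595 : Q := act 8 n31248
theorem D45595 : act 8 n31248 = n45595 := rfl
theorem F189799 : act 9 n45595 = n34551 := d44_2 D31248 D45595 (iv D34551) (iv D23693) (iv F92197)
def n45596 : Q := act 6 n31249
theorem D45596 : act 6 n31249 = n45596 := rfl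
theorem F189802 : act 8 n45596 = n34552 := d40_2 (iv F132158) D45596 (iv D34552)
def n45597 : Q := act 9 n31249
theorem D45597 : act 9 n31249 = n45597 := rfl
theorem F189803 : act 2 n45597 = n45597 := d23_1 D45597 (iv D45597) F132157
theorem F189804 : act 5 n45597 = n31250 := d38_1 D45597 (iv D31250) D31249
def n45598 : Q := act 8 n31250
theorem D45598 : act 8 n31250 = n45598 := rfl
theorem F189808 : act 9 n45598 = n34554 := d44_2 D31250 D45598 (iv D34554) (iv D23695) (iv F92204)
def n45601 : Q := act 8 n31253
theorem D45601 : act 8 n31253 = n45601 := rfl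
theorem F189818 : act 5 n45601 = n31254 := d37_1 D45601 (iv D31254) (iv F132171)
theorem F189820 : act 9 n45601 = n34557 := d44_2 D31253 D45601 (iv D34557) (iv D23698) (iv F92211)
def n45607 : Q := act 3 n31259
theorem D45607 : act 3 n31259 = n45607 := rfl
theorem F189837 : act 1 n45607 = n31273 := d10_1 D45607 (iv D31273) (iv F132189)
theorem F189838 : act 5 n45607 = n45607 := d25_2 F132190 D45607 (iv D45607)
theorem F189839 : act 6 n45607 = n31260 := d26_2 (iv F132191) D45607 (iv D31260)
theorem F189840 : act 8 n45607 = n31595 := d28_2 D31259 D45607 (iv D31595) (iv D21678) (iv F92230)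
def n45608 : Q := act 9 n31259
theorem D45608 : act 9 n31259 = n45608 := rfl
theorem F189841 : act 1 n45608 = n31274 := d16_1 D45608 (iv D31274) (iv F132189)
theorem F189842 : act 5 n45608 = n45608 := d38_1 D45608 (iv D45608) F132190
theorem F189843 : act 6 n45608 = n31261 := d41_1 D45608 (iv D31261) (iv F132191)
theorem F189844 : act 8 n45608 = n31430 := d44_1 D45608 (iv D31430) (iv D21563) (iv F92232) D31259
def n45609 : Q := act 2 n31260
theorem D45609 : act 2 n31260 = n45609 := rfl
theorem F189845 : act 5 n45609 = n31265 := d19_2 (iv F132193) D45609 (iv D31265)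
theorem F189846 : act 7 n45609 = n31262 := d21_2 (iv F132194) D45609 (iv D31262)
theorem F189847 : act 8 n45609 = n31597 := d22_2 (iv F132195) D45609 (iv D31597)
def n45610 : Q := act 4 n31260
theorem D45610 : act 4 n31260 = n45610 := rfl
theorem F189848 : act 1 n45610 = n31276 := d11_1 D45610 (iv D31276) (iv F132192)
theorem F189849 : act 5 n45610 = n45610 := d30_2 (iv F132193) D45610 (iv D45610) F132193 F92243
theorem F189850 : act 7 n45610 = n31263 := d32_2 (iv F132194) D45610 (iv D31263)
theorem F189851 : act 8 n45610 = n31598 := d33_2 (iv F132195) D45610 (iv D31598)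
def n45611 : Q := act 9 n31260
theorem D45611 : act 9 n31260 = n45611 := rfl
theorem F189852 : act 1 n45611 = n31277 := d16_1 D45611 (iv D31277) (iv F132192)
theorem F189853 : act 3 n45611 = n31261 := d29_1 D45611 (iv D31261) D31260
theorem F189854 : act 5 n45611 = n31266 := d38_1 D45611 (iv D31266) (iv F132193)
theorem F189855 : act 7 n45611 = n31264 := d43_1 D45611 (iv D31264) (iv F132194)
def n45612 : Q := act 1 n31262
theorem D45612 : act 1 n31262 = n45612 := rfl
theorem F189856 : act 2 n45612 = n31278 := d9_2 D31262 D45612 (iv D31278) (iv D21463) (iv F92236)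
theorem F189857 : act 5 n45612 = n31267 := d12_2 (iv F132200) D45612 (iv D31267)
theorem F189858 : act 8 n45612 = n31600 := d15_2 (iv F132201) D45612 (iv D31600)
def n45613 : Q := act 4 n31262
theorem D45613 : act 4 n31262 = n45613 := rfl
theorem F189859 : act 2 n45613 = n31263 := d18_1 D45613 (iv D31263) D31262
theorem F189860 : act 5 n45613 = n45613 := d30_2 (iv F132200) D45613 (iv D45613) F132200 F92252
theorem F189861 : act 8 n45613 = n31601 := d33_2 (iv F132201) D45613 (iv D31601)
def n45614 : Q := act 9 n31262
theorem D45614 : act 9 n31262 = n45614 := rfl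
theorem F189862 : act 2 n45614 = n31264 := d23_1 D45614 (iv D31264) D31262
theorem F189863 : act 5 n45614 = n31268 := d38_1 D45614 (iv D31268) (iv F132200)
def n45615 : Q := act 9 n31263
theorem D45615 : act 9 n31263 = n45615 := rfl
theorem F189864 : act 1 n45615 = n31281 := d16_1 D45615 (iv D31281) (iv F132202)
theorem F189865 : act 4 n45615 = n31264 := d34_1 D45615 (iv D31264) D31263
theorem F189866 : act 5 n45615 = n45615 := d38_1 D45615 (iv D45615) F132203
def n45616 : Q := act 8 n31264
theorem D45616 : act 8 n31264 = n45616 := rfl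
theorem F189867 : act 1 n45616 = n31282 := d15_1 D45616 (iv D31282) (iv F132205)
theorem F189868 : act 3 n45616 = n31438 := d28_1 D45616 (iv D31438) F92638 (iv F92241) (iv F132206)
theorem F189869 : act 5 n45616 = n31269 := d37_1 D45616 (iv D31269) (iv F132207)
def n45617 : Q := act 1 n31265
theorem D45617 : act 1 n31265 = n45617 := rfl
theorem F189871 : act 2 n45617 = n31283 := d9_2 D31265 D45617 (iv D31283) (iv D21466) (iv F92242)
theorem F189872 : act 4 n45617 = n45617 := d11_2 F132208 D45617 (iv D45617)
theorem F189873 : act 6 n45617 = n45617 := d13_2 F132209 D45617 (iv D45617)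
theorem F189874 : act 7 n45617 = n31267 := d14_2 (iv F132210) D45617 (iv D31267)
theorem F189875 : act 8 n45617 = n31605 := d15_2 (iv F132211) D45617 (iv D31605)
def n45618 : Q := act 9 n31265
theorem D45618 : act 9 n31265 = n45618 := rfl
theorem F189876 : act 2 n45618 = n31266 := d23_1 D45618 (iv D31266) D31265
theorem F189877 : act 4 n45618 = n45618 := d34_1 D45618 (iv D45618) F132208
theorem F189878 : act 6 n45618 = n45618 := d41_1 D45618 (iv D45618) F132209
theorem F189879 : act 7 n45618 = n31268 := d43_1 D45618 (iv D31268) (iv F132210)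
def n45619 : Q := act 8 n31266
theorem D45619 : act 8 n31266 = n45619 := rfl
theorem F189880 : act 1 n45619 = n31285 := d15_1 D45619 (iv D31285) (iv F132212)
theorem F189881 : act 3 n45619 = n31441 := d28_1 D45619 (iv D31441) F92645 (iv F92251) (iv F132213)
theorem F189884 : act 7 n45619 = n31269 := d42_1 D45619 (iv D31269) (iv F132216)
def n45620 : Q := act 0 n31267
theorem D45620 : act 0 n31267 = n45620 := rfl
theorem F189886 : act 2 n45620 = n31286 := d1_2 (iv F132217) D45620 (iv D31286)
theorem F189887 : act 4 n45620 = n45620 := d3_2 F132218 D45620 (iv D45620)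
theorem F189888 : act 6 n45620 = n31270 := d5_2 (iv F132219) D45620 (iv D31270)
theorem F189889 : act 8 n45620 = n31608 := d7_2 (iv F132220) D45620 (iv D31608)
def n45621 : Q := act 9 n31267
theorem D45621 : act 9 n31267 = n45621 := rfl
theorem F189890 : act 1 n45621 = n31268 := d16_1 D45621 (iv D31268) D31267
theorem F189891 : act 2 n45621 = n31287 := d23_1 D45621 (iv D31287) (iv F132217)
theorem F189892 : act 4 n45621 = n45621 := d34_1 D45621 (iv D45621) F132218
theorem F189893 : act 6 n45621 = n31271 := d41_1 D45621 (iv D31271) (iv F132219)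
def n45622 : Q := act 8 n31268
theorem D45622 : act 8 n31268 = n45622 := rfl
theorem F189897 : act 9 n45622 = n31610 := d44_2 D31268 D45622 (iv D31610) (iv D21687) (iv F92254)
def n45623 : Q := act 9 n31270
theorem D45623 : act 9 n31270 = n45623 := rfl
theorem F189898 : act 0 n45623 = n31271 := d8_1 D45623 (iv D31271) D31270
theorem F189899 : act 2 n45623 = n31289 := d23_1 D45623 (iv D31289) (iv F132229)
theorem F189900 : act 4 n45623 = n45623 := d34_1 D45623 (iv D45623) F132230
theorem F189901 : act 7 n45623 = n45623 := d43_1 D45623 (iv D45623) F132231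
def n45624 : Q := act 8 n31271
theorem D45624 : act 8 n31271 = n45624 := rfl
theorem F189903 : act 2 n45624 = n31290 := d22_1 D45624 (iv D31290) (iv F132234)
theorem F189906 : act 9 n45624 = n31612 := d44_2 D31271 D45624 (iv D31612) (iv D21690) (iv F92262)
def n45625 : Q := act 3 n31272
theorem D45625 : act 3 n31272 = n45625 := rfl
theorem F189907 : act 2 n45625 = n31447 := d17_1 D45625 (iv D31447) F92668 (iv F92267) (iv F132237)
theorem F189909 : act 9 n45625 = n31613 := d29_2 (iv F132240) D45625 (iv D31613)
def n45626 : Q := act 2 n31273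
theorem D45626 : act 2 n31273 = n45626 := rfl
theorem F189912 : act 6 n45626 = n31275 := d20_2 (iv F132243) D45626 (iv D31275)
theorem F189913 : act 8 n45626 = n31614 := d22_2 (iv F132244) D45626 (iv D31614)
def n45627 : Q := act 4 n31273
theorem D45627 : act 4 n31273 = n45627 := rfl
theorem F189915 : act 6 n45627 = n31276 := d31_2 (iv F132243) D45627 (iv D31276)
theorem F189916 : act 8 n45627 = n31615 := d33_2 (iv F132244) D45627 (iv D31615)
def n45628 : Q := act 9 n31273
theorem D45628 : act 9 n31273 = n45628 := rfl
theorem F189917 : act 0 n45628 = n45628 := d8_1 D45628 (iv D45628) F132241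
theorem F189918 : act 3 n45628 = n31274 := d29_1 D45628 (iv D31274) D31273
theorem F189919 : act 5 n45628 = n45628 := d38_1 D45628 (iv D45628) F132242
theorem F189920 : act 6 n45628 = n31277 := d41_1 D45628 (iv D31277) (iv F132243)
def n45629 : Q := act 1 n31275
theorem D45629 : act 1 n31275 = n45629 := rfl
theorem F189921 : act 5 n45629 = n31283 := d12_2 (iv F132250) D45629 (iv D31283)
theorem F189922 : act 7 n45629 = n31278 := d14_2 (iv F132251) D45629 (iv D31278)
theorem F189923 : act 8 n45629 = n31617 := d15_2 (iv F132252) D45629 (iv D31617)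
def n45630 : Q := act 4 n31275
theorem D45630 : act 4 n31275 = n45630 := rfl
theorem F189925 : act 2 n45630 = n31276 := d18_1 D45630 (iv D31276) D31275
theorem F189927 : act 7 n45630 = n31279 := d32_2 (iv F132251) D45630 (iv D31279)
theorem F189928 : act 8 n45630 = n31618 := d33_2 (iv F132252) D45630 (iv D31618)
def n45631 : Q := act 9 n31275
theorem D45631 : act 9 n31275 = n45631 := rfl
theorem F189929 : act 0 n45631 = n45631 := d8_1 D45631 (iv D45631) F132249
theorem F189930 : act 2 n45631 = n31277 := d23_1 D45631 (iv D31277) D31275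
theorem F189931 : act 5 n45631 = n31284 := d38_1 D45631 (iv D31284) (iv F132250)
theorem F189932 : act 7 n45631 = n31280 := d43_1 D45631 (iv D31280) (iv F132251)
def n45632 : Q := act 9 n31276
theorem D45632 : act 9 n31276 = n45632 := rfl
theorem F189933 : act 0 n45632 = n45632 := d8_1 D45632 (iv D45632) F132253
theorem F189934 : act 4 n45632 = n31277 := d34_1 D45632 (iv D31277) D31276
theorem F189935 : act 5 n45632 = n45632 := d38_1 D45632 (iv D45632) F132254
theorem F189936 : act 7 n45632 = n31281 := d43_1 D45632 (iv D31281) (iv F132255)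
def n45633 : Q := act 8 n31277
theorem D45633 : act 8 n31277 = n45633 := rfl
theorem F189937 : act 0 n45633 = n45633 := d7_1 D45633 (iv D45633) F132257
theorem F189938 : act 3 n45633 = n31455 := d28_1 D45633 (iv D31455) F92688 (iv F92281) (iv F132258)
theorem F189939 : act 5 n45633 = n31285 := d37_1 D45633 (iv D31285) (iv F132259)
theorem F189940 : act 7 n45633 = n31282 := d42_1 D45633 (iv D31282) (iv F132260)
def n45634 : Q := act 0 n31278
theorem D45634 : act 0 n31278 = n45634 := rfl
theorem F189942 : act 1 n45634 = n45634 := d0_2 D31278 D45634 (iv D45634) (iv D31278) F92282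
theorem F189943 : act 5 n45634 = n31286 := d4_2 (iv F132261) D45634 (iv D31286)
theorem F189944 : act 8 n45634 = n31622 := d7_2 (iv F132262) D45634 (iv D31622)
def n45635 : Q := act 4 n31278
theorem D45635 : act 4 n31278 = n45635 := rfl
theorem F189945 : act 1 n45635 = n31279 := d11_1 D45635 (iv D31279) D31278
theorem F189946 : act 5 n45635 = n45635 := d30_2 (iv F132261) D45635 (iv D45635) F132261 F92301
theorem F189947 : act 8 n45635 = n31623 := d33_2 (iv F132262) D45635 (iv D31623)
def n45636 : Q := act 9 n31278
theorem D45636 : act 9 n31278 = n45636 := rfl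
theorem F189948 : act 1 n45636 = n31280 := d16_1 D45636 (iv D31280) D31278
theorem F189949 : act 5 n45636 = n31287 := d38_1 D45636 (iv D31287) (iv F132261)
def n45637 : Q := act 3 n31279
theorem D45637 : act 3 n31279 = n45637 := rfl
def n45638 : Q := act 9 n31279
theorem D45638 : act 9 n31279 = n45638 := rfl
theorem F189952 : act 0 n45638 = n45638 := d8_1 D45638 (iv D45638) F132263
theorem F189953 : act 2 n45638 = n31281 := d23_1 D45638 (iv D31281) (iv F132264)
theorem F189954 : act 4 n45638 = n31280 := d34_1 D45638 (iv D31280) D31279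
theorem F189955 : act 5 n45638 = n45638 := d38_1 D45638 (iv D45638) F132265
def n45639 : Q := act 8 n31280
theorem D45639 : act 8 n31280 = n45639 := rfl
theorem F189956 : act 0 n45639 = n45639 := d7_1 D45639 (iv D45639) F132267
theorem F189957 : act 2 n45639 = n31282 := d22_1 D45639 (iv D31282) (iv F132268)
theorem F189958 : act 5 n45639 = n31288 := d37_1 D45639 (iv D31288) (iv F132269)
theorem F189959 : act 9 n45639 = n31627 := d44_2 D31280 D45639 (iv D31627) (iv D21699) (iv F92284)
def n45640 : Q := act 8 n31281
theorem D45640 : act 8 n31281 = n45640 := rfl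
theorem F189960 : act 0 n45640 = n45640 := d7_1 D45640 (iv D45640) F132270
theorem F189961 : act 4 n45640 = n31282 := d33_1 D45640 (iv D31282) (iv F132271)
theorem F189962 : act 5 n45640 = n45640 := d37_1 D45640 (iv D45640) F132272
theorem F189963 : act 9 n45640 = n31628 := d44_2 D31281 D45640 (iv D31628) (iv D21700) (iv F92287)
def n45641 : Q := act 0 n31283
theorem D45641 : act 0 n31283 = n45641 := rfl
theorem F189964 : act 1 n45641 = n45641 := d0_2 D31283 D45641 (iv D45641) (iv D31283) F92291
theorem F189965 : act 4 n45641 = n45641 := d3_2 F132277 D45641 (iv D45641)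
theorem F189966 : act 6 n45641 = n45641 := d5_2 F132278 D45641 (iv D45641)
theorem F189967 : act 7 n45641 = n31286 := d6_2 (iv F132279) D45641 (iv D31286)
theorem F189968 : act 8 n45641 = n31629 := d7_2 (iv F132280) D45641 (iv D31629)
def n45642 : Q := act 9 n31283
theorem D45642 : act 9 n31283 = n45642 := rfl
theorem F189969 : act 1 n45642 = n31284 := d16_1 D45642 (iv D31284) D31283
theorem F189970 : act 4 n45642 = n45642 := d34_1 D45642 (iv D45642) F132277
theorem F189971 : act 6 n45642 = n45642 := d41_1 D45642 (iv D45642) F132278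
theorem F189972 : act 7 n45642 = n31287 := d43_1 D45642 (iv D31287) (iv F132279)
def n45643 : Q := act 8 n31284
theorem D45643 : act 8 n31284 = n45643 := rfl
theorem F189973 : act 0 n45643 = n45643 := d7_1 D45643 (iv D45643) F132281
theorem F189974 : act 2 n45643 = n31285 := d22_1 D45643 (iv D31285) (iv F132282)
theorem F189975 : act 4 n45643 = n45643 := d33_1 D45643 (iv D45643) F132283
theorem F189976 : act 6 n45643 = n45643 := d40_1 D45643 (iv D45643) F132284
theorem F189977 : act 7 n45643 = n31288 := d42_1 D45643 (iv D31288) (iv F132285)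
theorem F189978 : act 9 n45643 = n31631 := d44_2 D31284 D45643 (iv D31631) (iv D21703) (iv F92295)
def n45644 : Q := act 9 n31286
theorem D45644 : act 9 n31286 = n45644 := rfl
theorem F189979 : act 0 n45644 = n31287 := d8_1 D45644 (iv D31287) D31286
theorem F189980 : act 1 n45644 = n45644 := d16_1 D45644 (iv D45644) F132292
theorem F189981 : act 4 n45644 = n45644 := d34_1 D45644 (iv D45644) F132293
theorem F189982 : act 6 n45644 = n31289 := d41_1 D45644 (iv D31289) (iv F132294)
def n45645 : Q := act 8 n31287
theorem D45645 : act 8 n31287 = n45645 := rfl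
theorem F189983 : act 1 n45645 = n31288 := d15_1 D45645 (iv D31288) (iv F132296)
theorem F189984 : act 4 n45645 = n45645 := d33_1 D45645 (iv D45645) F132297
theorem F189985 : act 6 n45645 = n31290 := d40_1 D45645 (iv D31290) (iv F132298)
theorem F189986 : act 9 n45645 = n31633 := d44_2 D31287 D45645 (iv D31633) (iv D21706) (iv F92303)
def n45646 : Q := act 3 n31288
theorem D45646 : act 3 n31288 = n45646 := rfl
theorem F189987 : act 0 n45646 = n45646 := d2_1 D45646 (iv D45646) F132299
theorem F189988 : act 2 n45646 = n31468 := d17_1 D45646 (iv D31468) F92728 (iv F92309) (iv F132300)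
theorem F189989 : act 6 n45646 = n31291 := d26_2 (iv F132302) D45646 (iv D31291)
theorem F189990 : act 9 n45646 = n31634 := d29_2 (iv F132303) D45646 (iv D31634)
def n45647 : Q := act 8 n31289
theorem D45647 : act 8 n31289 = n45647 := rfl
theorem F189991 : act 0 n45647 = n31290 := d7_1 D45647 (iv D31290) (iv F132304)
theorem F189992 : act 1 n45647 = n45647 := d15_1 D45647 (iv D45647) F132305
theorem F189993 : act 4 n45647 = n45647 := d33_1 D45647 (iv D45647) F132306
theorem F189994 : act 7 n45647 = n45647 := d42_1 D45647 (iv D45647) F132307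
theorem F189995 : act 9 n45647 = n31635 := d44_2 D31289 D45647 (iv D31635) (iv D21708) (iv F92316)
def n45648 : Q := act 3 n31290
theorem D45648 : act 3 n31290 = n45648 := rfl
theorem F189996 : act 1 n45648 = n31291 := d10_1 D45648 (iv D31291) (iv F132308)
theorem F189997 : act 7 n45648 = n45648 := d27_2 F132310 D45648 (iv D45648)
theorem F189998 : act 9 n45648 = n31636 := d29_2 (iv F132311) D45648 (iv D31636)
def n45649 : Q := act 4 n31291
theorem D45649 : act 4 n31291 = n45649 := rfl
theorem F189999 : act 0 n45649 = n45649 := d3_1 D45649 (iv D45649) F132312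
theorem F190000 : act 2 n45649 = n31471 := d18_1 D45649 (iv D31471) (iv F132313)
theorem F190001 : act 3 n45649 = n45649 := d24_1 D45649 (iv D45649) (iv D31291) F92322 D31291
theorem F190002 : act 7 n45649 = n45649 := d32_2 F132314 D45649 (iv D45649)
theorem F190003 : act 9 n45649 = n31637 := d34_2 (iv F132315) D45649 (iv D31637)
def n45650 : Q := act 5 n31292
theorem D45650 : act 5 n31292 = n45650 := rfl
theorem F190005 : act 2 n45650 = n31294 := d19_1 D45650 (iv D31294) (iv F132317)
def n45651 : Q := act 7 n31292
theorem D45651 : act 7 n31292 = n45651 := rfl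
theorem F190007 : act 1 n45651 = n31639 := d14_1 D45651 (iv D31639) (iv F132316)
theorem F190008 : act 2 n45651 = n31295 := d21_1 D45651 (iv D31295) (iv F132317)
def n45652 : Q := act 8 n31292
theorem D45652 : act 8 n31292 = n45652 := rfl
theorem F190013 : act 2 n45652 = n31296 := d22_1 D45652 (iv D31296) (iv F132317)
theorem F190014 : act 4 n45652 = n34594 := d33_1 D45652 (iv D34594) (iv F132319)
def n45654 : Q := act 9 n31293
theorem D45654 : act 9 n31293 = n45654 := rfl
theorem F190020 : act 2 n45654 = n31298 := d23_1 D45654 (iv D31298) (iv F132321)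
theorem F190021 : act 4 n45654 = n34596 := d34_1 D45654 (iv D34596) (iv F132322)
def n45655 : Q := act 4 n31294
theorem D45655 : act 4 n31294 = n45655 := rfl
theorem F190023 : act 1 n45655 = n31324 := d11_1 D45655 (iv D31324) (iv F132324)
theorem F190024 : act 5 n45655 = n34597 := d30_2 D31294 D45655 (iv D34597) (iv D23732) (iv F92331)
def n45656 : Q := act 7 n31294
theorem D45656 : act 7 n31294 = n45656 := rfl
theorem F190025 : act 1 n45656 = n31325 := d14_1 D45656 (iv D31325) (iv F132324)
theorem F190026 : act 3 n45656 = n31299 := d27_1 D45656 (iv D31299) (iv F132325)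
theorem F190027 : act 5 n45656 = n31295 := d36_1 D45656 (iv D31295) D31294
def n45657 : Q := act 8 n31294
theorem D45657 : act 8 n31294 = n45657 := rfl
theorem F190028 : act 1 n45657 = n31326 := d15_1 D45657 (iv D31326) (iv F132324)
theorem F190029 : act 5 n45657 = n31296 := d37_1 D45657 (iv D31296) D31294
def n45658 : Q := act 8 n31295
theorem D45658 : act 8 n31295 = n45658 := rfl
theorem F190030 : act 1 n45658 = n31327 := d15_1 D45658 (iv D31327) (iv F132326)
theorem F190031 : act 4 n45658 = n34600 := d33_1 D45658 (iv D34600) (iv F132328)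
theorem F190032 : act 6 n45658 = n45658 := d40_1 D45658 (iv D45658) F132329
theorem F190033 : act 7 n45658 = n31296 := d42_1 D45658 (iv D31296) D31295
def n45659 : Q := act 3 n31296
theorem D45659 : act 3 n31296 = n45659 := rfl
theorem F190034 : act 1 n45659 = n31328 := d10_1 D45659 (iv D31328) (iv F132330)
def n45660 : Q := act 9 n31296
theorem D45660 : act 9 n31296 = n45660 := rfl
theorem F190037 : act 1 n45660 = n31329 := d16_1 D45660 (iv D31329) (iv F132330)
theorem F190038 : act 4 n45660 = n34602 := d34_1 D45660 (iv D34602) (iv F132331)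
theorem F190039 : act 6 n45660 = n31298 := d41_1 D45660 (iv D31298) (iv F132332)
def n45663 : Q := act 9 n31297
theorem D45663 : act 9 n31297 = n45663 := rfl
theorem F190046 : act 1 n45663 = n31332 := d16_1 D45663 (iv D31332) (iv F132333)
theorem F190047 : act 3 n45663 = n31298 := d29_1 D45663 (iv D31298) D31297
def n45664 : Q := act 6 n31299
theorem D45664 : act 6 n31299 = n45664 := rfl
theorem F190049 : act 1 n45664 = n31333 := d13_1 D45664 (iv D31333) (iv F132339)
theorem F190050 : act 2 n45664 = n45664 := d20_1 D45664 (iv D45664) F132340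
theorem F190051 : act 5 n45664 = n45664 := d35_1 D45664 (iv D45664) F132341 F92340 (iv F132341)
def n45665 : Q := act 8 n31299
theorem D45665 : act 8 n31299 = n45665 := rfl
theorem F190052 : act 1 n45665 = n31334 := d15_1 D45665 (iv D31334) (iv F132339)
theorem F190054 : act 5 n45665 = n31301 := d37_1 D45665 (iv D31301) (iv F132341)
def n45666 : Q := act 3 n31300
theorem D45666 : act 3 n31300 = n45666 := rfl
theorem F190056 : act 1 n45666 = n31335 := d10_1 D45666 (iv D31335) (iv F132342)
def n45667 : Q := act 9 n31300
theorem D45667 : act 9 n31300 = n45667 := rfl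
theorem F190058 : act 1 n45667 = n31336 := d16_1 D45667 (iv D31336) (iv F132342)
def n45668 : Q := act 3 n31301
theorem D45668 : act 3 n31301 = n45668 := rfl
theorem F190061 : act 1 n45668 = n31337 := d10_1 D45668 (iv D31337) (iv F132345)
def n45669 : Q := act 9 n31301
theorem D45669 : act 9 n31301 = n45669 := rfl
theorem F190064 : act 1 n45669 = n31338 := d16_1 D45669 (iv D31338) (iv F132345)
def n45672 : Q := act 9 n31302
theorem D45672 : act 9 n31302 = n45672 := rfl
theorem F190074 : act 1 n45672 = n31341 := d16_1 D45672 (iv D31341) (iv F132350)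
def n45673 : Q := act 1 n31304
theorem D45673 : act 1 n31304 = n45673 := rfl
theorem F190077 : act 2 n45673 = n31342 := d9_2 D31304 D45673 (iv D31342) (iv D21503) (iv F92345)
def n45678 : Q := act 8 n31306
theorem D45678 : act 8 n31306 = n45678 := rfl
theorem F190092 : act 1 n45678 = n31347 := d15_1 D45678 (iv D31347) (iv F132361)
def n45705 : Q := act 7 n31324
theorem D45705 : act 7 n31324 = n45705 := rfl
theorem F190190 : act 0 n45705 = n31374 := d6_1 D45705 (iv D31374) (iv F132426)
theorem F190192 : act 4 n45705 = n31325 := d32_1 D45705 (iv D31325) D31324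
theorem F190193 : act 5 n45705 = n34646 := d36_1 D45705 (iv D34646) (iv F132428)
def n45706 : Q := act 8 n31324
theorem D45706 : act 8 n31324 = n45706 := rfl
theorem F190194 : act 0 n45706 = n31375 := d7_1 D45706 (iv D31375) (iv F132426)
theorem F190195 : act 2 n45706 = n31663 := d22_1 D45706 (iv D31663) (iv F132427)
theorem F190196 : act 4 n45706 = n31326 := d33_1 D45706 (iv D31326) D31324
theorem F190197 : act 5 n45706 = n34647 := d37_1 D45706 (iv D34647) (iv F132428)
def n45707 : Q := act 6 n31325
theorem D45707 : act 6 n31325 = n45707 := rfl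
theorem F190198 : act 0 n45707 = n31376 := d5_1 D45707 (iv D31376) (iv F132429)
theorem F190199 : act 2 n45707 = n31664 := d20_1 D45707 (iv D31664) (iv F132430)
theorem F190200 : act 3 n45707 = n31333 := d26_1 D45707 (iv D31333) (iv F132431)
theorem F190201 : act 5 n45707 = n45707 := d35_1 D45707 (iv D45707) F132432 F92397 (iv F132432)
def n45708 : Q := act 8 n31325
theorem D45708 : act 8 n31325 = n45708 := rfl
theorem F190202 : act 0 n45708 = n31377 := d7_1 D45708 (iv D31377) (iv F132429)
theorem F190203 : act 2 n45708 = n31665 := d22_1 D45708 (iv D31665) (iv F132430)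
theorem F190204 : act 5 n45708 = n31327 := d37_1 D45708 (iv D31327) (iv F132432)
theorem F190205 : act 7 n45708 = n31326 := d42_1 D45708 (iv D31326) D31325
def n45709 : Q := act 3 n31326
theorem D45709 : act 3 n31326 = n45709 := rfl
theorem F190206 : act 0 n45709 = n31378 := d2_1 D45709 (iv D31378) (iv F132433)
theorem F190207 : act 5 n45709 = n31328 := d25_2 (iv F132435) D45709 (iv D31328)
theorem F190208 : act 8 n45709 = n31335 := d28_2 D31326 D45709 (iv D31335) (iv D21499) (iv F92392)
def n45710 : Q := act 9 n31326
theorem D45710 : act 9 n31326 = n45710 := rfl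
theorem F190209 : act 0 n45710 = n31379 := d8_1 D45710 (iv D31379) (iv F132433)
theorem F190210 : act 2 n45710 = n31667 := d23_1 D45710 (iv D31667) (iv F132434)
theorem F190211 : act 5 n45710 = n31329 := d38_1 D45710 (iv D31329) (iv F132435)
def n45711 : Q := act 3 n31327
theorem D45711 : act 3 n31327 = n45711 := rfl
theorem F190212 : act 0 n45711 = n31380 := d2_1 D45711 (iv D31380) (iv F132436)
theorem F190213 : act 6 n45711 = n45711 := d26_2 F132439 D45711 (iv D45711)
theorem F190214 : act 7 n45711 = n31328 := d27_2 (iv F132440) D45711 (iv D31328)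
theorem F190215 : act 8 n45711 = n31337 := d28_2 D31327 D45711 (iv D31337) (iv D21500) (iv F92395)
def n45712 : Q := act 9 n31327
theorem D45712 : act 9 n31327 = n45712 := rfl
theorem F190216 : act 0 n45712 = n31381 := d8_1 D45712 (iv D31381) (iv F132436)
theorem F190217 : act 2 n45712 = n31669 := d23_1 D45712 (iv D31669) (iv F132437)
theorem F190218 : act 4 n45712 = n34653 := d34_1 D45712 (iv D34653) (iv F132438)
theorem F190219 : act 6 n45712 = n45712 := d41_1 D45712 (iv D45712) F132439
theorem F190220 : act 7 n45712 = n31329 := d43_1 D45712 (iv D31329) (iv F132440)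
def n45713 : Q := act 2 n31328
theorem D45713 : act 2 n31328 = n45713 := rfl
theorem F190221 : act 0 n45713 = n31382 := d1_1 D45713 (iv D31382) (iv F132441)
theorem F190223 : act 6 n45713 = n31330 := d20_2 (iv F132442) D45713 (iv D31330)
theorem F190224 : act 8 n45713 = n31339 := d22_2 (iv F132443) D45713 (iv D31339)
def n45714 : Q := act 4 n31328
theorem D45714 : act 4 n31328 = n45714 := rfl
theorem F190225 : act 0 n45714 = n31383 := d3_1 D45714 (iv D31383) (iv F132441)
theorem F190228 : act 8 n45714 = n31340 := d33_2 (iv F132443) D45714 (iv D31340)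
def n45715 : Q := act 9 n31328
theorem D45715 : act 9 n31328 = n45715 := rfl
theorem F190229 : act 0 n45715 = n31384 := d8_1 D45715 (iv D31384) (iv F132441)
theorem F190230 : act 3 n45715 = n31329 := d29_1 D45715 (iv D31329) D31328
theorem F190231 : act 6 n45715 = n31332 := d41_1 D45715 (iv D31332) (iv F132442)
def n45716 : Q := act 1 n31330
theorem D45716 : act 1 n31330 = n45716 := rfl
theorem F190234 : act 8 n45716 = n31342 := d15_2 (iv F132451) D45716 (iv D31342)
def n45717 : Q := act 4 n31330
theorem D45717 : act 4 n31330 = n45717 := rfl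
theorem F190235 : act 0 n45717 = n31386 := d3_1 D45717 (iv D31386) (iv F132448)
theorem F190236 : act 2 n45717 = n31331 := d18_1 D45717 (iv D31331) D31330
def n45718 : Q := act 9 n31330
theorem D45718 : act 9 n31330 = n45718 := rfl
theorem F190240 : act 0 n45718 = n31387 := d8_1 D45718 (iv D31387) (iv F132448)
theorem F190241 : act 2 n45718 = n31332 := d23_1 D45718 (iv D31332) D31330
def n45719 : Q := act 5 n31331
theorem D45719 : act 5 n31331 = n45719 := rfl
theorem F190244 : act 0 n45719 = n31388 := d4_1 D45719 (iv D31388) (iv F132452)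
theorem F190245 : act 3 n45719 = n34656 := d25_1 D45719 (iv D34656) (iv F132453)
def n45720 : Q := act 9 n31331
theorem D45720 : act 9 n31331 = n45720 := rfl
theorem F190248 : act 0 n45720 = n31389 := d8_1 D45720 (iv D31389) (iv F132452)
theorem F190250 : act 4 n45720 = n31332 := d34_1 D45720 (iv D31332) D31331
def n45721 : Q := act 8 n31332
theorem D45721 : act 8 n31332 = n45721 := rfl
theorem F190252 : act 0 n45721 = n31390 := d7_1 D45721 (iv D31390) (iv F132456)
theorem F190253 : act 7 n45721 = n45721 := d42_1 D45721 (iv D45721) F132458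
theorem F190254 : act 9 n45721 = n31347 := d44_2 D31332 D45721 (iv D31347) (iv D21505) (iv F92404)
def n45722 : Q := act 8 n31333
theorem D45722 : act 8 n31333 = n45722 := rfl
theorem F190255 : act 0 n45722 = n31391 := d7_1 D45722 (iv D31391) (iv F132459)
theorem F190256 : act 2 n45722 = n31360 := d22_1 D45722 (iv D31360) (iv F132460)
theorem F190257 : act 5 n45722 = n45722 := d37_1 D45722 (iv D45722) F132461
theorem F190258 : act 6 n45722 = n31334 := d40_1 D45722 (iv D31334) D31333
def n45723 : Q := act 3 n31334
theorem D45723 : act 3 n31334 = n45723 := rfl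
theorem F190259 : act 0 n45723 = n31392 := d2_1 D45723 (iv D31392) (iv F132462)
theorem F190260 : act 5 n45723 = n31337 := d25_2 (iv F132464) D45723 (iv D31337)
theorem F190261 : act 7 n45723 = n31335 := d27_2 (iv F132465) D45723 (iv D31335)
def n45724 : Q := act 9 n31334
theorem D45724 : act 9 n31334 = n45724 := rfl
theorem F190262 : act 0 n45724 = n31393 := d8_1 D45724 (iv D31393) (iv F132462)
theorem F190263 : act 2 n45724 = n31362 := d23_1 D45724 (iv D31362) (iv F132463)
theorem F190264 : act 5 n45724 = n31338 := d38_1 D45724 (iv D31338) (iv F132464)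
theorem F190265 : act 7 n45724 = n31336 := d43_1 D45724 (iv D31336) (iv F132465)
def n45725 : Q := act 2 n31335
theorem D45725 : act 2 n31335 = n45725 := rfl
theorem F190266 : act 0 n45725 = n31394 := d1_1 D45725 (iv D31394) (iv F132466)
theorem F190267 : act 3 n45725 = n31363 := d17_2 D31335 D45725 (iv D31363) (iv D21518) (iv F92413)
theorem F190268 : act 5 n45725 = n31339 := d19_2 (iv F132467) D45725 (iv D31339)
def n45726 : Q := act 4 n31335
theorem D45726 : act 4 n31335 = n45726 := rfl
theorem F190269 : act 0 n45726 = n31395 := d3_1 D45726 (iv D31395) (iv F132466)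
def n45727 : Q := act 9 n31335
theorem D45727 : act 9 n31335 = n45727 := rfl
theorem F190270 : act 0 n45727 = n31396 := d8_1 D45727 (iv D31396) (iv F132466)
theorem F190271 : act 3 n45727 = n31336 := d29_1 D45727 (iv D31336) D31335
theorem F190272 : act 5 n45727 = n31341 := d38_1 D45727 (iv D31341) (iv F132467)
def n45728 : Q := act 2 n31337
theorem D45728 : act 2 n31337 = n45728 := rfl
theorem F190273 : act 0 n45728 = n31397 := d1_1 D45728 (iv D31397) (iv F132471)
theorem F190274 : act 3 n45728 = n31366 := d17_2 D31337 D45728 (iv D31366) (iv D21520) (iv F92416)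
theorem F190275 : act 6 n45728 = n45728 := d20_2 F132472 D45728 (iv D45728)
theorem F190276 : act 7 n45728 = n31339 := d21_2 (iv F132473) D45728 (iv D31339)
def n45729 : Q := act 4 n31337
theorem D45729 : act 4 n31337 = n45729 := rfl
theorem F190277 : act 0 n45729 = n31398 := d3_1 D45729 (iv D31398) (iv F132471)
theorem F190278 : act 3 n45729 = n31348 := d24_1 D45729 (iv D31348) (iv D21506) (iv F92417) D31337
theorem F190280 : act 7 n45729 = n31340 := d32_2 (iv F132473) D45729 (iv D31340)
def n45730 : Q := act 9 n31337
theorem D45730 : act 9 n31337 = n45730 := rfl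
theorem F190281 : act 0 n45730 = n31399 := d8_1 D45730 (iv D31399) (iv F132471)
theorem F190282 : act 3 n45730 = n31338 := d29_1 D45730 (iv D31338) D31337
theorem F190283 : act 6 n45730 = n45730 := d41_1 D45730 (iv D45730) F132472
theorem F190284 : act 7 n45730 = n31341 := d43_1 D45730 (iv D31341) (iv F132473)
def n45731 : Q := act 1 n31339
theorem D45731 : act 1 n31339 = n45731 := rfl
theorem F190285 : act 3 n45731 = n31368 := d10_2 (iv F132480) D45731 (iv D31368)
theorem F190286 : act 6 n45731 = n31342 := d13_2 (iv F132481) D45731 (iv D31342)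
def n45732 : Q := act 4 n31339
theorem D45732 : act 4 n31339 = n45732 := rfl
theorem F190287 : act 0 n45732 = n31401 := d3_1 D45732 (iv D31401) (iv F132479)
theorem F190288 : act 2 n45732 = n31340 := d18_1 D45732 (iv D31340) D31339
def n45733 : Q := act 9 n31339
theorem D45733 : act 9 n31339 = n45733 := rfl
theorem F190291 : act 0 n45733 = n31402 := d8_1 D45733 (iv D31402) (iv F132479)
theorem F190292 : act 2 n45733 = n31341 := d23_1 D45733 (iv D31341) D31339
theorem F190293 : act 3 n45733 = n31369 := d29_1 D45733 (iv D31369) (iv F132480)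
theorem F190294 : act 6 n45733 = n31344 := d41_1 D45733 (iv D31344) (iv F132481)
def n45734 : Q := act 5 n31340
theorem D45734 : act 5 n31340 = n45734 := rfl
theorem F190295 : act 0 n45734 = n31403 := d4_1 D45734 (iv D31403) (iv F132482)
theorem F190296 : act 3 n45734 = n31350 := d25_1 D45734 (iv D31350) (iv F132483)
def n45735 : Q := act 9 n31340
theorem D45735 : act 9 n31340 = n45735 := rfl
theorem F190297 : act 0 n45735 = n31404 := d8_1 D45735 (iv D31404) (iv F132482)
theorem F190299 : act 4 n45735 = n31341 := d34_1 D45735 (iv D31341) D31340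
def n45736 : Q := act 8 n31341
theorem D45736 : act 8 n31341 = n45736 := rfl
theorem F190301 : act 0 n45736 = n31405 := d7_1 D45736 (iv D31405) (iv F132485)
theorem F190302 : act 6 n45736 = n31347 := d40_1 D45736 (iv D31347) (iv F132487)
def n45737 : Q := act 0 n31342
theorem D45737 : act 0 n31342 = n45737 := rfl
theorem F190303 : act 1 n45737 = n31406 := d0_2 D31342 D45737 (iv D31406) (iv D21545) (iv F92426)
theorem F190304 : act 3 n45737 = n31371 := d2_2 (iv F132488) D45737 (iv D31371)
theorem F190305 : act 7 n45737 = n45737 := d6_2 F132489 D45737 (iv D45737)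
def n45738 : Q := act 4 n31342
theorem D45738 : act 4 n31342 = n45738 := rfl
theorem F190306 : act 1 n45738 = n31343 := d11_1 D45738 (iv D31343) D31342
def n45739 : Q := act 9 n31342
theorem D45739 : act 9 n31342 = n45739 := rfl
theorem F190309 : act 1 n45739 = n31344 := d16_1 D45739 (iv D31344) D31342
theorem F190310 : act 3 n45739 = n31372 := d29_1 D45739 (iv D31372) (iv F132488)
theorem F190311 : act 7 n45739 = n45739 := d43_1 D45739 (iv D45739) F132489
def n45740 : Q := act 5 n31343
theorem D45740 : act 5 n31343 = n45740 := rfl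
theorem F190312 : act 0 n45740 = n31409 := d4_1 D45740 (iv D31409) (iv F132490)
theorem F190313 : act 2 n45740 = n31345 := d19_1 D45740 (iv D31345) (iv F132491)
def n45741 : Q := act 9 n31343
theorem D45741 : act 9 n31343 = n45741 := rfl
theorem F190316 : act 0 n45741 = n31410 := d8_1 D45741 (iv D31410) (iv F132490)
theorem F190317 : act 2 n45741 = n31346 := d23_1 D45741 (iv D31346) (iv F132491)
theorem F190319 : act 4 n45741 = n31344 := d34_1 D45741 (iv D31344) D31343
def n45742 : Q := act 8 n31344
theorem D45742 : act 8 n31344 = n45742 := rfl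
theorem F190321 : act 0 n45742 = n31411 := d7_1 D45742 (iv D31411) (iv F132494)
theorem F190322 : act 2 n45742 = n31347 := d22_1 D45742 (iv D31347) (iv F132495)
theorem F190323 : act 7 n45742 = n45742 := d42_1 D45742 (iv D45742) F132497
def n45743 : Q := act 6 n31345
theorem D45743 : act 6 n31345 = n45743 := rfl
theorem F190324 : act 0 n45743 = n31412 := d5_1 D45743 (iv D31412) (iv F132498)
theorem F190325 : act 3 n45743 = n31353 := d26_1 D45743 (iv D31353) (iv F132499)
def n45744 : Q := act 9 n31345
theorem D45744 : act 9 n31345 = n45744 := rfl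
theorem F190326 : act 0 n45744 = n31413 := d8_1 D45744 (iv D31413) (iv F132498)
theorem F190327 : act 3 n45744 = n31354 := d29_1 D45744 (iv D31354) (iv F132499)
def n45745 : Q := act 8 n31346
theorem D45745 : act 8 n31346 = n45745 := rfl
theorem F190330 : act 0 n45745 = n31414 := d7_1 D45745 (iv D31414) (iv F132501)
theorem F190331 : act 4 n45745 = n31347 := d33_1 D45745 (iv D31347) (iv F132503)
def n45746 : Q := act 5 n31348
theorem D45746 : act 5 n31348 = n45746 := rfl
theorem F190333 : act 0 n45746 = n31415 := d4_1 D45746 (iv D31415) (iv F132507)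
def n45747 : Q := act 9 n31348
theorem D45747 : act 9 n31348 = n45747 := rfl
theorem F190337 : act 0 n45747 = n31416 := d8_1 D45747 (iv D31416) (iv F132507)
def n45749 : Q := act 6 n31350
theorem D45749 : act 6 n31350 = n45749 := rfl
theorem F190347 : act 0 n45749 = n31418 := d5_1 D45749 (iv D31418) (iv F132517)
def n45750 : Q := act 9 n31350
theorem D45750 : act 9 n31350 = n45750 := rfl
theorem F190351 : act 0 n45750 = n31419 := d8_1 D45750 (iv D31419) (iv F132517)
def n45752 : Q := act 7 n31353
theorem D45752 : act 7 n31353 = n45752 := rfl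
theorem F190359 : act 0 n45752 = n31421 := d6_1 D45752 (iv D31421) (iv F132528)
theorem F190363 : act 8 n45752 = n34678 := d42_2 (iv F132531) D45752 (iv D34678)
def n45753 : Q := act 9 n31353
theorem D45753 : act 9 n31353 = n45753 := rfl
theorem F190364 : act 0 n45753 = n31422 := d8_1 D45753 (iv D31422) (iv F132528)
def n45754 : Q := act 8 n31354
theorem D45754 : act 8 n31354 = n45754 := rfl
theorem F190373 : act 9 n45754 = n34680 := d44_2 D31354 D45754 (iv D34680) (iv D23787) (iv F92456)
def n45756 : Q := act 9 n31356
theorem D45756 : act 9 n31356 = n45756 := rfl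
theorem F190377 : act 0 n45756 = n31425 := d8_1 D45756 (iv D31425) (iv F132542)
def n45757 : Q := act 8 n31357
theorem D45757 : act 8 n31357 = n45757 := rfl
theorem F190384 : act 9 n45757 = n34683 := d44_2 D31357 D45757 (iv D34683) (iv D23790) (iv F92468)
def n45760 : Q := act 3 n31360
theorem D45760 : act 3 n31360 = n45760 := rfl
theorem F190393 : act 0 n45760 = n31429 := d2_1 D45760 (iv D31429) (iv F132557)
theorem F190394 : act 1 n45760 = n45760 := d10_1 D45760 (iv D45760) F132558
theorem F190395 : act 5 n45760 = n45760 := d25_2 F132559 D45760 (iv D45760)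
theorem F190396 : act 6 n45760 = n31361 := d26_2 (iv F132560) D45760 (iv D31361)
theorem F190397 : act 8 n45760 = n31689 := d28_2 D31360 D45760 (iv D31689) (iv D21745) (iv F92480)
def n45761 : Q := act 9 n31360
theorem D45761 : act 9 n31360 = n45761 := rfl
theorem F190398 : act 0 n45761 = n31430 := d8_1 D45761 (iv D31430) (iv F132557)
theorem F190399 : act 1 n45761 = n45761 := d16_1 D45761 (iv D45761) F132558
theorem F190400 : act 5 n45761 = n45761 := d38_1 D45761 (iv D45761) F132559
theorem F190401 : act 6 n45761 = n31362 := d41_1 D45761 (iv D31362) (iv F132560)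
def n45762 : Q := act 2 n31361
theorem D45762 : act 2 n31361 = n45762 := rfl
theorem F190402 : act 0 n45762 = n31431 := d1_1 D45762 (iv D31431) (iv F132561)
theorem F190403 : act 5 n45762 = n31366 := d19_2 (iv F132563) D45762 (iv D31366)
theorem F190404 : act 7 n45762 = n31363 := d21_2 (iv F132564) D45762 (iv D31363)
theorem F190405 : act 8 n45762 = n31691 := d22_2 (iv F132565) D45762 (iv D31691)
def n45763 : Q := act 4 n31361
theorem D45763 : act 4 n31361 = n45763 := rfl
theorem F190406 : act 0 n45763 = n31432 := d3_1 D45763 (iv D31432) (iv F132561)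
theorem F190407 : act 1 n45763 = n45763 := d11_1 D45763 (iv D45763) F132562
theorem F190408 : act 5 n45763 = n32183 := d30_2 (iv F132563) D45763 (iv D32183) F94754 (iv F92495)
theorem F190409 : act 7 n45763 = n31364 := d32_2 (iv F132564) D45763 (iv D31364)
theorem F190410 : act 8 n45763 = n31692 := d33_2 (iv F132565) D45763 (iv D31692)
def n45764 : Q := act 9 n31361
theorem D45764 : act 9 n31361 = n45764 := rfl
theorem F190411 : act 0 n45764 = n31433 := d8_1 D45764 (iv D31433) (iv F132561)
theorem F190412 : act 1 n45764 = n45764 := d16_1 D45764 (iv D45764) F132562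
theorem F190413 : act 3 n45764 = n31362 := d29_1 D45764 (iv D31362) D31361
theorem F190414 : act 5 n45764 = n31367 := d38_1 D45764 (iv D31367) (iv F132563)
theorem F190415 : act 7 n45764 = n31365 := d43_1 D45764 (iv D31365) (iv F132564)
def n45765 : Q := act 1 n31363
theorem D45765 : act 1 n31363 = n45765 := rfl
theorem F190416 : act 2 n45765 = n45765 := d9_2 D31363 D45765 (iv D45765) (iv D31363) F92487
theorem F190417 : act 5 n45765 = n31368 := d12_2 (iv F132571) D45765 (iv D31368)
theorem F190418 : act 8 n45765 = n31694 := d15_2 (iv F132572) D45765 (iv D31694)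
def n45766 : Q := act 4 n31363
theorem D45766 : act 4 n31363 = n45766 := rfl
theorem F190419 : act 0 n45766 = n31435 := d3_1 D45766 (iv D31435) (iv F132570)
theorem F190420 : act 2 n45766 = n31364 := d18_1 D45766 (iv D31364) D31363
theorem F190421 : act 5 n45766 = n32186 := d30_2 (iv F132571) D45766 (iv D32186) F94763 (iv F92505)
theorem F190422 : act 8 n45766 = n31695 := d33_2 (iv F132572) D45766 (iv D31695)
def n45767 : Q := act 9 n31363
theorem D45767 : act 9 n31363 = n45767 := rfl
theorem F190423 : act 0 n45767 = n31436 := d8_1 D45767 (iv D31436) (iv F132570)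
theorem F190424 : act 2 n45767 = n31365 := d23_1 D45767 (iv D31365) D31363
theorem F190425 : act 5 n45767 = n31369 := d38_1 D45767 (iv D31369) (iv F132571)
def n45768 : Q := act 9 n31364
theorem D45768 : act 9 n31364 = n45768 := rfl
theorem F190426 : act 0 n45768 = n31437 := d8_1 D45768 (iv D31437) (iv F132573)
theorem F190427 : act 1 n45768 = n45768 := d16_1 D45768 (iv D45768) F132574
theorem F190428 : act 4 n45768 = n31365 := d34_1 D45768 (iv D31365) D31364
theorem F190429 : act 5 n45768 = n32188 := d38_1 D45768 (iv D32188) (iv F132575)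
def n45769 : Q := act 8 n31365
theorem D45769 : act 8 n31365 = n45769 := rfl
theorem F190430 : act 0 n45769 = n31438 := d7_1 D45769 (iv D31438) (iv F132577)
theorem F190432 : act 5 n45769 = n31370 := d37_1 D45769 (iv D31370) (iv F132580)
def n45770 : Q := act 1 n31366
theorem D45770 : act 1 n31366 = n45770 := rfl
theorem F190434 : act 2 n45770 = n45770 := d9_2 D31366 D45770 (iv D45770) (iv D31366) F92494
theorem F190435 : act 4 n45770 = n32190 := d11_2 (iv F132582) D45770 (iv D32190)
theorem F190436 : act 6 n45770 = n45770 := d13_2 F132583 D45770 (iv D45770)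
theorem F190437 : act 7 n45770 = n31368 := d14_2 (iv F132584) D45770 (iv D31368)
theorem F190438 : act 8 n45770 = n31699 := d15_2 (iv F132585) D45770 (iv D31699)
def n45771 : Q := act 9 n31366
theorem D45771 : act 9 n31366 = n45771 := rfl
theorem F190439 : act 0 n45771 = n31440 := d8_1 D45771 (iv D31440) (iv F132581)
theorem F190440 : act 2 n45771 = n31367 := d23_1 D45771 (iv D31367) D31366
theorem F190441 : act 4 n45771 = n32191 := d34_1 D45771 (iv D32191) (iv F132582)
theorem F190442 : act 6 n45771 = n45771 := d41_1 D45771 (iv D45771) F132583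
theorem F190443 : act 7 n45771 = n31369 := d43_1 D45771 (iv D31369) (iv F132584)
def n45772 : Q := act 8 n31367
theorem D45772 : act 8 n31367 = n45772 := rfl
theorem F190444 : act 0 n45772 = n31441 := d7_1 D45772 (iv D31441) (iv F132586)
theorem F190446 : act 4 n45772 = n32192 := d33_1 D45772 (iv D32192) (iv F132589)
theorem F190448 : act 7 n45772 = n31370 := d42_1 D45772 (iv D31370) (iv F132591)
def n45773 : Q := act 0 n31368
theorem D45773 : act 0 n31368 = n45773 := rfl
theorem F190450 : act 1 n45773 = n31442 := d0_2 D31368 D45773 (iv D31442) (iv D21571) (iv F92504)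
theorem F190451 : act 2 n45773 = n45773 := d1_2 F132592 D45773 (iv D45773)
theorem F190452 : act 4 n45773 = n32193 := d3_2 (iv F132593) D45773 (iv D32193)
theorem F190453 : act 6 n45773 = n31371 := d5_2 (iv F132594) D45773 (iv D31371)
theorem F190454 : act 8 n45773 = n31702 := d7_2 (iv F132595) D45773 (iv D31702)
def n45774 : Q := act 9 n31368
theorem D45774 : act 9 n31368 = n45774 := rfl
theorem F190455 : act 1 n45774 = n31369 := d16_1 D45774 (iv D31369) D31368
theorem F190456 : act 2 n45774 = n45774 := d23_1 D45774 (iv D45774) F132592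
theorem F190457 : act 4 n45774 = n32194 := d34_1 D45774 (iv D32194) (iv F132593)
theorem F190458 : act 6 n45774 = n31372 := d41_1 D45774 (iv D31372) (iv F132594)
def n45775 : Q := act 8 n31369
theorem D45775 : act 8 n31369 = n45775 := rfl
theorem F190459 : act 0 n45775 = n31444 := d7_1 D45775 (iv D31444) (iv F132596)
theorem F190460 : act 2 n45775 = n31370 := d22_1 D45775 (iv D31370) (iv F132597)
theorem F190461 : act 4 n45775 = n32195 := d33_1 D45775 (iv D32195) (iv F132598)
def n45776 : Q := act 9 n31371
theorem D45776 : act 9 n31371 = n45776 := rfl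
theorem F190464 : act 0 n45776 = n31372 := d8_1 D45776 (iv D31372) D31371
theorem F190465 : act 1 n45776 = n31445 := d16_1 D45776 (iv D31445) (iv F132605)
theorem F190466 : act 2 n45776 = n45776 := d23_1 D45776 (iv D45776) F132606
theorem F190467 : act 4 n45776 = n32196 := d34_1 D45776 (iv D32196) (iv F132607)
theorem F190468 : act 7 n45776 = n45776 := d43_1 D45776 (iv D45776) F132608
def n45777 : Q := act 8 n31372
theorem D45777 : act 8 n31372 = n45777 := rfl
theorem F190469 : act 1 n45777 = n31373 := d15_1 D45777 (iv D31373) (iv F132610)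
theorem F190471 : act 4 n45777 = n32197 := d33_1 D45777 (iv D32197) (iv F132612)
def n45778 : Q := act 3 n31373
theorem D45778 : act 3 n31373 = n45778 := rfl
theorem F190474 : act 0 n45778 = n31447 := d2_1 D45778 (iv D31447) (iv F132614)
theorem F190476 : act 9 n45778 = n31707 := d29_2 (iv F132618) D45778 (iv D31707)
def n45779 : Q := act 6 n31374
theorem D45779 : act 6 n31374 = n45779 := rfl
theorem F190477 : act 2 n45779 = n31708 := d20_1 D45779 (iv D31708) (iv F132619)
theorem F190478 : act 4 n45779 = n31376 := d31_1 D45779 (iv D31376) (iv F132620)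
def n45780 : Q := act 8 n31374
theorem D45780 : act 8 n31374 = n45780 := rfl
theorem F190479 : act 2 n45780 = n31709 := d22_1 D45780 (iv D31709) (iv F132619)
theorem F190480 : act 4 n45780 = n31377 := d33_1 D45780 (iv D31377) (iv F132620)
theorem F190481 : act 5 n45780 = n34688 := d37_1 D45780 (iv D34688) (iv F132621)
theorem F190482 : act 7 n45780 = n31375 := d42_1 D45780 (iv D31375) D31374
def n45781 : Q := act 3 n31375
theorem D45781 : act 3 n31375 = n45781 := rfl
theorem F190483 : act 5 n45781 = n34689 := d25_2 (iv F132624) D45781 (iv D34689)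
def n45782 : Q := act 9 n31375
theorem D45782 : act 9 n31375 = n45782 := rfl
theorem F190484 : act 2 n45782 = n31711 := d23_1 D45782 (iv D31711) (iv F132622)
theorem F190485 : act 4 n45782 = n31379 := d34_1 D45782 (iv D31379) (iv F132623)
theorem F190486 : act 5 n45782 = n34690 := d38_1 D45782 (iv D34690) (iv F132624)
def n45783 : Q := act 8 n31376
theorem D45783 : act 8 n31376 = n45783 := rfl
theorem F190487 : act 2 n45783 = n31712 := d22_1 D45783 (iv D31712) (iv F132625)
theorem F190488 : act 5 n45783 = n45783 := d37_1 D45783 (iv D45783) F132627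
theorem F190489 : act 6 n45783 = n31377 := d40_1 D45783 (iv D31377) D31376
def n45784 : Q := act 3 n31377
theorem D45784 : act 3 n31377 = n45784 := rfl
theorem F190490 : act 5 n45784 = n31380 := d25_2 (iv F132629) D45784 (iv D31380)
theorem F190491 : act 7 n45784 = n31378 := d27_2 (iv F132630) D45784 (iv D31378)
theorem F190492 : act 8 n45784 = n31392 := d28_2 D31377 D45784 (iv D31392) (iv D21537) (iv F92529)
def n45785 : Q := act 9 n31377
theorem D45785 : act 9 n31377 = n45785 := rfl
theorem F190493 : act 2 n45785 = n31714 := d23_1 D45785 (iv D31714) (iv F132628)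
theorem F190494 : act 5 n45785 = n31381 := d38_1 D45785 (iv D31381) (iv F132629)
theorem F190495 : act 7 n45785 = n31379 := d43_1 D45785 (iv D31379) (iv F132630)
def n45786 : Q := act 2 n31378
theorem D45786 : act 2 n31378 = n45786 := rfl
theorem F190496 : act 3 n45786 = n31715 := d17_2 D31378 D45786 (iv D31715) (iv D21763) (iv F92531)
theorem F190497 : act 5 n45786 = n31382 := d19_2 (iv F132631) D45786 (iv D31382)
theorem F190498 : act 8 n45786 = n31394 := d22_2 (iv F132632) D45786 (iv D31394)
def n45787 : Q := act 4 n31378
theorem D45787 : act 4 n31378 = n45787 := rfl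
theorem F190499 : act 8 n45787 = n31395 := d33_2 (iv F132632) D45787 (iv D31395)
def n45788 : Q := act 9 n31378
theorem D45788 : act 9 n31378 = n45788 := rfl
theorem F190500 : act 3 n45788 = n31379 := d29_1 D45788 (iv D31379) D31378
theorem F190501 : act 5 n45788 = n31384 := d38_1 D45788 (iv D31384) (iv F132631)
def n45789 : Q := act 2 n31380
theorem D45789 : act 2 n31380 = n45789 := rfl
theorem F190502 : act 3 n45789 = n31718 := d17_2 D31380 D45789 (iv D31718) (iv D21765) (iv F92533)
theorem F190503 : act 6 n45789 = n45789 := d20_2 F132635 D45789 (iv D45789)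
theorem F190504 : act 7 n45789 = n31382 := d21_2 (iv F132636) D45789 (iv D31382)
theorem F190505 : act 8 n45789 = n31397 := d22_2 (iv F132637) D45789 (iv D31397)
def n45790 : Q := act 4 n31380
theorem D45790 : act 4 n31380 = n45790 := rfl
theorem F190506 : act 3 n45790 = n34696 := d24_1 D45790 (iv D34696) (iv D23801) (iv F92534) D31380
theorem F190507 : act 6 n45790 = n45790 := d31_2 F132635 D45790 (iv D45790)
theorem F190508 : act 7 n45790 = n31383 := d32_2 (iv F132636) D45790 (iv D31383)
theorem F190509 : act 8 n45790 = n31398 := d33_2 (iv F132637) D45790 (iv D31398)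
def n45791 : Q := act 9 n31380
theorem D45791 : act 9 n31380 = n45791 := rfl
theorem F190510 : act 3 n45791 = n31381 := d29_1 D45791 (iv D31381) D31380
theorem F190511 : act 6 n45791 = n45791 := d41_1 D45791 (iv D45791) F132635
theorem F190512 : act 7 n45791 = n31384 := d43_1 D45791 (iv D31384) (iv F132636)
def n45792 : Q := act 1 n31382
theorem D45792 : act 1 n31382 = n45792 := rfl
theorem F190513 : act 3 n45792 = n31720 := d10_2 (iv F132642) D45792 (iv D31720)
theorem F190514 : act 6 n45792 = n31385 := d13_2 (iv F132643) D45792 (iv D31385)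
theorem F190515 : act 8 n45792 = n31400 := d15_2 (iv F132644) D45792 (iv D31400)
def n45793 : Q := act 4 n31382
theorem D45793 : act 4 n31382 = n45793 := rfl
theorem F190516 : act 2 n45793 = n31383 := d18_1 D45793 (iv D31383) D31382
theorem F190517 : act 3 n45793 = n45793 := d24_1 D45793 (iv D45793) F132642 F93447 (iv F132642)
theorem F190518 : act 6 n45793 = n31386 := d31_2 (iv F132643) D45793 (iv D31386)
theorem F190519 : act 8 n45793 = n31401 := d33_2 (iv F132644) D45793 (iv D31401)
def n45794 : Q := act 9 n31382
theorem D45794 : act 9 n31382 = n45794 := rfl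
theorem F190520 : act 2 n45794 = n31384 := d23_1 D45794 (iv D31384) D31382
theorem F190521 : act 3 n45794 = n31721 := d29_1 D45794 (iv D31721) (iv F132642)
theorem F190522 : act 6 n45794 = n31387 := d41_1 D45794 (iv D31387) (iv F132643)
def n45795 : Q := act 5 n31383
theorem D45795 : act 5 n31383 = n45795 := rfl
theorem F190523 : act 3 n45795 = n34698 := d25_1 D45795 (iv D34698) (iv F132645)
theorem F190524 : act 8 n45795 = n31403 := d37_2 (iv F132647) D45795 (iv D31403)
def n45796 : Q := act 9 n31383
theorem D45796 : act 9 n31383 = n45796 := rfl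
theorem F190525 : act 3 n45796 = n34699 := d29_1 D45796 (iv D34699) (iv F132645)
theorem F190526 : act 4 n45796 = n31384 := d34_1 D45796 (iv D31384) D31383
theorem F190527 : act 6 n45796 = n31389 := d41_1 D45796 (iv D31389) (iv F132646)
def n45797 : Q := act 8 n31384
theorem D45797 : act 8 n31384 = n45797 := rfl
theorem F190528 : act 6 n45797 = n31390 := d40_1 D45797 (iv D31390) (iv F132649)
theorem F190529 : act 9 n45797 = n31405 := d44_2 D31384 D45797 (iv D31405) (iv D21544) (iv F92538)
def n45798 : Q := act 0 n31385
theorem D45798 : act 0 n31385 = n45798 := rfl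
theorem F190530 : act 3 n45798 = n31723 := d2_2 (iv F132650) D45798 (iv D31723)
theorem F190531 : act 7 n45798 = n45798 := d6_2 F132651 D45798 (iv D45798)
theorem F190532 : act 8 n45798 = n31406 := d7_2 (iv F132652) D45798 (iv D31406)
def n45799 : Q := act 4 n31385
theorem D45799 : act 4 n31385 = n45799 := rfl
theorem F190533 : act 1 n45799 = n31386 := d11_1 D45799 (iv D31386) D31385
theorem F190534 : act 3 n45799 = n45799 := d24_1 D45799 (iv D45799) F132650 F93455 (iv F132650)
theorem F190535 : act 7 n45799 = n45799 := d32_2 F132651 D45799 (iv D45799)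
theorem F190536 : act 8 n45799 = n31407 := d33_2 (iv F132652) D45799 (iv D31407)
def n45800 : Q := act 9 n31385
theorem D45800 : act 9 n31385 = n45800 := rfl
theorem F190537 : act 1 n45800 = n31387 := d16_1 D45800 (iv D31387) D31385
theorem F190538 : act 3 n45800 = n31724 := d29_1 D45800 (iv D31724) (iv F132650)
theorem F190539 : act 7 n45800 = n45800 := d43_1 D45800 (iv D45800) F132651
def n45801 : Q := act 5 n31386
theorem D45801 : act 5 n31386 = n45801 := rfl
theorem F190540 : act 2 n45801 = n31388 := d19_1 D45801 (iv D31388) (iv F132653)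
theorem F190541 : act 3 n45801 = n45801 := d25_1 D45801 (iv D45801) F132654
theorem F190542 : act 7 n45801 = n45801 := d36_2 F132655 D45801 (iv D45801)
theorem F190543 : act 8 n45801 = n31409 := d37_2 (iv F132656) D45801 (iv D31409)
def n45802 : Q := act 9 n31386
theorem D45802 : act 9 n31386 = n45802 := rfl
theorem F190544 : act 2 n45802 = n31389 := d23_1 D45802 (iv D31389) (iv F132653)
theorem F190545 : act 3 n45802 = n45802 := d29_1 D45802 (iv D45802) F132654
theorem F190546 : act 4 n45802 = n31387 := d34_1 D45802 (iv D31387) D31386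
theorem F190547 : act 7 n45802 = n45802 := d43_1 D45802 (iv D45802) F132655
def n45803 : Q := act 8 n31387
theorem D45803 : act 8 n31387 = n45803 := rfl
theorem F190548 : act 2 n45803 = n31390 := d22_1 D45803 (iv D31390) (iv F132657)
theorem F190549 : act 7 n45803 = n45803 := d42_1 D45803 (iv D45803) F132659
theorem F190550 : act 9 n45803 = n31411 := d44_2 D31387 D45803 (iv D31411) (iv D21547) (iv F92544)
def n45804 : Q := act 6 n31388
theorem D45804 : act 6 n31388 = n45804 := rfl
theorem F190551 : act 3 n45804 = n34701 := d26_1 D45804 (iv D34701) (iv F132660)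
theorem F190552 : act 8 n45804 = n31412 := d40_2 (iv F132662) D45804 (iv D31412)
def n45805 : Q := act 9 n31388
theorem D45805 : act 9 n31388 = n45805 := rfl
theorem F190553 : act 3 n45805 = n34702 := d29_1 D45805 (iv D34702) (iv F132660)
theorem F190554 : act 5 n45805 = n31389 := d38_1 D45805 (iv D31389) D31388
theorem F190555 : act 7 n45805 = n45805 := d43_1 D45805 (iv D45805) F132661
def n45806 : Q := act 8 n31389
theorem D45806 : act 8 n31389 = n45806 := rfl
theorem F190556 : act 4 n45806 = n31390 := d33_1 D45806 (iv D31390) (iv F132664)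
theorem F190557 : act 7 n45806 = n45806 := d42_1 D45806 (iv D45806) F132665
theorem F190558 : act 9 n45806 = n31414 := d44_2 D31389 D45806 (iv D31414) (iv D21549) (iv F92547)
def n45807 : Q := act 3 n31391
theorem D45807 : act 3 n31391 = n45807 := rfl
theorem F190559 : act 5 n45807 = n45807 := d25_2 F132669 D45807 (iv D45807)
theorem F190560 : act 6 n45807 = n31392 := d26_2 (iv F132670) D45807 (iv D31392)
def n45808 : Q := act 9 n31391
theorem D45808 : act 9 n31391 = n45808 := rfl
theorem F190561 : act 2 n45808 = n31430 := d23_1 D45808 (iv D31430) (iv F132668)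
theorem F190562 : act 5 n45808 = n45808 := d38_1 D45808 (iv D45808) F132669
theorem F190563 : act 6 n45808 = n31393 := d41_1 D45808 (iv D31393) (iv F132670)
def n45809 : Q := act 2 n31392
theorem D45809 : act 2 n31392 = n45809 := rfl
theorem F190564 : act 3 n45809 = n31431 := d17_2 D31392 D45809 (iv D31431) (iv D21564) (iv F92552)
theorem F190565 : act 5 n45809 = n31397 := d19_2 (iv F132671) D45809 (iv D31397)
theorem F190566 : act 7 n45809 = n31394 := d21_2 (iv F132672) D45809 (iv D31394)
def n45810 : Q := act 4 n31392
theorem D45810 : act 4 n31392 = n45810 := rfl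
theorem F190567 : act 7 n45810 = n31395 := d32_2 (iv F132672) D45810 (iv D31395)
def n45811 : Q := act 9 n31392
theorem D45811 : act 9 n31392 = n45811 := rfl
theorem F190568 : act 3 n45811 = n31393 := d29_1 D45811 (iv D31393) D31392
theorem F190569 : act 5 n45811 = n31399 := d38_1 D45811 (iv D31399) (iv F132671)
theorem F190570 : act 7 n45811 = n31396 := d43_1 D45811 (iv D31396) (iv F132672)
def n45812 : Q := act 1 n31394
theorem D45812 : act 1 n31394 = n45812 := rfl
theorem F190571 : act 3 n45812 = n31434 := d10_2 (iv F132676) D45812 (iv D31434)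
theorem F190572 : act 5 n45812 = n31400 := d12_2 (iv F132677) D45812 (iv D31400)
def n45813 : Q := act 4 n31394
theorem D45813 : act 4 n31394 = n45813 := rfl
theorem F190573 : act 2 n45813 = n31395 := d18_1 D45813 (iv D31395) D31394
def n45814 : Q := act 9 n31394
theorem D45814 : act 9 n31394 = n45814 := rfl
theorem F190574 : act 2 n45814 = n31396 := d23_1 D45814 (iv D31396) D31394
theorem F190575 : act 3 n45814 = n31436 := d29_1 D45814 (iv D31436) (iv F132676)
theorem F190576 : act 5 n45814 = n31402 := d38_1 D45814 (iv D31402) (iv F132677)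
def n45815 : Q := act 5 n31395
theorem D45815 : act 5 n31395 = n45815 := rfl
theorem F190577 : act 4 n45815 = n31403 := d30_1 D45815 (iv D31403) (iv D21543) (iv F92555) D31395
def n45816 : Q := act 9 n31395
theorem D45816 : act 9 n31395 = n45816 := rfl
theorem F190578 : act 4 n45816 = n31396 := d34_1 D45816 (iv D31396) D31395
def n45817 : Q := act 8 n31396
theorem D45817 : act 8 n31396 = n45817 := rfl
theorem F190579 : act 5 n45817 = n31405 := d37_1 D45817 (iv D31405) (iv F132679)
def n45818 : Q := act 1 n31397
theorem D45818 : act 1 n31397 = n45818 := rfl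
theorem F190580 : act 3 n45818 = n31439 := d10_2 (iv F132680) D45818 (iv D31439)
theorem F190581 : act 6 n45818 = n45818 := d13_2 F132681 D45818 (iv D45818)
theorem F190582 : act 7 n45818 = n31400 := d14_2 (iv F132682) D45818 (iv D31400)
def n45819 : Q := act 4 n31397
theorem D45819 : act 4 n31397 = n45819 := rfl
theorem F190583 : act 2 n45819 = n31398 := d18_1 D45819 (iv D31398) D31397
theorem F190584 : act 3 n45819 = n32211 := d24_1 D45819 (iv D32211) F94834 (iv F92640) (iv F132680)
theorem F190585 : act 6 n45819 = n45819 := d31_2 F132681 D45819 (iv D45819)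
theorem F190586 : act 7 n45819 = n31401 := d32_2 (iv F132682) D45819 (iv D31401)
def n45820 : Q := act 9 n31397
theorem D45820 : act 9 n31397 = n45820 := rfl
theorem F190587 : act 2 n45820 = n31399 := d23_1 D45820 (iv D31399) D31397
theorem F190588 : act 3 n45820 = n31440 := d29_1 D45820 (iv D31440) (iv F132680)
theorem F190589 : act 6 n45820 = n45820 := d41_1 D45820 (iv D45820) F132681
theorem F190590 : act 7 n45820 = n31402 := d43_1 D45820 (iv D31402) (iv F132682)
def n45821 : Q := act 5 n31398
theorem D45821 : act 5 n31398 = n45821 := rfl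
theorem F190591 : act 3 n45821 = n31415 := d25_1 D45821 (iv D31415) (iv F132683)
theorem F190592 : act 7 n45821 = n31403 := d36_2 (iv F132685) D45821 (iv D31403)
def n45822 : Q := act 9 n31398
theorem D45822 : act 9 n31398 = n45822 := rfl
theorem F190593 : act 3 n45822 = n31416 := d29_1 D45822 (iv D31416) (iv F132683)
theorem F190594 : act 4 n45822 = n31399 := d34_1 D45822 (iv D31399) D31398
theorem F190595 : act 6 n45822 = n45822 := d41_1 D45822 (iv D45822) F132684
theorem F190596 : act 7 n45822 = n31404 := d43_1 D45822 (iv D31404) (iv F132685)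
def n45823 : Q := act 8 n31399
theorem D45823 : act 8 n31399 = n45823 := rfl
theorem F190597 : act 6 n45823 = n45823 := d40_1 D45823 (iv D45823) F132687
theorem F190598 : act 7 n45823 = n31405 := d42_1 D45823 (iv D31405) (iv F132688)
def n45824 : Q := act 0 n31400
theorem D45824 : act 0 n31400 = n45824 := rfl
theorem F190599 : act 3 n45824 = n31442 := d2_2 (iv F132689) D45824 (iv D31442)
theorem F190600 : act 6 n45824 = n31406 := d5_2 (iv F132690) D45824 (iv D31406)
def n45825 : Q := act 4 n31400
theorem D45825 : act 4 n31400 = n45825 := rfl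
theorem F190601 : act 1 n45825 = n31401 := d11_1 D45825 (iv D31401) D31400
theorem F190602 : act 3 n45825 = n32217 := d24_1 D45825 (iv D32217) F94848 (iv F92650) (iv F132689)
theorem F190603 : act 6 n45825 = n31407 := d31_2 (iv F132690) D45825 (iv D31407)
def n45826 : Q := act 9 n31400
theorem D45826 : act 9 n31400 = n45826 := rfl
theorem F190604 : act 1 n45826 = n31402 := d16_1 D45826 (iv D31402) D31400
theorem F190605 : act 3 n45826 = n31443 := d29_1 D45826 (iv D31443) (iv F132689)
theorem F190606 : act 6 n45826 = n31408 := d41_1 D45826 (iv D31408) (iv F132690)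
def n45827 : Q := act 5 n31401
theorem D45827 : act 5 n31401 = n45827 := rfl
theorem F190607 : act 2 n45827 = n31403 := d19_1 D45827 (iv D31403) (iv F132691)
theorem F190608 : act 3 n45827 = n32219 := d25_1 D45827 (iv D32219) (iv F132692)
def n45828 : Q := act 9 n31401
theorem D45828 : act 9 n31401 = n45828 := rfl
theorem F190609 : act 2 n45828 = n31404 := d23_1 D45828 (iv D31404) (iv F132691)
theorem F190610 : act 3 n45828 = n32220 := d29_1 D45828 (iv D32220) (iv F132692)
theorem F190611 : act 4 n45828 = n31402 := d34_1 D45828 (iv D31402) D31401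
theorem F190612 : act 6 n45828 = n31410 := d41_1 D45828 (iv D31410) (iv F132693)
def n45829 : Q := act 8 n31402
theorem D45829 : act 8 n31402 = n45829 := rfl
theorem F190613 : act 2 n45829 = n31405 := d22_1 D45829 (iv D31405) (iv F132694)
theorem F190614 : act 6 n45829 = n31411 := d40_1 D45829 (iv D31411) (iv F132696)
def n45830 : Q := act 6 n31403
theorem D45830 : act 6 n31403 = n45830 := rfl
theorem F190615 : act 3 n45830 = n31418 := d26_1 D45830 (iv D31418) (iv F132697)
theorem F190616 : act 5 n45830 = n31412 := d35_1 D45830 (iv D31412) (iv D21548) (iv F92567) D31403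
def n45831 : Q := act 9 n31403
theorem D45831 : act 9 n31403 = n45831 := rfl
theorem F190617 : act 3 n45831 = n31419 := d29_1 D45831 (iv D31419) (iv F132697)
theorem F190618 : act 5 n45831 = n31404 := d38_1 D45831 (iv D31404) D31403
def n45832 : Q := act 8 n31404
theorem D45832 : act 8 n31404 = n45832 := rfl
theorem F190619 : act 4 n45832 = n31405 := d33_1 D45832 (iv D31405) (iv F132699)
theorem F190620 : act 6 n45832 = n31414 := d40_1 D45832 (iv D31414) (iv F132700)
def n45833 : Q := act 4 n31406
theorem D45833 : act 4 n31406 = n45833 := rfl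
theorem F190621 : act 0 n45833 = n31407 := d3_1 D45833 (iv D31407) D31406
theorem F190622 : act 3 n45833 = n32225 := d24_1 D45833 (iv D32225) F94869 (iv F92661) (iv F132702)
theorem F190623 : act 7 n45833 = n45833 := d32_2 F132703 D45833 (iv D45833)
def n45834 : Q := act 9 n31406
theorem D45834 : act 9 n31406 = n45834 := rfl
theorem F190624 : act 0 n45834 = n31408 := d8_1 D45834 (iv D31408) D31406
theorem F190625 : act 3 n45834 = n31445 := d29_1 D45834 (iv D31445) (iv F132702)
theorem F190626 : act 7 n45834 = n45834 := d43_1 D45834 (iv D45834) F132703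
def n45835 : Q := act 5 n31407
theorem D45835 : act 5 n31407 = n45835 := rfl
theorem F190627 : act 1 n45835 = n31409 := d12_1 D45835 (iv D31409) (iv F132704)
theorem F190628 : act 3 n45835 = n32227 := d25_1 D45835 (iv D32227) (iv F132705)
theorem F190629 : act 7 n45835 = n45835 := d36_2 F132706 D45835 (iv D45835)
def n45836 : Q := act 9 n31407
theorem D45836 : act 9 n31407 = n45836 := rfl
theorem F190630 : act 1 n45836 = n31410 := d16_1 D45836 (iv D31410) (iv F132704)
theorem F190631 : act 3 n45836 = n32228 := d29_1 D45836 (iv D32228) (iv F132705)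
theorem F190632 : act 4 n45836 = n31408 := d34_1 D45836 (iv D31408) D31407
theorem F190633 : act 7 n45836 = n45836 := d43_1 D45836 (iv D45836) F132706
def n45837 : Q := act 8 n31408
theorem D45837 : act 8 n31408 = n45837 := rfl
theorem F190634 : act 1 n45837 = n31411 := d15_1 D45837 (iv D31411) (iv F132707)
theorem F190635 : act 7 n45837 = n45837 := d42_1 D45837 (iv D45837) F132709
def n45838 : Q := act 6 n31409
theorem D45838 : act 6 n31409 = n45838 := rfl
theorem F190636 : act 2 n45838 = n31412 := d20_1 D45838 (iv D31412) (iv F132710)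
theorem F190637 : act 3 n45838 = n32230 := d26_1 D45838 (iv D32230) (iv F132711)
def n45839 : Q := act 9 n31409
theorem D45839 : act 9 n31409 = n45839 := rfl
theorem F190638 : act 2 n45839 = n31413 := d23_1 D45839 (iv D31413) (iv F132710)
theorem F190639 : act 3 n45839 = n32231 := d29_1 D45839 (iv D32231) (iv F132711)
theorem F190640 : act 5 n45839 = n31410 := d38_1 D45839 (iv D31410) D31409
theorem F190641 : act 7 n45839 = n45839 := d43_1 D45839 (iv D45839) F132712
def n45840 : Q := act 8 n31410
theorem D45840 : act 8 n31410 = n45840 := rfl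
theorem F190642 : act 2 n45840 = n31414 := d22_1 D45840 (iv D31414) (iv F132713)
theorem F190643 : act 4 n45840 = n31411 := d33_1 D45840 (iv D31411) (iv F132715)
theorem F190644 : act 7 n45840 = n45840 := d42_1 D45840 (iv D45840) F132716
def n45841 : Q := act 3 n31411
theorem D45841 : act 3 n31411 = n45841 := rfl
theorem F190645 : act 7 n45841 = n45841 := d27_2 F132718 D45841 (iv D45841)
theorem F190646 : act 8 n45841 = n31447 := d28_2 D31411 D45841 (iv D31447) (iv D21576) (iv F92576)
def n45842 : Q := act 7 n31412
theorem D45842 : act 7 n31412 = n45842 := rfl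
theorem F190647 : act 3 n45842 = n31421 := d27_1 D45842 (iv D31421) (iv F132719)
theorem F190648 : act 6 n45842 = n45842 := d39_1 D45842 (iv D45842) (iv D31412) F92579 D31412
def n45843 : Q := act 9 n31412
theorem D45843 : act 9 n31412 = n45843 := rfl
theorem F190649 : act 3 n45843 = n31422 := d29_1 D45843 (iv D31422) (iv F132719)
theorem F190650 : act 6 n45843 = n31413 := d41_1 D45843 (iv D31413) D31412
def n45844 : Q := act 8 n31413
theorem D45844 : act 8 n31413 = n45844 := rfl
theorem F190651 : act 5 n45844 = n31414 := d37_1 D45844 (iv D31414) (iv F132721)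
theorem F190652 : act 7 n45844 = n45844 := d42_1 D45844 (iv D45844) F132722
def n45845 : Q := act 3 n31414
theorem D45845 : act 3 n31414 = n45845 := rfl
theorem F190654 : act 8 n45845 = n31424 := d28_2 D31414 D45845 (iv D31424) (iv D21558) (iv F92580)
def n45846 : Q := act 6 n31415
theorem D45846 : act 6 n31415 = n45846 := rfl
theorem F190655 : act 2 n45846 = n32238 := d20_1 D45846 (iv D32238) (iv F132725)
theorem F190656 : act 5 n45846 = n45846 := d35_1 D45846 (iv D45846) (iv D31415) F92585 D31415
theorem F190657 : act 8 n45846 = n34721 := d40_2 (iv F132727) D45846 (iv D34721)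
def n45847 : Q := act 9 n31415
theorem D45847 : act 9 n31415 = n45847 := rfl
theorem F190658 : act 2 n45847 = n32239 := d23_1 D45847 (iv D32239) (iv F132725)
theorem F190659 : act 5 n45847 = n31416 := d38_1 D45847 (iv D31416) D31415
theorem F190660 : act 7 n45847 = n31419 := d43_1 D45847 (iv D31419) (iv F132726)
def n45848 : Q := act 8 n31416
theorem D45848 : act 8 n31416 = n45848 := rfl
theorem F190665 : act 9 n45848 = n34723 := d44_2 D31416 D45848 (iv D34723) (iv D23822) (iv F92587)
def n45849 : Q := act 7 n31418
theorem D45849 : act 7 n31418 = n45849 := rfl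
theorem F190666 : act 2 n45849 = n32241 := d21_1 D45849 (iv D32241) (iv F132736)
theorem F190667 : act 5 n45849 = n31421 := d36_1 D45849 (iv D31421) (iv F132737)
theorem F190668 : act 8 n45849 = n34724 := d42_2 (iv F132738) D45849 (iv D34724)
def n45850 : Q := act 9 n31418
theorem D45850 : act 9 n31418 = n45850 := rfl
theorem F190669 : act 2 n45850 = n32242 := d23_1 D45850 (iv D32242) (iv F132736)
theorem F190670 : act 5 n45850 = n31422 := d38_1 D45850 (iv D31422) (iv F132737)
theorem F190671 : act 6 n45850 = n31419 := d41_1 D45850 (iv D31419) D31418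
def n45851 : Q := act 8 n31419
theorem D45851 : act 8 n31419 = n45851 := rfl
theorem F190674 : act 9 n45851 = n34726 := d44_2 D31419 D45851 (iv D34726) (iv D23825) (iv F92593)
def n45853 : Q := act 9 n31421
theorem D45853 : act 9 n31421 = n45853 := rfl
theorem F190677 : act 2 n45853 = n32245 := d23_1 D45853 (iv D32245) (iv F132745)
theorem F190678 : act 4 n45853 = n31425 := d34_1 D45853 (iv D31425) (iv F132746)
theorem F190679 : act 6 n45853 = n45853 := d41_1 D45853 (iv D45853) F132747
theorem F190680 : act 7 n45853 = n31422 := d43_1 D45853 (iv D31422) D31421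
def n45854 : Q := act 8 n31422
theorem D45854 : act 8 n31422 = n45854 := rfl
theorem F190684 : act 9 n45854 = n34729 := d44_2 D31422 D45854 (iv D34729) (iv D23828) (iv F92602)
def n45857 : Q := act 8 n31425
theorem D45857 : act 8 n31425 = n45857 := rfl
theorem F190694 : act 9 n45857 = n34732 := d44_2 D31425 D45857 (iv D34732) (iv D23831) (iv F92613)
def n45859 : Q := act 2 n31427
theorem D45859 : act 2 n31427 = n45859 := rfl
theorem F190697 : act 3 n45859 = n32251 := d17_2 D31427 D45859 (iv D32251) (iv D22133) (iv F92616)
theorem F190700 : act 9 n45859 = n34734 := d23_2 (iv F132767) D45859 (iv D34734)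
def n45860 : Q := act 4 n31427
theorem D45860 : act 4 n31427 = n45860 := rfl
theorem F190702 : act 9 n45860 = n34735 := d34_2 (iv F132767) D45860 (iv D34735)
def n45861 : Q := act 1 n31428
theorem D45861 : act 1 n31428 = n45861 := rfl
theorem F190705 : act 9 n45861 = n34736 := d16_2 (iv F132770) D45861 (iv D34736)
def n45862 : Q := act 2 n31429
theorem D45862 : act 2 n31429 = n45862 := rfl
theorem F190706 : act 5 n45862 = n45862 := d19_2 F132772 D45862 (iv D45862)
theorem F190707 : act 6 n45862 = n31431 := d20_2 (iv F132773) D45862 (iv D31431)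
theorem F190708 : act 8 n45862 = n31745 := d22_2 (iv F132774) D45862 (iv D31745)
def n45863 : Q := act 4 n31429
theorem D45863 : act 4 n31429 = n45863 := rfl
theorem F190710 : act 6 n45863 = n31432 := d31_2 (iv F132773) D45863 (iv D31432)
theorem F190711 : act 8 n45863 = n31746 := d33_2 (iv F132774) D45863 (iv D31746)
def n45864 : Q := act 9 n31429
theorem D45864 : act 9 n31429 = n45864 := rfl
theorem F190712 : act 1 n45864 = n31450 := d16_1 D45864 (iv D31450) (iv F132771)
theorem F190713 : act 3 n45864 = n31430 := d29_1 D45864 (iv D31430) D31429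
theorem F190714 : act 5 n45864 = n45864 := d38_1 D45864 (iv D45864) F132772
theorem F190715 : act 6 n45864 = n31433 := d41_1 D45864 (iv D31433) (iv F132773)
def n45865 : Q := act 1 n31431
theorem D45865 : act 1 n31431 = n45865 := rfl
theorem F190716 : act 2 n45865 = n31451 := d9_2 D31431 D45865 (iv D31451) (iv D21579) (iv F92625)
theorem F190717 : act 5 n45865 = n31439 := d12_2 (iv F132778) D45865 (iv D31439)
theorem F190718 : act 7 n45865 = n31434 := d14_2 (iv F132779) D45865 (iv D31434)
theorem F190719 : act 8 n45865 = n31748 := d15_2 (iv F132780) D45865 (iv D31748)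
def n45866 : Q := act 4 n31431
theorem D45866 : act 4 n31431 = n45866 := rfl
theorem F190720 : act 2 n45866 = n31432 := d18_1 D45866 (iv D31432) D31431
theorem F190721 : act 5 n45866 = n32258 := d30_2 (iv F132778) D45866 (iv D32258) F94969 (iv F92640)
theorem F190722 : act 7 n45866 = n31435 := d32_2 (iv F132779) D45866 (iv D31435)
theorem F190723 : act 8 n45866 = n31749 := d33_2 (iv F132780) D45866 (iv D31749)
def n45867 : Q := act 9 n31431
theorem D45867 : act 9 n31431 = n45867 := rfl
theorem F190724 : act 2 n45867 = n31433 := d23_1 D45867 (iv D31433) D31431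
theorem F190725 : act 5 n45867 = n31440 := d38_1 D45867 (iv D31440) (iv F132778)
theorem F190726 : act 7 n45867 = n31436 := d43_1 D45867 (iv D31436) (iv F132779)
def n45868 : Q := act 9 n31432
theorem D45868 : act 9 n31432 = n45868 := rfl
theorem F190727 : act 1 n45868 = n31454 := d16_1 D45868 (iv D31454) (iv F132781)
theorem F190728 : act 4 n45868 = n31433 := d34_1 D45868 (iv D31433) D31432
theorem F190729 : act 5 n45868 = n32260 := d38_1 D45868 (iv D32260) (iv F132782)
theorem F190730 : act 7 n45868 = n31437 := d43_1 D45868 (iv D31437) (iv F132783)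
def n45869 : Q := act 8 n31433
theorem D45869 : act 8 n31433 = n45869 := rfl
theorem F190731 : act 1 n45869 = n31455 := d15_1 D45869 (iv D31455) (iv F132785)
theorem F190732 : act 5 n45869 = n31441 := d37_1 D45869 (iv D31441) (iv F132787)
theorem F190733 : act 7 n45869 = n31438 := d42_1 D45869 (iv D31438) (iv F132788)
theorem F190734 : act 9 n45869 = n31752 := d44_2 D31433 D45869 (iv D31752) (iv D21790) (iv F92628)
def n45870 : Q := act 0 n31434
theorem D45870 : act 0 n31434 = n45870 := rfl
theorem F190735 : act 2 n45870 = n31456 := d1_2 (iv F132789) D45870 (iv D31456)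
theorem F190736 : act 5 n45870 = n31442 := d4_2 (iv F132790) D45870 (iv D31442)
theorem F190737 : act 8 n45870 = n31753 := d7_2 (iv F132791) D45870 (iv D31753)
def n45871 : Q := act 4 n31434
theorem D45871 : act 4 n31434 = n45871 := rfl
theorem F190738 : act 1 n45871 = n31435 := d11_1 D45871 (iv D31435) D31434
theorem F190739 : act 2 n45871 = n31457 := d18_1 D45871 (iv D31457) (iv F132789)
theorem F190740 : act 5 n45871 = n32263 := d30_2 (iv F132790) D45871 (iv D32263) F94980 (iv F92650)
theorem F190741 : act 8 n45871 = n31754 := d33_2 (iv F132791) D45871 (iv D31754)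
def n45872 : Q := act 9 n31434
theorem D45872 : act 9 n31434 = n45872 := rfl
theorem F190742 : act 1 n45872 = n31436 := d16_1 D45872 (iv D31436) D31434
theorem F190743 : act 2 n45872 = n31458 := d23_1 D45872 (iv D31458) (iv F132789)
theorem F190744 : act 5 n45872 = n31443 := d38_1 D45872 (iv D31443) (iv F132790)
def n45873 : Q := act 3 n31435
theorem D45873 : act 3 n31435 = n45873 := rfl
theorem F190745 : act 5 n45873 = n32265 := d25_2 (iv F132793) D45873 (iv D32265)
def n45874 : Q := act 9 n31435
theorem D45874 : act 9 n31435 = n45874 := rfl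
theorem F190746 : act 2 n45874 = n31437 := d23_1 D45874 (iv D31437) (iv F132792)
theorem F190747 : act 4 n45874 = n31436 := d34_1 D45874 (iv D31436) D31435
theorem F190748 : act 5 n45874 = n32266 := d38_1 D45874 (iv D32266) (iv F132793)
def n45875 : Q := act 8 n31436
theorem D45875 : act 8 n31436 = n45875 := rfl
theorem F190749 : act 2 n45875 = n31438 := d22_1 D45875 (iv D31438) (iv F132795)
theorem F190750 : act 5 n45875 = n31444 := d37_1 D45875 (iv D31444) (iv F132796)
theorem F190751 : act 9 n45875 = n31758 := d44_2 D31436 D45875 (iv D31758) (iv D21793) (iv F92633)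
def n45876 : Q := act 8 n31437
theorem D45876 : act 8 n31437 = n45876 := rfl
theorem F190752 : act 1 n45876 = n31462 := d15_1 D45876 (iv D31462) (iv F132797)
theorem F190753 : act 4 n45876 = n31438 := d33_1 D45876 (iv D31438) (iv F132798)
theorem F190754 : act 5 n45876 = n32268 := d37_1 D45876 (iv D32268) (iv F132799)
theorem F190755 : act 9 n45876 = n31759 := d44_2 D31437 D45876 (iv D31759) (iv D21794) (iv F92636)
def n45877 : Q := act 0 n31439
theorem D45877 : act 0 n31439 = n45877 := rfl
theorem F190756 : act 2 n45877 = n31463 := d1_2 (iv F132803) D45877 (iv D31463)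
theorem F190757 : act 4 n45877 = n32269 := d3_2 (iv F132804) D45877 (iv D32269)
theorem F190758 : act 6 n45877 = n45877 := d5_2 F132805 D45877 (iv D45877)
theorem F190759 : act 7 n45877 = n31442 := d6_2 (iv F132806) D45877 (iv D31442)
theorem F190760 : act 8 n45877 = n31760 := d7_2 (iv F132807) D45877 (iv D31760)
def n45878 : Q := act 9 n31439
theorem D45878 : act 9 n31439 = n45878 := rfl
theorem F190761 : act 1 n45878 = n31440 := d16_1 D45878 (iv D31440) D31439
theorem F190762 : act 2 n45878 = n31464 := d23_1 D45878 (iv D31464) (iv F132803)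
theorem F190763 : act 4 n45878 = n32270 := d34_1 D45878 (iv D32270) (iv F132804)
theorem F190764 : act 6 n45878 = n45878 := d41_1 D45878 (iv D45878) F132805
theorem F190765 : act 7 n45878 = n31443 := d43_1 D45878 (iv D31443) (iv F132806)
def n45879 : Q := act 8 n31440
theorem D45879 : act 8 n31440 = n45879 := rfl
theorem F190766 : act 2 n45879 = n31441 := d22_1 D45879 (iv D31441) (iv F132808)
theorem F190767 : act 4 n45879 = n32271 := d33_1 D45879 (iv D32271) (iv F132809)
theorem F190768 : act 6 n45879 = n45879 := d40_1 D45879 (iv D45879) F132810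
theorem F190769 : act 7 n45879 = n31444 := d42_1 D45879 (iv D31444) (iv F132811)
theorem F190770 : act 9 n45879 = n31762 := d44_2 D31440 D45879 (iv D31762) (iv D21797) (iv F92643)
def n45880 : Q := act 9 n31442
theorem D45880 : act 9 n31442 = n45880 := rfl
theorem F190771 : act 0 n45880 = n31443 := d8_1 D45880 (iv D31443) D31442
theorem F190772 : act 2 n45880 = n31466 := d23_1 D45880 (iv D31466) (iv F132817)
theorem F190773 : act 4 n45880 = n32272 := d34_1 D45880 (iv D32272) (iv F132818)
theorem F190774 : act 6 n45880 = n31445 := d41_1 D45880 (iv D31445) (iv F132819)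
def n45881 : Q := act 8 n31443
theorem D45881 : act 8 n31443 = n45881 := rfl
theorem F190775 : act 1 n45881 = n31444 := d15_1 D45881 (iv D31444) (iv F132821)
theorem F190776 : act 2 n45881 = n31467 := d22_1 D45881 (iv D31467) (iv F132822)
theorem F190777 : act 4 n45881 = n32273 := d33_1 D45881 (iv D32273) (iv F132823)
theorem F190778 : act 6 n45881 = n31446 := d40_1 D45881 (iv D31446) (iv F132824)
theorem F190779 : act 9 n45881 = n31764 := d44_2 D31443 D45881 (iv D31764) (iv D21800) (iv F92652)
def n45882 : Q := act 3 n31444
theorem D45882 : act 3 n31444 = n45882 := rfl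
theorem F190780 : act 6 n45882 = n31447 := d26_2 (iv F132827) D45882 (iv D31447)
theorem F190781 : act 9 n45882 = n31765 := d29_2 (iv F132828) D45882 (iv D31765)
def n45883 : Q := act 8 n31445
theorem D45883 : act 8 n31445 = n45883 := rfl
theorem F190782 : act 0 n45883 = n31446 := d7_1 D45883 (iv D31446) (iv F132829)
theorem F190783 : act 2 n45883 = n31469 := d22_1 D45883 (iv D31469) (iv F132830)
theorem F190784 : act 4 n45883 = n32275 := d33_1 D45883 (iv D32275) (iv F132831)
theorem F190785 : act 7 n45883 = n45883 := d42_1 D45883 (iv D45883) F132832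
theorem F190786 : act 9 n45883 = n31766 := d44_2 D31445 D45883 (iv D31766) (iv D21802) (iv F92663)
def n45884 : Q := act 3 n31446
theorem D45884 : act 3 n31446 = n45884 := rfl
theorem F190787 : act 1 n45884 = n31447 := d10_1 D45884 (iv D31447) (iv F132833)
theorem F190788 : act 7 n45884 = n45884 := d27_2 F132836 D45884 (iv D45884)
theorem F190789 : act 9 n45884 = n31767 := d29_2 (iv F132837) D45884 (iv D31767)
def n45885 : Q := act 4 n31447
theorem D45885 : act 4 n31447 = n45885 := rfl
theorem F190790 : act 3 n45885 = n32277 := d24_1 D45885 (iv D32277) (iv D22153) (iv F92669) D31447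
theorem F190791 : act 7 n45885 = n45885 := d32_2 F132838 D45885 (iv D45885)
theorem F190792 : act 9 n45885 = n31768 := d34_2 (iv F132839) D45885 (iv D31768)
def n45888 : Q := act 9 n31448
theorem D45888 : act 9 n31448 = n45888 := rfl
theorem F190801 : act 2 n45888 = n31450 := d23_1 D45888 (iv D31450) D31448
def n45890 : Q := act 9 n31449
theorem D45890 : act 9 n31449 = n45890 := rfl
theorem F190809 : act 4 n45890 = n31450 := d34_1 D45890 (iv D31450) D31449
def n45891 : Q := act 8 n31450
theorem D45891 : act 8 n31450 = n45891 := rfl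
theorem F190814 : act 9 n45891 = n31774 := d44_2 D31450 D45891 (iv D31774) (iv D21807) (iv F92675)
def n45892 : Q := act 0 n31451
theorem D45892 : act 0 n31451 = n45892 := rfl
theorem F190817 : act 7 n45892 = n31456 := d6_2 (iv F132852) D45892 (iv D31456)
theorem F190818 : act 8 n45892 = n31775 := d7_2 (iv F132853) D45892 (iv D31775)
def n45893 : Q := act 4 n31451
theorem D45893 : act 4 n31451 = n45893 := rfl
theorem F190822 : act 8 n45893 = n31776 := d33_2 (iv F132853) D45893 (iv D31776)
def n45894 : Q := act 9 n31451
theorem D45894 : act 9 n31451 = n45894 := rfl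
theorem F190825 : act 7 n45894 = n31458 := d43_1 D45894 (iv D31458) (iv F132852)
def n45896 : Q := act 9 n31452
theorem D45896 : act 9 n31452 = n45896 := rfl
theorem F190831 : act 4 n45896 = n31453 := d34_1 D45896 (iv D31453) D31452
def n45897 : Q := act 8 n31453
theorem D45897 : act 8 n31453 = n45897 := rfl
def n45899 : Q := act 4 n31456
theorem D45899 : act 4 n31456 = n45899 := rfl
theorem F190844 : act 0 n45899 = n31457 := d3_1 D45899 (iv D31457) D31456
theorem F190847 : act 8 n45899 = n31782 := d33_2 (iv F132873) D45899 (iv D31782)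
def n45900 : Q := act 9 n31456
theorem D45900 : act 9 n31456 = n45900 := rfl
theorem F190848 : act 0 n45900 = n31458 := d8_1 D45900 (iv D31458) D31456
theorem F190849 : act 1 n45900 = n45900 := d16_1 D45900 (iv D45900) F132871
theorem F190850 : act 5 n45900 = n31466 := d38_1 D45900 (iv D31466) (iv F132872)
def n45901 : Q := act 3 n31457
theorem D45901 : act 3 n31457 = n45901 := rfl
def n45902 : Q := act 9 n31457
theorem D45902 : act 9 n31457 = n45902 := rfl
theorem F190854 : act 4 n45902 = n31458 := d34_1 D45902 (iv D31458) D31457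
def n45903 : Q := act 8 n31458
theorem D45903 : act 8 n31458 = n45903 := rfl
theorem F190858 : act 9 n45903 = n31786 := d44_2 D31458 D45903 (iv D31786) (iv D21815) (iv F92692)
def n45904 : Q := act 8 n31459
theorem D45904 : act 8 n31459 = n45904 := rfl
theorem F190860 : act 3 n45904 = n31787 := d28_1 D45904 (iv D31787) (iv D21816) (iv F92696) D31459
def n45905 : Q := act 9 n31459
theorem D45905 : act 9 n31459 = n45905 := rfl
theorem F190863 : act 3 n45905 = n31460 := d29_1 D45905 (iv D31460) D31459
def n45906 : Q := act 8 n31460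
theorem D45906 : act 8 n31460 = n45906 := rfl
theorem F190869 : act 9 n45906 = n31789 := d44_2 D31460 D45906 (iv D31789) (iv D21817) (iv F92696)
def n45909 : Q := act 9 n31463
theorem D45909 : act 9 n31463 = n45909 := rfl
theorem F190876 : act 0 n45909 = n31464 := d8_1 D45909 (iv D31464) D31463
theorem F190877 : act 1 n45909 = n45909 := d16_1 D45909 (iv D45909) F132893
theorem F190878 : act 4 n45909 = n32301 := d34_1 D45909 (iv D32301) (iv F132894)
theorem F190879 : act 6 n45909 = n45909 := d41_1 D45909 (iv D45909) F132895
theorem F190880 : act 7 n45909 = n31466 := d43_1 D45909 (iv D31466) (iv F132896)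
def n45910 : Q := act 8 n31464
theorem D45910 : act 8 n31464 = n45910 := rfl
def n45912 : Q := act 8 n31466
theorem D45912 : act 8 n31466 = n45912 := rfl
theorem F190890 : act 0 n45912 = n31467 := d7_1 D45912 (iv D31467) (iv F132908)
theorem F190891 : act 1 n45912 = n45912 := d15_1 D45912 (iv D45912) F132909
theorem F190892 : act 4 n45912 = n32304 := d33_1 D45912 (iv D32304) (iv F132910)
theorem F190893 : act 6 n45912 = n31469 := d40_1 D45912 (iv D31469) (iv F132911)
theorem F190894 : act 9 n45912 = n31795 := d44_2 D31466 D45912 (iv D31795) (iv D21823) (iv F92723)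
def n45913 : Q := act 3 n31467
theorem D45913 : act 3 n31467 = n45913 := rfl
theorem F190895 : act 1 n45913 = n31468 := d10_1 D45913 (iv D31468) (iv F132912)
theorem F190896 : act 6 n45913 = n31470 := d26_2 (iv F132914) D45913 (iv D31470)
theorem F190897 : act 9 n45913 = n31796 := d29_2 (iv F132915) D45913 (iv D31796)
def n45914 : Q := act 4 n31468
theorem D45914 : act 4 n31468 = n45914 := rfl
theorem F190901 : act 9 n45914 = n31797 := d34_2 (iv F132918) D45914 (iv D31797)
def n45915 : Q := act 3 n31469
theorem D45915 : act 3 n31469 = n45915 := rfl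
theorem F190902 : act 0 n45915 = n31470 := d2_1 D45915 (iv D31470) (iv F132919)
theorem F190905 : act 9 n45915 = n31798 := d29_2 (iv F132923) D45915 (iv D31798)
def n45916 : Q := act 2 n31470
theorem D45916 : act 2 n31470 = n45916 := rfl
theorem F190907 : act 9 n45916 = n31799 := d23_2 (iv F132926) D45916 (iv D31799)
def n45917 : Q := act 4 n31470
theorem D45917 : act 4 n31470 = n45917 := rfl
theorem F190908 : act 1 n45917 = n31471 := d11_1 D45917 (iv D31471) (iv F132924)
theorem F190909 : act 3 n45917 = n32309 := d24_1 D45917 (iv D32309) (iv D22176) (iv F92737) D31470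
theorem F190911 : act 9 n45917 = n31800 := d34_2 (iv F132926) D45917 (iv D31800)
def n45918 : Q := act 5 n31471
theorem D45918 : act 5 n31471 = n45918 := rfl
theorem F190915 : act 9 n45918 = n31801 := d38_2 (iv F132930) D45918 (iv D31801)
def n45928 : Q := act 3 n31476
theorem D45928 : act 3 n31476 = n45928 := rfl
theorem F190959 : act 8 n45928 = n31482 := d28_2 D31476 D45928 (iv D31482) (iv D21601) (iv F92750)
def n45929 : Q := act 9 n31476
theorem D45929 : act 9 n31476 = n45929 := rfl
theorem F190964 : act 8 n45929 = n31648 := d44_1 D45929 (iv D31648) (iv D21715) (iv F92752) D31476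
def n45967 : Q := act 7 n31501
theorem D45967 : act 7 n31501 = n45967 := rfl
theorem F191146 : act 0 n45967 = n31547 := d6_1 D45967 (iv D31547) (iv F133077)
theorem F191148 : act 4 n45967 = n31502 := d32_1 D45967 (iv D31502) D31501
theorem F191149 : act 5 n45967 = n34771 := d36_1 D45967 (iv D34771) (iv F133079)
def n45968 : Q := act 8 n31501
theorem D45968 : act 8 n31501 = n45968 := rfl
theorem F191151 : act 0 n45968 = n31548 := d7_1 D45968 (iv D31548) (iv F133077)
theorem F191153 : act 5 n45968 = n34772 := d37_1 D45968 (iv D34772) (iv F133079)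
def n45969 : Q := act 6 n31502
theorem D45969 : act 6 n31502 = n45969 := rfl
theorem F191154 : act 0 n45969 = n31549 := d5_1 D45969 (iv D31549) (iv F133081)
theorem F191157 : act 9 n45969 = n31664 := d41_2 (iv F133084) D45969 (iv D31664)
def n45970 : Q := act 8 n31502
theorem D45970 : act 8 n31502 = n45970 := rfl
theorem F191158 : act 0 n45970 = n31550 := d7_1 D45970 (iv D31550) (iv F133081)
def n45972 : Q := act 9 n31503
theorem D45972 : act 9 n31503 = n45972 := rfl
theorem F191164 : act 0 n45972 = n31552 := d8_1 D45972 (iv D31552) (iv F133085)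
theorem F191166 : act 8 n45972 = n31667 := d44_1 D45972 (iv D31667) (iv D21728) (iv F92840) D31503
def n45974 : Q := act 9 n31504
theorem D45974 : act 9 n31504 = n45974 := rfl
theorem F191171 : act 0 n45974 = n31554 := d8_1 D45974 (iv D31554) (iv F133087)
theorem F191172 : act 4 n45974 = n34778 := d34_1 D45974 (iv D34778) (iv F133088)
theorem F191175 : act 8 n45974 = n31669 := d44_1 D45974 (iv D31669) (iv D21729) (iv F92845) D31504
def n45999 : Q := act 0 n31519
theorem D45999 : act 0 n31519 = n45999 := rfl
theorem F191260 : act 1 n45999 = n31579 := d0_2 D31519 D45999 (iv D31579) (iv D21664) (iv F92877)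
theorem F191261 : act 3 n45999 = n31544 := d2_2 (iv F133143) D45999 (iv D31544)
def n46003 : Q := act 9 n31520
theorem D46003 : act 9 n31520 = n46003 := rfl
theorem F191276 : act 4 n46003 = n31521 := d34_1 D46003 (iv D31521) D31520
def n46006 : Q := act 9 n31522
theorem D46006 : act 9 n31522 = n46006 := rfl
theorem F191285 : act 5 n46006 = n31523 := d38_1 D46006 (iv D31523) D31522
def n46015 : Q := act 3 n31533
theorem D46015 : act 3 n31533 = n46015 := rfl
theorem F191328 : act 0 n46015 = n31595 := d2_1 D46015 (iv D31595) (iv F133204)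
theorem F191331 : act 6 n46015 = n31534 := d26_2 (iv F133208) D46015 (iv D31534)
def n46017 : Q := act 2 n31534
theorem D46017 : act 2 n31534 = n46017 := rfl
theorem F191338 : act 0 n46017 = n31597 := d1_1 D46017 (iv D31597) (iv F133209)
theorem F191340 : act 7 n46017 = n31536 := d21_2 (iv F133212) D46017 (iv D31536)
def n46018 : Q := act 4 n31534
theorem D46018 : act 4 n31534 = n46018 := rfl
theorem F191341 : act 0 n46018 = n31598 := d3_1 D46018 (iv D31598) (iv F133209)
theorem F191345 : act 7 n46018 = n31537 := d32_2 (iv F133212) D46018 (iv D31537)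
def n46021 : Q := act 4 n31536
theorem D46021 : act 4 n31536 = n46021 := rfl
theorem F191353 : act 0 n46021 = n31601 := d3_1 D46021 (iv D31601) (iv F133219)
def n46024 : Q := act 8 n31538
theorem D46024 : act 8 n31538 = n46024 := rfl
theorem F191366 : act 3 n46024 = n31698 := d28_1 D46024 (iv D31698) F93385 (iv F92944) (iv F133227)
def n46028 : Q := act 0 n31541
theorem D46028 : act 0 n31541 = n46028 := rfl
theorem F191383 : act 1 n46028 = n31608 := d0_2 D31541 D46028 (iv D31608) (iv D21686) (iv F92956)
theorem F191386 : act 6 n46028 = n31544 := d5_2 (iv F133241) D46028 (iv D31544)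
def n46033 : Q := act 3 n31546
theorem D46033 : act 3 n31546 = n46033 := rfl
theorem F191405 : act 2 n46033 = n31707 := d17_1 D46033 (iv D31707) F93417 (iv F92973) (iv F133260)
def n46034 : Q := act 6 n31547
theorem D46034 : act 6 n31547 = n46034 := rfl
theorem F191407 : act 1 n46034 = n46034 := d13_1 D46034 (iv D46034) F133263
theorem F191408 : act 3 n46034 = n46034 := d26_1 D46034 (iv D46034) F133264
theorem F191409 : act 4 n46034 = n31549 := d31_1 D46034 (iv D31549) (iv F133265)
theorem F191410 : act 9 n46034 = n31708 := d41_2 (iv F133267) D46034 (iv D31708)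
def n46035 : Q := act 8 n31547
theorem D46035 : act 8 n31547 = n46035 := rfl
theorem F191411 : act 1 n46035 = n46035 := d15_1 D46035 (iv D46035) F133263
theorem F191412 : act 4 n46035 = n31550 := d33_1 D46035 (iv D31550) (iv F133265)
theorem F191413 : act 5 n46035 = n34811 := d37_1 D46035 (iv D34811) (iv F133266)
theorem F191414 : act 7 n46035 = n31548 := d42_1 D46035 (iv D31548) D31547
def n46036 : Q := act 3 n31548
theorem D46036 : act 3 n31548 = n46036 := rfl
theorem F191415 : act 1 n46036 = n46036 := d10_1 D46036 (iv D46036) F133268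
theorem F191416 : act 5 n46036 = n34812 := d25_2 (iv F133270) D46036 (iv D34812)
theorem F191417 : act 8 n46036 = n46036 := d28_2 D31548 D46036 (iv D46036) (iv D31548) F92977
def n46037 : Q := act 9 n31548
theorem D46037 : act 9 n31548 = n46037 := rfl
theorem F191418 : act 1 n46037 = n46037 := d16_1 D46037 (iv D46037) F133268
theorem F191419 : act 4 n46037 = n31552 := d34_1 D46037 (iv D31552) (iv F133269)
theorem F191420 : act 5 n46037 = n34813 := d38_1 D46037 (iv D34813) (iv F133270)
theorem F191421 : act 8 n46037 = n31711 := d44_1 D46037 (iv D31711) (iv D21760) (iv F92979) D31548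
def n46038 : Q := act 8 n31549
theorem D46038 : act 8 n31549 = n46038 := rfl
theorem F191422 : act 1 n46038 = n46038 := d15_1 D46038 (iv D46038) F133271
theorem F191423 : act 5 n46038 = n46038 := d37_1 D46038 (iv D46038) F133273
theorem F191424 : act 6 n46038 = n31550 := d40_1 D46038 (iv D31550) D31549
def n46039 : Q := act 3 n31550
theorem D46039 : act 3 n31550 = n46039 := rfl
theorem F191428 : act 8 n46039 = n31565 := d28_2 D31550 D46039 (iv D31565) (iv D21656) (iv F92981)
def n46040 : Q := act 9 n31550
theorem D46040 : act 9 n31550 = n46040 := rfl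
theorem F191429 : act 1 n46040 = n46040 := d16_1 D46040 (iv D46040) F133275
theorem F191430 : act 5 n46040 = n31554 := d38_1 D46040 (iv D31554) (iv F133276)
theorem F191431 : act 7 n46040 = n31552 := d43_1 D46040 (iv D31552) (iv F133277)
theorem F191432 : act 8 n46040 = n31714 := d44_1 D46040 (iv D31714) (iv D21762) (iv F92983) D31550
def n46043 : Q := act 9 n31551
theorem D46043 : act 9 n31551 = n46043 := rfl
theorem F191438 : act 3 n46043 = n31552 := d29_1 D46043 (iv D31552) D31551
def n46046 : Q := act 9 n31553
theorem D46046 : act 9 n31553 = n46046 := rfl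
theorem F191449 : act 3 n46046 = n31554 := d29_1 D46046 (iv D31554) D31553
def n46054 : Q := act 4 n31558
theorem D46054 : act 4 n31558 = n46054 := rfl
theorem F191477 : act 8 n46054 = n31580 := d33_2 (iv F133304) D46054 (iv D31580)
def n46055 : Q := act 9 n31558
theorem D46055 : act 9 n31558 = n46055 := rfl
def n46065 : Q := act 2 n31565
theorem D46065 : act 2 n31565 = n46065 := rfl
theorem F191514 : act 3 n46065 = n31597 := d17_2 D31565 D46065 (iv D31597) (iv D21679) (iv F93012)
theorem F191516 : act 7 n46065 = n31567 := d21_2 (iv F133329) D46065 (iv D31567)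
def n46068 : Q := act 1 n31567
theorem D46068 : act 1 n31567 = n46068 := rfl
theorem F191525 : act 3 n46068 = n31600 := d10_2 (iv F133336) D46068 (iv D31600)
theorem F191526 : act 5 n46068 = n31573 := d12_2 (iv F133337) D46068 (iv D31573)
def n46074 : Q := act 1 n31570
theorem D46074 : act 1 n31570 = n46074 := rfl
theorem F191541 : act 3 n46074 = n31605 := d10_2 (iv F133343) D46074 (iv D31605)
theorem F191543 : act 7 n46074 = n31573 := d14_2 (iv F133345) D46074 (iv D31573)
def n46079 : Q := act 8 n31572
theorem D46079 : act 8 n31572 = n46079 := rfl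
theorem F191561 : act 3 n46079 = n31738 := d28_1 D46079 (iv D31738) F93491 (iv F93031) (iv F133351)
def n46084 : Q := act 9 n31574
theorem D46084 : act 9 n31574 = n46084 := rfl
theorem F191579 : act 4 n46084 = n31575 := d34_1 D46084 (iv D31575) D31574
def n46089 : Q := act 4 n31579
theorem D46089 : act 4 n31579 = n46089 := rfl
def n46090 : Q := act 9 n31579
theorem D46090 : act 9 n31579 = n46090 := rfl
theorem F191599 : act 3 n46090 = n31611 := d29_1 D46090 (iv D31611) (iv F133373)
def n46097 : Q := act 3 n31584
theorem D46097 : act 3 n31584 = n46097 := rfl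
theorem F191622 : act 2 n46097 = n31744 := d17_1 D46097 (iv D31744) F93515 (iv F93057) (iv F133390)
def n46106 : Q := act 2 n31595
theorem D46106 : act 2 n31595 = n46106 := rfl
theorem F191663 : act 5 n46106 = n46106 := d19_2 F133440 D46106 (iv D46106)
theorem F191664 : act 6 n46106 = n31597 := d20_2 (iv F133441) D46106 (iv D31597)
def n46107 : Q := act 4 n31595
theorem D46107 : act 4 n31595 = n46107 := rfl
theorem F191665 : act 1 n46107 = n31615 := d11_1 D46107 (iv D31615) (iv F133439)
theorem F191666 : act 3 n46107 = n46107 := d24_1 D46107 (iv D46107) (iv D31595) F93101 D31595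
theorem F191667 : act 6 n46107 = n31598 := d31_2 (iv F133441) D46107 (iv D31598)
def n46108 : Q := act 9 n31595
theorem D46108 : act 9 n31595 = n46108 := rfl
theorem F191668 : act 1 n46108 = n31616 := d16_1 D46108 (iv D31616) (iv F133439)
def n46109 : Q := act 1 n31597
theorem D46109 : act 1 n31597 = n46109 := rfl
theorem F191672 : act 2 n46109 = n31617 := d9_2 D31597 D46109 (iv D31617) (iv D21694) (iv F93104)
theorem F191673 : act 5 n46109 = n31605 := d12_2 (iv F133447) D46109 (iv D31605)
theorem F191674 : act 7 n46109 = n31600 := d14_2 (iv F133448) D46109 (iv D31600)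
def n46110 : Q := act 4 n31597
theorem D46110 : act 4 n31597 = n46110 := rfl
theorem F191675 : act 2 n46110 = n31598 := d18_1 D46110 (iv D31598) D31597
theorem F191676 : act 5 n46110 = n46110 := d30_2 (iv F133447) D46110 (iv D46110) F133447 F93119
theorem F191677 : act 7 n46110 = n31601 := d32_2 (iv F133448) D46110 (iv D31601)
def n46111 : Q := act 9 n31597
theorem D46111 : act 9 n31597 = n46111 := rfl
theorem F191680 : act 7 n46111 = n31602 := d43_1 D46111 (iv D31602) (iv F133448)
def n46112 : Q := act 9 n31598
theorem D46112 : act 9 n31598 = n46112 := rfl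
theorem F191681 : act 1 n46112 = n31620 := d16_1 D46112 (iv D31620) (iv F133449)
theorem F191685 : act 7 n46112 = n31603 := d43_1 D46112 (iv D31603) (iv F133452)
def n46113 : Q := act 8 n31599
theorem D46113 : act 8 n31599 = n46113 := rfl
theorem F191686 : act 1 n46113 = n31621 := d15_1 D46113 (iv D31621) (iv F133453)
theorem F191687 : act 3 n46113 = n31752 := d28_1 D46113 (iv D31752) F93532 (iv F93111) (iv F133454)
def n46114 : Q := act 0 n31600
theorem D46114 : act 0 n31600 = n46114 := rfl
theorem F191690 : act 2 n46114 = n31622 := d1_2 (iv F133457) D46114 (iv D31622)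
theorem F191691 : act 5 n46114 = n31608 := d4_2 (iv F133458) D46114 (iv D31608)
def n46115 : Q := act 4 n31600
theorem D46115 : act 4 n31600 = n46115 := rfl
theorem F191692 : act 1 n46115 = n31601 := d11_1 D46115 (iv D31601) D31600
theorem F191693 : act 2 n46115 = n31623 := d18_1 D46115 (iv D31623) (iv F133457)
def n46116 : Q := act 9 n31600
theorem D46116 : act 9 n31600 = n46116 := rfl
theorem F191696 : act 2 n46116 = n31624 := d23_1 D46116 (iv D31624) (iv F133457)
theorem F191697 : act 5 n46116 = n31609 := d38_1 D46116 (iv D31609) (iv F133458)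
def n46117 : Q := act 3 n31601
theorem D46117 : act 3 n31601 = n46117 := rfl
def n46118 : Q := act 9 n31601
theorem D46118 : act 9 n31601 = n46118 := rfl
theorem F191701 : act 4 n46118 = n31602 := d34_1 D46118 (iv D31602) D31601
def n46120 : Q := act 8 n31603
theorem D46120 : act 8 n31603 = n46120 := rfl
theorem F191705 : act 1 n46120 = n31628 := d15_1 D46120 (iv D31628) (iv F133463)
def n46121 : Q := act 0 n31605
theorem D46121 : act 0 n31605 = n46121 := rfl
theorem F191708 : act 2 n46121 = n31629 := d1_2 (iv F133470) D46121 (iv D31629)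
theorem F191709 : act 4 n46121 = n46121 := d3_2 F133471 D46121 (iv D46121)
theorem F191710 : act 6 n46121 = n46121 := d5_2 F133472 D46121 (iv D46121)
theorem F191711 : act 7 n46121 = n31608 := d6_2 (iv F133473) D46121 (iv D31608)
def n46122 : Q := act 9 n31605
theorem D46122 : act 9 n31605 = n46122 := rfl
theorem F191713 : act 2 n46122 = n31630 := d23_1 D46122 (iv D31630) (iv F133470)
theorem F191716 : act 7 n46122 = n31609 := d43_1 D46122 (iv D31609) (iv F133473)
def n46124 : Q := act 9 n31608
theorem D46124 : act 9 n31608 = n46124 := rfl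
theorem F191722 : act 2 n46124 = n31632 := d23_1 D46124 (iv D31632) (iv F133483)
theorem F191724 : act 6 n46124 = n31611 := d41_1 D46124 (iv D31611) (iv F133485)
def n46125 : Q := act 8 n31609
theorem D46125 : act 8 n31609 = n46125 := rfl
theorem F191726 : act 2 n46125 = n31633 := d22_1 D46125 (iv D31633) (iv F133487)
def n46126 : Q := act 3 n31610
theorem D46126 : act 3 n31610 = n46126 := rfl
theorem F191729 : act 2 n46126 = n31765 := d17_1 D46126 (iv D31765) F93566 (iv F93134) (iv F133490)
def n46127 : Q := act 8 n31611
theorem D46127 : act 8 n31611 = n46127 := rfl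
theorem F191732 : act 2 n46127 = n31635 := d22_1 D46127 (iv D31635) (iv F133494)
def n46129 : Q := act 4 n31613
theorem D46129 : act 4 n31613 = n46129 := rfl
theorem F191737 : act 2 n46129 = n31768 := d18_1 D46129 (iv D31768) (iv F133501)
def n46130 : Q := act 1 n31614
theorem D46130 : act 1 n31614 = n46130 := rfl
theorem F191742 : act 6 n46130 = n31617 := d13_2 (iv F133506) D46130 (iv D31617)
def n46131 : Q := act 4 n31614
theorem D46131 : act 4 n31614 = n46131 := rfl
theorem F191744 : act 2 n46131 = n31615 := d18_1 D46131 (iv D31615) D31614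
def n46132 : Q := act 9 n31614
theorem D46132 : act 9 n31614 = n46132 := rfl
theorem F191747 : act 2 n46132 = n31616 := d23_1 D46132 (iv D31616) D31614
def n46133 : Q := act 5 n31615
theorem D46133 : act 5 n31615 = n46133 := rfl
def n46134 : Q := act 9 n31615
theorem D46134 : act 9 n31615 = n46134 := rfl
theorem F191757 : act 4 n46134 = n31616 := d34_1 D46134 (iv D31616) D31615
theorem F191758 : act 6 n46134 = n31620 := d41_1 D46134 (iv D31620) (iv F133509)
def n46135 : Q := act 8 n31616
theorem D46135 : act 8 n31616 = n46135 := rfl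
theorem F191760 : act 3 n46135 = n31774 := d28_1 D46135 (iv D31774) F93586 (iv F93155) (iv F133511)
def n46136 : Q := act 0 n31617
theorem D46136 : act 0 n31617 = n46136 := rfl
theorem F191765 : act 5 n46136 = n31629 := d4_2 (iv F133515) D46136 (iv D31629)
theorem F191766 : act 7 n46136 = n31622 := d6_2 (iv F133516) D46136 (iv D31622)
def n46137 : Q := act 4 n31617
theorem D46137 : act 4 n31617 = n46137 := rfl
theorem F191767 : act 1 n46137 = n31618 := d11_1 D46137 (iv D31618) D31617
theorem F191769 : act 7 n46137 = n31623 := d32_2 (iv F133516) D46137 (iv D31623)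
def n46138 : Q := act 9 n31617
theorem D46138 : act 9 n31617 = n46138 := rfl
theorem F191770 : act 1 n46138 = n31619 := d16_1 D46138 (iv D31619) D31617
theorem F191772 : act 5 n46138 = n31630 := d38_1 D46138 (iv D31630) (iv F133515)
theorem F191773 : act 7 n46138 = n31624 := d43_1 D46138 (iv D31624) (iv F133516)
def n46141 : Q := act 8 n31619
theorem D46141 : act 8 n31619 = n46141 := rfl
theorem F191785 : act 2 n46141 = n31621 := d22_1 D46141 (iv D31621) (iv F133522)
theorem F191787 : act 7 n46141 = n31627 := d42_1 D46141 (iv D31627) (iv F133525)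
def n46142 : Q := act 8 n31620
theorem D46142 : act 8 n31620 = n46142 := rfl
theorem F191789 : act 4 n46142 = n31621 := d33_1 D46142 (iv D31621) (iv F133528)
theorem F191791 : act 7 n46142 = n31628 := d42_1 D46142 (iv D31628) (iv F133530)
def n46143 : Q := act 4 n31622
theorem D46143 : act 4 n31622 = n46143 := rfl
theorem F191792 : act 0 n46143 = n31623 := d3_1 D46143 (iv D31623) D31622
def n46144 : Q := act 9 n31622
theorem D46144 : act 9 n31622 = n46144 := rfl
theorem F191795 : act 0 n46144 = n31624 := d8_1 D46144 (iv D31624) D31622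
theorem F191798 : act 5 n46144 = n31632 := d38_1 D46144 (iv D31632) (iv F133537)
def n46145 : Q := act 3 n31623
theorem D46145 : act 3 n31623 = n46145 := rfl
def n46146 : Q := act 9 n31623
theorem D46146 : act 9 n31623 = n46146 := rfl
theorem F191803 : act 4 n46146 = n31624 := d34_1 D46146 (iv D31624) D31623
def n46147 : Q := act 8 n31624
theorem D46147 : act 8 n31624 = n46147 := rfl
theorem F191805 : act 1 n46147 = n31627 := d15_1 D46147 (iv D31627) (iv F133540)
theorem F191806 : act 5 n46147 = n31633 := d37_1 D46147 (iv D31633) (iv F133542)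
def n46150 : Q := act 8 n31626
theorem D46150 : act 8 n31626 = n46150 := rfl
theorem F191817 : act 2 n46150 = n31628 := d22_1 D46150 (iv D31628) (iv F133548)
theorem F191818 : act 4 n46150 = n31627 := d33_1 D46150 (iv D31627) (iv F133549)
def n46151 : Q := act 3 n31627
theorem D46151 : act 3 n31627 = n46151 := rfl
theorem F191821 : act 2 n46151 = n31790 := d17_1 D46151 (iv D31790) F93626 (iv F93182) (iv F133552)
def n46152 : Q := act 3 n31628
theorem D46152 : act 3 n31628 = n46152 := rfl
theorem F191825 : act 4 n46152 = n31791 := d24_2 (iv F133555) D46152 (iv D31791) F93629 (iv F93182)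
def n46153 : Q := act 9 n31629
theorem D46153 : act 9 n31629 = n46153 := rfl
theorem F191828 : act 0 n46153 = n31630 := d8_1 D46153 (iv D31630) D31629
theorem F191829 : act 1 n46153 = n46153 := d16_1 D46153 (iv D46153) F133557
theorem F191830 : act 3 n46153 = n46153 := d29_1 D46153 (iv D46153) F133558
theorem F191831 : act 4 n46153 = n46153 := d34_1 D46153 (iv D46153) F133559
theorem F191832 : act 6 n46153 = n46153 := d41_1 D46153 (iv D46153) F133560
theorem F191833 : act 7 n46153 = n31632 := d43_1 D46153 (iv D31632) (iv F133561)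
def n46154 : Q := act 8 n31630
theorem D46154 : act 8 n31630 = n46154 := rfl
theorem F191834 : act 1 n46154 = n31631 := d15_1 D46154 (iv D31631) (iv F133562)
theorem F191835 : act 4 n46154 = n46154 := d33_1 D46154 (iv D46154) F133564
theorem F191836 : act 6 n46154 = n46154 := d40_1 D46154 (iv D46154) F133565
theorem F191837 : act 7 n46154 = n31633 := d42_1 D46154 (iv D31633) (iv F133566)
def n46156 : Q := act 8 n31632
theorem D46156 : act 8 n31632 = n46156 := rfl
theorem F191843 : act 0 n46156 = n31633 := d7_1 D46156 (iv D31633) (iv F133572)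
theorem F191844 : act 1 n46156 = n46156 := d15_1 D46156 (iv D46156) F133573
theorem F191845 : act 4 n46156 = n46156 := d33_1 D46156 (iv D46156) F133575
theorem F191846 : act 6 n46156 = n31635 := d40_1 D46156 (iv D31635) (iv F133576)
def n46157 : Q := act 3 n31633
theorem D46157 : act 3 n31633 = n46157 := rfl
theorem F191847 : act 1 n46157 = n31634 := d10_1 D46157 (iv D31634) (iv F133577)
theorem F191848 : act 6 n46157 = n31636 := d26_2 (iv F133579) D46157 (iv D31636)
theorem F191849 : act 8 n46157 = n46157 := d28_2 D31633 D46157 (iv D46157) (iv D31633) F93204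
def n46158 : Q := act 4 n31634
theorem D46158 : act 4 n31634 = n46158 := rfl
def n46159 : Q := act 3 n31635
theorem D46159 : act 3 n31635 = n46159 := rfl
theorem F191855 : act 0 n46159 = n31636 := d2_1 D46159 (iv D31636) (iv F133584)
def n46160 : Q := act 2 n31636
theorem D46160 : act 2 n31636 = n46160 := rfl
theorem F191859 : act 1 n46160 = n31799 := d9_1 D46160 (iv D31799) F93661 (iv F93220) (iv F133588)
def n46161 : Q := act 4 n31636
theorem D46161 : act 4 n31636 = n46161 := rfl
theorem F191862 : act 1 n46161 = n31637 := d11_1 D46161 (iv D31637) (iv F133588)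
def n46162 : Q := act 5 n31637
theorem D46162 : act 5 n31637 = n46162 := rfl
theorem F191867 : act 2 n46162 = n31801 := d19_1 D46162 (iv D31801) (iv F133592)
def n46165 : Q := act 8 n31638
theorem D46165 : act 8 n31638 = n46165 := rfl
theorem F191880 : act 5 n46165 = n31640 := d37_1 D46165 (iv D31640) D31638
def n46168 : Q := act 9 n31640
theorem D46168 : act 9 n31640 = n46168 := rfl
theorem F191891 : act 4 n46168 = n34877 := d34_1 D46168 (iv D34877) (iv F133606)
def n46170 : Q := act 4 n31641
theorem D46170 : act 4 n31641 = n46170 := rfl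
theorem F191898 : act 3 n46170 = n34878 := d24_1 D46170 (iv D34878) (iv D23936) (iv F93229) D31641
def n46173 : Q := act 8 n31643
theorem D46173 : act 8 n31643 = n46173 := rfl
theorem F191910 : act 1 n46173 = n31663 := d15_1 D46173 (iv D31663) (iv F133616)
def n46174 : Q := act 6 n31644
theorem D46174 : act 6 n31644 = n46174 := rfl
theorem F191915 : act 3 n46174 = n31651 := d26_1 D46174 (iv D31651) (iv F133621)
def n46175 : Q := act 8 n31644
theorem D46175 : act 8 n31644 = n46175 := rfl
theorem F191918 : act 1 n46175 = n31665 := d15_1 D46175 (iv D31665) (iv F133620)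
def n46177 : Q := act 9 n31645
theorem D46177 : act 9 n31645 = n46177 := rfl
theorem F191926 : act 1 n46177 = n31667 := d16_1 D46177 (iv D31667) (iv F133624)
theorem F191927 : act 5 n46177 = n31648 := d38_1 D46177 (iv D31648) (iv F133625)
def n46179 : Q := act 9 n31646
theorem D46179 : act 9 n31646 = n46179 := rfl
theorem F191935 : act 1 n46179 = n31669 := d16_1 D46179 (iv D31669) (iv F133627)
theorem F191936 : act 4 n46179 = n34885 := d34_1 D46179 (iv D34885) (iv F133628)
def n46200 : Q := act 8 n31662
theorem D46200 : act 8 n31662 = n46200 := rfl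
theorem F192029 : act 0 n46200 = n31709 := d7_1 D46200 (iv D31709) (iv F133701)
theorem F192030 : act 4 n46200 = n31665 := d33_1 D46200 (iv D31665) (iv F133703)
theorem F192032 : act 7 n46200 = n31663 := d42_1 D46200 (iv D31663) D31662
def n46201 : Q := act 3 n31663
theorem D46201 : act 3 n31663 = n46201 := rfl
theorem F192033 : act 0 n46201 = n31710 := d2_1 D46201 (iv D31710) (iv F133705)
theorem F192034 : act 5 n46201 = n34888 := d25_2 (iv F133707) D46201 (iv D34888)
theorem F192035 : act 8 n46201 = n46201 := d28_2 D31663 D46201 (iv D46201) (iv D31663) F93294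
def n46202 : Q := act 9 n31663
theorem D46202 : act 9 n31663 = n46202 := rfl
theorem F192036 : act 0 n46202 = n31711 := d8_1 D46202 (iv D31711) (iv F133705)
theorem F192037 : act 4 n46202 = n31667 := d34_1 D46202 (iv D31667) (iv F133706)
theorem F192038 : act 5 n46202 = n34889 := d38_1 D46202 (iv D34889) (iv F133707)
def n46203 : Q := act 8 n31664
theorem D46203 : act 8 n31664 = n46203 := rfl
theorem F192039 : act 0 n46203 = n31712 := d7_1 D46203 (iv D31712) (iv F133708)
theorem F192041 : act 6 n46203 = n31665 := d40_1 D46203 (iv D31665) D31664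
def n46204 : Q := act 3 n31665
theorem D46204 : act 3 n31665 = n46204 := rfl
theorem F192042 : act 0 n46204 = n31713 := d2_1 D46204 (iv D31713) (iv F133711)
theorem F192043 : act 5 n46204 = n31668 := d25_2 (iv F133712) D46204 (iv D31668)
def n46205 : Q := act 9 n31665
theorem D46205 : act 9 n31665 = n46205 := rfl
theorem F192046 : act 0 n46205 = n31714 := d8_1 D46205 (iv D31714) (iv F133711)
theorem F192047 : act 5 n46205 = n31669 := d38_1 D46205 (iv D31669) (iv F133712)
theorem F192048 : act 7 n46205 = n31667 := d43_1 D46205 (iv D31667) (iv F133713)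
def n46206 : Q := act 2 n31666
theorem D46206 : act 2 n31666 = n46206 := rfl
theorem F192049 : act 0 n46206 = n31715 := d1_1 D46206 (iv D31715) (iv F133714)
def n46207 : Q := act 4 n31666
theorem D46207 : act 4 n31666 = n46207 := rfl
theorem F192052 : act 0 n46207 = n31716 := d3_1 D46207 (iv D31716) (iv F133714)
def n46208 : Q := act 9 n31666
theorem D46208 : act 9 n31666 = n46208 := rfl
theorem F192055 : act 0 n46208 = n31717 := d8_1 D46208 (iv D31717) (iv F133714)
theorem F192056 : act 3 n46208 = n31667 := d29_1 D46208 (iv D31667) D31666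
def n46209 : Q := act 2 n31668
theorem D46209 : act 2 n31668 = n46209 := rfl
theorem F192058 : act 0 n46209 = n31718 := d1_1 D46209 (iv D31718) (iv F133719)
def n46210 : Q := act 9 n31668
theorem D46210 : act 9 n31668 = n46210 := rfl
theorem F192063 : act 0 n46210 = n31719 := d8_1 D46210 (iv D31719) (iv F133719)
theorem F192064 : act 3 n46210 = n31669 := d29_1 D46210 (iv D31669) D31668
def n46212 : Q := act 9 n31670
theorem D46212 : act 9 n31670 = n46212 := rfl
theorem F192071 : act 0 n46212 = n31721 := d8_1 D46212 (iv D31721) (iv F133728)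
def n46214 : Q := act 0 n31672
theorem D46214 : act 0 n31672 = n46214 := rfl
theorem F192079 : act 1 n46214 = n31723 := d0_2 D31672 D46214 (iv D31723) (iv D21769) (iv F93312)
def n46216 : Q := act 8 n31673
theorem D46216 : act 8 n31673 = n46216 := rfl
theorem F192090 : act 9 n46216 = n31688 := d44_2 D31673 D46216 (iv D31688) (iv D21743) (iv F93315)
def n46217 : Q := act 3 n31675
theorem D46217 : act 3 n31675 = n46217 := rfl
theorem F192091 : act 0 n46217 = n31726 := d2_1 D46217 (iv D31726) (iv F133747)
def n46219 : Q := act 2 n31676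
theorem D46219 : act 2 n31676 = n46219 := rfl
theorem F192099 : act 0 n46219 = n31728 := d1_1 D46219 (iv D31728) (iv F133752)
theorem F192100 : act 3 n46219 = n31691 := d17_2 D31676 D46219 (iv D31691) (iv D21746) (iv F93325)
def n46220 : Q := act 4 n31676
theorem D46220 : act 4 n31676 = n46220 := rfl
theorem F192103 : act 0 n46220 = n31729 := d3_1 D46220 (iv D31729) (iv F133752)
def n46222 : Q := act 1 n31678
theorem D46222 : act 1 n31678 = n46222 := rfl
theorem F192111 : act 3 n46222 = n31694 := d10_2 (iv F133761) D46222 (iv D31694)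
theorem F192112 : act 5 n46222 = n31683 := d12_2 (iv F133762) D46222 (iv D31683)
def n46223 : Q := act 4 n31678
theorem D46223 : act 4 n31678 = n46223 := rfl
theorem F192113 : act 0 n46223 = n31732 := d3_1 D46223 (iv D31732) (iv F133760)
def n46227 : Q := act 1 n31681
theorem D46227 : act 1 n31681 = n46227 := rfl
theorem F192126 : act 3 n46227 = n31699 := d10_2 (iv F133770) D46227 (iv D31699)
def n46230 : Q := act 0 n31683
theorem D46230 : act 0 n31683 = n46230 := rfl
theorem F192140 : act 1 n46230 = n31739 := d0_2 D31683 D46230 (iv D31739) (iv D21780) (iv F93344)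
theorem F192141 : act 3 n46230 = n31702 := d2_2 (iv F133779) D46230 (iv D31702)
def n46236 : Q := act 2 n31689
theorem D46236 : act 2 n31689 = n46236 := rfl
theorem F192163 : act 0 n46236 = n31745 := d1_1 D46236 (iv D31745) (iv F133802)
theorem F192164 : act 5 n46236 = n46236 := d19_2 F133804 D46236 (iv D46236)
theorem F192165 : act 6 n46236 = n31691 := d20_2 (iv F133805) D46236 (iv D31691)
def n46237 : Q := act 4 n31689
theorem D46237 : act 4 n31689 = n46237 := rfl
theorem F192166 : act 0 n46237 = n31746 := d3_1 D46237 (iv D31746) (iv F133802)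
theorem F192169 : act 6 n46237 = n31692 := d31_2 (iv F133805) D46237 (iv D31692)
def n46238 : Q := act 9 n31689
theorem D46238 : act 9 n31689 = n46238 := rfl
theorem F192170 : act 0 n46238 = n31747 := d8_1 D46238 (iv D31747) (iv F133802)
theorem F192174 : act 6 n46238 = n31693 := d41_1 D46238 (iv D31693) (iv F133805)
def n46239 : Q := act 1 n31691
theorem D46239 : act 1 n31691 = n46239 := rfl
theorem F192175 : act 2 n46239 = n46239 := d9_2 D31691 D46239 (iv D46239) (iv D31691) F93369
theorem F192176 : act 5 n46239 = n31699 := d12_2 (iv F133812) D46239 (iv D31699)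
theorem F192177 : act 7 n46239 = n31694 := d14_2 (iv F133813) D46239 (iv D31694)
def n46240 : Q := act 4 n31691
theorem D46240 : act 4 n31691 = n46240 := rfl
theorem F192178 : act 0 n46240 = n31749 := d3_1 D46240 (iv D31749) (iv F133811)
theorem F192179 : act 2 n46240 = n31692 := d18_1 D46240 (iv D31692) D31691
theorem F192180 : act 5 n46240 = n32315 := d30_2 (iv F133812) D46240 (iv D32315) F95151 (iv F93388)
theorem F192181 : act 7 n46240 = n31695 := d32_2 (iv F133813) D46240 (iv D31695)
def n46241 : Q := act 9 n31691
theorem D46241 : act 9 n31691 = n46241 := rfl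
theorem F192182 : act 0 n46241 = n31750 := d8_1 D46241 (iv D31750) (iv F133811)
theorem F192183 : act 2 n46241 = n31693 := d23_1 D46241 (iv D31693) D31691
def n46242 : Q := act 9 n31692
theorem D46242 : act 9 n31692 = n46242 := rfl
theorem F192189 : act 4 n46242 = n31693 := d34_1 D46242 (iv D31693) D31692
def n46244 : Q := act 0 n31694
theorem D46244 : act 0 n31694 = n46244 := rfl
theorem F192196 : act 1 n46244 = n31753 := d0_2 D31694 D46244 (iv D31753) (iv D21791) (iv F93377)
theorem F192197 : act 2 n46244 = n46244 := d1_2 F133824 D46244 (iv D46244)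
theorem F192198 : act 5 n46244 = n31702 := d4_2 (iv F133825) D46244 (iv D31702)
def n46245 : Q := act 4 n31694
theorem D46245 : act 4 n31694 = n46245 := rfl
theorem F192199 : act 1 n46245 = n31695 := d11_1 D46245 (iv D31695) D31694
theorem F192200 : act 2 n46245 = n46245 := d18_1 D46245 (iv D46245) F133824
theorem F192201 : act 5 n46245 = n32320 := d30_2 (iv F133825) D46245 (iv D32320) F95164 (iv F93398)
def n46246 : Q := act 9 n31694
theorem D46246 : act 9 n31694 = n46246 := rfl
theorem F192204 : act 5 n46246 = n31703 := d38_1 D46246 (iv D31703) (iv F133825)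
def n46247 : Q := act 3 n31695
theorem D46247 : act 3 n31695 = n46247 := rfl
theorem F192205 : act 0 n46247 = n31756 := d2_1 D46247 (iv D31756) (iv F133826)
theorem F192206 : act 2 n46247 = n46247 := d17_1 D46247 (iv D46247) F133827 F93381 (iv F133827)
theorem F192207 : act 5 n46247 = n32322 := d25_2 (iv F133828) D46247 (iv D32322)
def n46248 : Q := act 9 n31695
theorem D46248 : act 9 n31695 = n46248 := rfl
theorem F192208 : act 0 n46248 = n31757 := d8_1 D46248 (iv D31757) (iv F133826)
theorem F192210 : act 4 n46248 = n31696 := d34_1 D46248 (iv D31696) D31695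
theorem F192211 : act 5 n46248 = n32323 := d38_1 D46248 (iv D32323) (iv F133828)
def n46249 : Q := act 8 n31696
theorem D46249 : act 8 n31696 = n46249 := rfl
theorem F192212 : act 0 n46249 = n31758 := d7_1 D46249 (iv D31758) (iv F133829)
theorem F192213 : act 2 n46249 = n31698 := d22_1 D46249 (iv D31698) (iv F133830)
def n46250 : Q := act 8 n31697
theorem D46250 : act 8 n31697 = n46250 := rfl
theorem F192217 : act 4 n46250 = n31698 := d33_1 D46250 (iv D31698) (iv F133835)
theorem F192218 : act 5 n46250 = n32325 := d37_1 D46250 (iv D32325) (iv F133836)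
def n46251 : Q := act 0 n31699
theorem D46251 : act 0 n31699 = n46251 := rfl
theorem F192219 : act 1 n46251 = n31760 := d0_2 D31699 D46251 (iv D31760) (iv D21796) (iv F93387)
theorem F192220 : act 2 n46251 = n46251 := d1_2 F133840 D46251 (iv D46251)
theorem F192221 : act 4 n46251 = n32326 := d3_2 (iv F133841) D46251 (iv D32326)
theorem F192222 : act 6 n46251 = n46251 := d5_2 F133842 D46251 (iv D46251)
theorem F192223 : act 7 n46251 = n31702 := d6_2 (iv F133843) D46251 (iv D31702)
def n46252 : Q := act 9 n31699
theorem D46252 : act 9 n31699 = n46252 := rfl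
theorem F192224 : act 1 n46252 = n31700 := d16_1 D46252 (iv D31700) D31699
theorem F192226 : act 4 n46252 = n32327 := d34_1 D46252 (iv D32327) (iv F133841)
def n46253 : Q := act 8 n31700
theorem D46253 : act 8 n31700 = n46253 := rfl
theorem F192229 : act 0 n46253 = n31762 := d7_1 D46253 (iv D31762) (iv F133844)
theorem F192231 : act 4 n46253 = n32328 := d33_1 D46253 (iv D32328) (iv F133846)
def n46254 : Q := act 9 n31702
theorem D46254 : act 9 n31702 = n46254 := rfl
theorem F192234 : act 0 n46254 = n31703 := d8_1 D46254 (iv D31703) D31702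
theorem F192235 : act 1 n46254 = n31763 := d16_1 D46254 (iv D31763) (iv F133854)
theorem F192237 : act 4 n46254 = n32329 := d34_1 D46254 (iv D32329) (iv F133856)
def n46255 : Q := act 8 n31703
theorem D46255 : act 8 n31703 = n46255 := rfl
theorem F192239 : act 1 n46255 = n31704 := d15_1 D46255 (iv D31704) (iv F133858)
theorem F192241 : act 4 n46255 = n32330 := d33_1 D46255 (iv D32330) (iv F133860)
def n46256 : Q := act 3 n31704
theorem D46256 : act 3 n31704 = n46256 := rfl
theorem F192243 : act 0 n46256 = n31765 := d2_1 D46256 (iv D31765) (iv F133862)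
theorem F192244 : act 6 n46256 = n31707 := d26_2 (iv F133865) D46256 (iv D31707)
def n46257 : Q := act 8 n31705
theorem D46257 : act 8 n31705 = n46257 := rfl
theorem F192245 : act 0 n46257 = n31706 := d7_1 D46257 (iv D31706) (iv F133866)
theorem F192246 : act 1 n46257 = n31766 := d15_1 D46257 (iv D31766) (iv F133867)
theorem F192248 : act 4 n46257 = n32332 := d33_1 D46257 (iv D32332) (iv F133869)
def n46259 : Q := act 4 n31707
theorem D46259 : act 4 n31707 = n46259 := rfl
theorem F192252 : act 0 n46259 = n31768 := d3_1 D46259 (iv D31768) (iv F133875)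
theorem F192253 : act 3 n46259 = n32334 := d24_1 D46259 (iv D32334) (iv D22196) (iv F93418) D31707
def n46261 : Q := act 8 n31708
theorem D46261 : act 8 n31708 = n46261 := rfl
theorem F192260 : act 4 n46261 = n31712 := d33_1 D46261 (iv D31712) (iv F133879)
theorem F192261 : act 6 n46261 = n31709 := d40_1 D46261 (iv D31709) D31708
def n46262 : Q := act 3 n31709
theorem D46262 : act 3 n31709 = n46262 := rfl
theorem F192262 : act 1 n46262 = n46262 := d10_1 D46262 (iv D46262) F133880
theorem F192263 : act 5 n46262 = n34894 := d25_2 (iv F133882) D46262 (iv D34894)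
theorem F192264 : act 7 n46262 = n31710 := d27_2 (iv F133883) D46262 (iv D31710)
theorem F192265 : act 8 n46262 = n46262 := d28_2 D31709 D46262 (iv D46262) (iv D31709) F93421
def n46263 : Q := act 9 n31709
theorem D46263 : act 9 n31709 = n46263 := rfl
theorem F192266 : act 1 n46263 = n46263 := d16_1 D46263 (iv D46263) F133880
theorem F192267 : act 4 n46263 = n31714 := d34_1 D46263 (iv D31714) (iv F133881)
theorem F192268 : act 5 n46263 = n34895 := d38_1 D46263 (iv D34895) (iv F133882)
theorem F192269 : act 7 n46263 = n31711 := d43_1 D46263 (iv D31711) (iv F133883)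
def n46264 : Q := act 2 n31710
theorem D46264 : act 2 n31710 = n46264 := rfl
theorem F192270 : act 5 n46264 = n34896 := d19_2 (iv F133885) D46264 (iv D34896)
theorem F192271 : act 8 n46264 = n46264 := d22_2 F133886 D46264 (iv D46264)
def n46265 : Q := act 4 n31710
theorem D46265 : act 4 n31710 = n46265 := rfl
theorem F192272 : act 1 n46265 = n46265 := d11_1 D46265 (iv D46265) F133884
theorem F192273 : act 3 n46265 = n31716 := d24_1 D46265 (iv D31716) (iv D21763) (iv F93425) D31710
theorem F192274 : act 5 n46265 = n46265 := d30_2 (iv F133885) D46265 (iv D46265) F133885 F102374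
theorem F192275 : act 8 n46265 = n46265 := d33_2 F133886 D46265 (iv D46265)
def n46266 : Q := act 9 n31710
theorem D46266 : act 9 n31710 = n46266 := rfl
theorem F192276 : act 1 n46266 = n46266 := d16_1 D46266 (iv D46266) F133884
theorem F192277 : act 3 n46266 = n31711 := d29_1 D46266 (iv D31711) D31710
theorem F192278 : act 5 n46266 = n34897 := d38_1 D46266 (iv D34897) (iv F133885)
def n46267 : Q := act 3 n31712
theorem D46267 : act 3 n31712 = n46267 := rfl
theorem F192279 : act 1 n46267 = n46267 := d10_1 D46267 (iv D46267) F133890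
theorem F192280 : act 5 n46267 = n46267 := d25_2 F133891 D46267 (iv D46267)
theorem F192281 : act 6 n46267 = n31713 := d26_2 (iv F133892) D46267 (iv D31713)
theorem F192282 : act 8 n46267 = n31726 := d28_2 D31712 D46267 (iv D31726) (iv D21772) (iv F93428)
def n46268 : Q := act 9 n31712
theorem D46268 : act 9 n31712 = n46268 := rfl
theorem F192283 : act 1 n46268 = n46268 := d16_1 D46268 (iv D46268) F133890
theorem F192284 : act 5 n46268 = n46268 := d38_1 D46268 (iv D46268) F133891
theorem F192285 : act 6 n46268 = n31714 := d41_1 D46268 (iv D31714) (iv F133892)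
def n46269 : Q := act 2 n31713
theorem D46269 : act 2 n31713 = n46269 := rfl
theorem F192286 : act 5 n46269 = n31718 := d19_2 (iv F133894) D46269 (iv D31718)
theorem F192287 : act 7 n46269 = n31715 := d21_2 (iv F133895) D46269 (iv D31715)
theorem F192288 : act 8 n46269 = n31728 := d22_2 (iv F133896) D46269 (iv D31728)
def n46270 : Q := act 4 n31713
theorem D46270 : act 4 n31713 = n46270 := rfl
theorem F192289 : act 1 n46270 = n46270 := d11_1 D46270 (iv D46270) F133893
theorem F192290 : act 5 n46270 = n46270 := d30_2 (iv F133894) D46270 (iv D46270) F133894 F93439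
theorem F192291 : act 7 n46270 = n31716 := d32_2 (iv F133895) D46270 (iv D31716)
theorem F192292 : act 8 n46270 = n31729 := d33_2 (iv F133896) D46270 (iv D31729)
def n46271 : Q := act 9 n31713
theorem D46271 : act 9 n31713 = n46271 := rfl
theorem F192293 : act 1 n46271 = n46271 := d16_1 D46271 (iv D46271) F133893
theorem F192294 : act 3 n46271 = n31714 := d29_1 D46271 (iv D31714) D31713
theorem F192295 : act 5 n46271 = n31719 := d38_1 D46271 (iv D31719) (iv F133894)
theorem F192296 : act 7 n46271 = n31717 := d43_1 D46271 (iv D31717) (iv F133895)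
def n46272 : Q := act 1 n31715
theorem D46272 : act 1 n31715 = n46272 := rfl
theorem F192297 : act 2 n46272 = n46272 := d9_2 D31715 D46272 (iv D46272) (iv D31715) F93433
theorem F192298 : act 5 n46272 = n31720 := d12_2 (iv F133900) D46272 (iv D31720)
theorem F192299 : act 8 n46272 = n31731 := d15_2 (iv F133901) D46272 (iv D31731)
def n46273 : Q := act 4 n31715
theorem D46273 : act 4 n31715 = n46273 := rfl
theorem F192300 : act 2 n46273 = n31716 := d18_1 D46273 (iv D31716) D31715
theorem F192301 : act 5 n46273 = n46273 := d30_2 (iv F133900) D46273 (iv D46273) F133900 F93447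
theorem F192302 : act 8 n46273 = n31732 := d33_2 (iv F133901) D46273 (iv D31732)
def n46274 : Q := act 9 n31715
theorem D46274 : act 9 n31715 = n46274 := rfl
theorem F192303 : act 2 n46274 = n31717 := d23_1 D46274 (iv D31717) D31715
theorem F192304 : act 5 n46274 = n31721 := d38_1 D46274 (iv D31721) (iv F133900)
def n46275 : Q := act 9 n31716
theorem D46275 : act 9 n31716 = n46275 := rfl
theorem F192305 : act 1 n46275 = n46275 := d16_1 D46275 (iv D46275) F133902
theorem F192306 : act 4 n46275 = n31717 := d34_1 D46275 (iv D31717) D31716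
theorem F192307 : act 5 n46275 = n46275 := d38_1 D46275 (iv D46275) F133903
def n46276 : Q := act 8 n31717
theorem D46276 : act 8 n31717 = n46276 := rfl
theorem F192310 : act 9 n46276 = n31735 := d44_2 D31717 D46276 (iv D31735) (iv D21777) (iv F93435)
def n46277 : Q := act 1 n31718
theorem D46277 : act 1 n31718 = n46277 := rfl
theorem F192311 : act 2 n46277 = n46277 := d9_2 D31718 D46277 (iv D46277) (iv D31718) F93438
theorem F192312 : act 4 n46277 = n46277 := d11_2 F133908 D46277 (iv D46277)
theorem F192313 : act 6 n46277 = n46277 := d13_2 F133909 D46277 (iv D46277)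
theorem F192314 : act 7 n46277 = n31720 := d14_2 (iv F133910) D46277 (iv D31720)
theorem F192315 : act 8 n46277 = n31736 := d15_2 (iv F133911) D46277 (iv D31736)
def n46278 : Q := act 9 n31718
theorem D46278 : act 9 n31718 = n46278 := rfl
theorem F192316 : act 2 n46278 = n31719 := d23_1 D46278 (iv D31719) D31718
theorem F192317 : act 4 n46278 = n46278 := d34_1 D46278 (iv D46278) F133908
theorem F192318 : act 6 n46278 = n46278 := d41_1 D46278 (iv D46278) F133909
theorem F192319 : act 7 n46278 = n31721 := d43_1 D46278 (iv D31721) (iv F133910)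
def n46279 : Q := act 8 n31719
theorem D46279 : act 8 n31719 = n46279 := rfl
theorem F192324 : act 9 n46279 = n31738 := d44_2 D31719 D46279 (iv D31738) (iv D21779) (iv F93442)
def n46280 : Q := act 0 n31720
theorem D46280 : act 0 n31720 = n46280 := rfl
theorem F192325 : act 2 n46280 = n46280 := d1_2 F133917 D46280 (iv D46280)
theorem F192326 : act 4 n46280 = n46280 := d3_2 F133918 D46280 (iv D46280)
theorem F192327 : act 6 n46280 = n31723 := d5_2 (iv F133919) D46280 (iv D31723)
theorem F192328 : act 8 n46280 = n31739 := d7_2 (iv F133920) D46280 (iv D31739)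
def n46281 : Q := act 9 n31720
theorem D46281 : act 9 n31720 = n46281 := rfl
theorem F192329 : act 1 n46281 = n31721 := d16_1 D46281 (iv D31721) D31720
theorem F192330 : act 2 n46281 = n46281 := d23_1 D46281 (iv D46281) F133917
theorem F192331 : act 4 n46281 = n46281 := d34_1 D46281 (iv D46281) F133918
theorem F192332 : act 6 n46281 = n31724 := d41_1 D46281 (iv D31724) (iv F133919)
def n46282 : Q := act 8 n31721
theorem D46282 : act 8 n31721 = n46282 := rfl
theorem F192336 : act 9 n46282 = n31741 := d44_2 D31721 D46282 (iv D31741) (iv D21781) (iv F93449)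
def n46283 : Q := act 9 n31723
theorem D46283 : act 9 n31723 = n46283 := rfl
theorem F192337 : act 0 n46283 = n31724 := d8_1 D46283 (iv D31724) D31723
theorem F192338 : act 2 n46283 = n46283 := d23_1 D46283 (iv D46283) F133928
theorem F192339 : act 4 n46283 = n46283 := d34_1 D46283 (iv D46283) F133929
theorem F192340 : act 7 n46283 = n46283 := d43_1 D46283 (iv D46283) F133930
def n46284 : Q := act 8 n31724
theorem D46284 : act 8 n31724 = n46284 := rfl
theorem F192345 : act 9 n46284 = n31743 := d44_2 D31724 D46284 (iv D31743) (iv D21784) (iv F93457)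
def n46286 : Q := act 2 n31726
theorem D46286 : act 2 n31726 = n46286 := rfl
theorem F192348 : act 3 n46286 = n31745 := d17_2 D31726 D46286 (iv D31745) (iv D21786) (iv F93466)
theorem F192349 : act 5 n46286 = n46286 := d19_2 F133941 D46286 (iv D46286)
theorem F192350 : act 6 n46286 = n31728 := d20_2 (iv F133942) D46286 (iv D31728)
def n46287 : Q := act 4 n31726
theorem D46287 : act 4 n31726 = n46287 := rfl
theorem F192353 : act 6 n46287 = n31729 := d31_2 (iv F133942) D46287 (iv D31729)
def n46288 : Q := act 9 n31726
theorem D46288 : act 9 n31726 = n46288 := rfl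
theorem F192355 : act 3 n46288 = n31727 := d29_1 D46288 (iv D31727) D31726
def n46289 : Q := act 1 n31728
theorem D46289 : act 1 n31728 = n46289 := rfl
theorem F192358 : act 2 n46289 = n46289 := d9_2 D31728 D46289 (iv D46289) (iv D31728) F93470
theorem F192359 : act 3 n46289 = n31748 := d10_2 (iv F133948) D46289 (iv D31748)
theorem F192360 : act 5 n46289 = n31736 := d12_2 (iv F133949) D46289 (iv D31736)
theorem F192361 : act 7 n46289 = n31731 := d14_2 (iv F133950) D46289 (iv D31731)
def n46290 : Q := act 4 n31728
theorem D46290 : act 4 n31728 = n46290 := rfl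
theorem F192362 : act 2 n46290 = n31729 := d18_1 D46290 (iv D31729) D31728
theorem F192363 : act 5 n46290 = n46290 := d30_2 (iv F133949) D46290 (iv D46290) F133949 F93487
theorem F192364 : act 7 n46290 = n31732 := d32_2 (iv F133950) D46290 (iv D31732)
def n46291 : Q := act 9 n31728
theorem D46291 : act 9 n31728 = n46291 := rfl
theorem F192365 : act 2 n46291 = n31730 := d23_1 D46291 (iv D31730) D31728
theorem F192366 : act 3 n46291 = n31750 := d29_1 D46291 (iv D31750) (iv F133948)
def n46292 : Q := act 9 n31729
theorem D46292 : act 9 n31729 = n46292 := rfl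
theorem F192371 : act 4 n46292 = n31730 := d34_1 D46292 (iv D31730) D31729
def n46294 : Q := act 0 n31731
theorem D46294 : act 0 n31731 = n46294 := rfl
theorem F192377 : act 2 n46294 = n46294 := d1_2 F133959 D46294 (iv D46294)
theorem F192378 : act 3 n46294 = n31753 := d2_2 (iv F133960) D46294 (iv D31753)
theorem F192379 : act 5 n46294 = n31739 := d4_2 (iv F133961) D46294 (iv D31739)
def n46295 : Q := act 4 n31731
theorem D46295 : act 4 n31731 = n46295 := rfl
theorem F192380 : act 1 n46295 = n31732 := d11_1 D46295 (iv D31732) D31731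
theorem F192381 : act 2 n46295 = n46295 := d18_1 D46295 (iv D46295) F133959
theorem F192382 : act 5 n46295 = n46295 := d30_2 (iv F133961) D46295 (iv D46295) F133961 F93497
def n46296 : Q := act 9 n31731
theorem D46296 : act 9 n31731 = n46296 := rfl
theorem F192383 : act 1 n46296 = n31733 := d16_1 D46296 (iv D31733) D31731
theorem F192385 : act 3 n46296 = n31755 := d29_1 D46296 (iv D31755) (iv F133960)
def n46297 : Q := act 3 n31732
theorem D46297 : act 3 n31732 = n46297 := rfl
theorem F192387 : act 2 n46297 = n46297 := d17_1 D46297 (iv D46297) F133962 F93481 (iv F133962)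
theorem F192388 : act 4 n46297 = n31756 := d24_2 D31732 D46297 (iv D31756) (iv D21792) (iv F93478)
theorem F192389 : act 5 n46297 = n46297 := d25_2 F133963 D46297 (iv D46297)
def n46298 : Q := act 9 n31732
theorem D46298 : act 9 n31732 = n46298 := rfl
theorem F192391 : act 4 n46298 = n31733 := d34_1 D46298 (iv D31733) D31732
def n46300 : Q := act 8 n31734
theorem D46300 : act 8 n31734 = n46300 := rfl
theorem F192396 : act 4 n46300 = n31735 := d33_1 D46300 (iv D31735) (iv F133969)
def n46301 : Q := act 0 n31736
theorem D46301 : act 0 n31736 = n46301 := rfl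
theorem F192398 : act 2 n46301 = n46301 := d1_2 F133973 D46301 (iv D46301)
theorem F192399 : act 3 n46301 = n31760 := d2_2 (iv F133974) D46301 (iv D31760)
theorem F192400 : act 4 n46301 = n46301 := d3_2 F133975 D46301 (iv D46301)
theorem F192401 : act 6 n46301 = n46301 := d5_2 F133976 D46301 (iv D46301)
theorem F192402 : act 7 n46301 = n31739 := d6_2 (iv F133977) D46301 (iv D31739)
def n46302 : Q := act 9 n31736
theorem D46302 : act 9 n31736 = n46302 := rfl
theorem F192403 : act 1 n46302 = n31737 := d16_1 D46302 (iv D31737) D31736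
def n46304 : Q := act 9 n31739
theorem D46304 : act 9 n31739 = n46304 := rfl
theorem F192413 : act 0 n46304 = n31740 := d8_1 D46304 (iv D31740) D31739
theorem F192415 : act 3 n46304 = n31763 := d29_1 D46304 (iv D31763) (iv F133988)
def n46306 : Q := act 3 n31741
theorem D46306 : act 3 n31741 = n46306 := rfl
theorem F192422 : act 6 n46306 = n31744 := d26_2 (iv F133998) D46306 (iv D31744)
theorem F192423 : act 8 n46306 = n31765 := d28_2 D31741 D46306 (iv D31765) (iv D21801) (iv F93500)
def n46308 : Q := act 3 n31743
theorem D46308 : act 3 n31743 = n46308 := rfl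
theorem F192428 : act 1 n46308 = n31744 := d10_1 D46308 (iv D31744) (iv F134004)
theorem F192430 : act 8 n46308 = n31767 := d28_2 D31743 D46308 (iv D31767) (iv D21803) (iv F93512)
def n46309 : Q := act 4 n31744
theorem D46309 : act 4 n31744 = n46309 := rfl
theorem F192433 : act 8 n46309 = n31768 := d33_2 (iv F134009) D46309 (iv D31768)
def n46310 : Q := act 1 n31745
theorem D46310 : act 1 n31745 = n46310 := rfl
theorem F192434 : act 2 n46310 = n31769 := d9_2 D31745 D46310 (iv D31769) (iv D21805) (iv F93518)
theorem F192436 : act 6 n46310 = n31748 := d13_2 (iv F134011) D46310 (iv D31748)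
def n46311 : Q := act 4 n31745
theorem D46311 : act 4 n31745 = n46311 := rfl
theorem F192437 : act 2 n46311 = n31746 := d18_1 D46311 (iv D31746) D31745
theorem F192438 : act 6 n46311 = n31749 := d31_2 (iv F134011) D46311 (iv D31749)
def n46312 : Q := act 9 n31745
theorem D46312 : act 9 n31745 = n46312 := rfl
theorem F192439 : act 2 n46312 = n31747 := d23_1 D46312 (iv D31747) D31745
theorem F192441 : act 6 n46312 = n31750 := d41_1 D46312 (iv D31750) (iv F134011)
def n46316 : Q := act 0 n31748
theorem D46316 : act 0 n31748 = n46316 := rfl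
theorem F192454 : act 5 n46316 = n31760 := d4_2 (iv F134020) D46316 (iv D31760)
theorem F192455 : act 7 n46316 = n31753 := d6_2 (iv F134021) D46316 (iv D31753)
def n46317 : Q := act 4 n31748
theorem D46317 : act 4 n31748 = n46317 := rfl
theorem F192458 : act 5 n46317 = n32342 := d30_2 (iv F134020) D46317 (iv D32342) F95239 (iv F93548)
def n46318 : Q := act 9 n31748
theorem D46318 : act 9 n31748 = n46318 := rfl
def n46319 : Q := act 3 n31749
theorem D46319 : act 3 n31749 = n46319 := rfl
theorem F192465 : act 5 n46319 = n32344 := d25_2 (iv F134023) D46319 (iv D32344)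
theorem F192466 : act 7 n46319 = n31756 := d27_2 (iv F134024) D46319 (iv D31756)
def n46321 : Q := act 8 n31750
theorem D46321 : act 8 n31750 = n46321 := rfl
theorem F192473 : act 7 n46321 = n31758 := d42_1 D46321 (iv D31758) (iv F134027)
def n46323 : Q := act 4 n31753
theorem D46323 : act 4 n31753 = n46323 := rfl
theorem F192478 : act 0 n46323 = n31754 := d3_1 D46323 (iv D31754) D31753
def n46324 : Q := act 9 n31753
theorem D46324 : act 9 n31753 = n46324 := rfl
theorem F192481 : act 0 n46324 = n31755 := d8_1 D46324 (iv D31755) D31753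
def n46325 : Q := act 3 n31754
theorem D46325 : act 3 n31754 = n46325 := rfl
theorem F192484 : act 1 n46325 = n31756 := d10_1 D46325 (iv D31756) (iv F134038)
def n46326 : Q := act 9 n31754
theorem D46326 : act 9 n31754 = n46326 := rfl
theorem F192486 : act 1 n46326 = n31757 := d16_1 D46326 (iv D31757) (iv F134038)
theorem F192488 : act 4 n46326 = n31755 := d34_1 D46326 (iv D31755) D31754
theorem F192489 : act 5 n46326 = n32351 := d38_1 D46326 (iv D32351) (iv F134040)
def n46327 : Q := act 8 n31755
theorem D46327 : act 8 n31755 = n46327 := rfl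
theorem F192490 : act 1 n46327 = n31758 := d15_1 D46327 (iv D31758) (iv F134041)
def n46328 : Q := act 8 n31756
theorem D46328 : act 8 n31756 = n46328 := rfl
theorem F192493 : act 2 n46328 = n46328 := d22_1 D46328 (iv D46328) F134044
theorem F192494 : act 5 n46328 = n32353 := d37_1 D46328 (iv D32353) (iv F134045)
def n46329 : Q := act 9 n31756
theorem D46329 : act 9 n31756 = n46329 := rfl
theorem F192496 : act 3 n46329 = n31757 := d29_1 D46329 (iv D31757) D31756
theorem F192497 : act 5 n46329 = n32354 := d38_1 D46329 (iv D32354) (iv F134045)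
def n46330 : Q := act 8 n31757
theorem D46330 : act 8 n31757 = n46330 := rfl
theorem F192499 : act 4 n46330 = n31758 := d33_1 D46330 (iv D31758) (iv F134047)
def n46331 : Q := act 3 n31758
theorem D46331 : act 3 n31758 = n46331 := rfl
theorem F192501 : act 5 n46331 = n31765 := d25_2 (iv F134050) D46331 (iv D31765)
def n46333 : Q := act 9 n31760
theorem D46333 : act 9 n31760 = n46333 := rfl
theorem F192509 : act 7 n46333 = n31763 := d43_1 D46333 (iv D31763) (iv F134057)
def n46335 : Q := act 3 n31762
theorem D46335 : act 3 n31762 = n46335 := rfl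
theorem F192515 : act 6 n46335 = n46335 := d26_2 F134065 D46335 (iv D46335)
theorem F192516 : act 7 n46335 = n31765 := d27_2 (iv F134066) D46335 (iv D31765)
def n46336 : Q := act 8 n31763
theorem D46336 : act 8 n31763 = n46336 := rfl
theorem F192517 : act 0 n46336 = n31764 := d7_1 D46336 (iv D31764) (iv F134067)
theorem F192518 : act 2 n46336 = n31795 := d22_1 D46336 (iv D31795) (iv F134068)
theorem F192519 : act 4 n46336 = n32361 := d33_1 D46336 (iv D32361) (iv F134069)
theorem F192520 : act 6 n46336 = n31766 := d40_1 D46336 (iv D31766) (iv F134070)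
def n46337 : Q := act 3 n31764
theorem D46337 : act 3 n31764 = n46337 := rfl
theorem F192521 : act 1 n46337 = n31765 := d10_1 D46337 (iv D31765) (iv F134071)
theorem F192522 : act 6 n46337 = n31767 := d26_2 (iv F134074) D46337 (iv D31767)
def n46338 : Q := act 4 n31765
theorem D46338 : act 4 n31765 = n46338 := rfl
theorem F192523 : act 3 n46338 = n32363 := d24_1 D46338 (iv D32363) (iv D22217) (iv F93567) D31765
theorem F192524 : act 6 n46338 = n31768 := d31_2 (iv F134075) D46338 (iv D31768)
def n46339 : Q := act 3 n31766
theorem D46339 : act 3 n31766 = n46339 := rfl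
theorem F192525 : act 0 n46339 = n31767 := d2_1 D46339 (iv D31767) (iv F134076)
def n46340 : Q := act 2 n31767
theorem D46340 : act 2 n31767 = n46340 := rfl
theorem F192527 : act 3 n46340 = n31799 := d17_2 D31767 D46340 (iv D31799) (iv D21827) (iv F93574)
theorem F192529 : act 4 n34730 = n46340 := d45_4 D11249 D16364 D23830 (iv F145973) F192527 (iv F191859) (iv D46160) (iv D31636) (iv F132311) (iv D31290) (iv F130168) (iv F176337) F176336 F176335 F125014 F87341 F61159 (iv D9600) (iv D6625) F21471 F15392 (iv D2335) F8160 (iv F8153) F8154 (iv F8889) F8891 F6377 F6375 (iv D863) (iv D595) F2233 (iv D407) (iv D277) (iv D189) (iv F1090) (iv D188) F756 (iv F1079) (iv F1510) (iv F2174) (iv F2876) F2877 F2878 (iv D365) (iv D247) F979 F980 (iv D168) F695 F496 F371 F274 D63 D93 D136 F807 F574 (iv D94) F399 (iv F541) D132 F785 (iv F1094) (iv D189) (iv F1083) (iv F1515) D397 (iv F2889) D772 (iv F5489) (iv F7653) F7652 F7649 F5722 D1587 D2281 (iv F15759) D4746 F22232 F17137 D3602 D5213 (iv F34374) D10975 (iv F69643) F69642 F49877 F49878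
theorem E1 : n34735 = n31799 := (c24_1 D34735 (iv F192527) (iv F192529) (iv D34730) F101833 D23833)
theorem F192530 : act 4 n31799 = n23833 := (sb E1 (iv D34735))
theorem E2 : n45916 = n45860 := (((iv F190907)).symm.trans (sb E1 (iv F190702)))
theorem F192531 : act 2 n45860 = n31470 := (sb E2 (iv D45916))
theorem F192532 : act 9 n45860 = n31799 := (sb E2 F190907)
theorem E3 : n45917 = n45859 := (c18_3 D45860 F192531 D45917 (iv D45859))
theorem F192533 : act 1 n45859 = n31471 := (sb E3 F190908)
theorem E4 : n32309 = n32251 := (((F190697).symm.trans (sb E3 F190909))).symm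
theorem F192534 : act 4 n45859 = n31470 := (sb E3 (iv D45917))
theorem E5 : n34734 = n31800 := ((F190700).symm.trans (sb E3 F190911))
theorem E6 : n24253 = n22252 := ((F136087).symm.trans (sb E4 F136329))
theorem F192537 : act 2 n31800 = n23833 := (sb E5 (iv D34734))
theorem F192539 : act 9 n31800 = n45859 := (sb E5 (iv F190700))
theorem E7 : n35302 = n32408 := ((((iv F136725)).symm.trans (sb E6 (iv F148260)))).symm
theorem E8 : n35321 = n15296 := (((F95436).symm.trans (sb E6 D35321))).symm
theorem E9 : n32409 = n16672 := (((iv F136730)).symm.trans (sb E6 (iv D24253)))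
theorem E12 : n35319 = n32405 := ((((iv F136716)).symm.trans (sb E6 (iv F148323)))).symm
theorem F192541 : act 2 n32408 = n24238 := (sb E7 (iv D35302))
theorem E14 : n24496 = n22294 := (((F136728).symm.trans (sb E7 F148263))).symm
theorem E15 : n24255 = n22253 := (((D22253).symm.trans (sb E8 F148329))).symm
theorem F192543 : act 2 n16672 = n22252 := (sb E9 F136730)
theorem E17 : n24254 = n22251 := ((D24254).symm.trans (sb E9 (iv D32409)))
theorem E18 : n22295 = n11602 := (((F72453).symm.trans (sb E9 F136732))).symm
theorem F192545 : act 2 n32405 = n24252 := (sb E12 (iv D35319))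
theorem E21 : n24500 = n22291 := (((F136717).symm.trans (sb E12 F148324))).symm
theorem E23 : n32467 = n16843 := (((iv F137011)).symm.trans (sb E14 (iv D24496)))
theorem E26 : n35667 = n32462 := ((((iv F136990)).symm.trans (sb E14 (iv F149828)))).symm
theorem E28 : n34736 = n31801 := ((((iv F134205)).symm.trans (sb E15 (iv F145988)))).symm
theorem E36 : n35316 = n32365 := ((((iv F136557)).symm.trans (sb E17 (iv F148311)))).symm
theorem F192548 : act 2 n11602 = n15328 := (sb E18 F95651)
theorem E42 : n32463 = n16846 := ((((iv F73228)).symm.trans (sb E18 (iv F136994)))).symm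
theorem E47 : n35672 = n32459 := ((((iv F136976)).symm.trans (sb E21 (iv F149850)))).symm
theorem F192550 : act 2 n16843 = n22294 := (sb E23 F137011)
theorem F192552 : act 2 n32462 = n24495 := (sb E26 (iv D35667))
theorem F192553 : act 1 n31801 = n23834 := (sb E28 (iv D34736))
theorem E51 : n45918 = n45861 := (((iv F190915)).symm.trans (sb E28 (iv F190705)))
theorem F192560 : act 4 n32365 = n24249 := (sb E36 (iv D35316))
theorem F192565 : act 2 n16846 = n22291 := (sb E42 F136993)
theorem F192568 : act 2 n32459 = n24499 := (sb E47 (iv D35672))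
theorem F192572 : act 5 n45861 = n31471 := (sb E51 (iv D45918))
theorem F192573 : act 9 n45861 = n31801 := (sb E51 F190915)
theorem E348 : n35315 = n32366 := (c18_2 F192560 D35315 (iv D32366) D32365)
theorem F192923 : act 2 n32366 = n24249 := (sb E348 (iv D35315))
theorem F192926 : act 1 n33915 = n46162 := d9_5 F191867 F192553 (iv D23834) (iv F99694) D33915
theorem F192927 : act 1 n34562 = n43727 := d11_3 F182640 F192553 (iv F145348)
theorem F192928 : act 5 n43726 = n34562 := d12_0 F192927 (iv D43727) (iv F182634)
theorem F192929 : act 2 n34561 = n43726 := d19_3 F192928 (iv D34562) (iv F145344)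
theorem F192930 : act 4 n43725 = n34561 := d18_0 F192929 (iv D43726) D43725
theorem E350 : n33663 = n6657 := (c45_50 D7113 D10321 D14998 (iv F88904) D30000 F127275 (iv F182634) (iv F192929) (iv D34561) (iv F132185) (iv D31257) (iv F124922) F124923 F87272 F61107 (iv F60165) F60166 F42340 (iv D9444) (iv D6522) (iv D4515) D4516 F21158 (iv F29867) F29866 F21163 F15233 F10855 F7768 (iv F10874) (iv D2214) F7762 (iv D1125) (iv F5804) F5805 D1227 (iv F8808) D2536 F12381 (iv F17454) (iv F24652) D7701 F34937 D7710 (iv F48699) D15914 D23174 F99339 F99340 (iv F141956) F30456 F21562 F15312 F10904 F7803 F7802 F5598 (iv D1084) (iv D754) (iv D522) F1976 F1977 D373 F2059 F1440 (iv D177) (iv F1024) F1023 D258 F1456 D281 F1575 F1144 F1143 (iv F1575) F1576 D284 F1589 (iv F2278) (iv F2992) D803 F4241 D1158 (iv F8197) (iv F11507) (iv F16192) D4902 F22856 D4911 F22892)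
theorem E351 : n25894 = n9640 := ((((iv F43159)).symm.trans (sb E350 F141954))).symm
theorem E352 : n23093 = n9643 := ((((iv F43178)).symm.trans (sb E350 F141955))).symm
theorem E353 : n23174 = n9645 := (((D9645).symm.trans (sb E350 F141956))).symm
theorem E355 : n37753 = n9640 := (((F43160).symm.trans (sb E351 (iv F158091)))).symm
theorem E356 : n17783 = n13987 := ((((iv F61385)).symm.trans (sb E351 F110205))).symm
theorem E358 : n17864 = n13989 := (((D13989).symm.trans (sb E351 F110206))).symm
theorem E362 : n33649 = n6669 := (((F43177).symm.trans (sb E352 (iv F141892)))).symm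
theorem E363 : n15915 = n13994 := (((D13994).symm.trans (sb E352 F99014))).symm
theorem E364 : n33582 = n6656 := ((((iv D9643)).symm.trans (sb E352 (iv F141629)))).symm
theorem E365 : n33660 = n13995 := (((D13995).symm.trans (sb E352 (iv F141943)))).symm
theorem E366 : n15859 = n13996 := (((D13996).symm.trans (sb E352 (iv D23093)))).symm
theorem E367 : n33784 = n6660 := (((F43187).symm.trans (sb E353 (iv F142434)))).symm
theorem E368 : n33782 = n13999 := (((D13999).symm.trans (sb E353 (iv F142427)))).symm
theorem E374 : n26015 = n13989 := (((D13989).symm.trans (sb E355 F158092))).symm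
theorem E376 : n25880 = n20332 := ((((iv F87664)).symm.trans (sb E356 (iv F110154)))).symm
theorem E377 : n20334 = n12279 := ((D20334).symm.trans (sb E356 F77028))
theorem E378 : n25813 = n9639 := ((((iv D13987)).symm.trans (sb E356 (iv F109884)))).symm
theorem E379 : n25891 = n20335 := (((D20335).symm.trans (sb E356 (iv F110195)))).symm
theorem E381 : n26013 = n20339 := (((D20339).symm.trans (sb E358 (iv F110676)))).symm
theorem E382 : n20340 = n12278 := ((D20340).symm.trans (sb E358 (iv D17864)))
theorem E386 : n23160 = n9663 := (((D9663).symm.trans (sb E362 F141894))).symm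
theorem E387 : n23081 = n9665 := (((D9665).symm.trans (sb E362 (iv D33649)))).symm
theorem E389 : n23171 = n20345 := (((D20345).symm.trans (sb E363 (iv F99326)))).symm
theorem E390 : n20346 = n10942 := ((D20346).symm.trans (sb E363 (iv D15915)))
theorem E391 : n23037 = n9644 := (((D9644).symm.trans (sb E364 (iv D33582)))).symm
theorem E392 : n23090 = n20348 := (((D20348).symm.trans (sb E365 (iv D33660)))).symm
theorem E393 : n20349 = n10905 := ((D20349).symm.trans (sb E366 F69227))
theorem E395 : n23173 = n9651 := (((D9651).symm.trans (sb E367 (iv D33784)))).symm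
theorem E396 : n23170 = n20355 := (((D20355).symm.trans (sb E368 (iv D33782)))).symm
theorem E403 : n37909 = n12279 := (((E377).symm.trans (((iv F87676)).symm.trans (sb E374 (iv F158711))))).symm
theorem E404 : n37930 = n20339 := (((D20339).symm.trans (sb E374 (iv F158790)))).symm
theorem E405 : n17863 = n12278 := (((E382).symm.trans ((D20340).symm.trans (sb E374 (iv D26015))))).symm
theorem E411 : n37685 = n14011 := (((F87663).symm.trans (sb E376 (iv F157835)))).symm
theorem E415 : n37732 = n29591 := (((D29591).symm.trans (sb E376 (iv F158015)))).symm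
theorem E418 : n29596 = n17861 := ((((iv F77337)).symm.trans (sb E377 D29596))).symm
theorem E420 : n37629 = n9639 := (((F43156).symm.trans (sb E378 (iv F157603)))).symm
theorem E421 : n17727 = n13988 := (((D13988).symm.trans (sb E378 (iv D25813)))).symm
theorem E422 : n37745 = n20335 := (((F87683).symm.trans (sb E379 (iv F158058)))).symm
theorem E424 : n29599 = n17780 := ((D29599).symm.trans (sb E379 (iv D25891)))
theorem E429 : n29606 = n17860 := ((D29606).symm.trans (sb E381 (iv D26013)))
theorem E437 : n33716 = n14013 := ((((iv F61521)).symm.trans (sb E386 (iv F142176)))).symm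
theorem E438 : n33766 = n6671 := (((F43285).symm.trans (sb E386 (iv F142355)))).symm
theorem E439 : n15981 = n14023 := (((D14023).symm.trans (sb E386 F99278))).symm
theorem E440 : n33763 = n14024 := (((D14024).symm.trans (sb E386 (iv F142345)))).symm
theorem E441 : n15903 = n14025 := (((D14025).symm.trans (sb E386 (iv D23160)))).symm
theorem E442 : n33614 = n14015 := ((((iv F61531)).symm.trans (sb E387 (iv F141759)))).symm
theorem E443 : n33648 = n6673 := (((F43293).symm.trans (sb E387 (iv F141889)))).symm
theorem E444 : n15850 = n14028 := (((D14028).symm.trans (sb E387 F98959))).symm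
theorem E446 : n33646 = n14027 := ((((iv F61590)).symm.trans (sb E387 (iv F141884)))).symm
theorem E450 : n33776 = n29613 := (((D29613).symm.trans (sb E389 (iv F142400)))).symm
theorem F192943 : act 2 n10942 = n14000 := (sb E390 F87738)
theorem E455 : n15822 = n13997 := (((D13997).symm.trans (sb E391 F98780))).symm
theorem E458 : n29619 = n15857 := ((D29619).symm.trans (sb E392 F99000))
theorem F192946 : act 3 n10905 = n13996 := (sb E393 (iv D20349))
theorem E464 : n33783 = n9651 := (((F43218).symm.trans (sb E395 (iv F142429)))).symm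
theorem E465 : n33765 = n6677 := (((F43219).symm.trans (sb E395 (iv F142352)))).symm
theorem E466 : n16292 = n14007 := (((D14007).symm.trans (sb E395 F99334))).symm
theorem E467 : n33781 = n14006 := ((((iv F61487)).symm.trans (sb E395 (iv F142423)))).symm
theorem E471 : n33778 = n29628 := ((((iv F125693)).symm.trans (sb E396 (iv F142411)))).symm
theorem E483 : n25997 = n17850 := ((((iv F77298)).symm.trans (sb E403 F158710))).symm
theorem E485 : n26012 = n17860 := (((E429).symm.trans ((D29606).symm.trans (sb E404 (iv D37930))))).symm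
theorem E486 : n12656 = n8713 := (((F54178).symm.trans (sb E405 F77344))).symm
theorem E493 : n25947 = n20368 := (((D20368).symm.trans (sb E411 F157837))).symm
theorem E499 : n43128 = n25877 := ((D43128).symm.trans (sb E415 (iv D37732)))
theorem E504 : n43136 = n26007 := ((((iv F110653)).symm.trans (sb E418 D43136))).symm
theorem E509 : n25810 = n13988 := (((D13988).symm.trans (sb E420 (iv D37629)))).symm
theorem E510 : n20337 = n12186 := ((D20337).symm.trans (sb E421 F76804))
theorem E512 : n25886 = n17780 := (((E424).symm.trans ((D29599).symm.trans (sb E422 (iv D37745))))).symm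
theorem E527 : n23227 = n20373 := (((D20373).symm.trans (sb E437 F142178))).symm
theorem E528 : n23125 = n20375 := (((D20375).symm.trans (sb E437 (iv D33716)))).symm
theorem E529 : n23159 = n9669 := (((D9669).symm.trans (sb E438 (iv D33766)))).symm
theorem E530 : n23273 = n20172 := ((((iv F87025)).symm.trans (sb E439 (iv F99739)))).symm
theorem E531 : n23272 = n20389 := (((D20389).symm.trans (sb E439 (iv F99736)))).symm
theorem E532 : n20390 = n10986 := ((D20390).symm.trans (sb E439 (iv D15981)))
theorem E533 : n23157 = n20393 := (((D20393).symm.trans (sb E440 (iv D33763)))).symm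
theorem E534 : n20394 = n10933 := ((D20394).symm.trans (sb E441 F69407))
theorem E536 : n23057 = n20378 := (((D20378).symm.trans (sb E442 F141761))).symm
theorem E538 : n23080 = n9672 := (((D9672).symm.trans (sb E443 (iv D33648)))).symm
theorem E539 : n23066 = n9697 := (((F61591).symm.trans (sb E444 (iv F98903)))).symm
theorem E540 : n20399 = n10900 := ((D20399).symm.trans (sb E444 F69188))
theorem E542 : n23079 = n20397 := ((((iv F87985)).symm.trans (sb E444 (iv F98953)))).symm
theorem E545 : n23078 = n20398 := (((D20398).symm.trans (sb E446 (iv D33646)))).symm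
theorem E551 : n43163 = n23166 := ((D43163).symm.trans (sb E450 (iv D33776)))
theorem E558 : n20351 = n10882 := ((D20351).symm.trans (sb E455 F69072))
theorem F192979 : act 3 n15857 = n20348 := (sb E458 (iv D29619))
theorem E563 : n23086 = n15857 := (((iv F98981)).symm.trans (sb E458 (tr F125647 E458)))
theorem E571 : n23729 = n14007 := (((D14007).symm.trans (sb E464 F142431))).symm
theorem E573 : n23158 = n9677 := (((D9677).symm.trans (sb E465 (iv D33765)))).symm
theorem E574 : n23715 = n20365 := (((D20365).symm.trans (sb E466 (iv F101414)))).symm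
theorem E575 : n23728 = n20363 := ((((iv F87824)).symm.trans (sb E466 (iv F101476)))).symm
theorem E576 : n20366 = n11200 := ((D20366).symm.trans (sb E466 (iv D16292)))
theorem E577 : n23169 = n20364 := (((D20364).symm.trans (sb E467 (iv D33781)))).symm
theorem E583 : n43185 = n23167 := ((D43185).symm.trans (sb E471 (iv D33778)))
theorem E591 : n37836 = n20368 := (((E493).symm.trans (((iv F110427)).symm.trans (sb E483 (iv F158432))))).symm
theorem E593 : n37907 = n25994 := ((((iv F110607)).symm.trans (sb E483 (iv F158704)))).symm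
theorem E594 : n17849 = n12267 := ((((iv D17850)).symm.trans (sb E483 (iv D25997)))).symm
theorem E598 : n18418 = n12654 := (((F77334).symm.trans (sb E485 F110672))).symm
theorem E602 : n18405 = n6004 := (((F39084).symm.trans (sb E486 (iv F79422)))).symm
theorem E603 : n8712 = n6003 := ((((iv D8713)).symm.trans (sb E486 (iv D12656)))).symm
theorem E618 : n29645 = n17917 := ((D29645).symm.trans (sb E493 F110428))
theorem E620 : n29647 = n17815 := ((D29647).symm.trans (sb E493 (iv D25947)))
theorem E628 : n37727 = n25877 := (((iv F157995)).symm.trans (sb E499 (tr F180105 E499)))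
theorem E629 : n37925 = n26007 := (((iv F158769)).symm.trans (sb E504 (tr F180147 E504)))
theorem E630 : n17725 = n12186 := (((E510).symm.trans ((D20337).symm.trans (sb E509 F109869)))).symm
theorem F193004 : act 3 n12186 = n13988 := (sb E510 (iv D20337))
theorem E636 : n17776 = n12221 := (((F77016).symm.trans (sb E512 F110174))).symm
theorem E645 : n33865 = n29337 := ((((iv F124482)).symm.trans (sb E527 (iv F142770)))).symm
theorem E646 : n33863 = n29655 := (((D29655).symm.trans (sb E527 (iv F142761)))).symm
theorem E648 : n33715 = n14019 := (((F87883).symm.trans (sb E528 (iv F142173)))).symm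
theorem E649 : n29660 = n15879 := ((D29660).symm.trans (sb E528 F99148))
theorem E650 : n33713 = n29659 := ((((iv F125844)).symm.trans (sb E528 (iv F142167)))).symm
theorem E652 : n33737 = n14035 := (((D14035).symm.trans (sb E529 (iv F142258)))).symm
theorem E653 : n33762 = n14034 := ((((iv F61618)).symm.trans (sb E529 (iv F142342)))).symm
theorem E654 : n15902 = n14036 := (((D14036).symm.trans (sb E529 (iv D23159)))).symm
theorem E656 : n33927 = n29353 := (((D29353).symm.trans (sb E530 (iv F143015)))).symm
theorem E657 : n29354 = n15980 := ((D29354).symm.trans (sb E530 (iv D23273)))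
theorem E658 : n33924 = n29678 := (((D29678).symm.trans (sb E531 (iv F142999)))).symm
theorem E659 : n33926 = n29679 := (((D29679).symm.trans (sb E531 (iv F143010)))).symm
theorem E660 : n29680 = n15979 := ((D29680).symm.trans (sb E531 (iv D23272)))
theorem F193021 : act 8 n10986 = n14023 := (sb E532 (iv D20390))
theorem E663 : n29686 = n15901 := ((D29686).symm.trans (sb E533 F99268))
theorem E665 : n33760 = n29685 := ((((iv F125963)).symm.trans (sb E533 (iv F142337)))).symm
theorem E667 : n29688 = n15888 := ((((iv F69354)).symm.trans (sb E534 D29688))).symm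
theorem F193023 : act 3 n10933 = n14025 := (sb E534 (iv D20394))
theorem E670 : n33599 = n14057 := (((F87898).symm.trans (sb E536 (iv F141698)))).symm
theorem E671 : n29665 = n15836 := ((D29665).symm.trans (sb E536 F98868))
theorem E673 : n33612 = n29663 := ((((iv F125862)).symm.trans (sb E536 (iv F141753)))).symm
theorem E678 : n33626 = n6698 := (((F43322).symm.trans (sb E538 (iv F141808)))).symm
theorem E682 : n15843 = n14078 := (((D14078).symm.trans (sb E539 F98904))).symm
theorem E685 : n15839 = n14079 := (((D14079).symm.trans (sb E539 (iv D23066)))).symm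
theorem F193026 : act 4 n10900 = n14028 := (sb E540 (iv D20399))
theorem E687 : n29693 = n15852 := ((((iv F69197)).symm.trans (sb E540 (iv F125988)))).symm
theorem E693 : n33644 = n29691 := ((((iv F125980)).symm.trans (sb E542 (iv F141876)))).symm
theorem E698 : n33643 = n29692 := ((((iv F125985)).symm.trans (sb E545 (iv F141871)))).symm
theorem F193033 : act 2 n23166 = n29627 := (sb E551 F180284)
theorem E699 : n33775 = n23166 := (((iv F142396)).symm.trans (sb E551 (tr F180285 E551)))
theorem F193034 : act 8 n23166 = n29613 := (sb E551 (iv D43163))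
theorem F193038 : act 4 n10882 = n13997 := (sb E558 (iv D20351))
theorem E700 : n29623 = n7497 := (((F48453).symm.trans (sb E558 D29623))).symm
theorem E709 : n33317 = n10907 := (((F69218).symm.trans (sb E563 (iv F140630)))).symm
theorem E714 : n34576 = n20365 := (((D20365).symm.trans (sb E571 (iv F145410)))).symm
theorem E715 : n34591 = n20363 := ((((iv F87824)).symm.trans (sb E571 (iv F145482)))).symm
theorem E716 : n16291 = n11200 := (((E576).symm.trans ((D20366).symm.trans (sb E571 (iv D23729))))).symm
theorem E719 : n33735 = n14045 := ((((iv F61662)).symm.trans (sb E573 (iv F142252)))).symm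
theorem E724 : n29643 = n16279 := ((D29643).symm.trans (sb E574 (iv D23715)))
theorem E725 : n34586 = n29636 := ((((iv F125730)).symm.trans (sb E575 (iv F145457)))).symm
theorem E726 : n34590 = n29638 := ((((iv F125742)).symm.trans (sb E575 (iv F145477)))).symm
theorem E727 : n29641 = n16289 := ((D29641).symm.trans (sb E575 (iv D23728)))
theorem E730 : n33777 = n29639 := ((((iv F125748)).symm.trans (sb E577 (iv F142405)))).symm
theorem F193053 : act 4 n23167 = n29633 := (sb E583 F180387)
theorem F193054 : act 9 n23167 = n29628 := (sb E583 (iv D43185))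
theorem E737 : n25946 = n17815 := (((E620).symm.trans ((D29647).symm.trans (sb E591 (iv D37836))))).symm
theorem E739 : n25993 = n17847 := ((((iv D25994)).symm.trans (sb E593 (iv D37907)))).symm
theorem E740 : n25968 = n8445 := (((F54138).symm.trans (sb E594 (iv F110512)))).symm
theorem E745 : n26806 = n8711 := (((F55614).symm.trans (sb E598 (iv F113697)))).symm
theorem E748 : n12653 = n8710 := ((((iv D12654)).symm.trans (sb E598 (iv D18418)))).symm
theorem E751 : n12644 = n8702 := ((((iv F39042)).symm.trans (sb E602 F79421))).symm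
theorem E753 : n6086 = n4207 := (((F27532).symm.trans (sb E603 F39083))).symm
theorem F193066 : act 3 n17917 = n20368 := (sb E618 (iv D29645))
theorem F193070 : act 8 n17815 = n20368 := (sb E620 (iv D29647))
theorem E777 : n25873 = n17769 := (((F110144).symm.trans (sb E628 F157994))).symm
theorem E779 : n26006 = n17856 := ((((iv D26007)).symm.trans (sb E629 (iv D37925)))).symm
theorem E780 : n12188 = n8394 := (((F53812).symm.trans (sb E630 F76796))).symm
theorem E789 : n25512 = n8419 := (((F53951).symm.trans (sb E636 (iv F108762)))).symm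
theorem E795 : n42752 = n23226 := ((D42752).symm.trans (sb E645 (iv D33865)))
theorem E796 : n43226 = n23224 := ((D43226).symm.trans (sb E646 (iv D33863)))
theorem E799 : n23124 = n20386 := (((D20386).symm.trans (sb E648 (iv D33715)))).symm
theorem E800 : n43234 = n23110 := ((((iv F99088)).symm.trans (sb E649 D43234))).symm
theorem F193088 : act 3 n15879 = n20375 := (sb E649 (iv D29660))
theorem E802 : n43232 = n23123 := ((((iv F99140)).symm.trans (sb E649 (iv F180608)))).symm
theorem E804 : n43233 = n23122 := ((D43233).symm.trans (sb E650 (iv D33713)))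
theorem E805 : n23139 = n20409 := (((D20409).symm.trans (sb E652 F142257))).symm
theorem E807 : n23156 = n20408 := (((D20408).symm.trans (sb E653 (iv D33762)))).symm
theorem F193091 : act 2 n14036 = n10932 := (sb E654 (iv D15902))
theorem E808 : n42776 = n23271 := ((D42776).symm.trans (sb E656 (iv D33927)))
theorem E809 : n42777 = n23247 := ((((iv F99638)).symm.trans (sb E657 D42777))).symm
theorem F193092 : act 8 n15980 = n20172 := (sb E657 (iv D29354))
theorem E811 : n43260 = n23268 := ((D43260).symm.trans (sb E658 (iv D33924)))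
theorem E812 : n43261 = n23270 := ((D43261).symm.trans (sb E659 (iv D33926)))
theorem F193095 : act 8 n15979 = n20389 := (sb E660 (iv D29680))
theorem F193096 : act 3 n15901 = n20393 := (sb E663 (iv D29686))
theorem E820 : n43269 = n23153 := ((((iv F99253)).symm.trans (sb E663 (iv F180767)))).symm
theorem E824 : n43272 = n23154 := ((D43272).symm.trans (sb E665 (iv D33760)))
theorem E826 : n43277 = n10926 := (((F69355).symm.trans (sb E667 D43277))).symm
theorem E831 : n23050 = n20443 := (((D20443).symm.trans (sb E670 F141699))).symm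
theorem F193101 : act 4 n15836 = n20378 := (sb E671 (iv D29665))
theorem E834 : n43239 = n23059 := ((((iv F98879)).symm.trans (sb E671 (iv F180639)))).symm
theorem E838 : n43240 = n23055 := ((D43240).symm.trans (sb E673 (iv D33612)))
theorem E840 : n23065 = n9698 := ((((iv F43445)).symm.trans (sb E678 (iv D33626)))).symm
theorem E841 : n23071 = n20467 := ((((iv F88297)).symm.trans (sb E682 (iv F98923)))).symm
theorem E842 : n20473 = n10895 := ((D20473).symm.trans (sb E682 F69162))
theorem E843 : n23069 = n20471 := ((((iv F88315)).symm.trans (sb E682 (iv F98916)))).symm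
theorem E844 : n20474 = n10893 := ((D20474).symm.trans (sb E682 (iv D15843)))
theorem E848 : n20475 = n10891 := ((D20475).symm.trans (sb E685 (iv D15839)))
theorem F193106 : act 4 n15852 = n20397 := (sb E687 (iv D29693))
theorem E852 : n43284 = n22858 := ((((iv F98094)).symm.trans (sb E687 D43284))).symm
theorem E861 : n43283 = n23077 := ((D43283).symm.trans (sb E693 (iv D33644)))
theorem F193113 : act 1 n29692 = n23087 := (sb E698 F141868)
theorem E863 : n23165 = n15907 := ((((iv D23166)).symm.trans (sb E699 (iv D33775)))).symm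
theorem E864 : n43177 = n10788 := ((((iv F48085)).symm.trans (sb E700 D43177))).symm
theorem E873 : n22863 = n15708 := ((((iv F68630)).symm.trans (sb E709 F140631))).symm
theorem E877 : n23714 = n16279 := (((E724).symm.trans ((D29643).symm.trans (sb E714 (iv D34576))))).symm
theorem E878 : n23727 = n16289 := (((E727).symm.trans ((D29641).symm.trans (sb E715 (iv D34591))))).symm
theorem E879 : n11310 = n7793 := (((F49726).symm.trans (sb E716 F70933))).symm
theorem E880 : n23686 = n20421 := ((((iv F88082)).symm.trans (sb E719 F142251))).symm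
theorem F193123 : act 1 n29636 = n23723 := (sb E725 F145456)
theorem E887 : n43196 = n23721 := ((D43196).symm.trans (sb E725 (iv D34586)))
theorem F193124 : act 1 n29638 = n23726 := (sb E726 F145474)
theorem F193128 : act 1 n29639 = n23167 := (sb E730 (iv D33777))
theorem E904 : n37807 = n12243 := (((F77161).symm.trans (sb E737 (iv F158326)))).symm
theorem E911 : n37865 = n12265 := (((F77289).symm.trans (sb E739 (iv F158551)))).symm
theorem E915 : n17829 = n12252 := ((((iv F54081)).symm.trans (sb E740 F110511))).symm
theorem E929 : n18403 = n12642 := ((((iv F55568)).symm.trans (sb E745 F113696))).symm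
theorem E937 : n8821 = n6085 := (((F39075).symm.trans (sb E748 F55613))).symm
theorem E940 : n18357 = n12610 := ((((iv F55448)).symm.trans (sb E751 (iv F79249)))).symm
theorem E941 : n8701 = n5994 := ((((iv D8702)).symm.trans (sb E751 (iv D12644)))).symm
theorem F193140 : act 1 n4207 = n4207 := (sb E753 (iv D6086))
theorem E976 : n37174 = n12216 := (((F76976).symm.trans (sb E777 (iv F155918)))).symm
theorem E982 : n37307 = n12272 := (((F77320).symm.trans (sb E779 (iv F156362)))).symm
theorem E985 : n17495 = n5790 := (((F37873).symm.trans (sb E780 (iv F75939)))).symm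
theorem E996 : n17528 = n12056 := ((((iv F53325)).symm.trans (sb E789 F108763))).symm
theorem F193169 : act 8 n23226 = n29337 := (sb E795 (iv D42752))
theorem F193170 : act 8 n23224 = n29655 := (sb E796 (iv D43226))
theorem E1008 : n33693 = n29676 := ((((iv F125925)).symm.trans (sb E799 (iv F142088)))).symm
theorem E1010 : n33695 = n29675 := (((iv F142095)).symm.trans (sb E800 F180615))
theorem F193172 : act 3 n23123 = n29659 := (sb E802 (iv D43232))
theorem F193174 : act 9 n23122 = n29659 := (sb E804 (iv D43233))
theorem E1011 : n29709 = n16260 := ((D29709).symm.trans (sb E805 F99204))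
theorem F193175 : act 3 n20409 = n15888 := (sb E805 F99205)
theorem E1012 : n33739 = n14088 := (((F88031).symm.trans (sb E805 (iv F142267)))).symm
theorem E1013 : n33734 = n29707 := ((((iv F126046)).symm.trans (sb E805 (iv F142250)))).symm
theorem E1015 : n29710 = n15887 := ((D29710).symm.trans (sb E805 (iv D23139)))
theorem E1019 : n33756 = n29704 := ((((iv F126033)).symm.trans (sb E807 (iv F142321)))).symm
theorem E1020 : n33759 = n29706 := ((((iv F126043)).symm.trans (sb E807 (iv F142332)))).symm
theorem F193177 : act 8 n23271 = n29353 := (sb E808 (iv D42776))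
theorem E1021 : n33898 = n29358 := ((D33898).symm.trans (sb E809 F178736))
theorem F193178 : act 8 n23268 = n29678 := (sb E811 (iv D43260))
theorem F193179 : act 8 n23270 = n29679 := (sb E812 (iv D43261))
theorem F193180 : act 3 n23153 = n29684 := (sb E820 (iv D43269))
theorem F193184 : act 9 n23154 = n29685 := (sb E824 (iv D43272))
theorem E1023 : n29798 = n15893 := ((((iv F69372)).symm.trans (sb E826 F180791))).symm
theorem E1024 : n33589 = n29738 := ((((iv F126187)).symm.trans (sb E831 (iv F141660)))).symm
theorem E1025 : n33604 = n29756 := ((((iv F126270)).symm.trans (sb E831 (iv F141718)))).symm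
theorem E1026 : n29762 = n15831 := ((D29762).symm.trans (sb E831 F98837))
theorem E1027 : n33602 = n29760 := ((((iv F126288)).symm.trans (sb E831 (iv F141711)))).symm
theorem E1028 : n29763 = n15829 := ((D29763).symm.trans (sb E831 (iv D23050)))
theorem F193187 : act 4 n23059 = n29663 := (sb E834 (iv D43239))
theorem E1040 : n33609 = n23055 := (((iv F141739)).symm.trans (sb E838 (tr F180644 E838)))
theorem E1041 : n33627 = n14074 := ((((iv F61804)).symm.trans (sb E840 D33627))).symm
theorem E1046 : n29800 = n15845 := ((D29800).symm.trans (sb E841 F98924))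
theorem E1050 : n15812 = n14080 := (((iv F69027)).symm.trans (sb E842 F88322))
theorem F193191 : act 5 n10895 = n14078 := (sb E842 (iv D20473))
theorem E1051 : n29808 = n15696 := ((((iv F68585)).symm.trans (sb E842 D29808))).symm
theorem E1054 : n33630 = n29803 := ((((iv F126464)).symm.trans (sb E843 (iv F141823)))).symm
theorem F193193 : act 4 n10893 = n14079 := (sb E844 F88326)
theorem E1065 : n15837 = n14150 := ((D15837).symm.trans (sb E848 F88329))
theorem E1068 : n33310 = n22858 := (((iv F140605)).symm.trans (sb E852 (tr F180816 E852)))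
theorem F193203 : act 3 n23077 = n29692 := (sb E861 F180811)
theorem E1079 : n33396 = n10937 := ((((iv D15907)).symm.trans (sb E863 (iv F140909)))).symm
theorem E1081 : n15683 = n10788 := (((iv F68536)).symm.trans (sb E864 (tr F180349 E864)))
theorem E1092 : n15706 = n10805 := (((F68631).symm.trans (sb E873 F98116))).symm
theorem E1093 : n33319 = n22866 := ((((iv F98128)).symm.trans (sb E873 (iv F140639)))).symm
theorem E1094 : n15704 = n10804 := ((((iv D15708)).symm.trans (sb E873 (iv D22863)))).symm
theorem E1100 : n34506 = n11189 := ((((iv D16279)).symm.trans (sb E877 (iv F145172)))).symm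
theorem E1103 : n16434 = n11303 := (((F70879).symm.trans (sb E877 F101412))).symm
theorem E1106 : n16441 = n11309 := (((F70923).symm.trans (sb E878 F101473))).symm
theorem F193213 : act 0 n7793 = n7793 := (sb E879 (iv D11310))
theorem E1107 : n29724 = n16258 := (((iv F126111)).symm.trans (sb E880 (iv D23686)))
theorem E1110 : n34519 = n29725 := (((D29725).symm.trans (sb E880 (iv F145222)))).symm
theorem F193219 : act 9 n23721 = n29636 := (sb E887 (iv D43196))
theorem E1125 : n25926 = n17800 := ((((iv F77103)).symm.trans (sb E904 F158325))).symm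
theorem E1129 : n25965 = n17826 := ((((iv F77209)).symm.trans (sb E911 F158550))).symm
theorem E1133 : n12624 = n8687 := (((F54080).symm.trans (sb E915 F77219))).symm
theorem E1147 : n26736 = n18355 := ((((iv F79240)).symm.trans (sb E929 (iv F113445)))).symm
theorem E1148 : n26801 = n18399 := ((((iv F79395)).symm.trans (sb E929 (iv F113674)))).symm
theorem E1149 : n26804 = n18401 := ((((iv F79406)).symm.trans (sb E929 (iv F113690)))).symm
theorem E1150 : n12641 = n8699 := ((((iv D12642)).symm.trans (sb E929 (iv D18403)))).symm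
theorem F193235 : act 1 n6085 = n6085 := (sb E937 (iv D8821))
theorem E1158 : n12609 = n8677 := ((((iv D12610)).symm.trans (sb E940 (iv D18357)))).symm
theorem E1159 : n6080 = n4201 := (((F27501).symm.trans (sb E941 F39041))).symm
theorem E1186 : n25505 = n17523 := ((((iv F76040)).symm.trans (sb E976 F155919))).symm
theorem E1191 : n25592 = n17579 := ((((iv F76239)).symm.trans (sb E982 F156363))).symm
theorem E1195 : n12031 = n8289 := ((((iv F37481)).symm.trans (sb E985 F75940))).symm
theorem E1206 : n12054 = n8306 := (((F53326).symm.trans (sb E996 F76057))).symm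
theorem E1207 : n25514 = n17531 := ((((iv F76066)).symm.trans (sb E996 (iv F108769)))).symm
theorem E1208 : n12052 = n8305 := ((((iv D12056)).symm.trans (sb E996 (iv D17528)))).symm
theorem E1214 : n43256 = n23109 := (((iv F180722)).symm.trans (sb E1008 (iv D33693)))
theorem F193272 : act 3 n29675 = n23110 := (sb E1010 F142095)
theorem E1215 : n43305 = n23647 := ((((iv F101161)).symm.trans (sb E1011 D43305))).symm
theorem F193274 : act 2 n16260 = n20420 := (sb E1011 F126051)
theorem E1216 : n23690 = n20487 := (((iv F101326)).symm.trans (sb E1011 F126052))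
theorem E1217 : n43302 = n23685 := ((((iv F101311)).symm.trans (sb E1011 (iv F180889)))).symm
theorem E1218 : n42805 = n23691 := (((D23691).symm.trans (sb E1011 (iv F178857)))).symm
theorem E1220 : n23145 = n20466 := ((((iv F88293)).symm.trans (sb E1012 F142266))).symm
theorem E1221 : n23138 = n20488 := (((D20488).symm.trans (sb E1012 (iv D33739)))).symm
theorem F193275 : act 3 n29707 = n23136 := (sb E1013 F142249)
theorem E1222 : n43303 = n23135 := ((D43303).symm.trans (sb E1013 (iv D33734)))
theorem F193276 : act 2 n15887 = n20410 := (sb E1015 F126055)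
theorem F193278 : act 2 n29704 = n23152 := (sb E1019 (iv D33756))
theorem F193279 : act 2 n29706 = n23154 := (sb E1020 (iv D33759))
theorem F193280 : act 8 n29358 = n23247 := (sb E1021 (iv D33898))
theorem E1228 : n43435 = n23143 := ((((iv F99220)).symm.trans (sb E1023 (iv F181454)))).symm
theorem E1231 : n43349 = n23043 := ((D43349).symm.trans (sb E1024 F141662))
theorem E1233 : n43380 = n23052 := ((D43380).symm.trans (sb E1025 F141719))
theorem E1234 : n43381 = n23049 := ((D43381).symm.trans (sb E1025 (iv D33604)))
theorem E1235 : n23009 = n20445 := (((iv F98650)).symm.trans (sb E1026 F126295))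
theorem F193283 : act 5 n15831 = n20443 := (sb E1026 (iv D29762))
theorem F193284 : act 2 n29760 = n23059 := (sb E1027 F141710)
theorem E1238 : n43386 = n23048 := ((D43386).symm.trans (sb E1027 (iv D33602)))
theorem F193285 : act 4 n15829 = n20444 := (sb E1028 F126299)
theorem E1250 : n23053 = n15832 := ((((iv D23055)).symm.trans (sb E1040 (iv D33609)))).symm
theorem E1251 : n23070 = n20468 := ((((iv F88300)).symm.trans (sb E1041 F141811))).symm
theorem E1253 : n23073 = n21667 := (((iv F98931)).symm.trans (sb E1046 F126452))
theorem F193294 : act 5 n15845 = n20467 := (sb E1046 (iv D29800))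
theorem E1261 : n22818 = n20476 := (((D20476).symm.trans (sb E1050 (iv F97944)))).symm
theorem E1263 : n43452 = n22849 := ((((iv F98065)).symm.trans (sb E1051 (iv F181515)))).symm
theorem E1268 : n43450 = n23067 := ((D43450).symm.trans (sb E1054 (iv D33630)))
theorem F193307 : act 3 n14150 = n10891 := (sb E1065 (iv D15837))
theorem E1284 : n22856 = n15701 := (((F98095).symm.trans (sb E1068 F140606))).symm
theorem E1285 : n22854 = n15700 := ((((iv D22858)).symm.trans (sb E1068 (iv D33310)))).symm
theorem E1294 : n22913 = n15738 := ((((iv F68742)).symm.trans (sb E1079 (iv D33396)))).symm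
theorem E1296 : n22689 = n15589 := ((((iv F68119)).symm.trans (sb E1081 (iv F97380)))).symm
theorem E1297 : n10787 = n7433 := ((((iv D10788)).symm.trans (sb E1081 (iv D15683)))).symm
theorem E1308 : n22712 = n15606 := ((((iv F68198)).symm.trans (sb E1092 (iv F97481)))).symm
theorem E1309 : n10802 = n7444 := ((((iv D10805)).symm.trans (sb E1092 (iv D15706)))).symm
theorem E1310 : n22861 = n15707 := ((((iv D22866)).symm.trans (sb E1093 (iv D33319)))).symm
theorem E1311 : n10801 = n7443 := ((((iv D10804)).symm.trans (sb E1094 (iv D15704)))).symm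
theorem E1315 : n23666 = n16245 := ((((iv F70752)).symm.trans (sb E1100 (iv D34506)))).symm
theorem F193321 : act 0 n11303 = n11303 := (sb E1103 (iv D16434))
theorem E1318 : n23911 = n16421 := ((((iv F71443)).symm.trans (sb E1103 (iv F102191)))).symm
theorem F193324 : act 0 n11309 = n11309 := (sb E1106 (iv D16441))
theorem F193325 : act 1 n16258 = n20421 := (sb E1107 F126111)
theorem E1322 : n23687 = n20502 := ((D23687).symm.trans (sb E1107 F126112))
theorem E1323 : n43322 = n23683 := ((((iv F101307)).symm.trans (sb E1107 (iv F180968)))).symm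
theorem E1324 : n43325 = n23674 := ((((iv F101280)).symm.trans (sb E1107 D43325))).symm
theorem F193326 : act 9 n16258 = n20420 := (sb E1107 (iv D29724))
theorem E1325 : n43326 = n23897 := ((D43326).symm.trans (sb E1110 F145219))
theorem E1345 : n37769 = n25902 := ((((iv F110243)).symm.trans (sb E1125 (iv F158166)))).symm
theorem E1360 : n18375 = n12621 := (((F77208).symm.trans (sb E1129 F110502))).symm
theorem E1372 : n18337 = n12595 := ((((iv F55382)).symm.trans (sb E1133 (iv F79159)))).symm
theorem E1375 : n8686 = n5984 := ((((iv D8687)).symm.trans (sb E1133 (iv D12624)))).symm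
theorem E1409 : n18354 = n12607 := ((((iv D18355)).symm.trans (sb E1147 (iv D26736)))).symm
theorem E1412 : n18397 = n12637 := ((((iv D18399)).symm.trans (sb E1148 (iv D26801)))).symm
theorem E1413 : n18400 = n12639 := ((((iv D18401)).symm.trans (sb E1149 (iv D26804)))).symm
theorem E1414 : n8814 = n6079 := (((F39033).symm.trans (sb E1150 F55567))).symm
theorem E1425 : n8794 = n6064 := (((F38952).symm.trans (sb E1158 F55447))).symm
theorem F193348 : act 2 n4201 = n4201 := (sb E1159 (iv D6080))
theorem E1426 : n8804 = n2904 := ((((iv D4201)).symm.trans (sb E1159 (iv F39462)))).symm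
theorem E1485 : n37178 = n12084 := (((F76039).symm.trans (sb E1186 (iv F155931)))).symm
theorem E1500 : n17583 = n12089 := (((F76240).symm.trans (sb E1191 F109040))).symm
theorem E1512 : n17338 = n11926 := ((((iv F52804)).symm.trans (sb E1195 (iv F75298)))).symm
theorem E1513 : n8288 = n5719 := ((((iv D8289)).symm.trans (sb E1195 (iv D12031)))).symm
theorem E1532 : n17361 = n11943 := ((((iv F52878)).symm.trans (sb E1206 (iv F75393)))).symm
theorem E1533 : n8303 = n5730 := ((((iv D8306)).symm.trans (sb E1206 (iv D12054)))).symm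
theorem E1534 : n36815 = n25267 := ((((iv F107790)).symm.trans (sb E1207 (iv F154509)))).symm
theorem E1535 : n17526 = n12055 := ((((iv D17531)).symm.trans (sb E1207 (iv D25514)))).symm
theorem E1536 : n8302 = n5729 := ((((iv D8305)).symm.trans (sb E1208 (iv D12052)))).symm
theorem E1546 : n33694 = n29777 := ((D33694).symm.trans (sb E1214 F180723))
theorem E1547 : n34482 = n29825 := (((iv F145068)).symm.trans (sb E1215 F180898))
theorem E1548 : n29797 = n16266 := (((iv F126441)).symm.trans (sb E1216 F101325))
theorem F193383 : act 4 n20487 = n16260 := (sb E1216 F101326)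
theorem E1549 : n34547 = n14896 := (((F88377).symm.trans (sb E1216 (iv F145305)))).symm
theorem E1550 : n34538 = n29822 := ((((iv F126536)).symm.trans (sb E1216 (iv F145276)))).symm
theorem E1551 : n34548 = n29451 := ((((iv F124961)).symm.trans (sb E1216 D34548))).symm
theorem E1552 : n29826 = n16259 := ((D29826).symm.trans (sb E1216 (iv D23690)))
theorem F193385 : act 2 n23685 = n29720 := (sb E1217 F180887)
theorem F193387 : act 2 n23691 = n29384 := (sb E1218 F178853)
theorem F193388 : act 4 n20466 = n15893 := (sb E1220 F99225)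
theorem E1554 : n33747 = n14877 := (((F88294).symm.trans (sb E1220 (iv F142291)))).symm
theorem E1555 : n33744 = n29794 := ((((iv F126433)).symm.trans (sb E1220 (iv F142283)))).symm
theorem E1557 : n29799 = n15892 := ((D29799).symm.trans (sb E1220 (iv D23145)))
theorem E1560 : n33724 = n29827 := (((D29827).symm.trans (sb E1221 (iv F142212)))).symm
theorem F193390 : act 2 n23135 = n29708 := (sb E1222 F180890)
theorem F193396 : act 2 n23143 = n29795 := (sb E1228 F181453)
theorem E1562 : n33532 = n29742 := (((iv F141393)).symm.trans (sb E1231 F181100))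
theorem F193398 : act 5 n23043 = n29738 := (sb E1231 (iv D43349))
theorem E1563 : n33606 = n31522 := (((iv F141726)).symm.trans (sb E1233 F181235))
theorem F193401 : act 5 n23052 = n29756 := (sb E1233 (iv D43380))
theorem E1564 : n33603 = n29757 := ((D33603).symm.trans (sb E1234 F181239))
theorem E1566 : n33240 = n29765 := (((D29765).symm.trans (sb E1235 (iv F140334)))).symm
theorem E1567 : n29766 = n15802 := ((D29766).symm.trans (sb E1235 (iv D23009)))
theorem F193405 : act 4 n23048 = n29761 := (sb E1238 F181258)
theorem E1586 : n33284 = n10887 := (((F69116).symm.trans (sb E1250 (iv F140513)))).symm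
theorem F193416 : act 4 n20468 = n15842 := (sb E1251 (iv D23070))
theorem E1588 : n33633 = n14879 := (((F88301).symm.trans (sb E1251 D33633))).symm
theorem E1589 : n33631 = n29796 := ((((iv F126439)).symm.trans (sb E1251 (iv F141827)))).symm
theorem E1590 : n30604 = n29802 := (((D29802).symm.trans (sb E1251 (iv F129752)))).symm
theorem E1597 : n33304 = n31585 := (((D31585).symm.trans (sb E1253 (iv F140586)))).symm
theorem F193424 : act 4 n20476 = n15696 := (sb E1261 F97943)
theorem F193427 : act 6 n22849 = n29805 := (sb E1263 (iv D43452))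
theorem F193429 : act 4 n23067 = n29804 := (sb E1268 F181504)
theorem F193430 : act 9 n23067 = n29803 := (sb E1268 (iv D43450))
theorem E1627 : n33312 = n10823 := (((F68601).symm.trans (sb E1284 (iv F140610)))).symm
theorem E1629 : n15698 = n10798 := ((((iv D15701)).symm.trans (sb E1284 (iv D22856)))).symm
theorem E1631 : n33309 = n10822 := (((F68597).symm.trans (sb E1285 D33309))).symm
theorem E1645 : n33395 = n11086 := (((F68741).symm.trans (sb E1294 D33395))).symm
theorem E1646 : n15740 = n10826 := (((F68743).symm.trans (sb E1294 F98300))).symm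
theorem E1653 : n15588 = n10724 := ((((iv D15589)).symm.trans (sb E1296 (iv D22689)))).symm
theorem E1654 : n7432 = n5131 := ((((iv D7433)).symm.trans (sb E1297 (iv D10787)))).symm
theorem E1678 : n33094 = n22714 := ((((iv F97493)).symm.trans (sb E1308 (iv F139715)))).symm
theorem E1679 : n15603 = n10735 := ((((iv D15606)).symm.trans (sb E1308 (iv D22712)))).symm
theorem E1680 : n7442 = n5137 := ((((iv D7444)).symm.trans (sb E1309 (iv D10802)))).symm
theorem E1682 : n15703 = n10803 := ((((iv D15707)).symm.trans (sb E1310 (iv D22861)))).symm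
theorem E1683 : n15514 = n5139 := (((F33908).symm.trans (sb E1311 (iv F67811)))).symm
theorem E1689 : n34504 = n23664 := ((((iv F101240)).symm.trans (sb E1315 (iv F145165)))).symm
theorem E1690 : n16405 = n11282 := (((F70756).symm.trans (sb E1315 F101252))).symm
theorem F193452 : act 0 n16421 = n16421 := (sb E1318 (iv D23911))
theorem E1697 : n34828 = n23897 := ((((iv F102135)).symm.trans (sb E1318 (iv F146399)))).symm
theorem F193456 : act 4 n20502 = n16258 := (sb E1322 (iv D23687))
theorem E1702 : n34535 = n29842 := ((((iv F126610)).symm.trans (sb E1322 (iv F145269)))).symm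
theorem E1703 : n34520 = n29845 := (((D29845).symm.trans (sb E1322 (iv F145225)))).symm
theorem F193457 : act 1 n23683 = n29721 := (sb E1323 F180966)
theorem F193459 : act 1 n23674 = n29725 := (sb E1324 F180978)
theorem F193460 : act 3 n23897 = n29725 := (sb E1325 (iv D43326))
theorem E1716 : n26673 = n18313 := (((F110242).symm.trans (sb E1345 F158165))).symm
theorem E1728 : n26708 = n18334 := ((((iv F79147)).symm.trans (sb E1360 (iv F113324)))).symm
theorem E1733 : n12620 = n8685 := ((((iv D12621)).symm.trans (sb E1360 (iv D18375)))).symm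
theorem E1741 : n12594 = n8667 := ((((iv D12595)).symm.trans (sb E1372 (iv D18337)))).symm
theorem E1747 : n12615 = n4132 := ((((iv D5984)).symm.trans (sb E1375 (iv F55473)))).symm
theorem E1771 : n12768 = n8793 := (((F55438).symm.trans (sb E1409 F79239))).symm
theorem E1774 : n12794 = n8812 := (((F55550).symm.trans (sb E1412 F79388))).symm
theorem E1775 : n12796 = n8813 := (((F55559).symm.trans (sb E1413 F79401))).symm
theorem F193485 : act 2 n6079 = n6079 := (sb E1414 (iv D8814))
theorem E1776 : n12783 = n4200 := ((((iv D6079)).symm.trans (sb E1414 (iv F56147)))).symm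
theorem F193490 : act 2 n6064 = n6064 := (sb E1425 (iv D8794))
theorem E1785 : n12758 = n4188 := ((((iv D6064)).symm.trans (sb E1425 (iv F56033)))).symm
theorem E1786 : n6071 = n4193 := ((((iv F19654)).symm.trans (sb E1426 (iv D8804)))).symm
theorem E1837 : n25583 = n17572 := ((((iv F76217)).symm.trans (sb E1485 F155932))).symm
theorem E1851 : n12091 = n8329 := (((F53444).symm.trans (sb E1500 F76251))).symm
theorem E1854 : n12088 = n8327 := ((((iv D12089)).symm.trans (sb E1500 (iv D17583)))).symm
theorem E1865 : n11925 = n8218 := ((((iv D11926)).symm.trans (sb E1512 (iv D17338)))).symm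
theorem E1866 : n5718 = n3955 := ((((iv D5719)).symm.trans (sb E1513 (iv D8288)))).symm
theorem E1883 : n25264 = n17363 := ((((iv F75403)).symm.trans (sb E1532 (iv F107779)))).symm
theorem E1884 : n11940 = n8229 := ((((iv D11943)).symm.trans (sb E1532 (iv D17361)))).symm
theorem E1885 : n5728 = n3961 := ((((iv D5730)).symm.trans (sb E1533 (iv D8303)))).symm
theorem E1886 : n25262 = n17362 := ((((iv D25267)).symm.trans (sb E1534 (iv D36815)))).symm
theorem E1887 : n12051 = n8304 := ((((iv D12055)).symm.trans (sb E1535 (iv D17526)))).symm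
theorem E1888 : n11844 = n3963 := (((F26502).symm.trans (sb E1536 (iv F52485)))).symm
theorem E1894 : n43379 = n23114 := (((iv F181230)).symm.trans (sb E1546 F142092))
theorem E1895 : n43440 = n23653 := (((iv F181468)).symm.trans (sb E1547 F145067))
theorem E1896 : n43477 = n23646 := ((D43477).symm.trans (sb E1547 (iv D34482)))
theorem F193545 : act 3 n16266 = n20487 := (sb E1548 F126441)
theorem E1897 : n23698 = n21664 := (((iv F101349)).symm.trans (sb E1548 F126442))
theorem E1898 : n43434 = n23695 := ((((iv F101341)).symm.trans (sb E1548 (iv F181452)))).symm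
theorem E1901 : n23689 = n21690 := (((D21690).symm.trans (sb E1549 (iv D34547)))).symm
theorem E1902 : n43475 = n23684 := ((D43475).symm.trans (sb E1550 (iv D34538)))
theorem F193547 : act 4 n29451 = n23691 := (sb E1551 F145307)
theorem F193549 : act 2 n16259 = n20502 := (sb E1552 F126546)
theorem F193550 : act 9 n16259 = n20487 := (sb E1552 (iv D29826))
theorem E1904 : n23148 = n21665 := (((D21665).symm.trans (sb E1554 F142290))).symm
theorem E1905 : n23144 = n21666 := (((D21666).symm.trans (sb E1554 (iv D33747)))).symm
theorem F193552 : act 4 n29794 = n23143 := (sb E1555 F142282)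
theorem E1906 : n43436 = n23142 := ((D43436).symm.trans (sb E1555 (iv D33744)))
theorem F193555 : act 3 n15892 = n20488 := (sb E1557 F126447)
theorem E1909 : n44723 = n43479 := (((D43479).symm.trans (sb E1560 (iv F186673)))).symm
theorem F193560 : act 4 n29742 = n23043 := (sb E1562 F141393)
theorem E1916 : n46006 = n23051 := ((D46006).symm.trans (sb E1563 (iv D33606)))
theorem F193562 : act 4 n29757 = n23049 := (sb E1564 (iv D33603))
theorem F193564 : act 4 n29765 = n22837 := (sb E1566 F140333)
theorem F193565 : act 5 n15802 = n20446 := (sb E1567 F126312)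
theorem E1931 : n22838 = n15688 := ((((iv F68554)).symm.trans (sb E1586 (iv D33284)))).symm
theorem E1932 : n23072 = n21668 := ((((iv F93054)).symm.trans (sb E1588 F141834))).symm
theorem F193576 : act 4 n29796 = n23068 := (sb E1589 (iv D33631))
theorem E1934 : n44630 = n43439 := (((D43439).symm.trans (sb E1589 (iv F186273)))).symm
theorem E1935 : n44626 = n20572 := (((F126459).symm.trans (sb E1590 (iv F186254)))).symm
theorem F193578 : act 4 n31585 = n22851 := (sb E1597 F140585)
theorem E1961 : n22909 = n15734 := ((((iv F68725)).symm.trans (sb E1627 F140611))).symm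
theorem E1964 : n10796 = n7439 := ((((iv D10798)).symm.trans (sb E1629 (iv D15698)))).symm
theorem E1965 : n22906 = n15732 := ((((iv F68720)).symm.trans (sb E1631 F140602))).symm
theorem E1972 : n23487 = n16126 := (((D16126).symm.trans (sb E1645 F140905))).symm
theorem E1974 : n10827 = n7459 := (((F48232).symm.trans (sb E1646 F68750))).symm
theorem E1976 : n22614 = n7458 := ((((iv D10826)).symm.trans (sb E1646 (iv F97068)))).symm
theorem E1982 : n10723 = n7392 := ((((iv D10724)).symm.trans (sb E1653 (iv D15588)))).symm
theorem E1983 : n5132 = n3549 := ((((iv D5131)).symm.trans (sb E1654 F33864))).symm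
theorem E2000 : n22710 = n15605 := ((((iv D22714)).symm.trans (sb E1678 (iv D33094)))).symm
theorem E2001 : n10733 = n7398 := ((((iv D10735)).symm.trans (sb E1679 (iv D15603)))).symm
theorem E2002 : n10674 = n3554 := (((F23956).symm.trans (sb E1680 (iv F47592)))).symm
theorem E2004 : n22577 = n7446 := (((F48140).symm.trans (sb E1682 (iv F96923)))).symm
theorem E2005 : n22553 = n3555 := (((F23963).symm.trans (sb E1683 (iv F96833)))).symm
theorem E2007 : n23884 = n16404 := (((F101241).symm.trans (sb E1689 F145166))).symm
theorem F193616 : act 1 n11282 = n11282 := (sb E1690 (iv D16405))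
theorem F193621 : act 0 n23897 = n23897 := (sb E1697 (iv D34828))
theorem F193625 : act 4 n29842 = n23683 := (sb E1702 (iv D34535))
theorem F193626 : act 4 n29845 = n23674 := (sb E1703 (iv D34520))
theorem E2039 : n18312 = n12581 := ((((iv D18313)).symm.trans (sb E1716 (iv D26673)))).symm
theorem E2080 : n18333 = n12593 := ((((iv D18334)).symm.trans (sb E1728 (iv D26708)))).symm
theorem E2093 : n18362 = n5983 := ((((iv D8685)).symm.trans (sb E1733 (iv F79271)))).symm
theorem E2112 : n18328 = n5972 := ((((iv D8667)).symm.trans (sb E1741 (iv F79125)))).symm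
theorem E2123 : n8682 = n5982 := (((D5982).symm.trans (sb E1747 (iv D12615)))).symm
theorem E2168 : n18560 = n6063 := ((((iv D8793)).symm.trans (sb E1771 (iv F80052)))).symm
theorem E2174 : n18594 = n6077 := ((((iv D8812)).symm.trans (sb E1774 (iv F80204)))).symm
theorem E2175 : n18596 = n6078 := ((((iv D8813)).symm.trans (sb E1775 (iv F80212)))).symm
theorem E2176 : n8803 = n6070 := ((((iv F27800)).symm.trans (sb E1776 (iv D12783)))).symm
theorem E2189 : n8785 = n6056 := ((((iv F27729)).symm.trans (sb E1785 (iv D12758)))).symm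
theorem F193658 : act 3 n4193 = n4193 := (sb E1786 (iv D6071))
theorem E2191 : n8805 = n2901 := (((F19655).symm.trans (sb E1786 D8805))).symm
theorem E2302 : n17574 = n12082 := (((F76218).symm.trans (sb E1837 F109015))).symm
theorem E2342 : n17398 = n11966 := ((((iv F52976)).symm.trans (sb E1851 (iv F75549)))).symm
theorem E2343 : n17586 = n5771 := (((F37624).symm.trans (sb E1851 D17586))).symm
theorem E2344 : n8328 = n5745 := ((((iv D8329)).symm.trans (sb E1851 (iv D12091)))).symm
theorem E2350 : n17252 = n5744 := ((((iv D8327)).symm.trans (sb E1854 (iv F74951)))).symm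
theorem E2375 : n8217 = n5673 := ((((iv D8218)).symm.trans (sb E1865 (iv D11925)))).symm
theorem E2376 : n3956 = n2740 := ((((iv D3955)).symm.trans (sb E1866 F26463))).symm
theorem E2407 : n17359 = n11942 := ((((iv D17363)).symm.trans (sb E1883 (iv D25264)))).symm
theorem E2408 : n8227 = n5679 := ((((iv D8229)).symm.trans (sb E1884 (iv D11940)))).symm
theorem E2409 : n8163 = n2745 := (((F18776).symm.trans (sb E1885 (iv F36973)))).symm
theorem E2411 : n17358 = n11941 := ((((iv D17362)).symm.trans (sb E1886 (iv D25262)))).symm
theorem E2412 : n17215 = n5732 := (((F37533).symm.trans (sb E1887 (iv F74815)))).symm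
theorem E2413 : n17191 = n2746 := (((F18781).symm.trans (sb E1888 (iv F74732)))).symm
theorem E2425 : n33700 = n31521 := ((D33700).symm.trans (sb E1894 F181231))
theorem F193717 : act 3 n23653 = n29825 := (sb E1895 F181468)
theorem E2426 : n34490 = n31579 := (((iv F145099)).symm.trans (sb E1895 F181469))
theorem F193718 : act 2 n23646 = n29844 := (sb E1896 F181603)
theorem E2428 : n31580 = n16269 := ((D31580).symm.trans (sb E1897 F101348))
theorem F193720 : act 5 n21664 = n16266 := (sb E1897 F101349)
theorem E2430 : n34557 = n31558 := ((((iv F133304)).symm.trans (sb E1897 D34557))).symm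
theorem F193722 : act 3 n23695 = n29822 := (sb E1898 F181451)
theorem F193724 : act 5 n21690 = n16259 := (sb E1901 (iv D23689))
theorem F193726 : act 2 n23684 = n29842 := (sb E1902 F181598)
theorem F193727 : act 9 n23684 = n29822 := (sb E1902 (iv D43475))
theorem E2434 : n33704 = n31520 := ((((iv F133145)).symm.trans (sb E1904 (iv F142123)))).symm
theorem F193730 : act 5 n21665 = n15895 := (sb E1904 F99235)
theorem E2435 : n33750 = n31574 := ((((iv F133359)).symm.trans (sb E1904 (iv F142301)))).symm
theorem E2437 : n31583 = n15894 := ((D31583).symm.trans (sb E1904 (iv D23148)))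
theorem E2439 : n31584 = n30678 := ((D31584).symm.trans (sb E1905 (iv F130067)))
theorem F193733 : act 3 n23142 = n29823 := (sb E1906 F181456)
theorem F193739 : act 1 n43479 = n31230 := (sb E1909 F186672)
theorem F193740 : act 4 n43479 = n30664 := (sb E1909 (iv D44723))
theorem E2442 : n33605 = n31523 := ((D33605).symm.trans (sb E1916 F191285))
theorem E2456 : n32872 = n10793 := (((F68553).symm.trans (sb E1931 (iv F138818)))).symm
theorem F193761 : act 5 n21668 = n15844 := (sb E1932 (iv D23072))
theorem F193763 : act 4 n43439 = n30602 := (sb E1934 (iv D44630))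
theorem E2462 : n30599 = n29951 := ((((iv F127073)).symm.trans (sb E1935 (iv D44626)))).symm
theorem E2487 : n33140 = n22740 := ((((iv F97607)).symm.trans (sb E1961 (iv F139914)))).symm
theorem E2488 : n33391 = n10856 := (((F68727).symm.trans (sb E1961 D33391))).symm
theorem E2489 : n15733 = n10820 := ((((iv D15734)).symm.trans (sb E1961 (iv D22909)))).symm
theorem E2495 : n15509 = n5136 := (((F33894).symm.trans (sb E1964 (iv F67792)))).symm
theorem E2499 : n32940 = n10819 := ((((iv D15732)).symm.trans (sb E1965 (iv F139072)))).symm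
theorem E2511 : n16130 = n11088 := (((F70321).symm.trans (sb E1972 F100602))).symm
theorem E2517 : n15628 = n10750 := ((((iv F47918)).symm.trans (sb E1974 (iv F68297)))).symm
theorem E2518 : n15540 = n5147 := ((((iv D7459)).symm.trans (sb E1974 (iv F67915)))).symm
theorem E2521 : n15539 = n10690 := ((((iv F47655)).symm.trans (sb E1976 (iv D22614)))).symm
theorem E2533 : n7393 = n5104 := ((((iv D7392)).symm.trans (sb E1982 F47789))).symm
theorem E2534 : n3550 = n2460 := (((F16967).symm.trans (sb E1983 F23934))).symm
theorem E2572 : n15602 = n10734 := ((((iv D15605)).symm.trans (sb E2000 (iv D22710)))).symm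
theorem E2573 : n15420 = n5109 := (((F33710).symm.trans (sb E2001 (iv F67413)))).symm
theorem E2574 : n15498 = n2463 := (((F16989).symm.trans (sb E2002 (iv F67747)))).symm
theorem E2578 : n32859 = n5140 := (((F33921).symm.trans (sb E2004 (iv F138767)))).symm
theorem E2581 : n15499 = n5084 := ((((iv F23718)).symm.trans (sb E2005 F96835))).symm
theorem F193800 : act 1 n16404 = n16404 := (sb E2007 (iv D23884))
theorem E2599 : n26664 = n8660 := ((((iv D12581)).symm.trans (sb E2039 (iv F113158)))).symm
theorem E2627 : n26695 = n8666 := ((((iv D12593)).symm.trans (sb E2080 (iv F113273)))).symm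
theorem E2640 : n12614 = n8681 := ((((iv F38967)).symm.trans (sb E2093 (iv D18362)))).symm
theorem E2652 : n12590 = n8665 := (((D8665).symm.trans (sb E2112 (iv D18328)))).symm
theorem E2662 : n6067 = n4191 := (((F27452).symm.trans (sb E2123 F38970))).symm
theorem E2685 : n12757 = n8784 := ((((iv F39367)).symm.trans (sb E2168 (iv D18560)))).symm
theorem E2691 : n12781 = n8801 := ((((iv F39448)).symm.trans (sb E2174 (iv D18594)))).symm
theorem E2693 : n12782 = n8802 := ((((iv F39454)).symm.trans (sb E2175 (iv D18596)))).symm
theorem F193851 : act 3 n6070 = n6070 := (sb E2176 (iv D8803))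
theorem E2695 : n12784 = n4195 := (((F27801).symm.trans (sb E2176 D12784))).symm
theorem F193854 : act 3 n6056 = n6056 := (sb E2189 (iv D8785))
theorem E2700 : n6074 = n4196 := (((D4196).symm.trans (sb E2191 F39467))).symm
theorem E2760 : n25310 = n17389 := ((((iv F75517)).symm.trans (sb E2302 (iv F107976)))).symm
theorem E2761 : n25586 = n8357 := (((F53422).symm.trans (sb E2302 D25586))).symm
theorem E2793 : n25322 = n8270 := (((F52977).symm.trans (sb E2342 D25322))).symm
theorem E2794 : n11965 = n8244 := ((((iv D11966)).symm.trans (sb E2342 (iv D17398)))).symm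
theorem E2795 : n12147 = n8366 := ((((iv F37746)).symm.trans (sb E2343 F76257))).symm
theorem E2797 : n11870 = n3971 := ((((iv D5745)).symm.trans (sb E2344 (iv F52580)))).symm
theorem E2804 : n11869 = n8179 := ((((iv F37032)).symm.trans (sb E2350 (iv D17252)))).symm
theorem E2820 : n5674 = n3925 := ((((iv D5673)).symm.trans (sb E2375 F37180))).symm
theorem E2821 : n2741 = n1904 := (((F13314).symm.trans (sb E2376 F18756))).symm
theorem E2841 : n11939 = n8228 := ((((iv D11942)).symm.trans (sb E2407 (iv D17359)))).symm
theorem E2842 : n11727 = n3930 := (((F26297).symm.trans (sb E2408 (iv F52020)))).symm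
theorem E2843 : n11828 = n1907 := (((F13333).symm.trans (sb E2409 (iv F52425)))).symm
theorem E2846 : n24786 = n8231 := (((F52867).symm.trans (sb E2411 (iv F105901)))).symm
theorem E2847 : n25013 = n3964 := (((F26512).symm.trans (sb E2412 (iv F106798)))).symm
theorem E2850 : n11829 = n3903 := ((((iv F18534)).symm.trans (sb E2413 F74734))).symm
theorem E2851 : n46003 = n23116 := (((iv F191276)).symm.trans (sb E2425 F142112))
theorem E2853 : n46089 = n23656 := ((D46089).symm.trans (sb E2426 F145098))
theorem E2854 : n46090 = n23652 := ((D46090).symm.trans (sb E2426 (iv D34490)))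
theorem E2856 : n46054 = n23702 := (((D23702).symm.trans (sb E2428 (iv F191477)))).symm
theorem F193947 : act 5 n31558 = n23699 := (sb E2430 F145334)
theorem E2859 : n46055 = n45601 := ((D46055).symm.trans (sb E2430 (iv F189820)))
theorem F193952 : act 5 n31520 = n23117 := (sb E2434 F142125)
theorem E2862 : n46084 = n23147 := ((D46084).symm.trans (sb E2435 (iv D33750)))
theorem F193955 : act 4 n15894 = n21666 := (sb E2437 F133388)
theorem E2866 : n46097 = n44737 := ((((iv F186719)).symm.trans (sb E2439 D46097))).symm
theorem F193958 : act 8 n30678 = n21666 := (sb E2439 (iv D31584))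
theorem F193961 : act 5 n31523 = n23051 := (sb E2442 (iv D33605))
theorem E2876 : n22562 = n15506 := ((((iv F67783)).symm.trans (sb E2456 F138819))).symm
theorem E2883 : n44623 = n43657 := ((((iv F182352)).symm.trans (sb E2462 (iv F186244)))).symm
theorem E2897 : n22739 = n15621 := ((((iv D22740)).symm.trans (sb E2487 (iv D33140)))).symm
theorem E2898 : n22988 = n15787 := ((((iv F68915)).symm.trans (sb E2488 F140888))).symm
theorem E2899 : n22607 = n7453 := ((((iv D10820)).symm.trans (sb E2489 (iv F97039)))).symm
theorem E2903 : n22566 = n6821 := ((((iv F31237)).symm.trans (sb E2495 (iv F96888)))).symm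
theorem E2905 : n22606 = n15532 := ((((iv F67882)).symm.trans (sb E2499 (iv D32940)))).symm
theorem E2913 : n11090 = n7637 := (((F49307).symm.trans (sb E2511 F70339))).symm
theorem E2919 : n22463 = n7408 := ((((iv D10750)).symm.trans (sb E2517 (iv F96453)))).symm
theorem E2920 : n10691 = n7369 := ((((iv F33583)).symm.trans (sb E2518 (iv D15540)))).symm
theorem E2923 : n10693 = n7370 := (((F47656).symm.trans (sb E2521 F67911))).symm
theorem E2932 : n5105 = n3532 := (((F23801).symm.trans (sb E2533 F33684))).symm
theorem E2934 : n5076 = n1709 := ((((iv D2460)).symm.trans (sb E2534 (iv F23683)))).symm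
theorem E2958 : n22437 = n7400 := (((F47842).symm.trans (sb E2572 (iv F96343)))).symm
theorem E2959 : n22421 = n3535 := (((F23828).symm.trans (sb E2573 (iv F96276)))).symm
theorem E2961 : n22548 = n3266 := ((((iv F15675)).symm.trans (sb E2574 (iv F96813)))).symm
theorem E2962 : n10664 = n3518 := ((((iv F16826)).symm.trans (sb E2574 (iv D15498)))).symm
theorem E2965 : n22555 = n7362 := ((((iv F33554)).symm.trans (sb E2578 F138769))).symm
theorem E2967 : n10666 = n7355 := ((((iv F33524)).symm.trans (sb E2581 F67752))).symm
theorem E3001 : n18308 = n12579 := (((D12579).symm.trans (sb E2599 (iv D26664)))).symm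
theorem E3068 : n18327 = n12589 := ((((iv F55358)).symm.trans (sb E2627 (iv D26695)))).symm
theorem E3094 : n8797 = n6066 := (((F38966).symm.trans (sb E2640 F55468))).symm
theorem E3111 : n8781 = n6054 := (((F38895).symm.trans (sb E2652 F55362))).symm
theorem F194053 : act 8 n4191 = n4191 := (sb E2662 (iv D6067))
theorem F194058 : act 3 n8784 = n8784 := (sb E2685 (iv D12757))
theorem F194061 : act 3 n8801 = n8801 := (sb E2691 (iv D12781))
theorem F194062 : act 3 n8802 = n8802 := (sb E2693 (iv D12782))
theorem E3179 : n18597 = n6072 := (((F39455).symm.trans (sb E2693 D18597))).symm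
theorem E3181 : n8807 = n6073 := (((D6073).symm.trans (sb E2695 F56151))).symm
theorem F194064 : act 4 n4196 = n4196 := (sb E2700 (iv D6074))
theorem E3318 : n36887 = n11994 := (((F75518).symm.trans (sb E2760 D36887))).symm
theorem E3320 : n17653 = n12135 := ((((iv F53603)).symm.trans (sb E2761 F109021))).symm
theorem E3393 : n17454 = n12003 := ((((iv F53122)).symm.trans (sb E2793 F108016))).symm
theorem E3395 : n17066 = n5689 := ((((iv D8244)).symm.trans (sb E2794 (iv F74230)))).symm
theorem E3397 : n17311 = n5770 := ((((iv D8366)).symm.trans (sb E2795 (iv F75168)))).symm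
theorem E3399 : n8180 = n5647 := ((((iv F26167)).symm.trans (sb E2797 (iv D11870)))).symm
theorem E3412 : n8182 = n5648 := (((F37033).symm.trans (sb E2804 F52577))).symm
theorem E3444 : n3926 = n2721 := (((F18622).symm.trans (sb E2820 F26273))).symm
theorem E3446 : n3952 = n2738 := ((((iv F13305)).symm.trans (sb E2821 (iv F18740)))).symm
theorem E3447 : n3895 = n1324 := ((((iv D1904)).symm.trans (sb E2821 (iv F18500)))).symm
theorem E3479 : n17040 = n5681 := (((F37228).symm.trans (sb E2841 (iv F74129)))).symm
theorem E3480 : n17024 = n2724 := (((F18646).symm.trans (sb E2842 (iv F74066)))).symm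
theorem E3483 : n8153 = n2706 := ((((iv F13167)).symm.trans (sb E2843 (iv D11828)))).symm
theorem E3486 : n36067 = n5682 := (((F37240).symm.trans (sb E2846 (iv F151595)))).symm
theorem E3489 : n17193 = n5640 := ((((iv F26138)).symm.trans (sb E2847 F106800))).symm
theorem E3492 : n8155 = n5633 := ((((iv F26110)).symm.trans (sb E2850 F52429))).symm
theorem F194121 : act 4 n23116 = n31521 := (sb E2851 F191276)
theorem F194125 : act 4 n23656 = n31579 := (sb E2853 (iv D46089))
theorem F194126 : act 3 n23652 = n31611 := (sb E2854 F191599)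
theorem F194131 : act 4 n23702 = n31558 := (sb E2856 (iv D46054))
theorem F194136 : act 9 n45601 = n31558 := (sb E2859 (iv D46055))
theorem F194140 : act 4 n23147 = n31575 := (sb E2862 F191579)
theorem F194147 : act 2 n44737 = n31744 := (sb E2866 F191622)
theorem E3508 : n15504 = n10669 := ((((iv D15506)).symm.trans (sb E2876 (iv D22562)))).symm
theorem F194165 : act 3 n43657 = n30598 := (sb E2883 (iv D44623))
theorem E3539 : n32714 = n10744 := ((((iv D15621)).symm.trans (sb E2897 (iv F138163)))).symm
theorem E3543 : n33022 = n10855 := ((((iv D15787)).symm.trans (sb E2898 (iv F139381)))).symm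
theorem E3544 : n15533 = n10685 := ((((iv F47636)).symm.trans (sb E2899 (iv D22607)))).symm
theorem E3554 : n32848 = n4717 := (((F31236).symm.trans (sb E2903 (iv F138726)))).symm
theorem E3559 : n15535 = n10686 := (((F67883).symm.trans (sb E2905 F97035))).symm
theorem F194178 : act 2 n7637 = n7637 := (sb E2913 (iv D11090))
theorem E3587 : n15437 = n10623 := ((((iv F47367)).symm.trans (sb E2919 (iv D22463)))).symm
theorem E3589 : n7371 = n5088 := ((((iv D7369)).symm.trans (sb E2920 F47660))).symm
theorem F194181 : act 8 n7369 = n7369 := (sb E2920 (iv D10691))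
theorem F194183 : act 8 n7370 = n7370 := (sb E2923 (iv D10693))
theorem E3611 : n7313 = n2448 := ((((iv D3532)).symm.trans (sb E2932 (iv F33332)))).symm
theorem E3613 : n7345 = n1190 := ((((iv D1709)).symm.trans (sb E2934 (iv F33475)))).symm
theorem E3659 : n32660 = n5110 := (((F33719).symm.trans (sb E2958 (iv F137944)))).symm
theorem E3661 : n32655 = n4701 := ((((iv F22032)).symm.trans (sb E2959 (iv F137923)))).symm
theorem E3662 : n15410 = n5057 := ((((iv F23593)).symm.trans (sb E2959 (iv D22421)))).symm
theorem E3665 : n15495 = n4686 := ((((iv F21964)).symm.trans (sb E2961 (iv D22548)))).symm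
theorem E3666 : n7354 = n5079 := ((((iv F23696)).symm.trans (sb E2962 F47551))).symm
theorem E3671 : n15502 = n10667 := ((((iv F47564)).symm.trans (sb E2965 F96842))).symm
theorem F194195 : act 2 n7355 = n7355 := (sb E2967 F47558)
theorem E3686 : n26660 = n18306 := (((D18306).symm.trans (sb E3001 (iv F113139)))).symm
theorem E3711 : n12751 = n8780 := (((F55357).symm.trans (sb E3068 F79119))).symm
theorem F194256 : act 8 n6066 = n6066 := (sb E3094 (iv D8797))
theorem E3728 : n12738 = n8772 := ((((iv F39303)).symm.trans (sb E3111 (iv F55931)))).symm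
theorem F194261 : act 8 n6054 = n6054 := (sb E3111 (iv D8781))
theorem E3766 : n12788 = n8806 := (((D8806).symm.trans (sb E3179 F80217))).symm
theorem F194273 : act 4 n6073 = n6073 := (sb E3181 (iv D8807))
theorem E3860 : n25389 = n17442 := ((((iv F75731)).symm.trans (sb E3318 F154806))).symm
theorem E3863 : n25176 = n8356 := ((((iv D12135)).symm.trans (sb E3320 (iv F107397)))).symm
theorem E3914 : n24882 = n8269 := ((((iv D12003)).symm.trans (sb E3393 (iv F106277)))).symm
theorem E3916 : n11744 = n8097 := ((((iv F36700)).symm.trans (sb E3395 (iv D17066)))).symm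
theorem E3919 : n11908 = n8205 := ((((iv F37123)).symm.trans (sb E3397 (iv D17311)))).symm
theorem E3921 : n5649 = n3907 := ((((iv D5647)).symm.trans (sb E3399 F37036))).symm
theorem F194345 : act 8 n5647 = n5647 := (sb E3399 (iv D8180))
theorem F194352 : act 8 n5648 = n5648 := (sb E3412 (iv D8182))
theorem E3950 : n5670 = n3923 := ((((iv F18611)).symm.trans (sb E3444 (iv F26253)))).symm
theorem E3951 : n5581 = n1891 := ((((iv D2721)).symm.trans (sb E3444 (iv F25887)))).symm
theorem E3953 : n5617 = n1902 := ((((iv D2738)).symm.trans (sb E3446 (iv F26048)))).symm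
theorem E3954 : n5623 = n922 := ((((iv D1324)).symm.trans (sb E3447 (iv F26069)))).symm
theorem E3979 : n24762 = n3931 := (((F26304).symm.trans (sb E3479 (iv F105814)))).symm
theorem E3982 : n11717 = n3869 := ((((iv F18384)).symm.trans (sb E3480 (iv D17024)))).symm
theorem E3986 : n5632 = n3898 := ((((iv F18513)).symm.trans (sb E3483 F36934))).symm
theorem E3988 : n24764 = n8090 := ((((iv F36670)).symm.trans (sb E3486 F151597))).symm
theorem E3991 : n11832 = n8156 := ((((iv F36945)).symm.trans (sb E3489 F74739))).symm
theorem F194366 : act 2 n5633 = n5633 := (sb E3492 F36939)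
theorem E4001 : n10668 = n7356 := ((((iv D10669)).symm.trans (sb E3508 (iv D15504)))).symm
theorem E4003 : n22563 = n7364 := (((F47576).symm.trans (sb E3508 D22563))).symm
theorem E4015 : n22456 = n15431 := ((((iv F67459)).symm.trans (sb E3539 (iv D32714)))).symm
theorem E4016 : n22661 = n15568 := ((((iv F68019)).symm.trans (sb E3543 (iv D33022)))).symm
theorem E4017 : n22597 = n15527 := ((((iv F67864)).symm.trans (sb E3544 (iv F97002)))).symm
theorem E4018 : n10687 = n7366 := ((((iv D10685)).symm.trans (sb E3544 F67886))).symm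
theorem F194384 : act 8 n10685 = n10685 := (sb E3544 (iv D15533))
theorem E4027 : n22546 = n6776 := ((((iv F31037)).symm.trans (sb E3554 (iv D32848)))).symm
theorem F194389 : act 8 n10686 = n10686 := (sb E3559 (iv D15535))
theorem E4043 : n10625 = n7325 := ((((iv D10623)).symm.trans (sb E3587 F67484))).symm
theorem E4045 : n5089 = n3521 := ((((iv D5088)).symm.trans (sb E3589 F33593))).symm
theorem F194398 : act 8 n5088 = n5088 := (sb E3589 (iv D7371))
theorem E4046 : n10694 = n3527 := (((F23736).symm.trans (sb E3589 D10694))).symm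
theorem E4064 : n10599 = n1702 := ((((iv D2448)).symm.trans (sb E3611 (iv F47256)))).symm
theorem E4067 : n5073 = n1694 := ((((iv F8522)).symm.trans (sb E3613 (iv D7345)))).symm
theorem E4087 : n22422 = n7321 := ((((iv F33370)).symm.trans (sb E3659 F137946))).symm
theorem E4089 : n22418 = n6757 := ((((iv F30945)).symm.trans (sb E3661 (iv D32655)))).symm
theorem E4090 : n10608 = n7316 := ((((iv F33346)).symm.trans (sb E3662 F67371))).symm
theorem E4094 : n10663 = n6772 := ((((iv F31015)).symm.trans (sb E3665 F67736))).symm
theorem F194418 : act 2 n5079 = n5079 := (sb E3666 F33519)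
theorem E4096 : n5078 = n3515 := ((((iv D5079)).symm.trans (sb E3666 (iv D7354)))).symm
theorem F194420 : act 2 n10667 = n10667 := (sb E3671 F67765)
theorem E4128 : n18527 = n12736 := (((F79037).symm.trans (sb E3686 F113138))).symm
theorem E4176 : n18530 = n12737 := ((((iv F55926)).symm.trans (sb E3711 (iv F79903)))).symm
theorem F194450 : act 8 n8780 = n8780 := (sb E3711 (iv D12751))
theorem F194458 : act 8 n8772 = n8772 := (sb E3728 (iv D12738))
theorem F194467 : act 4 n8806 = n8806 := (sb E3766 (iv D12788))
theorem E4427 : n36230 = n11993 := ((((iv D17442)).symm.trans (sb E3860 (iv F152235)))).symm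
theorem E4433 : n17299 = n11898 := ((((iv F52681)).symm.trans (sb E3863 (iv D25176)))).symm
theorem E4531 : n17104 = n11769 := ((((iv F52179)).symm.trans (sb E3914 (iv D24882)))).symm
theorem E4533 : n8099 = n5593 := ((((iv D8097)).symm.trans (sb E3916 F52086))).symm
theorem E4537 : n8206 = n5664 := ((((iv D8205)).symm.trans (sb E3919 F52714))).symm
theorem E4539 : n3908 = n2709 := ((((iv D3907)).symm.trans (sb E3921 F26175))).symm
theorem F194522 : act 8 n3907 = n3907 := (sb E3921 (iv D5649))
theorem E4586 : n8067 = n2719 := ((((iv D3923)).symm.trans (sb E3950 (iv F36577)))).symm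
theorem E4587 : n8073 = n1316 := ((((iv D1891)).symm.trans (sb E3951 (iv F36599)))).symm
theorem E4590 : n8127 = n1323 := ((((iv D1902)).symm.trans (sb E3953 (iv F36827)))).symm
theorem E4592 : n3892 = n1307 := ((((iv F6679)).symm.trans (sb E3954 (iv D5623)))).symm
theorem E4630 : n17025 = n5589 := ((((iv F25924)).symm.trans (sb E3979 F105816))).symm
theorem E4634 : n8082 = n5584 := ((((iv F25901)).symm.trans (sb E3982 F51980))).symm
theorem F194534 : act 2 n3898 = n3898 := (sb E3986 F26105)
theorem E4640 : n3897 = n2703 := ((((iv D3898)).symm.trans (sb E3986 (iv D5632)))).symm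
theorem E4642 : n17028 = n11720 := ((((iv F51991)).symm.trans (sb E3988 F105822))).symm
theorem F194536 : act 2 n8156 = n8156 := (sb E3991 F52439)
theorem E4659 : n15414 = n10610 := ((((iv F47313)).symm.trans (sb E4001 (iv F67391)))).symm
theorem E4660 : n15505 = n5085 := (((F33532).symm.trans (sb E4001 D15505))).symm
theorem E4663 : n15524 = n10680 := ((((iv F47617)).symm.trans (sb E4003 F96875))).symm
theorem E4683 : n32704 = n22450 := ((((iv F96399)).symm.trans (sb E4015 (iv F138123)))).symm
theorem E4684 : n15433 = n10620 := ((((iv D15431)).symm.trans (sb E4015 F96422))).symm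
theorem E4689 : n15569 = n10709 := ((((iv D15568)).symm.trans (sb E4016 F97243))).symm
theorem E4692 : n15529 = n10683 := ((((iv D15527)).symm.trans (sb E4017 F97003))).symm
theorem E4694 : n7367 = n5086 := ((((iv D7366)).symm.trans (sb E4018 F47644))).symm
theorem F194549 : act 8 n7366 = n7366 := (sb E4018 (iv D10687))
theorem E4712 : n30157 = n9820 := ((((iv F44018)).symm.trans (sb E4027 (iv F127984)))).symm
theorem E4735 : n7326 = n5060 := ((((iv D7325)).symm.trans (sb E4043 F47377))).symm
theorem F194562 : act 8 n7325 = n7325 := (sb E4043 (iv D10625))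
theorem F194563 : act 8 n3521 = n3521 := (sb E4045 (iv D5089))
theorem E4738 : n7372 = n2445 := (((F16841).symm.trans (sb E4045 D7372))).symm
theorem E4739 : n7389 = n5100 := (((D5100).symm.trans (sb E4046 F47674))).symm
theorem E4767 : n7310 = n2425 := ((((iv F11889)).symm.trans (sb E4064 (iv D10599)))).symm
theorem E4770 : n3511 = n2435 := ((((iv F11941)).symm.trans (sb E4067 (iv D5073)))).symm
theorem E4802 : n15412 = n10609 := ((((iv F47307)).symm.trans (sb E4087 F96282))).symm
theorem E4807 : n15409 = n9788 := ((((iv F43867)).symm.trans (sb E4089 F96265))).symm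
theorem F194574 : act 2 n7316 = n7316 := (sb E4090 F47301)
theorem E4809 : n7315 = n5054 := ((((iv D7316)).symm.trans (sb E4090 (iv D10608)))).symm
theorem E4813 : n14245 = n9815 := ((((iv F43991)).symm.trans (sb E4094 (iv F62576)))).symm
theorem F194576 : act 2 n3515 = n3515 := (sb E4096 F23691)
theorem E4815 : n3514 = n2437 := ((((iv D3515)).symm.trans (sb E4096 (iv D5078)))).symm
theorem F194591 : act 8 n12736 = n12736 := (sb E4128 (iv D18527))
theorem F194626 : act 8 n12737 = n12737 := (sb E4176 (iv D18530))
theorem E4952 : n24870 = n17094 := ((((iv F74338)).symm.trans (sb E4427 (iv D36230)))).symm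
theorem E4957 : n11899 = n8198 := ((((iv D11898)).symm.trans (sb E4433 F75123))).symm
theorem E5000 : n11770 = n8114 := ((((iv D11769)).symm.trans (sb E4531 F74371))).symm
theorem E5002 : n5594 = n3872 := ((((iv D5593)).symm.trans (sb E4533 F36708))).symm
theorem F194725 : act 8 n5593 = n5593 := (sb E4533 (iv D8099))
theorem E5004 : n5667 = n3919 := (((F26228).symm.trans (sb E4537 F37125))).symm
theorem F194729 : act 8 n2709 = n2709 := (sb E4539 (iv D3908))
theorem E5042 : n11691 = n1890 := ((((iv D2719)).symm.trans (sb E4586 (iv F51869)))).symm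
theorem E5044 : n5578 = n1864 := ((((iv F9301)).symm.trans (sb E4587 (iv D8073)))).symm
theorem E5048 : n5614 = n1874 := ((((iv F9349)).symm.trans (sb E4590 (iv D8127)))).symm
theorem E5050 : n2699 = n1877 := ((((iv F9363)).symm.trans (sb E4592 (iv D3892)))).symm
theorem E5076 : n11719 = n8083 := ((((iv F36642)).symm.trans (sb E4630 F74071))).symm
theorem F194742 : act 2 n5584 = n5584 := (sb E4634 F36636)
theorem E5082 : n5583 = n3866 := ((((iv D5584)).symm.trans (sb E4634 (iv D8082)))).symm
theorem F194744 : act 2 n2703 = n2703 := (sb E4640 F18508)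
theorem E5087 : n2702 = n1879 := ((((iv D2703)).symm.trans (sb E4640 (iv D3897)))).symm
theorem F194745 : act 2 n11720 = n11720 := (sb E4642 F74081)
theorem E5104 : n22428 = n7322 := (((F47314).symm.trans (sb E4659 D22428))).symm
theorem E5105 : n10681 = n7363 := (((D7363).symm.trans (sb E4660 F67779))).symm
theorem E5109 : n22594 = n7375 := (((F47618).symm.trans (sb E4663 D22594))).symm
theorem E5122 : n22452 = n15429 := ((((iv D22450)).symm.trans (sb E4683 F138124))).symm
theorem E5123 : n10621 = n7323 := ((((iv D10620)).symm.trans (sb E4684 F67467))).symm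
theorem F194758 : act 8 n10620 = n10620 := (sb E4684 (iv D15433))
theorem E5127 : n22646 = n15558 := ((((iv F67982)).symm.trans (sb E4689 (iv F97189)))).symm
theorem E5128 : n10712 = n7382 := (((F47727).symm.trans (sb E4689 F68021))).symm
theorem E5129 : n22600 = n14265 := ((((iv F62671)).symm.trans (sb E4692 D22600))).symm
theorem E5130 : n10684 = n7365 := ((((iv D10683)).symm.trans (sb E4692 F67873))).symm
theorem F194764 : act 8 n10683 = n10683 := (sb E4692 (iv D15529))
theorem F194765 : act 8 n5086 = n5086 := (sb E4694 (iv D7367))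
theorem E5149 : n20716 = n14246 := ((((iv F62581)).symm.trans (sb E4712 F127983))).symm
theorem E5164 : n10580 = n7297 := ((((iv F33250)).symm.trans (sb E4735 (iv F47164)))).symm
theorem F194783 : act 8 n5060 = n5060 := (sb E4735 (iv D7326))
theorem E5165 : n10626 = n3506 := (((F23609).symm.trans (sb E4735 D10626))).symm
theorem E5167 : n5101 = n3528 := (((D3528).symm.trans (sb E4738 F33598))).symm
theorem F194785 : act 9 n5100 = n5100 := (sb E4739 (iv D7389))
theorem E5193 : n5050 = n3496 := ((((iv F16719)).symm.trans (sb E4767 (iv D7310)))).symm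
theorem E5197 : n5071 = n1693 := ((((iv D2435)).symm.trans (sb E4770 (iv F23659)))).symm
theorem F194796 : act 2 n10609 = n10609 := (sb E4802 F67379)
theorem E5208 : n22335 = n15355 := ((((iv F67104)).symm.trans (sb E4802 (iv F95875)))).symm
theorem E5213 : n20656 = n14207 := ((((iv F62412)).symm.trans (sb E4807 (iv F89131)))).symm
theorem F194798 : act 2 n5054 = n5054 := (sb E4809 F33341)
theorem E5216 : n5053 = n3498 := ((((iv D5054)).symm.trans (sb E4809 (iv D7315)))).symm
theorem E5217 : n10569 = n7291 := ((((iv F33217)).symm.trans (sb E4809 (iv F47107)))).symm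
theorem F194799 : act 1 n9815 = n9815 := (sb E4813 F62575)
theorem E5220 : n9813 = n6771 := ((((iv D9815)).symm.trans (sb E4813 (iv D14245)))).symm
theorem F194800 : act 2 n2437 = n2437 := (sb E4815 (iv D3514))
theorem E5450 : n17095 = n11762 := ((((iv D17094)).symm.trans (sb E4952 F106228))).symm
theorem E5458 : n17284 = n11888 := ((((iv F52641)).symm.trans (sb E4957 (iv F75065)))).symm
theorem E5459 : n8201 = n5660 := (((F37099).symm.trans (sb E4957 F52683))).symm
theorem E5527 : n8117 = n5605 := (((F36764).symm.trans (sb E5000 F52181))).symm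
theorem E5529 : n8044 = n5558 := ((((iv F25779)).symm.trans (sb E5002 (iv F36465)))).symm
theorem F194878 : act 8 n3872 = n3872 := (sb E5002 (iv D5594))
theorem E5531 : n3920 = n2716 := (((F18595).symm.trans (sb E5004 F26239))).symm
theorem F194880 : act 9 n3919 = n3919 := (sb E5004 (iv D5667))
theorem E5594 : n8064 = n2676 := ((((iv F13029)).symm.trans (sb E5042 (iv D11691)))).symm
theorem E5597 : n3862 = n2679 := ((((iv F13043)).symm.trans (sb E5044 (iv D5578)))).symm
theorem E5603 : n3886 = n2695 := ((((iv F13118)).symm.trans (sb E5048 (iv D5614)))).symm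
theorem E5606 : n3890 = n1306 := ((((iv D1877)).symm.trans (sb E5050 (iv F18483)))).symm
theorem F194887 : act 2 n8083 = n8083 := (sb E5076 F51986)
theorem E5638 : n16915 = n11647 := ((((iv F51664)).symm.trans (sb E5076 (iv F73590)))).symm
theorem F194889 : act 2 n3866 = n3866 := (sb E5082 F25896)
theorem E5644 : n3865 = n2681 := ((((iv D3866)).symm.trans (sb E5082 (iv D5583)))).symm
theorem E5645 : n8033 = n5552 := ((((iv F25746)).symm.trans (sb E5082 (iv F36410)))).symm
theorem F194890 : act 2 n1879 = n1879 := (sb E5087 (iv D2702))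
theorem E5670 : n15427 = n10617 := (((D10617).symm.trans (sb E5104 F96310))).symm
theorem E5673 : n15525 = n5092 := (((F33562).symm.trans (sb E5105 D15525))).symm
theorem E5680 : n15555 = n10700 := (((D10700).symm.trans (sb E5109 F96992))).symm
theorem E5696 : n32707 = n20676 := ((((iv F89229)).symm.trans (sb E5122 D32707))).symm
theorem E5697 : n15430 = n10619 := ((((iv D15429)).symm.trans (sb E5122 F96408))).symm
theorem E5700 : n15367 = n10577 := ((((iv F47149)).symm.trans (sb E5123 (iv F67164)))).symm
theorem F194906 : act 8 n7323 = n7323 := (sb E5123 (iv D10621))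
theorem E5701 : n15434 = n5064 := (((F33380).symm.trans (sb E5123 D15434))).symm
theorem E5708 : n15562 = n10705 := (((F67983).symm.trans (sb E5127 F97190))).symm
theorem E5709 : n7383 = n5096 := (((F33634).symm.trans (sb E5128 F47738))).symm
theorem F194910 : act 9 n7382 = n7382 := (sb E5128 (iv D10712))
theorem E5711 : n15530 = n9826 := ((((iv D14265)).symm.trans (sb E5129 F97014))).symm
theorem E5712 : n30211 = n20750 := (((D20750).symm.trans (sb E5129 (iv F128210)))).symm
theorem F194911 : act 8 n7365 = n7365 := (sb E5130 (iv D10684))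
theorem E5737 : n14244 = n9814 := ((((iv D14246)).symm.trans (sb E5149 (iv D20716)))).symm
theorem F194927 : act 8 n7297 = n7297 := (sb E5164 (iv D10580))
theorem E5750 : n7338 = n5067 := (((D5067).symm.trans (sb E5165 F47383))).symm
theorem F194929 : act 9 n3528 = n3528 := (sb E5167 (iv D5101))
theorem E5792 : n7286 = n5034 := ((((iv F23472)).symm.trans (sb E5193 (iv F33188)))).symm
theorem E5793 : n7308 = n2424 := ((((iv D3496)).symm.trans (sb E5193 (iv F33308)))).symm
theorem E5796 : n3510 = n2434 := ((((iv F11934)).symm.trans (sb E5197 (iv D5071)))).symm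
theorem E5812 : n32520 = n22329 := ((((iv F95845)).symm.trans (sb E5208 (iv F137302)))).symm
theorem E5813 : n15354 = n10570 := ((((iv D15355)).symm.trans (sb E5208 (iv D22335)))).symm
theorem E5819 : n14205 = n9787 := ((((iv D14207)).symm.trans (sb E5213 (iv D20656)))).symm
theorem F194935 : act 2 n3498 = n3498 := (sb E5216 (iv D5053))
theorem E5822 : n7290 = n5037 := ((((iv F23489)).symm.trans (sb E5216 (iv F33211)))).symm
theorem F194936 : act 2 n7291 = n7291 := (sb E5217 F47106)
theorem F194937 : act 1 n6771 = n6771 := (sb E5220 F43980)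
theorem E5825 : n6770 = n4682 := ((((iv D6771)).symm.trans (sb E5220 (iv D9813)))).symm
theorem E5915 : n24855 = n17084 := ((((iv F74295)).symm.trans (sb E5450 (iv F106168)))).symm
theorem E5916 : n11765 = n8110 := (((F52153).symm.trans (sb E5450 F74340))).symm
theorem E5923 : n11892 = n8194 := (((F52642).symm.trans (sb E5458 F75066))).symm
theorem E5924 : n5661 = n3915 := (((F26214).symm.trans (sb E5459 F37110))).symm
theorem F195023 : act 9 n5660 = n5660 := (sb E5459 (iv D8201))
theorem E5954 : n5606 = n3879 := (((F25986).symm.trans (sb E5527 F36775))).symm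
theorem F195050 : act 8 n5558 = n5558 := (sb E5529 (iv D8044))
theorem F195052 : act 9 n2716 = n2716 := (sb E5531 (iv D3920))
theorem E6007 : n5572 = n3858 := ((((iv F18335)).symm.trans (sb E5594 (iv D8064)))).symm
theorem E6011 : n5547 = n3841 := ((((iv F18246)).symm.trans (sb E5597 (iv F25721)))).symm
theorem E6012 : n5576 = n1863 := ((((iv D2679)).symm.trans (sb E5597 (iv F25870)))).symm
theorem E6019 : n5612 = n1873 := ((((iv D2695)).symm.trans (sb E5603 (iv F26024)))).symm
theorem E6021 : n2698 = n1876 := ((((iv F9358)).symm.trans (sb E5606 (iv D3890)))).symm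
theorem F195059 : act 2 n11647 = n11647 := (sb E5638 F73589)
theorem E6035 : n24588 = n16909 := ((((iv F73562)).symm.trans (sb E5638 (iv F105064)))).symm
theorem E6036 : n11646 = n8034 := ((((iv D11647)).symm.trans (sb E5638 (iv D16915)))).symm
theorem F195060 : act 2 n2681 = n2681 := (sb E5644 (iv D3865))
theorem E6041 : n5551 = n3844 := ((((iv F18261)).symm.trans (sb E5644 (iv F25740)))).symm
theorem F195061 : act 2 n5552 = n5552 := (sb E5645 F36409)
theorem E6053 : n22448 = n7329 := (((F47345).symm.trans (sb E5670 D22448))).symm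
theorem E6056 : n10701 = n7376 := (((D7376).symm.trans (sb E5673 F67857))).symm
theorem F195071 : act 9 n10700 = n10700 := (sb E5680 (iv D15555))
theorem E6063 : n22453 = n14218 := ((((iv D20676)).symm.trans (sb E5696 F138135))).symm
theorem F195077 : act 8 n10619 = n10619 := (sb E5697 (iv D15430))
theorem E6066 : n22454 = n7331 := (((F47354).symm.trans (sb E5697 D22454))).symm
theorem F195079 : act 8 n10577 = n10577 := (sb E5700 (iv D15367))
theorem E6070 : n10637 = n7333 := (((D7333).symm.trans (sb E5701 F67472))).symm
theorem E6073 : n10707 = n7379 := (((F47715).symm.trans (sb E5708 F67997))).symm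
theorem F195085 : act 9 n10705 = n10705 := (sb E5708 (iv D15562))
theorem F195086 : act 9 n5096 = n5096 := (sb E5709 (iv D7383))
theorem E6076 : n20751 = n14266 := (((D14266).symm.trans (sb E5711 (iv F89540)))).symm
theorem F195087 : act 3 n20750 = n20750 := (sb E5712 (iv D30211))
theorem F195091 : act 1 n9814 = n9814 := (sb E5737 F62571)
theorem F195101 : act 9 n5067 = n5067 := (sb E5750 (iv D7338))
theorem E6122 : n10560 = n7285 := ((((iv F33182)).symm.trans (sb E5792 (iv F47055)))).symm
theorem E6123 : n10559 = n3484 := ((((iv D5034)).symm.trans (sb E5792 (iv F47052)))).symm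
theorem E6124 : n5049 = n3495 := ((((iv F16712)).symm.trans (sb E5793 (iv D7308)))).symm
theorem F195104 : act 8 n2434 = n2434 := (sb E5796 (iv D3510))
theorem E6127 : n5070 = n1692 := ((((iv D2434)).symm.trans (sb E5796 (iv F23654)))).symm
theorem E6132 : n22328 = n15350 := ((((iv D22329)).symm.trans (sb E5812 (iv D32520)))).symm
theorem F195109 : act 2 n10570 = n10570 := (sb E5813 F67098)
theorem F195110 : act 1 n9787 = n9787 := (sb E5819 F62401)
theorem E6136 : n9786 = n6753 := ((((iv D9787)).symm.trans (sb E5819 (iv D14205)))).symm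
theorem F195111 : act 2 n5037 = n5037 := (sb E5822 (iv D7290))
theorem E6139 : n10566 = n7289 := ((((iv F33205)).symm.trans (sb E5822 (iv F47090)))).symm
theorem F195112 : act 1 n4682 = n4682 := (sb E5825 (iv D6770))
theorem E6287 : n17088 = n11758 := (((F74296).symm.trans (sb E5915 F106169))).symm
theorem E6288 : n8111 = n5601 := (((F36749).symm.trans (sb E5916 F52164))).symm
theorem E6296 : n17289 = n11891 := (((D11891).symm.trans (sb E5923 (iv F75086)))).symm
theorem E6297 : n8196 = n5657 := (((F37086).symm.trans (sb E5923 F52658))).symm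
theorem F195146 : act 9 n3915 = n3915 := (sb E5924 (iv D5661))
theorem F195156 : act 9 n3879 = n3879 := (sb E5954 (iv D5606))
theorem E6422 : n8015 = n5539 := ((((iv F25681)).symm.trans (sb E6007 (iv F36322)))).symm
theorem E6423 : n8062 = n2675 := ((((iv D3858)).symm.trans (sb E6007 (iv F36553)))).symm
theorem E6426 : n8024 = n5546 := ((((iv F25717)).symm.trans (sb E6011 (iv F36366)))).symm
theorem E6427 : n8023 = n2664 := ((((iv D3841)).symm.trans (sb E6011 (iv F36365)))).symm
theorem E6428 : n3861 = n2678 := ((((iv F13038)).symm.trans (sb E6012 (iv D5576)))).symm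
theorem E6436 : n3885 = n2694 := ((((iv F13111)).symm.trans (sb E6019 (iv D5612)))).symm
theorem F195160 : act 8 n1876 = n1876 := (sb E6021 (iv D2698))
theorem E6438 : n3889 = n1305 := ((((iv D1876)).symm.trans (sb E6021 (iv F18480)))).symm
theorem E6454 : n16908 = n11642 := ((((iv D16909)).symm.trans (sb E6035 (iv D24588)))).symm
theorem F195162 : act 2 n8034 = n8034 := (sb E6036 F51658)
theorem F195163 : act 2 n3844 = n3844 := (sb E6041 (iv D5551))
theorem E6458 : n8030 = n5550 := ((((iv F25735)).symm.trans (sb E6041 (iv F36393)))).symm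
theorem E6469 : n15447 = n10630 := (((D10630).symm.trans (sb E6053 F96392))).symm
theorem F195170 : act 9 n7376 = n7376 := (sb E6056 (iv D10701))
theorem E6478 : n30103 = n20677 := (((D20677).symm.trans (sb E6063 (iv F127770)))).symm
theorem E6482 : n15453 = n10633 := (((D10633).symm.trans (sb E6066 F96416))).symm
theorem F195180 : act 9 n7333 = n7333 := (sb E6070 (iv D10637))
theorem F195183 : act 9 n7379 = n7379 := (sb E6073 (iv D10707))
theorem F195184 : act 3 n14266 = n14266 := (sb E6076 (iv D20751))
theorem E6533 : n15334 = n5033 := ((((iv D7285)).symm.trans (sb E6122 (iv F66989)))).symm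
theorem E6534 : n7284 = n5032 := ((((iv F23457)).symm.trans (sb E6123 (iv D10559)))).symm
theorem F195198 : act 8 n3495 = n3495 := (sb E6124 (iv D5049))
theorem E6536 : n7307 = n2423 := ((((iv D3495)).symm.trans (sb E6124 (iv F33303)))).symm
theorem E6537 : n3509 = n2433 := (((D2433).symm.trans (sb E6127 (iv D5070)))).symm
theorem E6545 : n15349 = n10567 := ((((iv D15350)).symm.trans (sb E6132 (iv D22328)))).symm
theorem F195202 : act 1 n6753 = n6753 := (sb E6136 (iv D9786))
theorem E6549 : n14178 = n9769 := ((((iv F43762)).symm.trans (sb E6136 (iv F62261)))).symm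
theorem F195204 : act 2 n7289 = n7289 := (sb E6139 (iv D10566))
theorem E6583 : n24860 = n17087 := (((D17087).symm.trans (sb E6287 (iv F106189)))).symm
theorem F195243 : act 9 n5601 = n5601 := (sb E6288 (iv D8111))
theorem E6591 : n11894 = n8195 := (((F52654).symm.trans (sb E6296 F75087))).symm
theorem F195247 : act 9 n5657 = n5657 := (sb E6297 (iv D8196))
theorem E6646 : n11616 = n8014 := ((((iv F36316)).symm.trans (sb E6422 (iv F51512)))).symm
theorem E6647 : n11615 = n3835 := ((((iv D5539)).symm.trans (sb E6422 (iv F51509)))).symm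
theorem E6648 : n5571 = n3857 := ((((iv F18328)).symm.trans (sb E6423 (iv D8062)))).symm
theorem F195263 : act 3 n5546 = n5546 := (sb E6426 (iv D8024))
theorem E6651 : n11626 = n3840 := ((((iv D5546)).symm.trans (sb E6426 (iv F51569)))).symm
theorem E6652 : n5545 = n3839 := ((((iv F18235)).symm.trans (sb E6427 (iv D8023)))).symm
theorem F195264 : act 8 n2678 = n2678 := (sb E6428 (iv D3861))
theorem E6654 : n5575 = n1862 := ((((iv D2678)).symm.trans (sb E6428 (iv F25867)))).symm
theorem E6659 : n5610 = n3883 := ((((iv F18444)).symm.trans (sb E6436 (iv F26010)))).symm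
theorem E6660 : n5611 = n1872 := ((((iv D2694)).symm.trans (sb E6436 (iv F26019)))).symm
theorem E6661 : n2697 = n1875 := (((D1875).symm.trans (sb E6438 (iv D3889)))).symm
theorem F195266 : act 2 n11642 = n11642 := (sb E6454 F73555)
theorem E6665 : n11641 = n8031 := ((((iv D11642)).symm.trans (sb E6454 (iv D16908)))).symm
theorem F195267 : act 2 n5550 = n5550 := (sb E6458 (iv D8030))
theorem F195272 : act 9 n10630 = n10630 := (sb E6469 (iv D15447))
theorem F195278 : act 3 n20677 = n20677 := (sb E6478 (iv D30103))
theorem F195280 : act 9 n10633 = n10633 := (sb E6482 (iv D15453))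
theorem E6706 : n10557 = n7282 := ((((iv F33161)).symm.trans (sb E6533 (iv D15334)))).symm
theorem F195294 : act 8 n5032 = n5032 := (sb E6534 (iv D7284))
theorem E6708 : n10558 = n3482 := ((((iv D5032)).symm.trans (sb E6534 (iv F47047)))).symm
theorem E6709 : n5048 = n3494 := (((D3494).symm.trans (sb E6536 (iv D7307)))).symm
theorem F195295 : act 9 n2433 = n2433 := (sb E6537 (iv D3509))
theorem F195299 : act 2 n10567 = n10567 := (sb E6545 F67071)
theorem F195300 : act 1 n9769 = n9769 := (sb E6549 (iv D14178))
theorem E6772 : n17090 = n11759 := (((F74308).symm.trans (sb E6583 F106190))).symm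
theorem F195318 : act 9 n8195 = n8195 := (sb E6591 (iv D11894))
theorem E6856 : n16864 = n5538 := ((((iv D8014)).symm.trans (sb E6646 (iv F73344)))).symm
theorem E6857 : n8013 = n5537 := ((((iv F25666)).symm.trans (sb E6647 (iv D11615)))).symm
theorem E6859 : n8060 = n5569 := ((((iv F25831)).symm.trans (sb E6648 (iv F36539)))).symm
theorem E6860 : n8061 = n2674 := ((((iv D3857)).symm.trans (sb E6648 (iv F36548)))).symm
theorem E6861 : n8021 = n5543 := ((((iv F25702)).symm.trans (sb E6651 (iv D11626)))).symm
theorem F195325 : act 8 n3839 = n3839 := (sb E6652 (iv D5545))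
theorem E6863 : n8022 = n2662 := ((((iv D3839)).symm.trans (sb E6652 (iv F36362)))).symm
theorem E6864 : n3860 = n2677 := (((D2677).symm.trans (sb E6654 (iv D5575)))).symm
theorem E6871 : n8120 = n2692 := ((((iv D3883)).symm.trans (sb E6659 (iv F36795)))).symm
theorem E6872 : n3884 = n2693 := (((D2693).symm.trans (sb E6660 (iv D5611)))).symm
theorem F195327 : act 9 n1875 = n1875 := (sb E6661 (iv D2697))
theorem F195328 : act 2 n8031 = n8031 := (sb E6665 F51632)
theorem E6906 : n15332 = n10555 := ((((iv F47024)).symm.trans (sb E6706 (iv F66973)))).symm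
theorem F195348 : act 8 n7282 = n7282 := (sb E6706 (iv D10557))
theorem E6907 : n15333 = n5030 := ((((iv D7282)).symm.trans (sb E6706 (iv F66983)))).symm
theorem E6908 : n7283 = n5031 := (((D5031).symm.trans (sb E6708 (iv D10558)))).symm
theorem F195349 : act 9 n3494 = n3494 := (sb E6709 (iv D5048))
theorem E6923 : n24862 = n17089 := (((D17089).symm.trans (sb E6772 (iv F106200)))).symm
theorem E6958 : n11613 = n8011 := ((((iv F36297)).symm.trans (sb E6856 (iv D16864)))).symm
theorem E6960 : n11609 = n8008 := ((((iv F36278)).symm.trans (sb E6857 (iv F51471)))).symm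
theorem E6961 : n11614 = n3833 := ((((iv D5537)).symm.trans (sb E6857 (iv F51504)))).symm
theorem E6962 : n11684 = n3855 := ((((iv D5569)).symm.trans (sb E6859 (iv F51837)))).symm
theorem E6963 : n5570 = n3856 := (((D3856).symm.trans (sb E6860 (iv D8061)))).symm
theorem E6964 : n11624 = n8019 := ((((iv F36345)).symm.trans (sb E6861 (iv F51557)))).symm
theorem F195382 : act 8 n5543 = n5543 := (sb E6861 (iv D8021))
theorem E6965 : n11625 = n3837 := ((((iv D5543)).symm.trans (sb E6861 (iv F51565)))).symm
theorem E6966 : n5544 = n3838 := (((D3838).symm.trans (sb E6863 (iv D8022)))).symm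
theorem F195383 : act 9 n2677 = n2677 := (sb E6864 (iv D3860))
theorem E6972 : n5609 = n3882 := (((D3882).symm.trans (sb E6871 (iv D8120)))).symm
theorem F195384 : act 9 n2693 = n2693 := (sb E6872 (iv D3884))
theorem F195398 : act 8 n10555 = n10555 := (sb E6906 (iv D15332))
theorem E6980 : n22300 = n7280 := ((((iv D10555)).symm.trans (sb E6906 (iv F95685)))).symm
theorem E6981 : n10556 = n7281 := (((D7281).symm.trans (sb E6907 (iv D15333)))).symm
theorem F195399 : act 9 n5031 = n5031 := (sb E6908 (iv D7283))
theorem E7000 : n35917 = n24661 := ((((iv F105385)).symm.trans (sb E6923 (iv F150975)))).symm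
theorem E7049 : n16855 = n11606 := ((((iv F51452)).symm.trans (sb E6958 (iv F73283)))).symm
theorem E7050 : n16862 = n11611 := ((((iv F51484)).symm.trans (sb E6958 (iv F73329)))).symm
theorem F195413 : act 8 n8011 = n8011 := (sb E6958 (iv D11613))
theorem E7051 : n16863 = n5535 := ((((iv D8011)).symm.trans (sb E6958 (iv F73338)))).symm
theorem E7052 : n16858 = n5534 := ((((iv D8008)).symm.trans (sb E6960 (iv F73307)))).symm
theorem E7053 : n8012 = n5536 := (((D5536).symm.trans (sb E6961 (iv D11614)))).symm
theorem E7054 : n8059 = n5568 := (((D5568).symm.trans (sb E6962 (iv D11684)))).symm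
theorem F195415 : act 9 n3856 = n3856 := (sb E6963 (iv D5570))
theorem F195416 : act 8 n8019 = n8019 := (sb E6964 (iv D11624))
theorem E7055 : n16880 = n5541 := ((((iv D8019)).symm.trans (sb E6964 (iv F73436)))).symm
theorem E7056 : n8020 = n5542 := (((D5542).symm.trans (sb E6965 (iv D11625)))).symm
theorem F195417 : act 9 n3838 = n3838 := (sb E6966 (iv D5544))
theorem E7063 : n8119 = n5608 := (((D5608).symm.trans (sb E6972 (iv F36786)))).symm
theorem F195418 : act 9 n3882 = n3882 := (sb E6972 (iv D5609))
theorem E7070 : n15331 = n10554 := (((D10554).symm.trans (sb E6980 (iv D22300)))).symm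
theorem F195422 : act 9 n7281 = n7281 := (sb E6981 (iv D10556))
theorem F195437 : act 9 n24661 = n24661 := (sb E7000 (iv D35917))
theorem E7080 : n24507 = n16852 := ((((iv F73263)).symm.trans (sb E7049 (iv F104660)))).symm
theorem E7081 : n24509 = n8006 := ((((iv D11606)).symm.trans (sb E7049 (iv F104678)))).symm
theorem E7082 : n24517 = n8009 := ((((iv D11611)).symm.trans (sb E7050 (iv F104729)))).symm
theorem E7083 : n11612 = n8010 := (((D8010).symm.trans (sb E7051 (iv D16863)))).symm
theorem E7084 : n11608 = n8007 := (((D8007).symm.trans (sb E7052 (iv D16858)))).symm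
theorem F195442 : act 9 n5536 = n5536 := (sb E7053 (iv D8012))
theorem E7085 : n11683 = n8058 := (((D8058).symm.trans (sb E7054 (iv F51828)))).symm
theorem F195443 : act 9 n5568 = n5568 := (sb E7054 (iv D8059))
theorem E7086 : n11623 = n8018 := (((D8018).symm.trans (sb E7055 (iv D16880)))).symm
theorem F195444 : act 9 n5542 = n5542 := (sb E7056 (iv D8020))
theorem E7091 : n11774 = n8118 := (((D8118).symm.trans (sb E7063 (iv F52201)))).symm
theorem F195445 : act 9 n5608 = n5608 := (sb E7063 (iv D8119))
theorem E7092 : n22299 = n15330 := (((D15330).symm.trans (sb E7070 (iv F95673)))).symm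
theorem F195446 : act 9 n10554 = n10554 := (sb E7070 (iv D15331))
theorem E7108 : n35681 = n11604 := ((((iv D16852)).symm.trans (sb E7080 (iv F149898)))).symm
theorem E7109 : n16854 = n11605 := (((D11605).symm.trans (sb E7081 (iv D24509)))).symm
theorem E7110 : n16861 = n11610 := (((D11610).symm.trans (sb E7082 (iv D24517)))).symm
theorem F195448 : act 9 n8010 = n8010 := (sb E7083 (iv D11612))
theorem E7111 : n16857 = n11607 := (((D11607).symm.trans (sb E7084 (iv F73298)))).symm
theorem F195449 : act 9 n8007 = n8007 := (sb E7084 (iv D11608))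
theorem E7112 : n16970 = n11682 := (((D11682).symm.trans (sb E7085 (iv F73835)))).symm
theorem F195450 : act 9 n8058 = n8058 := (sb E7085 (iv D11683))
theorem E7113 : n16879 = n11622 := (((D11622).symm.trans (sb E7086 (iv F73426)))).symm
theorem F195451 : act 9 n8018 = n8018 := (sb E7086 (iv D11623))
theorem E7119 : n17107 = n11773 := (((D11773).symm.trans (sb E7091 (iv F74392)))).symm
theorem F195452 : act 9 n8118 = n8118 := (sb E7091 (iv D11774))
theorem E7120 : n32474 = n22298 := (((D22298).symm.trans (sb E7092 (iv F137049)))).symm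
theorem F195453 : act 9 n15330 = n15330 := (sb E7092 (iv D22299))
theorem E7125 : n24506 = n16851 := (((D16851).symm.trans (sb E7108 (iv D35681)))).symm
theorem E7126 : n24508 = n16853 := (((D16853).symm.trans (sb E7109 (iv F104667)))).symm
theorem F195454 : act 9 n11605 = n11605 := (sb E7109 (iv D16854))
theorem E7127 : n24516 = n16860 := (((D16860).symm.trans (sb E7110 (iv F104718)))).symm
theorem F195455 : act 9 n11610 = n11610 := (sb E7110 (iv D16861))
theorem E7128 : n24511 = n16856 := (((D16856).symm.trans (sb E7111 (iv F104689)))).symm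
theorem F195456 : act 9 n11607 = n11607 := (sb E7111 (iv D16857))
theorem E7129 : n24678 = n16969 := (((D16969).symm.trans (sb E7112 (iv F105459)))).symm
theorem F195457 : act 9 n11682 = n11682 := (sb E7112 (iv D16970))
theorem E7130 : n24542 = n16878 := (((D16878).symm.trans (sb E7113 (iv F104863)))).symm
theorem F195458 : act 9 n11622 = n11622 := (sb E7113 (iv D16879))
theorem E7133 : n24883 = n17106 := (((D17106).symm.trans (sb E7119 (iv F106284)))).symm
theorem F195459 : act 9 n11773 = n11773 := (sb E7119 (iv D17107))
theorem F195460 : act 9 n22298 = n22298 := (sb E7120 (iv D32474))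
theorem F195461 : act 9 n16851 = n16851 := (sb E7125 (iv D24506))
theorem F195462 : act 9 n16853 = n16853 := (sb E7126 (iv D24508))
theorem F195463 : act 9 n16860 = n16860 := (sb E7127 (iv D24516))
theorem F195464 : act 9 n16856 = n16856 := (sb E7128 (iv D24511))
theorem F195465 : act 9 n16969 = n16969 := (sb E7129 (iv D24678))
theorem F195466 : act 9 n16878 = n16878 := (sb E7130 (iv D24542))
theorem F195467 : act 9 n17106 = n17106 := (sb E7133 (iv D24883))
theorem E7143 : n35916 = n8031 := (c45_67 F195466 F73425 F73420 F73422 F73421 F73420 F73419 (iv D16878) (iv D11622) F195451 (iv D8018) F25692 F25693 (iv D5541) F18226 (iv F18206) F18207 (iv F25655) D8011 F195413 F36297 F25674 F18215 F12951 F12949 F9244 F6607 (iv D900) (iv D623) F2348 F2350 F2349 F2348 F2346 F2347 F2348 D624 D901 D1294 F6619 D1859 F9276 F9275 (iv F13006) D3852 (iv F25781) F195050 (iv D5558) D5559 F25783 (iv F36460) (iv F51716) (iv F73666) F73667 F73669 D16954 D24659 F105375 D24661 F105384 F105382 F105383 F105384 F195437 F105387 F105384 D35916 (iv D8031) (iv D5550) F18254 (iv F25715)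 F195263 F25720 (iv D5546) (iv F25702) F25703 F18236 F18235 (iv F18213) F18214 (iv F25666) (iv D5537) D5536 F25660 (iv F36292) (iv F51477) D16860 F73314 D16878 F73420)
theorem E7144 : n24661 = n11642 := (((D11642).symm.trans (sb E7143 (iv D35916)))).symm
theorem E7145 : n35895 = n15350 := ((((iv F67076)).symm.trans (sb E7144 (iv F150874)))).symm
theorem E7146 : n16955 = n8034 := (((F51639).symm.trans (sb E7144 (iv D24661)))).symm
theorem E7147 : n17089 = n16909 := (((D16909).symm.trans (sb E7144 F105385))).symm
theorem E7148 : n24647 = n10570 := (((F67078).symm.trans (sb E7145 (iv D35895)))).symm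
theorem E7149 : n24840 = n22329 := (((D22329).symm.trans (sb E7145 F150877))).symm
theorem E7150 : n11671 = n5555 := (((F36415).symm.trans (sb E7146 (iv D16955)))).symm
theorem E7152 : n11759 = n11647 := (((D11647).symm.trans (sb E7146 F73768))).symm
theorem E7154 : n24589 = n11893 := ((D24589).symm.trans (sb E7147 F74318))
theorem E7155 : n35886 = n14180 := ((((iv F62272)).symm.trans (sb E7148 (iv F150834)))).symm
theorem E7156 : n16946 = n7294 := (((F47112).symm.trans (sb E7148 (iv D24647)))).symm
theorem E7158 : n17075 = n15355 := (((D15355).symm.trans (sb E7148 F105324))).symm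
theorem E7159 : n36172 = n30005 := ((((iv F127305)).symm.trans (sb E7149 (iv F151996)))).symm
theorem E7161 : n32521 = n17269 := ((D32521).symm.trans (sb E7149 F106112))
theorem E7162 : n8051 = n8038 := ((((iv F36434)).symm.trans (sb E7150 F51774))).symm
theorem E7164 : n8107 = n8039 := (((D8039).symm.trans (sb E7150 F51776))).symm
theorem E7168 : n17087 = n8083 := (((F51664).symm.trans (sb E7152 (iv F74308)))).symm

end Cfsg.Agent.Helper17.Fi23TC
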