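import Cfsg.Agent.Helper17.Fi23TC.Facts8

set_option autoImplicit false
set_option linter.all false

noncomputable section

namespace Cfsg.Agent.Helper17.Fi23TC

theorem E7169 : n16916 = n8195 := ((D16916).symm.trans (sb E7152 F52143))
theorem F195468 : act 7 n11893 = n16909 := (sb E7154 (iv D24589))
theorem E7173 : n24643 = n9773 := (((F62273).symm.trans (sb E7155 (iv D35886)))).symm
theorem E7174 : n24831 = n20619 := (((D20619).symm.trans (sb E7155 F150835))).symm
theorem E7175 : n11668 = n10574 := ((((iv F47132)).symm.trans (sb E7156 F73728))).symm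
theorem E7177 : n11750 = n10575 := (((D10575).symm.trans (sb E7156 F73730))).symm
theorem E7179 : n24838 = n10609 := (((F67104).symm.trans (sb E7158 (iv F106102)))).symm
theorem E7180 : n22336 = n11879 := ((D22336).symm.trans (sb E7158 F74263))
theorem E7181 : n43734 = n25118 := ((D43734).symm.trans (sb E7159 F151998))
theorem F195469 : act 7 n17269 = n22329 := (sb E7161 (iv D32521))
theorem E7183 : n11650 = n5565 := (((iv F51677)).symm.trans (sb E7162 F36494))
theorem E7185 : n11653 = n5601 := ((D11653).symm.trans (sb E7162 F36497))
theorem E7186 : n5562 = n5559 := (((F36437).symm.trans (sb E7162 (iv D8051)))).symm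
theorem E7190 : n11758 = n5589 := (((F36441).symm.trans (sb E7164 (iv F52139)))).symm
theorem E7191 : n11654 = n5657 := ((D11654).symm.trans (sb E7164 F36740))
theorem E7196 : n11891 = n11720 := (((D11720).symm.trans (sb E7168 F74309))).symm
theorem F195470 : act 7 n8195 = n11647 := (sb E7169 (iv D16916))
theorem E7199 : n32575 = n14184 := ((((iv F62297)).symm.trans (sb E7173 (iv F137561)))).symm
theorem E7201 : n17071 = n14185 := (((D14185).symm.trans (sb E7173 F105308))).symm
theorem E7204 : n36169 = n14208 := (((F88954).symm.trans (sb E7174 (iv F151984)))).symm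
theorem E7205 : n30012 = n17260 := ((D30012).symm.trans (sb E7174 F106074))
theorem E7206 : n15376 = n15358 := ((((iv F67117)).symm.trans (sb E7175 (iv F67206)))).symm
theorem E7207 : n16949 = n7293 := ((((iv D10574)).symm.trans (sb E7175 (iv F73741)))).symm
theorem E7208 : n15361 = n8104 := ((D15361).symm.trans (sb E7175 F51762))
theorem E7213 : n17074 = n7321 := (((F47139).symm.trans (sb E7177 (iv F74259)))).symm
theorem E7214 : n15362 = n8186 := ((D15362).symm.trans (sb E7177 F52110))
theorem E7219 : n17267 = n15413 := (((D15413).symm.trans (sb E7179 F106103))).symm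
theorem F195472 : act 7 n11879 = n15355 := (sb E7180 (iv D22336))
theorem F195473 : act 7 n25118 = n30005 := (sb E7181 (iv D43734))
theorem E7223 : n16918 = n7304 := ((((iv F33280)).symm.trans (sb E7183 (iv F73603)))).symm
theorem E7224 : n8055 = n8036 := (((iv F36513)).symm.trans (sb E7183 (iv D11650)))
theorem E7225 : n16922 = n3879 := (((F25811).symm.trans (sb E7183 D16922))).symm
theorem E7226 : n8042 = n3852 := ((((iv D5565)).symm.trans (sb E7183 F51681))).symm
theorem F195476 : act 2 n5601 = n8039 := (sb E7185 F51689)
theorem E7230 : n8110 = n8089 := (((iv F36749)).symm.trans (sb E7185 F51691))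
theorem F195477 : act 6 n5601 = n8038 := (sb E7185 (iv D11653))
theorem E7232 : n8045 = n3876 := ((((iv D5601)).symm.trans (sb E7185 F51692))).symm
theorem E7233 : n8043 = n3851 := (((iv F36460)).symm.trans (sb E7186 (iv D5562)))
theorem E7243 : n8194 = n8090 := (((D8090).symm.trans (sb E7190 F52140))).symm
theorem F195478 : act 7 n5657 = n8039 := (sb E7191 (iv D11654))
theorem E7245 : n8046 = n3913 := ((((iv D5657)).symm.trans (sb E7191 F51698))).symm
theorem F195479 : act 5 n11720 = n8195 := (sb E7196 F52654)
theorem E7255 : n22366 = n20622 := ((((iv F88969)).symm.trans (sb E7199 F137560))).symm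
theorem E7256 : n22468 = n20625 := (((D20625).symm.trans (sb E7199 F137563))).symm
theorem E7259 : n24830 = n9793 := (((F62305).symm.trans (sb E7201 (iv F106070)))).symm
theorem E7260 : n20626 = n11875 := ((D20626).symm.trans (sb E7201 F74249))
theorem E7264 : n25115 = n20660 := (((D20660).symm.trans (sb E7204 F151985))).symm
theorem F195480 : act 7 n17260 = n20619 := (sb E7205 (iv D30012))
theorem E7265 : n22338 = n10587 := (((iv F95889)).symm.trans (sb E7206 F67205))
theorem E7267 : n22342 = n10630 := ((D22342).symm.trans (sb E7206 F67209))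
theorem E7268 : n10583 = n10578 := (((F67120).symm.trans (sb E7206 (iv D15376)))).symm
theorem E7270 : n24652 = n5056 := (((F33228).symm.trans (sb E7207 (iv F105346)))).symm
theorem F195481 : act 2 n8104 = n10575 := (sb E7208 F67131)
theorem E7272 : n11753 = n10615 := (((iv F52119)).symm.trans (sb E7208 F67133))
theorem E7274 : n10581 = n5597 := ((((iv D8104)).symm.trans (sb E7208 F67134))).symm
theorem E7282 : n11878 = n10616 := (((D10616).symm.trans (sb E7213 F74260))).symm
theorem F195483 : act 7 n8186 = n10575 := (sb E7214 (iv D15362))
theorem E7284 : n10582 = n5652 := ((((iv D8186)).symm.trans (sb E7214 F67140))).symm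
theorem F195484 : act 5 n15413 = n11879 := (sb E7219 F75004)
theorem E7288 : n11648 = n10591 := ((((iv F47215)).symm.trans (sb E7223 (iv D16918)))).symm
theorem E7291 : n11678 = n5553 := ((((iv D8036)).symm.trans (sb E7224 (iv F51804)))).symm
theorem E7292 : n11680 = n5586 := (((F36427).symm.trans (sb E7224 (iv F51814)))).symm
theorem E7293 : n5564 = n5557 := (((F36429).symm.trans (sb E7224 (iv D8055)))).symm
theorem E7294 : n11726 = n5605 := ((((iv F25986)).symm.trans (sb E7225 F73624))).symm
theorem F195487 : act 1 n3852 = n5559 := (sb E7226 F36454)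
theorem E7298 : n5563 = n5558 := ((((iv F25781)).symm.trans (sb E7226 F36458))).symm
theorem E7305 : n11762 = n5681 := (((F36666).symm.trans (sb E7230 (iv F52153)))).symm
theorem E7306 : n11731 = n5660 := ((D11731).symm.trans (sb E7230 F36750))
theorem E7307 : n5600 = n5595 := (((F36667).symm.trans (sb E7230 (iv D8110)))).symm
theorem F195489 : act 2 n3876 = n5560 := (sb E7232 F36467)
theorem F195490 : act 6 n3876 = n5559 := (sb E7232 (iv D8045))
theorem F195491 : act 3 n3851 = n5559 := (sb E7233 F36460)
theorem F195492 : act 5 n8090 = n5657 := (sb E7243 F37086)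
theorem E7324 : n5656 = n5596 := (((F36672).symm.trans (sb E7243 (iv D8194)))).symm
theorem F195493 : act 7 n3913 = n5560 := (sb E7245 (iv D8046))
theorem E7330 : n30014 = n15379 := (((iv F127357)).symm.trans (sb E7255 F96019))
theorem E7331 : n32579 = n30016 := ((((iv F127370)).symm.trans (sb E7255 D32579))).symm
theorem E7333 : n30018 = n15443 := ((D30018).symm.trans (sb E7255 F96022))
theorem E7334 : n15374 = n14188 := (((F88973).symm.trans (sb E7255 (iv D22366)))).symm
theorem E7336 : n32728 = n14214 := (((F88987).symm.trans (sb E7256 (iv F138222)))).symm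
theorem E7337 : n30023 = n15545 := ((D30023).symm.trans (sb E7256 F96476))
theorem E7345 : n36166 = n6800 := (((F43896).symm.trans (sb E7259 (iv F151972)))).symm
theorem E7347 : n17259 = n14215 := (((D14215).symm.trans (sb E7259 F106071))).symm
theorem F195494 : act 7 n11875 = n14185 := (sb E7260 (iv D20626))
theorem E7349 : n14192 = n8184 := ((((iv D11875)).symm.trans (sb E7260 F88995))).symm
theorem F195496 : act 5 n20660 = n17260 := (sb E7264 F107163)
theorem E7354 : n15382 = n15356 := (((iv F67233)).symm.trans (sb E7265 (iv D22338)))
theorem E7355 : n32536 = n7333 := (((F47197).symm.trans (sb E7265 D32536))).symm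
theorem E7356 : n15364 = n7301 := ((((iv D10587)).symm.trans (sb E7265 F95893))).symm
theorem E7360 : n15446 = n15419 := (((iv F67522)).symm.trans (sb E7267 F95908))
theorem F195498 : act 6 n10630 = n15358 := (sb E7267 (iv D22342))
theorem E7362 : n15368 = n7329 := ((((iv D10630)).symm.trans (sb E7267 F95909))).symm
theorem E7363 : n15366 = n7300 := (((iv F67159)).symm.trans (sb E7268 (iv D10583)))
theorem E7368 : n17080 = n7320 := (((D7320).symm.trans (sb E7270 F105345))).symm
theorem E7373 : n17078 = n7400 := (((F47333).symm.trans (sb E7272 (iv F74273)))).symm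
theorem E7374 : n15424 = n8189 := ((D15424).symm.trans (sb E7272 F52120))
theorem E7375 : n8103 = n7327 := (((F47334).symm.trans (sb E7272 (iv D11753)))).symm
theorem F195500 : act 2 n5597 = n7299 := (sb E7274 F47167)
theorem F195501 : act 6 n5597 = n7298 := (sb E7274 (iv D10581))
theorem F195503 : act 5 n10616 = n8186 := (sb E7282 F52608)
theorem E7393 : n8185 = n7328 := (((F47339).symm.trans (sb E7282 (iv D11878)))).symm
theorem F195504 : act 7 n5652 = n7299 := (sb E7284 (iv D10582))
theorem E7399 : n15386 = n8035 := (((iv F67251)).symm.trans (sb E7288 (iv D11648)))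
theorem E7400 : n15388 = n8084 := (((iv F67263)).symm.trans (sb E7288 F51669))
theorem E7405 : n16964 = n3867 := (((F25752).symm.trans (sb E7291 (iv F73805)))).symm
theorem E7407 : n8116 = n8086 := (((D8086).symm.trans (sb E7292 F51813))).symm
theorem F195506 : act 3 n5557 = n3853 := (sb E7293 F25806)
theorem F195507 : act 5 n5557 = n3852 := (sb E7293 (iv D5564))
theorem E7410 : n8226 = n8114 := ((((iv F36764)).symm.trans (sb E7294 F52017))).symm
theorem E7411 : n17039 = n3919 := (((F25987).symm.trans (sb E7294 D17039))).symm
theorem E7412 : n8096 = n3878 := ((((iv D5605)).symm.trans (sb E7294 F52018))).symm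
theorem F195509 : act 1 n5558 = n3853 := (sb E7298 F25800)
theorem F195510 : act 5 n5558 = n3851 := (sb E7298 (iv D5563))
theorem E7426 : n17094 = n8228 := ((((iv F37228)).symm.trans (sb E7305 D17094))).symm
theorem E7427 : n8231 = n8198 := ((D8231).symm.trans (sb E7305 F52155))
theorem E7428 : n8108 = n3937 := (((F26306).symm.trans (sb E7305 (iv D11762)))).symm
theorem F195511 : act 2 n5660 = n8090 := (sb E7306 F52031)
theorem E7429 : n8200 = n8167 := (((iv F37107)).symm.trans (sb E7306 F52033))
theorem E7430 : n8101 = n3914 := ((((iv D5660)).symm.trans (sb E7306 F52034))).symm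
theorem E7431 : n8098 = n3877 := (((iv F36705)).symm.trans (sb E7307 F25968))
theorem F195513 : act 5 n5595 = n3876 := (sb E7307 (iv D5600))
theorem F195515 : act 5 n5596 = n3913 := (sb E7324 (iv D5656))
theorem E7464 : n43747 = n22375 := (((D22375).symm.trans (sb E7330 (iv F182754)))).symm
theorem E7465 : n22374 = n20620 := (((iv F96059)).symm.trans (sb E7330 (iv D30014)))
theorem E7466 : n43749 = n10633 := (((F67222).symm.trans (sb E7330 D43749))).symm
theorem E7467 : n20628 = n10585 := ((((iv D15379)).symm.trans (sb E7330 F127362))).symm
theorem E7468 : n43753 = n22472 := ((D43753).symm.trans (sb E7331 F137578))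
theorem E7471 : n22471 = n20666 := (((iv F96485)).symm.trans (sb E7333 F127381))
theorem F195519 : act 6 n15443 = n20622 := (sb E7333 (iv D30018))
theorem E7473 : n20632 = n10628 := ((((iv D15443)).symm.trans (sb E7333 F127382))).symm
theorem E7474 : n20638 = n20630 := ((((iv F89014)).symm.trans (sb E7334 (iv F89051)))).symm
theorem E7478 : n22621 = n20671 := (((D20671).symm.trans (sb E7336 F138223))).symm
theorem F195520 : act 7 n15545 = n20625 := (sb E7337 (iv D30023))
theorem E7480 : n20637 = n10695 := ((((iv D15545)).symm.trans (sb E7337 F127408))).symm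
theorem E7488 : n25112 = n9857 := (((D9857).symm.trans (sb E7345 F151974))).symm
theorem F195521 : act 5 n14215 = n11875 := (sb E7347 F74974)
theorem E7491 : n11874 = n9800 := (((F62456).symm.trans (sb E7347 (iv D17259)))).symm
theorem F195522 : act 7 n8184 = n9778 := (sb E7349 (iv D14192))
theorem E7494 : n22378 = n10571 := ((((iv D15356)).symm.trans (sb E7354 (iv F96074)))).symm
theorem E7495 : n22380 = n10610 := (((F67109).symm.trans (sb E7354 (iv F96084)))).symm
theorem E7496 : n10586 = n10576 := (((F67111).symm.trans (sb E7354 (iv D15382)))).symm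
theorem E7497 : n22429 = n10636 := ((((iv F47420)).symm.trans (sb E7355 F137382))).symm
theorem F195526 : act 0 n7301 = n10578 := (sb E7356 F67148)
theorem E7500 : n10584 = n10577 := ((((iv F47151)).symm.trans (sb E7356 F67152))).symm
theorem E7504 : n22475 = n10732 := (((F67409).symm.trans (sb E7360 (iv F96500)))).symm
theorem E7505 : n22436 = n10700 := ((D22436).symm.trans (sb E7360 F67523))
theorem E7506 : n10629 = n10622 := (((F67410).symm.trans (sb E7360 (iv D15446)))).symm
theorem F195528 : act 6 n7329 = n10578 := (sb E7362 (iv D15368))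
theorem F195529 : act 3 n7300 = n10578 := (sb E7363 F67159)
theorem E7514 : n24844 = n5109 := (((F33365).symm.trans (sb E7368 (iv F106126)))).symm
theorem E7515 : n24847 = n5083 := (((F33366).symm.trans (sb E7368 (iv F106140)))).symm
theorem E7520 : n24845 = n10734 := ((((iv F47842)).symm.trans (sb E7373 D24845))).symm
theorem E7521 : n11882 = n10737 := (((D10737).symm.trans (sb E7373 F74275))).symm
theorem E7522 : n11751 = n5116 := (((F33721).symm.trans (sb E7373 (iv D17078)))).symm
theorem F195531 : act 2 n8189 = n10616 := (sb E7374 F67428)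
theorem E7523 : n11884 = n10678 := (((iv F52629)).symm.trans (sb E7374 F67430))
theorem E7524 : n10627 = n5653 := ((((iv D8189)).symm.trans (sb E7374 F67431))).symm
theorem F195533 : act 5 n7327 = n5597 := (sb E7375 (iv D8103))
theorem F195537 : act 5 n7328 = n5652 := (sb E7393 (iv D8185))
theorem E7544 : n22384 = n5585 := (((F36421).symm.trans (sb E7399 (iv F96102)))).symm
theorem E7545 : n11722 = n10642 := ((D11722).symm.trans (sb E7400 F67262))
theorem E7553 : n24671 = n2722 := (((F18375).symm.trans (sb E7405 (iv F105428)))).symm
theorem E7556 : n11768 = n5678 := (((F36656).symm.trans (sb E7407 (iv F52174)))).symm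
theorem E7557 : n11771 = n5636 := (((F36657).symm.trans (sb E7407 (iv F52187)))).symm
theorem E7558 : n5604 = n5592 := (((F36658).symm.trans (sb E7407 (iv D8116)))).symm
theorem E7560 : n11935 = n11769 := (((D11769).symm.trans (sb E7410 (iv F52842)))).symm
theorem E7561 : n11938 = n5664 := (((F36766).symm.trans (sb E7410 D11938))).symm
theorem E7562 : n5688 = n5603 := ((((iv D8114)).symm.trans (sb E7410 F37222))).symm
theorem E7563 : n11843 = n5666 := ((((iv F26236)).symm.trans (sb E7411 F74126))).symm
theorem F195544 : act 1 n3878 = n5595 := (sb E7412 F36695)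
theorem E7566 : n5602 = n5593 := ((((iv F25943)).symm.trans (sb E7412 F36698))).symm
theorem E7579 : n11941 = n11898 := ((D11941).symm.trans (sb E7426 F74337))
theorem E7580 : n11993 = n11942 := (((D11942).symm.trans (sb E7426 F74338))).symm
theorem F195546 : act 2 n8198 = n5682 := (sb E7427 F37240)
theorem E7581 : n11897 = n5732 := (((iv F52677)).symm.trans (sb E7427 F37242))
theorem E7582 : n5693 = n5658 := ((((iv D8198)).symm.trans (sb E7427 F37243))).symm
theorem E7583 : n5700 = n5690 := ((((iv F26346)).symm.trans (sb E7428 F36742))).symm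
theorem F195548 : act 6 n8167 = n5660 := (sb E7429 F37107)
theorem E7585 : n5659 = n5651 := (((F36986).symm.trans (sb E7429 (iv D8200)))).symm
theorem F195549 : act 2 n3914 = n5596 := (sb E7430 F36714)
theorem F195550 : act 7 n3914 = n5595 := (sb E7430 (iv D8101))
theorem F195551 : act 3 n3877 = n5595 := (sb E7431 F36705)
theorem E7609 : n32591 = n30013 := (((iv F137631)).symm.trans (sb E7464 (iv D43747)))
theorem E7611 : n32590 = n14209 := (((F88960).symm.trans (sb E7465 (iv F137628)))).symm
theorem E7612 : n15378 = n14186 := (((F88962).symm.trans (sb E7465 (iv D22374)))).symm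
theorem E7613 : n30079 = n15451 := ((((iv F67542)).symm.trans (sb E7466 F182767))).symm
theorem E7614 : n30027 = n7331 := ((((iv D10633)).symm.trans (sb E7466 F182768))).symm
theorem F195556 : act 0 n10585 = n14188 := (sb E7467 F89002)
theorem E7615 : n30025 = n14195 := ((((iv F62355)).symm.trans (sb E7467 (iv F127417)))).symm
theorem E7616 : n15365 = n14194 := (((iv F67157)).symm.trans (sb E7467 F89007))
theorem E7617 : n32736 = n30083 := (((iv F138252)).symm.trans (sb E7468 F182785))
theorem F195558 : act 6 n22472 = n30016 := (sb E7468 (iv D43753))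
theorem E7623 : n32733 = n14307 := (((F89184).symm.trans (sb E7471 (iv F138241)))).symm
theorem E7625 : n30086 = n15548 := ((D30086).symm.trans (sb E7471 F96486))
theorem E7626 : n15442 = n14221 := (((F89185).symm.trans (sb E7471 (iv D22471)))).symm
theorem F195563 : act 1 n10628 = n14191 := (sb E7473 F89020)
theorem E7628 : n30031 = n14227 := ((((iv F62505)).symm.trans (sb E7473 (iv F127444)))).symm
theorem F195564 : act 6 n10628 = n14188 := (sb E7473 (iv D20632))
theorem E7629 : n15425 = n14198 := (((iv F67436)).symm.trans (sb E7473 F89024))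
theorem E7630 : n30028 = n14193 := (((iv F127431)).symm.trans (sb E7474 (iv D20638)))
theorem E7631 : n30030 = n28638 := ((D30030).symm.trans (sb E7474 (iv F121591)))
theorem F195568 : act 5 n20671 = n15545 := (sb E7478 F97097)
theorem E7642 : n30037 = n14277 := ((((iv F62716)).symm.trans (sb E7480 (iv F127471)))).symm
theorem E7643 : n15519 = n14203 := (((iv F67832)).symm.trans (sb E7480 F89049))
theorem E7651 : n17257 = n6807 := (((F44176).symm.trans (sb E7488 (iv D25112)))).symm
theorem F195570 : act 5 n9800 = n8184 := (sb E7491 (iv D11874))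
theorem E7658 : n32597 = n7317 := (((F47118).symm.trans (sb E7494 (iv F137657)))).symm
theorem E7660 : n15457 = n15415 := (((D15415).symm.trans (sb E7495 F96083))).symm
theorem F195573 : act 3 n10576 = n7302 := (sb E7496 F47192)
theorem F195574 : act 5 n10576 = n7301 := (sb E7496 (iv D10586))
theorem E7663 : n15594 = n15455 := ((((iv F67555)).symm.trans (sb E7497 F96314))).symm
theorem E7664 : n32672 = n7382 := (((F47421).symm.trans (sb E7497 D32672))).symm
theorem E7665 : n15428 = n7332 := ((((iv D10636)).symm.trans (sb E7497 F96315))).symm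
theorem F195576 : act 0 n10577 = n7302 := (sb E7500 F47182)
theorem F195577 : act 5 n10577 = n7300 := (sb E7500 (iv D10584))
theorem E7675 : n32743 = n15598 := ((((iv F68158)).symm.trans (sb E7504 D32743))).symm
theorem E7676 : n15601 = n15552 := ((D15601).symm.trans (sb E7504 F96502))
theorem E7677 : n15444 = n7407 := (((F47834).symm.trans (sb E7504 (iv D22475)))).symm
theorem E7678 : n15554 = n15513 := (((iv F67970)).symm.trans (sb E7505 F96339))
theorem E7679 : n15435 = n7375 := ((((iv D10700)).symm.trans (sb E7505 F96340))).symm
theorem E7680 : n15432 = n7330 := (((iv F67464)).symm.trans (sb E7506 F47394))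
theorem F195579 : act 5 n10622 = n7329 := (sb E7506 (iv D10629))
theorem E7690 : n36192 = n7398 := ((((iv F33710)).symm.trans (sb E7514 D36192))).symm
theorem E7692 : n36191 = n3554 := (((F23829).symm.trans (sb E7514 (iv F152075)))).symm
theorem E7693 : n17077 = n3539 := (((F23830).symm.trans (sb E7514 (iv D24844)))).symm
theorem E7694 : n17276 = n7361 := (((D7361).symm.trans (sb E7515 F106139))).symm
theorem E7701 : n17274 = n15604 := (((D15604).symm.trans (sb E7520 F106131))).symm
theorem E7702 : n17417 = n15605 := (((D15605).symm.trans (sb E7520 F106132))).symm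
theorem E7703 : n17273 = n7446 := (((F47859).symm.trans (sb E7521 (iv F75027)))).symm
theorem E7704 : n8187 = n7412 := (((F47860).symm.trans (sb E7521 (iv D11882)))).symm
theorem E7705 : n8251 = n7409 := ((((iv F33762)).symm.trans (sb E7522 F52112))).symm
theorem E7707 : n8188 = n7373 := (((F47609).symm.trans (sb E7523 (iv D11884)))).symm
theorem F195584 : act 2 n5653 = n7328 := (sb E7524 F47385)
theorem F195585 : act 7 n5653 = n7327 := (sb E7524 (iv D10627))
theorem E7736 : n32603 = n3927 := (((F25907).symm.trans (sb E7544 (iv F137684)))).symm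
theorem E7738 : n15461 = n8222 := (((iv F67579)).symm.trans (sb E7545 F52001))
theorem E7749 : n17099 = n3928 := (((D3928).symm.trans (sb E7553 F105427))).symm
theorem E7753 : n17101 = n8224 := ((((iv F37212)).symm.trans (sb E7556 D17101))).symm
theorem E7754 : n17100 = n3960 := (((F26293).symm.trans (sb E7556 (iv F74359)))).symm
theorem E7755 : n8113 = n3934 := (((F26294).symm.trans (sb E7556 (iv D11768)))).symm
theorem E7756 : n8207 = n8162 := (((D8162).symm.trans (sb E7557 F52186))).symm
theorem F195595 : act 3 n5592 = n3880 := (sb E7558 F25983)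
theorem F195596 : act 6 n5592 = n3878 := (sb E7558 (iv D5604))
theorem E7758 : n17348 = n17103 := (((D17103).symm.trans (sb E7560 (iv F75341)))).symm
theorem E7759 : n17354 = n8205 := (((F52178).symm.trans (sb E7560 D17354))).symm
theorem E7760 : n17355 = n8269 := (((F52179).symm.trans (sb E7560 D17355))).symm
theorem E7761 : n8301 = n8204 := ((((iv F37120)).symm.trans (sb E7561 F52857))).symm
theorem E7762 : n8242 = n3917 := ((((iv D5664)).symm.trans (sb E7561 F52858))).symm
theorem E7763 : n8239 = n3945 := (((F25979).symm.trans (sb E7562 (iv F37278)))).symm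
theorem E7764 : n8097 = n3944 := (((iv F36703)).symm.trans (sb E7562 F26340))
theorem E7765 : n8178 = n3918 := ((((iv D5666)).symm.trans (sb E7563 F52483))).symm
theorem F195600 : act 1 n5593 = n3880 := (sb E7566 F25974)
theorem F195601 : act 6 n5593 = n3877 := (sb E7566 (iv D5602))
theorem E7785 : n17296 = n8304 := (((iv F75114)).symm.trans (sb E7579 F52869))
theorem E7786 : n17362 = n8356 := (((F52681).symm.trans (sb E7579 D17362))).symm
theorem E7787 : n8262 = n8246 := (((F52872).symm.trans (sb E7580 (iv D11993)))).symm
theorem E7789 : n17294 = n4014 := (((F26513).symm.trans (sb E7581 (iv F75107)))).symm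
theorem E7790 : n8197 = n3975 := (((F26514).symm.trans (sb E7581 (iv D11897)))).symm
theorem F195604 : act 2 n5658 = n3938 := (sb E7582 F26357)
theorem E7791 : n8245 = n3982 := (((F26207).symm.trans (sb E7582 (iv F37302)))).symm
theorem F195605 : act 7 n5658 = n3937 := (sb E7582 (iv D5693))
theorem E7792 : n8174 = n3949 := (((iv F37015)).symm.trans (sb E7582 F26360))
theorem E7793 : n8256 = n4063 := (((F26345).symm.trans (sb E7583 (iv F37348)))).symm
theorem E7794 : n8243 = n3942 := (((iv F37295)).symm.trans (sb E7583 (iv D5700)))
theorem E7796 : n8181 = n3916 := (((iv F37039)).symm.trans (sb E7585 F26210))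
theorem F195606 : act 6 n5651 = n3914 := (sb E7585 (iv D5659))
theorem E7830 : n43804 = n43748 := (((D43748).symm.trans (sb E7609 (iv F183018)))).symm
theorem E7832 : n22483 = n20662 := (((D20662).symm.trans (sb E7611 F137627))).symm
theorem E7834 : n20642 = n20627 := (((D20627).symm.trans (sb E7612 (iv F89071)))).symm
theorem F195610 : act 5 n14186 = n10585 := (sb E7612 (iv D15378))
theorem E7836 : n22481 = n20804 := (((iv F96525)).symm.trans (sb E7613 F127667))
theorem E7837 : n43846 = n10705 := (((F67543).symm.trans (sb E7613 D43846))).symm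
theorem E7838 : n20675 = n10632 := ((((iv D15451)).symm.trans (sb E7613 F127668))).symm
theorem E7841 : n20641 = n10619 := ((((iv F47354)).symm.trans (sb E7614 F127429))).symm
theorem F195612 : act 0 n14195 = n20630 := (sb E7615 F127415)
theorem E7843 : n43765 = n19697 := ((((iv F85044)).symm.trans (sb E7615 D43765))).symm
theorem E7845 : n20639 = n20629 := ((((iv F89012)).symm.trans (sb E7615 F127419))).symm
theorem F195613 : act 2 n14194 = n10577 := (sb E7616 (iv D15365))
theorem F195614 : act 9 n14194 = n10585 := (sb E7616 F67157)
theorem E7846 : n43854 = n22629 := ((D43854).symm.trans (sb E7617 F138253))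
theorem E7847 : n43910 = n43855 := (((D43855).symm.trans (sb E7617 (iv F183470)))).symm
theorem E7856 : n22626 = n20811 := (((D20811).symm.trans (sb E7623 F138243))).symm
theorem E7857 : n22469 = n9863 := (((F62834).symm.trans (sb E7623 (iv D32733)))).symm
theorem E7858 : n22628 = n20734 := (((iv F97122)).symm.trans (sb E7625 F127697))
theorem E7859 : n20682 = n10696 := ((((iv D15548)).symm.trans (sb E7625 F127698))).symm
theorem E7860 : n20689 = n20679 := ((((iv F89240)).symm.trans (sb E7626 (iv F89281)))).symm
theorem F195618 : act 5 n14221 = n10628 := (sb E7626 (iv D15442))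
theorem E7865 : n43775 = n19717 := ((((iv F85140)).symm.trans (sb E7628 (iv F182891)))).symm
theorem E7866 : n20672 = n20645 := (((iv F89213)).symm.trans (sb E7628 F127446))
theorem F195621 : act 9 n14198 = n10628 := (sb E7629 F67436)
theorem F195622 : act 2 n14193 = n20630 := (sb E7630 F127431)
theorem E7868 : n41705 = n41694 := ((D41705).symm.trans (sb E7631 (iv F174270)))
theorem E7884 : n20740 = n20651 := (((iv F89497)).symm.trans (sb E7642 F127474))
theorem F195628 : act 9 n14203 = n10695 := (sb E7643 F67832)
theorem E7890 : n25110 = n4777 := (((F31176).symm.trans (sb E7651 D25110))).symm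
theorem E7893 : n22377 = n5058 := (((F33354).symm.trans (sb E7658 (iv D32597)))).symm
theorem E7894 : n22490 = n10728 := (((F67395).symm.trans (sb E7660 (iv F96558)))).symm
theorem E7895 : n22493 = n10669 := (((F67396).symm.trans (sb E7660 (iv F96572)))).symm
theorem E7896 : n10635 = n10618 := (((F67397).symm.trans (sb E7660 (iv D15457)))).symm
theorem E7898 : n22694 = n22491 := (((D22491).symm.trans (sb E7663 (iv F97401)))).symm
theorem E7899 : n22697 = n10709 := (((F67557).symm.trans (sb E7663 D22697))).symm
theorem E7900 : n10741 = n10634 := ((((iv D15455)).symm.trans (sb E7663 F68144))).symm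
theorem E7901 : n22565 = n10711 := ((((iv F47735)).symm.trans (sb E7664 F137999))).symm
theorem F195635 : act 0 n7332 = n10622 := (sb E7665 F67446)
theorem E7904 : n10631 = n10620 := ((((iv F47358)).symm.trans (sb E7665 F67449))).symm
theorem E7909 : n22705 = n22636 := ((D22705).symm.trans (sb E7675 F138283))
theorem E7910 : n22768 = n22706 := (((D22706).symm.trans (sb E7675 F138284))).symm
theorem E7911 : n22635 = n10800 := (((iv F97149)).symm.trans (sb E7676 F68172))
theorem E7912 : n10748 = n10698 := ((((iv D15552)).symm.trans (sb E7676 F68173))).symm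
theorem E7913 : n10757 = n10745 := ((((iv F47895)).symm.trans (sb E7677 F67513))).symm
theorem E7915 : n10699 = n10689 := (((F67808).symm.trans (sb E7678 (iv D15554)))).symm
theorem F195640 : act 7 n7375 = n10622 := (sb E7679 (iv D15435))
theorem F195641 : act 3 n7330 = n10622 := (sb E7680 F67464)
theorem E7921 : n25351 = n10735 := (((D10735).symm.trans (sb E7690 F152079))).symm
theorem E7922 : n25137 = n5139 := (((D5139).symm.trans (sb E7692 F152074))).symm
theorem E7924 : n11976 = n5114 := ((((iv F23852)).symm.trans (sb E7693 F74270))).symm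
theorem E7926 : n11883 = n5090 := (((F33551).symm.trans (sb E7694 (iv D17276)))).symm
theorem E7932 : n25138 = n10803 := (((F68187).symm.trans (sb E7701 (iv F107252)))).symm
theorem E7933 : n22713 = n12110 := ((D22713).symm.trans (sb E7701 F75031))
theorem E7934 : n11977 = n10752 := (((F68191).symm.trans (sb E7702 (iv D17417)))).symm
theorem E7936 : n25136 = n5185 := (((F33922).symm.trans (sb E7703 (iv F107245)))).symm
theorem E7937 : n11881 = n5151 := (((F33923).symm.trans (sb E7703 (iv D17273)))).symm
theorem F195645 : act 0 n7412 = n5658 := (sb E7704 F37059)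
theorem E7938 : n10751 = n5752 := (((iv F47921)).symm.trans (sb E7704 F37060))
theorem F195646 : act 4 n7412 = n5653 := (sb E7704 (iv D8187))
theorem E7940 : n11971 = n5234 := (((F33761).symm.trans (sb E7705 (iv F52996)))).symm
theorem E7943 : n10692 = n5655 := (((iv F47664)).symm.trans (sb E7707 F37063))
theorem F195647 : act 6 n7373 = n5653 := (sb E7707 (iv D8188))
theorem E7963 : n22496 = n5676 := (((D5676).symm.trans (sb E7736 F137683))).symm
theorem E7964 : n22498 = n11929 := ((((iv F52817)).symm.trans (sb E7738 D22498))).symm
theorem E7974 : n24874 = n5677 := (((D5677).symm.trans (sb E7749 D24874))).symm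
theorem E7978 : n24878 = n11932 := ((((iv F52830)).symm.trans (sb E7753 D24878))).symm
theorem E7979 : n24876 = n5725 := (((F37213).symm.trans (sb E7753 (iv F106251)))).symm
theorem E7980 : n12000 = n11936 := (((D11936).symm.trans (sb E7753 F74362))).symm
theorem E7981 : n11904 = n5727 := (((D5727).symm.trans (sb E7754 F74358))).symm
theorem E7983 : n5705 = n5686 := ((((iv F26330)).symm.trans (sb E7755 F36761))).symm
theorem E7984 : n5665 = n5646 := (((F36971).symm.trans (sb E7756 (iv D8207)))).symm
theorem E7985 : n24880 = n17103 := ((D24880).symm.trans (sb E7758 (tr F75340 E7758)))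
theorem E7986 : n25247 = n11907 := (((F74369).symm.trans (sb E7758 D25247))).symm
theorem E7988 : n12047 = n11905 := ((((iv F52705)).symm.trans (sb E7759 F75368))).symm
theorem E7990 : n11960 = n5706 := ((((iv D8269)).symm.trans (sb E7760 F75371))).symm
theorem E7992 : n11903 = n5802 := (((iv F52699)).symm.trans (sb E7761 F37524))
theorem E7993 : n5743 = n5663 := ((((iv D8204)).symm.trans (sb E7761 F37525))).symm
theorem E7994 : n11959 = n2760 := (((F18588).symm.trans (sb E7762 (iv F52949)))).symm
theorem E7995 : n5704 = n5647 := ((((iv F26169)).symm.trans (sb E7762 F37293))).symm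
theorem F195662 : act 1 n3945 = n5690 := (sb E7763 F37277)
theorem E7996 : n11953 = n2820 := (((F18710).symm.trans (sb E7763 (iv F52923)))).symm
theorem E7998 : n5701 = n5689 := ((((iv F26344)).symm.trans (sb E7763 F37280))).symm
theorem F195663 : act 4 n3944 = n5593 := (sb E7764 (iv D8097))
theorem F195665 : act 1 n3918 = n5651 := (sb E7765 F37026)
theorem E8000 : n5662 = n5648 := ((((iv F26173)).symm.trans (sb E7765 F37030))).symm
theorem E8021 : n25168 = n5805 := (((F37534).symm.trans (sb E7785 (iv F107366)))).symm
theorem E8022 : n12132 = n12055 := (((D12055).symm.trans (sb E7785 F75115))).symm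
theorem E8023 : n11967 = n5763 := ((((iv D8356)).symm.trans (sb E7786 F75396))).symm
theorem E8025 : n11983 = n5882 := (((F37306).symm.trans (sb E7787 (iv F53043)))).symm
theorem E8026 : n11964 = n5702 := (((iv F52969)).symm.trans (sb E7787 F37372))
theorem E8028 : n11895 = n2790 := (((F18982).symm.trans (sb E7789 (iv D17294)))).symm
theorem E8029 : n5762 = n5746 := ((((iv F26563)).symm.trans (sb E7790 F37096))).symm
theorem F195670 : act 6 n3975 = n5658 := (sb E7790 (iv D8197))
theorem E8031 : n5881 = n5757 := ((((iv F26600)).symm.trans (sb E7791 F37301))).symm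
theorem F195671 : act 7 n3982 = n5690 := (sb E7791 (iv D8245))
theorem F195672 : act 9 n3949 = n5658 := (sb E7792 F37015)
theorem E8034 : n5892 = n5875 := ((((iv F27069)).symm.trans (sb E7793 F37347))).symm
theorem E8035 : n5879 = n5698 := (((iv F27091)).symm.trans (sb E7793 (iv D8256)))
theorem F195673 : act 4 n3942 = n5690 := (sb E7794 F37295)
theorem F195674 : act 3 n3916 = n5651 := (sb E7796 F37039)
theorem E8066 : n30050 = n30026 := (((F182759).symm.trans (sb E7830 (iv D43804)))).symm
theorem E8070 : n32751 = n14303 := (((F89166).symm.trans (sb E7832 (iv F138315)))).symm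
theorem E8071 : n32754 = n14251 := (((F89167).symm.trans (sb E7832 (iv F138328)))).symm
theorem E8072 : n15450 = n14217 := (((F89168).symm.trans (sb E7832 (iv D22483)))).symm
theorem F195678 : act 2 n20627 = n14196 := (sb E7834 F89070)
theorem E8075 : n30048 = n28627 := ((((iv F121527)).symm.trans (sb E7834 D30048))).symm
theorem F195679 : act 5 n20627 = n14195 := (sb E7834 (iv D20642))
theorem E8077 : n30292 = n15558 := ((D30292).symm.trans (sb E7836 F96527))
theorem E8078 : n15449 = n14316 := (((F89742).symm.trans (sb E7836 (iv D22481)))).symm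
theorem E8079 : n30176 = n15560 := ((((iv F67991)).symm.trans (sb E7837 F183213))).symm
theorem E8080 : n30099 = n7378 := ((((iv D10705)).symm.trans (sb E7837 F183214))).symm
theorem F195683 : act 0 n10632 = n14221 := (sb E7838 F89222)
theorem E8081 : n30096 = n14231 := ((((iv F62522)).symm.trans (sb E7838 (iv F127740)))).symm
theorem E8082 : n15429 = n14230 := (((iv F67453)).symm.trans (sb E7838 F89226))
theorem F195685 : act 6 n10619 = n14194 := (sb E7841 (iv D20641))
theorem E8085 : n30043 = n28629 := ((((iv F121543)).symm.trans (sb E7843 F182845))).symm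
theorem F195687 : act 0 n20629 = n14196 := (sb E7845 F89054)
theorem F195688 : act 3 n20629 = n14194 := (sb E7845 F89056)
theorem F195689 : act 5 n20629 = n14193 := (sb E7845 (iv D20639))
theorem E8086 : n30045 = n30029 := (((D30029).symm.trans (sb E7845 D30045))).symm
theorem E8087 : n32974 = n30184 := (((iv F139203)).symm.trans (sb E7846 F183243))
theorem E8088 : n30121 = n30108 := (((F183246).symm.trans (sb E7847 (iv D43910)))).symm
theorem E8094 : n32970 = n14364 := (((F89775).symm.trans (sb E7856 (iv F139189)))).symm
theorem E8095 : n15546 = n14323 := (((F89776).symm.trans (sb E7856 (iv D22626)))).symm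
theorem E8096 : n32731 = n14320 := ((((iv F62896)).symm.trans (sb E7857 D32731))).symm
theorem E8099 : n15547 = n14271 := (((F89472).symm.trans (sb E7858 (iv D22628)))).symm
theorem F195707 : act 1 n10696 = n14226 := (sb E7859 F89248)
theorem E8100 : n30107 = n14278 := ((((iv F62720)).symm.trans (sb E7859 (iv F127783)))).symm
theorem F195708 : act 7 n10696 = n14221 := (sb E7859 (iv D20682))
theorem E8102 : n30101 = n14228 := (((iv F127761)).symm.trans (sb E7860 F89280))
theorem E8103 : n30119 = n30105 := ((((iv F127777)).symm.trans (sb E7860 D30119))).symm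
theorem E8106 : n30053 = n28654 := ((((iv F121662)).symm.trans (sb E7865 F182892))).symm
theorem F195712 : act 9 n20645 = n14227 := (sb E7866 F89213)
theorem F195714 : act 2 n41694 = n28639 := (sb E7868 F174328)
theorem F195725 : act 9 n20651 = n14277 := (sb E7884 F89497)
theorem E8124 : n36583 = n6915 := ((((iv F31619)).symm.trans (sb E7890 D36583))).symm
theorem E8127 : n32595 = n3536 := (((F23599).symm.trans (sb E7893 D32595))).symm
theorem E8129 : n32765 = n15592 := ((((iv F68133)).symm.trans (sb E7894 D32765))).symm
theorem E8131 : n32764 = n7437 := (((F47817).symm.trans (sb E7894 (iv F138364)))).symm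
theorem E8132 : n15454 = n7403 := (((F47818).symm.trans (sb E7894 (iv D22490)))).symm
theorem E8133 : n15570 = n15506 := (((D15506).symm.trans (sb E7895 F96571))).symm
theorem F195731 : act 3 n10618 = n7334 := (sb E7896 F47417)
theorem F195732 : act 6 n10618 = n7332 := (sb E7896 (iv D10635))
theorem E8136 : n33071 = n15568 := (((F96563).symm.trans (sb E7898 D33071))).symm
theorem E8137 : n33072 = n15656 := (((F96564).symm.trans (sb E7898 D33072))).symm
theorem E8138 : n15691 = n15567 := ((((iv F68015)).symm.trans (sb E7899 F97418))).symm
theorem E8139 : n15614 = n7380 := ((((iv D10709)).symm.trans (sb E7899 F97419))).symm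
theorem E8140 : n15611 = n7419 := (((F47413).symm.trans (sb E7900 (iv F68222)))).symm
theorem E8141 : n15431 = n7416 := (((iv F67462)).symm.trans (sb E7900 F47880))
theorem E8142 : n15526 = n7381 := ((((iv D10711)).symm.trans (sb E7901 F96886))).symm
theorem F195736 : act 0 n10620 = n7334 := (sb E7904 F47401)
theorem F195737 : act 6 n10620 = n7330 := (sb E7904 (iv D10631))
theorem E8152 : n32984 = n15699 := (((iv F139242)).symm.trans (sb E7909 F97451))
theorem E8153 : n33088 = n15762 := (((F97154).symm.trans (sb E7909 D33088))).symm
theorem E8155 : n15640 = n15623 := (((F97454).symm.trans (sb E7910 (iv D22768)))).symm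
theorem E8158 : n32982 = n7509 := (((F48128).symm.trans (sb E7911 (iv F139233)))).symm
theorem E8159 : n15551 = n7457 := (((F48129).symm.trans (sb E7911 (iv D22635)))).symm
theorem F195741 : act 1 n10698 = n7412 := (sb E7912 F47906)
theorem E8160 : n15622 = n7466 := (((F47687).symm.trans (sb E7912 (iv F68270)))).symm
theorem F195742 : act 7 n10698 = n7407 := (sb E7912 (iv D10748))
theorem E8161 : n15522 = n7423 := (((iv F67844)).symm.trans (sb E7912 F47909))
theorem E8162 : n15634 = n15616 := ((((iv F68246)).symm.trans (sb E7913 (iv F68325)))).symm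
theorem E8163 : n15620 = n7414 := (((iv F68263)).symm.trans (sb E7913 (iv D10757)))
theorem E8165 : n15534 = n7377 := (((iv F67889)).symm.trans (sb E7915 F47691))
theorem F195743 : act 6 n10689 = n7375 := (sb E7915 (iv D10699))
theorem E8175 : n17416 = n7410 := (((F47847).symm.trans (sb E7921 (iv D25351)))).symm
theorem E8180 : n36626 = n3584 := (((F23964).symm.trans (sb E7922 (iv F153726)))).symm
theorem E8181 : n17272 = n3561 := (((F23965).symm.trans (sb E7922 (iv D25137)))).symm
theorem E8185 : n8252 = n7408 := (((D7408).symm.trans (sb E7924 F53018))).symm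
theorem E8187 : n8191 = n7370 := ((((iv F33588)).symm.trans (sb E7926 F52624))).symm
theorem E8196 : n36627 = n7512 := (((F48141).symm.trans (sb E7932 (iv F153729)))).symm
theorem E8197 : n17615 = n15707 := (((D15707).symm.trans (sb E7932 F107253))).symm
theorem E8198 : n15630 = n8340 := ((((iv D12110)).symm.trans (sb E7933 F97485))).symm
theorem E8200 : n17407 = n7589 := (((F47926).symm.trans (sb E7934 (iv F75585)))).symm
theorem E8201 : n15627 = n8253 := (((iv F68293)).symm.trans (sb E7934 F53020))
theorem E8203 : n17271 = n3596 := (((F24155).symm.trans (sb E7936 (iv D25136)))).symm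
theorem E8204 : n8339 = n7460 := ((((iv F33974)).symm.trans (sb E7937 F52618))).symm
theorem E8206 : n8334 = n7588 := (((iv F37640)).symm.trans (sb E7938 F47920))
theorem F195751 : act 7 n5752 = n7409 := (sb E7938 (iv D10751))
theorem E8209 : n17400 = n7582 := ((((iv F34481)).symm.trans (sb E7940 (iv F75556)))).symm
theorem E8210 : n8249 = n7586 := ((((iv F34503)).symm.trans (sb E7940 (iv D11971)))).symm
theorem F195753 : act 3 n5655 = n7373 := (sb E7943 F47664)
theorem E8246 : n32772 = n8221 := (((D8221).symm.trans (sb E7963 D32772))).symm
theorem E8248 : n32776 = n17340 := ((((iv F75306)).symm.trans (sb E7964 D32776))).symm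
theorem E8263 : n36234 = n8223 := (((D8223).symm.trans (sb E7974 D36234))).symm
theorem E8266 : n17446 = n8225 := (((D8225).symm.trans (sb E7974 F106245))).symm
theorem E8272 : n36237 = n8295 := (((F52832).symm.trans (sb E7978 (iv F152259)))).symm
theorem E8273 : n17450 = n17349 := (((D17349).symm.trans (sb E7978 F106260))).symm
theorem E8274 : n17305 = n8298 := (((D8298).symm.trans (sb E7979 F106250))).symm
theorem E8275 : n17448 = n8299 := (((D8299).symm.trans (sb E7979 F106252))).symm
theorem E8276 : n8268 = n8240 := (((F52846).symm.trans (sb E7980 (iv D12000)))).symm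
theorem E8278 : n17302 = n4009 := (((F26496).symm.trans (sb E7981 (iv F75136)))).symm
theorem E8279 : n8203 = n3970 := (((F26497).symm.trans (sb E7981 (iv D11904)))).symm
theorem F195764 : act 4 n5686 = n3946 := (sb E7983 F26408)
theorem F195765 : act 6 n5686 = n3945 := (sb E7983 (iv D5705))
theorem F195766 : act 3 n5646 = n3921 := (sb E7984 F26231)
theorem F195767 : act 7 n5646 = n3918 := (sb E7984 (iv D5665))
theorem E8282 : n36242 = n22500 := ((((iv F96597)).symm.trans (sb E7985 D36242))).symm
theorem E8283 : n17309 = n11907 := (((F74369).symm.trans (sb E7985 F106267))).symm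
theorem E8284 : n17452 = n12002 := (((F74370).symm.trans (sb E7985 F106268))).symm
theorem E8285 : n17511 = n17307 := ((((iv F75153)).symm.trans (sb E7986 F107711))).symm
theorem E8289 : n17303 = n8410 := (((iv F75138)).symm.trans (sb E7988 F53296))
theorem E8290 : n17522 = n8363 := (((F52706).symm.trans (sb E7988 D17522))).symm
theorem E8293 : n17380 = n4079 := (((F26409).symm.trans (sb E7990 (iv F75479)))).symm
theorem E8296 : n8202 = n4025 := (((F26781).symm.trans (sb E7992 (iv D11903)))).symm
theorem F195773 : act 1 n5663 = n3975 := (sb E7993 F26552)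
theorem E8297 : n8322 = n3987 := (((F26225).symm.trans (sb E7993 (iv F37601)))).symm
theorem E8298 : n8179 = n3986 := (((iv F37034)).symm.trans (sb E7993 F26555))
theorem E8299 : n17379 = n1973 := (((F13385).symm.trans (sb E7994 (iv F75473)))).symm
theorem F195774 : act 1 n5647 = n3949 := (sb E7995 F26402)
theorem F195775 : act 7 n5647 = n3944 := (sb E7995 (iv D5704))
theorem E8302 : n8517 = n4073 := ((((iv F19217)).symm.trans (sb E7996 F52922))).symm
theorem E8304 : n8257 = n4062 := ((((iv F19174)).symm.trans (sb E7996 F52926))).symm
theorem F195776 : act 1 n5689 = n3946 := (sb E7998 F26390)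
theorem F195777 : act 3 n5689 = n3944 := (sb E7998 F26391)
theorem F195778 : act 6 n5689 = n3942 := (sb E7998 (iv D5701))
theorem E8306 : n8264 = n8244 := (((D8244).symm.trans (sb E7998 D8264))).symm
theorem F195779 : act 1 n5648 = n3921 := (sb E8000 F26219)
theorem F195780 : act 7 n5648 = n3916 := (sb E8000 (iv D5662))
theorem E8348 : n17645 = n8418 := (((D8418).symm.trans (sb E8021 F107368))).symm
theorem E8349 : n8355 = n8330 := (((F53320).symm.trans (sb E8022 (iv D12132)))).symm
theorem E8351 : n8531 = n8346 := ((((iv F37679)).symm.trans (sb E8023 F52978))).symm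
theorem E8354 : n8547 = n8524 := ((((iv F38398)).symm.trans (sb E8025 F53042))).symm
theorem F195785 : act 4 n5702 = n8246 := (sb E8026 F52969)
theorem E8360 : n8353 = n4028 := ((((iv F19038)).symm.trans (sb E8028 F52669))).symm
theorem E8362 : n8345 = n4096 := (((F26562).symm.trans (sb E8029 (iv F37676)))).symm
theorem E8363 : n8326 = n3983 := (((iv F37615)).symm.trans (sb E8029 F26618))
theorem F195786 : act 6 n5746 = n3982 := (sb E8029 (iv D5762))
theorem E8365 : n8523 = n4107 := (((F26599).symm.trans (sb E8031 (iv F38393)))).symm
theorem F195787 : act 3 n5757 = n4066 := (sb E8031 F27096)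
theorem F195788 : act 7 n5757 = n4063 := (sb E8031 (iv D5881))
theorem E8372 : n8516 = n4074 := (((F27072).symm.trans (sb E8034 (iv F38368)))).symm
theorem F195790 : act 4 n5698 = n4063 := (sb E8035 F27091)
theorem F195791 : act 2 n30026 = n20646 := (sb E8066 F127530)
theorem F195792 : act 5 n30026 = n20643 := (sb E8066 F127531)
theorem E8428 : n43803 = n20674 := (((F127422).symm.trans (sb E8066 (iv F183013)))).symm
theorem E8429 : n43805 = n43768 := (((D43768).symm.trans (sb E8066 D43805))).symm
theorem E8432 : n22480 = n9859 := (((F62814).symm.trans (sb E8070 (iv D32751)))).symm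
theorem E8433 : n22647 = n20727 := (((D20727).symm.trans (sb E8071 F138327))).symm
theorem E8435 : n20697 = n20673 := ((((iv F89216)).symm.trans (sb E8072 (iv F89313)))).symm
theorem F195794 : act 6 n14217 = n10632 := (sb E8072 (iv D15450))
theorem F195796 : act 2 n28627 = n20644 := (sb E8075 F127523)
theorem E8440 : n22644 = n20885 := (((iv F97185)).symm.trans (sb E8077 F128521))
theorem E8441 : n20824 = n10703 := ((((iv D15558)).symm.trans (sb E8077 F128522))).symm
theorem F195799 : act 2 n14316 = n10634 := (sb E8078 F67535)
theorem E8442 : n22479 = n20821 := ((((iv F89825)).symm.trans (sb E8078 D22479))).symm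
theorem F195800 : act 4 n14316 = n10632 := (sb E8078 (iv D15449))
theorem E8445 : n20747 = n10704 := ((((iv D15560)).symm.trans (sb E8079 F128074))).symm
theorem E8446 : n43873 = n9839 := ((((iv F44098)).symm.trans (sb E8080 (iv F183323)))).symm
theorem E8447 : n20695 = n10683 := ((((iv F47630)).symm.trans (sb E8080 F127755))).symm
theorem F195802 : act 0 n14231 = n20679 := (sb E8081 F127738)
theorem E8449 : n43871 = n20696 := (((D20696).symm.trans (sb E8081 (iv F183315)))).symm
theorem E8451 : n20692 = n20676 := ((((iv F89231)).symm.trans (sb E8081 F127741))).symm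
theorem F195803 : act 2 n14230 = n10620 := (sb E8082 F67451)
theorem F195804 : act 5 n14230 = n10619 := (sb E8082 (iv D15429))
theorem F195805 : act 9 n14230 = n10632 := (sb E8082 F67453)
theorem F195807 : act 0 n28629 = n20644 := (sb E8085 F127497)
theorem E8455 : n41707 = n41692 := (((D41692).symm.trans (sb E8085 (iv F174339)))).symm
theorem E8456 : n43795 = n41693 := (((D41693).symm.trans (sb E8085 D43795))).symm
theorem F195808 : act 0 n30029 = n20646 := (sb E8086 F127505)
theorem E8458 : n44089 = n44006 := (((D44006).symm.trans (sb E8087 (iv F184178)))).symm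
theorem E8459 : n43880 = n20693 := (((iv F183353)).symm.trans (sb E8088 F127838))
theorem E8467 : n22625 = n9906 := (((F63082).symm.trans (sb E8094 (iv D32970)))).symm
theorem F195812 : act 2 n14323 = n10698 := (sb E8095 F67939)
theorem E8468 : n22624 = n20832 := ((((iv F89872)).symm.trans (sb E8095 D22624))).symm
theorem F195813 : act 4 n14323 = n10696 := (sb E8095 (iv D15546))
theorem E8470 : n22756 = n20826 := ((((iv F89848)).symm.trans (sb E8096 F138233))).symm
theorem E8472 : n20768 = n20755 := ((((iv F89552)).symm.trans (sb E8099 (iv F89602)))).symm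
theorem F195814 : act 6 n14271 = n10696 := (sb E8099 (iv D15547))
theorem E8475 : n43886 = n20767 := (((D20767).symm.trans (sb E8100 (iv F183375)))).symm
theorem F195819 : act 2 n14228 = n20679 := (sb E8102 F127761)
theorem E8477 : n43877 = n20691 := (((D20691).symm.trans (sb E8102 (iv F183341)))).symm
theorem E8478 : n43885 = n41756 := ((D43885).symm.trans (sb E8103 (iv F174563)))
theorem F195823 : act 4 n28654 = n20645 := (sb E8106 F127544)
theorem E8483 : n43808 = n41730 := (((D41730).symm.trans (sb E8106 D43808))).symm
theorem E8499 : n25601 = n10024 := ((((iv F44851)).symm.trans (sb E8124 F153556))).symm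
theorem E8500 : n22488 = n5111 := (((D5111).symm.trans (sb E8127 F137649))).symm
theorem E8501 : n22790 = n22695 := (((D22695).symm.trans (sb E8129 F138368))).symm
theorem E8502 : n22657 = n10793 := (((D10793).symm.trans (sb E8131 F138363))).symm
theorem E8504 : n10767 = n10739 := ((((iv F47869)).symm.trans (sb E8132 F67552))).symm
theorem F195829 : act 6 n7403 = n10634 := (sb E8132 (iv D15454))
theorem E8505 : n10710 = n10682 := (((F67785).symm.trans (sb E8133 (iv D15570)))).symm
theorem E8506 : n22840 = n22658 := ((((iv F97234)).symm.trans (sb E8136 F139617))).symm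
theorem E8507 : n22725 = n10768 := ((((iv D15656)).symm.trans (sb E8137 F139621))).symm
theorem E8508 : n22656 = n10890 := (((iv F97227)).symm.trans (sb E8138 F68567))
theorem E8509 : n10813 = n10708 := ((((iv D15567)).symm.trans (sb E8138 F68568))).symm
theorem E8510 : n22724 = n5158 := (((F33627).symm.trans (sb E8139 (iv F97539)))).symm
theorem E8511 : n10761 = n10685 := ((((iv F47638)).symm.trans (sb E8139 F68239))).symm
theorem F195839 : act 0 n7419 = n10745 := (sb E8140 F68220)
theorem E8512 : n22718 = n10762 := ((((iv F47972)).symm.trans (sb E8140 (iv F97512)))).symm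
theorem E8514 : n10758 = n10744 := ((((iv F47893)).symm.trans (sb E8140 F68224))).symm
theorem F195840 : act 4 n7416 = n10620 := (sb E8141 (iv D15431))
theorem F195841 : act 9 n7416 = n10634 := (sb E8141 F67462)
theorem F195842 : act 0 n7381 = n10689 := (sb E8142 F67858)
theorem E8516 : n10702 = n10686 := ((((iv F47642)).symm.trans (sb E8142 F67862))).symm
theorem E8522 : n22950 = n22857 := (((D22857).symm.trans (sb E8152 F139243))).symm
theorem E8523 : n22741 = n10839 := ((((iv D15762)).symm.trans (sb E8153 F139686))).symm
theorem E8524 : n22758 = n22731 := ((((iv F97571)).symm.trans (sb E8155 (iv F97684)))).symm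
theorem E8525 : n22738 = n10759 := (((iv F97599)).symm.trans (sb E8155 F68349))
theorem E8527 : n22633 = n5196 := (((F34173).symm.trans (sb E8158 (iv D32982)))).symm
theorem E8528 : n10838 = n10821 := ((((iv F48211)).symm.trans (sb E8159 F67956))).symm
theorem F195857 : act 6 n7457 = n10698 := (sb E8159 (iv D15551))
theorem E8530 : n22730 = n10833 := ((((iv F48258)).symm.trans (sb E8160 (iv F97566)))).symm
theorem F195858 : act 7 n7466 = n10745 := (sb E8160 (iv D15622))
theorem F195859 : act 9 n7423 = n10698 := (sb E8161 F67844)
theorem E8533 : n22751 = n11005 := (((F68245).symm.trans (sb E8162 (iv F97654)))).symm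
theorem E8534 : n22728 = n10755 := (((iv F97558)).symm.trans (sb E8162 (iv D15634)))
theorem F195860 : act 4 n7414 = n10745 := (sb E8163 F68263)
theorem F195861 : act 3 n7377 = n10689 := (sb E8165 F67889)
theorem E8544 : n25337 = n5235 := (((F33766).symm.trans (sb E8175 (iv F108082)))).symm
theorem E8545 : n11979 = n10750 := ((((iv F47916)).symm.trans (sb E8175 F75625))).symm
theorem E8549 : n25135 = n2489 := (((F17116).symm.trans (sb E8180 (iv D36626)))).symm
theorem E8550 : n12108 = n5148 := ((((iv F23999)).symm.trans (sb E8181 F75023))).symm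
theorem F195862 : act 3 n7408 = n5697 := (sb E8185 F37331)
theorem E8559 : n10690 = n5756 := (((iv F47656)).symm.trans (sb E8187 F37074))
theorem F195864 : act 7 n7370 = n5655 := (sb E8187 (iv D8191))
theorem E8565 : n25645 = n10906 := (((D10906).symm.trans (sb E8196 F153731))).symm
theorem E8566 : n12109 = n10829 := (((F68624).symm.trans (sb E8197 (iv D17615)))).symm
theorem E8568 : n12100 = n11019 := (((iv F53479)).symm.trans (sb E8198 F68305))
theorem E8569 : n22745 = n5754 := (((F37660).symm.trans (sb E8198 (iv F97629)))).symm
theorem E8572 : n11973 = n11016 := ((((iv F49022)).symm.trans (sb E8200 F75586))).symm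
theorem E8574 : n22744 = n5696 := (((F37335).symm.trans (sb E8201 (iv F97625)))).symm
theorem E8575 : n22747 = n11980 := (((D11980).symm.trans (sb E8201 D22747))).symm
theorem E8577 : n12107 = n5199 := ((((iv F24213)).symm.trans (sb E8203 F75019))).symm
theorem E8579 : n12099 = n5267 := (((F33973).symm.trans (sb E8204 (iv F53476)))).symm
theorem E8580 : n10825 = n5753 := (((iv F48227)).symm.trans (sb E8204 F37658))
theorem F195871 : act 6 n7460 = n5752 := (sb E8204 (iv D8339))
theorem F195872 : act 0 n7588 = n5757 := (sb E8206 F37639)
theorem E8582 : n12093 = n11011 := ((((iv F48997)).symm.trans (sb E8206 (iv F53455)))).symm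
theorem F195873 : act 2 n7588 = n5752 := (sb E8206 F37640)
theorem E8583 : n11015 = n5750 := (((iv F49018)).symm.trans (sb E8206 (iv D8334)))
theorem E8588 : n12389 = n11000 := ((((iv F48947)).symm.trans (sb E8209 F75555))).symm
theorem E8589 : n11969 = n11009 := ((((iv F48991)).symm.trans (sb E8209 (iv D17400)))).symm
theorem F195875 : act 0 n7586 = n5698 := (sb E8210 F37318)
theorem E8591 : n11014 = n5694 := ((D11014).symm.trans (sb E8210 (iv D8249)))
theorem E8614 : n22797 = n11930 := (((D11930).symm.trans (sb E8246 F138397))).symm
theorem E8615 : n25236 = n22801 := ((D25236).symm.trans (sb E8248 F138416))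
theorem E8630 : n25393 = n11933 := (((D11933).symm.trans (sb E8263 F152249))).symm
theorem E8633 : n11998 = n5687 := (((F37216).symm.trans (sb E8266 (iv D17446)))).symm
theorem E8640 : n25183 = n12041 := (((D12041).symm.trans (sb E8272 F152258))).symm
theorem E8641 : n25396 = n12042 := (((D12042).symm.trans (sb E8272 F152260))).symm
theorem E8642 : n25249 = n12439 := ((D25249).symm.trans (sb E8273 F75761))
theorem E8643 : n25399 = n25250 := (((D25250).symm.trans (sb E8273 D25399))).symm
theorem E8644 : n25178 = n5799 := (((F37513).symm.trans (sb E8274 (iv F107402)))).symm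
theorem E8645 : n12141 = n12048 := (((D12048).symm.trans (sb E8274 F75147))).symm
theorem E8646 : n11999 = n5741 := (((F37516).symm.trans (sb E8275 (iv D17448)))).symm
theorem E8648 : n11954 = n5904 := (((iv F52928)).symm.trans (sb E8276 F37393))
theorem E8649 : n12001 = n11961 := (((D11961).symm.trans (sb E8276 D12001))).symm
theorem E8650 : n11902 = n2785 := (((F18962).symm.trans (sb E8278 (iv D17302)))).symm
theorem E8651 : n5768 = n5740 := ((((iv F26543)).symm.trans (sb E8279 F37116))).symm
theorem E8654 : n25188 = n15577 := (((F96601).symm.trans (sb E8282 F152279))).symm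
theorem E8657 : n12145 = n8365 := (((F52713).symm.trans (sb E8283 F75161))).symm
theorem E8658 : n12441 = n8566 := (((F53118).symm.trans (sb E8284 F75767))).symm
theorem E8660 : n25180 = n12204 := (((iv F107410)).symm.trans (sb E8285 F75998))
theorem E8664 : n12215 = n12139 := ((D12215).symm.trans (sb E8289 F75140))
theorem E8665 : n12083 = n5769 := ((((iv D8363)).symm.trans (sb E8290 F76035))).symm
theorem E8670 : n12369 = n5898 := ((((iv F27162)).symm.trans (sb E8293 F75478))).symm
theorem E8676 : n5823 = n5767 := (((iv F26866)).symm.trans (sb E8296 F37112))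
theorem F195906 : act 5 n4025 = n5663 := (sb E8296 (iv D8202))
theorem F195907 : act 1 n3987 = n5746 := (sb E8297 F37600)
theorem E8678 : n12072 = n2847 := (((F18865).symm.trans (sb E8297 (iv F53385)))).symm
theorem E8680 : n5764 = n5744 := ((((iv F26558)).symm.trans (sb E8297 F37603))).symm
theorem F195908 : act 4 n3986 = n5648 := (sb E8298 F37033)
theorem F195909 : act 6 n3986 = n5647 := (sb E8298 (iv D8179))
theorem E8681 : n12368 = n2842 := ((((iv F13715)).symm.trans (sb E8299 F75472))).symm
theorem E8686 : n12356 = n5887 := ((((iv F27120)).symm.trans (sb E8302 (iv F54498)))).symm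
theorem F195912 : act 2 n4073 = n5875 := (sb E8302 F38369)
theorem E8688 : n5893 = n5874 := ((((iv F27068)).symm.trans (sb E8302 F38372))).symm
theorem F195913 : act 6 n4062 = n5698 := (sb E8304 (iv D8257))
theorem F195914 : act 1 n8244 = n5708 := (sb E8306 F37379)
theorem F195915 : act 6 n8244 = n5702 := (sb E8306 F37382)
theorem E8727 : n12130 = n5831 := (((F37967).symm.trans (sb E8348 (iv D17645)))).symm
theorem E8729 : n12118 = n5932 := (((F37625).symm.trans (sb E8349 (iv F53542)))).symm
theorem E8730 : n12087 = n5765 := (((iv F53439)).symm.trans (sb E8349 F37712))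
theorem F195917 : act 6 n8330 = n5763 := (sb E8349 F37713)
theorem E8732 : n12379 = n5948 := (((F37678).symm.trans (sb E8351 (iv F54600)))).symm
theorem E8738 : n12396 = n12363 := ((((iv F54531)).symm.trans (sb E8354 (iv F54664)))).symm
theorem E8739 : n12376 = n5894 := (((iv F54588)).symm.trans (sb E8354 F38488))
theorem E8746 : n12116 = n2865 := (((F19037).symm.trans (sb E8360 (iv F53535)))).symm
theorem E8747 : n5854 = n5827 := ((((iv F26881)).symm.trans (sb E8360 F37707))).symm
theorem E8750 : n5928 = n5758 := (((iv F27274)).symm.trans (sb E8362 F37677))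
theorem F195923 : act 6 n4096 = n5757 := (sb E8362 (iv D8345))
theorem F195924 : act 4 n3983 = n5746 := (sb E8363 F37615)
theorem E8754 : n12362 = n5936 := ((((iv F27296)).symm.trans (sb E8365 (iv F54526)))).symm
theorem F195925 : act 3 n4107 = n5878 := (sb E8365 F38394)
theorem F195926 : act 7 n4107 = n5875 := (sb E8365 (iv D8523))
theorem E8763 : n12367 = n5900 := (((D5900).symm.trans (sb E8372 D12367))).symm
theorem E8811 : n30133 = n30097 := ((((iv F127744)).symm.trans (sb E8428 F183012))).symm
theorem F195932 : act 5 n43768 = n30052 := (sb E8429 F183021)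
theorem E8812 : n32747 = n14314 := ((((iv F62871)).symm.trans (sb E8432 (iv F138301)))).symm
theorem E8814 : n32750 = n6827 := (((F44186).symm.trans (sb E8432 D32750))).symm
theorem E8817 : n15559 = n14264 := (((F89444).symm.trans (sb E8433 (iv D22647)))).symm
theorem F195936 : act 2 n20673 = n14234 := (sb E8435 F89312)
theorem E8819 : n30130 = n30095 := (((D30095).symm.trans (sb E8435 (iv F127875)))).symm
theorem F195937 : act 6 n20673 = n14231 := (sb E8435 (iv D20697))
theorem E8821 : n32995 = n14438 := (((F90096).symm.trans (sb E8440 (iv F139285)))).symm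
theorem E8822 : n15557 = n14377 := (((F90097).symm.trans (sb E8440 (iv D22644)))).symm
theorem F195945 : act 0 n10703 = n14323 := (sb E8441 F89837)
theorem E8823 : n30319 = n15556 := (((D15556).symm.trans (sb E8441 (iv F128649)))).symm
theorem E8824 : n15527 = n14336 := (((iv F67866)).symm.trans (sb E8441 F89842))
theorem E8825 : n30313 = n15644 := (((iv F128622)).symm.trans (sb E8442 F96517))
theorem E8826 : n30317 = n30129 := (((iv F128641)).symm.trans (sb E8442 (iv F127871)))
theorem F195948 : act 0 n10704 = n14271 := (sb E8445 F89521)
theorem E8829 : n30203 = n14286 := ((((iv F62749)).symm.trans (sb E8445 (iv F128177)))).symm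
theorem E8830 : n15528 = n14284 := (((iv F67870)).symm.trans (sb E8445 F89526))
theorem E8831 : n30126 = n14265 := ((((iv F62672)).symm.trans (sb E8446 F183325))).symm
theorem F195950 : act 7 n10683 = n14230 := (sb E8447 (iv D20695))
theorem F195951 : act 0 n20696 = n30105 := (sb E8449 F183312)
theorem E8832 : n30124 = n30100 := ((((iv F127759)).symm.trans (sb E8449 F183316))).symm
theorem F195953 : act 0 n20676 = n14234 := (sb E8451 F89290)
theorem F195954 : act 3 n20676 = n14230 := (sb E8451 F89292)
theorem F195955 : act 6 n20676 = n14228 := (sb E8451 (iv D20692))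
theorem E8833 : n30127 = n30102 := (((D30102).symm.trans (sb E8451 D30127))).symm
theorem F195958 : act 4 n41692 = n28639 := (sb E8455 (iv D41707))
theorem F195959 : act 0 n41693 = n30054 := (sb E8456 F182975)
theorem E8834 : n30239 = n30220 := (((F183862).symm.trans (sb E8458 (iv D44089)))).symm
theorem F195966 : act 2 n20693 = n30108 := (sb E8459 F183353)
theorem E8838 : n32966 = n14385 := ((((iv F63163)).symm.trans (sb E8467 (iv F139175)))).symm
theorem E8841 : n30325 = n15750 := (((iv F128675)).symm.trans (sb E8468 F97107))
theorem E8842 : n30332 = n30235 := (((iv F128705)).symm.trans (sb E8468 (iv F128298)))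
theorem E8845 : n33153 = n14556 := (((F89847).symm.trans (sb E8470 (iv F139968)))).symm
theorem E8846 : n30351 = n30323 := ((((iv F128668)).symm.trans (sb E8470 (iv F128783)))).symm
theorem E8850 : n30209 = n14281 := (((iv F128200)).symm.trans (sb E8472 F89601))
theorem E8851 : n30236 = n30216 := ((((iv F128227)).symm.trans (sb E8472 (iv F128301)))).symm
theorem F195978 : act 7 n20767 = n30105 := (sb E8475 (iv D43886))
theorem E8853 : n30196 = n30139 := (((iv F128151)).symm.trans (sb E8475 F183377))
theorem F195981 : act 2 n20691 = n30105 := (sb E8477 F183340)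
theorem F195983 : act 3 n41756 = n30331 := (sb E8478 F183371)
theorem F195985 : act 9 n41756 = n30138 := (sb E8478 F183372)
theorem F195989 : act 4 n41730 = n30138 := (sb E8483 F183035)
theorem E8855 : n18188 = n14554 := ((((iv F63836)).symm.trans (sb E8499 F109060))).symm
theorem E8860 : n15653 = n7402 := (((D7402).symm.trans (sb E8500 F96551))).symm
theorem E8863 : n15655 = n15612 := (((F97406).symm.trans (sb E8501 (iv D22790)))).symm
theorem E8866 : n33216 = n33073 := (((D33073).symm.trans (sb E8501 D33216))).symm
theorem E8868 : n33013 = n7502 := (((F48105).symm.trans (sb E8502 (iv F139347)))).symm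
theorem E8869 : n15566 = n7450 := (((F48106).symm.trans (sb E8502 (iv D22657)))).symm
theorem E8871 : n15645 = n15608 := ((((iv F68207)).symm.trans (sb E8504 (iv F68371)))).symm
theorem F196014 : act 4 n10739 = n7420 := (sb E8504 F47992)
theorem F196015 : act 6 n10739 = n7419 := (sb E8504 (iv D10767))
theorem F196017 : act 3 n10682 = n7384 := (sb E8505 F47730)
theorem F196018 : act 7 n10682 = n7381 := (sb E8505 (iv D10710))
theorem E8873 : n33014 = n15834 := (((iv F139350)).symm.trans (sb E8506 F98031))
theorem E8874 : n33289 = n15784 := (((F97235).symm.trans (sb E8506 D33289))).symm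
theorem E8875 : n33107 = n15646 := ((((iv F68374)).symm.trans (sb E8507 (iv F139778)))).symm
theorem E8879 : n15565 = n7522 := (((F48490).symm.trans (sb E8508 (iv D22656)))).symm
theorem F196022 : act 0 n10708 = n7457 := (sb E8509 F48182)
theorem E8880 : n15718 = n7476 := (((F47724).symm.trans (sb E8509 (iv F68670)))).symm
theorem E8881 : n15532 = n7470 := (((iv F67884)).symm.trans (sb E8509 F48185))
theorem E8882 : n33106 = n7471 := ((((iv F34016)).symm.trans (sb E8510 (iv F139773)))).symm
theorem F196023 : act 0 n10685 = n7423 := (sb E8511 F47966)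
theorem F196024 : act 7 n10685 = n7416 := (sb E8511 (iv D10761))
theorem F196025 : act 0 n10762 = n15616 := (sb E8512 F97511)
theorem E8885 : n33099 = n7599 := (((F47971).symm.trans (sb E8512 (iv F139739)))).symm
theorem E8887 : n15635 = n15615 := ((((iv F68244)).symm.trans (sb E8512 F97514))).symm
theorem F196026 : act 0 n10744 = n7420 := (sb E8514 F47951)
theorem F196027 : act 3 n10744 = n7416 := (sb E8514 F47953)
theorem F196028 : act 6 n10744 = n7414 := (sb E8514 (iv D10758))
theorem E8889 : n15642 = n15621 := (((D15621).symm.trans (sb E8514 D15642))).symm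
theorem F196029 : act 0 n10686 = n7384 := (sb E8516 F47702)
theorem F196030 : act 7 n10686 = n7377 := (sb E8516 (iv D10702))
theorem E8902 : n15761 = n15735 := (((F98089).symm.trans (sb E8522 (iv D22950)))).symm
theorem E8906 : n33126 = n15752 := ((((iv F68793)).symm.trans (sb E8523 (iv F139861)))).symm
theorem E8909 : n33155 = n16005 := (((F97570).symm.trans (sb E8524 (iv F139976)))).symm
theorem E8911 : n33123 = n15636 := (((iv F139849)).symm.trans (sb E8524 F97685))
theorem F196033 : act 4 n10759 = n15623 := (sb E8525 F97599)
theorem E8916 : n15759 = n7530 := ((((iv F34264)).symm.trans (sb E8527 F97139))).symm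
theorem E8918 : n15751 = n15724 := ((((iv F68693)).symm.trans (sb E8528 (iv F68790)))).symm
theorem E8919 : n15731 = n7467 := (((iv F68717)).symm.trans (sb E8528 F48275))
theorem F196034 : act 6 n10821 = n7466 := (sb E8528 (iv D10838))
theorem E8921 : n16004 = n15745 := ((((iv F68768)).symm.trans (sb E8530 F97565))).symm
theorem F196035 : act 7 n10833 = n15616 := (sb E8530 (iv D22730))
theorem E8927 : n16002 = n15632 := (((iv F69828)).symm.trans (sb E8533 (iv D22751)))
theorem F196037 : act 4 n10755 = n15616 := (sb E8534 F97558)
theorem E8945 : n17409 = n7587 := ((((iv F34506)).symm.trans (sb E8544 F108083))).symm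
theorem E8948 : n17419 = n7459 := (((F47918).symm.trans (sb E8545 (iv F75639)))).symm
theorem E8956 : n17612 = n3593 := ((((iv F17156)).symm.trans (sb E8549 F107240))).symm
theorem E8959 : n17600 = n3638 := (((F23998).symm.trans (sb E8550 (iv F76309)))).symm
theorem E8960 : n8341 = n7458 := ((((iv F33966)).symm.trans (sb E8550 F53510))).symm
theorem F196039 : act 4 n5756 = n7370 := (sb E8559 F47656)
theorem E8985 : n17613 = n7538 := (((F48554).symm.trans (sb E8565 (iv D25645)))).symm
theorem E8986 : n37390 = n15855 := ((((iv F69209)).symm.trans (sb E8565 D37390))).symm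
theorem E8988 : n17601 = n7639 := (((F48241).symm.trans (sb E8566 (iv F76312)))).symm
theorem E8989 : n15739 = n8342 := (((iv F68747)).symm.trans (sb E8566 F53512))
theorem E8991 : n17589 = n16015 := ((((iv F69879)).symm.trans (sb E8568 (iv F76267)))).symm
theorem E8992 : n16019 = n8336 := (((iv F69899)).symm.trans (sb E8568 F53480))
theorem E8995 : n33147 = n8343 := (((D8343).symm.trans (sb E8569 D33147))).symm
theorem E9000 : n17410 = n16020 := (((D16020).symm.trans (sb E8572 D17410))).symm
theorem E9001 : n16018 = n8250 := (((iv F69896)).symm.trans (sb E8572 F53005))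
theorem E9002 : n17411 = n16021 := (((D16021).symm.trans (sb E8572 D17411))).symm
theorem E9004 : n33145 = n8254 := (((D8254).symm.trans (sb E8574 D33145))).symm
theorem E9005 : n17375 = n15664 := (((iv F75457)).symm.trans (sb E8575 F97638))
theorem E9006 : n17599 = n3671 := (((F24212).symm.trans (sb E8577 (iv F76305)))).symm
theorem E9007 : n8470 = n7534 := ((((iv F34281)).symm.trans (sb E8577 F53507))).symm
theorem E9009 : n17588 = n7631 := ((((iv F34682)).symm.trans (sb E8579 (iv F76264)))).symm
theorem E9010 : n8335 = n7635 := ((((iv F34701)).symm.trans (sb E8579 F53477))).symm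
theorem F196051 : act 4 n5753 = n7460 := (sb E8580 F48227)
theorem E9015 : n15998 = n8605 := (((iv F69806)).symm.trans (sb E8582 F53454))
theorem E9016 : n16011 = n8332 := (((iv F69863)).symm.trans (sb E8582 (iv D12093)))
theorem F196052 : act 4 n5750 = n7588 := (sb E8583 F49018)
theorem E9018 : n16017 = n3976 := ((((iv D5750)).symm.trans (sb E8583 (iv F69892)))).symm
theorem E9024 : n15996 = n8533 := (((iv F69799)).symm.trans (sb E8588 (iv D12389)))
theorem E9026 : n16010 = n8248 := ((D16010).symm.trans (sb E8589 (iv D11969)))
theorem E9029 : n8232 = n7609 := (((iv F37250)).symm.trans (sb E8591 F49015))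
theorem E9070 : n33223 = n17341 := ((((iv F75311)).symm.trans (sb E8614 D33223))).symm
theorem E9074 : n36768 = n33228 := (((D33228).symm.trans (sb E8615 (iv F154313)))).symm
theorem E9075 : n36776 = n16075 := (((F97865).symm.trans (sb E8615 D36776))).symm
theorem E9077 : n36777 = n33229 := (((D33229).symm.trans (sb E8615 D36777))).symm
theorem E9100 : n18096 = n17350 := (((D17350).symm.trans (sb E8630 F108313))).symm
theorem E9109 : n8562 = n8237 := ((((iv F37269)).symm.trans (sb E8633 F53105))).symm
theorem E9121 : n36688 = n8404 := (((F53276).symm.trans (sb E8640 (iv F153956)))).symm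
theorem E9122 : n17660 = n17512 := (((D17512).symm.trans (sb E8640 F107423))).symm
theorem E9123 : n18099 = n17513 := (((D17513).symm.trans (sb E8641 F108322))).symm
theorem E9125 : n17381 = n8564 := ((((iv D12439)).symm.trans (sb E8642 F107718))).symm
theorem E9127 : n36798 = n18102 := (((D18102).symm.trans (sb E8642 D36798))).symm
theorem F196072 : act 6 n25250 = n17453 := (sb E8643 F108336)
theorem E9129 : n17655 = n8411 := (((D8411).symm.trans (sb E8644 F107404))).symm
theorem E9130 : n8362 = n8323 := (((F53299).symm.trans (sb E8645 (iv D12141)))).symm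
theorem E9132 : n8563 = n8317 := ((((iv F37584)).symm.trans (sb E8646 F53109))).symm
theorem E9133 : n17449 = n8324 := (((D8324).symm.trans (sb E8646 D17449))).symm
theorem E9135 : n17382 = n8565 := (((D8565).symm.trans (sb E8648 D17382))).symm
theorem F196076 : act 4 n11961 = n8272 := (sb E8649 F53116)
theorem F196077 : act 6 n11961 = n8270 := (sb E8649 F53117)
theorem E9136 : n8360 = n4022 := ((((iv F19015)).symm.trans (sb E8650 F52694))).symm
theorem F196078 : act 4 n5740 = n3989 := (sb E8651 F26636)
theorem F196079 : act 7 n5740 = n3987 := (sb E8651 (iv D5768))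
theorem E9140 : n33034 = n22671 := (((D22671).symm.trans (sb E8654 (iv F139432)))).symm
theorem E9148 : n8657 = n5967 := (((F37743).symm.trans (sb E8657 F53634))).symm
theorem E9150 : n18090 = n5905 := ((((iv D8566)).symm.trans (sb E8658 (iv F78283)))).symm
theorem E9154 : n17757 = n17657 := ((D17757).symm.trans (sb E8660 F107412))
theorem E9162 : n8446 = n8361 := ((((iv D12139)).symm.trans (sb E8664 F53930))).symm
theorem E9164 : n17560 = n4119 := (((F26637).symm.trans (sb E8665 (iv F76175)))).symm
theorem E9173 : n17980 = n8541 := ((((iv F38465)).symm.trans (sb E8670 (iv F77836)))).symm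
theorem F196094 : act 2 n5898 = n8524 := (sb E8670 F54557)
theorem E9175 : n18001 = n8558 := (((D8558).symm.trans (sb E8670 D18001))).symm
theorem F196097 : act 1 n5767 = n4028 := (sb E8676 F26865)
theorem E9181 : n8435 = n4117 := (((F26632).symm.trans (sb E8676 (iv F38038)))).symm
theorem E9182 : n8442 = n4049 := (((F26633).symm.trans (sb E8676 (iv F38067)))).symm
theorem E9183 : n8325 = n4046 := (((iv F37613)).symm.trans (sb E8676 F26868))
theorem E9184 : n8584 = n4112 := ((((iv F19354)).symm.trans (sb E8678 F53384))).symm
theorem E9186 : n8347 = n4094 := ((((iv F19301)).symm.trans (sb E8678 F53388))).symm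
theorem F196099 : act 1 n5744 = n3989 := (sb E8680 F26622)
theorem F196100 : act 3 n5744 = n3986 := (sb E8680 F26623)
theorem F196101 : act 7 n5744 = n3983 := (sb E8680 (iv D5764))
theorem E9188 : n8358 = n8327 := (((D8327).symm.trans (sb E8680 D8358))).symm
theorem E9189 : n17979 = n4102 := ((((iv F19323)).symm.trans (sb E8681 (iv F77830)))).symm
theorem E9191 : n8548 = n4089 := ((((iv F19280)).symm.trans (sb E8681 F54556))).symm
theorem F196103 : act 2 n5887 = n8512 := (sb E8686 F54499)
theorem E9196 : n8536 = n8511 := ((((iv F38343)).symm.trans (sb E8686 F54502))).symm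
theorem F196104 : act 2 n5874 = n4074 := (sb E8688 F27145)
theorem E9198 : n8549 = n8522 := (((D8522).symm.trans (sb E8688 D8549))).symm
theorem E9269 : n17626 = n4147 := (((F26895).symm.trans (sb E8727 (iv F76401)))).symm
theorem E9270 : n8493 = n8450 := ((((iv F38096)).symm.trans (sb E8727 F53588))).symm
theorem E9272 : n8630 = n8595 := ((((iv F38665)).symm.trans (sb E8729 F53541))).symm
theorem E9273 : n8599 = n8348 := (((iv F38681)).symm.trans (sb E8729 F53543))
theorem F196108 : act 6 n5932 = n8346 := (sb E8729 F53544)
theorem F196109 : act 4 n5765 = n8330 := (sb E8730 F53439)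
theorem E9278 : n17990 = n8612 := ((((iv F38719)).symm.trans (sb E8732 (iv F77884)))).symm
theorem E9280 : n18014 = n8632 := (((D8632).symm.trans (sb E8732 D18014))).symm
theorem E9287 : n17987 = n8537 := (((iv F77872)).symm.trans (sb E8738 F54666))
theorem E9291 : n18011 = n8551 := (((D8551).symm.trans (sb E8739 D18011))).symm
theorem E9297 : n8628 = n4139 := ((((iv F19449)).symm.trans (sb E8746 F53534))).symm
theorem E9298 : n8479 = n4143 := ((((iv F19465)).symm.trans (sb E8746 F53536))).symm
theorem E9300 : n8448 = n4044 := (((iv F38090)).symm.trans (sb E8747 (iv D5854)))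
theorem F196117 : act 4 n5758 = n4096 := (sb E8750 F27274)
theorem E9310 : n8571 = n8542 := (((iv F38578)).symm.trans (sb E8754 F54530))
theorem E9317 : n17997 = n4237 := (((F27171).symm.trans (sb E8763 D17997))).symm
theorem F196122 : act 2 n30097 = n20704 := (sb E8811 F127885)
theorem E9405 : n43925 = n43872 := ((((iv F183319)).symm.trans (sb E8811 (iv F183529)))).symm
theorem F196123 : act 6 n30097 = n20698 := (sb E8811 F127886)
theorem E9406 : n43928 = n20745 := (((F127745).symm.trans (sb E8811 (iv F183540)))).symm
theorem E9407 : n43930 = n43875 := (((D43875).symm.trans (sb E8811 D43930))).symm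
theorem E9408 : n22772 = n20818 := ((((iv F89811)).symm.trans (sb E8812 F138300))).symm
theorem E9409 : n43921 = n20820 := (((D20820).symm.trans (sb E8812 (iv F183516)))).symm
theorem E9410 : n22643 = n9899 := (((D9899).symm.trans (sb E8814 F138312))).symm
theorem E9412 : n20780 = n20744 := ((((iv F89511)).symm.trans (sb E8817 (iv F89645)))).symm
theorem F196127 : act 2 n30095 = n20701 := (sb E8819 F127874)
theorem E9414 : n43923 = n41732 := ((((iv F174448)).symm.trans (sb E8819 D43923))).symm
theorem F196128 : act 6 n30095 = n20696 := (sb E8819 (iv D30130))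
theorem E9415 : n22642 = n9960 := (((F63362).symm.trans (sb E8821 (iv D32995)))).symm
theorem E9416 : n22640 = n20912 := ((((iv F90206)).symm.trans (sb E8822 (iv F97171)))).symm
theorem F196132 : act 6 n14377 = n10703 := (sb E8822 (iv D15557))
theorem F196133 : act 0 n15556 = n20832 := (sb E8823 F128647)
theorem E9418 : n44196 = n10843 := (((F67976).symm.trans (sb E8823 (iv F184625)))).symm
theorem E9419 : n44203 = n20777 := ((((iv F89636)).symm.trans (sb E8823 (iv F184657)))).symm
theorem E9420 : n44207 = n22641 := (((D22641).symm.trans (sb E8823 D44207))).symm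
theorem E9421 : n22595 = n20851 := (((iv F96996)).symm.trans (sb E8823 F128652))
theorem F196135 : act 2 n14336 = n10685 := (sb E8824 F67864)
theorem F196136 : act 4 n14336 = n10683 := (sb E8824 (iv D15527))
theorem F196137 : act 9 n14336 = n10703 := (sb E8824 F67866)
theorem F196138 : act 0 n15644 = n20826 := (sb E8825 F128621)
theorem E9422 : n44189 = n11033 := (((F68367).symm.trans (sb E8825 (iv F184591)))).symm
theorem F196139 : act 2 n15644 = n20821 := (sb E8825 F128622)
theorem E9423 : n44194 = n20854 := ((((iv F89966)).symm.trans (sb E8825 (iv F184618)))).symm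
theorem E9425 : n22727 = n20845 := (((iv F97555)).symm.trans (sb E8825 F128625))
theorem F196140 : act 0 n30129 = n20830 := (sb E8826 F128639)
theorem E9426 : n44202 = n41766 := ((((iv F174602)).symm.trans (sb E8826 D44202))).symm
theorem E9427 : n44204 = n43922 := (((D43922).symm.trans (sb E8826 D44204))).symm
theorem E9428 : n43876 = n20849 := (((iv F183338)).symm.trans (sb E8826 F128642))
theorem F196142 : act 0 n14286 = n20755 := (sb E8829 F128175)
theorem E9430 : n44031 = n20778 := ((((iv F89639)).symm.trans (sb E8829 (iv F183967)))).symm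
theorem E9432 : n20774 = n20749 := ((((iv F89534)).symm.trans (sb E8829 F128179))).symm
theorem F196143 : act 2 n14284 = n10686 := (sb E8830 F67868)
theorem F196144 : act 6 n14284 = n10683 := (sb E8830 (iv D15528))
theorem F196145 : act 9 n14284 = n10704 := (sb E8830 F67870)
theorem E9433 : n43915 = n20748 := (((D20748).symm.trans (sb E8831 (iv F183489)))).symm
theorem F196147 : act 0 n30100 = n20701 := (sb E8832 F127848)
theorem E9435 : n43914 = n41737 := ((((iv F174475)).symm.trans (sb E8832 D43914))).symm
theorem F196148 : act 6 n30100 = n20691 := (sb E8832 (iv D30124))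
theorem E9436 : n43916 = n43878 := (((D43878).symm.trans (sb E8832 D43916))).symm
theorem F196149 : act 0 n30102 = n20704 := (sb E8833 F127860)
theorem E9438 : n44044 = n20775 := (((iv F184015)).symm.trans (sb E8834 F128310))
theorem E9443 : n22932 = n20918 := ((((iv F90228)).symm.trans (sb E8838 F139174))).symm
theorem E9444 : n44081 = n20925 := ((((iv F90253)).symm.trans (sb E8838 (iv F184152)))).symm
theorem E9445 : n22922 = n21181 := (((iv F98331)).symm.trans (sb E8841 F128674))
theorem F196152 : act 2 n15750 = n20832 := (sb E8841 F128675)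
theorem E9446 : n44212 = n20944 := ((((iv F90319)).symm.trans (sb E8841 (iv F184695)))).symm
theorem F196153 : act 7 n15750 = n20826 := (sb E8841 (iv D30325))
theorem E9447 : n44216 = n22933 := (((D22933).symm.trans (sb E8841 D44216))).symm
theorem F196155 : act 4 n30235 = n20832 := (sb E8842 F128705)
theorem E9449 : n44224 = n41831 := ((((iv F174877)).symm.trans (sb E8842 (iv F184744)))).symm
theorem E9450 : n44226 = n44082 := (((D44082).symm.trans (sb E8842 D44226))).symm
theorem E9451 : n44021 = n20864 := (((iv F183929)).symm.trans (sb E8842 F128707))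
theorem E9452 : n23336 = n21169 := ((((iv F91206)).symm.trans (sb E8845 F139967))).symm
theorem E9453 : n44243 = n21179 := ((((iv F91256)).symm.trans (sb E8845 (iv F184811)))).symm
theorem E9454 : n44209 = n20844 := (((iv F184683)).symm.trans (sb E8846 (iv D30351)))
theorem E9455 : n44211 = n41922 := ((D44211).symm.trans (sb E8846 (iv F175261)))
theorem E9457 : n44254 = n44213 := (((D44213).symm.trans (sb E8846 D44254))).symm
theorem F196157 : act 2 n14281 = n20755 := (sb E8850 F128200)
theorem E9459 : n44040 = n20772 := ((((iv F89617)).symm.trans (sb E8850 (iv F184003)))).symm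
theorem E9460 : n44083 = n44052 := ((((iv F184044)).symm.trans (sb E8851 D44083))).symm
theorem E9463 : n43936 = n41792 := (((iv F183571)).symm.trans (sb E8853 (iv F174702)))
theorem E9464 : n44023 = n43938 := (((D43938).symm.trans (sb E8853 D44023))).symm
theorem E9466 : n23498 = n21175 := ((((iv F91236)).symm.trans (sb E8855 (iv F100647)))).symm
theorem E9471 : n22774 = n10738 := (((D10738).symm.trans (sb E8860 (iv F97753)))).symm
theorem E9474 : n22776 = n22719 := ((((iv F97516)).symm.trans (sb E8863 (iv F97761)))).symm
theorem E9475 : n22789 = n10811 := (((F68228).symm.trans (sb E8863 (iv F97817)))).symm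
theorem E9476 : n22791 = n22726 := (((D22726).symm.trans (sb E8863 D22791))).symm
theorem F196166 : act 1 n33073 = n22802 := (sb E8866 F140227)
theorem E9478 : n22655 = n5189 := (((F34146).symm.trans (sb E8868 (iv D33013)))).symm
theorem E9479 : n10853 = n10810 := ((((iv F48171)).symm.trans (sb E8869 F68011))).symm
theorem F196172 : act 4 n15608 = n10763 := (sb E8871 F68372)
theorem F196173 : act 6 n15608 = n10762 := (sb E8871 (iv D15645))
theorem E9482 : n23058 = n22980 := ((D23058).symm.trans (sb E8873 F139352))
theorem E9483 : n22886 = n10854 := ((((iv D15784)).symm.trans (sb E8874 F140532))).symm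
theorem F196181 : act 0 n15646 = n22731 := (sb E8875 F139777)
theorem E9485 : n10917 = n10852 := (((iv F48603)).symm.trans (sb E8879 F68007))
theorem F196184 : act 0 n7476 = n10821 := (sb E8880 F68668)
theorem E9487 : n22875 = n10844 := ((((iv F48296)).symm.trans (sb E8880 (iv F98165)))).symm
theorem E9489 : n10840 = n10819 := ((((iv F48206)).symm.trans (sb E8880 F68672))).symm
theorem F196185 : act 4 n7470 = n10686 := (sb E8881 F67883)
theorem F196186 : act 6 n7470 = n10685 := (sb E8881 (iv D15532))
theorem F196187 : act 9 n7470 = n10708 := (sb E8881 F67884)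
theorem E9490 : n22759 = n10814 := ((((iv F48189)).symm.trans (sb E8882 F139776))).symm
theorem E9492 : n23282 = n11023 := ((((iv F49052)).symm.trans (sb E8885 F139738))).symm
theorem E9493 : n22752 = n11004 := ((((iv F48974)).symm.trans (sb E8885 F139742))).symm
theorem F196189 : act 0 n15615 = n10763 := (sb E8887 F68328)
theorem F196190 : act 6 n15615 = n10755 := (sb E8887 (iv D15635))
theorem E9494 : n22760 = n22729 := (((D22729).symm.trans (sb E8887 D22760))).symm
theorem F196192 : act 6 n15621 = n10759 := (sb E8889 F68361)
theorem E9499 : n22936 = n22895 := ((((iv F98240)).symm.trans (sb E8902 (iv F98382)))).symm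
theorem E9500 : n22905 = n10841 := (((iv F98273)).symm.trans (sb E8902 F68826))
theorem E9501 : n22948 = n10934 := (((F68729).symm.trans (sb E8902 (iv F98427)))).symm
theorem F196196 : act 6 n15735 = n10839 := (sb E8902 F68827)
theorem E9503 : n23309 = n22924 := ((((iv F98338)).symm.trans (sb E8906 F139860))).symm
theorem E9505 : n23338 = n23290 := ((((iv F99822)).symm.trans (sb E8909 F139975))).symm
theorem E9506 : n23306 = n22753 := (((iv F99900)).symm.trans (sb E8909 F139978))
theorem F196204 : act 4 n15636 = n22731 := (sb E8911 F139849)
theorem E9507 : n22934 = n10923 := ((((iv F48629)).symm.trans (sb E8916 (iv F98375)))).symm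
theorem E9508 : n10958 = n10930 := ((((iv F48655)).symm.trans (sb E8916 F68819))).symm
theorem E9510 : n22923 = n11072 := (((F68692).symm.trans (sb E8918 (iv F98334)))).symm
theorem E9511 : n22891 = n10834 := (((iv F98226)).symm.trans (sb E8918 F68791))
theorem F196209 : act 6 n15724 = n10833 := (sb E8918 (iv D15751))
theorem F196210 : act 4 n7467 = n10821 := (sb E8919 F68717)
theorem E9515 : n23289 = n11093 := (((F68767).symm.trans (sb E8921 (iv F99817)))).symm
theorem F196212 : act 7 n15745 = n11005 := (sb E8921 (iv D16004))
theorem F196215 : act 4 n15632 = n11005 := (sb E8927 F69828)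
theorem E9528 : n25340 = n5266 := (((F34508).symm.trans (sb E8945 (iv F108097)))).symm
theorem E9531 : n12112 = n10826 := ((((iv F48232)).symm.trans (sb E8948 F75638))).symm
theorem E9535 : n25625 = n2539 := (((F17155).symm.trans (sb E8956 (iv F109151)))).symm
theorem E9536 : n12305 = n5197 := ((((iv F24204)).symm.trans (sb E8956 F76355))).symm
theorem E9538 : n25605 = n5261 := ((((iv F24474)).symm.trans (sb E8959 (iv F109076)))).symm
theorem E9539 : n12101 = n5265 := ((((iv F24493)).symm.trans (sb E8959 F76310))).symm
theorem F196217 : act 3 n7458 = n5756 := (sb E8960 F37663)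
theorem E9541 : n10824 = n5842 := ((D10824).symm.trans (sb E8960 F37664))
theorem F196218 : act 7 n7458 = n5753 := (sb E8960 (iv D8341))
theorem E9553 : n25626 = n5318 := (((F34299).symm.trans (sb E8985 (iv F109155)))).symm
theorem E9554 : n12306 = n10938 := ((((iv F48687)).symm.trans (sb E8985 F76358))).symm
theorem E9556 : n26088 = n23087 := (((D23087).symm.trans (sb E8986 F156664))).symm
theorem E9557 : n25606 = n11083 := ((((iv F49284)).symm.trans (sb E8988 (iv F109079)))).symm
theorem E9558 : n12102 = n11087 := ((((iv F49303)).symm.trans (sb E8988 F76313))).symm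
theorem E9560 : n22912 = n5843 := (((F37667).symm.trans (sb E8989 (iv F98297)))).symm
theorem E9561 : n22916 = n12113 := (((D12113).symm.trans (sb E8989 D22916))).symm
theorem E9563 : n23300 = n12501 := (((iv F99873)).symm.trans (sb E8991 F76266))
theorem E9564 : n23319 = n12095 := (((iv F99948)).symm.trans (sb E8991 F76268))
theorem E9567 : n23326 = n5751 := (((F37648).symm.trans (sb E8992 (iv F99982)))).symm
theorem E9568 : n23330 = n12104 := (((D12104).symm.trans (sb E8992 D23330))).symm
theorem E9570 : n22800 = n12068 := ((((iv F53371)).symm.trans (sb E8995 F139948))).symm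
theorem E9577 : n25344 = n23332 := (((D23332).symm.trans (sb E9000 D25344))).symm
theorem E9578 : n23328 = n11975 := (((D11975).symm.trans (sb E9001 D23328))).symm
theorem F196230 : act 2 n16021 = n11980 := (sb E9002 F75604)
theorem E9580 : n22798 = n11950 := ((((iv F52911)).symm.trans (sb E9004 F139939))).symm
theorem F196232 : act 8 n15664 = n11980 := (sb E9005 F75457)
theorem E9581 : n25604 = n5310 := ((((iv F24655)).symm.trans (sb E9006 (iv F109072)))).symm
theorem E9582 : n12292 = n5314 := ((((iv F24673)).symm.trans (sb E9006 F76306))).symm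
theorem E9584 : n10936 = n5840 := (((iv F48679)).symm.trans (sb E9007 (iv D8470)))
theorem E9587 : n12500 = n11066 := ((((iv F49223)).symm.trans (sb E9009 F76263))).symm
theorem E9588 : n12094 = n11079 := ((((iv F49271)).symm.trans (sb E9009 F76265))).symm
theorem F196233 : act 0 n7635 = n5758 := (sb E9010 F37642)
theorem E9590 : n11085 = n5836 := (((iv F49296)).symm.trans (sb E9010 F37645))
theorem F196241 : act 3 n8605 = n11003 := (sb E9015 F69808)
theorem E9596 : n23296 = n5934 := ((((iv D8605)).symm.trans (sb E9015 (iv F99854)))).symm
theorem F196242 : act 7 n8605 = n11000 := (sb E9015 (iv D15998))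
theorem E9598 : n23317 = n5749 := ((((iv D8332)).symm.trans (sb E9016 (iv F99941)))).symm
theorem E9599 : n12057 = n11043 := (((iv F53331)).symm.trans (sb E9016 F69865))
theorem E9602 : n11049 = n5733 := ((((iv F26520)).symm.trans (sb E9018 F69893))).symm
theorem E9608 : n12353 = n11028 := (((iv F54488)).symm.trans (sb E9024 F69800))
theorem E9610 : n11944 = n11042 := (((iv F52885)).symm.trans (sb E9026 F69860))
theorem E9612 : n11946 = n11050 := (((D11050).symm.trans (sb E9029 D11946))).symm
theorem F196255 : act 9 n7609 = n5694 := (sb E9029 F37250)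
theorem E9624 : n25237 = n23406 := ((D25237).symm.trans (sb E9070 F140258))
theorem F196261 : act 7 n33228 = n25467 := (sb E9074 F154315)
theorem E9625 : n25475 = n23409 := ((((iv F100314)).symm.trans (sb E9075 F154351))).symm
theorem F196265 : act 5 n33229 = n25238 := (sb E9077 F154355)
theorem F196266 : act 7 n33229 = n25476 := (sb E9077 F154356)
theorem E9641 : n12435 = n11955 := (((F75350).symm.trans (sb E9100 (iv D18096)))).symm
theorem E9642 : n26355 = n25251 := (((D25251).symm.trans (sb E9100 D26355))).symm
theorem F196280 : act 5 n17350 = n12439 := (sb E9100 F78307)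
theorem F196281 : act 5 n8237 = n5904 := (sb E9109 F38547)
theorem E9661 : n25706 = n12205 := (((D12205).symm.trans (sb E9121 F153958))).symm
theorem E9662 : n25494 = n12571 := ((D25494).symm.trans (sb E9122 F76519))
theorem E9664 : n12437 = n12074 := (((F76005).symm.trans (sb E9123 (iv D18099)))).symm
theorem F196284 : act 7 n17513 = n12439 := (sb E9123 F78319)
theorem E9666 : n26360 = n25497 := (((D25497).symm.trans (sb E9123 D26360))).symm
theorem E9667 : n12428 = n12370 := (((iv F54792)).symm.trans (sb E9125 F75482))
theorem E9669 : n25300 = n12440 := (((D12440).symm.trans (sb E9125 D25300))).symm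
theorem F196285 : act 3 n18102 = n25250 := (sb E9127 F154443)
theorem E9671 : n12138 = n5824 := (((F37941).symm.trans (sb E9129 (iv D17655)))).symm
theorem E9673 : n12073 = n5964 := (((iv F53390)).symm.trans (sb E9130 F37735))
theorem E9674 : n12142 = n12084 := (((D12084).symm.trans (sb E9130 D12142))).symm
theorem F196290 : act 4 n8317 = n5907 := (sb E9132 F38549)
theorem F196291 : act 7 n8317 = n5904 := (sb E9132 F38551)
theorem E9676 : n12438 = n12075 := (((D12075).symm.trans (sb E9132 D12438))).symm
theorem F196292 : act 4 n8324 = n12004 := (sb E9133 F75758)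
theorem F196296 : act 2 n8565 = n11961 := (sb E9135 F75487)
theorem E9679 : n5962 = n5817 := ((((iv F26842)).symm.trans (sb E9136 F37728))).symm
theorem E9680 : n5861 = n5821 := ((((iv F26859)).symm.trans (sb E9136 F37729))).symm
theorem E9683 : n23000 = n15797 := (((F97289).symm.trans (sb E9140 F139436))).symm
theorem E9694 : n12563 = n4120 := ((((iv D5967)).symm.trans (sb E9148 (iv F55266)))).symm
theorem E9695 : n6181 = n4276 := (((F27394).symm.trans (sb E9148 F38868))).symm
theorem E9697 : n12430 = n8557 := ((((iv F38525)).symm.trans (sb E9150 (iv D18090)))).symm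
theorem E9704 : n25860 = n12569 := (((F76510).symm.trans (sb E9154 D25860))).symm
theorem E9713 : n12253 = n5963 := (((F37731).symm.trans (sb E9162 (iv F54087)))).symm
theorem E9714 : n12263 = n5862 := (((F37732).symm.trans (sb E9162 (iv F54124)))).symm
theorem E9716 : n12472 = n5957 := ((((iv F27363)).symm.trans (sb E9164 F76174))).symm
theorem E9727 : n26184 = n12407 := (((D12407).symm.trans (sb E9173 D26184))).symm
theorem F196320 : act 2 n8558 = n12380 := (sb E9175 F77928)
theorem E9733 : n5985 = n5955 := ((((iv F27356)).symm.trans (sb E9181 F38037))).symm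
theorem E9734 : n12249 = n2886 := (((F19371).symm.trans (sb E9181 (iv F54070)))).symm
theorem E9735 : n5927 = n5848 := (((iv F27272)).symm.trans (sb E9181 F38041))
theorem F196322 : act 1 n4049 = n5827 := (sb E9182 F38065)
theorem E9737 : n5855 = n5826 := ((((iv F26878)).symm.trans (sb E9182 F38069))).symm
theorem F196323 : act 5 n4046 = n5744 := (sb E9183 (iv D8325))
theorem F196324 : act 9 n4046 = n5767 := (sb E9183 F37613)
theorem E9739 : n12452 = n5941 := ((((iv F27314)).symm.trans (sb E9184 (iv F54880)))).symm
theorem F196325 : act 2 n4112 = n5924 := (sb E9184 F38625)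
theorem E9741 : n5949 = n5922 := ((((iv F27253)).symm.trans (sb E9184 F38628))).symm
theorem F196326 : act 7 n4094 = n5758 := (sb E9186 (iv D8347))
theorem F196327 : act 1 n8327 = n5772 := (sb E9188 F37720)
theorem F196328 : act 7 n8327 = n5765 := (sb E9188 F37723)
theorem E9746 : n12397 = n5912 := ((((iv F27215)).symm.trans (sb E9189 F77835))).symm
theorem E9748 : n12417 = n5923 := (((D5923).symm.trans (sb E9191 D12417))).symm
theorem F196330 : act 2 n8511 = n5888 := (sb E9196 F38445)
theorem E9751 : n12398 = n12361 := (((D12361).symm.trans (sb E9196 D12398))).symm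
theorem F196332 : act 2 n8522 = n5900 := (sb E9198 F38495)
theorem E9813 : n12319 = n6000 := ((((iv F27520)).symm.trans (sb E9269 F76402))).symm
theorem E9815 : n12270 = n5856 := (((iv F54151)).symm.trans (sb E9270 F38265))
theorem E9818 : n12513 = n12463 := ((((iv F54926)).symm.trans (sb E9272 (iv F55096)))).symm
theorem E9820 : n12541 = n12487 := (((D12487).symm.trans (sb E9272 D12541))).symm
theorem E9823 : n12493 = n12123 := (((D12123).symm.trans (sb E9273 D12493))).symm
theorem E9828 : n26197 = n12515 := (((D12515).symm.trans (sb E9278 D26197))).symm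
theorem F196343 : act 7 n8632 = n12380 := (sb E9280 F77987)
theorem E9840 : n26194 = n12400 := (((D12400).symm.trans (sb E9287 D26194))).symm
theorem F196346 : act 4 n8551 = n12380 := (sb E9291 F77971)
theorem E9850 : n12511 = n5979 := ((((iv F27440)).symm.trans (sb E9297 (iv F55089)))).symm
theorem E9851 : n6028 = n5992 := ((((iv F27491)).symm.trans (sb E9297 F38779))).symm
theorem E9853 : n12313 = n2908 := (((F19464).symm.trans (sb E9298 (iv F54322)))).symm
theorem E9854 : n5998 = n5846 := (((iv F27516)).symm.trans (sb E9298 (iv D8479)))
theorem F196347 : act 5 n4044 = n5827 := (sb E9300 F38090)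
theorem F196350 : act 9 n8542 = n5936 := (sb E9310 F38578)
theorem E9871 : n26208 = n6117 := ((((iv F28018)).symm.trans (sb E9317 D26208))).symm
theorem F196351 : act 2 n43872 = n30140 := (sb E9405 F183528)
theorem F196352 : act 6 n43872 = n30131 := (sb E9405 F183530)
theorem E9916 : n30258 = n30204 := ((((iv F128183)).symm.trans (sb E9406 F183539))).symm
theorem F196355 : act 6 n43875 = n30135 := (sb E9407 F183547)
theorem E9917 : n30310 = n16046 := (((iv F128607)).symm.trans (sb E9408 F97747))
theorem E9918 : n30367 = n30312 := (((D30312).symm.trans (sb E9408 (iv F128852)))).symm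
theorem F196356 : act 6 n20818 = n15644 := (sb E9408 (iv D22772))
theorem E9920 : n33187 = n14371 := (((F89813).symm.trans (sb E9408 D33187))).symm
theorem F196357 : act 6 n20820 = n30129 := (sb E9409 (iv D43921))
theorem E9922 : n32990 = n14374 := ((((iv F63124)).symm.trans (sb E9410 (iv F139268)))).symm
theorem F196360 : act 2 n20744 = n14292 := (sb E9412 F89644)
theorem E9924 : n30254 = n30201 := ((((iv F128170)).symm.trans (sb E9412 (iv F128369)))).symm
theorem F196361 : act 7 n20744 = n14286 := (sb E9412 (iv D20780))
theorem F196363 : act 2 n41732 = n30138 := (sb E9414 F183522)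
theorem E9925 : n32989 = n14465 := ((((iv F63482)).symm.trans (sb E9415 (iv F139264)))).symm
theorem E9927 : n30445 = n15766 := (((iv F129168)).symm.trans (sb E9416 F97170))
theorem E9928 : n30452 = n30251 := (((iv F129195)).symm.trans (sb E9416 (iv F128360)))
theorem F196364 : act 6 n20912 = n15556 := (sb E9416 (iv D22640))
theorem E9931 : n30354 = n15721 := ((((iv F68683)).symm.trans (sb E9418 F184629))).symm
theorem E9932 : n30361 = n30206 := ((((iv F128191)).symm.trans (sb E9419 F184659))).symm
theorem F196365 : act 0 n22641 = n30336 := (sb E9420 F184672)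
theorem F196367 : act 9 n20851 = n15556 := (sb E9421 F96996)
theorem E9934 : n30832 = n16030 := ((((iv F69945)).symm.trans (sb E9422 F184590))).symm
theorem E9935 : n30347 = n16001 := ((((iv F69826)).symm.trans (sb E9422 F184595))).symm
theorem F196368 : act 0 n20854 = n30323 := (sb E9423 F184616)
theorem E9936 : n30352 = n30322 := ((((iv F128665)).symm.trans (sb E9423 F184619))).symm
theorem F196371 : act 3 n20845 = n15615 := (sb E9425 (iv D22727))
theorem F196372 : act 9 n20845 = n15644 := (sb E9425 F97555)
theorem F196373 : act 0 n41766 = n30331 := (sb E9426 F184651)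
theorem F196375 : act 0 n43922 = n30333 := (sb E9427 F184660)
theorem F196378 : act 3 n20849 = n30100 := (sb E9428 (iv D43876))
theorem E9938 : n30245 = n30207 := ((((iv F128195)).symm.trans (sb E9430 F183968))).symm
theorem F196382 : act 0 n20749 = n14292 := (sb E9432 F89621)
theorem F196383 : act 3 n20749 = n14284 := (sb E9432 F89623)
theorem F196384 : act 7 n20749 = n14281 := (sb E9432 (iv D20774))
theorem E9939 : n30249 = n30210 := (((D30210).symm.trans (sb E9432 D30249))).symm
theorem F196385 : act 0 n20748 = n30139 := (sb E9433 F183486)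
theorem F196387 : act 0 n41737 = n30138 := (sb E9435 F183483)
theorem F196388 : act 3 n41737 = n30360 := (sb E9435 F183485)
theorem F196389 : act 0 n43878 = n30140 := (sb E9436 F183491)
theorem F196394 : act 2 n20775 = n30220 := (sb E9438 F184015)
theorem E9940 : n33407 = n14623 := (((F90227).symm.trans (sb E9443 (iv F140943)))).symm
theorem E9941 : n30502 = n30461 := ((((iv F129228)).symm.trans (sb E9443 (iv F129367)))).symm
theorem F196401 : act 6 n20918 = n15750 := (sb E9443 (iv D22932))
theorem E9944 : n33427 = n30465 := (((D30465).symm.trans (sb E9443 D33427))).symm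
theorem F196402 : act 6 n20925 = n30235 := (sb E9444 (iv D44081))
theorem E9946 : n30839 = n16135 := (((iv F130688)).symm.trans (sb E9445 F98330))
theorem F196403 : act 1 n21181 = n15750 := (sb E9445 F98331)
theorem F196404 : act 3 n21181 = n15745 := (sb E9445 (iv D22922))
theorem E9947 : n30855 = n30492 := (((iv F130766)).symm.trans (sb E9445 (iv F129325)))
theorem E9948 : n33408 = n30859 := (((D30859).symm.trans (sb E9445 D33408))).symm
theorem F196405 : act 7 n20944 = n30323 := (sb E9446 (iv D44212))
theorem E9950 : n30442 = n30370 := (((iv F129159)).symm.trans (sb E9446 F184697))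
theorem F196406 : act 2 n22933 = n30336 := (sb E9447 F184710)
theorem F196407 : act 7 n22933 = n30326 := (sb E9447 F184713)
theorem F196411 : act 9 n41831 = n30382 := (sb E9449 F184745)
theorem F196414 : act 6 n44082 = n30475 := (sb E9450 F184751)
theorem F196415 : act 7 n44082 = n30333 := (sb E9450 F184752)
theorem F196416 : act 9 n20864 = n30235 := (sb E9451 F183929)
theorem E9952 : n30886 = n30837 := ((((iv F130682)).symm.trans (sb E9452 (iv F130888)))).symm
theorem E9956 : n30852 = n30346 := (((iv F130756)).symm.trans (sb E9453 (iv D44243)))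
theorem F196417 : act 3 n20844 = n30323 := (sb E9454 F184683)
theorem F196418 : act 1 n41922 = n30854 := (sb E9455 F184689)
theorem F196420 : act 5 n41922 = n30323 := (sb E9455 (iv D44211))
theorem F196421 : act 9 n41922 = n30369 := (sb E9455 F184692)
theorem F196422 : act 0 n44213 = n30368 := (sb E9457 F184862)
theorem F196423 : act 7 n44213 = n30503 := (sb E9457 F184864)
theorem F196424 : act 2 n20772 = n30216 := (sb E9459 F184002)
theorem F196425 : act 0 n44052 = n30253 := (sb E9460 F184156)
theorem F196426 : act 2 n44052 = n30244 := (sb E9460 F184157)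
theorem F196430 : act 7 n41792 = n30138 := (sb E9463 (iv D43936))
theorem F196431 : act 0 n43938 = n30208 := (sb E9464 F183934)
theorem E9957 : n31048 = n30846 := ((((iv F130726)).symm.trans (sb E9466 (iv F131483)))).symm
theorem E9968 : n16048 = n15607 := (((D15607).symm.trans (sb E9471 F97752))).symm
theorem E9974 : n33100 = n16050 := (((iv F139744)).symm.trans (sb E9474 F97760))
theorem E9975 : n33194 = n33108 := (((D33108).symm.trans (sb E9474 D33194))).symm
theorem E9977 : n33195 = n33109 := (((D33109).symm.trans (sb E9474 D33195))).symm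
theorem E9978 : n15783 = n15719 := ((((iv F68676)).symm.trans (sb E9475 F97816))).symm
theorem F196440 : act 1 n22726 = n15664 := (sb E9476 F97821)
theorem E9983 : n15781 = n7519 := ((((iv F34220)).symm.trans (sb E9478 F97222))).symm
theorem E9985 : n15769 = n15712 := ((((iv F68647)).symm.trans (sb E9479 (iv F68855)))).symm
theorem F196446 : act 4 n10810 = n7478 := (sb E9479 F48327)
theorem F196447 : act 7 n10810 = n7476 := (sb E9479 (iv D10853))
theorem E9989 : n15880 = n15782 := ((((iv D22980)).symm.trans (sb E9482 F98873))).symm
theorem E9994 : n33357 = n15785 := (((D15785).symm.trans (sb E9483 D33357))).symm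
theorem F196456 : act 0 n10852 = n7530 := (sb E9485 F48601)
theorem E9997 : n15869 = n15768 := ((((iv F68851)).symm.trans (sb E9485 (iv F69275)))).symm
theorem F196457 : act 3 n10852 = n7522 := (sb E9485 F48603)
theorem E9998 : n15876 = n7561 := (((F48324).symm.trans (sb E9485 (iv F69303)))).symm
theorem E9999 : n15730 = n7549 := (((iv F68715)).symm.trans (sb E9485 F48605))
theorem F196458 : act 0 n10844 = n15724 := (sb E9487 F98164)
theorem E10000 : n33328 = n7654 := (((F48295).symm.trans (sb E9487 (iv F140673)))).symm
theorem E10002 : n15753 = n15722 := ((((iv F68687)).symm.trans (sb E9487 F98167))).symm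
theorem F196459 : act 0 n10819 = n7478 := (sb E9489 F48280)
theorem F196460 : act 3 n10819 = n7470 := (sb E9489 F48282)
theorem F196461 : act 7 n10819 = n7467 := (sb E9489 (iv D10840))
theorem E10004 : n15764 = n15732 := (((D15732).symm.trans (sb E9489 D15764))).symm
theorem E10005 : n33156 = n7624 := (((F48186).symm.trans (sb E9490 (iv F139982)))).symm
theorem F196464 : act 1 n11023 = n15992 := (sb E9492 F99786)
theorem E10009 : n33938 = n16032 := (((D16032).symm.trans (sb E9492 D33938))).symm
theorem E10010 : n16026 = n15991 := ((((iv F69777)).symm.trans (sb E9492 F99789))).symm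
theorem F196465 : act 6 n11004 = n15632 := (sb E9493 (iv D22752))
theorem F196466 : act 0 n22729 = n15648 := (sb E9494 F97692)
theorem E10012 : n33171 = n33124 := (((D33124).symm.trans (sb E9494 D33171))).symm
theorem F196467 : act 6 n22729 = n15636 := (sb E9494 F97695)
theorem E10023 : n33411 = n16108 := (((F98239).symm.trans (sb E9499 (iv F140958)))).symm
theorem E10025 : n33365 = n15754 := (((iv F140811)).symm.trans (sb E9499 F98383))
theorem E10026 : n33431 = n15889 := (((F98241).symm.trans (sb E9499 (iv F141033)))).symm
theorem F196468 : act 6 n22895 = n15752 := (sb E9499 F98384)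
theorem F196469 : act 4 n10841 = n15735 := (sb E9500 F98273)
theorem E10028 : n33382 = n7550 := (((F48287).symm.trans (sb E9500 (iv F140863)))).symm
theorem E10030 : n15942 = n15899 := ((((iv F69393)).symm.trans (sb E9501 F98426))).symm
theorem E10034 : n33980 = n33412 := (((D33412).symm.trans (sb E9503 D33980))).symm
theorem E10036 : n33981 = n33413 := (((D33413).symm.trans (sb E9503 D33981))).symm
theorem E10038 : n34021 = n33952 := (((D33952).symm.trans (sb E9505 D34021))).symm
theorem E10040 : n34022 = n33953 := (((D33953).symm.trans (sb E9505 D34022))).symm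
theorem E10043 : n33976 = n33159 := (((D33159).symm.trans (sb E9506 D33976))).symm
theorem E10044 : n33409 = n7692 := (((F48628).symm.trans (sb E9507 (iv F140949)))).symm
theorem E10045 : n15928 = n15885 := ((((iv F69343)).symm.trans (sb E9507 F98376))).symm
theorem E10047 : n15897 = n7547 := (((iv F69387)).symm.trans (sb E9508 (iv D10958)))
theorem E10051 : n16104 = n15746 := (((iv F70246)).symm.trans (sb E9510 F98336))
theorem F196476 : act 6 n11072 = n15745 := (sb E9510 (iv D22923))
theorem F196477 : act 4 n10834 = n15724 := (sb E9511 F98226)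
theorem F196478 : act 7 n11093 = n15992 := (sb E9515 (iv D23289))
theorem E10058 : n16080 = n16033 := (((iv F70150)).symm.trans (sb E9515 F99821))
theorem E10085 : n17604 = n7636 := ((((iv F34705)).symm.trans (sb E9528 F108096))).symm
theorem E10091 : n15738 = n8475 := (((iv F68743)).symm.trans (sb E9531 F53522))
theorem E10096 : n37325 = n3665 := ((((iv F17449)).symm.trans (sb E9535 (iv F156418)))).symm
theorem E10099 : n8471 = n7533 := (((D7533).symm.trans (sb E9536 F54291))).symm
theorem E10102 : n18192 = n7620 := ((((iv F34640)).symm.trans (sb E9538 F109075))).symm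
theorem E10105 : n8464 = n7634 := (((D7634).symm.trans (sb E9539 F53485))).symm
theorem F196482 : act 5 n5842 = n7458 := (sb E9541 (iv D10824))
theorem E10128 : n37326 = n7703 := ((((iv F34947)).symm.trans (sb E9553 (iv F156422)))).symm
theorem E10129 : n17890 = n7707 := ((((iv F34963)).symm.trans (sb E9553 F109156))).symm
theorem E10131 : n17909 = n15909 := (((D15909).symm.trans (sb E9554 D17909))).symm
theorem E10132 : n15906 = n8472 := (((iv F69422)).symm.trans (sb E9554 F54293))
theorem E10135 : n33857 = n29692 := ((((iv F193113)).symm.trans (sb E9556 (iv F142729)))).symm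
theorem E10139 : n18193 = n16099 := ((((iv F70225)).symm.trans (sb E9557 F109078))).symm
theorem E10140 : n17591 = n16118 := ((((iv F70289)).symm.trans (sb E9557 F109080))).symm
theorem E10142 : n17605 = n16128 := (((D16128).symm.trans (sb E9558 D17605))).symm
theorem E10143 : n16125 = n8465 := (((iv F70318)).symm.trans (sb E9558 F53488))
theorem E10144 : n17606 = n16129 := (((D16129).symm.trans (sb E9558 D17606))).symm
theorem E10147 : n33394 = n8476 := (((D8476).symm.trans (sb E9560 D33394))).symm
theorem E10148 : n17552 = n15794 := (((iv F76146)).symm.trans (sb E9561 F98314))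
theorem E10150 : n33966 = n18195 := (((D18195).symm.trans (sb E9563 D33966))).symm
theorem E10153 : n33995 = n17593 := (((D17593).symm.trans (sb E9564 D33995))).symm
theorem E10158 : n34003 = n8338 := (((D8338).symm.trans (sb E9567 D34003))).symm
theorem E10159 : n17543 = n16074 := (((iv F76116)).symm.trans (sb E9568 F100002))
theorem F196497 : act 7 n12068 = n15664 := (sb E9570 F97863)
theorem E10173 : n36940 = n34011 := (((D34011).symm.trans (sb E9577 D36940))).symm
theorem E10174 : n17370 = n16072 := (((iv F75438)).symm.trans (sb E9578 F99992))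
theorem F196504 : act 5 n11950 = n15664 := (sb E9580 F97853)
theorem E10176 : n18191 = n7686 := ((((iv F34881)).symm.trans (sb E9581 F109071))).symm
theorem E10179 : n17884 = n3714 := (((F24672).symm.trans (sb E9582 (iv F77436)))).symm
theorem E10180 : n8462 = n7705 := ((((iv F34957)).symm.trans (sb E9582 (iv D12292)))).symm
theorem F196505 : act 5 n5840 = n7534 := (sb E9584 F48679)
theorem E10184 : n8427 = n7568 := (((iv F38007)).symm.trans (sb E9584 F48680))
theorem E10186 : n16095 = n8606 := (((iv F70209)).symm.trans (sb E9587 F55056))
theorem E10188 : n16116 = n8457 := (((iv F70282)).symm.trans (sb E9588 F53460))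
theorem F196508 : act 5 n5836 = n7635 := (sb E9590 F49296)
theorem E10198 : n16040 = n8569 := ((((iv F38571)).symm.trans (sb E9596 F99856))).symm
theorem E10201 : n16061 = n8307 := ((((iv F37548)).symm.trans (sb E9598 F99942))).symm
theorem F196514 : act 9 n11043 = n8332 := (sb E9599 F53331)
theorem E10205 : n16070 = n8309 := (((D8309).symm.trans (sb E9602 D16070))).symm
theorem E10210 : n17973 = n16041 := (((D16041).symm.trans (sb E9608 D17973))).symm
theorem E10212 : n17365 = n16062 := (((D16062).symm.trans (sb E9610 D17365))).symm
theorem F196522 : act 0 n11050 = n8237 := (sb E9612 F52891)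
theorem F196524 : act 0 n23406 = n17350 := (sb E9624 F107665)
theorem E10234 : n36769 = n34123 := (((D34123).symm.trans (sb E9624 (iv F154317)))).symm
theorem E10235 : n36778 = n34124 := (((D34124).symm.trans (sb E9624 D36778))).symm
theorem E10236 : n34120 = n17501 := (((iv F143797)).symm.trans (sb E9624 F107668))
theorem E10237 : n36779 = n34125 := (((D34125).symm.trans (sb E9624 D36779))).symm
theorem E10241 : n37136 = n34129 := (((D34129).symm.trans (sb E9625 D37136))).symm
theorem E10271 : n18084 = n8519 := (((F52931).symm.trans (sb E9641 (iv F78259)))).symm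
theorem E10272 : n18097 = n17383 := (((D17383).symm.trans (sb E9641 D18097))).symm
theorem E10275 : n38436 = n36749 := ((((iv F154233)).symm.trans (sb E9642 D38436))).symm
theorem E10278 : n38437 = n36800 := (((D36800).symm.trans (sb E9642 D38437))).symm
theorem E10314 : n18292 = n17758 := (((D17758).symm.trans (sb E9661 F109434))).symm
theorem E10317 : n17561 = n8653 := ((((iv D12571)).symm.trans (sb E9662 F108699))).symm
theorem F196544 : act 6 n12571 = n17513 := (sb E9662 F108701)
theorem E10319 : n37164 = n18298 := (((D18298).symm.trans (sb E9662 D37164))).symm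
theorem E10320 : n18086 = n8586 := (((F53393).symm.trans (sb E9664 (iv F78267)))).symm
theorem E10322 : n18100 = n17564 := (((D17564).symm.trans (sb E9664 D18100))).symm
theorem E10325 : n38442 = n37167 := (((D37167).symm.trans (sb E9666 D38442))).symm
theorem E10326 : n18054 = n17981 := ((((iv F77840)).symm.trans (sb E9667 (iv F78148)))).symm
theorem E10327 : n18002 = n8879 := ((D18002).symm.trans (sb E9667 F54793))
theorem E10331 : n36873 = n18103 := (((D18103).symm.trans (sb E9669 D36873))).symm
theorem E10334 : n8650 = n8436 := ((((iv F38043)).symm.trans (sb E9671 F53613))).symm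
theorem F196555 : act 6 n5964 = n8317 := (sb E9673 F53392)
theorem E10338 : n17562 = n8654 := (((D8654).symm.trans (sb E9673 D17562))).symm
theorem F196556 : act 4 n12084 = n8367 := (sb E9674 F53626)
theorem F196559 : act 4 n12075 = n8568 := (sb E9676 F54830)
theorem E10342 : n8641 = n4133 := (((F26841).symm.trans (sb E9679 (iv F38815)))).symm
theorem F196568 : act 5 n5821 = n4050 := (sb E9680 F27011)
theorem F196569 : act 7 n5821 = n4049 := (sb E9680 (iv D5861))
theorem E10346 : n16212 = n11145 := (((F68954).symm.trans (sb E9683 F98609))).symm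
theorem E10370 : n8646 = n5958 := ((((iv F27366)).symm.trans (sb E9694 (iv D12563)))).symm
theorem E10373 : n4351 = n3018 := (((F20018).symm.trans (sb E9695 F28276))).symm
theorem E10376 : n18056 = n12406 := ((((iv F54709)).symm.trans (sb E9697 (iv F78155)))).symm
theorem E10377 : n8881 = n6125 := (((F38526).symm.trans (sb E9697 F54799))).symm
theorem E10387 : n17830 = n8651 := ((((iv D12569)).symm.trans (sb E9704 F110073))).symm
theorem E10403 : n8688 = n8642 := ((((iv F38819)).symm.trans (sb E9713 F54086))).symm
theorem E10404 : n17824 = n4177 := (((F27384).symm.trans (sb E9713 (iv F77203)))).symm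
theorem E10407 : n17845 = n8503 := (((D8503).symm.trans (sb E9714 D17845))).symm
theorem E10409 : n18124 = n8621 := ((((iv F38754)).symm.trans (sb E9716 (iv F78409)))).symm
theorem E10411 : n18154 = n8645 := (((D8645).symm.trans (sb E9716 D18154))).symm
theorem F196593 : act 2 n12407 = n17991 := (sb E9727 F111400)
theorem E10436 : n8668 = n8619 := ((((iv F38747)).symm.trans (sb E9733 (iv F38909)))).symm
theorem E10437 : n8684 = n4170 := (((F27358).symm.trans (sb E9733 (iv F38978)))).symm
theorem E10438 : n8590 = n4164 := (((iv F38649)).symm.trans (sb E9733 F27467))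
theorem E10441 : n8480 = n4142 := ((((iv F19463)).symm.trans (sb E9734 F54072))).symm
theorem F196598 : act 5 n5848 = n4094 := (sb E9735 (iv D5927))
theorem F196600 : act 1 n5826 = n4050 := (sb E9737 F26986)
theorem F196601 : act 4 n5826 = n4046 := (sb E9737 F26988)
theorem F196602 : act 7 n5826 = n4044 := (sb E9737 (iv D5855))
theorem E10444 : n8494 = n8449 := (((D8449).symm.trans (sb E9737 D8494))).symm
theorem F196604 : act 2 n5941 = n8578 := (sb E9739 F54881)
theorem E10446 : n8613 = n8576 := ((((iv F38599)).symm.trans (sb E9739 F54884))).symm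
theorem F196605 : act 2 n5922 = n4114 := (sb E9741 F27338)
theorem E10448 : n8633 = n8592 := (((D8592).symm.trans (sb E9741 D8633))).symm
theorem F196608 : act 2 n5912 = n8542 := (sb E9746 F54670)
theorem E10452 : n18043 = n8577 := (((D8577).symm.trans (sb E9746 D18043))).symm
theorem F196609 : act 2 n5923 = n8559 := (sb E9748 F54749)
theorem F196610 : act 2 n12361 = n8543 := (sb E9751 F54675)
theorem E10580 : n8705 = n8481 := (((iv F39057)).symm.trans (sb E9813 F54347))
theorem F196618 : act 5 n5856 = n8450 := (sb E9815 F54151)
theorem E10587 : n18216 = n18139 := (((D18139).symm.trans (sb E9818 D18216))).symm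
theorem F196621 : act 6 n12487 = n8632 := (sb E9820 F55196)
theorem F196622 : act 4 n12123 = n8604 := (sb E9823 F55033)
theorem F196623 : act 7 n12515 = n17991 := (sb E9828 F111465)
theorem F196625 : act 4 n12400 = n17991 := (sb E9840 F111448)
theorem E10628 : n8726 = n8675 := ((((iv F38942)).symm.trans (sb E9850 F55091))).symm
theorem E10630 : n8744 = n4199 := (((F27490).symm.trans (sb E9851 (iv F39205)))).symm
theorem E10634 : n8477 = n4203 := ((((iv F19708)).symm.trans (sb E9853 (iv D12313)))).symm
theorem F196626 : act 5 n5846 = n4143 := (sb E9854 F27516)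
theorem E10653 : n38219 = n8865 := ((((iv F39748)).symm.trans (sb E9871 D38219))).symm
theorem F196628 : act 2 n30204 = n20791 := (sb E9916 F128379)
theorem E10731 : n44111 = n44032 := ((((iv F183971)).symm.trans (sb E9916 (iv F184261)))).symm
theorem F196629 : act 7 n30204 = n20781 := (sb E9916 F128381)
theorem E10732 : n44118 = n44036 := (((D44036).symm.trans (sb E9916 D44118))).symm
theorem E10733 : n23346 = n21166 := (((iv F100064)).symm.trans (sb E9917 F128606))
theorem E10734 : n44188 = n21223 := ((((iv F91442)).symm.trans (sb E9917 D44188))).symm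
theorem E10736 : n23370 = n20903 := ((D23370).symm.trans (sb E9917 F128610))
theorem F196632 : act 3 n30312 = n20855 := (sb E9918 F128851)
theorem E10738 : n44276 = n41883 := ((((iv F175069)).symm.trans (sb E9918 D44276))).symm
theorem F196633 : act 6 n30312 = n20854 := (sb E9918 (iv D30367))
theorem E10739 : n44277 = n20905 := (((F128619).symm.trans (sb E9918 D44277))).symm
theorem E10740 : n44278 = n44195 := (((D44195).symm.trans (sb E9918 D44278))).symm
theorem E10741 : n22956 = n20906 := (((D20906).symm.trans (sb E9920 F140118))).symm
theorem E10742 : n44105 = n20910 := ((((iv F90199)).symm.trans (sb E9922 (iv F184241)))).symm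
theorem F196635 : act 2 n30201 = n20787 := (sb E9924 F128368)
theorem E10743 : n44109 = n44030 := (((D44030).symm.trans (sb E9924 (iv F184254)))).symm
theorem F196636 : act 7 n30201 = n20778 := (sb E9924 (iv D30254))
theorem E10744 : n22955 = n21038 := ((((iv F90693)).symm.trans (sb E9925 F139263))).symm
theorem F196637 : act 0 n15766 = n20918 := (sb E9927 F129167)
theorem E10745 : n44382 = n11114 := (((F68846).symm.trans (sb E9927 (iv F185382)))).symm
theorem F196638 : act 2 n15766 = n20912 := (sb E9927 F129168)
theorem E10746 : n44392 = n20960 := ((((iv F90377)).symm.trans (sb E9927 (iv F185425)))).symm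
theorem E10747 : n44396 = n22957 := (((D22957).symm.trans (sb E9927 D44396))).symm
theorem E10748 : n22888 = n20947 := (((iv F98216)).symm.trans (sb E9927 F129171))
theorem F196639 : act 0 n30251 = n20925 := (sb E9928 F129193)
theorem E10749 : n44404 = n44104 := (((D44104).symm.trans (sb E9928 (iv F185466)))).symm
theorem E10750 : n44406 = n44106 := (((D44106).symm.trans (sb E9928 D44406))).symm
theorem E10751 : n44037 = n20954 := (((iv F183993)).symm.trans (sb E9928 F129196))
theorem E10752 : n44246 = n11069 := (((F68681).symm.trans (sb E9931 (iv F184823)))).symm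
theorem F196643 : act 2 n15721 = n20851 := (sb E9931 F128793)
theorem E10753 : n44256 = n20915 := ((((iv F90218)).symm.trans (sb E9931 (iv F184870)))).symm
theorem F196644 : act 7 n15721 = n20845 := (sb E9931 (iv D30354))
theorem E10754 : n44260 = n22889 := (((D22889).symm.trans (sb E9931 D44260))).symm
theorem F196645 : act 0 n30206 = n20864 := (sb E9932 F128823)
theorem F196646 : act 4 n30206 = n20851 := (sb E9932 F128825)
theorem E10755 : n44268 = n41802 := ((((iv F174748)).symm.trans (sb E9932 (iv F184922)))).symm
theorem F196647 : act 7 n30206 = n20849 := (sb E9932 (iv D30361))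
theorem E10756 : n44270 = n44038 := (((D44038).symm.trans (sb E9932 D44270))).symm
theorem F196648 : act 1 n16030 = n21169 := (sb E9934 F130657)
theorem E10757 : n44966 = n21207 := ((((iv F91370)).symm.trans (sb E9934 (iv F187594)))).symm
theorem E10759 : n44969 = n23347 := (((D23347).symm.trans (sb E9934 D44969))).symm
theorem E10760 : n23286 = n21203 := (((iv F99807)).symm.trans (sb E9934 F130661))
theorem F196649 : act 1 n16001 = n20845 := (sb E9935 F128763)
theorem E10761 : n44244 = n21178 := ((((iv F91252)).symm.trans (sb E9935 (iv F184816)))).symm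
theorem F196650 : act 6 n16001 = n20842 := (sb E9935 (iv D30347))
theorem E10762 : n44247 = n23303 := (((D23303).symm.trans (sb E9935 D44247))).symm
theorem F196651 : act 0 n30322 = n20855 := (sb E9936 F128785)
theorem F196652 : act 2 n30322 = n20849 := (sb E9936 F128786)
theorem F196653 : act 4 n30322 = n20845 := (sb E9936 F128787)
theorem E10763 : n44255 = n41893 := ((((iv F175120)).symm.trans (sb E9936 D44255))).symm
theorem F196654 : act 6 n30322 = n20844 := (sb E9936 (iv D30352))
theorem E10764 : n44257 = n44210 := (((D44210).symm.trans (sb E9936 D44257))).symm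
theorem F196655 : act 0 n30207 = n20787 := (sb E9938 F128332)
theorem E10765 : n44096 = n44039 := (((D44039).symm.trans (sb E9938 (iv F184205)))).symm
theorem F196656 : act 7 n30207 = n20772 := (sb E9938 (iv D30245))
theorem E10766 : n44098 = n44041 := (((D44041).symm.trans (sb E9938 D44098))).symm
theorem F196657 : act 0 n30210 = n20791 := (sb E9939 F128347)
theorem E10768 : n23499 = n21265 := ((((iv F91588)).symm.trans (sb E9940 F140942))).symm
theorem E10769 : n44461 = n21281 := ((((iv F91656)).symm.trans (sb E9940 (iv F185642)))).symm
theorem E10770 : n44413 = n20945 := (((iv F185497)).symm.trans (sb E9941 F129366))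
theorem E10771 : n44479 = n44417 := ((((iv F185511)).symm.trans (sb E9941 D44479))).symm
theorem F196659 : act 6 n30461 = n20944 := (sb E9941 (iv D30502))
theorem E10773 : n44481 = n44419 := (((D44419).symm.trans (sb E9941 D44481))).symm
theorem F196660 : act 6 n30465 = n22933 := (sb E9944 F141020)
theorem F196661 : act 0 n16135 = n21181 := (sb E9946 F130688)
theorem F196662 : act 2 n16135 = n21175 := (sb E9946 F130689)
theorem E10775 : n44978 = n21312 := ((((iv F91759)).symm.trans (sb E9946 (iv F187647)))).symm
theorem F196663 : act 7 n16135 = n21169 := (sb E9946 (iv D30839))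
theorem E10776 : n44982 = n23500 := (((D23500).symm.trans (sb E9946 D44982))).symm
theorem E10777 : n23417 = n21210 := (((iv F100349)).symm.trans (sb E9946 F130693))
theorem F196664 : act 2 n30492 = n21188 := (sb E9947 F130765)
theorem F196665 : act 4 n30492 = n21181 := (sb E9947 F130766)
theorem E10779 : n45003 = n42027 := ((((iv F175693)).symm.trans (sb E9947 (iv F187760)))).symm
theorem F196666 : act 7 n30492 = n21179 := (sb E9947 (iv D30855))
theorem E10780 : n45005 = n44462 := (((D44462).symm.trans (sb E9947 D45005))).symm
theorem E10781 : n44379 = n21226 := (((iv F185371)).symm.trans (sb E9947 F130768))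
theorem F196667 : act 1 n30859 = n22933 := (sb E9948 F140946)
theorem E10782 : n44281 = n41977 := (((iv F184972)).symm.trans (sb E9950 (iv F175483)))
theorem E10783 : n44390 = n44283 := (((D44283).symm.trans (sb E9950 D44390))).symm
theorem E10784 : n44975 = n21202 := (((iv F187634)).symm.trans (sb E9952 (iv D30886)))
theorem E10785 : n44977 = n42402 := ((D44977).symm.trans (sb E9952 (iv F177249)))
theorem E10787 : n45048 = n44979 := (((D44979).symm.trans (sb E9952 D45048))).symm
theorem F196669 : act 3 n30346 = n21179 := (sb E9956 F130756)
theorem E10789 : n44998 = n41917 := ((((iv F175236)).symm.trans (sb E9956 D44998))).symm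
theorem E10790 : n45000 = n44245 := (((D44245).symm.trans (sb E9956 D45000))).symm
theorem E10791 : n44990 = n42619 := (((iv F187704)).symm.trans (sb E9957 (iv F178124)))
theorem E10793 : n45291 = n44992 := (((D44992).symm.trans (sb E9957 D45291))).symm
theorem E10796 : n23374 = n10806 := (((F68204).symm.trans (sb E9968 D23374))).symm
theorem E10797 : n23375 = n22716 := (((D22716).symm.trans (sb E9968 D23375))).symm
theorem E10799 : n23350 = n23283 := (((iv F100079)).symm.trans (sb E9974 F139743))
theorem E10800 : n23376 = n22869 := (((iv F100191)).symm.trans (sb E9974 F139747))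
theorem F196673 : act 1 n33108 = n23377 := (sb E9975 F140142)
theorem F196676 : act 1 n33109 = n23378 := (sb E9977 F140144)
theorem F196677 : act 4 n33109 = n22781 := (sb E9977 F140146)
theorem F196678 : act 6 n33109 = n22778 := (sb E9977 F140147)
theorem E10802 : n22979 = n10918 := (((F68675).symm.trans (sb E9978 (iv F98534)))).symm
theorem E10803 : n22983 = n22887 := (((D22887).symm.trans (sb E9978 D22983))).symm
theorem E10804 : n22960 = n10911 := ((((iv F48578)).symm.trans (sb E9983 (iv F98467)))).symm
theorem E10805 : n10980 = n10915 := ((((iv F48594)).symm.trans (sb E9983 F68897))).symm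
theorem F196690 : act 4 n15712 = n10846 := (sb E9985 F68856)
theorem F196691 : act 7 n15712 = n10844 := (sb E9985 (iv D15769))
theorem E10808 : n23111 = n22961 := ((((iv F98471)).symm.trans (sb E9989 (iv F99094)))).symm
theorem E10809 : n23121 = n10981 := (((F68900).symm.trans (sb E9989 (iv F99130)))).symm
theorem E10811 : n22954 = n22907 := ((((iv F98280)).symm.trans (sb E9994 F140783))).symm
theorem F196714 : act 0 n15768 = n10923 := (sb E9997 F69274)
theorem E10812 : n23097 = n11116 := (((F68850).symm.trans (sb E9997 (iv F99034)))).symm
theorem E10813 : n23107 = n10967 := (((F68852).symm.trans (sb E9997 (iv F99077)))).symm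
theorem E10814 : n22890 = n10952 := (((iv F98223)).symm.trans (sb E9997 F69277))
theorem F196715 : act 0 n7561 = n10930 := (sb E9998 F69300)
theorem E10816 : n10959 = n10929 := ((((iv F48652)).symm.trans (sb E9998 F69305))).symm
theorem F196716 : act 5 n7549 = n10819 := (sb E9999 (iv D15730))
theorem F196717 : act 9 n7549 = n10852 := (sb E9999 F68715)
theorem E10818 : n23420 = n11099 := ((((iv F49344)).symm.trans (sb E10000 F140672))).symm
theorem E10819 : n22925 = n11070 := ((((iv F49243)).symm.trans (sb E10000 F140676))).symm
theorem F196718 : act 0 n15722 = n10846 := (sb E10002 F68796)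
theorem F196719 : act 7 n15722 = n10834 := (sb E10002 (iv D15753))
theorem E10820 : n22939 = n22892 := (((D22892).symm.trans (sb E10002 D22939))).symm
theorem F196721 : act 7 n15732 = n10841 := (sb E10004 F68840)
theorem E10821 : n23339 = n11059 := ((((iv F49195)).symm.trans (sb E10005 F139981))).symm
theorem F196723 : act 1 n16032 = n23290 := (sb E10009 F143066)
theorem F196724 : act 1 n15991 = n11024 := (sb E10010 F69930)
theorem E10822 : n23340 = n23288 := (((D23288).symm.trans (sb E10010 D23340))).symm
theorem F196730 : act 8 n33124 = n44261 := (sb E10012 (iv F184891))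
theorem E10827 : n23503 = n23434 := ((((iv F100408)).symm.trans (sb E10023 F140957))).symm
theorem F196731 : act 6 n16108 = n22924 := (sb E10023 F140961)
theorem F196734 : act 4 n15754 = n22895 := (sb E10025 F140811)
theorem E10829 : n23200 = n23134 := ((((iv F99188)).symm.trans (sb E10026 F141032))).symm
theorem E10830 : n23151 = n10960 := ((((iv F48778)).symm.trans (sb E10028 F140862))).symm
theorem E10831 : n23219 = n23154 := (((D23154).symm.trans (sb E10030 D23219))).symm
theorem F196741 : act 6 n33412 = n23463 := (sb E10034 F143246)
theorem F196745 : act 6 n33413 = n23464 := (sb E10036 F143250)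
theorem F196747 : act 8 n33413 = n23383 := (sb E10036 F143252)
theorem F196752 : act 7 n33952 = n23504 := (sb E10038 F143418)
theorem F196754 : act 1 n33953 = n23352 := (sb E10040 F143419)
theorem F196756 : act 7 n33953 = n23505 := (sb E10040 F143423)
theorem F196761 : act 8 n33159 = n23378 := (sb E10043 F143235)
theorem E10833 : n23501 = n11156 := ((((iv F49546)).symm.trans (sb E10044 F140948))).symm
theorem E10834 : n23178 = n11172 := ((((iv F49617)).symm.trans (sb E10044 F140951))).symm
theorem E10835 : n23194 = n23128 := ((((iv F99163)).symm.trans (sb E10045 (iv F99427)))).symm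
theorem E10836 : n23132 = n10950 := (((iv F99180)).symm.trans (sb E10045 (iv D15928)))
theorem F196762 : act 5 n7547 = n10930 := (sb E10047 F69387)
theorem F196765 : act 4 n15746 = n11072 := (sb E10051 F70246)
theorem E10844 : n23419 = n23353 := (((D23353).symm.trans (sb E10058 D23419))).symm
theorem E10854 : n12297 = n11086 := ((((iv F49300)).symm.trans (sb E10085 F76323))).symm
theorem E10857 : n12307 = n10937 := (((iv F54296)).symm.trans (sb E10091 F68742))
theorem F196769 : act 5 n8475 = n10826 := (sb E10091 F68743)
theorem E10858 : n22914 = n12312 := (((D12312).symm.trans (sb E10091 D22914))).symm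
theorem E10861 : n26497 = n5299 := ((((iv F24611)).symm.trans (sb E10096 F156417))).symm
theorem F196771 : act 4 n7533 = n5842 := (sb E10099 F38178)
theorem F196772 : act 7 n7533 = n5840 := (sb E10099 (iv D8471))
theorem E10867 : n12502 = n11064 := ((((iv F49217)).symm.trans (sb E10102 F78654))).symm
theorem F196773 : act 0 n7634 = n5848 := (sb E10105 F38148)
theorem E10880 : n26498 = n11167 := ((((iv F49597)).symm.trans (sb E10128 F156421))).symm
theorem E10882 : n26059 = n11196 := (((D11196).symm.trans (sb E10129 D26059))).symm
theorem E10883 : n12294 = n11193 := ((((iv F49694)).symm.trans (sb E10129 F77461))).symm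
theorem E10885 : n26087 = n23167 := (((D23167).symm.trans (sb E10131 D26087))).symm
theorem E10889 : n23163 = n12309 := (((D12309).symm.trans (sb E10132 D23163))).symm
theorem E10891 : n43238 = n23267 := (((iv F180631)).symm.trans (sb E10135 F142728))
theorem E10892 : n23444 = n12503 := (((iv F100452)).symm.trans (sb E10139 F78656))
theorem E10895 : n23474 = n12284 := (((iv F100550)).symm.trans (sb E10140 F76276))
theorem E10898 : n25636 = n23491 := (((D23491).symm.trans (sb E10142 D25636))).symm
theorem E10900 : n23486 = n12299 := (((D12299).symm.trans (sb E10143 D23486))).symm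
theorem F196785 : act 2 n16129 = n12113 := (sb E10144 F76331)
theorem E10902 : n22991 = n12245 := ((((iv F54053)).symm.trans (sb E10147 F140903))).symm
theorem F196788 : act 6 n15794 = n12068 := (sb E10148 F76145)
theorem E10903 : n26375 = n23368 := (((iv F112154)).symm.trans (sb E10150 F143201))
theorem E10904 : n25526 = n23397 := (((iv F108813)).symm.trans (sb E10153 F143308))
theorem E10905 : n23405 = n12063 := ((((iv F53355)).symm.trans (sb E10158 F143344))).symm
theorem F196797 : act 2 n16074 = n12068 := (sb E10159 F76114)
theorem F196815 : act 7 n34011 = n25639 := (sb E10173 F155022)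
theorem F196817 : act 2 n16072 = n11950 := (sb E10174 F75434)
theorem F196818 : act 8 n16072 = n11975 := (sb E10174 F75438)
theorem E10910 : n12660 = n11163 := ((((iv F49578)).symm.trans (sb E10176 F78651))).symm
theorem E10915 : n12290 = n5374 := ((((iv F24926)).symm.trans (sb E10179 (iv D17884)))).symm
theorem F196819 : act 0 n7705 = n5846 := (sb E10180 F38140)
theorem E10918 : n11192 = n5835 := ((D11192).symm.trans (sb E10180 (iv D8462)))
theorem F196824 : act 9 n7568 = n5840 := (sb E10184 F38007)
theorem E10924 : n23442 = n6007 := (((F38703).symm.trans (sb E10186 (iv F100443)))).symm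
theorem E10925 : n12445 = n11108 := (((iv F54857)).symm.trans (sb E10186 F70210))
theorem E10928 : n12226 = n11129 := (((iv F53974)).symm.trans (sb E10188 F70283))
theorem F196835 : act 7 n8569 = n11028 := (sb E10198 (iv D16040))
theorem E10938 : n23393 = n12058 := (((D12058).symm.trans (sb E10201 D23393))).symm
theorem F196839 : act 7 n8309 = n11050 := (sb E10205 F70107)
theorem E10944 : n26170 = n23364 := (((D23364).symm.trans (sb E10210 D26170))).symm
theorem E10945 : n25271 = n23394 := (((D23394).symm.trans (sb E10212 D25271))).symm
theorem F196846 : act 3 n34123 = n25233 := (sb E10234 (iv D36769))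
theorem F196847 : act 7 n34123 = n25468 := (sb E10234 F154319)
theorem F196849 : act 7 n34124 = n25477 := (sb E10235 F154361)
theorem F196851 : act 7 n17501 = n23406 := (sb E10236 F143797)
theorem F196853 : act 3 n34125 = n25238 := (sb E10237 F154365)
theorem F196859 : act 3 n34129 = n25476 := (sb E10241 F155784)
theorem E10962 : n26290 = n12358 := ((((iv F54507)).symm.trans (sb E10271 (iv F111840)))).symm
theorem E10963 : n26339 = n12372 := (((D12372).symm.trans (sb E10271 D26339))).symm
theorem E10968 : n26357 = n25302 := (((D25302).symm.trans (sb E10272 D26357))).symm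
theorem F196884 : act 5 n36749 = n27288 := (sb E10275 F160857)
theorem F196886 : act 5 n36800 = n27289 := (sb E10278 F160861)
theorem E11009 : n12567 = n12254 := (((F76932).symm.trans (sb E10314 (iv D18292)))).symm
theorem E11010 : n26645 = n25863 := (((D25863).symm.trans (sb E10314 D26645))).symm
theorem E11011 : n12559 = n12473 := (((iv F55252)).symm.trans (sb E10317 F76178))
theorem E11013 : n25569 = n12572 := (((D12572).symm.trans (sb E10317 D25569))).symm
theorem F196899 : act 3 n18298 = n25495 := (sb E10319 F155881)
theorem E11015 : n12884 = n12475 := (((D12475).symm.trans (sb E10320 F78268))).symm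
theorem E11019 : n26361 = n25572 := (((D25572).symm.trans (sb E10322 D26361))).symm
theorem F196905 : act 6 n37167 = n26652 := (sb E10325 F160881)
theorem F196906 : act 7 n37167 = n26364 := (sb E10325 F160882)
theorem E11021 : n26295 = n26186 := (((D26186).symm.trans (sb E10326 D26295))).symm
theorem E11023 : n26216 = n12887 := (((D12887).symm.trans (sb E10327 D26216))).symm
theorem F196911 : act 3 n18103 = n25375 := (sb E10331 F154753)
theorem E11028 : n12250 = n6047 := (((iv F54075)).symm.trans (sb E10334 F38847))
theorem F196914 : act 5 n8436 = n5964 := (sb E10334 F38848)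
theorem F196922 : act 2 n8654 = n12084 := (sb E10338 F76183)
theorem E11034 : n12524 = n5973 := ((((iv F27415)).symm.trans (sb E10342 (iv F55139)))).symm
theorem E11035 : n6041 = n5983 := ((((iv F27458)).symm.trans (sb E10342 F38817))).symm
theorem E11037 : n23597 = n16199 := ((((iv F70564)).symm.trans (sb E10346 (iv F100963)))).symm
theorem E11038 : n11444 = n7888 := (((F49502).symm.trans (sb E10346 F70618))).symm
theorem E11070 : n6174 = n4269 := (((F27367).symm.trans (sb E10370 F38833))).symm
theorem F196948 : act 1 n3018 = n3018 := (sb E10373 (iv D4351))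
theorem E11078 : n12855 = n8857 := (((F54710).symm.trans (sb E10376 F78156))).symm
theorem E11080 : n12868 = n4235 := ((((iv D6125)).symm.trans (sb E10377 (iv F56535)))).symm
theorem E11094 : n25973 = n12570 := (((D12570).symm.trans (sb E10387 D25973))).symm
theorem E11101 : n12596 = n12525 := ((((iv F55143)).symm.trans (sb E10403 (iv F55388)))).symm
theorem E11103 : n12626 = n12558 := (((D12558).symm.trans (sb E10403 D12626))).symm
theorem E11105 : n25962 = n6048 := (((D6048).symm.trans (sb E10404 D25962))).symm
theorem E11109 : n12341 = n12272 := ((((iv F54159)).symm.trans (sb E10407 F77285))).symm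
theorem E11111 : n26401 = n12528 := (((D12528).symm.trans (sb E10409 D26401))).symm
theorem F196967 : act 2 n8645 = n12487 := (sb E10411 F78519)
theorem E11122 : n12592 = n6020 := (((F38749).symm.trans (sb E10436 (iv F55372)))).symm
theorem F196975 : act 2 n4170 = n5992 := (sb E10437 F38977)
theorem E11124 : n12613 = n2920 := (((F19557).symm.trans (sb E10437 (iv F55464)))).symm
theorem E11126 : n6029 = n5991 := ((((iv F27488)).symm.trans (sb E10437 F38980))).symm
theorem F196976 : act 5 n4164 = n5922 := (sb E10438 (iv D8590))
theorem E11127 : n12481 = n6033 := (((D6033).symm.trans (sb E10438 D12481))).symm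
theorem F196978 : act 4 n4142 = n5848 := (sb E10441 F38213)
theorem F196979 : act 7 n4142 = n5846 := (sb E10441 (iv D8480))
theorem F196982 : act 4 n8449 = n5859 := (sb E10444 F38268)
theorem F196983 : act 7 n8449 = n5856 := (sb E10444 F38270)
theorem F196984 : act 2 n8576 = n5943 := (sb E10446 F38724)
theorem E11135 : n12516 = n12460 := (((D12460).symm.trans (sb E10446 D12516))).symm
theorem F196986 : act 2 n8592 = n5960 := (sb E10448 F38790)
theorem F196989 : act 2 n8577 = n12408 := (sb E10452 F78098)
theorem E11139 : n26278 = n12461 := (((D12461).symm.trans (sb E10452 D26278))).symm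
theorem E11247 : n12647 = n12322 := (((D12322).symm.trans (sb E10580 D12647))).symm
theorem F197005 : act 6 n18139 = n12515 := (sb E10587 F78735)
theorem E11269 : n12676 = n6062 := (((F38941).symm.trans (sb E10628 (iv F55692)))).symm
theorem E11273 : n6095 = n6069 := ((((iv F27795)).symm.trans (sb E10630 F39204))).symm
theorem E11274 : n6076 = n6026 := (((iv F27833)).symm.trans (sb E10630 (iv D8744)))
theorem F197009 : act 3 n4203 = n5846 := (sb E10634 F38201)
theorem E11280 : n6081 = n5845 := ((D6081).symm.trans (sb E10634 (iv D8477)))
theorem E11290 : n12866 = n8865 := ((D12866).symm.trans (sb E10653 (tr F160014 E10653)))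
theorem F197010 : act 2 n44032 = n30268 := (sb E10731 F184260)
theorem F197011 : act 7 n44032 = n30255 := (sb E10731 F184262)
theorem F197013 : act 7 n44036 = n30260 := (sb E10732 F184282)
theorem F197014 : act 0 n21166 = n16046 := (sb E10733 F100064)
theorem E11303 : n30896 = n30831 := (((D30831).symm.trans (sb E10733 (iv F130930)))).symm
theorem F197015 : act 6 n21166 = n16030 := (sb E10733 (iv D23346))
theorem E11305 : n34035 = n14608 := (((F91196).symm.trans (sb E10733 D34035))).symm
theorem F197016 : act 1 n21223 = n30312 := (sb E10734 F184586)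
theorem E11307 : n30920 = n30437 := ((D30920).symm.trans (sb E10734 F184588))
theorem F197017 : act 9 n21223 = n30346 := (sb E10734 F184589)
theorem E11311 : n30438 = n16169 := ((D30438).symm.trans (sb E10736 F100172))
theorem F197021 : act 1 n41883 = n30919 := (sb E10738 F184954)
theorem F197022 : act 3 n41883 = n30369 := (sb E10738 F184955)
theorem E11313 : n30526 = n30443 := (((D30443).symm.trans (sb E10739 F184959))).symm
theorem F197025 : act 6 n44195 = n30368 := (sb E10740 F184962)
theorem F197026 : act 7 n20906 = n15766 := (sb E10741 (iv D22956))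
theorem E11315 : n33462 = n30446 := (((D30446).symm.trans (sb E10741 D33462))).symm
theorem F197027 : act 7 n20910 = n30251 := (sb E10742 (iv D44105))
theorem F197028 : act 2 n44030 = n30266 := (sb E10743 F184252)
theorem F197029 : act 7 n44030 = n30253 := (sb E10743 (iv D44109))
theorem E11316 : n30631 = n16168 := (((iv F129878)).symm.trans (sb E10744 F98454))
theorem E11317 : n33459 = n30641 := ((((iv F129924)).symm.trans (sb E10744 D33459))).symm
theorem F197031 : act 5 n21038 = n15766 := (sb E10744 (iv D22955))
theorem E11318 : n33461 = n30645 := (((D30645).symm.trans (sb E10744 D33461))).symm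
theorem E11320 : n30970 = n16145 := ((((iv F70387)).symm.trans (sb E10745 F185381))).symm
theorem E11321 : n30495 = n16101 := ((((iv F70238)).symm.trans (sb E10745 F185386))).symm
theorem F197032 : act 0 n20960 = n30461 := (sb E10746 F185423)
theorem E11322 : n30505 = n30458 := ((((iv F129219)).symm.trans (sb E10746 F185426))).symm
theorem F197033 : act 0 n22957 = n30465 := (sb E10747 F185436)
theorem F197035 : act 3 n20947 = n15722 := (sb E10748 F98215)
theorem F197036 : act 6 n20947 = n15721 := (sb E10748 (iv D22888))
theorem E11323 : n33360 = n30509 := (((D30509).symm.trans (sb E10748 D33360))).symm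
theorem F197037 : act 9 n20947 = n15766 := (sb E10748 F98216)
theorem F197038 : act 0 n44104 = n30473 := (sb E10749 F185463)
theorem F197039 : act 4 n44104 = n30653 := (sb E10749 F185465)
theorem F197040 : act 7 n44104 = n30451 := (sb E10749 (iv D44404))
theorem F197041 : act 9 n44104 = n30517 := (sb E10749 F185467)
theorem F197042 : act 0 n44106 = n30475 := (sb E10750 F185472)
theorem F197045 : act 3 n20954 = n30207 := (sb E10751 F183991)
theorem F197046 : act 6 n20954 = n30206 := (sb E10751 (iv D44037))
theorem F197047 : act 9 n20954 = n30251 := (sb E10751 F183993)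
theorem E11324 : n30889 = n16085 := ((((iv F70165)).symm.trans (sb E10752 F184822))).symm
theorem F197048 : act 0 n20915 = n30370 := (sb E10753 F184868)
theorem F197050 : act 2 n22889 = n30365 := (sb E10754 F184883)
theorem F197051 : act 7 n22889 = n30355 := (sb E10754 F184886)
theorem F197052 : act 0 n41802 = n30382 := (sb E10755 F184919)
theorem F197053 : act 7 n41802 = n30360 := (sb E10755 (iv D44268))
theorem F197054 : act 0 n44038 = n30384 := (sb E10756 F184927)
theorem F197055 : act 4 n44038 = n30365 := (sb E10756 F184929)
theorem F197056 : act 6 n44038 = n30519 := (sb E10756 F184930)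
theorem F197057 : act 7 n44038 = n30362 := (sb E10756 F184931)
theorem F197058 : act 1 n21207 = n30837 := (sb E10757 F187592)
theorem E11325 : n30887 = n30836 := ((((iv F130679)).symm.trans (sb E10757 F187595))).symm
theorem F197059 : act 1 n23347 = n30840 := (sb E10759 F187606)
theorem F197060 : act 0 n21203 = n16001 := (sb E10760 F99803)
theorem F197061 : act 3 n21203 = n15991 := (sb E10760 (iv D23286))
theorem E11326 : n33945 = n30890 := (((D30890).symm.trans (sb E10760 D33945))).symm
theorem F197062 : act 9 n21203 = n16030 := (sb E10760 F99807)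
theorem F197063 : act 6 n21178 = n30346 := (sb E10761 (iv D44244))
theorem F197064 : act 1 n23303 = n30355 := (sb E10762 F184829)
theorem F197065 : act 6 n23303 = n30348 := (sb E10762 F184832)
theorem F197066 : act 0 n41893 = n30369 := (sb E10763 F184865)
theorem F197067 : act 2 n41893 = n30360 := (sb E10763 F184866)
theorem F197068 : act 0 n44210 = n30371 := (sb E10764 F184872)
theorem F197069 : act 2 n44210 = n30362 := (sb E10764 F184873)
theorem F197070 : act 4 n44210 = n30355 := (sb E10764 F184874)
theorem F197071 : act 6 n44210 = n30353 := (sb E10764 F184875)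
theorem F197072 : act 0 n44039 = n30266 := (sb E10765 F184201)
theorem F197073 : act 3 n44039 = n30517 := (sb E10765 F184203)
theorem F197074 : act 7 n44039 = n30244 := (sb E10765 (iv D44096))
theorem F197075 : act 0 n44041 = n30268 := (sb E10766 F184210)
theorem E11327 : n31049 = n30980 := ((((iv F131245)).symm.trans (sb E10768 (iv F131486)))).symm
theorem F197080 : act 6 n21265 = n16135 := (sb E10768 (iv D23499))
theorem E11332 : n31001 = n30493 := (((iv F131330)).symm.trans (sb E10769 F185641))
theorem F197081 : act 6 n21281 = n30492 := (sb E10769 (iv D44461))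
theorem F197082 : act 3 n20945 = n30461 := (sb E10770 F185497)
theorem F197083 : act 0 n44417 = n30525 := (sb E10771 F185713)
theorem F197084 : act 3 n44417 = n30504 := (sb E10771 F185714)
theorem F197085 : act 0 n44419 = n30527 := (sb E10773 F185718)
theorem F197086 : act 6 n44419 = n30503 := (sb E10773 F185720)
theorem F197087 : act 2 n21312 = n30846 := (sb E10775 F187646)
theorem F197088 : act 7 n21312 = n30837 := (sb E10775 (iv D44978))
theorem E11333 : n30967 = n30899 := (((iv F131197)).symm.trans (sb E10775 F187649))
theorem F197089 : act 0 n23500 = n30859 := (sb E10776 F187661)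
theorem F197090 : act 2 n23500 = n30850 := (sb E10776 F187662)
theorem F197091 : act 7 n23500 = n30840 := (sb E10776 F187665)
theorem F197092 : act 9 n21210 = n16135 := (sb E10777 F100349)
theorem F197093 : act 2 n42027 = n30867 := (sb E10779 F187758)
theorem F197094 : act 7 n42027 = n30854 := (sb E10779 (iv D45003))
theorem F197095 : act 9 n42027 = n30924 := (sb E10779 F187761)
theorem F197097 : act 4 n44462 = n30859 := (sb E10780 F187766)
theorem F197098 : act 6 n44462 = n31007 := (sb E10780 F187767)
theorem F197099 : act 7 n44462 = n30856 := (sb E10780 F187768)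
theorem F197100 : act 9 n21226 = n30492 := (sb E10781 F185371)
theorem F197101 : act 1 n41977 = n30924 := (sb E10782 F184969)
theorem F197104 : act 7 n41977 = n30369 := (sb E10782 (iv D44281))
theorem F197105 : act 0 n44283 = n30459 := (sb E10783 F185417)
theorem F197106 : act 3 n21202 = n30837 := (sb E10784 F187634)
theorem F197107 : act 0 n42402 = n30854 := (sb E10785 F187641)
theorem F197108 : act 2 n42402 = n30845 := (sb E10785 F187642)
theorem F197109 : act 5 n42402 = n30837 := (sb E10785 (iv D44977))
theorem F197110 : act 9 n42402 = n30898 := (sb E10785 F187644)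
theorem F197111 : act 1 n44979 = n30897 := (sb E10787 F187929)
theorem F197112 : act 7 n44979 = n31050 := (sb E10787 F187931)
theorem F197113 : act 3 n41917 = n30854 := (sb E10789 F187742)
theorem F197114 : act 9 n41917 = n30919 := (sb E10789 F187743)
theorem F197115 : act 6 n44245 = n30853 := (sb E10790 F187751)
theorem F197116 : act 0 n42619 = n30867 := (sb E10791 F187700)
theorem F197117 : act 5 n42619 = n30846 := (sb E10791 F187704)
theorem F197118 : act 7 n42619 = n30845 := (sb E10791 (iv D44990))
theorem F197119 : act 9 n42619 = n30911 := (sb E10791 F187705)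
theorem F197120 : act 2 n44992 = n31050 := (sb E10793 F188796)
theorem E11337 : n34077 = n7515 := (((F48156).symm.trans (sb E10796 D34077))).symm
theorem F197121 : act 2 n22716 = n16062 := (sb E10797 F100184)
theorem E11340 : n34080 = n33102 := (((D33102).symm.trans (sb E10797 D34080))).symm
theorem E11346 : n34043 = n33940 := (((D33940).symm.trans (sb E10799 D34043))).symm
theorem E11347 : n34081 = n33330 := (((D33330).symm.trans (sb E10800 D34081))).symm
theorem F197128 : act 4 n22869 = n16053 := (sb E10800 F100189)
theorem E11348 : n33329 = n16175 := (((iv F140681)).symm.trans (sb E10800 F100190))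
theorem F197129 : act 7 n22869 = n16050 := (sb E10800 F100191)
theorem E11349 : n34082 = n33331 := (((D33331).symm.trans (sb E10800 D34082))).symm
theorem E11353 : n15973 = n15877 := ((((iv F69308)).symm.trans (sb E10802 F98533))).symm
theorem F197133 : act 1 n22887 = n15794 := (sb E10803 F98546)
theorem F197134 : act 4 n22887 = n15788 := (sb E10803 F98547)
theorem E11355 : n16173 = n15862 := ((((iv F69243)).symm.trans (sb E10804 F98466))).symm
theorem E11356 : n15954 = n15867 := ((((iv F69267)).symm.trans (sb E10804 F98468))).symm
theorem F197138 : act 5 n10915 = n7562 := (sb E10805 F48858)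
theorem F197139 : act 7 n10915 = n7561 := (sb E10805 (iv D10980))
theorem E11358 : n33672 = n16174 := (((F98470).symm.trans (sb E10808 (iv F142001)))).symm
theorem E11364 : n33711 = n15975 := (((D15975).symm.trans (sb E10809 D33711))).symm
theorem E11366 : n33439 = n33367 := ((((iv F140816)).symm.trans (sb E10811 (iv F141058)))).symm
theorem E11367 : n16218 = n16147 := ((((iv F70393)).symm.trans (sb E10812 F99033))).symm
theorem E11368 : n33668 = n7735 := (((F49409).symm.trans (sb E10812 (iv F141981)))).symm
theorem E11369 : n16103 = n15919 := (((iv F70244)).symm.trans (sb E10812 F99037))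
theorem F197149 : act 0 n10967 = n15885 := (sb E10813 F99075)
theorem E11370 : n33684 = n15949 := ((((iv F69603)).symm.trans (sb E10813 (iv F142052)))).symm
theorem E11372 : n15929 = n15884 := ((((iv F69340)).symm.trans (sb E10813 F99079))).symm
theorem F197150 : act 5 n10952 = n15722 := (sb E10814 (iv D22890))
theorem F197151 : act 9 n10952 = n15768 := (sb E10814 F98223)
theorem F197152 : act 0 n10929 = n7562 := (sb E10816 F48771)
theorem F197153 : act 4 n10929 = n7549 := (sb E10816 F48774)
theorem F197154 : act 7 n10929 = n7547 := (sb E10816 (iv D10959))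
theorem E11375 : n15943 = n15898 := (((D15898).symm.trans (sb E10816 D15943))).symm
theorem F197156 : act 1 n11099 = n16088 := (sb E10818 F100358)
theorem E11378 : n16138 = n16086 := ((((iv F70172)).symm.trans (sb E10818 F100361))).symm
theorem F197157 : act 7 n11070 = n15746 := (sb E10819 (iv D22925))
theorem F197159 : act 7 n22892 = n15754 := (sb E10820 F98394)
theorem E11381 : n34023 = n16087 := (((D16087).symm.trans (sb E10821 D34023))).symm
theorem F197161 : act 1 n23288 = n16034 := (sb E10822 F100041)
theorem E11382 : n34024 = n33949 := (((D33949).symm.trans (sb E10822 D34024))).symm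
theorem E11383 : n34025 = n33950 := (((D33950).symm.trans (sb E10822 D34025))).symm
theorem E11393 : n34269 = n34169 := (((D34169).symm.trans (sb E10827 D34269))).symm
theorem E11396 : n34270 = n34170 := (((D34170).symm.trans (sb E10827 D34270))).symm
theorem E11401 : n33828 = n33730 := (((D33730).symm.trans (sb E10829 D33828))).symm
theorem E11402 : n33727 = n15930 := (((iv F142224)).symm.trans (sb E10829 F99449))
theorem F197166 : act 5 n10960 = n15899 := (sb E10830 F99246)
theorem E11407 : n33856 = n29706 := ((((iv F193279)).symm.trans (sb E10831 D33856))).symm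
theorem E11408 : n33858 = n29685 := (((F193184).symm.trans (sb E10831 D33858))).symm
theorem E11410 : n16296 = n16228 := ((((iv F70680)).symm.trans (sb E10833 F100655))).symm
theorem E11412 : n33787 = n16249 := ((((iv F70775)).symm.trans (sb E10834 (iv F142450)))).symm
theorem E11413 : n16253 = n15917 := (((iv F70788)).symm.trans (sb E10834 (iv D23178)))
theorem E11415 : n33817 = n30662 := ((((iv F130007)).symm.trans (sb E10835 D33817))).symm
theorem E11416 : n33718 = n15926 := (((iv F142189)).symm.trans (sb E10835 (iv D23194)))
theorem E11417 : n33819 = n33720 := (((D33720).symm.trans (sb E10835 D33819))).symm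
theorem F197167 : act 5 n10950 = n15885 := (sb E10836 F99180)
theorem E11428 : n34143 = n34047 := (((D34047).symm.trans (sb E10844 D34143))).symm
theorem E11453 : n17898 = n16127 := (((D16127).symm.trans (sb E10854 D17898))).symm
theorem E11458 : n17912 = n15908 := (((D15908).symm.trans (sb E10857 D17912))).symm
theorem F197176 : act 5 n12312 = n15741 := (sb E10858 F98305)
theorem E11462 : n18427 = n7684 := ((((iv F34874)).symm.trans (sb E10861 F112587))).symm
theorem E11473 : n16094 = n8717 := ((D16094).symm.trans (sb E10867 F55062))
theorem E11503 : n18428 = n16242 := ((((iv F70739)).symm.trans (sb E10880 F112590))).symm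
theorem E11508 : n38007 = n16287 := (((D16287).symm.trans (sb E10882 D38007))).symm
theorem E11510 : n17892 = n16282 := ((((iv F70890)).symm.trans (sb E10882 F110875))).symm
theorem E11513 : n16281 = n8463 := (((iv F70887)).symm.trans (sb E10883 F54246))
theorem E11514 : n17893 = n16283 := (((D16283).symm.trans (sb E10883 D17893))).symm
theorem E11516 : n38046 = n29639 := ((((iv F193128)).symm.trans (sb E10885 D38046))).symm
theorem E11518 : n38048 = n29628 := (((F193054).symm.trans (sb E10885 D38048))).symm
theorem E11523 : n17813 = n15984 := (((iv F77155)).symm.trans (sb E10889 F99295))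
theorem E11525 : n33921 = n29677 := (((iv F142986)).symm.trans (sb E10891 F180632))
theorem E11527 : n33923 = n29662 := ((D33923).symm.trans (sb E10891 (iv D43238)))
theorem E11530 : n34184 = n18198 := (((D18198).symm.trans (sb E10892 D34184))).symm
theorem E11536 : n34228 = n17875 := (((D17875).symm.trans (sb E10895 D34228))).symm
theorem E11541 : n37378 = n34252 := (((D34252).symm.trans (sb E10898 D37378))).symm
theorem E11543 : n17803 = n16204 := (((iv F77118)).symm.trans (sb E10900 F100600))
theorem F197201 : act 5 n12245 = n15794 := (sb E10902 F98575)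
theorem E11547 : n34062 = n18113 := (((iv F143589)).symm.trans (sb E10903 F112152))
theorem F197204 : act 8 n23397 = n17593 := (sb E10904 F108813)
theorem F197206 : act 7 n12063 = n16072 := (sb E10905 F100297)
theorem E11559 : n18422 = n7769 := (((F49577).symm.trans (sb E10910 (iv F79490)))).symm
theorem E11560 : n16240 = n8715 := (((iv F70731)).symm.trans (sb E10910 (iv D12660)))
theorem E11570 : n8461 = n7788 := (((D7788).symm.trans (sb E10915 (iv D12290)))).symm
theorem E11573 : n8422 = n7753 := (((iv F37987)).symm.trans (sb E10918 F49692))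
theorem E11578 : n16160 = n8661 := ((((iv F38883)).symm.trans (sb E10924 F100444))).symm
theorem F197218 : act 6 n11108 = n8569 := (sb E10925 (iv D12445))
theorem F197220 : act 9 n11129 = n8457 := (sb E10928 F53974)
theorem E11593 : n34105 = n17535 := (((D17535).symm.trans (sb E10938 D34105))).symm
theorem F197228 : act 7 n12058 = n16062 := (sb E10938 F100246)
theorem E11600 : n38158 = n34063 := (((D34063).symm.trans (sb E10944 D38158))).symm
theorem E11602 : n36828 = n34107 := (((D34107).symm.trans (sb E10945 D36828))).symm
theorem E11635 : n38341 = n17983 := (((D17983).symm.trans (sb E10962 D38341))).symm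
theorem E11638 : n18736 = n18004 := (((D18004).symm.trans (sb E10963 F112017))).symm
theorem E11649 : n38439 = n36876 := (((D36876).symm.trans (sb E10968 D38439))).symm
theorem E11722 : n18293 = n17833 := (((D17833).symm.trans (sb E11009 D18293))).symm
theorem E11723 : n38861 = n37714 := (((D37714).symm.trans (sb E11010 D38861))).symm
theorem E11725 : n18155 = n8944 := ((D18155).symm.trans (sb E11011 F55253))
theorem E11728 : n37277 = n18299 := (((D18299).symm.trans (sb E11013 D37277))).symm
theorem E11732 : n18739 = n18158 := (((D18158).symm.trans (sb E11015 D18739))).symm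
theorem F197265 : act 7 n25572 = n18103 := (sb E11019 F112104)
theorem E11738 : n38347 = n38185 := (((D38185).symm.trans (sb E11021 D38347))).symm
theorem E11741 : n38231 = n18742 := (((D18742).symm.trans (sb E11023 D38231))).symm
theorem F197276 : act 4 n6047 = n8436 := (sb E11028 F54075)
theorem E11747 : n17826 = n8771 := (((D8771).symm.trans (sb E11028 D17826))).symm
theorem E11749 : n8739 = n8666 := ((((iv F38902)).symm.trans (sb E11034 F55141))).symm
theorem E11750 : n8681 = n4219 := (((iv F38967)).symm.trans (sb E11035 F27666))
theorem E11753 : n16619 = n11436 := (((F70565).symm.trans (sb E11037 F100964))).symm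
theorem E11756 : n7991 = n5522 := (((F35734).symm.trans (sb E11038 F50742))).symm
theorem E11812 : n8931 = n2953 := ((((iv D4269)).symm.trans (sb E11070 (iv F40020)))).symm
theorem E11824 : n18675 = n6109 := ((((iv D8857)).symm.trans (sb E11078 (iv F80579)))).symm
theorem E11828 : n8866 = n6115 := ((((iv F28007)).symm.trans (sb E11080 (iv D12868)))).symm
theorem E11850 : n37880 = n18296 := (((D18296).symm.trans (sb E11094 D37880))).symm
theorem E11864 : n18339 = n18233 := (((D18233).symm.trans (sb E11101 D18339))).symm
theorem F197319 : act 2 n12558 = n8703 := (sb E11103 F55506)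
theorem E11870 : n17932 = n8707 := ((((iv F39064)).symm.trans (sb E11105 F110496))).symm
theorem F197323 : act 4 n12272 = n8499 := (sb E11109 F54436)
theorem F197325 : act 2 n12528 = n18139 := (sb E11111 F112249)
theorem F197332 : act 2 n6020 = n8675 := (sb E11122 F55371)
theorem E11893 : n18326 = n4213 := (((F27595).symm.trans (sb E11122 (iv F79114)))).symm
theorem E11895 : n8727 = n8674 := ((((iv F38939)).symm.trans (sb E11122 F55374))).symm
theorem E11897 : n8796 = n4217 := ((((iv F19769)).symm.trans (sb E11124 F55463))).symm
theorem F197335 : act 2 n5991 = n4171 := (sb E11126 F27626)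
theorem F197338 : act 5 n6033 = n8592 := (sb E11127 F54991)
theorem F197344 : act 2 n12460 = n8624 := (sb E11135 F55107)
theorem E11909 : n18220 = n18135 := (((D18135).symm.trans (sb E11135 D18220))).symm
theorem E11913 : n18678 = n18137 := (((D18137).symm.trans (sb E11139 F111782))).symm
theorem F197369 : act 5 n12322 = n8709 := (sb E11247 F55589)
theorem E12143 : n8828 = n8783 := ((((iv F39362)).symm.trans (sb E11269 F55691))).symm
theorem E12150 : n8800 = n4215 := (((iv F39445)).symm.trans (sb E11273 (iv D6095)))
theorem F197372 : act 1 n6026 = n4203 := (sb E11274 F27831)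
theorem F197374 : act 6 n5845 = n4203 := (sb E11280 (iv D6081))
theorem E12166 : n18708 = n12864 := ((((iv F56521)).symm.trans (sb E11290 (iv F80721)))).symm
theorem F197376 : act 0 n30831 = n21223 := (sb E11303 F130927)
theorem F197377 : act 3 n30831 = n21208 := (sb E11303 F130929)
theorem E12191 : n45065 = n42347 := ((((iv F177014)).symm.trans (sb E11303 D45065))).symm
theorem F197378 : act 6 n30831 = n21207 := (sb E11303 (iv D30896))
theorem E12192 : n45066 = n21257 := (((F130655).symm.trans (sb E11303 D45066))).symm
theorem E12193 : n45067 = n44967 := (((D44967).symm.trans (sb E11303 D45067))).symm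
theorem E12194 : n23518 = n21258 := (((D21258).symm.trans (sb E11305 F143473))).symm
theorem F197381 : act 3 n30437 = n21226 := (sb E11307 F131030)
theorem E12195 : n45100 = n41972 := ((((iv F175459)).symm.trans (sb E11307 (iv F188146)))).symm
theorem E12196 : n44380 = n21346 := ((D44380).symm.trans (sb E11307 F131032))
theorem F197382 : act 7 n30437 = n21223 := (sb E11307 (iv D30920))
theorem E12199 : n23552 = n21031 := (((iv F100840)).symm.trans (sb E11311 F129142))
theorem F197388 : act 3 n30443 = n20963 := (sb E11313 F129449)
theorem E12201 : n44514 = n44391 := (((D44391).symm.trans (sb E11313 (iv F185834)))).symm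
theorem F197389 : act 7 n30443 = n20960 := (sb E11313 (iv D30526))
theorem E12202 : n44516 = n44393 := (((D44393).symm.trans (sb E11313 D44516))).symm
theorem F197390 : act 7 n30446 = n22957 := (sb E11315 F141145)
theorem E12203 : n23517 = n21396 := (((iv F100703)).symm.trans (sb E11316 F129877))
theorem E12204 : n44667 = n23551 := (((D23551).symm.trans (sb E11316 (iv F186446)))).symm
theorem E12206 : n23450 = n21088 := (((iv F100482)).symm.trans (sb E11316 F129882))
theorem E12207 : n44683 = n23228 := (((iv F186518)).symm.trans (sb E11317 F141136))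
theorem E12208 : n44687 = n44513 := (((iv F186536)).symm.trans (sb E11317 (iv F185831)))
theorem F197392 : act 5 n30645 = n22957 := (sb E11318 F141142)
theorem F197393 : act 1 n16145 = n21265 := (sb E11320 F131205)
theorem E12209 : n45172 = n21322 := ((((iv F91793)).symm.trans (sb E11320 (iv F188390)))).symm
theorem E12210 : n45176 = n23519 := (((D23519).symm.trans (sb E11320 D45176))).symm
theorem E12211 : n23427 = n21315 := (((iv F100384)).symm.trans (sb E11320 F131209))
theorem F197394 : act 1 n16101 = n20947 := (sb E11321 F129335)
theorem E12212 : n44464 = n21278 := ((((iv F91648)).symm.trans (sb E11321 (iv F185653)))).symm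
theorem F197395 : act 7 n16101 = n20940 := (sb E11321 (iv D30495))
theorem E12213 : n44468 = n23452 := (((D23452).symm.trans (sb E11321 D44468))).symm
theorem F197396 : act 0 n30458 = n20963 := (sb E11322 F129373)
theorem F197397 : act 2 n30458 = n20954 := (sb E11322 F129374)
theorem F197398 : act 4 n30458 = n20947 := (sb E11322 F129375)
theorem E12214 : n44484 = n44412 := (((D44412).symm.trans (sb E11322 (iv F185728)))).symm
theorem F197399 : act 7 n30458 = n20945 := (sb E11322 (iv D30505))
theorem E12215 : n44486 = n44414 := (((D44414).symm.trans (sb E11322 D44486))).symm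
theorem F197400 : act 6 n30509 = n22889 := (sb E11323 F140792)
theorem F197401 : act 1 n16085 = n21210 := (sb E11324 F130897)
theorem E12216 : n45050 = n21262 := ((((iv F91579)).symm.trans (sb E11324 (iv F187937)))).symm
theorem F197402 : act 7 n16085 = n21203 := (sb E11324 (iv D30889))
theorem E12217 : n45054 = n23428 := (((D23428).symm.trans (sb E11324 D45054))).symm
theorem F197403 : act 1 n30836 = n21208 := (sb E11325 F130890)
theorem F197404 : act 4 n30836 = n21203 := (sb E11325 F130892)
theorem E12218 : n45049 = n42352 := ((((iv F177039)).symm.trans (sb E11325 D45049))).symm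
theorem F197405 : act 6 n30836 = n21202 := (sb E11325 (iv D30887))
theorem E12219 : n45051 = n44976 := (((D44976).symm.trans (sb E11325 D45051))).symm
theorem F197406 : act 0 n30890 = n23303 := (sb E11326 F143094)
theorem E12220 : n45188 = n21313 := (((iv F188446)).symm.trans (sb E11327 F131485))
theorem E12221 : n45292 = n45192 := ((((iv F188462)).symm.trans (sb E11327 D45292))).symm
theorem F197407 : act 6 n30980 = n21312 := (sb E11327 (iv D31049))
theorem E12223 : n45294 = n45194 := (((D45194).symm.trans (sb E11327 D45294))).symm
theorem F197409 : act 3 n30493 = n21281 := (sb E11332 F131330)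
theorem E12225 : n45222 = n44463 := (((D44463).symm.trans (sb E11332 (iv F188583)))).symm
theorem E12226 : n45224 = n44465 := (((D44465).symm.trans (sb E11332 D45224))).symm
theorem E12227 : n45070 = n42538 := (((iv F188017)).symm.trans (sb E11333 (iv F177839)))
theorem E12228 : n45170 = n45072 := (((D45072).symm.trans (sb E11333 D45170))).symm
theorem F197410 : act 9 n30899 = n21312 := (sb E11333 F131197)
theorem E12229 : n23560 = n10908 := (((D10908).symm.trans (sb E11337 F143644))).symm
theorem F197412 : act 2 n33102 = n23395 := (sb E11340 F143652)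
theorem F197418 : act 2 n33940 = n23365 := (sb E11346 F143502)
theorem F197421 : act 6 n33330 = n23564 := (sb E11347 F143656)
theorem F197422 : act 7 n33330 = n23377 := (sb E11347 F143657)
theorem E12233 : n23561 = n23098 := (((iv F100861)).symm.trans (sb E11348 F140680))
theorem F197424 : act 6 n16175 = n22869 := (sb E11348 F140681)
theorem F197427 : act 6 n33331 = n23565 := (sb E11349 F143660)
theorem F197428 : act 7 n33331 = n23378 := (sb E11349 F143661)
theorem E12235 : n23264 = n23122 := (((D23122).symm.trans (sb E11353 D23264))).symm
theorem E12236 : n23265 = n23123 := (((D23123).symm.trans (sb E11353 D23265))).symm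
theorem E12237 : n23522 = n11149 := (((F69242).symm.trans (sb E11355 (iv F100719)))).symm
theorem E12239 : n23229 = n23104 := ((((iv F99065)).symm.trans (sb E11356 (iv F99572)))).symm
theorem F197442 : act 5 n15867 = n10968 := (sb E11356 F69622)
theorem F197443 : act 7 n15867 = n10967 := (sb E11356 (iv D15954))
theorem E12240 : n23624 = n23523 := ((((iv F100723)).symm.trans (sb E11358 F142000))).symm
theorem E12241 : n23222 = n23153 := ((((iv F99255)).symm.trans (sb E11364 F142160))).symm
theorem F197460 : act 5 n33367 = n23208 := (sb E11366 F141059)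
theorem E12242 : n23620 = n11214 := (((F70395).symm.trans (sb E11367 (iv F101059)))).symm
theorem E12243 : n23429 = n11205 := (((iv F100392)).symm.trans (sb E11367 F70645))
theorem E12244 : n23179 = n11171 := ((((iv F49615)).symm.trans (sb E11368 F141983))).symm
theorem F197464 : act 5 n15919 = n11070 := (sb E11369 (iv D16103))
theorem E12245 : n23456 = n23183 := (((D23183).symm.trans (sb E11369 D23456))).symm
theorem F197466 : act 0 n15949 = n23128 := (sb E11370 F142050)
theorem E12246 : n23195 = n23127 := ((((iv F99160)).symm.trans (sb E11370 F142054))).symm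
theorem F197467 : act 0 n15884 = n10968 := (sb E11372 F69517)
theorem F197468 : act 4 n15884 = n10952 := (sb E11372 F69519)
theorem F197469 : act 7 n15884 = n10950 := (sb E11372 (iv D15929))
theorem E12247 : n23201 = n23133 := (((D23133).symm.trans (sb E11372 D23201))).symm
theorem F197472 : act 4 n15898 = n10963 := (sb E11375 F69573)
theorem F197473 : act 7 n15898 = n10960 := (sb E11375 F69575)
theorem F197475 : act 1 n16086 = n11101 := (sb E11378 F70366)
theorem E12249 : n23506 = n23431 := (((D23431).symm.trans (sb E11378 D23506))).symm
theorem F197483 : act 1 n16087 = n23353 := (sb E11381 F143424)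
theorem F197484 : act 1 n33949 = n23354 := (sb E11382 F143429)
theorem F197486 : act 8 n33949 = n45055 := (sb E11382 (iv F187957))
theorem F197487 : act 1 n33950 = n23355 := (sb E11383 F143432)
theorem F197490 : act 6 n34169 = n23504 := (sb E11393 F144340)
theorem F197492 : act 1 n34170 = n23526 := (sb E11396 F144341)
theorem F197494 : act 6 n34170 = n23505 := (sb E11396 F144344)
theorem F197501 : act 5 n33730 = n23202 := (sb E11401 F142618)
theorem F197502 : act 5 n15930 = n23134 := (sb E11402 F142224)
theorem E12253 : n43252 = n23266 := (((iv F180703)).symm.trans (sb E11407 F142724))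
theorem E12254 : n43296 = n23223 := (((iv F180866)).symm.trans (sb E11407 F142725))
theorem E12255 : n43231 = n23268 := (((iv F180602)).symm.trans (sb E11408 F142733))
theorem E12256 : n43268 = n23224 := (((iv F180765)).symm.trans (sb E11408 F142736))
theorem E12257 : n23732 = n23636 := ((((iv F101119)).symm.trans (sb E11410 (iv F101492)))).symm
theorem E12260 : n23669 = n23176 := (((iv F101264)).symm.trans (sb E11412 (iv D33787)))
theorem F197508 : act 5 n15917 = n11172 := (sb E11413 F70788)
theorem E12262 : n44817 = n44717 := ((((iv F186651)).symm.trans (sb E11415 (iv F187030)))).symm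
theorem F197509 : act 5 n15926 = n23128 := (sb E11416 F142189)
theorem F197510 : act 0 n33720 = n23230 := (sb E11417 F142583)
theorem F197511 : act 5 n33720 = n23196 := (sb E11417 F142585)
theorem F197512 : act 1 n34047 = n23432 := (sb E11428 F143891)
theorem F197524 : act 2 n16127 = n12312 := (sb E11453 F77491)
theorem F197527 : act 4 n15908 = n12312 := (sb E11458 F77550)
theorem E12277 : n26829 = n5358 := (((F34873).symm.trans (sb E11462 (iv F113788)))).symm
theorem F197530 : act 5 n8717 = n11064 := (sb E11473 (iv D16094))
theorem F197531 : act 9 n8717 = n11107 := (sb E11473 F70205)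
theorem E12293 : n23659 = n12662 := (((iv F101214)).symm.trans (sb E11503 F79510))
theorem E12298 : n26063 = n23718 := ((((iv F101430)).symm.trans (sb E11508 F159129))).symm
theorem E12299 : n26064 = n23719 := (((D23719).symm.trans (sb E11510 D26064))).symm
theorem E12303 : n23717 = n12296 := (((D12296).symm.trans (sb E11513 D23717))).symm
theorem F197546 : act 2 n16283 = n12309 := (sb E11514 F77471)
theorem F197547 : act 4 n16283 = n12299 := (sb E11514 F77472)
theorem E12305 : n43193 = n26092 := (((iv F180426)).symm.trans (sb E11516 F159287))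
theorem E12306 : n43181 = n26093 := (((iv F180370)).symm.trans (sb E11518 F159297))
theorem F197551 : act 4 n15984 = n12245 := (sb E11523 F77153)
theorem F197553 : act 2 n29677 = n23267 := (sb E11525 F142986)
theorem E12310 : n43213 = n23278 := (((iv F180521)).symm.trans (sb E11527 F142994))
theorem E12311 : n26378 = n23545 := (((iv F112165)).symm.trans (sb E11530 F144051))
theorem E12312 : n25905 = n23589 := (((iv F110259)).symm.trans (sb E11536 F144184))
theorem F197572 : act 5 n34252 = n26076 := (sb E11541 F156616)
theorem F197573 : act 6 n34252 = n25639 := (sb E11541 F156617)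
theorem F197575 : act 2 n16204 = n12245 := (sb E11543 F77116)
theorem F197579 : act 7 n18113 = n23365 := (sb E11547 F143591)
theorem E12315 : n26823 = n11271 := ((((iv F49997)).symm.trans (sb E11559 (iv F113766)))).symm
theorem E12316 : n12658 = n11278 := ((((iv F50033)).symm.trans (sb E11559 (iv D18422)))).symm
theorem E12320 : n12580 = n11227 := (((iv F55327)).symm.trans (sb E11560 F70732))
theorem F197604 : act 0 n7788 = n5845 := (sb E11570 F38135)
theorem E12330 : n12232 = n11258 := (((D11258).symm.trans (sb E11573 D12232))).symm
theorem F197609 : act 9 n7753 = n5835 := (sb E11573 F37987)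
theorem F197613 : act 5 n8661 = n11108 := (sb E11578 F70443)
theorem F197623 : act 7 n17535 = n23394 := (sb E11593 F143732)
theorem F197631 : act 7 n34063 = n26379 := (sb E11600 F159755)
theorem F197633 : act 7 n34107 = n25527 := (sb E11602 F154565)
theorem E12350 : n27200 = n26187 := (((D26187).symm.trans (sb E11635 F160508))).symm
theorem E12353 : n27269 = n26219 := (((D26219).symm.trans (sb E11638 D27269))).symm
theorem F197653 : act 5 n36876 = n27291 := (sb E11649 F160868)
theorem E12396 : n26646 = n25976 := (((D25976).symm.trans (sb E11722 D26646))).symm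
theorem F197684 : act 5 n37714 = n26652 := (sb E11723 F162316)
theorem E12399 : n26448 = n12979 := (((D12979).symm.trans (sb E11725 D26448))).symm
theorem F197692 : act 6 n18299 = n25572 := (sb E11728 F156272)
theorem E12404 : n27273 = n26452 := (((D26452).symm.trans (sb E11732 D27273))).symm
theorem F197703 : act 4 n38185 = n27206 := (sb E11738 F160533)
theorem F197705 : act 4 n18742 = n26217 := (sb E11741 F160057)
theorem F197715 : act 4 n8771 = n12255 := (sb E11747 F77210)
theorem E12409 : n12589 = n6094 := (((iv F55358)).symm.trans (sb E11749 F39185))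
theorem E12410 : n6099 = n6066 := (((iv F27933)).symm.trans (sb E11750 F38966))
theorem F197721 : act 3 n4219 = n5983 := (sb E11750 F38967)
theorem F197722 : act 9 n4219 = n6026 := (sb E11750 F38969)
theorem E12414 : n11583 = n7988 := (((F50709).symm.trans (sb E11753 F72247))).symm
theorem F197727 : act 0 n5522 = n5522 := (sb E11756 (iv D7991))
theorem E12417 : n11586 = n7992 := (((D7992).symm.trans (sb E11756 D11586))).symm
theorem E12473 : n6161 = n4260 := ((((iv F19956)).symm.trans (sb E11812 (iv D8931)))).symm
theorem E12489 : n12840 = n8847 := ((((iv F39664)).symm.trans (sb E11824 (iv D18675)))).symm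
theorem E12496 : n6232 = n4313 := (((F28009).symm.trans (sb E11828 F39751))).symm
theorem E12522 : n26480 = n26135 := (((iv F112530)).symm.trans (sb E11850 F158602))
theorem F197767 : act 2 n18233 = n12611 := (sb E11864 F79169)
theorem E12534 : n26121 = n12650 := ((((iv F55598)).symm.trans (sb E11870 (iv F111130)))).symm
theorem F197771 : act 4 n8707 = n12327 := (sb E11870 F77633)
theorem E12545 : n12750 = n6092 := ((((iv F27903)).symm.trans (sb E11893 F79113))).symm
theorem F197784 : act 2 n8674 = n6021 := (sb E11895 F39134)
theorem F197788 : act 3 n4217 = n6069 := (sb E11897 F39426)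
theorem E12552 : n6096 = n6068 := ((((iv F27793)).symm.trans (sb E11897 F39429))).symm
theorem E12562 : n26416 = n12932 := ((D26416).symm.trans (sb E11909 F78745))
theorem F197799 : act 3 n18137 = n12842 := (sb E11913 (iv D18678))
theorem E12706 : n12808 = n12740 := ((((iv F55941)).symm.trans (sb E12143 (iv F56260)))).symm
theorem E12707 : n12754 = n6090 := (((iv F56015)).symm.trans (sb E12143 (iv D8828)))
theorem F197832 : act 5 n4215 = n6069 := (sb E12150 F39445)
theorem E12724 : n13087 = n9023 := (((F56522).symm.trans (sb E12166 F80722))).symm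
theorem F197840 : act 0 n42347 = n30919 := (sb E12191 F187995)
theorem F197841 : act 3 n42347 = n30898 := (sb E12191 F187997)
theorem F197842 : act 3 n21257 = n30899 := (sb E12192 F188000)
theorem E12742 : n31068 = n30968 := (((D30968).symm.trans (sb E12192 F188002))).symm
theorem F197844 : act 6 n44967 = n30897 := (sb E12193 F188006)
theorem F197845 : act 0 n21258 = n16169 := (sb E12194 F100707)
theorem F197846 : act 7 n21258 = n16145 := (sb E12194 (iv D23518))
theorem F197847 : act 3 n41972 = n30924 := (sb E12195 F188145)
theorem F197848 : act 7 n41972 = n30919 := (sb E12195 (iv D45100))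
theorem F197849 : act 1 n21346 = n30443 := (sb E12196 F185373)
theorem F197851 : act 9 n21346 = n30493 := (sb E12196 F185376)
theorem E12745 : n34340 = n30629 := ((((iv F129870)).symm.trans (sb E12199 (iv F144591)))).symm
theorem F197859 : act 1 n44391 = n31102 := (sb E12201 F185832)
theorem F197860 : act 3 n44391 = n30530 := (sb E12201 F185833)
theorem F197861 : act 7 n44391 = n30525 := (sb E12201 (iv D44514))
theorem F197863 : act 7 n44393 = n30527 := (sb E12202 F185839)
theorem E12748 : n34291 = n31174 := ((((iv F131882)).symm.trans (sb E12203 D34291))).symm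
theorem F197866 : act 5 n21396 = n16145 := (sb E12203 (iv D23517))
theorem E12749 : n34293 = n31178 := (((D31178).symm.trans (sb E12203 D34293))).symm
theorem E12751 : n34190 = n30713 := (((iv F144078)).symm.trans (sb E12204 F186448))
theorem F197869 : act 5 n21088 = n16101 := (sb E12206 (iv D23450))
theorem E12752 : n34192 = n30717 := (((D30717).symm.trans (sb E12206 D34192))).symm
theorem F197871 : act 0 n23228 = n30662 := (sb E12207 F186516)
theorem F197872 : act 3 n23228 = n30641 := (sb E12207 F186518)
theorem E12753 : n33866 = n30638 := ((D33866).symm.trans (sb E12207 (iv D44683)))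
theorem E12754 : n33717 = n30729 := (((iv F142185)).symm.trans (sb E12207 F186521))
theorem F197873 : act 0 n44513 = n30666 := (sb E12208 F186534)
theorem F197876 : act 7 n44513 = n30640 := (sb E12208 (iv D44687))
theorem F197877 : act 9 n44513 = n30733 := (sb E12208 F186537)
theorem F197878 : act 1 n21322 = n30980 := (sb E12209 F188388)
theorem E12755 : n31052 = n30977 := ((((iv F131235)).symm.trans (sb E12209 F188391))).symm
theorem F197879 : act 1 n23519 = n30984 := (sb E12210 F188401)
theorem F197880 : act 0 n21315 = n16101 := (sb E12211 F100381)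
theorem F197881 : act 3 n21315 = n16086 := (sb E12211 F100383)
theorem F197882 : act 6 n21315 = n16085 := (sb E12211 (iv D23427))
theorem E12756 : n34158 = n31056 := (((D31056).symm.trans (sb E12211 D34158))).symm
theorem F197883 : act 9 n21315 = n16145 := (sb E12211 F100384)
theorem F197884 : act 7 n21278 = n30493 := (sb E12212 (iv D44464))
theorem F197885 : act 1 n23452 = n30509 := (sb E12213 F185666)
theorem F197886 : act 7 n23452 = n30496 := (sb E12213 F185669)
theorem F197887 : act 0 n44412 = n30530 := (sb E12214 F185725)
theorem F197888 : act 2 n44412 = n30517 := (sb E12214 F185726)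
theorem F197889 : act 4 n44412 = n30733 := (sb E12214 F185727)
theorem F197890 : act 7 n44412 = n30504 := (sb E12214 (iv D44484))
theorem F197891 : act 0 n44414 = n30532 := (sb E12215 F185733)
theorem F197892 : act 2 n44414 = n30519 := (sb E12215 F185734)
theorem F197893 : act 4 n44414 = n30509 := (sb E12215 F185735)
theorem F197894 : act 7 n44414 = n30506 := (sb E12215 F185736)
theorem F197895 : act 1 n21262 = n30899 := (sb E12216 F187935)
theorem F197896 : act 1 n23428 = n30903 := (sb E12217 F187949)
theorem F197898 : act 1 n42352 = n30898 := (sb E12218 F187932)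
theorem F197899 : act 1 n44976 = n30900 := (sb E12219 F187939)
theorem F197900 : act 4 n44976 = n30890 := (sb E12219 F187941)
theorem F197902 : act 3 n21313 = n30980 := (sb E12220 F188446)
theorem F197903 : act 1 n45192 = n31067 := (sb E12221 F188798)
theorem F197904 : act 3 n45192 = n31051 := (sb E12221 F188799)
theorem F197905 : act 1 n45194 = n31069 := (sb E12223 F188803)
theorem F197906 : act 6 n45194 = n31050 := (sb E12223 F188805)
theorem F197907 : act 3 n44463 = n31005 := (sb E12225 F188582)
theorem F197908 : act 7 n44463 = n31000 := (sb E12225 (iv D45222))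
theorem F197909 : act 9 n44463 = n31102 := (sb E12225 F188584)
theorem F197910 : act 7 n44465 = n31002 := (sb E12226 F188589)
theorem F197911 : act 0 n42538 = n30924 := (sb E12227 F188014)
theorem F197912 : act 2 n42538 = n30911 := (sb E12227 F188015)
theorem F197913 : act 5 n42538 = n30899 := (sb E12227 F188017)
theorem F197914 : act 7 n42538 = n30898 := (sb E12227 (iv D45070))
theorem F197915 : act 1 n45072 = n30978 := (sb E12228 F188382)
theorem E12758 : n16346 = n15861 := (((D15861).symm.trans (sb E12229 F100857))).symm
theorem E12767 : n34358 = n33673 := (((D33673).symm.trans (sb E12233 D34358))).symm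
theorem E12768 : n33669 = n16347 := (((iv F141987)).symm.trans (sb E12233 F100860))
theorem F197921 : act 5 n23098 = n16175 := (sb E12233 F100861)
theorem E12769 : n34359 = n33674 := (((D33674).symm.trans (sb E12233 D34359))).symm
theorem E12773 : n33920 = n29659 := (((F193174).symm.trans (sb E12235 D33920))).symm
theorem F197929 : act 5 n23123 = n15977 := (sb E12236 F99706)
theorem E12774 : n16317 = n16216 := ((((iv F70635)).symm.trans (sb E12237 F100721))).symm
theorem F197935 : act 5 n23104 = n15950 := (sb E12239 F99573)
theorem F197936 : act 7 n23104 = n15949 := (sb E12239 (iv D23229))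
theorem E12776 : n33869 = n33685 := (((D33685).symm.trans (sb E12239 D33869))).symm
theorem E12777 : n34443 = n34302 := (((D34302).symm.trans (sb E12240 D34443))).symm
theorem E12779 : n34444 = n34303 := (((D34303).symm.trans (sb E12240 D34444))).symm
theorem E12780 : n33831 = n33729 := ((((iv F142230)).symm.trans (sb E12241 (iv F142628)))).symm
theorem F197939 : act 4 n23153 = n15948 := (sb E12241 F99538)
theorem F197941 : act 1 n11214 = n16228 := (sb E12242 F101057)
theorem E12782 : n34431 = n16312 := ((((iv F71004)).symm.trans (sb E12242 (iv F144879)))).symm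
theorem E12784 : n16297 = n16227 := ((((iv F70677)).symm.trans (sb E12242 F101061))).symm
theorem F197942 : act 5 n11205 = n16086 := (sb E12243 (iv D23429))
theorem E12786 : n33788 = n16248 := ((((iv F70771)).symm.trans (sb E12244 (iv F142454)))).symm
theorem F197944 : act 4 n11171 = n15919 := (sb E12244 F99362)
theorem F197945 : act 7 n11171 = n15917 := (sb E12244 (iv D23179))
theorem E12788 : n34201 = n33800 := (((D33800).symm.trans (sb E12245 D34201))).symm
theorem E12789 : n34202 = n33801 := (((D33801).symm.trans (sb E12245 D34202))).symm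
theorem F197948 : act 0 n23127 = n15950 := (sb E12246 F99429)
theorem F197949 : act 7 n23127 = n15926 := (sb E12246 (iv D23195))
theorem E12790 : n33820 = n33719 := (((D33719).symm.trans (sb E12246 D33820))).symm
theorem E12791 : n33830 = n33728 := (((D33728).symm.trans (sb E12247 D33830))).symm
theorem F197951 : act 4 n23133 = n15933 := (sb E12247 F99453)
theorem F197952 : act 7 n23133 = n15930 := (sb E12247 F99455)
theorem E12793 : n34274 = n34164 := (((D34164).symm.trans (sb E12249 D34274))).symm
theorem E12804 : n33922 = n29672 := ((D33922).symm.trans (sb E12253 (iv D43252)))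
theorem E12805 : n33861 = n29714 := ((D33861).symm.trans (sb E12254 F180864))
theorem E12806 : n33862 = n29702 := ((D33862).symm.trans (sb E12254 (iv D43296)))
theorem E12807 : n29678 = n29658 := ((F193178).symm.trans (sb E12255 (iv D43231)))
theorem E12808 : n29683 = n29655 := (((F193170).symm.trans (sb E12256 (iv D43268)))).symm
theorem E12809 : n34592 = n16386 := (((F101118).symm.trans (sb E12257 (iv F145485)))).symm
theorem E12810 : n34597 = n31190 := ((((iv F131944)).symm.trans (sb E12257 D34597))).symm
theorem E12812 : n34599 = n34463 := (((D34463).symm.trans (sb E12257 D34599))).symm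
theorem E12816 : n33785 = n16407 := (((iv F142441)).symm.trans (sb E12260 F101262))
theorem E12817 : n34508 = n30710 := ((((iv F130182)).symm.trans (sb E12260 (iv F145185)))).symm
theorem F197966 : act 5 n23176 = n16249 := (sb E12260 F101264)
theorem E12819 : n34511 = n33789 := (((D33789).symm.trans (sb E12260 D34511))).symm
theorem F197967 : act 0 n44717 = n30762 := (sb E12262 F187028)
theorem F197968 : act 4 n44717 = n30728 := (sb E12262 (iv D44817))
theorem E12846 : n39115 = n7762 := ((((iv F35175)).symm.trans (sb E12277 (iv F163276)))).symm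
theorem E12888 : n34498 = n18431 := (((D18431).symm.trans (sb E12293 D34498))).symm
theorem E12899 : n34577 = n17894 := (((iv F145417)).symm.trans (sb E12298 F110891))
theorem E12901 : n38015 = n34582 := (((D34582).symm.trans (sb E12298 D38015))).symm
theorem E12904 : n38017 = n34583 := (((D34583).symm.trans (sb E12299 D38017))).symm
theorem E12907 : n17800 = n16371 := (((iv F77107)).symm.trans (sb E12303 F101428))
theorem E12908 : n38054 = n29635 := ((D38054).symm.trans (sb E12305 (iv D43193)))
theorem E12909 : n38055 = n29626 := ((D38055).symm.trans (sb E12306 (iv D43181)))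
theorem F198008 : act 1 n23278 = n29662 := (sb E12310 F180521)
theorem E12913 : n34329 = n18316 := (((iv F144540)).symm.trans (sb E12311 F112163))
theorem F198012 : act 6 n23545 = n18113 := (sb E12311 F112164)
theorem F198014 : act 8 n23589 = n17875 := (sb E12312 F110259)
theorem E12918 : n18623 = n16376 := ((((iv F71236)).symm.trans (sb E12315 F113765))).symm
theorem F198018 : act 3 n11278 = n8715 := (sb E12316 F55632)
theorem E12922 : n16400 = n8714 := ((D16400).symm.trans (sb E12316 (iv D12658)))
theorem F198020 : act 4 n11227 = n8661 := (sb E12320 F55326)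
theorem F198028 : act 4 n11258 = n8424 := (sb E12330 F54000)
theorem E12967 : n38163 = n34969 := (((iv F159773)).symm.trans (sb E12350 (iv F147006)))
theorem E12970 : n39647 = n38187 := (((D38187).symm.trans (sb E12350 D39647))).symm
theorem E12973 : n39749 = n38234 := (((D38234).symm.trans (sb E12353 D39749))).symm
theorem F198064 : act 5 n25976 = n18299 := (sb E12396 F113090)
theorem E13046 : n38577 = n18874 := (((D18874).symm.trans (sb E12399 D38577))).symm
theorem F198081 : act 7 n26452 = n18742 := (sb E12404 F115665)
theorem E13052 : n8832 = n8780 := (((iv F39593)).symm.trans (sb E12409 F55357))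
theorem F198090 : act 3 n6094 = n8666 := (sb E12409 F55358)
theorem F198091 : act 9 n6094 = n8724 := (sb E12409 F55360)
theorem F198092 : act 2 n6066 = n4219 := (sb E12410 F27933)
theorem F198093 : act 5 n6066 = n4218 := (sb E12410 F27935)
theorem F198094 : act 7 n6066 = n4217 := (sb E12410 (iv D6099))
theorem F198097 : act 0 n7988 = n7988 := (sb E12414 (iv D11583))
theorem F198100 : act 0 n7992 = n7992 := (sb E12417 F51352)
theorem E13161 : n4342 = n3011 := (((F19958).symm.trans (sb E12473 F28203))).symm
theorem E13185 : n9005 = n6217 := (((F39666).symm.trans (sb E12489 F56410))).symm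
theorem E13197 : n9027 = n2990 := (((F20181).symm.trans (sb E12496 D9027))).symm
theorem F198134 : act 5 n26135 = n18184 := (sb E12522 F112531)
theorem E13253 : n38096 = n18414 := ((((iv F79456)).symm.trans (sb E12534 (iv F159497)))).symm
theorem E13269 : n18529 = n8826 := ((((iv F39567)).symm.trans (sb E12545 (iv F79897)))).symm
theorem F198155 : act 3 n6092 = n8783 := (sb E12545 F55996)
theorem E13271 : n8829 = n8782 := ((((iv F39360)).symm.trans (sb E12545 F55999))).symm
theorem F198161 : act 3 n6068 = n4218 := (sb E12552 F27920)
theorem F198162 : act 7 n6068 = n4215 := (sb E12552 (iv D6096))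
theorem F198170 : act 6 n12932 = n18137 := (sb E12562 F112316)
theorem E13529 : n18533 = n8824 := (((iv F79920)).symm.trans (sb E12706 (iv D12808)))
theorem F198210 : act 5 n6090 = n8783 := (sb E12707 F56015)
theorem E13559 : n19011 = n6230 := ((((iv D9023)).symm.trans (sb E12724 (iv F81958)))).symm
theorem F198222 : act 0 n30968 = n21346 := (sb E12742 F131543)
theorem F198223 : act 3 n30968 = n21325 := (sb E12742 F131545)
theorem E13580 : n45323 = n45171 := (((D45171).symm.trans (sb E12742 (iv F188898)))).symm
theorem F198224 : act 7 n30968 = n21322 := (sb E12742 (iv D31068))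
theorem E13581 : n45325 = n45173 := (((D45173).symm.trans (sb E12742 D45325))).symm
theorem E13582 : n44664 = n23795 := (((iv F186432)).symm.trans (sb E12745 F144590))
theorem E13583 : n45372 = n44666 := (((D44666).symm.trans (sb E12745 (iv F189074)))).symm
theorem E13584 : n45473 = n23762 := (((iv F189367)).symm.trans (sb E12748 F144405))
theorem E13585 : n45477 = n45322 := (((iv F189383)).symm.trans (sb E12748 (iv F188894)))
theorem F198232 : act 5 n31178 = n23519 := (sb E12749 F144413)
theorem E13586 : n44788 = n23668 := (((iv F186901)).symm.trans (sb E12751 F144076))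
theorem E13587 : n45221 = n44792 := ((((iv F186919)).symm.trans (sb E12751 (iv F188579)))).symm
theorem F198234 : act 5 n30717 = n23452 := (sb E12752 F144084)
theorem E13588 : n44867 = n44682 := (((D44682).symm.trans (sb E12753 (iv F187224)))).symm
theorem F198235 : act 7 n30638 = n23228 := (sb E12753 (iv D33866))
theorem F198236 : act 4 n30729 = n23127 := (sb E12754 (iv D33717))
theorem E13589 : n44818 = n44716 := (((iv F187034)).symm.trans (sb E12754 (iv F186646)))
theorem F198237 : act 9 n30729 = n23228 := (sb E12754 F142185)
theorem F198238 : act 1 n30977 = n21325 := (sb E12755 F131492)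
theorem F198239 : act 4 n30977 = n21315 := (sb E12755 F131494)
theorem E13590 : n45297 = n45187 := (((D45187).symm.trans (sb E12755 (iv F188813)))).symm
theorem F198240 : act 7 n30977 = n21313 := (sb E12755 (iv D31052))
theorem E13591 : n45299 = n45189 := (((D45189).symm.trans (sb E12755 D45299))).symm
theorem F198241 : act 0 n31056 = n23452 := (sb E12756 F143942)
theorem F198242 : act 6 n31056 = n23428 := (sb E12756 F143944)
theorem E13593 : n23797 = n23094 := (((D23094).symm.trans (sb E12758 (iv F101730)))).symm
theorem F198252 : act 5 n33673 = n23564 := (sb E12767 F144635)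
theorem F198255 : act 4 n16347 = n23098 := (sb E12768 F141987)
theorem F198257 : act 4 n33674 = n23810 := (sb E12769 F144638)
theorem F198258 : act 5 n33674 = n23565 := (sb E12769 F144639)
theorem E13597 : n43230 = n23270 := (((iv F180600)).symm.trans (sb E12773 F142983))
theorem E13598 : n23763 = n23617 := ((((iv F101048)).symm.trans (sb E12774 (iv F101595)))).symm
theorem F198276 : act 5 n33685 = n23231 := (sb E12776 F142789)
theorem F198277 : act 7 n33685 = n23230 := (sb E12776 F142790)
theorem F198280 : act 8 n34302 = n45485 := (sb E12777 (iv F189411))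
theorem F198282 : act 1 n34303 = n23649 := (sb E12779 F144925)
theorem F198286 : act 4 n33729 = n23208 := (sb E12780 F142629)
theorem F198289 : act 1 n16312 = n23636 := (sb E12782 F144878)
theorem E13599 : n23733 = n23635 := ((((iv F101116)).symm.trans (sb E12782 F144881))).symm
theorem F198290 : act 1 n16227 = n11215 := (sb E12784 F70951)
theorem F198294 : act 7 n16248 = n23176 := (sb E12786 (iv D33788))
theorem F198297 : act 5 n33800 = n23458 := (sb E12788 F144107)
theorem F198299 : act 4 n33801 = n23680 := (sb E12789 F144110)
theorem F198300 : act 5 n33801 = n23459 := (sb E12789 F144111)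
theorem F198302 : act 0 n33719 = n23231 := (sb E12790 F142587)
theorem F198303 : act 4 n33719 = n44820 := (sb E12790 (iv F187040))
theorem F198304 : act 7 n33719 = n23196 := (sb E12790 F142590)
theorem F198306 : act 7 n33728 = n23202 := (sb E12791 F142626)
theorem F198309 : act 5 n34164 = n23745 := (sb E12793 F144353)
theorem F198311 : act 8 n34164 = n45305 := (sb E12793 (iv F188836))
theorem F198326 : act 2 n29672 = n23268 := (sb E12804 F142991)
theorem E13602 : n43309 = n23225 := (((iv F180917)).symm.trans (sb E12805 F142752))
theorem F198330 : act 2 n29702 = n23224 := (sb E12806 F142755)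
theorem E13603 : n43294 = n23226 := (((iv F180859)).symm.trans (sb E12806 F142757))
theorem E13605 : n42774 = n20383 := (((F125837).symm.trans (sb E12807 (iv F178719)))).symm
theorem E13610 : n42751 = n20404 := (((iv F178610)).symm.trans (sb E12808 F125952))
theorem E13612 : n23933 = n23839 := ((((iv F101868)).symm.trans (sb E12809 F145484))).symm
theorem E13613 : n23858 = n23730 := (((iv F101968)).symm.trans (sb E12809 (iv D34592)))
theorem E13614 : n45655 = n45503 := ((((iv F189479)).symm.trans (sb E12810 (iv F190024)))).symm
theorem F198335 : act 1 n34463 = n23764 := (sb E12812 F145508)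
theorem F198337 : act 2 n16407 = n23176 := (sb E12816 F142441)
theorem E13615 : n44785 = n23886 := ((((iv F102094)).symm.trans (sb E12816 (iv F186890)))).symm
theorem E13616 : n23888 = n23175 := ((D23888).symm.trans (sb E12816 (iv D33785)))
theorem E13617 : n45552 = n44787 := (((D44787).symm.trans (sb E12817 (iv F189678)))).symm
theorem F198338 : act 2 n33789 = n23889 := (sb E12819 F145195)
theorem F198339 : act 5 n33789 = n23671 := (sb E12819 F145196)
theorem F198340 : act 7 n33789 = n23670 := (sb E12819 F145197)
theorem E13620 : n27104 = n11261 := ((((iv F49945)).symm.trans (sb E12846 F163275))).symm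
theorem E13637 : n26670 = n23794 := (((iv F113179)).symm.trans (sb E12888 F145135))
theorem E13640 : n26054 = n23925 := (((iv F110857)).symm.trans (sb E12899 F145419))
theorem F198409 : act 3 n34582 = n26093 := (sb E12901 F159158)
theorem F198413 : act 3 n34583 = n26075 := (sb E12904 F159163)
theorem F198420 : act 4 n16371 = n12236 := (sb E12907 F77104)
theorem F198421 : act 8 n16371 = n12296 := (sb E12907 F77107)
theorem F198422 : act 1 n29635 = n26093 := (sb E12908 F159323)
theorem E13642 : n43191 = n26095 := (((iv F180417)).symm.trans (sb E12908 F159325))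
theorem F198426 : act 8 n29626 = n26093 := (sb E12909 (iv D38055))
theorem F198434 : act 5 n18316 = n23545 := (sb E12913 F144540)
theorem E13645 : n23843 = n12806 := (((iv F101889)).symm.trans (sb E12918 (iv D18623)))
theorem E13652 : n12579 = n11321 := (((iv F55324)).symm.trans (sb E12922 F71357))
theorem F198479 : act 5 n34969 = n26173 := (sb E12967 (iv D38163))
theorem F198483 : act 6 n38187 = n27644 := (sb E12970 F165537)
theorem F198487 : act 6 n38234 = n27720 := (sb E12973 F165937)
theorem F198513 : act 6 n18874 = n26452 := (sb E13046 F161349)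
theorem E13675 : n12812 = n12737 := ((((iv F55926)).symm.trans (sb E13052 (iv F56280)))).symm
theorem F198527 : act 2 n8780 = n6094 := (sb E13052 F39593)
theorem F198528 : act 5 n8780 = n6093 := (sb E13052 F39595)
theorem F198529 : act 7 n8780 = n6092 := (sb E13052 (iv D8832))
theorem E13738 : n6273 = n2094 := (((F14412).symm.trans (sb E13161 D6273))).symm
theorem E13763 : n13063 = n4304 := (((F28433).symm.trans (sb E13185 D13063))).symm
theorem E13779 : n6236 = n4315 := (((D4315).symm.trans (sb E13197 F40421))).symm
theorem F198603 : act 3 n18414 = n26134 := (sb E13253 F159496)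
theorem F198614 : act 3 n8826 = n12740 := (sb E13269 F79898)
theorem E13810 : n12809 = n12739 := ((((iv F55939)).symm.trans (sb E13269 F79901))).symm
theorem F198615 : act 3 n8782 = n6093 := (sb E13271 F39580)
theorem F198616 : act 7 n8782 = n6090 := (sb E13271 (iv D8829))
theorem F198673 : act 5 n8824 = n12740 := (sb E13529 F79920)
theorem E13987 : n13081 = n9019 := ((((iv F40388)).symm.trans (sb E13559 (iv D19011)))).symm
theorem F198686 : act 0 n45171 = n31102 := (sb E13580 F188895)
theorem F198687 : act 3 n45171 = n31072 := (sb E13580 F188897)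
theorem F198688 : act 7 n45171 = n31067 := (sb E13580 (iv D45323))
theorem F198690 : act 7 n45173 = n31069 := (sb E13581 F188905)
theorem E13992 : n34646 = n31171 := (((iv F145667)).symm.trans (sb E13582 F186430))
theorem F198695 : act 4 n44666 = n31102 := (sb E13583 F189073)
theorem F198696 : act 7 n44666 = n31101 := (sb E13583 (iv D45372))
theorem F198697 : act 1 n23762 = n31190 := (sb E13584 F189366)
theorem F198698 : act 3 n23762 = n31174 := (sb E13584 F189367)
theorem E13994 : n34460 = n31295 := (((iv F144982)).symm.trans (sb E13584 F189370))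
theorem F198699 : act 1 n45322 = n31194 := (sb E13585 F189381)
theorem F198700 : act 5 n45322 = n31174 := (sb E13585 F189383)
theorem F198701 : act 7 n45322 = n31173 := (sb E13585 (iv D45477))
theorem F198702 : act 9 n45322 = n31299 := (sb E13585 F189384)
theorem F198703 : act 1 n23668 = n30729 := (sb E13586 F186900)
theorem F198704 : act 3 n23668 = n30713 := (sb E13586 F186901)
theorem F198705 : act 7 n23668 = n30710 := (sb E13586 (iv D44788))
theorem F198706 : act 3 n44792 = n31223 := (sb E13587 F188578)
theorem F198707 : act 4 n44792 = n31000 := (sb E13587 (iv D45221))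
theorem F198708 : act 9 n44792 = n31101 := (sb E13587 F188580)
theorem F198709 : act 1 n44682 = n31374 := (sb E13588 F187221)
theorem F198710 : act 4 n44682 = n30763 := (sb E13588 F187223)
theorem F198711 : act 7 n44682 = n30762 := (sb E13588 (iv D44867))
theorem F198712 : act 0 n44716 = n30763 := (sb E13589 F187031)
theorem F198713 : act 3 n44716 = n30733 := (sb E13589 F187033)
theorem F198714 : act 5 n44716 = n30729 := (sb E13589 F187034)
theorem F198715 : act 7 n44716 = n30728 := (sb E13589 (iv D44818))
theorem F198716 : act 1 n45187 = n31072 := (sb E13590 F188810)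
theorem F198717 : act 4 n45187 = n31299 := (sb E13590 F188812)
theorem F198718 : act 7 n45187 = n31051 := (sb E13590 (iv D45297))
theorem F198719 : act 1 n45189 = n31074 := (sb E13591 F188818)
theorem F198720 : act 4 n45189 = n31056 := (sb E13591 F188820)
theorem E13997 : n33664 = n16457 := ((D33664).symm.trans (sb E13593 F101729))
theorem E14004 : n29679 = n29657 := ((F193179).symm.trans (sb E13597 (iv D43230)))
theorem E14005 : n34428 = n16450 := (((iv F144867)).symm.trans (sb E13598 F101594))
theorem E14006 : n34649 = n34432 := (((D34432).symm.trans (sb E13598 D34649))).symm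
theorem F198736 : act 1 n23635 = n16313 := (sb E13599 F101494)
theorem E14007 : n34593 = n16385 := (((F101113).symm.trans (sb E13599 (iv F145489)))).symm
theorem E14008 : n34600 = n34462 := (((D34462).symm.trans (sb E13599 D34600))).symm
theorem E14012 : n33864 = n29712 := ((D33864).symm.trans (sb E13602 (iv D43309)))
theorem E14013 : n29701 = n29337 := (((F193169).symm.trans (sb E13603 (iv D43294)))).symm
theorem E14014 : n29355 = n29347 := ((((iv F124530)).symm.trans (sb E13605 F178720))).symm
theorem E14015 : n29368 = n29338 := (((iv F124629)).symm.trans (sb E13610 F178611))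
theorem E14016 : n34738 = n16444 := (((iv F145997)).symm.trans (sb E13612 F102296))
theorem E14018 : n34743 = n16442 := (((iv F146021)).symm.trans (sb E13612 (iv D23933)))
theorem E14020 : n34874 = n34745 := (((D34745).symm.trans (sb E13612 D34874))).symm
theorem E14022 : n34771 = n31292 := ((((iv F132319)).symm.trans (sb E13613 (iv F146162)))).symm
theorem E14024 : n34774 = n34594 := (((D34594).symm.trans (sb E13613 D34774))).symm
theorem F198753 : act 1 n45503 = n31324 := (sb E13614 F190023)
theorem F198754 : act 4 n45503 = n31294 := (sb E13614 (iv D45655))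
theorem F198755 : act 2 n23886 = n30710 := (sb E13615 F186888)
theorem E14025 : n34810 = n30709 := ((D34810).symm.trans (sb E13615 (iv D44785)))
theorem F198757 : act 6 n23175 = n16407 := (sb E13616 (iv D23888))
theorem E14026 : n34814 = n33786 := (((D33786).symm.trans (sb E13616 D34814))).symm
theorem F198758 : act 2 n44787 = n31547 := (sb E13617 F189676)
theorem F198759 : act 4 n44787 = n31224 := (sb E13617 F189677)
theorem F198760 : act 7 n44787 = n31223 := (sb E13617 (iv D45552))
theorem F198761 : act 9 n44787 = n31374 := (sb E13617 F189679)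
theorem E14031 : n18624 = n16375 := (((D16375).symm.trans (sb E13620 F114939))).symm
theorem F198777 : act 4 n23794 = n18316 := (sb E13637 F113177)
theorem E14079 : n37998 = n34863 := (((D34863).symm.trans (sb E13640 D37998))).symm
theorem E14082 : n38056 = n29634 := ((D38056).symm.trans (sb E13642 (iv D43191)))
theorem F198790 : act 5 n12806 = n16376 := (sb E13645 F101889)
theorem E14083 : n34751 = n8823 := ((((iv D12806)).symm.trans (sb E13645 D34751))).symm
theorem E14085 : n18526 = n16448 := (((iv F79885)).symm.trans (sb E13645 F101890))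
theorem F198796 : act 3 n11321 = n8660 := (sb E13652 (iv D12579))
theorem F198806 : act 5 n12737 = n8827 := (sb E13675 F56282)
theorem F198807 : act 7 n12737 = n8826 := (sb E13675 (iv D12812))
theorem E14228 : n4344 = n3012 := (((D3012).symm.trans (sb E13738 F28678))).symm
theorem E14262 : n9009 = n6219 := (((D6219).symm.trans (sb E13763 F57328))).symm
theorem E14285 : n9029 = n6234 := ((((iv F28513)).symm.trans (sb E13779 (iv F40428)))).symm
theorem E14286 : n4389 = n3042 := (((F20192).symm.trans (sb E13779 F28525))).symm
theorem F198844 : act 3 n12739 = n8827 := (sb E13810 F56265)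
theorem F198845 : act 7 n12739 = n8824 := (sb E13810 (iv D12809))
theorem E14612 : n19010 = n13080 := (((D13080).symm.trans (sb E13987 (iv F81952)))).symm
theorem E14617 : n45470 = n23944 := (((iv F189355)).symm.trans (sb E13992 F145668))
theorem E14618 : n45705 = n45472 := (((D45472).symm.trans (sb E13992 (iv F190193)))).symm
theorem F198901 : act 7 n31171 = n23762 := (sb E13992 (iv D34646))
theorem F198903 : act 0 n31295 = n23668 := (sb E13994 F144979)
theorem E14620 : n45651 = n23857 := (((iv F190008)).symm.trans (sb E13994 F144980))
theorem F198904 : act 4 n31295 = n23635 := (sb E13994 (iv D34460))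
theorem E14621 : n45656 = n45502 := (((iv F190027)).symm.trans (sb E13994 (iv F189474)))
theorem F198905 : act 9 n31295 = n23762 := (sb E13994 F144982)
theorem F198906 : act 2 n16457 = n23094 := (sb E13997 (iv D33664))
theorem F198907 : act 9 n16457 = n23175 := (sb E13997 F141964)
theorem E14623 : n42775 = n20382 := (((F125832).symm.trans (sb E14004 (iv F178724)))).symm
theorem E14624 : n23939 = n23836 := (((iv F102320)).symm.trans (sb E14005 F144866))
theorem F198929 : act 2 n16450 = n23617 := (sb E14005 F144867)
theorem F198930 : act 9 n16450 = n23730 := (sb E14005 F144869)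
theorem F198932 : act 2 n34432 = n23947 := (sb E14006 F145680)
theorem F198933 : act 5 n34432 = n23765 := (sb E14006 F145681)
theorem F198934 : act 7 n34432 = n23764 := (sb E14006 F145682)
theorem E14625 : n23934 = n23838 := ((((iv F101863)).symm.trans (sb E14007 F145488))).symm
theorem F198936 : act 1 n34462 = n23765 := (sb E14008 F145511)
theorem F198937 : act 4 n34462 = n45658 := (sb E14008 (iv F190031))
theorem F198946 : act 1 n29712 = n23226 := (sb E14012 F142764)
theorem F198947 : act 2 n29712 = n26095 := (sb E14012 F142765)
theorem E14628 : n42741 = n20412 := (((iv F178558)).symm.trans (sb E14013 F126019))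
theorem E14631 : n42754 = n20181 := (((iv F178624)).symm.trans (sb E14014 F124571))
theorem E14632 : n42506 = n20169 := (((F124531).symm.trans (sb E14014 (iv F177699)))).symm
theorem E14635 : n42742 = n20188 := (((iv F178564)).symm.trans (sb E14015 F124628))
theorem F198950 : act 3 n29338 = n20404 := (sb E14015 F124629)
theorem E14636 : n42519 = n20163 := (((F124489).symm.trans (sb E14015 (iv F177754)))).symm
theorem F198951 : act 2 n16444 = n23839 := (sb E14016 F145997)
theorem F198952 : act 5 n16442 = n23839 := (sb E14018 F146021)
theorem F198953 : act 2 n34745 = n23940 := (sb E14020 F146601)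
theorem F198954 : act 5 n34745 = n23935 := (sb E14020 F146602)
theorem E14640 : n45967 = n45650 := (((D45650).symm.trans (sb E14022 (iv F191149)))).symm
theorem F198956 : act 0 n34594 = n23889 := (sb E14024 F146172)
theorem F198957 : act 5 n34594 = n23860 := (sb E14024 F146173)
theorem F198958 : act 7 n34594 = n23859 := (sb E14024 F146174)
theorem F198959 : act 6 n30709 = n23886 := (sb E14025 (iv D34810))
theorem F198960 : act 6 n33786 = n23889 := (sb E14026 F146348)
theorem F198966 : act 7 n16375 = n12806 := (sb E14031 (iv D18624))
theorem F199003 : act 8 n34863 = n26066 := (sb E14079 F159092)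
theorem F199008 : act 1 n29634 = n26096 := (sb E14082 F159332)
theorem F199009 : act 8 n29634 = n26095 := (sb E14082 (iv D38056))
theorem E14651 : n23943 = n12736 := ((((iv F55924)).symm.trans (sb E14083 F146059))).symm
theorem F199012 : act 2 n16448 = n12737 := (sb E14085 F79883)
theorem F199013 : act 9 n16448 = n12806 := (sb E14085 F79885)
theorem E14702 : n3071 = n2137 := (((F14418).symm.trans (sb E14228 F20316))).symm
theorem E14729 : n13065 = n9007 := ((((iv F40331)).symm.trans (sb E14262 (iv F57335)))).symm
theorem E14746 : n6336 = n4387 := (((F28515).symm.trans (sb E14285 F40430))).symm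
theorem E14748 : n6334 = n2115 := ((((iv D3042)).symm.trans (sb E14286 (iv F28969)))).symm
theorem E14926 : n13278 = n9158 := (((F57407).symm.trans (sb E14612 F81953))).symm
theorem F199138 : act 2 n23944 = n31171 := (sb E14617 F189355)
theorem F199140 : act 0 n45472 = n31374 := (sb E14618 F190190)
theorem F199142 : act 4 n45472 = n31325 := (sb E14618 F190192)
theorem F199143 : act 7 n45472 = n31324 := (sb E14618 (iv D45705))
theorem E14930 : n34742 = n31639 := (((iv F146014)).symm.trans (sb E14620 F190007))
theorem F199146 : act 2 n23857 = n31295 := (sb E14620 F190008)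
theorem F199147 : act 7 n23857 = n31292 := (sb E14620 (iv D45651))
theorem F199148 : act 1 n45502 = n31325 := (sb E14621 F190025)
theorem F199149 : act 3 n45502 = n31299 := (sb E14621 F190026)
theorem F199150 : act 5 n45502 = n31295 := (sb E14621 F190027)
theorem F199151 : act 7 n45502 = n31294 := (sb E14621 (iv D45656))
theorem E14933 : n29356 = n29346 := ((((iv F124525)).symm.trans (sb E14623 F178725))).symm
theorem F199156 : act 1 n23836 = n16450 := (sb E14624 F102320)
theorem F199157 : act 3 n23836 = n16448 := (sb E14624 F102321)
theorem E14934 : n34883 = n34739 := (((D34739).symm.trans (sb E14624 D34883))).symm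
theorem F199160 : act 2 n23838 = n16445 := (sb E14625 F102300)
theorem F199161 : act 7 n23838 = n16442 := (sb E14625 (iv D23934))
theorem E14935 : n34875 = n34744 := (((D34744).symm.trans (sb E14625 D34875))).symm
theorem F199163 : act 1 n20412 = n29337 := (sb E14628 F178558)
theorem E14936 : n29376 = n29332 := (((iv F124663)).symm.trans (sb E14628 (iv D42741)))
theorem E14937 : n29340 = n29181 := ((((iv F123896)).symm.trans (sb E14631 F178625))).symm
theorem E14938 : n29173 = n29169 := ((((iv F123843)).symm.trans (sb E14632 (iv D42506)))).symm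
theorem E14939 : n29333 = n29188 := ((((iv F123926)).symm.trans (sb E14635 F178566))).symm
theorem E14940 : n29182 = n29163 := ((((iv F123817)).symm.trans (sb E14636 F177755))).symm
theorem F199176 : act 0 n45650 = n31547 := (sb E14640 F191146)
theorem F199177 : act 4 n45650 = n31502 := (sb E14640 F191148)
theorem F199188 : act 1 n12736 = n16454 := (sb E14651 F102338)
theorem F199189 : act 6 n12736 = n16448 := (sb E14651 (iv D23943))
theorem E15045 : n4426 = n1488 := ((((iv D2137)).symm.trans (sb E14702 (iv F20711)))).symm
theorem E15087 : n9143 = n6314 := (((F40333).symm.trans (sb E14729 F57337))).symm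
theorem E15111 : n9168 = n3041 := ((((iv D4387)).symm.trans (sb E14746 (iv F41053)))).symm
theorem E15114 : n9171 = n1475 := (((F10367).symm.trans (sb E14748 (iv F41064)))).symm
theorem F199261 : act 8 n9158 = n9158 := (sb E14926 (iv D13278))
theorem F199266 : act 1 n31639 = n23857 := (sb E14930 F146014)
theorem E15393 : n42497 = n20175 := (((iv F177655)).symm.trans (sb E14933 F124576))
theorem E15394 : n42781 = n42767 := (((D42767).symm.trans (sb E14933 D42781))).symm
theorem F199274 : act 1 n34739 = n23947 := (sb E14934 F146638)
theorem F199278 : act 2 n34744 = n23941 := (sb E14935 F146605)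
theorem F199280 : act 7 n34744 = n23935 := (sb E14935 F146607)
theorem E15395 : n42527 = n20160 := ((((iv D29332)).symm.trans (sb E14936 (iv F177787)))).symm
theorem F199283 : act 2 n29181 = n20169 := (sb E14937 F124497)
theorem E15398 : n42491 = n20057 := ((((iv D29181)).symm.trans (sb E14937 (iv F177629)))).symm
theorem F199284 : act 7 n29181 = n20163 := (sb E14937 (iv D29340))
theorem E15399 : n42758 = n42520 := (((D42520).symm.trans (sb E14937 D42758))).symm
theorem E15400 : n42489 = n20059 := (((F123840).symm.trans (sb E14938 (iv F177618)))).symm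
theorem E15401 : n42504 = n20051 := (((F123842).symm.trans (sb E14938 (iv F177690)))).symm
theorem E15402 : n42498 = n20053 := (((iv F177661)).symm.trans (sb E14938 F123862))
theorem E15403 : n42320 = n20052 := (((iv F176877)).symm.trans (sb E14938 (iv D29173)))
theorem E15405 : n42508 = n42502 := (((D42502).symm.trans (sb E14938 D42508))).symm
theorem F199285 : act 1 n29188 = n20163 := (sb E14939 F124462)
theorem E15406 : n42484 = n20063 := (((F123927).symm.trans (sb E14939 (iv F177597)))).symm
theorem E15407 : n42745 = n42528 := (((D42528).symm.trans (sb E14939 D42745))).symm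
theorem E15408 : n42333 = n20045 := ((((iv D29163)).symm.trans (sb E14940 (iv F176944)))).symm
theorem E15409 : n42521 = n42492 := (((D42492).symm.trans (sb E14940 D42521))).symm
theorem E15455 : n6390 = n1039 := (((F7473).symm.trans (sb E15045 (iv F29229)))).symm
theorem E15491 : n13251 = n4371 := ((((iv D6314)).symm.trans (sb E15087 (iv F58148)))).symm
theorem E15513 : n13294 = n2120 := (((F14555).symm.trans (sb E15111 (iv F58346)))).symm
theorem E15514 : n6331 = n4384 := ((((iv F20511)).symm.trans (sb E15111 (iv D9168)))).symm
theorem E15518 : n13300 = n1031 := (((F7404).symm.trans (sb E15114 (iv F58370)))).symm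
theorem F199396 : act 0 n20175 = n29181 := (sb E15393 F177652)
theorem F199397 : act 4 n20175 = n29346 := (sb E15393 F177655)
theorem E15710 : n29175 = n29167 := (((iv F123871)).symm.trans (sb E15393 (iv D42497)))
theorem F199399 : act 4 n42767 = n29360 := (sb E15394 F178753)
theorem F199401 : act 6 n20160 = n29188 := (sb E15395 (iv D42527))
theorem F199403 : act 2 n20057 = n29169 := (sb E15398 F177627)
theorem F199404 : act 7 n20057 = n29163 := (sb E15398 (iv D42491))
theorem F199405 : act 0 n42520 = n29360 := (sb E15399 F178641)
theorem F199406 : act 2 n42520 = n29351 := (sb E15399 F178642)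
theorem F199407 : act 7 n42520 = n29341 := (sb E15399 F178644)
theorem F199408 : act 4 n20059 = n29163 := (sb E15400 F177620)
theorem E15711 : n29162 = n29059 := ((((iv F123361)).symm.trans (sb E15400 (iv D42489)))).symm
theorem E15712 : n29172 = n29051 := ((((iv F123322)).symm.trans (sb E15401 (iv D42504)))).symm
theorem F199409 : act 4 n20053 = n29169 := (sb E15402 F177661)
theorem F199410 : act 6 n20052 = n29169 := (sb E15403 F176877)
theorem E15713 : n29052 = n29048 := (((iv F123328)).symm.trans (sb E15403 (iv D42320)))
theorem F199411 : act 2 n42502 = n29183 := (sb E15405 F177707)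
theorem F199412 : act 4 n42502 = n29176 := (sb E15405 F177708)
theorem F199413 : act 6 n42502 = n29174 := (sb E15405 F177709)
theorem F199414 : act 1 n20063 = n29163 := (sb E15406 F177594)
theorem E15714 : n29160 = n29063 := ((((iv F123382)).symm.trans (sb E15406 (iv D42484)))).symm
theorem F199415 : act 1 n42528 = n29341 := (sb E15407 F178581)
theorem F199416 : act 6 n42528 = n29334 := (sb E15407 F178583)
theorem E15715 : n29057 = n29045 := ((((iv F123287)).symm.trans (sb E15408 (iv D42333)))).symm
theorem F199417 : act 1 n42492 = n29190 := (sb E15409 F177761)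
theorem F199418 : act 4 n42492 = n29186 := (sb E15409 F177762)
theorem F199419 : act 7 n42492 = n29183 := (sb E15409 F177763)
theorem E15797 : n9250 = n722 := (((F5342).symm.trans (sb E15455 (iv F41423)))).symm
theorem E15851 : n19256 = n3036 := (((F20440).symm.trans (sb E15491 (iv F83005)))).symm
theorem E15885 : n19320 = n1479 := (((F10389).symm.trans (sb E15513 (iv F83295)))).symm
theorem E15886 : n9167 = n3047 := ((((iv F14585)).symm.trans (sb E15513 (iv D13294)))).symm
theorem E15889 : n9169 = n6332 := (((D6332).symm.trans (sb E15514 D9169))).symm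
theorem E15894 : n9170 = n1478 := ((((iv F7422)).symm.trans (sb E15518 (iv D13300)))).symm
theorem F199486 : act 2 n29167 = n20059 := (sb E15710 F123869)
theorem F199487 : act 5 n29167 = n20175 := (sb E15710 F123871)
theorem E16167 : n42326 = n20047 := ((((iv D29167)).symm.trans (sb E15710 (iv F176909)))).symm
theorem F199488 : act 7 n29167 = n20053 := (sb E15710 (iv D29175))
theorem E16168 : n42511 = n42499 := (((D42499).symm.trans (sb E15710 D42511))).symm
theorem F199489 : act 0 n29059 = n20052 := (sb E15711 F123810)
theorem F199490 : act 4 n29059 = n20045 := (sb E15711 (iv D29162))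
theorem E16171 : n42313 = n19974 := ((((iv D29059)).symm.trans (sb E15711 (iv F176841)))).symm
theorem E16172 : n42490 = n42337 := (((D42337).symm.trans (sb E15711 D42490))).symm
theorem F199491 : act 3 n29051 = n20052 := (sb E15712 (iv D29172))
theorem E16175 : n42314 = n19973 := (((iv F176844)).symm.trans (sb E15713 F123326))
theorem E16176 : n42318 = n19971 := (((iv F176866)).symm.trans (sb E15713 (iv D29052)))
theorem F199492 : act 7 n29048 = n20052 := (sb E15713 F123328)
theorem E16178 : n42325 = n42321 := (((D42321).symm.trans (sb E15713 D42325))).symm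
theorem F199493 : act 1 n29063 = n20045 := (sb E15714 F123801)
theorem E16179 : n42339 = n20044 := (((iv F176973)).symm.trans (sb E15714 (iv D29160)))
theorem E16180 : n42311 = n19978 := ((((iv D29063)).symm.trans (sb E15714 (iv F176830)))).symm
theorem E16181 : n42485 = n42341 := (((D42341).symm.trans (sb E15714 D42485))).symm
theorem E16183 : n42334 = n42315 := (((D42315).symm.trans (sb E15715 D42334))).symm
theorem E16229 : n6389 = n1041 := ((((iv F5353)).symm.trans (sb E15797 (iv D9250)))).symm
theorem E16280 : n13250 = n4377 := ((((iv F20472)).symm.trans (sb E15851 (iv D19256)))).symm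
theorem E16312 : n13293 = n2123 := ((((iv F10408)).symm.trans (sb E15885 (iv D19320)))).symm
theorem E16314 : n6346 = n4395 := (((D4395).symm.trans (sb E15886 F41049))).symm
theorem F199533 : act 3 n6332 = n6332 := (sb E15889 F41057)
theorem E16324 : n6348 = n2124 := (((D2124).symm.trans (sb E15894 F41061))).symm
theorem F199558 : act 2 n20047 = n29059 := (sb E16167 F176906)
theorem E16432 : n29053 = n29047 := ((((iv F123298)).symm.trans (sb E16167 (iv D42326)))).symm
theorem F199559 : act 2 n42499 = n29186 := (sb E16168 F177718)
theorem F199560 : act 5 n42499 = n29360 := (sb E16168 F177719)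
theorem F199561 : act 7 n42499 = n29176 := (sb E16168 F177720)
theorem F199562 : act 4 n19974 = n29045 := (sb E16171 (iv D42313))
theorem F199563 : act 0 n42337 = n29174 := (sb E16172 F177622)
theorem F199564 : act 2 n42337 = n29168 := (sb E16172 F177623)
theorem F199565 : act 4 n42337 = n29164 := (sb E16172 F177624)
theorem F199566 : act 2 n19973 = n29048 := (sb E16175 F176844)
theorem F199567 : act 6 n19973 = n29045 := (sb E16175 (iv D42314))
theorem F199568 : act 4 n19971 = n29048 := (sb E16176 F176866)
theorem F199569 : act 2 n42321 = n29058 := (sb E16178 F176901)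
theorem F199570 : act 4 n42321 = n29054 := (sb E16178 F176902)
theorem F199571 : act 7 n42321 = n29174 := (sb E16178 F176904)
theorem F199572 : act 5 n20044 = n29063 := (sb E16179 F176973)
theorem E16433 : n29062 = n29044 := ((((iv F123282)).symm.trans (sb E16179 (iv D42339)))).symm
theorem F199573 : act 1 n19978 = n29045 := (sb E16180 F176827)
theorem F199574 : act 1 n42341 = n29164 := (sb E16181 F177600)
theorem F199575 : act 5 n42341 = n29161 := (sb E16181 F177602)
theorem F199576 : act 1 n42315 = n29064 := (sb E16183 F176946)
theorem F199577 : act 4 n42315 = n29060 := (sb E16183 F176947)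
theorem F199578 : act 6 n42315 = n29058 := (sb E16183 F176948)
theorem E16506 : n4434 = n1493 := (((D1493).symm.trans (sb E16229 F29226))).symm
theorem E16577 : n9153 = n6322 := (((D6322).symm.trans (sb E16280 F58144))).symm
theorem E16620 : n9189 = n3052 := (((D3052).symm.trans (sb E16312 F58343))).symm
theorem F199599 : act 2 n4395 = n4395 := (sb E16314 (iv D6346))
theorem E16624 : n9186 = n6344 := ((((iv F29013)).symm.trans (sb E16314 (iv F41129)))).symm
theorem E16625 : n9190 = n6347 := (((D6347).symm.trans (sb E16314 D9190))).symm
theorem E16635 : n4403 = n3054 := (((D3054).symm.trans (sb E16324 F29032))).symm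
theorem F199614 : act 2 n29047 = n19974 := (sb E16432 F123331)
theorem F199615 : act 6 n29047 = n19971 := (sb E16432 (iv D29053))
theorem E16775 : n42327 = n42319 := (((D42319).symm.trans (sb E16432 D42327))).symm
theorem F199616 : act 5 n29044 = n19978 := (sb E16433 (iv D29062))
theorem E16776 : n42340 = n42312 := (((D42312).symm.trans (sb E16433 D42340))).symm
theorem E16818 : n3078 = n2143 := (((D2143).symm.trans (sb E16506 F20741))).symm
theorem E16846 : n13269 = n9151 := ((((iv F40968)).symm.trans (sb E16577 (iv F58226)))).symm
theorem E16864 : n6354 = n4401 := (((D4401).symm.trans (sb E16620 F41144))).symm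
theorem E16870 : n13321 = n9188 := (((D9188).symm.trans (sb E16624 D13321))).symm
theorem E16871 : n13326 = n9191 := (((D9191).symm.trans (sb E16625 D13326))).symm
theorem F199635 : act 1 n3054 = n3054 := (sb E16635 (iv D4403))
theorem F199649 : act 2 n42319 = n29060 := (sb E16775 F176912)
theorem F199650 : act 6 n42319 = n29054 := (sb E16775 F176914)
theorem F199651 : act 5 n42312 = n29064 := (sb E16776 F176978)
theorem F199654 : act 1 n2143 = n2143 := (sb E16818 (iv D3078))
theorem E16987 : n19282 = n13270 := (((D13270).symm.trans (sb E16846 D19282))).symm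
theorem E16988 : n19283 = n13271 := (((D13271).symm.trans (sb E16846 D19283))).symm
theorem F199660 : act 1 n4401 = n4401 := (sb E16864 (iv D6354))
theorem E17011 : n9195 = n6351 := ((((iv F29049)).symm.trans (sb E16864 (iv F41175)))).symm
theorem E17012 : n9201 = n6355 := (((D6355).symm.trans (sb E16864 D9201))).symm
theorem E17019 : n19359 = n13323 := (((D13323).symm.trans (sb E16870 D19359))).symm
theorem F199663 : act 2 n9191 = n9191 := (sb E16871 F58486)
theorem E17073 : n28048 = n19284 := (((D19284).symm.trans (sb E16987 D28048))).symm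
theorem F199675 : act 2 n13271 = n13271 := (sb E16988 F83124)
theorem F199677 : act 1 n6351 = n6351 := (sb E17011 (iv D9195))
theorem E17087 : n13331 = n9196 := (((D9196).symm.trans (sb E17011 D13331))).symm
theorem E17088 : n13332 = n9197 := (((D9197).symm.trans (sb E17011 D13332))).symm
theorem E17089 : n13338 = n9202 := (((D9202).symm.trans (sb E17012 D13338))).symm
theorem F199680 : act 2 n13323 = n13323 := (sb E17019 F83463)
theorem F199686 : act 2 n19284 = n19284 := (sb E17073 F118911)
theorem F199688 : act 1 n9196 = n9196 := (sb E17087 F58512)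
theorem E17151 : n19369 = n13333 := (((D13333).symm.trans (sb E17087 D19369))).symm
theorem E17152 : n19370 = n13334 := (((D13334).symm.trans (sb E17087 D19370))).symm
theorem E17153 : n19371 = n13335 := (((D13335).symm.trans (sb E17088 D19371))).symm
theorem E17154 : n19378 = n13339 := (((D13339).symm.trans (sb E17089 D19378))).symm
theorem F199695 : act 1 n13333 = n13333 := (sb E17151 F83515)
theorem E17187 : n28167 = n19372 := (((D19372).symm.trans (sb E17151 D28167))).symm
theorem F199696 : act 1 n13334 = n13334 := (sb E17152 F83520)
theorem E17190 : n28170 = n19375 := (((D19375).symm.trans (sb E17153 D28170))).symm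
theorem E17192 : n28178 = n19379 := (((D19379).symm.trans (sb E17154 D28178))).symm
theorem F199701 : act 1 n19372 = n19372 := (sb E17187 F119446)
theorem F199704 : act 1 n19375 = n19375 := (sb E17190 F119464)
theorem E17228 : n41040 = n28179 := (((D28179).symm.trans (sb E17192 D41040))).symm
theorem F199712 : act 1 n28179 = n28179 := (sb E17228 F171388)
theorem E17249 : n28179 = n19379 := ((c46_5 F83556 F83553 D19379 F83578 F83577 F199712 F119518 F119522 (iv D28179) (iv D19379) (iv D13339) F41215 (iv F41153) (iv F58253) (iv D13274) (iv F58240) (iv F83131) F83130 F199686 F83129 F83128 D19360 F83470 F83469 F58471 F199680 F58470 F41197 (iv D9199) F29061 F20601 F20600 F14616 (iv F20567) (iv F28914) F28919 (iv F40975) F40974 (iv F58239) F199675 F58238 F58237 D13323 F58472 F41155 F41154 F199663 F41153 F29075 (iv D6356) (iv F29061) (iv F41193) F41192 (iv F58529) F199696 F58528 D19374 F83547 F83546 D19375 F83552 F199704 F83551)).symm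
theorem E17250 : n41035 = n13339 := ((((iv D19379)).symm.trans (sb E17249 (iv F171360)))).symm
theorem E17252 : n28174 = n19375 := ((((iv F83553)).symm.trans (sb E17250 (iv D41035)))).symm
theorem E17254 : n41034 = n13335 := ((((iv D19375)).symm.trans (sb E17252 (iv F171354)))).symm
theorem E17256 : n28173 = n19374 := ((((iv F83546)).symm.trans (sb E17254 (iv D41034)))).symm
theorem E17259 : n41032 = n13334 := ((((iv D19374)).symm.trans (sb E17256 (iv F171346)))).symm
theorem E17261 : n28172 = n19373 := ((((iv F83539)).symm.trans (sb E17259 (iv D41032)))).symm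
theorem E17263 : n41031 = n13333 := ((((iv D19373)).symm.trans (sb E17261 (iv F171341)))).symm
theorem E17264 : n28171 = n19372 := (((D19372).symm.trans (sb E17263 (iv D41031)))).symm
theorem F199726 : act 9 n19372 = n19372 := (sb E17264 (iv D28171))
theorem E17265 : n40383 = n1010 := (c45_52 F199726 (iv D19372) (iv D13333) F41181 (iv D9196) F29048 F199677 (iv D6351) (iv D4399) D4400 F20592 (iv F29060) F29061 F20601 F20600 (iv F20567) (iv F28960) F199533 (iv D6332) (iv D4384) (iv F20496) D6326 D9158 F41009 F41007 F41008 F41009 F41012 F199261 F41009 (iv F57407) (iv D13080) F40388 F28493 F28494 F20209 F20212 D6241 D9037 F40467 F28551 (iv D6242) F20213 F14356 D4325 D6249 D9049 F40517 (iv F57579) (iv F82188) D27736 (iv F168514) F5203 F3685 F3690 F3689 F3685 F3687 F3686 F3685 F3684 (iv F3758) (iv F5299) F5302 D1479 F7427 F7428 (iv F10408) D3052 (iv F20562) F199599 (iv D4395) D4396 F20571 (iv F29028) (iv F41141) (iv F58466) F58465 F58464 (iv F58529) (iv F83539) (iv D19373) D19372 F83532 F83534 F83533 F83532 F199701 F83531 F83532)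
theorem E17266 : n27736 = n1447 := ((((iv F7274)).symm.trans (sb E17265 F168514))).symm
theorem E17267 : n27720 = n1449 := ((((iv F7286)).symm.trans (sb E17265 (iv D40383)))).symm
theorem E17268 : n35505 = n2076 := ((((iv F10187)).symm.trans (sb E17266 (iv F149149)))).symm
theorem E17270 : n19068 = n2080 := ((((iv F10208)).symm.trans (sb E17266 (iv D27736)))).symm
theorem E17272 : n40278 = n1833 := ((((iv F9147)).symm.trans (sb E17267 (iv F168086)))).symm
theorem E17273 : n19055 = n2083 := ((((iv F10223)).symm.trans (sb E17267 F117490))).symm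
theorem E17274 : n38234 = n1008 := ((((iv D1449)).symm.trans (sb E17267 (iv F198487)))).symm
theorem E17276 : n24378 = n2985 := ((((iv F14296)).symm.trans (sb E17268 (iv D35505)))).symm
theorem E17277 : n27734 = n2989 := ((((iv F14314)).symm.trans (sb E17270 (iv F117551)))).symm
theorem E17278 : n13121 = n2993 := ((((iv F14335)).symm.trans (sb E17270 F82188))).symm
theorem E17279 : n27291 = n1445 := ((((iv D2080)).symm.trans (sb E17270 (iv F115734)))).symm
theorem E17281 : n27645 = n2637 := ((((iv F12838)).symm.trans (sb E17272 F168087))).symm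
theorem E17282 : n27644 = n2639 := (((D2639).symm.trans (sb E17272 (iv D40278)))).symm
theorem E17283 : n13113 = n2997 := (((D2997).symm.trans (sb E17273 F82134))).symm
theorem E17284 : n27270 = n1448 := ((((iv D2083)).symm.trans (sb E17273 (iv F115653)))).symm
theorem E17286 : n26220 = n698 := ((((iv D1008)).symm.trans (sb E17274 F160070))).symm
theorem E17290 : n35489 = n3791 := ((((iv F18000)).symm.trans (sb E17276 (iv F149071)))).symm
theorem E17291 : n35503 = n4303 := ((((iv F20132)).symm.trans (sb E17276 (iv F149138)))).symm
theorem E17292 : n16757 = n4307 := ((((iv F20153)).symm.trans (sb E17276 F104105))).symm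
theorem E17293 : n35060 = n2074 := ((((iv D2985)).symm.trans (sb E17276 (iv F147367)))).symm
theorem E17296 : n19067 = n4312 := ((((iv F20176)).symm.trans (sb E17277 F117552))).symm
theorem E17297 : n39773 = n2077 := ((((iv D2989)).symm.trans (sb E17277 (iv F166031)))).symm
theorem E17299 : n9049 = n4319 := (((D4319).symm.trans (sb E17278 F57579))).symm
theorem E17300 : n18753 = n2079 := ((((iv D2993)).symm.trans (sb E17278 (iv F80897)))).symm
theorem E17302 : n36876 = n1006 := ((((iv D1445)).symm.trans (sb E17279 (iv F197653)))).symm
theorem E17306 : n35414 = n3799 := ((((iv F18040)).symm.trans (sb E17281 (iv F148760)))).symm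
theorem E17307 : n19006 = n3803 := (((D3803).symm.trans (sb E17281 F117184))).symm
theorem E17308 : n39648 = n1832 := ((((iv D2637)).symm.trans (sb E17281 (iv F165541)))).symm
theorem E17310 : n35413 = n3801 := ((((iv F18048)).symm.trans (sb E17282 (iv F148754)))).symm
theorem E17311 : n38187 = n1834 := (((F12849).symm.trans (sb E17282 (iv F198483)))).symm
theorem E17313 : n9043 = n4239 := ((((iv F19873)).symm.trans (sb E17283 F57547))).symm
theorem E17315 : n18742 = n2036 := ((((iv F10022)).symm.trans (sb E17284 F115652))).symm
theorem E17321 : n38235 = n481 := ((((iv D698)).symm.trans (sb E17286 D38235))).symm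
theorem E17322 : n18006 = n983 := ((((iv F5086)).symm.trans (sb E17286 F111550))).symm
theorem E17329 : n24365 = n5478 := ((((iv F25388)).symm.trans (sb E17290 F149072))).symm
theorem E17330 : n24364 = n5480 := (((D5480).symm.trans (sb E17290 (iv D35489)))).symm
theorem E17331 : n24377 = n6216 := ((((iv F28428)).symm.trans (sb E17291 F149139))).symm
theorem E17332 : n24376 = n6218 := (((D6218).symm.trans (sb E17291 (iv D35503)))).symm
theorem E17333 : n11537 = n6223 := (((D6223).symm.trans (sb E17292 F72845))).symm
theorem E17334 : n24063 = n2984 := ((((iv D4307)).symm.trans (sb E17292 (iv F102844)))).symm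
theorem E17335 : n11534 = n6224 := (((D6224).symm.trans (sb E17292 (iv D16757)))).symm
theorem E17336 : n24062 = n2986 := (((D2986).symm.trans (sb E17293 (iv D35060)))).symm
theorem E17339 : n13124 = n6230 := (((D6230).symm.trans (sb E17296 F82185))).symm
theorem E17340 : n27290 = n2988 := ((((iv D4312)).symm.trans (sb E17296 (iv F115731)))).symm
theorem E17342 : n27289 = n2990 := (((D2990).symm.trans (sb E17297 (iv D39773)))).symm
theorem E17345 : n6252 = n6122 := ((((iv F28042)).symm.trans (sb E17299 F40519))).symm
theorem E17347 : n12900 = n2929 := ((((iv F14063)).symm.trans (sb E17300 F80896))).symm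
theorem E17352 : n25303 = n1411 := ((((iv F7119)).symm.trans (sb E17302 F154766))).symm
theorem E17357 : n24316 = n5490 := (((D5490).symm.trans (sb E17306 F148762))).symm
theorem E17358 : n24313 = n5491 := (((D5491).symm.trans (sb E17306 (iv D35414)))).symm
theorem E17359 : n13079 = n5410 := ((((iv F25097)).symm.trans (sb E17307 F81935))).symm
theorem E17361 : n27206 = n2590 := ((((iv F12623)).symm.trans (sb E17308 F165540))).symm
theorem E17365 : n24312 = n5494 := (((D5494).symm.trans (sb E17310 (iv D35413)))).symm
theorem E17366 : n26188 = n1276 := (((F9156).symm.trans (sb E17311 F159889))).symm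
theorem E17369 : n12890 = n2934 := ((((iv D4239)).symm.trans (sb E17313 (iv F56625)))).symm
theorem E17372 : n26217 = n1413 := ((((iv D2036)).symm.trans (sb E17315 F197705))).symm
theorem E17373 : n26452 = n1423 := (((F10023).symm.trans (sb E17315 (iv F198081)))).symm
theorem E17381 : n26334 = n328 := ((((iv D481)).symm.trans (sb E17321 F160073))).symm
theorem E17383 : n12424 = n679 := ((((iv D983)).symm.trans (sb E17322 F77949))).symm
theorem E17384 : n12479 = n683 := (((F5088).symm.trans (sb E17322 F77951))).symm
theorem E17385 : n12373 = n1414 := (((D1414).symm.trans (sb E17322 (iv D18006)))).symm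
theorem E17390 : n35488 = n7923 := ((((iv F35882)).symm.trans (sb E17329 (iv F149067)))).symm
theorem E17391 : n16749 = n7930 := (((D7930).symm.trans (sb E17329 F104046))).symm
theorem E17392 : n35039 = n3790 := ((((iv D5478)).symm.trans (sb E17329 (iv F147277)))).symm
theorem E17395 : n35038 = n3792 := (((F25399).symm.trans (sb E17330 (iv F147273)))).symm
theorem E17397 : n35500 = n8993 := ((((iv F40263)).symm.trans (sb E17331 (iv F149121)))).symm
theorem E17399 : n16760 = n9003 := (((D9003).symm.trans (sb E17331 F104101))).symm
theorem E17400 : n35059 = n4302 := ((((iv D6216)).symm.trans (sb E17331 (iv F147363)))).symm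
theorem E17404 : n35058 = n4304 := (((F28438).symm.trans (sb E17332 (iv F147359)))).symm
theorem E17406 : n8854 = n7959 := (((iv F39699)).symm.trans (sb E17333 F51152))
theorem E17407 : n9014 = n7956 := ((D9014).symm.trans (sb E17333 (iv D11537)))
theorem E17408 : n16536 = n4224 := ((((iv F19805)).symm.trans (sb E17334 F102843))).symm
theorem E17410 : n16531 = n4308 := (((D4308).symm.trans (sb E17334 (iv D24063)))).symm
theorem E17412 : n9016 = n7953 := ((D9016).symm.trans (sb E17335 (iv D11534)))
theorem E17413 : n34126 = n2075 := (((F14302).symm.trans (sb E17336 (iv F143823)))).symm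
theorem E17419 : n9052 = n8863 := ((((iv F39739)).symm.trans (sb E17339 F57594))).symm
theorem E17421 : n18759 = n4229 := ((((iv F19828)).symm.trans (sb E17340 F115730))).symm
theorem E17425 : n39772 = n4315 := (((D4315).symm.trans (sb E17342 (iv F166026)))).symm
theorem E17426 : n36800 = n2078 := (((F14321).symm.trans (sb E17342 (iv F196886)))).symm
theorem E17431 : n8893 = n4234 := ((((iv D6122)).symm.trans (sb E17345 (iv F39862)))).symm
theorem E17433 : n8877 = n4328 := ((D8877).symm.trans (sb E17345 (iv D6252)))
theorem E17434 : n18103 = n2033 := ((((iv D2929)).symm.trans (sb E17347 (iv F78331)))).symm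
theorem E17435 : n18756 = n2047 := (((F14064).symm.trans (sb E17347 (iv F80909)))).symm
theorem E17436 : n8890 = n4235 := (((D4235).symm.trans (sb E17347 (iv D12900)))).symm
theorem E17442 : n17435 = n982 := ((((iv D1411)).symm.trans (sb E17352 F107949))).symm
theorem E17443 : n17567 = n987 := (((F7121).symm.trans (sb E17352 F107951))).symm
theorem E17444 : n17384 = n2034 := (((D2034).symm.trans (sb E17352 (iv D25303)))).symm
theorem E17452 : n35417 = n7937 := ((((iv F35954)).symm.trans (sb E17357 (iv F148777)))).symm
theorem E17453 : n16715 = n7829 := ((((iv F35490)).symm.trans (sb E17357 F103845))).symm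
theorem E17455 : n35412 = n7938 := ((((iv F35959)).symm.trans (sb E17358 (iv F148750)))).symm
theorem E17456 : n16710 = n7949 := (((D7949).symm.trans (sb E17358 F103828))).symm
theorem E17457 : n34970 = n3800 := (((F25453).symm.trans (sb E17358 (iv F147014)))).symm
theorem E17459 : n18697 = n3740 := ((((iv D5410)).symm.trans (sb E17359 (iv F80670)))).symm
theorem E17463 : n38185 = n1797 := ((((iv D2590)).symm.trans (sb E17361 (iv F197703)))).symm
theorem E17471 : n34969 = n3802 := (((F25466).symm.trans (sb E17365 (iv F147008)))).symm
theorem E17472 : n38164 = n1830 := ((((iv F9131)).symm.trans (sb E17366 (iv F159777)))).symm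
theorem E17473 : n17984 = n1798 := ((((iv F8985)).symm.trans (sb E17366 F111421))).symm
theorem E17478 : n18092 = n2037 := (((F14086).symm.trans (sb E17369 (iv F78293)))).symm
theorem E17482 : n18078 = n984 := (((F7129).symm.trans (sb E17372 F111537))).symm
theorem E17483 : n18159 = n989 := (((F7130).symm.trans (sb E17372 F111539))).symm
theorem E17484 : n18003 = n2038 := (((D2038).symm.trans (sb E17372 (iv D26217)))).symm
theorem E17485 : n18874 = n2052 := (((D2052).symm.trans (sb E17373 (iv F198513)))).symm
theorem E17501 : n18081 = n466 := ((((iv F2519)).symm.trans (sb E17381 (iv D26334)))).symm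
theorem E17505 : n8875 = n467 := (((F3589).symm.trans (sb E17383 F54776))).symm
theorem E17507 : n8553 = n944 := ((((iv F4919)).symm.trans (sb E17383 (iv D12424)))).symm
theorem E17508 : n8695 = n473 := (((F3609).symm.trans (sb E17384 F54982))).symm
theorem E17509 : n8589 = n990 := (((D990).symm.trans (sb E17384 (iv D12479)))).symm
theorem E17510 : n8520 = n1957 := ((((iv F9698)).symm.trans (sb E17385 F54574))).symm
theorem E17514 : n24368 = n11491 := (((D11491).symm.trans (sb E17390 F149068))).symm
theorem E17515 : n24363 = n11492 := (((D11492).symm.trans (sb E17390 (iv D35488)))).symm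
theorem E17516 : n11531 = n11342 := ((((iv F50328)).symm.trans (sb E17391 F72809))).symm
theorem E17518 : n24052 = n5395 := ((((iv F25027)).symm.trans (sb E17392 F147276))).symm
theorem E17519 : n24047 = n5479 := (((D5479).symm.trans (sb E17392 (iv D35039)))).symm
theorem E17523 : n24046 = n5481 := (((D5481).symm.trans (sb E17395 (iv D35038)))).symm
theorem E17524 : n24380 = n13041 := (((D13041).symm.trans (sb E17397 F149122))).symm
theorem E17525 : n24374 = n13042 := (((D13042).symm.trans (sb E17397 (iv D35500)))).symm
theorem E17527 : n12837 = n11540 := (((iv F56398)).symm.trans (sb E17399 F72862))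
theorem E17529 : n24069 = n6103 := ((((iv F27954)).symm.trans (sb E17400 F147362))).symm
theorem E17534 : n24060 = n6220 := (((D6220).symm.trans (sb E17404 (iv D35058)))).symm
theorem E17535 : n11381 = n6108 := (((iv F50500)).symm.trans (sb E17406 (iv D8854)))
theorem F199734 : act 6 n7959 = n6223 := (sb E17406 F39699)
theorem F199737 : act 8 n7956 = n6223 := (sb E17407 (iv D9014))
theorem E17538 : n23413 = n2924 := ((((iv D4224)).symm.trans (sb E17408 (iv F100329)))).symm
theorem E17539 : n24066 = n2942 := (((F19806).symm.trans (sb E17408 (iv F102858)))).symm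
theorem E17540 : n11378 = n6109 := (((D6109).symm.trans (sb E17408 (iv D16536)))).symm
theorem E17543 : n11373 = n6226 := (((D6226).symm.trans (sb E17410 (iv D16531)))).symm
theorem F199742 : act 9 n7953 = n6224 := (sb E17412 (iv D9016))
theorem E17544 : n23408 = n2925 := ((((iv F14043)).symm.trans (sb E17413 F143822))).symm
theorem E17551 : n12903 = n6114 := ((((iv D8863)).symm.trans (sb E17419 (iv F56673)))).symm
theorem E17554 : n26364 = n2927 := ((((iv D4229)).symm.trans (sb E17421 (iv F112113)))).symm
theorem E17559 : n27288 = n6237 := (((D6237).symm.trans (sb E17425 (iv D39772)))).symm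
theorem E17560 : n25252 = n2928 := ((((iv F14058)).symm.trans (sb E17426 F154452))).symm
theorem E17561 : n25499 = n1456 := (((F10202).symm.trans (sb E17426 F154454))).symm
theorem E17565 : n12443 = n2930 := (((F19852).symm.trans (sb E17431 (iv F54847)))).symm
theorem E17566 : n6183 = n6123 := (((D6123).symm.trans (sb E17431 F39863))).symm
theorem E17567 : n6135 = n6124 := (((D6124).symm.trans (sb E17431 (iv D8893)))).symm
theorem F199748 : act 6 n4328 = n6241 := (sb E17433 F39803)
theorem F199749 : act 8 n4328 = n6122 := (sb E17433 (iv D8877))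
theorem E17569 : n25375 = n1412 := (((F10008).symm.trans (sb E17434 F196911))).symm
theorem E17570 : n25572 = n1420 := (((F10009).symm.trans (sb E17434 (iv F197265)))).symm
theorem E17571 : n12440 = n2931 := (((D2931).symm.trans (sb E17434 (iv D18103)))).symm
theorem E17572 : n12988 = n2952 := (((D2952).symm.trans (sb E17435 F80908))).symm
theorem E17573 : n12897 = n2953 := (((D2953).symm.trans (sb E17435 (iv D18756)))).symm
theorem E17574 : n6133 = n6125 := (((D6125).symm.trans (sb E17436 F39851))).symm
theorem E17575 : n6132 = n6126 := (((D6126).symm.trans (sb E17436 (iv D8890)))).symm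
theorem E17582 : n12128 = n682 := (((F5083).symm.trans (sb E17442 F75708))).symm
theorem E17583 : n11989 = n1357 := ((((iv F6900)).symm.trans (sb E17442 (iv D17435)))).symm
theorem E17584 : n12260 = n687 := (((F5105).symm.trans (sb E17443 F76201))).symm
theorem E17585 : n12077 = n1421 := (((D1421).symm.trans (sb E17443 (iv D17567)))).symm
theorem E17586 : n11956 = n2818 := ((((iv F13626)).symm.trans (sb E17444 F75497))).symm
theorem E17594 : n24319 = n11351 := ((((iv F50372)).symm.trans (sb E17452 F148779))).symm
theorem E17596 : n24007 = n5405 := ((((iv D7829)).symm.trans (sb E17453 (iv F102622)))).symm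
theorem E17599 : n24311 = n11513 := (((D11513).symm.trans (sb E17455 (iv D35412)))).symm
theorem E17600 : n24291 = n11527 := (((D11527).symm.trans (sb E17456 (iv F103729)))).symm
theorem E17601 : n24000 = n5492 := (((F36012).symm.trans (sb E17456 (iv F102591)))).symm
theorem E17602 : n24004 = n5406 := ((((iv F25079)).symm.trans (sb E17457 F147013))).symm
theorem E17604 : n26298 = n2591 := (((F17777).symm.trans (sb E17459 (iv F111875)))).symm
theorem E17608 : n26284 = n1251 := (((F8980).symm.trans (sb E17463 F159877))).symm
theorem E17609 : n26406 = n1256 := (((F8981).symm.trans (sb E17463 F159879))).symm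
theorem E17610 : n26186 = n2592 := (((D2592).symm.trans (sb E17463 (iv D38185)))).symm
theorem E17619 : n26173 = n2636 := (((F18055).symm.trans (sb E17471 F198479))).symm
theorem E17621 : n26174 = n2588 := ((((iv F12613)).symm.trans (sb E17472 F159779))).symm
theorem E17623 : n12359 = n2511 := ((((iv F12279)).symm.trans (sb E17473 F77858))).symm
theorem E17628 : n26231 = n1415 := (((F10026).symm.trans (sb E17478 (iv F111600)))).symm
theorem E17629 : n12565 = n2936 := (((D2936).symm.trans (sb E17478 F78295))).symm
theorem E17630 : n12431 = n2937 := (((D2937).symm.trans (sb E17478 (iv D18092)))).symm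
theorem E17635 : n12421 = n1359 := ((((iv F6907)).symm.trans (sb E17482 (iv D18078)))).symm
theorem E17636 : n26449 = n1424 := (((D1424).symm.trans (sb E17483 (iv F112417)))).symm
theorem E17637 : n12476 = n1425 := (((D1425).symm.trans (sb E17483 (iv D18159)))).symm
theorem E17638 : n12371 = n2822 := ((((iv F13640)).symm.trans (sb E17484 F77936))).symm
theorem E17640 : n12979 = n2958 := (((D2958).symm.trans (sb E17485 (iv D18874)))).symm
theorem E17658 : n12880 = n317 := ((((iv D466)).symm.trans (sb E17501 F78245))).symm
theorem E17664 : n6121 = n653 := ((((iv F3477)).symm.trans (sb E17505 (iv D8875)))).symm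
theorem E17667 : n5896 = n1358 := (((D1358).symm.trans (sb E17507 F38511))).symm
theorem E17669 : n12631 = n689 := (((D689).symm.trans (sb E17508 (iv F55525)))).symm
theorem E17670 : n5990 = n690 := (((D690).symm.trans (sb E17508 (iv D8695)))).symm
theorem E17671 : n5921 = n1370 := ((((iv F6947)).symm.trans (sb E17509 F38643))).symm
theorem E17673 : n5877 = n2734 := ((((iv F13286)).symm.trans (sb E17510 F38380))).symm
theorem E17676 : n35491 = n16677 := ((((iv F72474)).symm.trans (sb E17514 (iv F149081)))).symm
theorem E17678 : n16752 = n16473 := ((((iv F71677)).symm.trans (sb E17514 F104061))).symm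
theorem E17679 : n16748 = n16695 := (((D16695).symm.trans (sb E17514 (iv D24368)))).symm
theorem E17680 : n35485 = n16678 := ((((iv F72480)).symm.trans (sb E17515 (iv F149056)))).symm
theorem E17681 : n35444 = n16696 := (((D16696).symm.trans (sb E17515 (iv F148887)))).symm
theorem E17682 : n35037 = n7924 := (((F50943).symm.trans (sb E17515 (iv F147269)))).symm
theorem F199754 : act 1 n11342 = n7959 := (sb E17516 F51119)
theorem E17684 : n16526 = n7815 := ((((iv D11342)).symm.trans (sb E17516 (iv F71898)))).symm
theorem E17686 : n16487 = n7952 := ((D16487).symm.trans (sb E17516 (iv D11531)))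
theorem E17688 : n34114 = n3730 := ((((iv D5395)).symm.trans (sb E17518 (iv F143767)))).symm
theorem E17689 : n35042 = n3748 := (((F25028).symm.trans (sb E17518 (iv F147289)))).symm
theorem E17690 : n16523 = n7816 := (((D7816).symm.trans (sb E17518 (iv D24052)))).symm
theorem E17691 : n16519 = n7932 := (((D7932).symm.trans (sb E17519 F102777))).symm
theorem E17698 : n34108 = n3793 := (((F25404).symm.trans (sb E17523 (iv F143743)))).symm
theorem E17701 : n18649 = n16762 := (((iv F80455)).symm.trans (sb E17524 F104117))
theorem E17703 : n35056 = n8994 := (((F57230).symm.trans (sb E17525 (iv F147351)))).symm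
theorem E17707 : n16539 = n8846 := (((iv F71957)).symm.trans (sb E17527 (iv D12837)))
theorem E17712 : n34133 = n4222 := ((((iv D6103)).symm.trans (sb E17529 (iv F143852)))).symm
theorem E17713 : n35063 = n4248 := (((F27955).symm.trans (sb E17529 (iv F147381)))).symm
theorem E17721 : n34124 = n4306 := (((F28447).symm.trans (sb E17534 (iv F143813)))).symm
theorem E17723 : n16079 = n4225 := (((F27978).symm.trans (sb E17535 (iv F70143)))).symm
theorem F199772 : act 5 n6108 = n7959 := (sb E17535 F50500)
theorem E17724 : n8855 = n7890 := ((D8855).symm.trans (sb E17535 F50501))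
theorem E17725 : n8856 = n7842 := ((D8856).symm.trans (sb E17535 (iv D11381)))
theorem E17727 : n34011 = n2031 := (((F14039).symm.trans (sb E17538 (iv F143376)))).symm
theorem E17728 : n34130 = n2042 := (((F14040).symm.trans (sb E17538 (iv F143841)))).symm
theorem E17729 : n16076 = n4226 := (((D4226).symm.trans (sb E17538 (iv D23413)))).symm
theorem E17730 : n16624 = n4253 := (((D4253).symm.trans (sb E17539 F102857))).symm
theorem E17731 : n16533 = n4254 := (((D4254).symm.trans (sb E17539 (iv D24066)))).symm
theorem E17733 : n8858 = n7839 := ((D8858).symm.trans (sb E17540 (iv D11378)))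
theorem F199776 : act 6 n6226 = n7953 := (sb E17543 F50464)
theorem E17736 : n34109 = n3731 := ((((iv F17734)).symm.trans (sb E17544 (iv F143746)))).symm
theorem E17737 : n34125 = n4223 := ((((iv F19799)).symm.trans (sb E17544 (iv F143817)))).symm
theorem E17738 : n16072 = n4069 := ((((iv F19201)).symm.trans (sb E17544 F100308))).symm
theorem E17750 : n18106 = n4230 := (((F28004).symm.trans (sb E17551 (iv F78343)))).symm
theorem E17754 : n37167 = n2045 := (((F14054).symm.trans (sb E17554 (iv F196906)))).symm
theorem E17755 : n18102 = n4231 := (((D4231).symm.trans (sb E17554 (iv D26364)))).symm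
theorem E17760 : n36749 = n4318 := (((F28529).symm.trans (sb E17559 (iv F196884)))).symm
theorem E17763 : n17351 = n4232 := (((D4232).symm.trans (sb E17560 F107734))).symm
theorem E17764 : n17516 = n2046 := (((F14060).symm.trans (sb E17560 F107736))).symm
theorem E17765 : n17350 = n4233 := (((D4233).symm.trans (sb E17560 (iv D25252)))).symm
theorem E17766 : n37094 = n2095 := (((D2095).symm.trans (sb E17561 (iv F155629)))).symm
theorem E17770 : n18025 = n2035 := (((F14067).symm.trans (sb E17565 (iv F78026)))).symm
theorem E17771 : n8659 = n4236 := (((D4236).symm.trans (sb E17565 F54849))).symm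
theorem E17772 : n8567 = n4237 := (((D4237).symm.trans (sb E17565 (iv D12443)))).symm
theorem E17774 : n8878 = n4277 := ((D8878).symm.trans (sb E17566 (iv D6183)))
theorem F199782 : act 5 n6124 = n4328 := (sb E17567 F28094)
theorem E17775 : n17639 = n988 := (((F7126).symm.trans (sb E17569 F108243))).symm
theorem E17776 : n17432 = n1955 := ((((iv F9695)).symm.trans (sb E17569 (iv D25375)))).symm
theorem E17777 : n18299 = n2048 := (((D2048).symm.trans (sb E17570 (iv F197692)))).symm
theorem E17778 : n17564 = n2049 := (((D2049).symm.trans (sb E17570 (iv D25572)))).symm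
theorem E17779 : n8565 = n4075 := ((((iv F19225)).symm.trans (sb E17571 F54836))).symm
theorem E17781 : n8952 = n4268 := (((D4268).symm.trans (sb E17572 (iv D12988)))).symm
theorem E17783 : n8887 = n4270 := (((D4270).symm.trans (sb E17573 (iv D12897)))).symm
theorem E17784 : n8557 = n4245 := (((iv F38526)).symm.trans (sb E17574 F28086))
theorem F199786 : act 3 n6126 = n4241 := (sb E17575 (iv D6132))
theorem E17795 : n8491 = n472 := (((F3605).symm.trans (sb E17582 F53582))).symm
theorem E17796 : n8352 = n950 := ((((iv F4946)).symm.trans (sb E17582 (iv D12128)))).symm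
theorem E17797 : n8260 = n1954 := (((D1954).symm.trans (sb E17583 F53073))).symm
theorem E17799 : n17836 = n996 := (((D996).symm.trans (sb E17584 (iv F77247)))).symm
theorem E17800 : n8440 = n997 := (((D997).symm.trans (sb E17584 (iv D12260)))).symm
theorem E17801 : n8319 = n1971 := ((((iv F9753)).symm.trans (sb E17585 F53405))).symm
theorem E17803 : n8241 = n4072 := ((((iv F19213)).symm.trans (sb E17586 F52936))).symm
theorem E17804 : n8237 = n4076 := (((D4076).symm.trans (sb E17586 (iv D11956)))).symm
theorem E17815 : n34978 = n7821 := ((((iv D11351)).symm.trans (sb E17594 (iv F147046)))).symm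
theorem E17819 : n34067 = n3736 := (((F25075).symm.trans (sb E17596 (iv F143613)))).symm
theorem E17820 : n16584 = n7830 := (((D7830).symm.trans (sb E17596 F102623))).symm
theorem E17824 : n34968 = n7940 := (((F51043).symm.trans (sb E17599 (iv F147003)))).symm
theorem E17827 : n34942 = n7951 := (((F51104).symm.trans (sb E17600 (iv F146903)))).symm
theorem E17828 : n16490 = n7832 := ((((iv F35501)).symm.trans (sb E17601 F102590))).symm
theorem E17831 : n34064 = n3737 := (((F25078).symm.trans (sb E17602 (iv F143599)))).symm
theorem E17835 : n38199 = n1799 := (((F12628).symm.trans (sb E17604 (iv F159944)))).symm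
theorem E17836 : n18240 = n3742 := (((D3742).symm.trans (sb E17604 F111877))).symm
theorem E17837 : n18057 = n3743 := (((D3743).symm.trans (sb E17604 (iv D26298)))).symm
theorem E17843 : n18047 = n1743 := ((((iv F8746)).symm.trans (sb E17608 (iv D26284)))).symm
theorem E17845 : n38509 = n1808 := (((D1808).symm.trans (sb E17609 (iv F161124)))).symm
theorem E17846 : n18128 = n1809 := (((D1809).symm.trans (sb E17609 (iv D26406)))).symm
theorem E17847 : n17982 = n3628 := ((((iv F17305)).symm.trans (sb E17610 F111410))).symm
theorem E17857 : n38161 = n3798 := ((((iv F18036)).symm.trans (sb E17619 (iv F159765)))).symm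
theorem E17858 : n17974 = n3738 := ((((iv F17765)).symm.trans (sb E17619 (iv D26173)))).symm
theorem E17861 : n38162 = n3734 := ((((iv F17748)).symm.trans (sb E17621 (iv F159770)))).symm
theorem E17866 : n8514 = n3545 := ((((iv F16947)).symm.trans (sb E17623 F54513))).symm
theorem E17867 : n8575 = n1754 := (((F12282).symm.trans (sb E17623 F54516))).symm
theorem E17874 : n18173 = n2040 := (((D2040).symm.trans (sb E17628 F111603))).symm
theorem E17876 : n18286 = n2054 := (((F14095).symm.trans (sb E17629 (iv F78968)))).symm
theorem E17877 : n8647 = n4244 := (((D4244).symm.trans (sb E17629 (iv D12565)))).symm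
theorem E17878 : n8558 = n4081 := ((((iv F19247)).symm.trans (sb E17630 F54804))).symm
theorem E17884 : n8551 = n1956 := ((((iv F9696)).symm.trans (sb E17635 F54764))).symm
theorem E17886 : n18386 = n999 := (((F7176).symm.trans (sb E17636 F112416))).symm
theorem E17887 : n18156 = n2055 := (((D2055).symm.trans (sb E17636 (iv D26449)))).symm
theorem E17888 : n8587 = n1975 := ((((iv F9765)).symm.trans (sb E17637 F54971))).symm
theorem E17890 : n8525 = n3947 := ((((iv F18716)).symm.trans (sb E17638 F54564))).symm
theorem E17893 : n8945 = n4274 := (((D4274).symm.trans (sb E17640 F56963))).symm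
theorem E17928 : n8874 = n449 := ((((iv F2447)).symm.trans (sb E17658 (iv D12880)))).symm
theorem E17936 : n4233 = n920 := ((((iv F4811)).symm.trans (sb E17664 F28036))).symm
theorem E17937 : n4232 = n942 := ((((iv F4909)).symm.trans (sb E17664 (iv D6121)))).symm
theorem E17942 : n4076 = n1899 := ((((iv F9460)).symm.trans (sb E17667 F27155))).symm
theorem E17943 : n4072 = n1950 := ((((iv F9671)).symm.trans (sb E17667 (iv D5896)))).symm
theorem E17944 : n8692 = n1000 := (((D1000).symm.trans (sb E17669 (iv D12631)))).symm
theorem E17945 : n4136 = n963 := ((((iv F4993)).symm.trans (sb E17670 F27483))).symm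
theorem E17947 : n4092 = n1917 := ((((iv F9526)).symm.trans (sb E17671 F27246))).symm
theorem E17949 : n4065 = n3943 := ((((iv F18701)).symm.trans (sb E17673 F27077))).symm
theorem E17951 : n8237 = n1899 := (E17804).trans E17942
theorem E17953 : n24370 = n23959 := ((((iv F102407)).symm.trans (sb E17676 F149084))).symm
theorem E17956 : n24055 = n11334 := ((((iv D16473)).symm.trans (sb E17678 (iv F102805)))).symm
theorem E17958 : n23981 = n11530 := ((D23981).symm.trans (sb E17678 (iv D16752)))
theorem F199791 : act 9 n16695 = n11527 := (sb E17679 (iv D16748))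
theorem E17960 : n24361 = n24264 := (((D24264).symm.trans (sb E17680 (iv D35485)))).symm
theorem E17961 : n24334 = n24292 := (((D24292).symm.trans (sb E17681 F148886))).symm
theorem E17962 : n24332 = n24294 := (((D24294).symm.trans (sb E17681 (iv D35444)))).symm
theorem E17963 : n24051 = n11335 := ((((iv F50297)).symm.trans (sb E17682 F147268))).symm
theorem E17965 : n23402 = n5396 := (((F35426).symm.trans (sb E17684 (iv F100281)))).symm
theorem E17966 : n11438 = n11343 := (((D11343).symm.trans (sb E17684 F71899))).symm
theorem E17967 : n11370 = n11344 := (((D11344).symm.trans (sb E17684 (iv D16526)))).symm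
theorem F199796 : act 6 n7952 = n11502 := (sb E17686 F71739)
theorem F199797 : act 8 n7952 = n11342 := (sb E17686 (iv D16487))
theorem E17969 : n23399 = n5397 := (((D5397).symm.trans (sb E17688 (iv D34114)))).symm
theorem E17970 : n24184 = n5424 := (((D5424).symm.trans (sb E17689 F147288))).symm
theorem E17971 : n24049 = n5425 := (((D5425).symm.trans (sb E17689 (iv D35042)))).symm
theorem E17972 : n11368 = n11345 := (((D11345).symm.trans (sb E17690 F71887))).symm
theorem F199798 : act 9 n7932 = n11365 := (sb E17691 (iv D16519))
theorem E17977 : n23394 = n5398 := ((((iv F25041)).symm.trans (sb E17698 (iv D34108)))).symm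
theorem E17980 : n24071 = n12826 := (((iv F102877)).symm.trans (sb E17701 (iv D18649)))
theorem E17983 : n24068 = n12827 := ((((iv F56348)).symm.trans (sb E17703 F147350))).symm
theorem E17988 : n23416 = n6104 := (((F39661).symm.trans (sb E17707 (iv F100343)))).symm
theorem E17992 : n23412 = n6105 := (((D6105).symm.trans (sb E17712 (iv D34133)))).symm
theorem E17993 : n24193 = n6143 := (((D6143).symm.trans (sb E17713 F147380))).symm
theorem E17994 : n24065 = n6144 := (((D6144).symm.trans (sb E17713 (iv D35063)))).symm
theorem E17997 : n23406 = n6107 := ((((iv F27972)).symm.trans (sb E17721 (iv D34124)))).symm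
theorem E17998 : n25477 = n3007 := (((F20149).symm.trans (sb E17721 F196849))).symm
theorem E17999 : n23335 = n2926 := (((F19809).symm.trans (sb E17723 (iv F100021)))).symm
theorem E18000 : n11147 = n6110 := (((D6110).symm.trans (sb E17723 F70145))).symm
theorem E18001 : n11055 = n6111 := (((D6111).symm.trans (sb E17723 (iv D16079)))).symm
theorem E18002 : n11443 = n6151 := (((iv F50738)).symm.trans (sb E17724 F39704))
theorem F199812 : act 7 n7890 = n6108 := (sb E17724 (iv D8855))
theorem F199815 : act 8 n7842 = n6108 := (sb E17725 (iv D8856))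
theorem E18004 : n25639 = n1418 := (((F9999).symm.trans (sb E17727 F196815))).symm
theorem E18005 : n23332 = n2815 := ((((iv F13617)).symm.trans (sb E17727 (iv D34011)))).symm
theorem E18006 : n23609 = n2943 := (((D2943).symm.trans (sb E17728 F143840))).symm
theorem E18007 : n23410 = n2944 := (((D2944).symm.trans (sb E17728 (iv D34130)))).symm
theorem E18008 : n11053 = n5889 := ((((iv F27128)).symm.trans (sb E17729 F70130))).symm
theorem E18010 : n11440 = n6152 := (((D6152).symm.trans (sb E17730 (iv D16624)))).symm
theorem E18012 : n11375 = n6154 := (((D6154).symm.trans (sb E17731 (iv D16533)))).symm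
theorem F199820 : act 5 n7839 = n6226 := (sb E17733 F39715)
theorem F199821 : act 9 n7839 = n6109 := (sb E17733 (iv D8858))
theorem E18014 : n23395 = n5240 := ((((iv F24391)).symm.trans (sb E17736 F143747))).symm
theorem E18016 : n25238 = n6106 := (((D6106).symm.trans (sb E17737 F196853))).symm
theorem E18018 : n11950 = n5886 := ((((iv F27116)).symm.trans (sb E17738 F196817))).symm
theorem E18019 : n12063 = n2838 := (((F19204).symm.trans (sb E17738 (iv F197206)))).symm
theorem E18020 : n11975 = n2814 := ((((iv D4069)).symm.trans (sb E17738 F196818))).symm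
theorem E18021 : n11050 = n5890 := (((D5890).symm.trans (sb E17738 (iv D16072)))).symm
theorem E18030 : n12578 = n6116 := (((D6116).symm.trans (sb E17750 F78345))).symm
theorem E18031 : n12442 = n6117 := (((D6117).symm.trans (sb E17750 (iv D18106)))).symm
theorem E18034 : n26652 = n2948 := (((D2948).symm.trans (sb E17754 F196905))).symm
theorem E18035 : n25497 = n2949 := (((D2949).symm.trans (sb E17754 (iv D37167)))).symm
theorem E18036 : n25250 = n6118 := (((D6118).symm.trans (sb E17755 F196285))).symm
theorem E18037 : n12439 = n6119 := (((D6119).symm.trans (sb E17755 (iv D18102)))).symm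
theorem E18040 : n25218 = n6239 := ((((iv F28537)).symm.trans (sb E17760 (iv D36749)))).symm
theorem E18041 : n25448 = n3015 := (((F20207).symm.trans (sb E17760 F154235))).symm
theorem E18042 : n17351 = n942 := (E17763).trans E17937
theorem E18043 : n6106 = n1209 := ((((iv F6219)).symm.trans (sb E18042 (tr (iv F107670) E18016)))).symm
theorem E18044 : n11937 = n1354 := ((((iv F6880)).symm.trans (sb E18042 F75355))).symm
theorem E18046 : n6118 = n1355 := (((D1355).symm.trans (sb E18042 (tr (iv F107724) E18036)))).symm
theorem E18047 : n12044 = n655 := (((F4907).symm.trans (sb E18042 F75357))).symm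
theorem E18049 : n2950 = n655 := ((D2950).symm.trans (sb E17764 (tr F76018 E18047)))
theorem E18050 : n12209 = n1433 := (((F10065).symm.trans (sb E17764 F76019))).symm
theorem E18051 : n12043 = n2951 := (((D2951).symm.trans (sb E17764 (iv D17516)))).symm
theorem E18052 : n17350 = n920 := (E17765).trans E17936
theorem E18053 : n6107 = n1189 := ((((iv F6129)).symm.trans (sb E18052 (tr (iv F196524) E17997)))).symm
theorem E18054 : n6119 = n1322 := (((D1322).symm.trans (sb E18052 (tr F196280 E18037)))).symm
theorem E18055 : n2951 = n642 := (((F4813).symm.trans (sb E18052 (tr F75352 E18051)))).symm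
theorem E18056 : n25449 = n3014 := (((D3014).symm.trans (sb E17766 F155630))).symm
theorem E18059 : n12043 = n642 := (E18051).trans E18055
theorem E18060 : n12498 = n2933 := (((D2933).symm.trans (sb E17770 F78029))).symm
theorem E18061 : n12387 = n2819 := ((((iv F13634)).symm.trans (sb E17770 (iv D18025)))).symm
theorem E18062 : n12575 = n2954 := (((F19861).symm.trans (sb E17771 (iv F55308)))).symm
theorem E18063 : n6127 = n5968 := ((D6127).symm.trans (sb E17771 (iv D8659)))
theorem E18064 : n5906 = n5900 := ((((iv F27171)).symm.trans (sb E17772 F38561))).symm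
theorem F199830 : act 8 n4277 = n6123 := (sb E17774 (iv D8878))
theorem E18066 : n25682 = n1422 := (((D1422).symm.trans (sb E17775 (iv F109350)))).symm
theorem E18067 : n12125 = n1368 := ((((iv F6945)).symm.trans (sb E17775 (iv D17639)))).symm
theorem E18068 : n11987 = n2817 := ((((iv F13623)).symm.trans (sb E17776 F75691))).symm
theorem E18070 : n25976 = n1434 := (((F10072).symm.trans (sb E17777 (iv F198064)))).symm
theorem E18071 : n12572 = n2955 := (((D2955).symm.trans (sb E17777 (iv D18299)))).symm
theorem E18072 : n12075 = n2844 := ((((iv F13722)).symm.trans (sb E17778 F76190))).symm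
theorem E18074 : n11961 = n5894 := ((((iv F27148)).symm.trans (sb E17779 F196296))).symm
theorem E18075 : n5908 = n5898 := ((((iv F27163)).symm.trans (sb E17779 F38555))).symm
theorem E18076 : n5904 = n5901 := (((D5901).symm.trans (sb E17779 (iv D8565)))).symm
theorem E18077 : n12439 = n1322 := (E18037).trans E18054
theorem E18078 : n6178 = n6172 := (((D6172).symm.trans (sb E17781 F40092))).symm
theorem E18079 : n6177 = n6173 := (((D6173).symm.trans (sb E17781 (iv D8952)))).symm
theorem F199833 : act 3 n4270 = n6131 := (sb E17783 (iv D8887))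
theorem F199834 : act 1 n4245 = n5905 := (sb E17784 F38525)
theorem F199835 : act 4 n4245 = n6125 := (sb E17784 F38526)
theorem E18095 : n12332 = n688 := (((D688).symm.trans (sb E17795 (iv F54399)))).symm
theorem E18096 : n5853 = n663 := ((((iv F3521)).symm.trans (sb E17795 (iv D8491)))).symm
theorem E18097 : n5761 = n1367 := (((D1367).symm.trans (sb E17796 F37704))).symm
theorem E18099 : n5703 = n2816 := (((D2816).symm.trans (sb E17797 F37365))).symm
theorem E18100 : n5699 = n2808 := ((((iv F13584)).symm.trans (sb E17797 (iv D8260)))).symm
theorem E18101 : n12257 = n1435 := (((D1435).symm.trans (sb E17799 (iv D17836)))).symm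
theorem E18102 : n5820 = n1384 := ((((iv F7003)).symm.trans (sb E17800 F38059))).symm
theorem E18104 : n5742 = n2841 := ((((iv F13712)).symm.trans (sb E17801 F37590))).symm
theorem E18105 : n5738 = n2845 := (((D2845).symm.trans (sb E17801 (iv D8319)))).symm
theorem E18106 : n8241 = n1950 := (E17803).trans E17943
theorem E18107 : n5886 = n2504 := ((((iv F12246)).symm.trans (sb E18106 (tr (iv F52907) E18018)))).symm
theorem E18108 : n5692 = n2808 := ((((iv F13580)).symm.trans (sb E18106 F37284))).symm
theorem E18109 : n5894 = n2810 := (((D2810).symm.trans (sb E18106 (tr (iv F52957) E18074)))).symm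
theorem E18110 : n2841 = n1363 := (((F9670).symm.trans (sb E18106 (tr F37287 E18104)))).symm
theorem E18111 : n2816 = n2811 := (((D2811).symm.trans (sb E18106 (tr F37288 E18099)))).symm
theorem E18112 : n5687 = n1358 := (((F9671).symm.trans (sb E18106 (iv D8241)))).symm
theorem E18113 : n5890 = n2456 := ((((iv F12037)).symm.trans (sb E17951 (tr (iv F196522) E18021)))).symm
theorem E18114 : n5901 = n2733 := (((D2733).symm.trans (sb E17951 (tr F196281 E18076)))).symm
theorem E18115 : n2845 = n1332 := (((F9463).symm.trans (sb E17951 (tr F37272 E18105)))).symm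
theorem E18121 : n24138 = n11352 := (((D11352).symm.trans (sb E17815 F147047))).symm
theorem E18125 : n23550 = n5407 := (((D5407).symm.trans (sb E17819 F143615))).symm
theorem E18126 : n23367 = n5408 := (((D5408).symm.trans (sb E17819 (iv D34067)))).symm
theorem E18128 : n11410 = n11366 := (((D11366).symm.trans (sb E17820 (iv D16584)))).symm
theorem E18129 : n24003 = n11355 := ((((iv F50389)).symm.trans (sb E17824 F147002))).symm
theorem E18130 : n23984 = n11369 := ((((iv F50444)).symm.trans (sb E17827 F146902))).symm
theorem E18131 : n11348 = n11045 := ((((iv F49137)).symm.trans (sb E17828 F71751))).symm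
theorem E18133 : n23365 = n5246 := ((((iv F24414)).symm.trans (sb E17831 F143598))).symm
theorem E18139 : n26420 = n2594 := (((D2594).symm.trans (sb E17835 F159947))).symm
theorem E18141 : n26567 = n2608 := (((F17788).symm.trans (sb E17836 (iv F112839)))).symm
theorem E18142 : n12530 = n5415 := (((D5415).symm.trans (sb E17836 (iv D18240)))).symm
theorem E18143 : n12407 = n5252 := ((((iv F24439)).symm.trans (sb E17837 F78161))).symm
theorem E18152 : n12400 = n2510 := ((((iv F12276)).symm.trans (sb E17843 F78117))).symm
theorem E18154 : n26719 = n1266 := (((F9030).symm.trans (sb E17845 F161123))).symm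
theorem E18156 : n12455 = n2529 := ((((iv F12351)).symm.trans (sb E17846 F78428))).symm
theorem E18158 : n12364 = n5126 := ((((iv F23902)).symm.trans (sb E17847 F77846))).symm
theorem E18167 : n26172 = n5404 := ((((iv F25069)).symm.trans (sb E17857 (iv D38161)))).symm
theorem E18169 : n12354 = n5247 := ((((iv F24418)).symm.trans (sb E17858 (iv D17974)))).symm
theorem E18172 : n26383 = n2600 := (((F17751).symm.trans (sb E17861 F159772))).symm
theorem E18178 : n11002 = n5122 := ((((iv F23885)).symm.trans (sb E17866 (iv F48958)))).symm
theorem E18179 : n5915 = n2473 := (((F16951).symm.trans (sb E17866 F38356))).symm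
theorem E18181 : n5976 = n1230 := (((F8790).symm.trans (sb E17867 F38594))).symm
theorem E18189 : n26467 = n1427 := (((F10040).symm.trans (sb E17874 (iv F112485)))).symm
theorem E18190 : n12486 = n2824 := ((((iv F13651)).symm.trans (sb E17874 (iv D18173)))).symm
theorem E18193 : n26632 = n1438 := (((F10095).symm.trans (sb E17876 (iv F113036)))).symm
theorem E18194 : n12562 = n2961 := (((D2961).symm.trans (sb E17876 (iv D18286)))).symm
theorem E18195 : n5959 = n5907 := ((((iv F27193)).symm.trans (sb E17877 F38837))).symm
theorem E18196 : n12380 = n5708 := ((((iv F26417)).symm.trans (sb E17878 F196320))).symm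
theorem E18197 : n5904 = n2733 := (E18076).trans E18114
theorem E18204 : n5708 = n2820 := (((D2820).symm.trans (sb E17884 (tr F196346 E18196)))).symm
theorem E18205 : n12628 = n1439 := (((D1439).symm.trans (sb E17886 (iv D18386)))).symm
theorem E18206 : n12474 = n2850 := ((((iv F13739)).symm.trans (sb E17887 F78527))).symm
theorem E18208 : n5926 = n2762 := ((((iv F13390)).symm.trans (sb E17888 F38635))).symm
theorem E18211 : n5883 = n5702 := ((((iv F26393)).symm.trans (sb E17890 F38402))).symm
theorem E18213 : n12380 = n2820 := (E18196).trans E18204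
theorem E18216 : n12956 = n6179 := (((D6179).symm.trans (sb E17893 (iv F56885)))).symm
theorem E18260 : n6239 = n306 := ((((iv D449)).symm.trans (sb E17928 F39785))).symm
theorem E18267 : n2932 = n1321 := ((((iv F6743)).symm.trans (sb E17936 F19845))).symm
theorem E18268 : n2992 = n636 := ((((iv D920)).symm.trans (sb E17936 F19846))).symm
theorem E18274 : n2823 = n2731 := ((((iv F13275)).symm.trans (sb E17942 F19228))).symm
theorem E18276 : n5988 = n1388 := ((((iv F7014)).symm.trans (sb E17944 F39004))).symm
theorem E18278 : n2861 = n1350 := ((((iv F6861)).symm.trans (sb E17945 F19437))).symm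
theorem E18280 : n2834 = n2758 := ((((iv F13377)).symm.trans (sb E17947 F19288))).symm
theorem E18282 : n5738 = n1332 := (E18105).trans E18115
theorem E18284 : n5696 = n5236 := (((iv F26369)).symm.trans (sb E17949 (iv F24368)))
theorem E18285 : n5703 = n2811 := (E18099).trans E18111
theorem E18287 : n35047 = n16462 := ((((iv D23959)).symm.trans (sb E17953 (iv F147306)))).symm
theorem E18295 : n34117 = n7811 := (((F50292).symm.trans (sb E17956 (iv F143781)))).symm
theorem E18296 : n16621 = n16474 := (((D16474).symm.trans (sb E17956 F102806))).symm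
theorem E18297 : n16525 = n16475 := (((D16475).symm.trans (sb E17956 (iv D24055)))).symm
theorem F199846 : act 8 n11530 = n16473 := (sb E17958 (iv D23981))
theorem E18303 : n35035 = n16680 := (((F103600).symm.trans (sb E17960 (iv F147262)))).symm
theorem E18305 : n34999 = n16698 := (((F103736).symm.trans (sb E17961 (iv F147135)))).symm
theorem E18308 : n34997 = n16700 := (((F103744).symm.trans (sb E17962 (iv F147128)))).symm
theorem E18312 : n34113 = n7812 := (((F50296).symm.trans (sb E17963 (iv F143764)))).symm
theorem E18316 : n34000 = n3732 := (((F25032).symm.trans (sb E17965 (iv F143326)))).symm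
theorem E18317 : n16201 = n7817 := (((D7817).symm.trans (sb E17965 F100283))).symm
theorem E18318 : n16067 = n7818 := (((D7818).symm.trans (sb E17965 (iv D23402)))).symm
theorem F199855 : act 1 n11343 = n7890 := (sb E17966 F50713)
theorem E18320 : n16488 = n7882 := ((D16488).symm.trans (sb E17966 (iv D11438)))
theorem F199859 : act 5 n11344 = n7952 := (sb E17967 F50449)
theorem E18321 : n16065 = n7596 := ((((iv F34546)).symm.trans (sb E17969 F100268))).symm
theorem E18326 : n16615 = n7859 := (((D7859).symm.trans (sb E17970 (iv D24184)))).symm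
theorem E18327 : n16521 = n7860 := (((D7860).symm.trans (sb E17971 F102784))).symm
theorem E18328 : n16520 = n7861 := (((D7861).symm.trans (sb E17971 (iv D24049)))).symm
theorem E18329 : n16503 = n16491 := (((D16491).symm.trans (sb E17972 (iv F71810)))).symm
theorem E18332 : n34107 = n7814 := ((((iv F35418)).symm.trans (sb E17977 D34107))).symm
theorem E18333 : n16062 = n7597 := ((((iv F34551)).symm.trans (sb E17977 (iv D23394)))).symm
theorem E18334 : n17535 = n3751 := (((F25043).symm.trans (sb E17977 (iv F197623)))).symm
theorem E18341 : n34135 = n8841 := (((F56343).symm.trans (sb E17980 (iv F143861)))).symm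
theorem E18345 : n34132 = n8842 := (((F56347).symm.trans (sb E17983 (iv F143848)))).symm
theorem E18346 : n35062 = n8896 := (((F56349).symm.trans (sb E17983 (iv F147377)))).symm
theorem E18351 : n16214 = n8848 := (((D8848).symm.trans (sb E17988 F100345))).symm
theorem E18352 : n16078 = n8849 := (((D8849).symm.trans (sb E17988 (iv D23416)))).symm
theorem E18355 : n33229 = n8850 := (((D8850).symm.trans (sb E17992 (iv F140284)))).symm
theorem E18356 : n34129 = n4250 := (((F27965).symm.trans (sb E17992 (iv F143837)))).symm
theorem E18357 : n16075 = n8851 := (((D8851).symm.trans (sb E17992 (iv D23412)))).symm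
theorem E18361 : n16623 = n8907 := (((D8907).symm.trans (sb E17993 (iv D24193)))).symm
theorem E18362 : n16532 = n8909 := (((D8909).symm.trans (sb E17994 (iv D24065)))).symm
theorem E18363 : n23406 = n1189 := (E17997).trans E18053
theorem E18364 : n34123 = n1577 := ((((iv F7951)).symm.trans (sb E18363 D34123))).symm
theorem E18366 : n8851 = n1708 := (((D1708).symm.trans (sb E18363 (tr F100299 E18357)))).symm
theorem E18367 : n17501 = n832 := (((F6132).symm.trans (sb E18363 (iv F196851)))).symm
theorem E18369 : n37072 = n4338 := ((((iv F20292)).symm.trans (sb E17998 (iv F155548)))).symm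
theorem E18370 : n4252 = n832 := (((iv F19924)).symm.trans (sb E17998 (tr (iv D25477) E18367)))
theorem E18372 : n16134 = n4228 := (((D4228).symm.trans (sb E17999 F100024))).symm
theorem E18373 : n16023 = n4070 := ((((iv F19209)).symm.trans (sb E17999 (iv D23335)))).symm
theorem F199882 : act 4 n6110 = n7890 := (sb E18000 F49510)
theorem E18374 : n16211 = n4255 := (((F27987).symm.trans (sb E18000 (iv F70615)))).symm
theorem E18375 : n8859 = n7675 := ((D8859).symm.trans (sb E18000 (iv D11147)))
theorem E18376 : n8543 = n7613 := (((iv F38474)).symm.trans (sb E18001 F49179))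
theorem F199883 : act 4 n6111 = n7842 := (sb E18001 F49180)
theorem F199885 : act 6 n6151 = n7890 := (sb E18002 F50738)
theorem E18377 : n8918 = n7887 := ((D8918).symm.trans (sb E18002 (iv D11443)))
theorem E18379 : n34252 = n2044 := (((D2044).symm.trans (sb E18004 (iv F197573)))).symm
theorem E18380 : n17608 = n1968 := ((((iv F9746)).symm.trans (sb E18004 (iv D25639)))).symm
theorem E18382 : n16021 = n4068 := ((((iv F19198)).symm.trans (sb E18005 F100008))).symm
theorem E18384 : n34415 = n2060 := (((F14123).symm.trans (sb E18006 (iv F144814)))).symm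
theorem E18385 : n16208 = n4256 := (((D4256).symm.trans (sb E18006 (iv D23609)))).symm
theorem E18386 : n16074 = n4104 := ((((iv F19330)).symm.trans (sb E18007 F100317))).symm
theorem E18388 : n15664 = n8537 := ((((iv F38449)).symm.trans (sb E18008 (iv F68448)))).symm
theorem E18390 : n8544 = n7611 := ((D8544).symm.trans (sb E18008 (iv D11053)))
theorem E18391 : n16075 = n1708 := (E18357).trans E18366
theorem E18392 : n8919 = n7885 := ((D8919).symm.trans (sb E18010 F50723))
theorem F199890 : act 3 n6154 = n7838 := (sb E18012 (iv D11375))
theorem E18395 : n33102 = n7593 := ((((iv F34531)).symm.trans (sb E18014 (iv F197412)))).symm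
theorem E18400 : n25238 = n1209 := (E18016).trans E18043
theorem E18401 : n36770 = n1595 := ((((iv F8035)).symm.trans (sb E18400 (iv F154322)))).symm
theorem E18402 : n17345 = n1738 := ((((iv F8718)).symm.trans (sb E18400 F107671))).symm
theorem E18404 : n8850 = n1739 := (((D1739).symm.trans (sb E18400 (tr (iv F196265) E18355)))).symm
theorem E18409 : n11950 = n2504 := (E18018).trans E18107
theorem E18410 : n15613 = n3614 := ((((iv F17241)).symm.trans (sb E18409 (iv F68230)))).symm
theorem E18411 : n8537 = n3616 := (((D3616).symm.trans (sb E18409 (tr F196504 E18388)))).symm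
theorem E18412 : n8313 = n1747 := (((F12249).symm.trans (sb E18409 F52910))).symm
theorem E18413 : n8254 = n3617 := (((D3617).symm.trans (sb E18409 F52911))).symm
theorem E18415 : n4101 = n1747 := (((iv F19320)).symm.trans (sb E18019 (tr F53352 E18412)))
theorem E18416 : n8426 = n1991 := (((F13704).symm.trans (sb E18019 F53354))).symm
theorem E18417 : n8338 = n1967 := ((((iv D2838)).symm.trans (sb E18019 F53355))).symm
theorem E18418 : n8309 = n4105 := (((D4105).symm.trans (sb E18019 (iv D12063)))).symm
theorem E18419 : n4067 = n3617 := ((D4067).symm.trans (sb E18020 (tr F53013 E18413)))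
theorem E18420 : n8250 = n4056 := ((((iv F19144)).symm.trans (sb E18020 (iv D11975)))).symm
theorem E18421 : n11050 = n2456 := (E18021).trans E18113
theorem E18422 : n7597 = n3542 := ((((iv F16935)).symm.trans (sb E18421 (tr (iv F70070) E18333)))).symm
theorem E18423 : n7611 = n3544 := (((D3544).symm.trans (sb E18421 F49160))).symm
theorem E18424 : n4105 = n1717 := (((F12041).symm.trans (sb E18421 (tr (iv F196839) E18418)))).symm
theorem E18425 : n7609 = n3545 := (((D3545).symm.trans (sb E18421 (iv D11050)))).symm
theorem E18428 : n8309 = n1717 := (E18418).trans E18424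
theorem E18433 : n18302 = n4261 := (((F28015).symm.trans (sb E18030 (iv F79026)))).symm
theorem E18435 : n17453 = n8869 := (((D8869).symm.trans (sb E18031 (iv F75772)))).symm
theorem E18437 : n37714 = n2064 := (((F14143).symm.trans (sb E18034 (iv F197684)))).symm
theorem E18438 : n18298 = n4262 := (((D4262).symm.trans (sb E18034 (iv D26652)))).symm
theorem E18439 : n17514 = n4263 := (((D4263).symm.trans (sb E18035 F108713))).symm
theorem E18440 : n17513 = n4264 := (((D4264).symm.trans (sb E18035 (iv D25497)))).symm
theorem E18441 : n25250 = n1355 := (E18036).trans E18046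
theorem E18442 : n33229 = n1739 := (E18355).trans E18404
theorem E18444 : n8869 = n1952 := (((D1952).symm.trans (sb E18441 (tr F196072 E18435)))).symm
theorem E18445 : n4263 = n948 := (((F6887).symm.trans (sb E18441 (tr F107725 E18439)))).symm
theorem E18447 : n8566 = n1901 := (((D1901).symm.trans (sb E18077 F54834))).symm
theorem E18448 : n4264 = n928 := (((F6749).symm.trans (sb E18077 (tr (iv F196284) E18440)))).symm
theorem E18450 : n17513 = n928 := (E18440).trans E18448
theorem E18451 : n25218 = n306 := (E18040).trans E18260
theorem E18452 : n36735 = n399 := ((((iv F2194)).symm.trans (sb E18451 (iv F154169)))).symm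
theorem E18454 : n17482 = n211 := (((F1708).symm.trans (sb E18451 F107586))).symm
theorem E18456 : n36750 = n448 := ((((iv F2442)).symm.trans (sb E18451 D36750))).symm
theorem E18457 : n4347 = n211 := (((iv F20327)).symm.trans (sb E18041 (tr (iv D25448) E18454)))
theorem E18461 : n4223 = n1705 := ((((iv F8574)).symm.trans (sb E18043 (iv D6106)))).symm
theorem E18463 : n8230 = n1949 := ((((iv F9662)).symm.trans (sb E18044 F52849))).symm
theorem E18468 : n4231 = n1896 := ((((iv F9447)).symm.trans (sb E18046 (iv D6118)))).symm
theorem E18469 : n17514 = n948 := (E18439).trans E18445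
theorem E18473 : n2046 = n925 := ((((iv F4833)).symm.trans (sb E18049 (iv D2950)))).symm
theorem E18476 : n17761 = n2065 := ((((iv F10143)).symm.trans (sb E18050 (iv F76946)))).symm
theorem E18477 : n8406 = n2067 := (((D2067).symm.trans (sb E18050 (iv D12209)))).symm
theorem E18478 : n2067 = n447 := (((F3423).symm.trans (sb E18059 (tr F53283 E18477)))).symm
theorem E18482 : n4238 = n1900 := ((((iv F9464)).symm.trans (sb E18054 F28026))).symm
theorem E18484 : n2050 = n927 := ((((iv F4840)).symm.trans (sb E18055 F14152))).symm
theorem E18488 : n4317 = n448 := (((iv F20201)).symm.trans (sb E18056 (tr (iv F154240) E18456)))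
theorem E18491 : n8406 = n447 := (E18477).trans E18478
theorem E18492 : n18184 = n2051 := (((F14082).symm.trans (sb E18060 (iv F78629)))).symm
theorem E18493 : n8603 = n4077 := ((((iv F19238)).symm.trans (sb E18060 (iv D12498)))).symm
theorem E18494 : n8530 = n4074 := ((((iv F19222)).symm.trans (sb E18061 F54630))).symm
theorem E18496 : n18296 = n2068 := (((F14166).symm.trans (sb E18062 (iv F79006)))).symm
theorem E18497 : n8656 = n4271 := (((D4271).symm.trans (sb E18062 (iv D12575)))).symm
theorem E18498 : n8559 = n4121 := (((F27397).symm.trans (sb E18063 (iv F38535)))).symm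
theorem F199899 : act 8 n5968 = n4236 := (sb E18063 (iv D6127))
theorem E18499 : n8522 = n8270 := (((iv F196332)).symm.trans (sb E18064 (iv F37399)))
theorem E18500 : n17945 = n998 := (((F7168).symm.trans (sb E18066 F109349))).symm
theorem E18501 : n17636 = n1972 := ((((iv F9760)).symm.trans (sb E18066 (iv D25682)))).symm
theorem E18502 : n8350 = n1970 := ((((iv F9751)).symm.trans (sb E18067 F53569))).symm
theorem E18504 : n8265 = n4071 := ((((iv F19210)).symm.trans (sb E18068 F53062))).symm
theorem E18506 : n8258 = n4059 := ((((iv F19159)).symm.trans (sb E18068 (iv D11987)))).symm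
theorem E18507 : n17833 = n2069 := (((D2069).symm.trans (sb E18070 (iv D25976)))).symm
theorem E18508 : n8654 = n4115 := ((((iv F19364)).symm.trans (sb E18071 F55298))).symm
theorem E18510 : n8324 = n4109 := ((((iv F19346)).symm.trans (sb E18072 F53397))).symm
theorem E18511 : n8568 = n4113 := ((((iv F19358)).symm.trans (sb E18072 F196559))).symm
theorem E18512 : n8317 = n4116 := (((D4116).symm.trans (sb E18072 (iv D12075)))).symm
theorem E18513 : n11961 = n2810 := (E18074).trans E18109
theorem E18514 : n15664 = n3616 := (E18388).trans E18411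
theorem E18515 : n8247 = n4059 := ((((iv F19156)).symm.trans (sb E18513 F52956))).symm
theorem E18516 : n8272 = n4062 := (((D4062).symm.trans (sb E18513 F196076))).symm
theorem E18517 : n8270 = n4063 := (((D4063).symm.trans (sb E18513 F196077))).symm
theorem E18518 : n4109 = n1963 := (((F13592).symm.trans (sb E18513 (tr F52958 E18510)))).symm
theorem E18519 : n4071 = n4064 := (((D4064).symm.trans (sb E18513 (tr F52959 E18504)))).symm
theorem E18520 : n8240 = n1956 := (((F13593).symm.trans (sb E18513 (iv D11961)))).symm
theorem E18521 : n8524 = n4062 := ((F196094).symm.trans (sb E18075 (tr (iv F37408) E18516)))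
theorem E18522 : n4081 = n3945 := (((D3945).symm.trans (sb E18197 F27184))).symm
theorem E18523 : n4079 = n3946 := (((D3946).symm.trans (sb E18197 F27185))).symm
theorem E18524 : n4116 = n1916 := (((F13285).symm.trans (sb E18197 (tr (iv F196291) E18512)))).symm
theorem E18525 : n4078 = n3947 := (((D3947).symm.trans (sb E18197 (iv D5904)))).symm
theorem E18526 : n8644 = n4278 := (((iv F38827)).symm.trans (sb E18078 F28264))
theorem F199910 : act 3 n6173 = n4273 := (sb E18079 (iv D6177))
theorem E18547 : n17948 = n477 := (((F3629).symm.trans (sb E18095 (iv F77697)))).symm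
theorem E18548 : n8488 = n961 := ((((iv F4990)).symm.trans (sb E18095 (iv D12332)))).symm
theorem E18549 : n4043 = n960 := (((D960).symm.trans (sb E18096 F26981))).symm
theorem E18551 : n3985 = n1969 := (((D1969).symm.trans (sb E18097 F26614))).symm
theorem E18552 : n3981 = n1961 := ((((iv F9719)).symm.trans (sb E18097 (iv D5761)))).symm
theorem F199914 : act 1 n2811 = n3948 := (sb E18285 F26397)
theorem E18553 : n8265 = n4064 := (E18504).trans E18519
theorem E18554 : n1969 = n1964 := (((F13597).symm.trans (sb E18285 (tr F26401 E18551)))).symm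
theorem F199915 : act 9 n2811 = n3943 := (sb E18285 (iv D5703))
theorem F199916 : act 2 n2808 = n3943 := (sb E18100 F26383)
theorem F199917 : act 8 n2808 = n3941 := (sb E18100 (iv D5699))
theorem E18555 : n8438 = n1997 := ((((iv F9847)).symm.trans (sb E18101 F54101))).symm
theorem E18557 : n4024 = n1994 := ((((iv F9837)).symm.trans (sb E18102 F26853))).symm
theorem E18558 : n4020 = n1998 := (((D1998).symm.trans (sb E18102 (iv D5820)))).symm
theorem E18559 : n5742 = n1363 := (E18104).trans E18110
theorem E18560 : n3974 = n1961 := ((((iv F9716)).symm.trans (sb E18559 F26548))).symm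
theorem E18561 : n8324 = n1963 := (E18510).trans E18518
theorem E18562 : n1994 = n956 := (((F6924).symm.trans (sb E18559 (tr F26550 E18557)))).symm
theorem E18563 : n3985 = n1964 := (E18551).trans E18554
theorem E18564 : n3969 = n951 := (((F6925).symm.trans (sb E18559 (iv D5742)))).symm
theorem E18565 : n8317 = n1916 := (E18512).trans E18524
theorem E18566 : n1998 = n938 := (((F6788).symm.trans (sb E18282 (tr F26538 E18558)))).symm
theorem E18570 : n7411 = n4056 := ((((iv F19140)).symm.trans (sb E18108 (iv F33769)))).symm
theorem E18571 : n3948 = n3941 := (((F199917).symm.trans (sb E18108 F26356))).symm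
theorem E18572 : n3936 = n1954 := (((F13584).symm.trans (sb E18108 (iv D5692)))).symm
theorem E18574 : n8522 = n4063 := (E18499).trans E18517
theorem E18576 : n3933 = n1957 := (((D1957).symm.trans (sb E18112 (iv D5687)))).symm
theorem E18577 : n8544 = n3544 := (E18390).trans E18423
theorem E18578 : n4082 = n3942 := ((((iv F18698)).symm.trans (sb E18114 F27174))).symm
theorem E18579 : n1976 = n1914 := ((((iv F9518)).symm.trans (sb E18115 F13724))).symm
theorem E18588 : n34339 = n7823 := (((F50376).symm.trans (sb E18121 (iv F144586)))).symm
theorem E18590 : n16583 = n16501 := (((D16501).symm.trans (sb E18121 (iv D24138)))).symm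
theorem E18596 : n34189 = n3739 := (((F25082).symm.trans (sb E18125 (iv F144071)))).symm
theorem E18597 : n34336 = n3760 := (((F25084).symm.trans (sb E18125 (iv F144573)))).symm
theorem E18598 : n16166 = n7834 := (((D7834).symm.trans (sb E18125 (iv D23550)))).symm
theorem E18599 : n16043 = n7607 := ((((iv F34588)).symm.trans (sb E18126 F100157))).symm
theorem F199920 : act 5 n11366 = n7976 := (sb E18128 F50619)
theorem E18602 : n34063 = n7826 := (((F50388).symm.trans (sb E18129 (iv F143593)))).symm
theorem E18604 : n34910 = n16524 := (((D16524).symm.trans (sb E18130 (iv F146758)))).symm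
theorem E18608 : n16045 = n7605 := ((((iv D11045)).symm.trans (sb E18131 (iv F70016)))).symm
theorem E18611 : n33940 = n7601 := ((((iv F34566)).symm.trans (sb E18133 (iv F197418)))).symm
theorem E18612 : n18113 = n3650 := (((F24416).symm.trans (sb E18133 (iv F197579)))).symm
theorem E18614 : n16041 = n7608 := (((D7608).symm.trans (sb E18133 (iv D23365)))).symm
theorem E18623 : n38527 = n1811 := (((F12645).symm.trans (sb E18139 (iv F161201)))).symm
theorem E18624 : n18138 = n3630 := ((((iv F17318)).symm.trans (sb E18139 (iv D26420)))).symm
theorem E18628 : n38745 = n1822 := (((F12702).symm.trans (sb E18141 (iv F161949)))).symm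
theorem E18629 : n18237 = n3767 := (((D3767).symm.trans (sb E18141 (iv D26567)))).symm
theorem E18630 : n8623 = n7614 := ((((iv F34616)).symm.trans (sb E18142 F55162))).symm
theorem E18631 : n17991 = n7427 := ((((iv F33839)).symm.trans (sb E18143 F196593))).symm
theorem E18646 : n7427 = n3626 := (((D3626).symm.trans (sb E18152 (tr F196625 E18631)))).symm
theorem E18648 : n18341 = n1823 := (((D1823).symm.trans (sb E18154 (iv D26719)))).symm
theorem E18651 : n8580 = n3571 := ((((iv F17050)).symm.trans (sb E18156 F54894))).symm
theorem E18654 : n16000 = n7421 := ((((iv F33812)).symm.trans (sb E18158 (iv F69818)))).symm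
theorem E18656 : n17991 = n3626 := (E18631).trans E18646
theorem E18665 : n33941 = n7828 := ((((iv F35484)).symm.trans (sb E18167 (iv F143079)))).symm
theorem E18669 : n16062 = n3542 := (E18333).trans E18422
theorem E18670 : n15990 = n7603 := ((((iv F34572)).symm.trans (sb E18169 (iv F69769)))).symm
theorem E18671 : n8570 = n3651 := (((F24421).symm.trans (sb E18169 F54492))).symm
theorem E18672 : n8508 = n7584 := ((((iv F34494)).symm.trans (sb E18169 (iv D12354)))).symm
theorem E18674 : n34152 = n3756 := (((D3756).symm.trans (sb E18172 (iv F143922)))).symm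
theorem E18684 : n7584 = n7415 := ((((iv F33788)).symm.trans (sb E18178 F48957))).symm
theorem E18685 : n7622 = n3567 := (((F23889).symm.trans (sb E18178 F48962))).symm
theorem E18687 : n4130 = n1734 := (((F12108).symm.trans (sb E18179 F27226))).symm
theorem E18689 : n8671 = n1772 := ((((iv F8861)).symm.trans (sb E18181 (iv F38924)))).symm
theorem E18693 : n8508 = n7415 := (E18672).trans E18684
theorem E18698 : n18170 = n1977 := ((((iv F9773)).symm.trans (sb E18189 (iv D26467)))).symm
theorem E18699 : n8594 = n4080 := ((((iv F19244)).symm.trans (sb E18190 F55008))).symm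
theorem E18701 : n18281 = n2071 := (((D2071).symm.trans (sb E18193 (iv D26632)))).symm
theorem E18702 : n8645 = n4122 := ((((iv F19382)).symm.trans (sb E18194 F55263))).symm
theorem E18703 : n8632 = n8271 := ((((iv F37403)).symm.trans (sb E18195 (iv F38787)))).symm
theorem E18704 : n8271 = n1973 := (((F13637).symm.trans (sb E18213 (tr (iv F196343) E18703)))).symm
theorem E18711 : n8632 = n1973 := (E18703).trans E18704
theorem E18712 : n8244 = n4073 := ((((iv F19217)).symm.trans (sb E18204 (iv F195914)))).symm
theorem E18713 : n8690 = n2003 := ((((iv F9867)).symm.trans (sb E18205 F55514))).symm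
theorem E18715 : n8596 = n3990 := ((((iv F18873)).symm.trans (sb E18206 F54964))).symm
theorem E18718 : n4098 = n3984 := ((((iv F18854)).symm.trans (sb E18208 F27265))).symm
theorem E18719 : n4080 = n3988 := ((((iv F18868)).symm.trans (sb E18208 (tr (iv F38662) E18699)))).symm
theorem E18721 : n8594 = n3988 := (E18699).trans E18719
theorem E18723 : n8253 = n7590 := (((iv F37333)).symm.trans (sb E18211 (iv F34518)))
theorem E18724 : n8246 = n4074 := ((F195785).symm.trans (sb E18211 (tr (iv F38421) E18494)))
theorem E18726 : n8935 = n8655 := ((((iv F38862)).symm.trans (sb E18216 F56886))).symm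
theorem E18730 : n17453 = n1952 := (E18435).trans E18444
theorem E18792 : n2039 = n1898 := ((((iv F9455)).symm.trans (sb E18267 F14073))).symm
theorem E18793 : n2082 = n919 := ((((iv D1321)).symm.trans (sb E18267 F14074))).symm
theorem E18794 : n2034 = n1895 := ((((iv F9445)).symm.trans (sb E18267 (iv D2932)))).symm
theorem E18795 : n4316 = n906 := ((((iv F4747)).symm.trans (sb E18268 (iv F20195)))).symm
theorem E18796 : n2078 = n918 := ((((iv F4805)).symm.trans (sb E18268 (iv D2992)))).symm
theorem E18801 : n3939 = n3629 := (((iv F18685)).symm.trans (sb E18274 (iv F17308)))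
theorem E18802 : n4141 = n1945 := ((((iv F9643)).symm.trans (sb E18276 F27474))).symm
theorem E18803 : n8687 = n2001 := ((((iv F9862)).symm.trans (sb E18276 (iv F38987)))).symm
theorem E18805 : n1987 = n1941 := ((((iv F9629)).symm.trans (sb E18278 F13781))).symm
theorem E18807 : n4020 = n938 := (E18558).trans E18566
theorem E18809 : n3978 = n3640 := (((iv F18834)).symm.trans (sb E18280 (iv F17355)))
theorem F199921 : act 0 n5236 = n3943 := (sb E18284 F26369)
theorem E18810 : n24189 = n23960 := (((D23960).symm.trans (sb E18287 F147307))).symm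
theorem E18813 : n23599 = n11336 := (((D11336).symm.trans (sb E18295 F143783))).symm
theorem E18814 : n23401 = n11337 := (((D11337).symm.trans (sb E18295 (iv D34117)))).symm
theorem E18815 : n24187 = n11394 := (((F71682).symm.trans (sb E18296 (iv F103288)))).symm
theorem E18816 : n23982 = n11437 := ((D23982).symm.trans (sb E18296 (iv D16621)))
theorem E18817 : n24027 = n23983 := (((D23983).symm.trans (sb E18297 (iv F102701)))).symm
theorem F199936 : act 9 n16475 = n11369 := (sb E18297 (iv D16525))
theorem E18818 : n24050 = n23963 := ((((iv F102428)).symm.trans (sb E18303 F147261))).symm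
theorem E18819 : n24024 = n23985 := ((((iv F102530)).symm.trans (sb E18305 F147134))).symm
theorem E18820 : n24022 = n23987 := ((((iv F102537)).symm.trans (sb E18308 F147127))).symm
theorem E18821 : n23398 = n11339 := (((D11339).symm.trans (sb E18312 (iv D34113)))).symm
theorem E18824 : n23483 = n5399 := (((D5399).symm.trans (sb E18316 F143329))).symm
theorem E18825 : n23323 = n5241 := ((((iv F24399)).symm.trans (sb E18316 (iv D34000)))).symm
theorem E18826 : n23596 = n5426 := (((F35437).symm.trans (sb E18317 (iv F100961)))).symm
theorem E18827 : n11347 = n11135 := ((D11347).symm.trans (sb E18317 (iv D16201)))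
theorem E18828 : n11046 = n11031 := ((((iv F49088)).symm.trans (sb E18318 F70090))).symm
theorem F199959 : act 8 n7882 = n11343 := (sb E18320 (iv D16488))
theorem E18830 : n23378 = n11025 := ((((iv F49060)).symm.trans (sb E18321 (iv F100193)))).symm
theorem E18831 : n11048 = n11029 := ((((iv F49078)).symm.trans (sb E18321 F70083))).symm
theorem E18832 : n23397 = n5275 := (((F34548).symm.trans (sb E18321 (iv F100263)))).symm
theorem E18833 : n23321 = n5239 := ((((iv D7596)).symm.trans (sb E18321 (iv F99958)))).symm
theorem E18834 : n11044 = n11032 := (((D11032).symm.trans (sb E18321 (iv D16065)))).symm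
theorem E18838 : n11432 = n11408 := (((D11408).symm.trans (sb E18326 (iv D16615)))).symm
theorem E18839 : n24021 = n11409 := (((D11409).symm.trans (sb E18327 (iv F102681)))).symm
theorem F199961 : act 9 n7860 = n11366 := (sb E18327 (iv D16521))
theorem F199962 : act 3 n7861 = n11366 := (sb E18328 (iv D16520))
theorem E18841 : n23366 = n11358 := (((iv F100151)).symm.trans (sb E18329 F71811))
theorem E18842 : n25527 = n5423 := (((F35421).symm.trans (sb E18332 F197633))).symm
theorem E18843 : n22716 = n5120 := (((D5120).symm.trans (sb E18669 (iv F197121)))).symm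
theorem E18844 : n11032 = n5121 := (((D5121).symm.trans (sb E18669 (tr F70072 E18834)))).symm
theorem E18845 : n12058 = n2470 := (((F16938).symm.trans (sb E18669 (iv F197228)))).symm
theorem E18847 : n5276 = n2470 := (((iv F24533)).symm.trans (sb E18334 (tr (iv D17535) E18845)))
theorem E18852 : n23415 = n12829 := (((D12829).symm.trans (sb E18341 (iv D34135)))).symm
theorem E18855 : n23411 = n12831 := (((D12831).symm.trans (sb E18345 (iv D34132)))).symm
theorem E18856 : n24192 = n12908 := ((((iv F56700)).symm.trans (sb E18346 F147376))).symm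
theorem E18857 : n24064 = n12910 := (((D12910).symm.trans (sb E18346 (iv D35062)))).symm
theorem E18859 : n23612 = n6145 := (((F39672).symm.trans (sb E18351 (iv F101029)))).symm
theorem E18860 : n12842 = n11146 := ((D12842).symm.trans (sb E18351 (iv D16214)))
theorem E18861 : n22804 = n12843 := (((D12843).symm.trans (sb E18352 (iv F97878)))).symm
theorem E18863 : n22802 = n2505 := ((((iv F12252)).symm.trans (sb E18442 F140283))).symm
theorem E18864 : n12843 = n2506 := (((D2506).symm.trans (sb E18442 (tr F140286 E18861)))).symm
theorem E18865 : n25476 = n1215 := (((F8725).symm.trans (sb E18442 F196266))).symm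
theorem E18867 : n6147 = n1215 := ((D6147).symm.trans (sb E18356 (tr F196859 E18865)))
theorem E18870 : n12831 = n2265 := ((((iv F11138)).symm.trans (sb E18391 (tr D23411 E18855)))).symm
theorem E18871 : n11377 = n2432 := ((((iv F11921)).symm.trans (sb E18391 F70126))).symm
theorem E18872 : n11054 = n2458 := (((D2458).symm.trans (sb E18391 F70127))).symm
theorem E18874 : n12928 = n11439 := ((D12928).symm.trans (sb E18361 (iv D16623)))
theorem E18876 : n8909 = n1701 := (((F11922).symm.trans (iv (sb E18362 (tr F71929 E18871))))).symm
theorem E18878 : n25233 = n1114 := (((F7952).symm.trans (sb E18364 F196846))).symm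
theorem E18879 : n23411 = n2265 := (E18855).trans E18870
theorem E18880 : n25468 = n1105 := (((F7954).symm.trans (sb E18364 F196847))).symm
theorem E18885 : n6112 = n2457 := ((((iv F12043)).symm.trans (sb E18366 F39683))).symm
theorem E18890 : n25434 = n6266 := ((((iv F28652)).symm.trans (sb E18369 (iv D37072)))).symm
theorem E18891 : n25771 = n3023 := (((F20293).symm.trans (sb E18369 F155549))).symm
theorem E18892 : n2945 = n1195 := ((((iv F6156)).symm.trans (sb E18370 F19923))).symm
theorem E18893 : n3007 = n575 := ((((iv D832)).symm.trans (sb E18370 F19924))).symm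
theorem E18896 : n23494 = n2946 := (((F19824).symm.trans (sb E18372 (iv F100632)))).symm
theorem E18897 : n11091 = n5891 := ((((iv F27141)).symm.trans (sb E18372 (iv D16134)))).symm
theorem E18898 : n11018 = n5888 := ((((iv F27125)).symm.trans (sb E18373 F69916))).symm
theorem E18900 : n23606 = n2969 := (((F19937).symm.trans (sb E18374 (iv F101005)))).symm
theorem E18901 : n11144 = n6155 := (((D6155).symm.trans (sb E18374 (iv D16211)))).symm
theorem E18902 : n12408 = n5292 := (((F34836).symm.trans (sb E18375 (iv F54719)))).symm
theorem F199986 : act 8 n7675 = n6110 := (sb E18375 (iv D8859))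
theorem E18903 : n12361 = n10776 := ((((iv F48026)).symm.trans (sb E18376 (iv F196610)))).symm
theorem F199991 : act 7 n7887 = n6152 := (sb E18377 F39967)
theorem F199992 : act 8 n7887 = n6151 := (sb E18377 (iv D8918))
theorem E18905 : n26076 = n1431 := (((F10056).symm.trans (sb E18379 F197572))).symm
theorem E18906 : n23491 = n2839 := ((((iv F13709)).symm.trans (sb E18379 (iv D34252)))).symm
theorem E18907 : n12104 = n2837 := ((((iv F13700)).symm.trans (sb E18380 F76339))).symm
theorem E18910 : n11980 = n5885 := ((((iv F27112)).symm.trans (sb E18382 F196230))).symm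
theorem E18911 : n11020 = n5887 := (((D5887).symm.trans (sb E18382 F69907))).symm
theorem E18912 : n11016 = n5869 := ((((iv F27044)).symm.trans (sb E18382 (iv D16021)))).symm
theorem E18913 : n23603 = n2970 := (((D2970).symm.trans (sb E18384 (iv D34415)))).symm
theorem E18914 : n11142 = n5944 := ((((iv F27324)).symm.trans (sb E18385 F70603))).symm
theorem E18916 : n12068 = n5938 := ((((iv F27304)).symm.trans (sb E18386 F196797))).symm
theorem E18917 : n11056 = n5942 := ((((iv F27318)).symm.trans (sb E18386 F70122))).symm
theorem E18918 : n11051 = n5945 := (((D5945).symm.trans (sb E18386 (iv D16074)))).symm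
theorem E18919 : n22726 = n5230 := ((((iv F24341)).symm.trans (sb E18514 (iv F196440)))).symm
theorem E18920 : n10778 = n5233 := (((D5233).symm.trans (sb E18514 F68449))).symm
theorem E18921 : n10776 = n5234 := (((D5234).symm.trans (sb E18514 F68450))).symm
theorem E18922 : n5938 = n2517 := (((F17253).symm.trans (sb E18514 (tr (iv F196497) E18916)))).symm
theorem E18923 : n5885 = n5235 := (((D5235).symm.trans (sb E18514 (tr F196232 E18910)))).symm
theorem E18924 : n10774 = n2510 := (((F17254).symm.trans (sb E18514 (iv D15664)))).symm
theorem E18926 : n5945 = n2472 := (((F16945).symm.trans (sb E18577 F38480))).symm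
theorem F199996 : act 3 n7885 = n6152 := (sb E18392 (iv D8919))
theorem E18928 : n12527 = n5449 := (((F35720).symm.trans (sb E18392 (iv F55151)))).symm
theorem E18929 : n22721 = n11022 := ((((iv F49047)).symm.trans (sb E18395 F139753))).symm
theorem E18930 : n22871 = n5272 := (((F34534).symm.trans (sb E18395 F139757))).symm
theorem E18931 : n22755 = n5238 := ((((iv D7593)).symm.trans (sb E18395 F139758))).symm
theorem E18932 : n11027 = n5120 := ((D11027).symm.trans (sb E18395 (tr (iv D33102) E18843)))
theorem E18938 : n25469 = n1116 := (((F8037).symm.trans (sb E18401 F154324))).symm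
theorem E18939 : n22696 = n2503 := ((((iv F12241)).symm.trans (sb E18402 (iv F97410)))).symm
theorem E18950 : n10747 = n5227 := ((((iv F24325)).symm.trans (sb E18410 F68229))).symm
theorem E18951 : n11022 = n5229 := (((D5229).symm.trans (sb E18410 (tr (iv F97523) E18929)))).symm
theorem E18952 : n10812 = n2515 := (((F17244).symm.trans (sb E18410 F68233))).symm
theorem E18953 : n10760 = n5231 := (((D5231).symm.trans (sb E18410 F68234))).symm
theorem E18954 : n10740 = n2508 := (((F17245).symm.trans (sb E18410 (iv D15613)))).symm
theorem E18956 : n12361 = n5234 := (E18903).trans E18921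
theorem E18957 : n12068 = n2517 := (E18916).trans E18922
theorem E18958 : n5814 = n1223 := (((F8763).symm.trans (sb E18412 F37568))).symm
theorem E18961 : n11980 = n5235 := (E18910).trans E18923
theorem E18964 : n2838 = n2466 := ((((iv F12081)).symm.trans (sb E18415 F19320))).symm
theorem E18965 : n2870 = n1223 := (((F8763).symm.trans (sb E18415 F19322))).symm
theorem E18967 : n12236 = n2873 := ((((iv F13826)).symm.trans (sb E18416 (iv F54017)))).symm
theorem E18968 : n5839 = n1380 := ((((iv D1991)).symm.trans (sb E18416 F38003))).symm
theorem E18969 : n5810 = n2874 := (((D2874).symm.trans (sb E18416 (iv D8426)))).symm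
theorem E18970 : n5751 = n2825 := ((((iv F13655)).symm.trans (sb E18417 (iv D8338)))).symm
theorem E18971 : n11051 = n2472 := (E18918).trans E18926
theorem E18972 : n2874 = n1205 := (((F8625).symm.trans (sb E18428 (tr F37556 E18969)))).symm
theorem E18973 : n5733 = n2473 := (((D2473).symm.trans (sb E18428 (iv D8309)))).symm
theorem E18975 : n5115 = n2814 := (((iv F23856)).symm.trans (sb E18419 (iv D4067)))
theorem F200003 : act 8 n4056 = n5694 := (sb E18420 (iv D8250))
theorem E18976 : n5247 = n5118 := ((((iv F23869)).symm.trans (sb E18422 F34549))).symm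
theorem E18977 : n5398 = n2455 := ((((iv D3542)).symm.trans (sb E18422 F34551))).symm
theorem E18979 : n11044 = n5121 := (E18834).trans E18844
theorem E18980 : n5252 = n5124 := (((D5124).symm.trans (sb E18423 F34604))).symm
theorem E18981 : n5250 = n5125 := (((D5125).symm.trans (sb E18423 F34605))).symm
theorem E18982 : n5249 = n5126 := (((D5126).symm.trans (sb E18423 (iv D7611)))).symm
theorem E18983 : n5694 = n5127 := (((D5127).symm.trans (sb E18425 F196255))).symm
theorem E18985 : n5810 = n1205 := (E18969).trans E18972
theorem E18987 : n26649 = n2972 := (((F19962).symm.trans (sb E18433 (iv F113103)))).symm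
theorem E18990 : n22804 = n2506 := (E18861).trans E18864
theorem E18992 : n12146 = n2813 := (((D2813).symm.trans (sb E18730 F75775))).symm
theorem E18993 : n25863 = n2973 := (((D2973).symm.trans (sb E18437 (iv D37714)))).symm
theorem E18994 : n25495 = n6164 := (((D6164).symm.trans (sb E18438 F196899))).symm
theorem E18995 : n12571 = n6165 := (((D6165).symm.trans (sb E18438 (iv D18298)))).symm
theorem E18997 : n6164 = n1365 := (((D1365).symm.trans (sb E18469 (tr (iv F108706) E18994)))).symm
theorem E18999 : n6165 = n1334 := (((D1334).symm.trans (sb E18450 (tr (iv F196544) E18995)))).symm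
theorem E19002 : n6117 = n2729 := ((((iv F13267)).symm.trans (sb E18444 (iv D8869)))).symm
theorem E19004 : n2949 = n1329 := ((((iv F6776)).symm.trans (sb E18445 (iv D4263)))).symm
theorem E19006 : n5905 = n2735 := ((((iv F13291)).symm.trans (sb E18447 (iv D8566)))).symm
theorem E19007 : n6134 = n2691 := ((((iv F13095)).symm.trans (sb E18447 F38557))).symm
theorem E19009 : n2956 = n1333 := ((((iv F6789)).symm.trans (sb E18448 F19972))).symm
theorem E19011 : n12571 = n1334 := (E18995).trans E18999
theorem E19012 : n6266 = n273 := (((F2198).symm.trans (sb E18452 (tr F154172 E18890)))).symm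
theorem E19016 : n25434 = n273 := (E18890).trans E19012
theorem E19020 : n3015 = n300 := ((((iv F1676)).symm.trans (sb E18457 F20327))).symm
theorem E19028 : n2925 = n2452 := ((((iv F12020)).symm.trans (sb E18461 F19799))).symm
theorem E19029 : n2983 = n1187 := ((((iv D1705)).symm.trans (sb E18461 F19800))).symm
theorem E19032 : n10736 = n2807 := ((((iv F13574)).symm.trans (sb E18463 (iv F47850)))).symm
theorem E19033 : n11926 = n1353 := ((((iv D1949)).symm.trans (sb E18463 (iv F52802)))).symm
theorem E19041 : n2931 = n2728 := ((((iv F13263)).symm.trans (sb E18468 F19837))).symm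
theorem E19047 : n1421 = n1328 := ((((iv F6772)).symm.trans (sb E18473 F10063))).symm
theorem E19048 : n1456 = n640 := ((((iv D925)).symm.trans (sb E18473 F10064))).symm
theorem E19053 : n12206 = n2975 := (((D2975).symm.trans (sb E18476 (iv D17761)))).symm
theorem E19054 : n2975 = n650 := (((D650).symm.trans (sb E18491 (tr (iv F53894) E19053)))).symm
theorem E19055 : n1436 = n649 := ((((iv F3455)).symm.trans (sb E18478 F10149))).symm
theorem E19062 : n2938 = n2732 := ((((iv F13279)).symm.trans (sb E18482 F19866))).symm
theorem E19063 : n6126 = n2690 := ((((iv F13090)).symm.trans (sb E18482 (iv F28057)))).symm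
theorem E19065 : n1426 = n1331 := ((((iv F6782)).symm.trans (sb E18484 F10076))).symm
theorem E19070 : n2991 = n635 := ((((iv F3393)).symm.trans (sb E18488 (iv D4317)))).symm
theorem E19072 : n26135 = n1437 := (((F10083).symm.trans (sb E18492 (iv F198134)))).symm
theorem E19073 : n12495 = n2846 := ((((iv F13732)).symm.trans (sb E18492 (iv D18184)))).symm
theorem E19074 : n5931 = n5899 := ((((iv F27167)).symm.trans (sb E18493 F38692))).symm
theorem E19075 : n5930 = n5878 := ((((iv F27089)).symm.trans (sb E18493 (iv D8603)))).symm
theorem E19076 : n11966 = n5874 := ((((iv F196104)).symm.trans (sb E18494 (iv F52973)))).symm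
theorem E19077 : n5880 = n5875 := ((((iv F27072)).symm.trans (sb E18494 (iv D8530)))).symm
theorem E19078 : n12570 = n2978 := (((D2978).symm.trans (sb E18496 (iv D18296)))).symm
theorem E19079 : n5966 = n5960 := ((((iv F27374)).symm.trans (sb E18497 F38865))).symm
theorem E19080 : n5923 = n5771 := ((((iv F26642)).symm.trans (sb E18498 (iv F196609)))).symm
theorem E19081 : n5900 = n5690 := ((((iv F26345)).symm.trans (sb E18574 F196332))).symm
theorem E19082 : n5771 = n5757 := ((((iv F195788)).symm.trans (sb E18574 (tr F38392 E19080)))).symm
theorem E19083 : n5882 = n5874 := ((D5882).symm.trans (sb E18574 (iv D8522)))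
theorem E19084 : n26138 = n694 := (((F5150).symm.trans (sb E18500 (iv F111197)))).symm
theorem E19085 : n12329 = n1385 := ((((iv F7009)).symm.trans (sb E18500 (iv D17945)))).symm
theorem E19086 : n12123 = n2843 := ((((iv F13719)).symm.trans (sb E18501 F76437))).symm
theorem E19088 : n5766 = n2840 := ((((iv F13710)).symm.trans (sb E18502 F37695))).symm
theorem E19090 : n5759 = n2828 := ((((iv F13667)).symm.trans (sb E18502 (iv D8350)))).symm
theorem F200013 : act 1 n4064 = n5709 := (sb E18553 F37383)
theorem E19092 : n2840 = n2833 := (((F19180).symm.trans (sb E18553 (tr F37386 E19088)))).symm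
theorem F200014 : act 9 n4064 = n5702 := (sb E18553 (iv D8265))
theorem F200015 : act 2 n4059 = n5702 := (sb E18506 F37356)
theorem F200016 : act 8 n4059 = n5698 := (sb E18506 (iv D8258))
theorem E19093 : n12255 = n2884 := ((((iv F13863)).symm.trans (sb E18507 F77236))).symm
theorem E19095 : n12084 = n5950 := ((((iv F27341)).symm.trans (sb E18508 F196922))).symm
theorem E19096 : n5969 = n5957 := ((((iv F27364)).symm.trans (sb E18508 F38860))).symm
theorem E19097 : n5964 = n5961 := (((D5961).symm.trans (sb E18508 (iv D8654)))).symm
theorem E19098 : n5748 = n2828 := ((((iv F13665)).symm.trans (sb E18561 F37607))).symm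
theorem E19099 : n12004 = n2831 := (((D2831).symm.trans (sb E18561 F196292))).symm
theorem E19100 : n5950 = n2832 := (((D2832).symm.trans (sb E18561 (tr (iv F53428) E19095)))).symm
theorem E19101 : n5766 = n2833 := (E19088).trans E19092
theorem E19102 : n5741 = n1369 := (((F9726).symm.trans (sb E18561 (iv D8324)))).symm
theorem E19103 : n5948 = n2831 := (((iv F27335)).symm.trans (sb E18511 (tr (iv F53126) E19099)))
theorem E19104 : n5907 = n2760 := (((D2760).symm.trans (sb E18565 F196290))).symm
theorem E19105 : n5961 = n2761 := (((D2761).symm.trans (sb E18565 (tr (iv F196555) E19097)))).symm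
theorem E19107 : n10753 = n5869 := ((((iv F27041)).symm.trans (sb E18515 (iv F47929)))).symm
theorem E19108 : n5709 = n5698 := (((F200016).symm.trans (sb E18515 F37312))).symm
theorem E19109 : n5691 = n2817 := (((F19159).symm.trans (sb E18515 (iv D8247)))).symm
theorem E19111 : n5686 = n2822 := (((D2822).symm.trans (sb E18520 (iv D8240)))).symm
theorem E19112 : n5898 = n5689 := ((((iv F26341)).symm.trans (sb E18521 (iv F196094)))).symm
theorem E19113 : n5603 = n2937 := (((iv F25979)).symm.trans (sb E18522 F19247))
theorem F200019 : act 8 n3945 = n2821 := (sb E18522 (iv D4081))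
theorem E19114 : n5707 = n2848 := ((D5707).symm.trans (sb E18523 F19243))
theorem F200020 : act 8 n3946 = n2820 := (sb E18523 (iv D4079))
theorem E19115 : n2851 = n2757 := ((((iv F13375)).symm.trans (sb E18524 F19367))).symm
theorem F200021 : act 4 n3947 = n2821 := (sb E18525 F19240)
theorem F200022 : act 6 n3947 = n2820 := (sb E18525 (iv D4078))
theorem F200023 : act 1 n4278 = n5965 := (sb E18526 F38826)
theorem E19135 : n12331 = n674 := ((((iv F3570)).symm.trans (sb E18547 (iv D17948)))).symm
theorem E19136 : n5851 = n1383 := ((((iv F7000)).symm.trans (sb E18548 F38244))).symm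
theorem E19138 : n2800 = n1382 := (((D1382).symm.trans (sb E18549 F19094))).symm
theorem E19139 : n2796 = n1374 := ((((iv F6966)).symm.trans (sb E18549 (iv D4043)))).symm
theorem F200026 : act 1 n1964 = n2763 := (sb E18563 F18857)
theorem E19140 : n1382 = n1377 := (((F9729).symm.trans (sb E18563 (tr F18860 E19138)))).symm
theorem F200027 : act 9 n1964 = n2758 := (sb E18563 (iv D3985))
theorem F200028 : act 2 n1961 = n2758 := (sb E18552 F18846)
theorem F200029 : act 8 n1961 = n2756 := (sb E18552 (iv D3981))
theorem E19141 : n2763 = n2756 := ((F200026).symm.trans (sb E18554 (iv F13371)))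
theorem E19142 : n2751 = n1367 := (((iv F13355)).symm.trans (sb E18554 (iv D1969)))
theorem E19143 : n5825 = n2878 := ((((iv F13842)).symm.trans (sb E18555 F38050))).symm
theorem E19144 : n12252 = n2882 := ((((iv F13856)).symm.trans (sb E18555 (iv F54082)))).symm
theorem E19145 : n5818 = n2885 := (((D2885).symm.trans (sb E18555 (iv D8438)))).symm
theorem E19147 : n4024 = n956 := (E18557).trans E18562
theorem E19148 : n2789 = n1374 := ((((iv F6963)).symm.trans (sb E19147 F19020))).symm
theorem E19149 : n2878 = n1376 := (((D1376).symm.trans (sb E19147 (tr (iv F26872) E19143)))).symm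
theorem E19150 : n2800 = n1377 := (E19138).trans E19140
theorem E19151 : n2784 = n664 := (((F4969).symm.trans (sb E19147 (iv D4024)))).symm
theorem E19152 : n2885 = n1349 := (((D1349).symm.trans (sb E18807 (tr (iv F26847) E19145)))).symm
theorem E19154 : n5150 = n2825 := ((((iv F13652)).symm.trans (sb E18560 (iv F24005)))).symm
theorem E19156 : n2748 = n1370 := (((D1370).symm.trans (sb E18564 (iv D3969)))).symm
theorem E19157 : n1389 = n1347 := ((((iv F6850)).symm.trans (sb E18566 F9850))).symm
theorem F200030 : act 2 n4056 = n5236 := (sb E18570 F33770)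
theorem F200031 : act 1 n3941 = n2811 := (sb E18571 (iv F199914))
theorem F200032 : act 9 n3941 = n2734 := (sb E18571 (iv D3948))
theorem F200033 : act 2 n1954 = n2811 := (sb E18572 F18673)
theorem F200034 : act 8 n1954 = n2727 := (sb E18572 (iv D3936))
theorem F200035 : act 1 n1957 = n2727 := (sb E18576 F18660)
theorem E19158 : n2726 = n1414 := (((F9698).symm.trans (sb E18576 (iv D3933)))).symm
theorem F200036 : act 9 n1957 = n2731 := (sb E18576 F18664)
theorem E19159 : n5695 = n5253 := (((iv F26366)).symm.trans (sb E18578 (iv F24442)))
theorem E19160 : n2754 = n2530 := (((iv F13365)).symm.trans (sb E18579 (iv F12353)))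
theorem E19161 : n23549 = n11356 := (((D11356).symm.trans (sb E18588 (iv D34339)))).symm
theorem E19163 : n24115 = n24020 := (((D24020).symm.trans (sb E18590 (iv F103051)))).symm
theorem F200040 : act 5 n16501 = n11565 := (sb E18590 F72130)
theorem E19164 : n23448 = n5248 := ((((iv F24426)).symm.trans (sb E18596 (iv D34189)))).symm
theorem E19165 : n23547 = n5442 := (((D5442).symm.trans (sb E18597 (iv D34336)))).symm
theorem E19166 : n11111 = n11047 := ((((iv F49146)).symm.trans (sb E18598 F70468))).symm
theorem E19167 : n23352 = n11037 := ((((iv F49108)).symm.trans (sb E18599 (iv F100087)))).symm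
theorem E19169 : n26379 = n5435 := (((F35477).symm.trans (sb E18602 F197631))).symm
theorem E19171 : n23966 = n23400 := ((((iv F100272)).symm.trans (sb E18604 F146760))).symm
theorem E19175 : n23355 = n11035 := ((((iv F49101)).symm.trans (sb E18608 (iv F100101)))).symm
theorem E19176 : n23368 = n5284 := (((F34582).symm.trans (sb E18608 (iv F100166)))).symm
theorem E19179 : n23292 = n10764 := ((((iv F47978)).symm.trans (sb E18611 F143073))).symm
theorem E19180 : n23423 = n5280 := (((F34568).symm.trans (sb E18611 F143076))).symm
theorem E19182 : n23283 = n11039 := (((D11039).symm.trans (sb E18611 (iv D33940)))).symm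
theorem E19183 : n23545 = n5286 := ((((iv F24564)).symm.trans (sb E18612 (iv F198012)))).symm
theorem E19185 : n12446 = n5287 := (((D5287).symm.trans (sb E18612 (iv D18113)))).symm
theorem E19186 : n11028 = n11013 := ((((iv F49010)).symm.trans (sb E18614 (iv D16041)))).symm
theorem E19193 : n26417 = n2531 := ((((iv F12361)).symm.trans (sb E18623 (iv D38527)))).symm
theorem E19194 : n12462 = n5251 := ((((iv F24435)).symm.trans (sb E18624 F78469))).symm
theorem E19197 : n26562 = n2625 := (((D2625).symm.trans (sb E18628 (iv D38745)))).symm
theorem E19198 : n12528 = n5293 := ((((iv F24586)).symm.trans (sb E18629 F78816))).symm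
theorem E19199 : n12515 = n10777 := ((((iv F48031)).symm.trans (sb E18630 (iv F55103)))).symm
theorem E19200 : n10777 = n2527 := (((F17300).symm.trans (sb E18656 (tr (iv F196623) E19199)))).symm
theorem E19216 : n12515 = n2527 := (E19199).trans E19200
theorem E19218 : n12598 = n2557 := ((((iv F12462)).symm.trans (sb E18648 F79179))).symm
theorem E19224 : n5251 = n5164 := ((((iv F24055)).symm.trans (sb E18651 (tr (iv F54923) E19194)))).symm
theorem E19226 : n12462 = n5164 := (E19194).trans E19224
theorem E19228 : n11013 = n10759 := ((((iv F47955)).symm.trans (sb E18654 F69817))).symm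
theorem E19232 : n11028 = n10759 := (E19186).trans E19228
theorem E19240 : n23284 = n11041 := ((((iv F49121)).symm.trans (sb E18665 (iv D33941)))).symm
theorem E19245 : n10998 = n10766 := ((((iv F47986)).symm.trans (sb E18670 F69768))).symm
theorem E19246 : n11058 = n5282 := (((F34575).symm.trans (sb E18670 F69772))).symm
theorem E19247 : n11008 = n10996 := (((iv F48988)).symm.trans (sb E18670 (iv D15990)))
theorem E19248 : n5971 = n2552 := (((F17398).symm.trans (sb E18671 F38574))).symm
theorem E19249 : n5909 = n5263 := ((((iv F24485)).symm.trans (sb E18671 (iv D8570)))).symm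
theorem E19250 : n10996 = n10756 := ((((iv F47943)).symm.trans (sb E18693 (iv F48927)))).symm
theorem E19251 : n5263 = n5154 := (((F33793).symm.trans (sb E18693 (tr F38327 E19249)))).symm
theorem E19253 : n23426 = n5281 := ((((iv F24547)).symm.trans (sb E18674 F143921))).symm
theorem E19256 : n11008 = n10756 := (E19247).trans E19250
theorem F200049 : act 1 n7415 = n5236 := (sb E18684 F34489)
theorem E19264 : n5301 = n2495 := (((F17038).symm.trans (sb E18685 F34653))).symm
theorem E19266 : n5981 = n2499 := ((((iv F12222)).symm.trans (sb E18687 (iv F27449)))).symm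
theorem E19268 : n12595 = n2555 := ((((iv F12455)).symm.trans (sb E18689 (iv F55384)))).symm
theorem E19272 : n5909 = n5154 := (E19249).trans E19251
theorem E19277 : n12484 = n2849 := ((((iv F13737)).symm.trans (sb E18698 F78580))).symm
theorem E19279 : n5899 = n5763 := ((((iv F26619)).symm.trans (sb E18721 (tr F38661 E19074)))).symm
theorem E19280 : n5769 = n2849 := (((iv F26639)).symm.trans (sb E18721 (tr (iv F55002) E19277)))
theorem E19281 : n5923 = n5757 := (E19080).trans E19082
theorem E19282 : n12558 = n2890 := ((((iv F13881)).symm.trans (sb E18701 F78948))).symm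
theorem E19283 : n12487 = n5772 := ((((iv F26645)).symm.trans (sb E18702 F196967))).symm
theorem E19284 : n5964 = n2761 := (E19097).trans E19105
theorem E19285 : n5772 = n2847 := (((D2847).symm.trans (sb E18711 (tr (iv F196621) E19283)))).symm
theorem E19292 : n12487 = n2847 := (E19283).trans E19285
theorem F200050 : act 6 n4073 = n5702 := (sb E18712 F195915)
theorem E19294 : n5997 = n2805 := ((((iv F13567)).symm.trans (sb E18713 F38997))).symm
theorem E19295 : n12621 = n2888 := ((((iv F13875)).symm.trans (sb E18713 (iv F55491)))).symm
theorem E19297 : n5933 = n5765 := ((((iv F26625)).symm.trans (sb E18715 F38669))).symm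
theorem E19301 : n5754 = n5269 := (((iv F26588)).symm.trans (sb E18718 (iv F24506)))
theorem E19302 : n5931 = n5763 := (E19074).trans E19279
theorem E19303 : n5770 = n2824 := ((D5770).symm.trans (sb E18719 F19244))
theorem F200051 : act 7 n3988 = n2821 := (sb E18719 (iv D4080))
theorem F200052 : act 0 n7590 = n5702 := (sb E18723 F37333)
theorem F200053 : act 4 n4074 = n5702 := (sb E18724 (iv F195785))
theorem E19308 : n12569 = n6201 := (((iv F55288)).symm.trans (sb E18726 F40033))
theorem E19372 : n2730 = n2593 := (((iv F13270)).symm.trans (sb E18792 (iv F12635)))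
theorem E19374 : n2996 = n1301 := ((((iv F6651)).symm.trans (sb E18793 (iv F14348)))).symm
theorem E19375 : n1446 = n1318 := ((((iv F6732)).symm.trans (sb E18793 (iv D2082)))).symm
theorem E19376 : n2723 = n1411 := (((iv F13241)).symm.trans (sb E18794 (iv D2034)))
theorem E19377 : n6235 = n1294 := ((((iv F6620)).symm.trans (sb E18795 (iv F28519)))).symm
theorem E19378 : n2990 = n1300 := ((((iv F6649)).symm.trans (sb E18795 (iv D4316)))).symm
theorem E19379 : n1444 = n1317 := ((((iv F6727)).symm.trans (sb E18796 (iv D2078)))).symm
theorem F200055 : act 0 n3629 = n2731 := (sb E18801 F18685)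
theorem E19383 : n2867 = n2799 := ((((iv F13544)).symm.trans (sb E18802 F19456))).symm
theorem E19384 : n5995 = n2803 := ((((iv F13561)).symm.trans (sb E18802 (iv F27503)))).symm
theorem E19386 : n5984 = n2889 := (((D2889).symm.trans (sb E18803 (iv D8687)))).symm
theorem E19387 : n5818 = n1349 := (E19145).trans E19152
theorem E19389 : n2793 = n2541 := (((iv F13522)).symm.trans (sb E18805 (iv F12400)))
theorem F200056 : act 0 n3640 = n2758 := (sb E18809 F18834)
theorem E19391 : n34409 = n16464 := (((F102412).symm.trans (sb E18810 (iv F144788)))).symm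
theorem E19400 : n34407 = n7852 := (((F50302).symm.trans (sb E18813 (iv F144780)))).symm
theorem E19401 : n16478 = n16200 := ((D16478).symm.trans (sb E18813 (iv D23599)))
theorem E19402 : n34088 = n16479 := (((D16479).symm.trans (sb E18814 (iv F143675)))).symm
theorem F200063 : act 9 n11337 = n16066 := (sb E18814 (iv D23401))
theorem E19403 : n16617 = n16562 := (((D16562).symm.trans (sb E18815 (iv D24187)))).symm
theorem F200066 : act 8 n11437 = n16474 := (sb E18816 (iv D23982))
theorem E19405 : n35013 = n34946 := (((D34946).symm.trans (sb E18817 (iv F147180)))).symm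
theorem F200069 : act 9 n23983 = n16504 := (sb E18817 (iv D24027))
theorem E19408 : n34112 = n16467 := (((F102427).symm.trans (sb E18818 (iv F143760)))).symm
theorem E19409 : n35040 = n16546 := (((F102429).symm.trans (sb E18818 (iv F147281)))).symm
theorem E19411 : n35002 = n16565 := (((F102531).symm.trans (sb E18819 (iv F147146)))).symm
theorem E19414 : n35000 = n16567 := (((F102538).symm.trans (sb E18820 (iv F147138)))).symm
theorem E19416 : n34083 = n16482 := ((((iv F71713)).symm.trans (sb E18821 (iv F143662)))).symm
theorem E19417 : n34110 = n7855 := (((F50314).symm.trans (sb E18821 (iv F143752)))).symm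
theorem E19422 : n34239 = n7122 := ((((iv F32436)).symm.trans (sb E18824 (iv F144224)))).symm
theorem E19423 : n34236 = n3752 := (((F25049).symm.trans (sb E18824 (iv F144214)))).symm
theorem E19424 : n16122 = n7598 := ((((iv F34560)).symm.trans (sb E18824 (iv D23483)))).symm
theorem E19426 : n16014 = n7595 := ((((iv F34542)).symm.trans (sb E18825 F99964))).symm
theorem E19428 : n34401 = n3775 := (((F25169).symm.trans (sb E18826 (iv F144756)))).symm
theorem E19429 : n16198 = n7862 := (((D7862).symm.trans (sb E18826 (iv D23596)))).symm
theorem E19430 : n16044 = n7666 := (((F49463).symm.trans (sb E18827 (iv F70010)))).symm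
theorem F200079 : act 8 n11135 = n7817 := (sb E18827 (iv D11347))
theorem E19431 : n16052 = n16034 := ((((iv F69962)).symm.trans (sb E18828 (iv F70035)))).symm
theorem E19432 : n33109 = n16027 := ((((iv F69933)).symm.trans (sb E18830 (iv F196676)))).symm
theorem E19434 : n16055 = n16032 := ((((iv F69954)).symm.trans (sb E18830 F100194))).symm
theorem E19435 : n33331 = n7645 := (((F49062).symm.trans (sb E18830 (iv F197428)))).symm
theorem E19436 : n33159 = n7592 := ((((iv D11025)).symm.trans (sb E18830 (iv F196761)))).symm
theorem E19437 : n16050 = n16036 := (((D16036).symm.trans (sb E18830 (iv D23378)))).symm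
theorem E19438 : n16068 = n7649 := (((F49080).symm.trans (sb E18831 (iv F70098)))).symm
theorem E19439 : n16016 = n7594 := ((((iv D11029)).symm.trans (sb E18831 (iv F69888)))).symm
theorem F200090 : act 9 n11029 = n7607 := (sb E18831 (iv D11048))
theorem E19440 : n16196 = n7651 := ((((iv F34761)).symm.trans (sb E18832 F100262))).symm
theorem E19441 : n17593 = n3643 := ((((iv D5275)).symm.trans (sb E18832 F197204))).symm
theorem E19442 : n16063 = n7652 := (((D7652).symm.trans (sb E18832 (iv D23397)))).symm
theorem E19443 : n16012 = n7576 := ((((iv F34456)).symm.trans (sb E18833 (iv D23321)))).symm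
theorem E19444 : n16036 = n7417 := ((((iv F33799)).symm.trans (sb E18979 (tr (iv F70030) E19437)))).symm
theorem E19445 : n7607 = n7419 := (((D7419).symm.trans (sb E18979 F49134))).symm
theorem E19446 : n7605 = n7420 := (((D7420).symm.trans (sb E18979 F49135))).symm
theorem E19447 : n7652 = n3566 := (((F23884).symm.trans (sb E18979 (tr (iv F70077) E19442)))).symm
theorem E19448 : n7604 = n7421 := (((D7421).symm.trans (sb E18979 (iv D11044)))).symm
theorem E19451 : n16063 = n3566 := (E19442).trans E19447
theorem F200094 : act 1 n11408 = n7884 := (sb E18838 F50692)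
theorem F200095 : act 3 n11408 = n7878 := (sb E18838 (iv D11432))
theorem F200096 : act 7 n11408 = n7879 := (sb E18838 F50694)
theorem F200097 : act 9 n11409 = n16501 := (sb E18839 (iv D24021))
theorem F200101 : act 0 n11358 = n16066 := (sb E18841 F100150)
theorem E19455 : n34044 = n16510 := ((((iv F71837)).symm.trans (sb E18841 (iv F143506)))).symm
theorem F200102 : act 4 n11358 = n16491 := (sb E18841 F100151)
theorem E19456 : n37122 = n7848 := ((((iv F35575)).symm.trans (sb E18842 (iv F155731)))).symm
theorem E19457 : n33332 = n7857 := ((((iv F35611)).symm.trans (sb E18842 (iv F140691)))).symm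
theorem E19458 : n17791 = n3774 := (((F25154).symm.trans (sb E18842 F108815))).symm
theorem E19459 : n15609 = n3622 := (((F23878).symm.trans (sb E18843 F97501))).symm
theorem E19460 : n33101 = n6810 := ((((iv F31190)).symm.trans (sb E18843 D33101))).symm
theorem E19461 : n16050 = n7417 := (E19437).trans E19444
theorem E19462 : n15710 = n3565 := (((F23881).symm.trans (sb E18843 F97505))).symm
theorem E19463 : n15607 = n7418 := (((D7418).symm.trans (sb E18843 (iv D22716)))).symm
theorem E19464 : n7608 = n7414 := ((((iv F33784)).symm.trans (sb E18844 F49091))).symm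
theorem E19465 : n7819 = n3543 := (((F23883).symm.trans (sb E18844 F49093))).symm
theorem E19466 : n7596 = n7405 := ((((iv F33747)).symm.trans (sb E18844 (iv D11032)))).symm
theorem E19470 : n3651 = n3563 := ((((iv F17023)).symm.trans (sb E18847 F24531))).symm
theorem E19472 : n3751 = n1716 := ((((iv D2470)).symm.trans (sb E18847 F24533))).symm
theorem E19473 : n3680 = n1731 := (((F12098).symm.trans (sb E18847 F24535))).symm
theorem E19474 : n3644 = n3557 := ((((iv F17004)).symm.trans (sb E18847 (iv D5276)))).symm
theorem E19482 : n33232 = n18655 := (((D18655).symm.trans (sb E18852 (iv F140296)))).symm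
theorem E19484 : n16467 = n3262 := ((((iv F15656)).symm.trans (sb E18879 (tr (iv F143759) E19408)))).symm
theorem E19485 : n33228 = n1598 := (((F11139).symm.trans (sb E18879 (iv F140279)))).symm
theorem E19486 : n16534 = n3242 := ((((iv F15559)).symm.trans (sb E18879 F100321))).symm
theorem E19490 : n18771 = n16622 := ((D18771).symm.trans (sb E18856 (iv D24192)))
theorem E19492 : n12910 = n2259 := (((F15560).symm.trans (iv (sb E18857 (tr F102848 E19486))))).symm
theorem E19494 : n34418 = n4283 := (((F28139).symm.trans (sb E18859 (iv F144829)))).symm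
theorem E19496 : n18137 = n15798 := ((((iv F68959)).symm.trans (sb E18860 (iv F197799)))).symm
theorem E19497 : n18655 = n3306 := ((((iv F15852)).symm.trans (sb E18990 (tr (iv F140295) E19482)))).symm
theorem E19498 : n15666 = n3618 := ((((iv F17261)).symm.trans (sb E18990 F97877))).symm
theorem E19499 : n15798 = n3619 := (((D3619).symm.trans (sb E18990 F97881))).symm
theorem E19500 : n33073 = n3615 := ((((iv F17246)).symm.trans (sb E18863 (iv F196166)))).symm
theorem E19503 : n8849 = n3540 := ((((iv F16927)).symm.trans (sb E18864 (iv D12843)))).symm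
theorem E19504 : n18137 = n3619 := (E19496).trans E19499
theorem E19510 : n4250 = n1714 := ((((iv F8613)).symm.trans (sb E18867 (iv D6147)))).symm
theorem E19516 : n7839 = n3507 := ((((iv F16769)).symm.trans (sb E18871 (iv D11377)))).symm
theorem E19518 : n7841 = n3508 := (((D3508).symm.trans (sb E18871 F50484))).symm
theorem E19520 : n7612 = n3546 := ((((iv F16953)).symm.trans (sb E18872 (iv D11054)))).symm
theorem E19524 : n11439 = n2447 := (((D2447).symm.trans (iv (sb E18874 (tr F56785 E18876))))).symm
theorem E19525 : n12928 = n2447 := (E18874).trans E19524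
theorem E19526 : n8907 = n3523 := ((((iv F16850)).symm.trans (sb E19525 (iv D12928)))).symm
theorem E19527 : n6154 = n2446 := ((((iv F11990)).symm.trans (sb E18876 F39931))).symm
theorem E19530 : n33063 = n1597 := ((((iv F8046)).symm.trans (sb E18878 (iv F139581)))).symm
theorem E19534 : n7848 = n1582 := ((((iv F7973)).symm.trans (sb E18880 (tr D37122 E19456)))).symm
theorem E19544 : n4226 = n3539 := ((((iv F16925)).symm.trans (sb E18885 (iv D6112)))).symm
theorem E19552 : n17698 = n187 := (((F1538).symm.trans (sb E19016 F108482))).symm
theorem E19554 : n4358 = n187 := (((iv F20374)).symm.trans (sb E18891 (tr (iv D25771) E19552)))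
theorem E19556 : n2092 = n831 := ((((iv D1195)).symm.trans (sb E18892 F14128))).symm
theorem E19557 : n2062 = n838 := (((F6157).symm.trans (sb E18892 F14129))).symm
theorem E19558 : n2043 = n1713 := ((((iv F8611)).symm.trans (sb E18892 (iv D2945)))).symm
theorem E19559 : n4338 = n393 := ((((iv D575)).symm.trans (sb E18893 (iv F20292)))).symm
theorem E19560 : n4336 = n823 := ((((iv F4346)).symm.trans (sb E18893 (iv F20283)))).symm
theorem E19561 : n2103 = n397 := (((F3098).symm.trans (sb E18893 F14395))).symm
theorem E19562 : n2089 = n830 := ((((iv F4383)).symm.trans (sb E18893 (iv D3007)))).symm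
theorem E19566 : n34249 = n2063 := (((F14134).symm.trans (sb E18896 (iv F144269)))).symm
theorem E19567 : n16131 = n4106 := ((((iv F19340)).symm.trans (sb E18896 (iv D23494)))).symm
theorem E19568 : n8542 = n7638 := (((iv F38470)).symm.trans (sb E18897 F49318))
theorem E19569 : n8515 = n7637 := (((iv F38364)).symm.trans (sb E18897 (iv D11091)))
theorem E19570 : n15629 = n8511 := ((((iv F196330)).symm.trans (sb E18898 (iv F68299)))).symm
theorem F200115 : act 4 n5888 = n7590 := (sb E18898 F49030)
theorem F200116 : act 8 n5888 = n7613 := (sb E18898 F49033)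
theorem E19571 : n8512 = n7587 := (((iv F38347)).symm.trans (sb E18898 (iv D11018)))
theorem E19572 : n16206 = n4289 := (((D4289).symm.trans (sb E18900 (iv D23606)))).symm
theorem E19573 : n8624 = n7673 := (((iv F38765)).symm.trans (sb E18901 F49499))
theorem E19574 : n8577 = n7485 := ((((iv F34061)).symm.trans (sb E18902 (iv F196989)))).symm
theorem E19575 : n15997 = n7582 := ((((iv F34481)).symm.trans (sb E18956 (iv F69802)))).symm
theorem E19576 : n7588 = n7485 := ((D7588).symm.trans (sb E18956 (tr F54525 E19574)))
theorem E19577 : n8511 = n7589 := (((D7589).symm.trans (sb E18956 (iv D12361)))).symm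
theorem E19582 : n38032 = n1003 := (((F7203).symm.trans (sb E18905 (iv F159225)))).symm
theorem E19583 : n17900 = n1992 := ((((iv F9833)).symm.trans (sb E18905 (iv D26076)))).symm
theorem E19584 : n16129 = n4103 := ((((iv F19327)).symm.trans (sb E18906 F100619))).symm
theorem E19586 : n8343 = n4100 := ((((iv F19317)).symm.trans (sb E18907 F53495))).symm
theorem E19590 : n15643 = n7583 := ((((iv F34485)).symm.trans (sb E18961 (iv F68363)))).symm
theorem E19592 : n15629 = n7589 := (E19570).trans E19577
theorem E19593 : n4100 = n3639 := (((F24367).symm.trans (sb E18961 (tr F53034 E19586)))).symm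
theorem F200120 : act 6 n5887 = n7590 := (sb E18911 F49042)
theorem F200121 : act 8 n5887 = n7615 := (sb E18911 F49043)
theorem F200122 : act 8 n5869 = n7586 := (sb E18912 (iv D11016))
theorem E19594 : n16204 = n4159 := ((((iv F19521)).symm.trans (sb E18913 F100990))).symm
theorem E19596 : n15794 = n8614 := ((((iv F38728)).symm.trans (sb E18914 (iv F68943)))).symm
theorem E19597 : n8621 = n7676 := (((iv F38755)).symm.trans (sb E18914 F49492))
theorem E19598 : n8625 = n7671 := ((D8625).symm.trans (sb E18914 (iv D11142)))
theorem E19601 : n8614 = n3638 := (((D3638).symm.trans (sb E18957 (tr (iv F196788) E19596)))).symm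
theorem E19602 : n8343 = n3639 := (E19586).trans E19593
theorem F200125 : act 3 n5942 = n7843 := (sb E18917 F49184)
theorem E19605 : n7614 = n3569 := (((D3569).symm.trans (sb E18971 F49163))).symm
theorem E19606 : n7671 = n3570 := (((D3570).symm.trans (sb E18971 F49164))).symm
theorem E19609 : n16027 = n7579 := ((((iv F34469)).symm.trans (sb E18919 (tr (iv F139785) E19432)))).symm
theorem E19613 : n7615 = n7408 := ((((iv F33756)).symm.trans (sb E18920 F48037))).symm
theorem E19614 : n7586 = n7428 := ((D7586).symm.trans (sb E18920 F48040))
theorem E19615 : n7613 = n7409 := ((((iv F33761)).symm.trans (sb E18921 F48026))).symm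
theorem E19619 : n7410 = n4068 := (((iv F33766)).symm.trans (sb E18923 F27112))
theorem E19620 : n7424 = n3628 := (((D3628).symm.trans (sb E18924 (iv D10774)))).symm
theorem E19622 : n8625 = n3570 := (E19598).trans E19606
theorem E19623 : n18232 = n3786 := (((F25259).symm.trans (sb E18928 (iv F78797)))).symm
theorem E19624 : n22721 = n5229 := (E18929).trans E18951
theorem E19625 : n15619 = n7575 := ((((iv F34447)).symm.trans (sb E19624 F97522))).symm
theorem E19626 : n33111 = n6907 := ((((iv F31583)).symm.trans (sb E19624 (iv F139794)))).symm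
theorem E19627 : n33109 = n7579 := (E19432).trans E19609
theorem E19628 : n15715 = n3633 := (((F24339).symm.trans (sb E19624 F97526))).symm
theorem E19629 : n15638 = n7580 := (((D7580).symm.trans (sb E19624 F97527))).symm
theorem E19630 : n7642 = n3633 := (((iv F34725)).symm.trans (sb E18930 (tr F98148 E19628)))
theorem E19634 : n7591 = n7580 := ((D7591).symm.trans (sb E18931 (tr F97672 E19629)))
theorem E19635 : n33162 = n6916 := ((((iv F31626)).symm.trans (sb E18931 (iv F140012)))).symm
theorem E19636 : n15633 = n7575 := ((((iv F34451)).symm.trans (sb E18931 (iv D22755)))).symm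
theorem E19637 : n7603 = n7413 := ((((iv F33780)).symm.trans (sb E18932 F49067))).symm
theorem E19638 : n16038 = n6810 := ((((iv F31190)).symm.trans (sb E18932 (iv F69980)))).symm
theorem E19646 : n33274 = n1600 := ((((iv F8061)).symm.trans (sb E18938 (iv F140477)))).symm
theorem E19649 : n15600 = n3613 := ((((iv F17235)).symm.trans (sb E18939 F97409))).symm
theorem E19652 : n15690 = n1746 := (((F12243).symm.trans (sb E18939 F97413))).symm
theorem E19665 : n7456 = n3631 := (((F24329).symm.trans (sb E18950 F47904))).symm
theorem F200128 : act 8 n5227 = n7422 := (sb E18950 F47905)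
theorem E19666 : n7406 = n3620 := (((F24330).symm.trans (sb E18950 (iv D10747)))).symm
theorem E19668 : n7521 = n1758 := (((F12300).symm.trans (sb E18952 F48180))).symm
theorem E19669 : n7469 = n3635 := (((D3635).symm.trans (sb E18952 F48181))).symm
theorem F200129 : act 0 n5231 = n7422 := (sb E18953 F47960)
theorem F200130 : act 9 n5231 = n7415 := (sb E18953 (iv D10760))
theorem E19671 : n7402 = n3624 := (((D3624).symm.trans (sb E18954 (iv D10740)))).symm
theorem E19672 : n8431 = n1760 := (((D1760).symm.trans (sb E18958 (iv F38019)))).symm
theorem E19679 : n1991 = n1727 := (((F12083).symm.trans (sb E18964 F13704))).symm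
theorem E19680 : n3560 = n1967 := ((D3560).symm.trans (sb E18964 (iv D2838)))
theorem E19681 : n4153 = n1760 := (((D1760).symm.trans (sb E18965 (iv F19499)))).symm
theorem E19683 : n16371 = n4157 := ((((iv F19514)).symm.trans (sb E18967 (iv F198420)))).symm
theorem E19684 : n8467 = n1990 := ((((iv D2873)).symm.trans (sb E18967 F54019))).symm
theorem E19685 : n8424 = n4160 := (((D4160).symm.trans (sb E18967 (iv D12236)))).symm
theorem E19686 : n4033 = n1978 := ((((iv F9777)).symm.trans (sb E18968 (iv D5839)))).symm
theorem E19687 : n4160 = n1733 := (((D1733).symm.trans (sb E18985 (tr (iv F37994) E19685)))).symm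
theorem E19688 : n4015 = n1734 := (((D1734).symm.trans (sb E18985 (iv D5810)))).symm
theorem F200131 : act 8 n2825 = n3976 := (sb E18970 (iv D5751))
theorem E19689 : n3976 = n3572 := (((D3572).symm.trans (sb E18973 F26520))).symm
theorem F200132 : act 2 n2814 = n3617 := (sb E18975 F23856)
theorem F200133 : act 8 n2814 = n3538 := (sb E18975 (iv D5115))
theorem F200134 : act 1 n5118 = n3629 := (sb E18976 F24417)
theorem E19691 : n3738 = n3541 := ((((iv D5118)).symm.trans (sb E18976 F24418))).symm
theorem E19692 : n7814 = n3260 := ((((iv F15647)).symm.trans (sb E18977 (iv F35418)))).symm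
theorem E19693 : n3793 = n1706 := ((((iv D2455)).symm.trans (sb E18977 F25041))).symm
theorem E19694 : n3731 = n3537 := ((((iv F16915)).symm.trans (sb E18977 (iv D5398)))).symm
theorem E19695 : n7335 = n3743 := (((iv F33427)).symm.trans (sb E18980 F24439))
theorem F200135 : act 8 n5124 = n3627 := (sb E18980 (iv D5252))
theorem E19696 : n7426 = n3654 := ((D7426).symm.trans (sb E18981 F24433))
theorem F200136 : act 8 n5125 = n3626 := (sb E18981 (iv D5250))
theorem F200137 : act 4 n5126 = n3627 := (sb E18982 F24429)
theorem F200138 : act 6 n5126 = n3626 := (sb E18982 (iv D5249))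
theorem F200139 : act 0 n5127 = n3941 := (sb E18983 F26361)
theorem F200140 : act 8 n5127 = n4056 := (sb E18983 (iv F200003))
theorem E19697 : n8424 = n1733 := (E19685).trans E19687
theorem E19701 : n18295 = n4291 := (((D4291).symm.trans (sb E18987 (iv D26649)))).symm
theorem E19706 : n8658 = n3938 := ((((iv F18681)).symm.trans (sb E18992 F53638))).symm
theorem E19708 : n17759 = n4292 := (((D4292).symm.trans (sb E18993 F110088))).symm
theorem E19710 : n25495 = n1365 := (E18994).trans E18997
theorem E19712 : n4292 = n958 := (((F6932).symm.trans (sb E19710 (tr F108705 E19708)))).symm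
theorem E19715 : n8655 = n1919 := (((D1919).symm.trans (sb E19011 F55296))).symm
theorem E19718 : n4262 = n1912 := ((((iv F9511)).symm.trans (sb E18997 (iv D6164)))).symm
theorem E19720 : n4272 = n1918 := ((((iv F9530)).symm.trans (sb E18999 F28218))).symm
theorem E19725 : n4237 = n3937 := ((((iv F18677)).symm.trans (sb E19002 F28018))).symm
theorem E19728 : n2049 = n1911 := ((((iv F9508)).symm.trans (sb E19004 F14146))).symm
theorem E19731 : n4245 = n3944 := ((((iv F18706)).symm.trans (sb E19006 (iv F199834)))).symm
theorem E19732 : n4242 = n3880 := ((((iv F18429)).symm.trans (sb E19006 F27186))).symm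
theorem E19733 : n4120 = n3949 := (((D3949).symm.trans (sb E19006 F27188))).symm
theorem E19734 : n4327 = n3854 := ((((iv F18312)).symm.trans (sb E19007 F28090))).symm
theorem E19736 : n2056 = n1915 := ((((iv F9521)).symm.trans (sb E19009 F14171))).symm
theorem E19737 : n4270 = n1888 := ((((iv F9409)).symm.trans (sb E19009 (iv F19995)))).symm
theorem E19754 : n4345 = n434 := ((((iv F2375)).symm.trans (sb E19020 (iv F20320)))).symm
theorem E19755 : n2105 = n207 := (((F1677).symm.trans (sb E19020 F14431))).symm
theorem E19756 : n4348 = n204 := ((((iv D300)).symm.trans (sb E19020 D4348))).symm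
theorem E19757 : n2095 = n440 := ((((iv F2404)).symm.trans (sb E19020 (iv D3015)))).symm
theorem E19770 : n2075 = n1704 := ((((iv D2452)).symm.trans (sb E19028 F14043))).symm
theorem E19771 : n3534 = n2030 := (((iv F16900)).symm.trans (sb E19028 (iv D2925)))
theorem E19772 : n4305 = n826 := ((((iv D1187)).symm.trans (sb E19029 D4305))).symm
theorem E19773 : n4304 = n1689 := ((((iv F8495)).symm.trans (sb E19029 (iv F20139)))).symm
theorem E19774 : n2073 = n1703 := ((((iv F8566)).symm.trans (sb E19029 (iv D2983)))).symm
theorem E19776 : n15589 = n1948 := ((((iv D2807)).symm.trans (sb E19032 (iv F68117)))).symm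
theorem E19777 : n7445 = n1960 := (((F13577).symm.trans (sb E19032 F47854))).symm
theorem E19778 : n8289 = n946 := (((F6877).symm.trans (sb E19033 F52804))).symm
theorem E19788 : n3934 = n2038 := (((iv F18665)).symm.trans (sb E19041 F14070))
theorem E19789 : n4235 = n3873 := ((((iv F18402)).symm.trans (sb E19041 (iv F19855)))).symm
theorem E19790 : n3930 = n2033 := (((iv F18648)).symm.trans (sb E19041 (iv D2931)))
theorem E19794 : n17759 = n958 := (E19708).trans E19712
theorem E19797 : n1909 = n990 := (((iv F9500)).symm.trans (sb E19047 F7162))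
theorem E19798 : n1015 = n924 := ((((iv D1328)).symm.trans (sb E19047 F7163))).symm
theorem E19799 : n997 = n934 := (((F6773).symm.trans (sb E19047 F7164))).symm
theorem E19800 : n1906 = n987 := (((iv F9490)).symm.trans (sb E19047 (iv D1421)))
theorem E19801 : n2094 = n912 := ((((iv F4774)).symm.trans (sb E19048 (iv F10269)))).symm
theorem E19802 : n1021 = n445 := (((F3416).symm.trans (sb E19048 F7317))).symm
theorem E19803 : n1013 = n923 := ((((iv F4827)).symm.trans (sb E19048 (iv D1456)))).symm
theorem E19809 : n2070 = n939 := ((((iv F4891)).symm.trans (sb E19054 F14252))).symm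
theorem E19810 : n1001 = n937 := ((((iv F4884)).symm.trans (sb E19055 F7223))).symm
theorem E19820 : n3940 = n3744 := (((iv F18689)).symm.trans (sb E19062 (iv F17794)))
theorem E19822 : n4241 = n3878 := ((((iv F18422)).symm.trans (sb E19063 F199786))).symm
theorem E19825 : n1913 = n1810 := (((iv F9514)).symm.trans (sb E19065 (iv F9035)))
theorem E19830 : n4315 = n905 := ((((iv F4743)).symm.trans (sb E19070 (iv F20190)))).symm
theorem E19831 : n2116 = n436 := ((((iv D635)).symm.trans (sb E19070 F14327))).symm
theorem E19833 : n38114 = n1004 := (((F7229).symm.trans (sb E19072 (iv F159566)))).symm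
theorem E19834 : n17942 = n1999 := ((((iv F9858)).symm.trans (sb E19072 (iv D26135)))).symm
theorem E19835 : n8601 = n4114 := ((((iv F19361)).symm.trans (sb E19073 F55039))).symm
theorem E19837 : n8340 = n7638 := (((iv F37659)).symm.trans (sb E19302 (iv F34710)))
theorem E19838 : n8346 = n8329 := (((iv F37679)).symm.trans (sb E19302 (iv F37621)))
theorem E19839 : n8330 = n4114 := (((iv F195917)).symm.trans (sb E19302 (tr (iv F38687) E19835)))
theorem E19840 : n4121 = n3982 := ((((iv D5763)).symm.trans (sb E19302 F27283))).symm
theorem E19841 : n8357 = n4095 := ((D8357).symm.trans (sb E19302 (iv D5931)))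
theorem E19842 : n4107 = n4095 := (((iv F195925)).symm.trans (sb E19075 (iv D5930)))
theorem E19843 : n8329 = n4089 := (((F27067).symm.trans (sb E19076 F52976))).symm
theorem F200143 : act 4 n5875 = n4064 := (sb E19077 F27093)
theorem F200144 : act 8 n5875 = n4062 := (sb E19077 (iv D5880))
theorem E19844 : n8652 = n4174 := ((((iv F19573)).symm.trans (sb E19078 F55291))).symm
theorem E19845 : n8592 = n8364 := (((iv F196986)).symm.trans (sb E19079 (iv F37740)))
theorem E19846 : n5960 = n5746 := ((((iv F195786)).symm.trans (iv (sb E19079 (tr F27393 E19840))))).symm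
theorem E19847 : n5966 = n5746 := (E19079).trans E19846
theorem E19848 : n4119 = n3989 := (((F26565).symm.trans (sb E19847 (iv D5966)))).symm
theorem E19849 : n8364 = n4096 := ((((iv F195923)).symm.trans (sb E19281 (tr (iv F38656) E19845)))).symm
theorem E19850 : n8346 = n4089 := (E19838).trans E19843
theorem F200146 : act 8 n5690 = n4074 := (sb E19081 (iv D5900))
theorem E19851 : n3991 = n3980 := ((((iv D5757)).symm.trans (sb E19082 F26643))).symm
theorem F200147 : act 9 n5757 = n3988 := (sb E19082 (iv D5771))
theorem F200148 : act 6 n5874 = n4064 := (sb E19083 F27102)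
theorem F200149 : act 8 n5874 = n4063 := (sb E19083 (iv D5882))
theorem E19852 : n17944 = n977 := ((((iv F5061)).symm.trans (sb E19084 (iv D26138)))).symm
theorem E19853 : n8486 = n1996 := ((((iv F9845)).symm.trans (sb E19085 F54386))).symm
theorem E19855 : n8359 = n4108 := ((((iv F19343)).symm.trans (sb E19086 F53561))).symm
theorem E19856 : n8604 = n4112 := ((((iv F19356)).symm.trans (sb E19086 F196622))).symm
theorem E19857 : n8348 = n4090 := ((((iv F19284)).symm.trans (sb E19086 (iv D12123)))).symm
theorem E19858 : n4108 = n4097 := ((((iv F19309)).symm.trans (sb E19101 (tr (iv F37727) E19855)))).symm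
theorem F200150 : act 9 n2833 = n3984 := (sb E19101 (iv D5766))
theorem F200151 : act 2 n2828 = n3984 := (sb E19090 F26607)
theorem F200152 : act 8 n2828 = n3980 := (sb E19090 (iv D5759))
theorem F200153 : act 1 n2833 = n3980 := (sb E19092 (iv F18842))
theorem E19859 : n3973 = n1970 := (((iv F18819)).symm.trans (sb E19092 F13710))
theorem E19860 : n8447 = n4165 := ((((iv F19540)).symm.trans (sb E19093 F54094))).symm
theorem E19861 : n8771 = n4172 := ((((iv F19565)).symm.trans (sb E19093 (iv F197715)))).symm
theorem E19862 : n8436 = n4175 := (((D4175).symm.trans (sb E19093 (iv D12255)))).symm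
theorem E19863 : n12084 = n2832 := (E19095).trans E19100
theorem E19864 : n15794 = n3638 := (E19596).trans E19601
theorem E19865 : n8331 = n4090 := ((((iv F19281)).symm.trans (sb E19863 F53426))).symm
theorem E19866 : n8367 = n4094 := ((((iv F19300)).symm.trans (sb E19863 F196556))).symm
theorem E19867 : n4165 = n1985 := (((F13682).symm.trans (sb E19863 (tr F53427 E19860)))).symm
theorem E19868 : n8359 = n4097 := (E19855).trans E19858
theorem E19871 : n8642 = n4180 := (((iv F38821)).symm.trans (sb E19096 F27401))
theorem E19872 : n4122 = n3987 := ((((iv F18866)).symm.trans (sb E19284 F27387))).symm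
theorem E19873 : n4175 = n1944 := (((F13389).symm.trans (sb E19284 (tr (iv F196914) E19862)))).symm
theorem E19874 : n4118 = n3990 := (((D3990).symm.trans (sb E19284 (iv D5964)))).symm
theorem E19875 : n7462 = n4084 := ((((iv F19258)).symm.trans (sb E19098 (iv F33981)))).symm
theorem E19877 : n8592 = n4096 := (E19845).trans E19849
theorem E19878 : n3968 = n1975 := (((D1975).symm.trans (sb E19102 (iv D5741)))).symm
theorem E19879 : n4113 = n3971 := ((((iv F18812)).symm.trans (sb E19103 F27335))).symm
theorem E19880 : n4244 = n3917 := ((((iv F18588)).symm.trans (sb E19104 F27193))).symm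
theorem E19881 : n4123 = n3983 := ((((iv F18851)).symm.trans (sb E19105 F27377))).symm
theorem F200157 : act 2 n5869 = n7590 := (sb E19107 F47930)
theorem F200158 : act 1 n5698 = n4064 := (sb E19108 (iv F200013))
theorem F200159 : act 9 n5698 = n3947 := (sb E19108 (iv D5709))
theorem F200160 : act 2 n2817 = n4064 := (sb E19109 F26349)
theorem F200161 : act 8 n2817 = n3935 := (sb E19109 (iv D5691))
theorem F200162 : act 1 n2822 = n3935 := (sb E19111 F26329)
theorem F200163 : act 4 n2822 = n3946 := (sb E19111 F195764)
theorem F200164 : act 6 n2822 = n3945 := (sb E19111 F195765)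
theorem F200165 : act 9 n2822 = n3942 := (sb E19111 F26332)
theorem F200166 : act 8 n5689 = n4073 := (sb E19112 (iv D5898))
theorem F200167 : act 3 n2937 = n3945 := (sb E19113 F25979)
theorem F200168 : act 7 n2848 = n3946 := (sb E19114 (iv D5707))
theorem E19883 : n3977 = n3657 := (((iv F18832)).symm.trans (sb E19115 (iv F17416)))
theorem E19906 : n17939 = n976 := ((((iv F5055)).symm.trans (sb E19135 (iv F77659)))).symm
theorem E19908 : n4048 = n1993 := ((((iv F9834)).symm.trans (sb E19136 F26971))).symm
theorem E19909 : n8483 = n1995 := (((D1995).symm.trans (sb E19136 (iv F38224)))).symm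
theorem E19910 : n4041 = n1981 := ((((iv F9791)).symm.trans (sb E19136 (iv D5851)))).symm
theorem F200169 : act 1 n1377 = n1946 := (sb E19150 F13548)
theorem E19911 : n1993 = n1986 := ((((iv F9808)).symm.trans (sb E19150 (tr (iv F19112) E19908)))).symm
theorem F200170 : act 9 n1377 = n1941 := (sb E19150 (iv D2800))
theorem F200171 : act 2 n1374 = n1941 := (sb E19139 F13535)
theorem F200172 : act 8 n1374 = n1939 := (sb E19139 (iv D2796))
theorem E19912 : n1946 = n1939 := ((F200169).symm.trans (sb E19140 (iv F9622)))
theorem E19913 : n1934 = n960 := (((iv F9603)).symm.trans (sb E19140 (iv D1382)))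
theorem F200173 : act 1 n2756 = n1964 := (sb E19141 (iv F200026))
theorem F200174 : act 9 n2756 = n1917 := (sb E19141 (iv D2763))
theorem F200175 : act 2 n1367 = n1964 := (sb E19142 F13355)
theorem F200176 : act 8 n1367 = n1910 := (sb E19142 (iv D2751))
theorem E19914 : n5825 = n1376 := (E19143).trans E19149
theorem E19915 : n4030 = n1981 := ((((iv F9788)).symm.trans (sb E19914 F26871))).symm
theorem E19916 : n8445 = n1984 := (((D1984).symm.trans (sb E19914 (iv F38078)))).symm
theorem E19917 : n8447 = n1985 := (E19860).trans E19867
theorem E19918 : n4048 = n1986 := (E19908).trans E19911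
theorem E19919 : n4023 = n962 := (((F6975).symm.trans (sb E19914 (iv D5825)))).symm
theorem E19921 : n8434 = n4173 := (((D4173).symm.trans (sb E19144 (iv D12252)))).symm
theorem E19922 : n4173 = n1943 := (((D1943).symm.trans (sb E19387 (tr (iv F38034) E19921)))).symm
theorem E19923 : n8436 = n1944 := (E19862).trans E19873
theorem E19925 : n3595 = n1978 := ((((iv F9774)).symm.trans (sb E19148 (iv F17162)))).symm
theorem E19927 : n1931 = n963 := (((D963).symm.trans (sb E19151 (iv D2784)))).symm
theorem E19928 : n2004 = n1940 := ((((iv F9626)).symm.trans (sb E19152 F13865))).symm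
theorem F200177 : act 2 n2825 = n3640 := (sb E19154 F24006)
theorem F200178 : act 1 n1370 = n1910 := (sb E19156 F13345)
theorem F200179 : act 9 n1370 = n1914 := (sb E19156 F13348)
theorem E19929 : n1937 = n1773 := (((iv F9614)).symm.trans (sb E19157 (iv F8863)))
theorem F200180 : act 1 n1414 = n1895 := (sb E19158 F13253)
theorem E19930 : n1894 = n1009 := (((F7133).symm.trans (sb E19158 (iv D2726)))).symm
theorem F200181 : act 9 n1414 = n1898 := (sb E19158 F13257)
theorem F200182 : act 0 n5253 = n3942 := (sb E19159 F26366)
theorem F200183 : act 0 n2530 = n1914 := (sb E19160 F13365)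
theorem E19931 : n34311 = n16507 := (((D16507).symm.trans (sb E19161 (iv F144472)))).symm
theorem F200184 : act 5 n24020 = n16787 := (sb E19163 F103052)
theorem E19937 : n16098 = n7606 := ((((iv F34584)).symm.trans (sb E19164 F100470))).symm
theorem E19938 : n34186 = n3652 := (((F24425).symm.trans (sb E19164 (iv F144060)))).symm
theorem E19940 : n16164 = n7667 := ((((iv F34806)).symm.trans (sb E19165 F100819))).symm
theorem E19942 : n16151 = n16053 := ((((iv F70039)).symm.trans (sb E19166 (iv F70407)))).symm
theorem E19943 : n33953 = n15648 := ((((iv F68382)).symm.trans (sb E19167 (iv F196754)))).symm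
theorem E19945 : n33950 = n7600 := ((((iv D11037)).symm.trans (sb E19167 (iv F143120)))).symm
theorem E19946 : n34148 = n7874 := ((((iv F35681)).symm.trans (sb E19169 (iv F143911)))).symm
theorem E19949 : n34918 = n34086 := ((((iv F143668)).symm.trans (sb E19171 (iv F146797)))).symm
theorem E19950 : n34112 = n3262 := (E19408).trans E19484
theorem E19959 : n15646 = n7600 := (((iv F68373)).symm.trans (sb E19175 (tr (iv F197487) E19945)))
theorem E19961 : n15648 = n7599 := ((((iv D11035)).symm.trans (sb E19175 (tr (iv F143134) E19943)))).symm
theorem E19962 : n16167 = n7664 := ((((iv F34797)).symm.trans (sb E19176 F100165))).symm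
theorem E19964 : n33953 = n7599 := (E19943).trans E19961
theorem E19966 : n16007 = n15636 := ((((iv F68331)).symm.trans (sb E19179 F99830))).symm
theorem E19967 : n33955 = n15649 := (((D15649).symm.trans (sb E19179 (iv F143140)))).symm
theorem E19968 : n16091 = n7473 := (((F47981).symm.trans (sb E19179 F99833))).symm
theorem E19971 : n34147 = n7657 := ((((iv F34777)).symm.trans (sb E19180 (iv F143908)))).symm
theorem E19976 : n15989 = n15636 := (((E19966).symm.trans (((iv F69847)).symm.trans (sb E19182 (iv D23283))))).symm
theorem E19977 : n18316 = n3690 := (((F24563).symm.trans (sb E19183 (iv F198434)))).symm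
theorem E19979 : n16162 = n7668 := (((D7668).symm.trans (sb E19183 (iv D23545)))).symm
theorem E19980 : n8569 = n7633 := ((((iv F34693)).symm.trans (sb E19185 (iv D12446)))).symm
theorem E19981 : n15623 = n7595 := ((F196033).symm.trans (sb E19232 F49075))
theorem E19982 : n15621 = n7594 := (((iv F196192)).symm.trans (sb E19232 (iv D11028)))
theorem E19983 : n7633 = n7468 := (((F47959).symm.trans (sb E19232 (tr (iv F196835) E19980)))).symm
theorem E19994 : n18136 = n3655 := ((((iv F17410)).symm.trans (sb E19193 F112319))).symm
theorem E19996 : n7606 = n7477 := ((((iv F34033)).symm.trans (sb E19226 (tr (iv F70221) E19937)))).symm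
theorem E19997 : n7483 = n3655 := (((iv F34056)).symm.trans (sb E19226 (tr (iv F78462) E19994)))
theorem E19999 : n18233 = n3696 := ((((iv F17566)).symm.trans (sb E19197 F112818))).symm
theorem E20000 : n18139 = n7486 := ((((iv F34065)).symm.trans (sb E19198 F197325))).symm
theorem E20001 : n7486 = n3653 := (((D3653).symm.trans (sb E19216 (tr (iv F197005) E20000)))).symm
theorem E20022 : n18139 = n3653 := (E20000).trans E20001
theorem E20023 : n8680 = n3611 := ((((iv F17227)).symm.trans (sb E19218 F55397))).symm
theorem E20024 : n18334 = n3694 := ((((iv F17558)).symm.trans (sb E19218 (iv F79149)))).symm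
theorem E20030 : n16098 = n7477 := (E19937).trans E19996
theorem E20032 : n7484 = n3630 := ((D7484).symm.trans (sb E19224 F24435))
theorem F200185 : act 7 n5164 = n3627 := (sb E19224 (iv D5251))
theorem E20033 : n8569 = n7468 := (E19980).trans E19983
theorem F200186 : act 1 n10759 = n7590 := (sb E19228 F49006)
theorem E20043 : n33232 = n3306 := (E19482).trans E19497
theorem E20044 : n15994 = n15652 := ((((iv F68399)).symm.trans (sb E19240 F99794))).symm
theorem E20045 : n33942 = n16059 := ((((iv F70060)).symm.trans (sb E19240 D33942))).symm
theorem E20046 : n16083 = n7661 := (((F49124).symm.trans (sb E19240 F99796))).symm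
theorem E20047 : n30834 = n16060 := (((D16060).symm.trans (sb E19240 (iv F130669)))).symm
theorem E20054 : n7618 = n7475 := (((F47990).symm.trans (sb E19245 F48940))).symm
theorem E20055 : n7678 = n3686 := (((F24551).symm.trans (sb E19246 F49194))).symm
theorem E20056 : n7628 = n7616 := (((iv F34674)).symm.trans (sb E19246 (iv D11058)))
theorem E20057 : n16009 = n15637 := (((D15637).symm.trans (sb E19256 (iv F69853)))).symm
theorem E20058 : n7616 = n7465 := (((F47946).symm.trans (sb E19256 (tr F48987 E20056)))).symm
theorem E20059 : n8662 = n3691 := ((((iv F17547)).symm.trans (sb E19248 (iv F38885)))).symm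
theorem E20060 : n4124 = n3667 := ((((iv F17460)).symm.trans (sb E19248 (iv D5971)))).symm
theorem E20061 : n3667 = n3599 := (((F24024).symm.trans (sb E19272 (tr F27202 E20060)))).symm
theorem E20062 : n15637 = n14547 := ((D15637).symm.trans (sb E19250 (iv F63802)))
theorem F200188 : act 1 n5154 = n3640 := (sb E19251 F24481)
theorem E20063 : n7628 = n7465 := (E20056).trans E20058
theorem E20064 : n16093 = n7474 := ((((iv F34024)).symm.trans (sb E19253 F100378))).symm
theorem E20071 : n16009 = n14547 := (E20057).trans E20062
theorem E20082 : n7688 = n3605 := ((((iv F17203)).symm.trans (sb E19264 (iv F34893)))).symm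
theorem E20084 : n8678 = n3609 := ((((iv F17219)).symm.trans (sb E19266 (iv F38954)))).symm
theorem E20087 : n8667 = n3695 := (((D3695).symm.trans (sb E19268 (iv D12595)))).symm
theorem E20089 : n4124 = n3599 := (E20060).trans E20061
theorem E20095 : n8356 = n4077 := ((D8356).symm.trans (sb E19279 F27167))
theorem F200189 : act 7 n5763 = n4074 := (sb E19279 (iv D5899))
theorem F200190 : act 6 n2849 = n3988 := (sb E19280 F26639)
theorem E20098 : n8703 = n4054 := ((((iv F19133)).symm.trans (sb E19282 F197319))).symm
theorem E20100 : n4117 = n4054 := ((D4117).symm.trans (sb E19292 (tr F55013 E20098)))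
theorem E20101 : n8327 = n4112 := ((((iv F19354)).symm.trans (sb E19285 (iv F196327)))).symm
theorem E20108 : n4148 = n4047 := ((((iv F19107)).symm.trans (sb E19294 F27511))).symm
theorem E20109 : n8700 = n4051 := ((((iv F19122)).symm.trans (sb E19294 (iv F39035)))).symm
theorem E20112 : n8685 = n4179 := (((D4179).symm.trans (sb E19295 (iv D12621)))).symm
theorem E20114 : n8342 = n7640 := (((iv F37665)).symm.trans (sb E19297 (iv F34718)))
theorem F200192 : act 0 n5269 = n3984 := (sb E19301 F26588)
theorem F200193 : act 3 n2824 = n3988 := (sb E19303 (iv D5770))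
theorem E20120 : n6201 = n1352 := (((F9535).symm.trans (iv (sb E19308 (tr F55288 E19715))))).symm
theorem E20121 : n12569 = n1352 := (E19308).trans E20120
theorem E20122 : n4291 = n1936 := ((((iv F9613)).symm.trans (sb E20121 (tr D18295 E19701)))).symm
theorem F200194 : act 0 n2593 = n1898 := (sb E19372 F13270)
theorem E20194 : n1897 = n1835 := (((F12637).symm.trans (sb E19372 (iv D2730)))).symm
theorem E20196 : n4323 = n1858 := ((((iv F9272)).symm.trans (sb E19374 (iv F20228)))).symm
theorem E20197 : n2081 = n1867 := ((((iv F9317)).symm.trans (sb E19374 (iv D2996)))).symm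
theorem E20198 : n1892 = n1006 := (((iv F9429)).symm.trans (sb E19375 (iv D1446)))
theorem F200195 : act 2 n1411 = n1893 := (sb E19376 F13238)
theorem F200196 : act 8 n1411 = n1895 := (sb E19376 F13241)
theorem E20199 : n4314 = n1857 := ((((iv F9269)).symm.trans (sb E19377 (iv D6235)))).symm
theorem E20200 : n2077 = n1866 := ((((iv F9312)).symm.trans (sb E19378 (iv D2990)))).symm
theorem E20201 : n1025 = n917 := ((((iv D1317)).symm.trans (sb E19379 F7262))).symm
theorem E20204 : n4036 = n3673 := (((iv F19065)).symm.trans (sb E19383 (iv F17481)))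
theorem E20205 : n4146 = n4045 := ((((iv F19101)).symm.trans (sb E19383 (iv F19474)))).symm
theorem E20206 : n8702 = n4052 := (((D4052).symm.trans (sb E19384 (iv F39043)))).symm
theorem E20209 : n4132 = n4045 := (((E20205).symm.trans (((iv F19477)).symm.trans (sb E19386 (iv D5984))))).symm
theorem F200197 : act 0 n2541 = n1941 := (sb E19389 F13522)
theorem E20210 : n23964 = n23598 := ((D23964).symm.trans (sb E19391 (iv D34409)))
theorem E20212 : n23595 = n11398 := (((D11398).symm.trans (sb E19400 (iv D34407)))).symm
theorem E20213 : n23988 = n23571 := ((((iv F100884)).symm.trans (sb E19401 D23988))).symm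
theorem F200210 : act 8 n16200 = n11336 := (sb E19401 (iv D16478))
theorem E20214 : n23381 = n23354 := ((((iv F100097)).symm.trans (sb E19402 F143674))).symm
theorem E20215 : n24155 = n24108 := (((D24108).symm.trans (sb E19403 (iv F103186)))).symm
theorem F200213 : act 9 n16562 = n11434 := (sb E19403 (iv D16617))
theorem F200217 : act 7 n34946 = n24163 := (sb E19405 F147181)
theorem E20216 : n23400 = n4712 := (((D4712).symm.trans (sb E19950 F143761))).symm
theorem E20217 : n24182 = n24081 := ((((iv F102928)).symm.trans (sb E19409 F147280))).symm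
theorem F200228 : act 9 n16565 = n24020 := (sb E19411 (iv D35002))
theorem F200233 : act 2 n16567 = n24020 := (sb E19414 (iv D35000))
theorem E20219 : n24150 = n24112 := ((((iv F103044)).symm.trans (sb E19414 F147137))).symm
theorem E20220 : n23377 = n23357 := ((((iv F100108)).symm.trans (sb E19416 (iv D34083)))).symm
theorem E20221 : n23592 = n11400 := ((((iv F50582)).symm.trans (sb E19417 F143751))).symm
theorem E20222 : n23482 = n10037 := ((((iv F44915)).symm.trans (sb E19422 (iv D34239)))).symm
theorem E20223 : n23480 = n5277 := ((((iv F24540)).symm.trans (sb E19423 (iv D34236)))).symm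
theorem E20224 : n11082 = n11030 := ((((iv F49083)).symm.trans (sb E19424 F70303))).symm
theorem E20225 : n11081 = n11003 := ((((iv F48970)).symm.trans (sb E19424 (iv D16122)))).symm
theorem E20227 : n23308 = n11024 := ((((iv F49057)).symm.trans (sb E19426 (iv F99904)))).symm
theorem E20228 : n11010 = n11000 := ((((iv F48951)).symm.trans (sb E19426 (iv D16014)))).symm
theorem E20229 : n23591 = n5460 := (((D5460).symm.trans (sb E19428 (iv D34401)))).symm
theorem E20230 : n11133 = n11112 := ((((iv F49396)).symm.trans (sb E19429 F70561))).symm
theorem E20231 : n23353 = n11120 := ((((iv F49417)).symm.trans (sb E19430 (iv F100092)))).symm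
theorem E20232 : n23288 = n22778 := (((iv F197161)).symm.trans (sb E19431 (iv F97767)))
theorem E20233 : n22733 = n10997 := ((((iv F48932)).symm.trans (sb E19627 F139784))).symm
theorem E20234 : n22781 = n11004 := (((D11004).symm.trans (sb E19627 F196677))).symm
theorem E20235 : n22778 = n11005 := (((D11005).symm.trans (sb E19627 F196678))).symm
theorem E20236 : n22878 = n5258 := (((F34470).symm.trans (sb E19627 F139787))).symm
theorem E20237 : n22762 = n11006 := (((D11006).symm.trans (sb E19627 F139788))).symm
theorem E20238 : n22719 = n5242 := (((F34471).symm.trans (sb E19627 (iv D33109)))).symm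
theorem E20239 : n23290 = n11004 := ((F196723).symm.trans (sb E19434 (tr (iv F97781) E20234)))
theorem E20240 : n23385 = n23351 := (((D23351).symm.trans (sb E19434 (iv F100215)))).symm
theorem E20241 : n23383 = n11100 := (((F69956).symm.trans (sb E19434 (iv F100211)))).symm
theorem E20243 : n11095 = n5258 := (((iv F49332)).symm.trans (sb E19435 (tr F140686 E20236)))
theorem E20244 : n23565 = n11102 := ((((iv F49357)).symm.trans (sb E19435 F197427))).symm
theorem E20246 : n22869 = n11104 := (((D11104).symm.trans (sb E19435 (iv D33331)))).symm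
theorem E20247 : n11021 = n11006 := (((iv F49044)).symm.trans (sb E19436 (tr F139996 E20237)))
theorem E20248 : n22753 = n10997 := ((((iv F48935)).symm.trans (sb E19436 (iv D33159)))).symm
theorem E20249 : n23357 = n9873 := ((((iv F44247)).symm.trans (sb E19461 (tr D23377 E20220)))).symm
theorem E20250 : n11037 = n10762 := (((D10762).symm.trans (sb E19461 F70031))).symm
theorem E20251 : n11035 = n10763 := (((D10763).symm.trans (sb E19461 F70032))).symm
theorem E20252 : n11104 = n5156 := (((F33800).symm.trans (sb E19461 (tr (iv F197129) E20246)))).symm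
theorem E20253 : n11034 = n10764 := (((D10764).symm.trans (sb E19461 (iv D16050)))).symm
theorem E20254 : n11136 = n11109 := ((((iv F49384)).symm.trans (sb E19438 F70097))).symm
theorem E20255 : n23324 = n5273 := ((((iv D7649)).symm.trans (sb E19438 (iv F99973)))).symm
theorem F200246 : act 9 n7649 = n11047 := (sb E19438 (iv D16068))
theorem E20256 : n11012 = n10999 := ((((iv F48946)).symm.trans (sb E19439 (iv D16016)))).symm
theorem E20257 : n23589 = n5330 := (((F34760).symm.trans (sb E19440 (iv F100934)))).symm
theorem E20258 : n23478 = n5274 := ((((iv D7651)).symm.trans (sb E19440 (iv F100568)))).symm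
theorem E20259 : n11131 = n11113 := (((D11113).symm.trans (sb E19440 (iv D16196)))).symm
theorem E20260 : n12095 = n5255 := ((((iv F24453)).symm.trans (sb E19441 (iv D17593)))).symm
theorem E20261 : n22869 = n5156 := (E20246).trans E20252
theorem E20262 : n11047 = n5158 := (((D5158).symm.trans (sb E19451 F70075))).symm
theorem E20263 : n11113 = n5159 := (((D5159).symm.trans (sb E19451 (tr F70076 E20259)))).symm
theorem E20264 : n11043 = n5160 := (((D5160).symm.trans (sb E19451 (iv D16063)))).symm
theorem F200247 : act 8 n7576 = n11009 := (sb E19443 (iv D16012))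
theorem E20267 : n11031 = n10745 := (((F195839).symm.trans (sb E19445 (iv F49086)))).symm
theorem E20268 : n10634 = n5408 := (((iv F47413)).symm.trans (sb E19445 F34588))
theorem E20269 : n10739 = n5246 := (((iv F196015)).symm.trans (sb E19445 F34590))
theorem F200248 : act 8 n7419 = n5245 := (sb E19445 (iv D7607))
theorem E20270 : n11029 = n10744 := ((((iv F47893)).symm.trans (sb E19445 (iv F200090)))).symm
theorem E20271 : n11045 = n5123 := (((F33810).symm.trans (sb E19446 D11045))).symm
theorem E20272 : n10769 = n5284 := ((D10769).symm.trans (sb E19446 F34582))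
theorem F200249 : act 8 n7420 = n5244 := (sb E19446 (iv D7605))
theorem E20273 : n5287 = n5153 := ((((iv F24017)).symm.trans (sb E19447 F34762))).symm
theorem E20274 : n5428 = n2471 := (((F17034).symm.trans (sb E19447 F34764))).symm
theorem E20275 : n5275 = n5144 := ((((iv F23986)).symm.trans (sb E19447 (iv D7652)))).symm
theorem F200250 : act 4 n7421 = n5245 := (sb E19448 F34578)
theorem F200251 : act 6 n7421 = n5244 := (sb E19448 (iv D7604))
theorem E20276 : n11009 = n10771 := (((D10771).symm.trans (sb E19448 (iv F48992)))).symm
theorem E20278 : n11131 = n5159 := (E20259).trans E20263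
theorem F200260 : act 0 n16510 = n23379 := (sb E19455 F143505)
theorem E20282 : n37122 = n1582 := (E19456).trans E19534
theorem E20283 : n25821 = n1110 := (((F7974).symm.trans (sb E20282 F155732))).symm
theorem E20284 : n22870 = n11106 := ((((iv F49369)).symm.trans (sb E19457 (iv D33332)))).symm
theorem E20285 : n23101 = n5459 := (((F35612).symm.trans (sb E19457 F140692))).symm
theorem E20286 : n44386 = n11405 := (((D11405).symm.trans (sb E19457 (iv F185404)))).symm
theorem E20287 : n5453 = n1110 := (((iv F25277)).symm.trans (sb E19458 (tr (iv F109919) E20283)))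
theorem E20289 : n10743 = n5238 := ((((iv F24381)).symm.trans (sb E19459 F68210))).symm
theorem E20290 : n22720 = n4780 := ((((iv F22376)).symm.trans (sb E19459 D22720))).symm
theorem E20291 : n10808 = n2523 := (((F17284).symm.trans (sb E19459 F68214))).symm
theorem E20292 : n10738 = n5243 := (((D5243).symm.trans (sb E19459 (iv D15609)))).symm
theorem E20293 : n23377 = n9873 := (E20220).trans E20249
theorem E20294 : n11106 = n4728 := (((F31192).symm.trans (sb E19460 (tr F139751 E20284)))).symm
theorem E20295 : n44191 = n9874 := (((D9874).symm.trans (sb E19460 (iv F184605)))).symm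
theorem E20296 : n22870 = n4728 := (E20284).trans E20294
theorem E20297 : n10909 = n2493 := (((F17032).symm.trans (sb E19462 F68641))).symm
theorem E20298 : n10806 = n5157 := (((D5157).symm.trans (sb E19462 (iv D15710)))).symm
theorem E20299 : n20817 = n10765 := (((D10765).symm.trans (sb E19463 (iv F89806)))).symm
theorem E20300 : n10766 = n10754 := ((D10766).symm.trans (sb E19463 F68205))
theorem F200261 : act 1 n7414 = n5253 := (sb E19464 F34591)
theorem E20301 : n5409 = n5119 := (((F33786).symm.trans (sb E19464 F34592))).symm
theorem E20302 : n11339 = n4709 := ((((iv F22071)).symm.trans (sb E19465 (iv F50312)))).symm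
theorem E20303 : n11346 = n5065 := ((((iv F23627)).symm.trans (sb E19465 (iv F50347)))).symm
theorem E20304 : n5397 = n5113 := ((((iv F23849)).symm.trans (sb E19465 (iv D7819)))).symm
theorem E20305 : n10746 = n5239 := ((D10746).symm.trans (sb E19466 (iv D7596)))
theorem F200262 : act 1 n3563 = n2530 := (sb E19470 F17395)
theorem E20310 : n2604 = n2469 := ((((iv D3563)).symm.trans (sb E19470 F17396))).symm
theorem E20311 : n2552 = n2491 := (((F17026).symm.trans (sb E19470 F17398))).symm
theorem E20312 : n5141 = n2525 := (((iv F23976)).symm.trans (sb E19470 (iv D3651)))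
theorem E20315 : n5423 = n2272 := ((((iv F11169)).symm.trans (sb E19472 (iv F25152)))).symm
theorem E20316 : n2646 = n1194 := ((((iv D1716)).symm.trans (sb E19472 F17826))).symm
theorem E20317 : n2616 = n1204 := (((F8620).symm.trans (sb E19472 F17827))).symm
theorem E20318 : n2597 = n2465 := ((((iv F12079)).symm.trans (sb E19472 (iv D3751)))).symm
theorem E20319 : n5331 = n2494 := (((D2494).symm.trans (sb E19473 (iv F24742)))).symm
theorem E20320 : n2545 = n2485 := ((((iv F12166)).symm.trans (sb E19473 (iv D3680)))).symm
theorem E20321 : n5145 = n2521 := ((D5145).symm.trans (sb E19474 (iv D3644)))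
theorem E20324 : n23001 = n4777 := (((D4777).symm.trans (sb E20043 F140299))).symm
theorem E20325 : n23969 = n4710 := ((((iv F22076)).symm.trans (sb E19484 (iv F102456)))).symm
theorem E20329 : n25467 = n1119 := (((F8053).symm.trans (sb E19485 F196261))).symm
theorem E20332 : n11379 = n4681 := (((D4681).symm.trans (sb E19486 F71936))).symm
theorem E20338 : n16622 = n3253 := (((D3253).symm.trans (iv (sb E19490 (tr F80977 E19492))))).symm
theorem E20339 : n18771 = n3253 := (E19490).trans E20338
theorem E20340 : n12908 = n4691 := ((((iv F21989)).symm.trans (sb E20339 (iv D18771)))).symm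
theorem E20342 : n16546 = n3252 := ((((iv F15605)).symm.trans (sb E19492 (iv F71990)))).symm
theorem E20345 : n23605 = n6191 := (((D6191).symm.trans (sb E19494 (iv D34418)))).symm
theorem E20348 : n12932 = n2520 := (((F17269).symm.trans (sb E19504 (iv F198170)))).symm
theorem E20350 : n22793 = n5232 := ((((iv F24350)).symm.trans (sb E19498 (iv F97827)))).symm
theorem E20351 : n10865 = n5237 := (((D5237).symm.trans (sb E19498 F68460))).symm
theorem E20352 : n11146 = n5117 := ((((iv F23865)).symm.trans (sb E19499 F68959))).symm
theorem E20354 : n22707 = n5228 := ((((iv F24331)).symm.trans (sb E19500 F139624))).symm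
theorem E20355 : n22842 = n2516 := (((F17248).symm.trans (sb E19500 F139628))).symm
theorem E20360 : n6111 = n5116 := ((((iv F23861)).symm.trans (sb E19503 F39675))).symm
theorem E20368 : n2944 = n2467 := ((((iv F12086)).symm.trans (sb E19510 F19917))).symm
theorem E20377 : n5412 = n5066 := ((((iv F23632)).symm.trans (sb E19516 (iv D7839)))).symm
theorem E20378 : n6226 = n2431 := ((((iv D3507)).symm.trans (sb E19516 F199820))).symm
theorem E20379 : n5413 = n5068 := (((D5068).symm.trans (sb E19516 F35535))).symm
theorem E20380 : n6109 = n5061 := ((((iv F23614)).symm.trans (sb E19516 F199821))).symm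
theorem E20383 : n5498 = n5047 := ((((iv F23542)).symm.trans (sb E19518 F35544))).symm
theorem E20386 : n5291 = n5128 := (((D5128).symm.trans (sb E19520 F34609))).symm
theorem E20387 : n7884 = n3529 := ((((iv F16870)).symm.trans (sb E19524 (iv D11439)))).symm
theorem E20389 : n6160 = n2711 := (((F16846).symm.trans (sb E19526 F39923))).symm
theorem E20390 : n6152 = n5090 := ((((iv F23742)).symm.trans (sb E19526 F39924))).symm
theorem E20393 : n7861 = n3526 := ((((iv F16858)).symm.trans (sb E19527 (iv F35629)))).symm
theorem E20394 : n7838 = n3527 := ((((iv F16863)).symm.trans (sb E19527 F199890))).symm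
theorem E20395 : n4340 = n1700 := ((((iv D2446)).symm.trans (sb E19527 F28173))).symm
theorem E20396 : n4254 = n3522 := ((((iv F16845)).symm.trans (sb E19527 (iv D6154)))).symm
theorem E20399 : n22692 = n2295 := ((((iv F11278)).symm.trans (sb E19530 F139580))).symm
theorem E20424 : n5109 = n2924 := (((iv F23830)).symm.trans (sb E19544 (iv D4226)))
theorem E20439 : n3023 = n269 := ((((iv F1515)).symm.trans (sb E19554 F20374))).symm
theorem E20443 : n3009 = n1183 := ((((iv F6101)).symm.trans (sb E19556 (iv F14402)))).symm
theorem E20444 : n1464 = n579 := (((F4386).symm.trans (sb E19556 F10261))).symm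
theorem E20445 : n1454 = n1192 := ((((iv F6147)).symm.trans (sb E19556 (iv D2092)))).symm
theorem E20446 : n2971 = n1206 := (((D1206).symm.trans (sb E19557 (iv F14234)))).symm
theorem E20447 : n1430 = n1201 := ((((iv F6185)).symm.trans (sb E19557 (iv D2062)))).symm
theorem E20448 : n2462 = n1417 := (((iv F12067)).symm.trans (sb E19558 (iv D2043)))
theorem E20449 : n6264 = n568 := ((((iv F3065)).symm.trans (sb E19559 (iv F28645)))).symm
theorem E20451 : n3006 = n574 := ((((iv F3096)).symm.trans (sb E19559 (iv D4338)))).symm
theorem E20452 : n3005 = n1182 := ((((iv F6098)).symm.trans (sb E19560 (iv D4336)))).symm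
theorem E20453 : n1463 = n578 := ((((iv F3115)).symm.trans (sb E19561 (iv D2103)))).symm
theorem E20454 : n1452 = n1191 := ((((iv F6142)).symm.trans (sb E19562 (iv D2089)))).symm
theorem E20457 : n23489 = n2875 := ((((iv F13836)).symm.trans (sb E19566 (iv D34249)))).symm
theorem E20458 : n11089 = n5943 := ((((iv F27321)).symm.trans (sb E19567 F70342))).symm
theorem E20459 : n11088 = n5916 := ((((iv F27233)).symm.trans (sb E19567 (iv D16131)))).symm
theorem E20460 : n10828 = n5912 := (((iv F48236)).symm.trans (sb E19568 (iv F196608)))
theorem F200275 : act 3 n7638 = n5891 := (sb E19568 F38470)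
theorem F200276 : act 7 n7638 = n5888 := (sb E19568 (iv D8542))
theorem E20461 : n5936 = n5266 := ((((iv D7638)).symm.trans (sb E19568 F196350))).symm
theorem F200277 : act 0 n7637 = n5878 := (sb E19569 F38358)
theorem F200278 : act 7 n7637 = n5871 := (sb E19569 (iv D8515))
theorem F200279 : act 9 n7637 = n5891 := (sb E19569 F38364)
theorem E20463 : n11019 = n5912 := (((iv F49038)).symm.trans (sb E19592 (tr F68302 E20460)))
theorem F200280 : act 0 n7587 = n5875 := (sb E19571 F38344)
theorem F200281 : act 2 n7587 = n5887 := (sb E19571 (iv F196103))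
theorem F200282 : act 3 n7587 = n5871 := (sb E19571 F38345)
theorem F200283 : act 6 n7587 = n5869 := (sb E19571 (iv D8512))
theorem F200284 : act 9 n7587 = n5888 := (sb E19571 F38347)
theorem E20464 : n11140 = n6024 := ((((iv F27611)).symm.trans (sb E19572 F70594))).symm
theorem E20465 : n7673 = n7460 := ((((iv F33972)).symm.trans (iv (sb E19573 (tr F38764 E19846))))).symm
theorem E20466 : n8624 = n7460 := (E19573).trans E20465
theorem E20467 : n11112 = n10821 := ((((iv F48210)).symm.trans (sb E20466 (iv F49395)))).symm
theorem E20468 : n12460 = n5267 := (((F33973).symm.trans (sb E20466 (iv F197344)))).symm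
theorem E20469 : n6155 = n5151 := (((F33974).symm.trans (sb E20466 F38765))).symm
theorem E20470 : n6024 = n5199 := (((F33975).symm.trans (sb E20466 F38766))).symm
theorem E20471 : n5944 = n5148 := ((((iv D7460)).symm.trans (sb E20466 F38767))).symm
theorem E20472 : n10829 = n5943 := ((D10829).symm.trans (sb E20466 (iv D8624)))
theorem E20473 : n11065 = n10856 := ((((iv F48334)).symm.trans (sb E19574 (iv F49220)))).symm
theorem E20474 : n10863 = n5267 := (((iv F48364)).symm.trans (sb E19574 (tr (iv F54917) E20468)))
theorem E20475 : n23288 = n11005 := (E20232).trans E20235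
theorem E20476 : n11011 = n10856 := ((D11011).symm.trans (sb E19575 (tr F69805 E20473)))
theorem F200285 : act 0 n7485 = n5757 := (sb E19576 F195872)
theorem E20477 : n5752 = n5292 := (((F34061).symm.trans (sb E19576 F195873))).symm
theorem E20478 : n5750 = n5167 := (((F34062).symm.trans (sb E19576 (iv F196052)))).symm
theorem F200286 : act 7 n7485 = n5234 := (sb E19576 (iv D7588))
theorem F200287 : act 0 n7589 = n5874 := (sb E19577 F38339)
theorem F200288 : act 2 n7589 = n5888 := (sb E19577 F196330)
theorem F200289 : act 4 n7589 = n5869 := (sb E19577 (iv D8511))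
theorem F200290 : act 9 n7589 = n5887 := (sb E19577 F38343)
theorem E20482 : n26075 = n1403 := ((((iv F7086)).symm.trans (sb E19582 (iv D38032)))).symm
theorem E20483 : n12299 = n2872 := ((((iv F13823)).symm.trans (sb E19583 F77500))).symm
theorem E20485 : n12113 = n5937 := ((((iv F27300)).symm.trans (sb E19584 F196785))).symm
theorem E20486 : n11092 = n5941 := ((((iv F27316)).symm.trans (sb E19584 F70334))).symm
theorem E20488 : n10842 = n5262 := ((((iv F24478)).symm.trans (sb E19602 (iv F48290)))).symm
theorem E20490 : n5937 = n5268 := ((((iv F24505)).symm.trans (sb E19602 (tr (iv F53527) E20485)))).symm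
theorem F200291 : act 0 n7583 = n10771 := (sb E19590 F68362)
theorem F200292 : act 9 n7583 = n10759 := (sb E19590 (iv D15643))
theorem E20494 : n5149 = n2837 := (((iv F24003)).symm.trans (sb E19593 F19317))
theorem E20495 : n12245 = n6015 := ((((iv F27574)).symm.trans (sb E19594 F197575))).symm
theorem E20496 : n11259 = n6022 := ((((iv F27603)).symm.trans (sb E19594 F70585))).symm
theorem E20497 : n11140 = n5199 := (E20464).trans E20470
theorem E20498 : n11138 = n6025 := (((D6025).symm.trans (sb E19594 (iv D16204)))).symm
theorem E20499 : n22887 = n5261 := ((((iv F24474)).symm.trans (sb E19864 (iv F197133)))).symm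
theorem E20500 : n10866 = n5265 := ((((iv F24493)).symm.trans (sb E19864 F68944))).symm
theorem E20501 : n6015 = n2539 := (((F17350).symm.trans (sb E19864 (tr (iv F197201) E20495)))).symm
theorem E20502 : n12113 = n5268 := (E20485).trans E20490
theorem E20503 : n10861 = n2528 := (((F17351).symm.trans (sb E19864 (iv D15794)))).symm
theorem E20505 : n7676 = n7458 := ((((iv F33966)).symm.trans (iv (sb E19597 (tr F38755 E20471))))).symm
theorem E20506 : n8621 = n7458 := (E19597).trans E20505
theorem E20507 : n12525 = n5842 := ((((iv F196482)).symm.trans (sb E20506 (iv F55145)))).symm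
theorem E20508 : n5942 = n5147 := ((((iv D7458)).symm.trans (sb E20506 F38756))).symm
theorem E20509 : n10826 = n5941 := ((D10826).symm.trans (sb E20506 (iv D8621)))
theorem E20510 : n6025 = n2498 := (((F17048).symm.trans (sb E19622 F38770))).symm
theorem E20517 : n5415 = n5098 := ((((iv F23774)).symm.trans (sb E19605 F34616))).symm
theorem E20518 : n5293 = n5163 := (((D5163).symm.trans (sb E19605 F34618))).symm
theorem E20519 : n11138 = n2498 := (E20498).trans E20510
theorem E20520 : n5290 = n5165 := (((D5165).symm.trans (sb E19606 F34823))).symm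
theorem E20521 : n5289 = n5166 := (((D5166).symm.trans (sb E19606 (iv D7671)))).symm
theorem E20523 : n5697 = n5416 := ((F195862).symm.trans (sb E19613 F34621))
theorem F200294 : act 6 n7408 = n5253 := (sb E19613 F34623)
theorem F200295 : act 8 n7408 = n5887 := (sb E19613 (iv F200121))
theorem F200296 : act 0 n7428 = n5698 := (sb E19614 F195875)
theorem F200297 : act 4 n7428 = n5234 := (sb E19614 F34503)
theorem F200298 : act 6 n7428 = n5233 := (sb E19614 (iv D7586))
theorem F200299 : act 8 n7428 = n5869 := (sb E19614 (iv F200122))
theorem F200300 : act 4 n7409 = n5253 := (sb E19615 F34612)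
theorem F200301 : act 8 n7409 = n5888 := (sb E19615 (iv F200116))
theorem F200302 : act 2 n4068 = n5235 := (sb E19619 F33766)
theorem F200303 : act 8 n4068 = n5114 := (sb E19619 (iv D7410))
theorem F200304 : act 4 n3628 = n5125 := (sb E19620 F33827)
theorem F200305 : act 6 n3628 = n5124 := (sb E19620 (iv D7424))
theorem E20526 : n5842 = n5351 := ((((iv F24809)).symm.trans (sb E19623 (tr (iv D18232) E20507)))).symm
theorem E20527 : n22735 = n10014 := ((((iv F44806)).symm.trans (sb E19625 (iv F97587)))).symm
theorem E20528 : n10818 = n5254 := (((F34450).symm.trans (sb E19625 F68260))).symm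
theorem E20529 : n22880 = n4791 := (((F31585).symm.trans (sb E19626 F139796))).symm
theorem E20530 : n10914 = n2534 := (((F17330).symm.trans (sb E19628 F68658))).symm
theorem E20531 : n10837 = n5259 := (((D5259).symm.trans (sb E19628 F68659))).symm
theorem E20532 : n22764 = n11007 := (((D11007).symm.trans (sb E19629 (iv F97711)))).symm
theorem F200306 : act 9 n7580 = n10756 := (sb E19629 (iv D15638))
theorem E20533 : n10832 = n5254 := ((((iv F24446)).symm.trans (sb E19630 (iv F48252)))).symm
theorem E20535 : n5321 = n2534 := (((F17330).symm.trans (sb E19630 F34728))).symm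
theorem E20536 : n5270 = n5259 := (((D5259).symm.trans (sb E19630 (iv D7642)))).symm
theorem F200307 : act 0 n7580 = n10754 := (sb E19634 (iv F47934))
theorem E20541 : n11007 = n10030 := ((D11007).symm.trans (sb E19634 (iv F44880)))
theorem E20542 : n22764 = n10030 := (E20532).trans E20541
theorem E20543 : n22754 = n10014 := ((((iv F44809)).symm.trans (sb E19635 (iv D33162)))).symm
theorem F200308 : act 1 n7575 = n10756 := (sb E19636 F68319)
theorem F200309 : act 8 n7575 = n10754 := (sb E19636 (iv D15633))
theorem E20544 : n11041 = n9869 := ((((iv F44228)).symm.trans (sb E19637 (iv F49122)))).symm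
theorem E20545 : n11341 = n4708 := ((((iv D6810)).symm.trans (sb E19638 F69979))).symm
theorem E20546 : n23359 = n9399 := ((((iv F42159)).symm.trans (sb E19638 (iv F100119)))).symm
theorem E20552 : n22837 = n2300 := ((((iv F11302)).symm.trans (sb E19646 F140476))).symm
theorem E20553 : n23043 = n1121 := (((F8062).symm.trans (sb E19646 F140478))).symm
theorem E20558 : n10799 = n2514 := (((F17238).symm.trans (sb E19649 F68168))).symm
theorem E20560 : n10889 = n1222 := (((F8758).symm.trans (sb E19652 F68563))).symm
theorem E20575 : n5195 = n2532 := (((F17322).symm.trans (sb E19665 F33959))).symm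
theorem F200310 : act 8 n3631 = n5161 := (sb E19665 F33960)
theorem F200311 : act 8 n3620 = n5112 := (sb E19666 (iv D7406))
theorem E20578 : n10919 = n2535 := (((D2535).symm.trans (sb E19668 (iv F48611)))).symm
theorem E20579 : n5208 = n2536 := (((D2536).symm.trans (sb E19668 F34230))).symm
theorem F200312 : act 0 n3635 = n5161 := (sb E19669 F34006)
theorem F200313 : act 9 n3635 = n5154 := (sb E19669 (iv D7469))
theorem F200314 : act 0 n3624 = n5112 := (sb E19671 F33729)
theorem E20581 : n5111 = n2588 := (((F17289).symm.trans (sb E19671 (iv D7402)))).symm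
theorem F200315 : act 9 n3624 = n5118 := (sb E19671 F33734)
theorem E20582 : n12243 = n2538 := (((D2538).symm.trans (sb E19672 (iv F54044)))).symm
theorem E20583 : n12245 = n2539 := (E20495).trans E20501
theorem E20591 : n2873 = n2487 := (((D2487).symm.trans (sb E19679 (iv F13826)))).symm
theorem E20592 : n2488 = n1380 := ((D2488).symm.trans (sb E19679 (iv D1991)))
theorem F200316 : act 2 n1967 = n2518 := (sb E19680 F17012)
theorem F200317 : act 8 n1967 = n2466 := (sb E19680 (iv D3560))
theorem E20594 : n6013 = n2538 := (((D2538).symm.trans (sb E19681 (iv F27566)))).symm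
theorem E20596 : n12296 = n2871 := ((((iv D4157)).symm.trans (sb E19683 F198421))).symm
theorem E20597 : n11258 = n6023 := (((D6023).symm.trans (sb E19683 (iv D16371)))).symm
theorem E20598 : n5837 = n2853 := ((((iv F13752)).symm.trans (sb E19684 (iv D8467)))).symm
theorem E20599 : n6023 = n2497 := (((D2497).symm.trans (sb E19697 (tr (iv F198028) E20597)))).symm
theorem E20600 : n5809 = n2499 := (((D2499).symm.trans (sb E19697 (iv D8424)))).symm
theorem F200318 : act 8 n1978 = n2791 := (sb E19686 (iv D4033))
theorem E20601 : n2791 = n2500 := (((D2500).symm.trans (sb E19688 F18988))).symm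
theorem F200319 : act 0 n3572 = n2756 := (sb E19689 F18828)
theorem F200320 : act 8 n3572 = n2825 := (sb E19689 (iv F200131))
theorem F200321 : act 1 n3541 = n2593 := (sb E19691 F17764)
theorem E20605 : n2636 = n2454 := ((((iv D3541)).symm.trans (sb E19691 F17765))).symm
theorem E20606 : n5477 = n2263 := ((((iv D3260)).symm.trans (sb E19692 F35419))).symm
theorem E20607 : n5394 = n4703 := ((((iv F22046)).symm.trans (sb E19692 (iv D7814)))).symm
theorem E20608 : n5481 = n2430 := ((((iv F11912)).symm.trans (sb E19693 (iv F25404)))).symm
theorem E20609 : n2629 = n2451 := ((((iv F12018)).symm.trans (sb E19693 (iv D3793)))).symm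
theorem E20610 : n5107 = n2584 := (((iv F23820)).symm.trans (sb E19694 (iv D3731)))
theorem F200322 : act 3 n3743 = n5124 := (sb E19695 F33427)
theorem F200323 : act 7 n3654 = n5125 := (sb E19696 (iv D7426))
theorem E20612 : n18295 = n1936 := (E19701).trans E20122
theorem E20613 : n6191 = n2490 := ((((iv F12184)).symm.trans (sb E20612 (tr (iv F100998) E20345)))).symm
theorem E20619 : n5968 = n5658 := ((((iv F195604)).symm.trans (sb E19706 F38871))).symm
theorem E20620 : n6182 = n5596 := ((((iv F25952)).symm.trans (sb E19706 F38872))).symm
theorem E20622 : n12216 = n1378 := ((((iv F6979)).symm.trans (sb E19794 F76936))).symm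
theorem E20627 : n2973 = n1345 := ((((iv F6843)).symm.trans (sb E19712 (iv D4292)))).symm
theorem E20631 : n5965 = n2764 := ((((iv F13397)).symm.trans (sb E19715 (iv D8655)))).symm
theorem E20636 : n2955 = n2752 := ((((iv F13358)).symm.trans (sb E19718 F19965))).symm
theorem E20638 : n2962 = n2759 := ((((iv F13381)).symm.trans (sb E19720 F20001))).symm
theorem E20639 : n6173 = n2717 := ((((iv F13209)).symm.trans (sb E19720 (iv F28247)))).symm
theorem F200324 : act 1 n3937 = n2937 := (sb E19725 F19863)
theorem E20642 : n6124 = n5595 := ((((iv F25948)).symm.trans (sb E19725 (iv F28050)))).symm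
theorem E20643 : n5681 = n2930 := (((iv F26306)).symm.trans (sb E19725 (iv D4237)))
theorem E20646 : n2749 = n1425 := (((iv F13349)).symm.trans (sb E19728 F10074))
theorem E20647 : n2953 = n2710 := ((((iv F13184)).symm.trans (sb E19728 (iv F14162)))).symm
theorem E20648 : n2745 = n1420 := (((iv F13334)).symm.trans (sb E19728 (iv D2049)))
theorem E20651 : n6125 = n5593 := (((F195663).symm.trans (sb E19731 F199835))).symm
theorem F200325 : act 9 n3944 = n2937 := (sb E19731 (iv D4245))
theorem E20653 : n5592 = n2935 := (((iv F195595)).symm.trans (sb E19732 (iv D4242)))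
theorem E20654 : n5566 = n2999 := (((iv F25815)).symm.trans (sb E19732 F19883))
theorem E20655 : n5607 = n2959 := ((D5607).symm.trans (sb E19732 F19884))
theorem F200326 : act 3 n3949 = n2848 := (sb E19733 (iv D4120))
theorem E20657 : n5567 = n3018 := ((D5567).symm.trans (sb E19734 F20246))
theorem E20658 : n2755 = n2610 := (((iv F13368)).symm.trans (sb E19736 (iv F12708)))
theorem E20660 : n6131 = n2715 := ((((iv F13203)).symm.trans (sb E19737 F199833))).symm
theorem E20682 : n6277 = n295 := ((((iv D434)).symm.trans (sb E19754 D6277))).symm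
theorem E20683 : n3012 = n631 := ((((iv F3376)).symm.trans (sb E19754 (iv D4345)))).symm
theorem E20684 : n3026 = n140 := ((((iv D207)).symm.trans (sb E19755 D3026))).symm
theorem E20685 : n1465 = n303 := ((((iv F1693)).symm.trans (sb E19755 (iv D2105)))).symm
theorem E20686 : n3075 = n138 := ((((iv D204)).symm.trans (sb E19756 F20333))).symm
theorem E20687 : n1489 = n299 := ((((iv D440)).symm.trans (sb E19757 F10274))).symm
theorem E20704 : n2986 = n2428 := ((((iv F11904)).symm.trans (sb E19770 (iv F14302)))).symm
theorem E20705 : n2449 = n1442 := (((iv F12007)).symm.trans (sb E19770 (iv D2075)))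
theorem F200327 : act 2 n2030 = n2450 := (sb E19771 F16897)
theorem F200328 : act 8 n2030 = n2452 := (sb E19771 F16900)
theorem E20706 : n6219 = n1176 := ((((iv F6067)).symm.trans (sb E19772 (iv F28442)))).symm
theorem E20707 : n3032 = n570 := ((((iv D826)).symm.trans (sb E19772 F20145))).symm
theorem E20708 : n6218 = n2420 := ((((iv F11860)).symm.trans (sb E19773 (iv F28438)))).symm
theorem E20709 : n2982 = n2427 := ((((iv F11900)).symm.trans (sb E19773 (iv D4304)))).symm
theorem E20710 : n1467 = n1186 := ((((iv D1703)).symm.trans (sb E19774 F10175))).symm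
theorem E20712 : n10788 = n1361 := (((F9659).symm.trans (sb E19776 F68119))).symm
theorem E20713 : n5184 = n1373 := (((F9713).symm.trans (sb E19777 F33918))).symm
theorem E20714 : n5790 = n659 := (((F4927).symm.trans (sb E19778 F37481))).symm
theorem F200329 : act 1 n2038 = n2728 := (sb E19788 F18665)
theorem F200330 : act 9 n2038 = n2732 := (sb E19788 F18668)
theorem E20725 : n2994 = n2685 := ((((iv D3873)).symm.trans (sb E19789 F19856))).symm
theorem E20726 : n5588 = n2929 := (((iv F25921)).symm.trans (sb E19789 (iv D4235)))
theorem F200331 : act 2 n2033 = n2724 := (sb E19790 F18646)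
theorem F200332 : act 8 n2033 = n2728 := (sb E19790 F18648)
theorem F200333 : act 1 n990 = n1328 := (sb E19797 F9500)
theorem E20732 : n1327 = n705 := (((F5115).symm.trans (sb E19797 (iv D1909)))).symm
theorem E20733 : n1342 = n690 := (((F5116).symm.trans (sb E19797 F9502))).symm
theorem F200334 : act 9 n990 = n1331 := (sb E19797 F9503)
theorem E20734 : n1458 = n1310 := ((((iv F6693)).symm.trans (sb E19798 (iv F7324)))).symm
theorem E20735 : n708 = n646 := (((F4830).symm.trans (sb E19798 F5228))).symm
theorem E20736 : n1325 = n702 := (((iv F6761)).symm.trans (sb E19798 (iv D1015)))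
theorem E20737 : n1435 = n1344 := (((D1344).symm.trans (sb E19799 (iv F7221)))).symm
theorem E20738 : n1339 = n687 := (((iv F6817)).symm.trans (sb E19799 (iv D997)))
theorem F200335 : act 2 n987 = n1326 := (sb E19800 F9488)
theorem F200336 : act 8 n987 = n1328 := (sb E19800 F9490)
theorem E20739 : n1455 = n1309 := ((((iv F6690)).symm.trans (sb E19801 (iv D2094)))).symm
theorem E20740 : n707 = n645 := ((((iv F3440)).symm.trans (sb E19802 (iv D1021)))).symm
theorem E20741 : n718 = n639 := ((((iv D923)).symm.trans (sb E19803 F5219))).symm
theorem E20744 : n1440 = n1348 := ((((iv F6853)).symm.trans (sb E19809 F10161))).symm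
theorem E20745 : n1346 = n1268 := (((iv F6846)).symm.trans (sb E19810 (iv F6486)))
theorem F200337 : act 0 n3744 = n2732 := (sb E19820 F18689)
theorem E20759 : n5598 = n5414 := ((((iv F25115)).symm.trans (sb E19820 (iv F25960)))).symm
theorem F200338 : act 4 n3878 = n2937 := (sb E19822 F19881)
theorem E20761 : n6130 = n2689 := ((((iv D3878)).symm.trans (sb E19822 (iv F28077)))).symm
theorem E20762 : n5605 = n2934 := ((D5605).symm.trans (sb E19822 (iv D4241)))
theorem F200339 : act 0 n1810 = n1331 := (sb E19825 F9514)
theorem E20764 : n1330 = n1285 := (((F9037).symm.trans (sb E19825 (iv D1913)))).symm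
theorem E20766 : n6234 = n1293 := ((((iv F6615)).symm.trans (sb E19830 (iv F28513)))).symm
theorem E20767 : n3042 = n626 := ((((iv D905)).symm.trans (sb E19830 F20192))).symm
theorem E20768 : n1472 = n634 := ((((iv F3387)).symm.trans (sb E19831 (iv D2116)))).symm
theorem E20770 : n26134 = n1407 := ((((iv F7104)).symm.trans (sb E19833 (iv D38114)))).symm
theorem E20771 : n12327 = n2883 := ((((iv F13860)).symm.trans (sb E19834 F77672))).symm
theorem E20774 : n5929 = n5924 := ((((iv F27260)).symm.trans (sb E19835 (iv D8601)))).symm
theorem F200340 : act 0 n7638 = n5763 := (sb E19837 F37659)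
theorem E20775 : n11030 = n10839 := ((E20224).symm.trans (((iv F49280)).symm.trans (sb E19837 (iv F48277))))
theorem F200341 : act 2 n4089 = n5763 := (sb E19850 F37679)
theorem E20777 : n5932 = n5922 := (((D5922).symm.trans (sb E19850 (iv F196108)))).symm
theorem F200342 : act 8 n4089 = n5757 := (sb E19850 (iv D8346))
theorem F200343 : act 4 n4114 = n5765 := (sb E19839 (iv F196109))
theorem E20779 : n5831 = n2883 := (((F19362).symm.trans (sb E19839 F37626))).symm
theorem F200344 : act 6 n4114 = n5763 := (sb E19839 F195917)
theorem E20780 : n5747 = n2843 := ((((iv D4114)).symm.trans (sb E19839 F37627))).symm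
theorem F200345 : act 9 n3982 = n2848 := (sb E19840 (iv D4121))
theorem F200346 : act 9 n4095 = n5763 := (sb E19841 (iv D8357))
theorem F200347 : act 1 n4095 = n5757 := (sb E19842 (iv F26599))
theorem F200348 : act 2 n4095 = n2842 := (sb E19842 F19341)
theorem F200349 : act 3 n4095 = n5878 := (sb E19842 F195925)
theorem F200350 : act 7 n4095 = n5875 := (sb E19842 F195926)
theorem E20782 : n12140 = n6033 := ((((iv F27639)).symm.trans (sb E19844 (iv F53619)))).symm
theorem E20784 : n6033 = n2865 := (((F19305).symm.trans (sb E19877 (iv F197338)))).symm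
theorem E20785 : n4271 = n3975 := (((F26563).symm.trans (sb E19846 F27374))).symm
theorem E20786 : n4174 = n4028 := (((F26564).symm.trans (sb E19846 F27375))).symm
theorem F200352 : act 8 n5746 = n4114 := (sb E19846 (iv D5960))
theorem E20787 : n5957 = n5744 := ((((iv F196099)).symm.trans (sb E19848 (iv F27363)))).symm
theorem E20788 : n5740 = n2850 := (((iv F196078)).symm.trans (sb E19848 F19375))
theorem E20789 : n5963 = n2804 := (((F18872).symm.trans (sb E19848 (iv F27385)))).symm
theorem F200353 : act 6 n3989 = n2848 := (sb E19848 F19376)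
theorem F200354 : act 8 n3989 = n2847 := (sb E19848 (iv D4119))
theorem E20790 : n5773 = n5758 := ((((iv F196117)).symm.trans (sb E19849 F37741))).symm
theorem E20791 : n12140 = n2865 := (E20782).trans E20784
theorem F200355 : act 9 n3980 = n2762 := (sb E19851 (iv D3991))
theorem E20792 : n26125 = n1406 := ((((iv F7097)).symm.trans (sb E19852 (iv F111144)))).symm
theorem E20794 : n5860 = n2877 := ((((iv F13840)).symm.trans (sb E19853 F38236))).symm
theorem E20795 : n12322 = n2881 := ((((iv F13853)).symm.trans (sb E19853 (iv F54358)))).symm
theorem E20796 : n5849 = n2859 := ((((iv F13776)).symm.trans (sb E19853 (iv D8486)))).symm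
theorem E20797 : n2877 = n2866 := (((F19308).symm.trans (sb E19868 (tr F37726 E20794)))).symm
theorem F200356 : act 9 n4097 = n5765 := (sb E19868 (iv D8359))
theorem E20798 : n6005 = n5955 := (((D5955).symm.trans (sb E19856 F38696))).symm
theorem F200357 : act 2 n4090 = n5765 := (sb E19857 F37687)
theorem F200358 : act 8 n4090 = n5758 := (sb E19857 (iv D8348))
theorem F200359 : act 1 n4097 = n5758 := (sb E19858 (iv F26602))
theorem F200360 : act 2 n1970 = n2833 := (sb E19859 F18819)
theorem F200361 : act 8 n1970 = n2750 := (sb E19859 (iv D3973))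
theorem E20799 : n5832 = n2859 := ((((iv F13774)).symm.trans (sb E19917 F38085))).symm
theorem E20801 : n5860 = n2866 := (E20794).trans E20797
theorem E20804 : n6049 = n6042 := ((((iv F27670)).symm.trans (sb E19861 F39300))).symm
theorem E20805 : n6047 = n6044 := (((D6044).symm.trans (sb E19861 (iv D8771)))).symm
theorem E20806 : n6044 = n2802 := ((((iv F13559)).symm.trans (sb E19923 (tr (iv F197276) E20805)))).symm
theorem E20808 : n10830 = n5913 := ((((iv F27216)).symm.trans (sb E19865 (iv F48244)))).symm
theorem E20809 : n5867 = n5848 := ((((iv F196598)).symm.trans (sb E19866 F37751))).symm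
theorem E20813 : n4180 = n4046 := ((((iv F19104)).symm.trans (iv (sb E19871 (tr F38819 E20789))))).symm
theorem E20814 : n8642 = n4046 := (E19871).trans E20813
theorem E20815 : n6042 = n5826 := ((((iv F196601)).symm.trans (sb E20814 F38820))).symm
theorem E20816 : n5955 = n5859 := (((D5859).symm.trans (sb E20814 (iv D8642)))).symm
theorem E20817 : n5663 = n2961 := (((iv F26225)).symm.trans (sb E19872 F19382))
theorem E20818 : n5767 = n2890 := ((D5767).symm.trans (sb E19872 F19383))
theorem F200362 : act 8 n3987 = n2849 := (sb E19872 (iv D4122))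
theorem F200363 : act 4 n3990 = n2849 := (sb E19874 F19374)
theorem F200364 : act 7 n3990 = n2847 := (sb E19874 (iv D4118))
theorem F200365 : act 2 n4084 = n5269 := (sb E19875 F33982)
theorem F200366 : act 8 n4084 = n5167 := (sb E19875 F33984)
theorem F200367 : act 1 n1975 = n2750 := (sb E19878 F18802)
theorem F200368 : act 9 n1975 = n2757 := (sb E19878 F18804)
theorem F200369 : act 1 n3971 = n2848 := (sb E19879 F19357)
theorem F200370 : act 8 n3971 = n2842 := (sb E19879 (iv D4113))
theorem F200371 : act 7 n3917 = n2937 := (sb E19880 F19894)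
theorem E20820 : n5664 = n2936 := ((D5664).symm.trans (sb E19880 (iv D4244)))
theorem E20821 : n5753 = n5294 := (((iv F26585)).symm.trans (sb E19881 (iv F24589)))
theorem F200372 : act 0 n3657 = n2757 := (sb E19883 F18832)
theorem E20839 : n26128 = n1404 := ((((iv F7088)).symm.trans (sb E19906 (iv F111155)))).symm
theorem F200373 : act 1 n1986 = n2806 := (sb E19918 F19110)
theorem E20842 : n5858 = n2864 := ((((iv F13795)).symm.trans (sb E19918 (iv F26999)))).symm
theorem F200374 : act 9 n1986 = n2799 := (sb E19918 (iv D4048))
theorem E20843 : n2876 = n2864 := (((iv F13837)).symm.trans (sb E19909 (tr F38223 E20842)))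
theorem E20844 : n5847 = n2858 := ((((iv F13773)).symm.trans (sb E19909 (iv D8483)))).symm
theorem F200375 : act 2 n1981 = n2799 := (sb E19910 F19086)
theorem F200376 : act 8 n1981 = n2795 := (sb E19910 (iv D4041))
theorem E20845 : n2806 = n2795 := ((F200373).symm.trans (sb E19911 (iv F13530)))
theorem E20846 : n2788 = n1383 := (((iv F13504)).symm.trans (sb E19911 F9834))
theorem F200377 : act 1 n1939 = n1377 := (sb E19912 (iv F200169))
theorem F200378 : act 9 n1939 = n1350 := (sb E19912 (iv D1946))
theorem F200379 : act 2 n960 = n1377 := (sb E19913 F9603)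
theorem F200380 : act 8 n960 = n1343 := (sb E19913 (iv D1934))
theorem E20847 : n5201 = n2853 := ((((iv F13749)).symm.trans (sb E19915 (iv F24219)))).symm
theorem E20850 : n5822 = n1386 := (((F9804).symm.trans (sb E19916 (iv D8445)))).symm
theorem E20851 : n2783 = n1388 := (((D1388).symm.trans (sb E19919 (iv D4023)))).symm
theorem E20854 : n11258 = n2497 := (E20597).trans E20599
theorem E20855 : n6047 = n2802 := (E20805).trans E20806
theorem E20857 : n2889 = n2797 := ((((iv F13538)).symm.trans (sb E19922 F19567))).symm
theorem F200381 : act 2 n1978 = n2541 := (sb E19925 F17163)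
theorem F200382 : act 1 n963 = n1343 := (sb E19927 F9590)
theorem F200383 : act 9 n963 = n1347 := (sb E19927 F9593)
theorem E20858 : n2792 = n2558 := (((iv F13519)).symm.trans (sb E19928 (iv F12464)))
theorem F200384 : act 0 n1773 = n1347 := (sb E19929 F9614)
theorem F200385 : act 1 n1009 = n1318 := (sb E19930 (iv D1894))
theorem E20859 : n2684 = n1450 := ((((iv F7292)).symm.trans (sb E19930 (iv F13066)))).symm
theorem F200386 : act 9 n1009 = n1320 := (sb E19930 F9441)
theorem E20860 : n23529 = n23382 := ((((iv F100204)).symm.trans (sb E19931 F144471))).symm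
theorem E20862 : n11082 = n10839 := (E20224).trans E20775
theorem E20863 : n23433 = n10845 := ((((iv F48299)).symm.trans (sb E20030 (iv F100404)))).symm
theorem E20864 : n23446 = n10854 := ((((iv F48330)).symm.trans (sb E20030 (iv F100462)))).symm
theorem E20865 : n10854 = n5285 := ((((iv F24559)).symm.trans (sb E19938 (tr F144058 E20864)))).symm
theorem E20868 : n11133 = n10821 := (E20230).trans E20467
theorem E20869 : n23526 = n11121 := ((((iv F49420)).symm.trans (sb E19940 (iv F100735)))).symm
theorem E20871 : n23446 = n5285 := (E20864).trans E20865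
theorem E20872 : n23505 = n22779 := ((((iv F97772)).symm.trans (sb E19942 (iv F100666)))).symm
theorem E20873 : n11036 = n10845 := (((iv D16053)).symm.trans (sb E19942 (tr (iv F100407) E20863)))
theorem E20874 : n22779 = n5278 := (((F34563).symm.trans (sb E19964 (tr F196756 E20872)))).symm
theorem E20875 : n23422 = n11125 := ((((iv F49430)).symm.trans (sb E19946 (iv D34148)))).symm
theorem E20878 : n34086 = n6815 := (((D6815).symm.trans (iv (sb E19949 (tr F146799 E20325))))).symm
theorem E20879 : n34918 = n6815 := (E19949).trans E20878
theorem E20880 : n23965 = n9865 := ((((iv F44212)).symm.trans (sb E20879 (iv D34918)))).symm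
theorem E20884 : n22731 = n11024 := ((((iv F49056)).symm.trans (sb E19959 F196181))).symm
theorem E20887 : n23505 = n5278 := (E20872).trans E20874
theorem E20888 : n22729 = n11023 := ((((iv F49052)).symm.trans (sb E19961 (iv F196466)))).symm
theorem E20890 : n11231 = n11130 := ((((iv F49447)).symm.trans (sb E19962 F70474))).symm
theorem E20892 : n23313 = n22761 := (((D22761).symm.trans (sb E19966 (iv F99923)))).symm
theorem E20893 : n11075 = n10835 := (((F68334).symm.trans (sb E19966 F69846))).symm
theorem E20895 : n23291 = n22783 := (((D22783).symm.trans (sb E19967 (iv D33955)))).symm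
theorem E20896 : n23436 = n10847 := ((((iv F48308)).symm.trans (sb E19968 (iv F100419)))).symm
theorem E20898 : n23626 = n5336 := (((F34776).symm.trans (sb E19971 F143907))).symm
theorem E20904 : n22761 = n21166 := ((D22761).symm.trans (sb E19976 (iv F91195)))
theorem E20905 : n23794 = n5343 := ((((iv F24778)).symm.trans (sb E19977 (iv F198777)))).symm
theorem E20907 : n12583 = n5346 := (((D5346).symm.trans (sb E19977 (iv D18316)))).symm
theorem E20908 : n11108 = n11084 := ((((iv F49292)).symm.trans (sb E19979 (iv D16162)))).symm
theorem E20909 : n11084 = n10841 := ((((iv F48288)).symm.trans (sb E20033 (tr (iv F197218) E20908)))).symm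
theorem F200400 : act 4 n7595 = n10759 := (sb E19981 (iv F196033))
theorem F200401 : act 6 n7594 = n10759 := (sb E19982 F196192)
theorem F200402 : act 1 n7468 = n5269 := (sb E19983 F34690)
theorem E20919 : n10855 = n5248 := ((D10855).symm.trans (sb E19996 F34584))
theorem F200403 : act 7 n7477 = n5245 := (sb E19996 (iv D7606))
theorem F200404 : act 6 n3655 = n5164 := (sb E19997 F34056)
theorem E20922 : n12611 = n5225 := ((((iv F24317)).symm.trans (sb E19999 F197767))).symm
theorem E20924 : n5288 = n5225 := ((D5288).symm.trans (sb E20022 (tr F78474 E20922)))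
theorem E20942 : n11168 = n5218 := ((((iv F24285)).symm.trans (sb E20023 (iv F49603)))).symm
theorem E20943 : n12608 = n5222 := ((((iv F24303)).symm.trans (sb E20023 (iv F55440)))).symm
theorem E20946 : n12593 = n5350 := (((D5350).symm.trans (sb E20024 (iv D18334)))).symm
theorem E20949 : n11108 = n10841 := (E20908).trans E20909
theorem F200406 : act 3 n3630 = n5164 := (sb E20032 (iv D7484))
theorem E20959 : n23605 = n2490 := (E20345).trans E20613
theorem E20962 : n23293 = n22785 := ((((iv F97800)).symm.trans (sb E20044 D23293))).symm
theorem E20963 : n11062 = n10851 := (((F68403).symm.trans (sb E20044 F69789))).symm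
theorem E20964 : n22786 = n21171 := ((D22786).symm.trans (sb E20044 (iv F91219)))
theorem E20965 : n23425 = n11127 := (((F70062).symm.trans (sb E20045 F143085))).symm
theorem E20967 : n11151 = n5340 := (((F34787).symm.trans (sb E20046 F70159))).symm
theorem E20968 : n21260 = n11128 := (((D11128).symm.trans (sb E20046 (iv F91572)))).symm
theorem E20969 : n23316 = n21167 := (((iv F99935)).symm.trans (sb E20047 (iv D30834)))
theorem E20976 : n5297 = n5214 := (((F34030).symm.trans (sb E20054 F34634))).symm
theorem E20977 : n11150 = n5338 := ((((iv F24761)).symm.trans (sb E20055 (iv F49523)))).symm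
theorem E20978 : n5307 = n5295 := (((iv F24646)).symm.trans (sb E20055 (iv D7678)))
theorem E20979 : n11077 = n10836 := (((D10836).symm.trans (sb E20063 (iv F49262)))).symm
theorem E20980 : n5295 = n5204 := (((F33994).symm.trans (sb E20063 (tr F34673 E20978)))).symm
theorem E20981 : n23315 = n19983 := ((((iv F86258)).symm.trans (sb E20071 (iv F99931)))).symm
theorem E20982 : n23313 = n21166 := (E20892).trans E20904
theorem E20983 : n10836 = n10055 := (((F63804).symm.trans (sb E20071 (tr F69855 E20979)))).symm
theorem E20984 : n12581 = n5344 := ((((iv F24782)).symm.trans (sb E20059 (iv F55329)))).symm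
theorem E20985 : n5970 = n5312 := ((((iv F24666)).symm.trans (sb E20059 (iv D8662)))).symm
theorem E20986 : n5312 = n5207 := ((((iv F24246)).symm.trans (sb E20089 (tr D5970 E20985)))).symm
theorem F200407 : act 1 n3599 = n2541 := (sb E20061 F17456)
theorem E20987 : n5307 = n5204 := (E20978).trans E20980
theorem F200408 : act 3 n14547 = n10756 := (sb E20062 (iv D15637))
theorem E20989 : n21167 = n20847 := ((D21167).symm.trans (sb E20062 (iv F89938)))
theorem E20990 : n11077 = n10055 := (E20979).trans E20983
theorem E20991 : n23440 = n10850 := (((D10850).symm.trans (sb E20064 (iv F100433)))).symm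
theorem E20992 : n11161 = n5213 := (((F34026).symm.trans (sb E20064 F70199))).symm
theorem E21000 : n23316 = n20847 := (E20969).trans E20989
theorem E21009 : n11166 = n5216 := ((((iv F24279)).symm.trans (sb E20082 (iv F49593)))).symm
theorem E21011 : n12610 = n5223 := (((D5223).symm.trans (sb E20084 (iv F55449)))).symm
theorem E21014 : n5972 = n5317 := ((((iv F24688)).symm.trans (sb E20087 (iv D8667)))).symm
theorem E21015 : n5970 = n5207 := (E20985).trans E20986
theorem F200409 : act 3 n4077 = n5763 := (sb E20095 (iv D8356))
theorem E21025 : n6005 = n5859 := (E20798).trans E20816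
theorem E21027 : n6049 = n5826 := (E20804).trans E20815
theorem E21028 : n5863 = n2886 := (((iv F27016)).symm.trans (sb E20100 F19371))
theorem F200410 : act 5 n4054 = n2847 := (sb E20100 (iv D4117))
theorem F200411 : act 7 n4112 = n5765 := (sb E20101 F196328)
theorem E21032 : n5843 = n5319 := (((iv F26938)).symm.trans (sb E20108 (iv F24693)))
theorem E21033 : n6002 = n5856 := ((((iv F26991)).symm.trans (sb E20108 (iv F27526)))).symm
theorem E21034 : n12642 = n5864 := (((D5864).symm.trans (sb E20109 (iv F55569)))).symm
theorem E21036 : n5983 = n5856 := (((E21033).symm.trans (((iv F27528)).symm.trans (sb E20112 (iv D8685))))).symm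
theorem F200412 : act 0 n7640 = n5765 := (sb E20114 F37665)
theorem E21041 : n2978 = n2790 := ((((iv F13511)).symm.trans (sb E20122 F20081))).symm
theorem F200413 : act 0 n1835 = n1320 := (sb E20194 (iv D1897))
theorem E21103 : n2687 = n2640 := ((((iv F12854)).symm.trans (sb E20194 (iv F13079)))).symm
theorem E21105 : n2995 = n2669 := ((((iv F12994)).symm.trans (sb E20196 (iv D4323)))).symm
theorem E21106 : n2682 = n1445 := (((iv F13058)).symm.trans (sb E20197 (iv D2081)))
theorem F200414 : act 2 n1006 = n1317 := (sb E20198 (iv D1892))
theorem F200415 : act 8 n1006 = n1318 := (sb E20198 F9429)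
theorem E21108 : n2989 = n2668 := ((((iv F12988)).symm.trans (sb E20199 (iv D4314)))).symm
theorem E21109 : n1471 = n1299 := ((((iv D1866)).symm.trans (sb E20200 F10196))).symm
theorem E21110 : n1316 = n711 := (((iv F6719)).symm.trans (sb E20201 (iv D1025)))
theorem F200416 : act 0 n3673 = n2799 := (sb E20204 F19065)
theorem E21112 : n5841 = n5317 := ((((iv F24685)).symm.trans (sb E20204 (iv F26932)))).symm
theorem E21114 : n5994 = n5866 := (((D5866).symm.trans (sb E20206 (iv D8702)))).symm
theorem E21115 : n5982 = n5857 := (((D5857).symm.trans (sb E20209 D5982))).symm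
theorem E21116 : n34914 = n34374 := ((((iv F144673)).symm.trans (sb E20210 D34914))).symm
theorem E21119 : n34368 = n16568 := (((D16568).symm.trans (sb E20212 (iv F144661)))).symm
theorem E21121 : n34047 = n16180 := (((F100883).symm.trans (sb E20213 (iv F143517)))).symm
theorem E21124 : n33949 = n33198 := (((iv F197484)).symm.trans (sb E20214 (iv F140154)))
theorem F200429 : act 9 n24108 = n16593 := (sb E20215 (iv D24155))
theorem E21129 : n16066 = n6813 := ((((iv F31200)).symm.trans (sb E20216 (iv D23400)))).symm
theorem E21130 : n16524 = n6768 := ((((iv F30994)).symm.trans (sb E20216 F100272))).symm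
theorem E21133 : n24081 = n4697 := ((((iv F22009)).symm.trans (iv (sb E20217 (tr F103266 E20338))))).symm
theorem E21134 : n24182 = n4697 := (E20217).trans E21133
theorem E21135 : n35188 = n6792 := ((((iv F31102)).symm.trans (sb E21134 (iv F147840)))).symm
theorem E21136 : n34402 = n3277 := (((F22010).symm.trans (sb E21134 (iv F144760)))).symm
theorem E21137 : n16616 = n6795 := (((D6795).symm.trans (sb E21134 F103268))).symm
theorem E21140 : n35084 = n6792 := (((iv F147474)).symm.trans (sb E20219 (tr D35188 E21135)))
theorem F200432 : act 2 n24112 = n16591 := (sb E20219 (iv D24150))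
theorem E21143 : n33108 = n6920 := (((F44245).symm.trans (sb E20293 (iv F196673)))).symm
theorem E21144 : n34084 = n14337 := (((D14337).symm.trans (sb E20293 D34084))).symm
theorem E21145 : n16051 = n14338 := (((D14338).symm.trans (sb E20293 F100192))).symm
theorem E21146 : n33330 = n6841 := (((F44248).symm.trans (sb E20293 (iv F197422)))).symm
theorem E21147 : n34072 = n14339 := (((D14339).symm.trans (sb E20293 (iv F143630)))).symm
theorem E21148 : n16549 = n3277 := (((iv F72004)).symm.trans (sb E20221 (tr D34402 E21136)))
theorem E21149 : n34363 = n16571 := ((((iv F72086)).symm.trans (sb E20221 (iv F144649)))).symm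
theorem E21151 : n34210 = n14581 := ((((iv F63951)).symm.trans (sb E20222 (iv F144130)))).symm
theorem E21154 : n16120 = n7650 := ((((iv F34755)).symm.trans (sb E20223 F100573))).symm
theorem F200435 : act 1 n10839 = n7638 := (sb E20862 F49280)
theorem E21157 : n16107 = n15752 := ((((iv F68793)).symm.trans (sb E20862 (iv F70252)))).symm
theorem E21158 : n15735 = n7650 := (((iv F196196)).symm.trans (sb E20862 (tr (iv F70297) E21154)))
theorem E21159 : n7666 = n7466 := ((((iv D10839)).symm.trans (sb E20862 F49283))).symm
theorem E21160 : n15763 = n7630 := ((D15763).symm.trans (sb E20862 (iv D11082)))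
theorem F200436 : act 1 n11003 = n7637 := (sb E20225 F49276)
theorem E21161 : n8605 = n7630 := (((iv F196241)).symm.trans (sb E20225 (iv D11081)))
theorem E21163 : n33125 = n15991 := ((((iv F196724)).symm.trans (sb E20227 (iv F139854)))).symm
theorem E21165 : n16033 = n15752 := ((D16033).symm.trans (sb E20227 (tr F99907 E21157)))
theorem E21166 : n16003 = n15992 := ((((iv F69781)).symm.trans (sb E20227 (iv D23308)))).symm
theorem F200437 : act 1 n11000 = n7587 := (sb E20228 F48993)
theorem F200438 : act 4 n11000 = n7583 := (sb E20228 F48994)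
theorem F200439 : act 8 n11000 = n7581 := (sb E20228 (iv D11010))
theorem E21167 : n16194 = n7731 := ((((iv F35062)).symm.trans (sb E20229 F100941))).symm
theorem E21168 : n16177 = n15724 := ((((iv F68693)).symm.trans (sb E20868 (iv F70498)))).symm
theorem E21169 : n7668 = n7467 := ((((iv F196210)).symm.trans (sb E20868 F49457))).symm
theorem E21170 : n7731 = n7530 := (((F48212).symm.trans (sb E20868 (tr (iv F70548) E21167)))).symm
theorem E21171 : n7664 = n7478 := (((F48213).symm.trans (sb E20868 (iv D11133)))).symm
theorem E21172 : n16087 = n15772 := ((((iv F68863)).symm.trans (sb E20231 (iv F197483)))).symm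
theorem E21173 : n16152 = n15724 := (((E21168).symm.trans (((iv F70500)).symm.trans (sb E20231 F100094)))).symm
theorem E21174 : n16034 = n15616 := ((((iv F68245)).symm.trans (sb E20475 F197161))).symm
theorem E21175 : n33198 = n14556 := ((((iv F63848)).symm.trans (sb E20475 (tr D33949 E21124)))).symm
theorem E21176 : n15772 = n15745 := ((((iv F196212)).symm.trans (sb E20475 (tr F99816 E21172)))).symm
theorem E21177 : n16005 = n15991 := ((D16005).symm.trans (sb E20475 (iv D23288)))
theorem E21178 : n33130 = n14548 := ((((iv F63808)).symm.trans (sb E20233 (iv F139876)))).symm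
theorem E21180 : n15727 = n7617 := (((F48934).symm.trans (sb E20233 F97580))).symm
theorem F200442 : act 8 n10997 = n15650 := (sb E20233 F97581)
theorem E21181 : n15617 = n7592 := (((F48935).symm.trans (sb E20233 (iv D22733)))).symm
theorem E21182 : n33202 = n16001 := (((D16001).symm.trans (sb E20234 (iv F140173)))).symm
theorem E21183 : n15650 = n15632 := (((F196465).symm.trans (sb E20234 F97784))).symm
theorem E21184 : n33200 = n7624 := (((F48973).symm.trans (sb E20234 (iv F140167)))).symm
theorem E21186 : n33344 = n7625 := (((D7625).symm.trans (sb E20236 (iv F140736)))).symm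
theorem E21187 : n15756 = n7626 := (((D7626).symm.trans (sb E20236 F98177))).symm
theorem E21188 : n15713 = n3646 := (((F24466).symm.trans (sb E20236 (iv D22878)))).symm
theorem E21189 : n33174 = n16006 := (((D16006).symm.trans (sb E20237 (iv F140058)))).symm
theorem F200443 : act 9 n11006 = n15636 := (sb E20237 (iv D22762))
theorem E21190 : n15608 = n7601 := (((D7601).symm.trans (sb E20238 (iv D22719)))).symm
theorem E21191 : n16032 = n15615 := ((((iv F68240)).symm.trans (sb E20239 (iv F196723)))).symm
theorem E21192 : n33952 = n16001 := (((D16001).symm.trans (sb E20239 D33952))).symm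
theorem E21194 : n34095 = n34045 := (((D34045).symm.trans (sb E20240 (iv F143697)))).symm
theorem E21195 : n34093 = n16150 := (((F100085).symm.trans (sb E20240 (iv F143693)))).symm
theorem E21196 : n34096 = n34037 := ((((iv F143480)).symm.trans (sb E20240 D34096))).symm
theorem E21197 : n16182 = n16149 := ((((iv F70403)).symm.trans (sb E20241 F100210))).symm
theorem E21198 : n33413 = n7643 := ((((iv D11100)).symm.trans (sb E20241 (iv F196747)))).symm
theorem E21200 : n15747 = n7617 := ((((iv F34628)).symm.trans (sb E20243 (iv F68775)))).symm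
theorem E21201 : n7645 = n7451 := ((((iv F33941)).symm.trans (sb E20243 F49332))).symm
theorem E21203 : n16139 = n7625 := (((D7625).symm.trans (sb E20243 (iv F70372)))).symm
theorem E21204 : n7641 = n7626 := (((D7626).symm.trans (sb E20243 (iv D11095)))).symm
theorem E21206 : n33674 = n7722 := (((F49356).symm.trans (sb E20244 (iv F198258)))).symm
theorem E21208 : n16175 = n16154 := (((D16154).symm.trans (sb E20244 (iv D23565)))).symm
theorem E21210 : n16053 = n7471 := (((D7471).symm.trans (sb E20261 F197128))).symm
theorem E21211 : n16154 = n7472 := (((D7472).symm.trans (sb E20261 (tr (iv F197424) E21208)))).symm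
theorem E21212 : n15709 = n7473 := (((D7473).symm.trans (sb E20261 (iv D22869)))).symm
theorem F200448 : act 0 n11006 = n15632 := (sb E20247 (iv F68314))
theorem E21213 : n16006 = n14572 := ((D16006).symm.trans (sb E20247 (iv F63915)))
theorem F200449 : act 1 n10997 = n15636 := (sb E20248 F97663)
theorem E21214 : n33158 = n14548 := ((((iv F63808)).symm.trans (sb E20248 D33158))).symm
theorem E21215 : n16057 = n14330 := ((((iv F62939)).symm.trans (sb E20249 F100107))).symm
theorem E21216 : n16482 = n6811 := (((F44246).symm.trans (sb E20249 F100108))).symm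
theorem E21217 : n34052 = n14337 := (((D14337).symm.trans (sb E20249 (iv F143540)))).symm
theorem E21221 : n16054 = n15644 := (((D15644).symm.trans (sb E20250 D16054))).symm
theorem F200450 : act 8 n10762 = n7600 := (sb E20250 (iv D11037))
theorem E21222 : n15647 = n7655 := ((D15647).symm.trans (sb E20251 F49104))
theorem F200451 : act 8 n10763 = n7599 := (sb E20251 (iv D11035))
theorem E21224 : n16046 = n15649 := (((D15649).symm.trans (sb E20253 (iv F70020)))).symm
theorem F200452 : act 4 n10764 = n7600 := (sb E20253 F49100)
theorem F200453 : act 6 n10764 = n7599 := (sb E20253 (iv D11034))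
theorem E21225 : n11109 = n10819 := ((((iv F48204)).symm.trans (iv (sb E20254 (tr F49466 E20505))))).symm
theorem E21226 : n11136 = n10819 := (E20254).trans E21225
theorem E21227 : n16149 = n15722 := ((((iv F68685)).symm.trans (sb E21226 (tr (iv F70509) E21197)))).symm
theorem E21228 : n7883 = n7470 := (((F196460).symm.trans (sb E21226 F49467))).symm
theorem E21229 : n7752 = n7549 := ((((iv F196716)).symm.trans (sb E21226 F49468))).symm
theorem E21230 : n16123 = n15732 := (((D15732).symm.trans (sb E21226 (iv F70310)))).symm
theorem E21231 : n7667 = n7476 := (((F48206).symm.trans (sb E21226 (iv D11136)))).symm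
theorem E21232 : n15732 = n7648 := (((D7648).symm.trans (sb E20255 (tr F99971 E21230)))).symm
theorem F200454 : act 1 n10999 = n7589 := (sb E20256 F49002)
theorem F200455 : act 6 n10999 = n7583 := (sb E20256 F49005)
theorem F200456 : act 8 n10999 = n7582 := (sb E20256 (iv D11012))
theorem E21234 : n16370 = n7729 := ((((iv F35052)).symm.trans (sb E20257 F100933))).symm
theorem E21235 : n16194 = n7530 := (E21167).trans E21170
theorem E21236 : n17875 = n3678 := ((((iv D5330)).symm.trans (sb E20257 F198014))).symm
theorem E21237 : n16192 = n7732 := (((D7732).symm.trans (sb E20257 (iv D23589)))).symm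
theorem E21238 : n16123 = n7648 := (E21230).trans E21232
theorem E21239 : n16118 = n7620 := ((((iv F34644)).symm.trans (sb E20258 (iv D23478)))).symm
theorem E21240 : n16175 = n7472 := (E21208).trans E21211
theorem E21241 : n7732 = n3604 := (((F24039).symm.trans (sb E20278 (tr (iv F70539) E21237)))).symm
theorem E21242 : n7663 = n7479 := (((D7479).symm.trans (sb E20278 (iv D11131)))).symm
theorem F200457 : act 8 n5255 = n8332 := (sb E20260 (iv D12095))
theorem E21243 : n7834 = n7380 := ((((iv F33627)).symm.trans (sb E20262 F49146))).symm
theorem E21244 : n7649 = n7453 := ((((iv F33950)).symm.trans (sb E20262 (iv F200246)))).symm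
theorem E21245 : n7863 = n3568 := (((F24038).symm.trans (sb E20263 F49401))).symm
theorem E21247 : n8332 = n7480 := (((D7480).symm.trans (sb E20264 F196514))).symm
theorem E21248 : n7818 = n7407 := (((F47895).symm.trans (sb E20267 F49088))).symm
theorem F200458 : act 8 n10745 = n7595 := (sb E20267 (iv D11031))
theorem E21249 : n14316 = n7824 := ((((iv F35468)).symm.trans (sb E20268 (iv F195799)))).symm
theorem F200459 : act 3 n5408 = n7419 := (sb E20268 F47413)
theorem E21250 : n7831 = n7332 := (((iv F35498)).symm.trans (sb E20268 (iv D10634)))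
theorem E21251 : n7403 = n3737 := (((F25088).symm.trans (sb E20268 (iv F195829)))).symm
theorem E21253 : n7835 = n7416 := ((D7835).symm.trans (sb E20268 (iv F195841)))
theorem F200460 : act 0 n5246 = n7405 := (sb E20269 F47867)
theorem F200461 : act 4 n5246 = n7420 := (sb E20269 F196014)
theorem F200462 : act 6 n5246 = n7419 := (sb E20269 F196015)
theorem E21254 : n7448 = n3650 := (((F24416).symm.trans (sb E20269 F47870))).symm
theorem F200463 : act 9 n5246 = n7414 := (sb E20269 F47871)
theorem F200464 : act 8 n10744 = n7594 := (sb E20270 (iv D11029))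
theorem E21255 : n7832 = n7334 := ((((iv F33423)).symm.trans (sb E20271 F49137))).symm
theorem E21256 : n7665 = n7423 := (((D7423).symm.trans (sb E20271 F49139))).symm
theorem F200465 : act 7 n5284 = n7420 := (sb E20272 (iv D10769))
theorem F200466 : act 1 n5153 = n3657 := (sb E20273 F24565)
theorem E21257 : n3762 = n3564 := (((F24019).symm.trans (sb E20273 F24566))).symm
theorem E21258 : n7855 = n3274 := ((((iv F15707)).symm.trans (sb E20274 (iv F35604)))).symm
theorem E21259 : n3750 = n3558 := ((((iv F17006)).symm.trans (sb E20274 (iv D5428)))).symm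
theorem E21260 : n7455 = n3643 := ((D7455).symm.trans (sb E20275 (iv D5275)))
theorem F200467 : act 4 n10771 = n7582 := (sb E20276 F48991)
theorem F200468 : act 6 n10771 = n7581 := (sb E20276 (iv D11009))
theorem F200469 : act 8 n10771 = n7576 := (sb E20276 (iv F200247))
theorem E21261 : n16192 = n3604 := (E21237).trans E21241
theorem E21267 : n33590 = n1591 := (((D1591).symm.trans (sb E20283 (iv F141667)))).symm
theorem E21269 : n15714 = n3323 := (((F22153).symm.trans (sb E20296 F98145))).symm
theorem E21271 : n15864 = n3293 := (((F22155).symm.trans (sb E20296 F98146))).symm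
theorem E21272 : n30440 = n6842 := (((D6842).symm.trans (sb E20296 (iv F129151)))).symm
theorem E21273 : n7897 = n1591 := (((iv F35774)).symm.trans (sb E20285 (tr (iv F141666) E21267)))
theorem E21274 : n7726 = n3293 := (((iv F35037)).symm.trans (sb E20285 (tr (iv D23101) E21271)))
theorem E21278 : n16159 = n6842 := (((iv F70437)).symm.trans (sb E20286 (tr (iv D44386) E21272)))
theorem E21279 : n3774 = n1590 := ((((iv F8011)).symm.trans (sb E20287 F25277))).symm
theorem F200475 : act 1 n5238 = n7580 := (sb E20289 F47885)
theorem E21283 : n15618 = n6916 := ((((iv F31626)).symm.trans (sb E20289 D15618))).symm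
theorem E21284 : n7452 = n3642 := (((F24384).symm.trans (sb E20289 F47889))).symm
theorem F200476 : act 8 n5238 = n7404 := (sb E20289 (iv D10743))
theorem E21287 : n30315 = n6921 := (((D6921).symm.trans (sb E20290 (iv F128633)))).symm
theorem E21288 : n7517 = n1766 := (((F12333).symm.trans (sb E20291 F48164))).symm
theorem E21289 : n7447 = n3647 := (((D3647).symm.trans (sb E20291 (iv D10808)))).symm
theorem F200477 : act 0 n5243 = n7404 := (sb E20292 F47862)
theorem E21290 : n14313 = n7602 := (((D7602).symm.trans (sb E20292 (iv F62865)))).symm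
theorem F200478 : act 9 n5243 = n7413 := (sb E20292 F47866)
theorem E21291 : n7661 = n6837 := ((((iv F31300)).symm.trans (sb E20294 F49368))).symm
theorem E21292 : n7857 = n3273 := ((((iv D4728)).symm.trans (sb E20294 F49369))).symm
theorem E21293 : n16158 = n6509 := ((((iv F29822)).symm.trans (sb E20294 (iv F70434)))).symm
theorem E21295 : n30311 = n14340 := (((D14340).symm.trans (sb E20295 (iv D44191)))).symm
theorem E21296 : n15863 = n3601 := (((D3601).symm.trans (sb E20297 (iv F69249)))).symm
theorem E21297 : n7515 = n3602 := (((D3602).symm.trans (sb E20297 (iv D10909)))).symm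
theorem E21298 : n14370 = n7474 := (((D7474).symm.trans (sb E20298 (iv F63109)))).symm
theorem E21299 : n7475 = n7463 := ((D7475).symm.trans (sb E20298 F48157))
theorem F200479 : act 0 n10765 = n14547 := (sb E20299 F89804)
theorem E21300 : n28756 = n15651 := (((D15651).symm.trans (sb E20299 (iv F122082)))).symm
theorem E21301 : n15652 = n14329 := ((D15652).symm.trans (sb E20299 F89809))
theorem F200480 : act 2 n10754 = n7422 := (sb E20300 F47987)
theorem F200481 : act 9 n10754 = n7418 := (sb E20300 (iv D10766))
theorem F200482 : act 1 n5119 = n3744 := (sb E20301 F25089)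
theorem E21303 : n7833 = n7330 := ((((iv F33409)).symm.trans (sb E20301 (iv F35505)))).symm
theorem E21304 : n16477 = n6765 := ((((iv F30981)).symm.trans (sb E20302 (iv F71693)))).symm
theorem E21305 : n7812 = n6803 := ((((iv F31160)).symm.trans (sb E20302 (iv D11339)))).symm
theorem E21306 : n7933 = n3505 := ((((iv D5065)).symm.trans (sb E20303 F50348))).symm
theorem E21307 : n7816 = n7324 := ((((iv F33384)).symm.trans (sb E20303 (iv D11346)))).symm
theorem E21308 : n7397 = n3730 := (((iv F33706)).symm.trans (sb E20304 (iv D5397)))
theorem F200483 : act 8 n5239 = n7405 := (sb E20305 (iv D10746))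
theorem F200484 : act 1 n2469 = n1810 := (sb E20310 F12681)
theorem E21314 : n3757 = n3272 := ((((iv F15701)).symm.trans (sb E20310 (iv F17848)))).symm
theorem E21315 : n1843 = n1715 := ((((iv D2469)).symm.trans (sb E20310 F12682))).symm
theorem E21316 : n1820 = n1730 := (((F12094).symm.trans (sb E20310 F12683))).symm
theorem E21317 : n3556 = n1805 := (((iv F17000)).symm.trans (sb E20310 (iv D2604)))
theorem F200485 : act 1 n2491 = n1773 := (sb E20311 F12442)
theorem E21318 : n3691 = n3598 := (((D3598).symm.trans (sb E20311 (iv F17547)))).symm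
theorem E21319 : n3586 = n1768 := (((iv F17128)).symm.trans (sb E20311 (iv D2552)))
theorem F200486 : act 0 n2525 = n3557 := (sb E20312 F23972)
theorem F200487 : act 9 n2525 = n3563 := (sb E20312 F23976)
theorem E21322 : n3813 = n1581 := ((((iv D2272)).symm.trans (sb E20315 F25153))).symm
theorem E21323 : n3747 = n3268 := ((((iv F15686)).symm.trans (sb E20315 (iv D5423)))).symm
theorem E21324 : n3815 = n1699 := ((((iv F8545)).symm.trans (sb E20316 (iv F18118)))).symm
theorem E21325 : n1848 = n837 := (((F6153).symm.trans (sb E20316 F12883))).symm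
theorem E21326 : n1838 = n1712 := ((((iv F8607)).symm.trans (sb E20316 (iv D2646)))).symm
theorem E21327 : n3777 = n1732 := (((D1732).symm.trans (sb E20317 (iv F17938)))).symm
theorem E21328 : n1814 = n1726 := ((((iv F8667)).symm.trans (sb E20317 (iv D2616)))).symm
theorem E21329 : n3552 = n1801 := (((iv F16982)).symm.trans (sb E20318 (iv D2597)))
theorem E21330 : n7730 = n3603 := (((D3603).symm.trans (sb E20319 (iv F35057)))).symm
theorem E21331 : n3679 = n3589 := ((((iv F17141)).symm.trans (sb E20319 (iv D5331)))).symm
theorem E21332 : n3590 = n1764 := ((D3590).symm.trans (sb E20320 (iv D2545)))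
theorem F200488 : act 8 n2521 = n3557 := (sb E20321 (iv D5145))
theorem E21339 : n16213 = n6807 := ((((iv F31176)).symm.trans (sb E20324 F98613))).symm
theorem E21350 : n33272 = n1605 := ((((iv F8082)).symm.trans (sb E20329 (iv F140470)))).symm
theorem E21356 : n7957 = n6752 := ((((iv F30918)).symm.trans (sb E20332 F50490))).symm
theorem E21366 : n16544 = n6783 := ((((iv F31066)).symm.trans (sb E20340 (iv F71981)))).symm
theorem E21370 : n11397 = n4694 := ((((iv F21997)).symm.trans (sb E20342 F71989))).symm
theorem E21377 : n33516 = n1763 := (((F12185).symm.trans (sb E20959 (iv F141325)))).symm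
theorem E21379 : n8910 = n3562 := ((((iv F17020)).symm.trans (sb E20348 (iv D12932)))).symm
theorem E21384 : n15787 = n7585 := (((D7585).symm.trans (sb E20350 F97831))).symm
theorem F200492 : act 3 n5237 = n7485 := (sb E20351 F48370)
theorem E21385 : n7675 = n7412 := ((((iv F33776)).symm.trans (sb E20352 F49506))).symm
theorem E21386 : n7889 = n7328 := ((((iv F33400)).symm.trans (sb E20352 F49507))).symm
theorem E21388 : n33080 = n6906 := ((((iv F31578)).symm.trans (sb E20354 (iv F139655)))).symm
theorem E21389 : n15701 = n3632 := (((F24334).symm.trans (sb E20354 F97460))).symm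
theorem E21391 : n33290 = n3636 := (((D3636).symm.trans (sb E20355 (iv F140539)))).symm
theorem E21399 : n7842 = n7327 := ((((iv F33396)).symm.trans (sb E20360 F199883))).symm
theorem E21400 : n7400 = n4225 := (((iv F33721)).symm.trans (sb E20360 (iv D6111)))
theorem E21410 : n4256 = n3561 := (((D3561).symm.trans (sb E20368 (iv F19941)))).symm
theorem E21411 : n3554 = n2042 := (((iv F16990)).symm.trans (sb E20368 (iv D2944)))
theorem F200493 : act 4 n5066 = n3743 := (sb E20377 F25107)
theorem E21417 : n7837 = n3506 := ((((iv D5066)).symm.trans (sb E20377 (iv F35527)))).symm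
theorem E21418 : n7336 = n3741 := ((D7336).symm.trans (sb E20377 F25108))
theorem E21419 : n7337 = n3740 := ((D7337).symm.trans (sb E20377 (iv D5412)))
theorem E21420 : n7840 = n7325 := ((((iv F33389)).symm.trans (sb E20377 D7840))).symm
theorem E21421 : n7953 = n3492 := ((((iv F16694)).symm.trans (sb E20378 F199776))).symm
theorem E21422 : n4308 = n3502 := ((((iv F16750)).symm.trans (sb E20378 (iv D6226)))).symm
theorem E21423 : n7305 = n3805 := (((iv F33289)).symm.trans (sb E20379 F25110))
theorem E21424 : n7339 = n3765 := ((D7339).symm.trans (sb E20379 F25111))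
theorem E21425 : n7320 = n4224 := (((iv F33367)).symm.trans (sb E20380 (iv D6109)))
theorem E21429 : n7306 = n3824 := ((D7306).symm.trans (sb E20383 F25488))
theorem F200494 : act 3 n5128 = n3654 := (sb E20386 (iv D5291))
theorem E21431 : n11408 = n5097 := ((((iv F23768)).symm.trans (sb E20387 (iv F200094)))).symm
theorem E21432 : n5444 = n5099 := ((((iv F23778)).symm.trans (sb E20387 (iv D7884)))).symm
theorem E21433 : n5445 = n5102 := (((D5102).symm.trans (sb E20387 F35716))).symm
theorem E21434 : n4268 = n3909 := ((((iv F18556)).symm.trans (sb E20389 F28198))).symm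
theorem E21437 : n7859 = n7368 := ((((iv F33577)).symm.trans (sb E20390 (iv F35620)))).symm
theorem E21438 : n7885 = n7370 := ((((iv F33588)).symm.trans (sb E20390 (iv F199996)))).symm
theorem E21439 : n7887 = n7373 := (((D7373).symm.trans (sb E20390 (iv F199991)))).symm
theorem E21440 : n7361 = n4253 := (((iv F33551)).symm.trans (sb E20390 (iv D6152)))
theorem E21443 : n5441 = n5093 := ((((iv F23755)).symm.trans (sb E20393 F35628))).symm
theorem E21444 : n11366 = n5095 := ((((iv F23763)).symm.trans (sb E20393 F199962))).symm
theorem E21445 : n5511 = n2444 := ((((iv D3526)).symm.trans (sb E20393 F35631))).symm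
theorem E21446 : n5425 = n5087 := ((((iv F23732)).symm.trans (sb E20393 (iv D7861)))).symm
theorem E21448 : n5411 = n5100 := (((D5100).symm.trans (sb E20394 (iv D7838)))).symm
theorem E21450 : n3008 = n2441 := ((((iv F11972)).symm.trans (sb E20395 (iv D4340)))).symm
theorem E21451 : n5083 = n2942 := (((iv F23715)).symm.trans (sb E20396 (iv D4254)))
theorem E21455 : n33039 = n1596 := ((((iv D2295)).symm.trans (sb E20399 (iv F139460)))).symm
theorem E21456 : n15686 = n1603 := (((F11281).symm.trans (sb E20399 F97394))).symm
theorem F200495 : act 2 n2924 = n3535 := (sb E20424 F23828)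
theorem F200496 : act 8 n2924 = n3539 := (sb E20424 F23830)
theorem E21521 : n2102 = n396 := ((((iv F2183)).symm.trans (sb E20439 (iv D3023)))).symm
theorem E21526 : n2091 = n1697 := ((((iv F8539)).symm.trans (sb E20443 (iv D3009)))).symm
theorem E21527 : n1020 = n835 := ((((iv F4408)).symm.trans (sb E20444 (iv D1464)))).symm
theorem E21528 : n1710 = n1011 := (((iv F8598)).symm.trans (sb E20445 (iv D1454)))
theorem E21529 : n2061 = n1728 := ((((iv F8677)).symm.trans (sb E20446 (iv D2971)))).symm
theorem E21530 : n1723 = n993 := (((iv F8652)).symm.trans (sb E20447 (iv D1430)))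
theorem F200497 : act 2 n1417 = n1711 := (sb E20448 F12065)
theorem F200498 : act 8 n1417 = n1713 := (sb E20448 F12067)
theorem E21533 : n4335 = n822 := ((((iv F4344)).symm.trans (sb E20449 (iv D6264)))).symm
theorem E21535 : n2131 = n392 := ((((iv D574)).symm.trans (sb E20451 F14392))).symm
theorem E21536 : n2088 = n1696 := ((((iv F8533)).symm.trans (sb E20452 (iv D3005)))).symm
theorem E21537 : n1019 = n834 := ((((iv F4402)).symm.trans (sb E20453 (iv D1463)))).symm
theorem E21538 : n1033 = n829 := ((((iv D1191)).symm.trans (sb E20454 F7300))).symm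
theorem E21540 : n16127 = n4158 := ((((iv F19518)).symm.trans (sb E20457 F100611))).symm
theorem E21543 : n15741 = n8576 := ((((iv F196984)).symm.trans (sb E20458 (iv F68752)))).symm
theorem F200499 : act 4 n5943 = n7640 := (sb E20458 F49310)
theorem F200500 : act 6 n5943 = n7638 := (sb E20458 F49311)
theorem E21544 : n8578 = n7636 := (((iv F38606)).symm.trans (sb E20458 (iv D11089)))
theorem F200501 : act 6 n5916 = n7637 := (sb E20459 F49307)
theorem E21545 : n15734 = n7619 := ((((iv F34636)).symm.trans (sb E20460 (iv F68724)))).symm
theorem F200502 : act 2 n5912 = n7638 := (sb E20460 F48236)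
theorem F200503 : act 8 n5912 = n7485 := (sb E20460 F48239)
theorem F200504 : act 2 n5266 = n4102 := (sb E20461 F27297)
theorem E21546 : n8576 = n7639 := ((D8576).symm.trans (sb E20463 F49037))
theorem F200505 : act 7 n5912 = n7589 := (sb E20463 F49038)
theorem E21547 : n15792 = n3671 := (((F24212).symm.trans (sb E20497 (iv F68935)))).symm
theorem E21548 : n7755 = n7534 := ((((iv F34281)).symm.trans (sb E20497 F49484))).symm
theorem E21549 : n7538 = n4158 := ((D7538).symm.trans (sb E20497 (tr (iv F70328) E21540)))
theorem E21551 : n7862 = n7457 := (((F48211).symm.trans (sb E20467 F49396))).symm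
theorem E21552 : n16096 = n7631 := ((((iv F34682)).symm.trans (sb E20468 (iv F70212)))).symm
theorem E21554 : n4289 = n3596 := (((F24012).symm.trans (sb E20469 F28176))).symm
theorem E21555 : n7446 = n4255 := (((iv F33923)).symm.trans (sb E20469 (iv D6155)))
theorem E21558 : n7461 = n4103 := ((D7461).symm.trans (sb E20471 (iv D5944)))
theorem F200506 : act 8 n5943 = n7460 := (sb E20472 (iv D10829))
theorem E21562 : n15785 = n7631 := (((iv F68911)).symm.trans (sb E20473 (tr (iv F70214) E21552)))
theorem E21563 : n7635 = n7487 := (((iv F34701)).symm.trans (sb E20474 F48363))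
theorem F200507 : act 6 n5267 = n7485 := (sb E20474 F48364)
theorem E21564 : n15741 = n7639 := (E21543).trans E21546
theorem F200508 : act 7 n10856 = n7582 := (sb E20476 (iv D11011))
theorem F200509 : act 0 n5292 = n3982 := (sb E20477 F26583)
theorem F200510 : act 6 n5292 = n7460 := (sb E20477 (iv F195871))
theorem F200511 : act 7 n5292 = n7409 := (sb E20477 F195751)
theorem F200512 : act 0 n5167 = n3980 := (sb E20478 F26576)
theorem E21570 : n34583 = n2022 := ((((iv F9957)).symm.trans (sb E20482 (iv F198413)))).symm
theorem E21572 : n8476 = n4152 := ((((iv F19495)).symm.trans (sb E20483 F54264))).symm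
theorem E21573 : n16283 = n4156 := ((((iv F19511)).symm.trans (sb E20483 (iv F197547)))).symm
theorem E21575 : n15765 = n7632 := ((((iv F34686)).symm.trans (sb E20502 (iv F68842)))).symm
theorem E21576 : n4152 = n3672 := (((F24504).symm.trans (sb E20502 (tr F53526 E21572)))).symm
theorem E21577 : n8619 = n7712 := ((D8619).symm.trans (sb E20486 F49323))
theorem F200513 : act 7 n5941 = n7640 := (sb E20486 F49324)
theorem F200514 : act 0 n5262 = n7480 := (sb E20488 F48289)
theorem F200515 : act 9 n5262 = n7468 := (sb E20488 (iv D10842))
theorem F200516 : act 2 n2837 = n3639 := (sb E20494 F24003)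
theorem F200517 : act 8 n2837 = n3559 := (sb E20494 (iv D5149))
theorem E21581 : n15881 = n3665 := ((((iv F17449)).symm.trans (sb E20583 (iv F69326)))).symm
theorem E21582 : n15984 = n3669 := ((((iv F17468)).symm.trans (sb E20583 (iv F197551)))).symm
theorem E21583 : n8476 = n3672 := (E21572).trans E21576
theorem E21586 : n8740 = n7756 := (((iv F39189)).symm.trans (sb E20496 F49937))
theorem E21588 : n7754 = n3608 := ((((iv F17216)).symm.trans (sb E20519 F49475))).symm
theorem E21591 : n15788 = n7629 := ((((iv F34677)).symm.trans (sb E20499 F197134))).symm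
theorem E21593 : n7634 = n7574 := ((D7634).symm.trans (sb E20500 F48376))
theorem E21595 : n7482 = n3656 := (((D3656).symm.trans (sb E20503 (iv D10861)))).symm
theorem E21598 : n5756 = n5449 := ((F196217).symm.trans (sb E20505 F34840))
theorem E21599 : n7843 = n7369 := ((((iv F33583)).symm.trans (sb E20508 F200125))).symm
theorem F200518 : act 8 n5147 = n4102 := (sb E20508 (iv D5942))
theorem E21600 : n8475 = n7712 := (((E21577).symm.trans ((D8619).symm.trans (sb E20509 (iv F196769))))).symm
theorem F200519 : act 8 n5941 = n7458 := (sb E20509 (iv D10826))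
theorem E21603 : n7385 = n3767 := ((D7385).symm.trans (sb E20517 F25122))
theorem F200520 : act 7 n5098 = n3743 := (sb E20517 F25123)
theorem E21604 : n7386 = n3742 := ((D7386).symm.trans (sb E20517 (iv D5415)))
theorem E21605 : n7481 = n3696 := ((D7481).symm.trans (sb E20518 F24587))
theorem F200521 : act 8 n5163 = n3655 := (sb E20518 (iv D5293))
theorem F200522 : act 6 n5165 = n3654 := (sb E20520 F24577)
theorem F200523 : act 8 n5165 = n3653 := (sb E20520 (iv D5290))
theorem F200524 : act 4 n5166 = n3655 := (sb E20521 F24574)
theorem F200525 : act 7 n5166 = n3653 := (sb E20521 (iv D5289))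
theorem E21607 : n33949 = n14556 := (E21124).trans E21175
theorem F200526 : act 0 n5416 = n3944 := (sb E20523 F26374)
theorem F200527 : act 3 n5416 = n7408 := (sb E20523 (iv F195862))
theorem E21609 : n4038 = n3786 := (((F24809).symm.trans (sb E20526 F26936))).symm
theorem E21610 : n7756 = n7533 := (((iv F35145)).symm.trans (sb E20526 (iv F196771)))
theorem F200528 : act 5 n5351 = n7458 := (sb E20526 F196482)
theorem E21611 : n4035 = n3697 := (((F24811).symm.trans (sb E20526 (iv D5842)))).symm
theorem E21612 : n33082 = n6905 := ((((iv D10014)).symm.trans (sb E20527 (iv F139664)))).symm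
theorem E21613 : n33132 = n13752 := ((((iv F60431)).symm.trans (sb E20527 (iv F139884)))).symm
theorem E21614 : n15729 = n6932 := (((F44808).symm.trans (sb E20527 F97589))).symm
theorem E21616 : n7527 = n3658 := (((F24448).symm.trans (sb E20528 F48202))).symm
theorem E21617 : n33283 = n3315 := ((((iv D4791)).symm.trans (sb E20529 (iv F140508)))).symm
theorem E21618 : n33348 = n6577 := ((((iv F30132)).symm.trans (sb E20529 (iv F140746)))).symm
theorem E21619 : n15874 = n3334 := (((F22422).symm.trans (sb E20529 F98183))).symm
theorem E21620 : n33349 = n6937 := (((D6937).symm.trans (sb E20529 D33349))).symm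
theorem E21621 : n15872 = n3662 := (((D3662).symm.trans (sb E20530 (iv F69286)))).symm
theorem E21622 : n7546 = n3663 := (((D3663).symm.trans (sb E20530 F48590))).symm
theorem E21623 : n15758 = n7627 := (((D7627).symm.trans (sb E20531 (iv F68815)))).symm
theorem F200529 : act 9 n5259 = n7465 := (sb E20531 (iv D10837))
theorem E21625 : n33174 = n14572 := (E21189).trans E21213
theorem E21626 : n7627 = n6948 := (((F44882).symm.trans (sb E20542 (tr F97713 E21623)))).symm
theorem E21627 : n33177 = n14573 := (((D14573).symm.trans (sb E20542 D33177))).symm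
theorem F200530 : act 1 n5254 = n7465 := (sb E20533 F48253)
theorem E21628 : n15748 = n6932 := ((((iv F31689)).symm.trans (sb E20533 D15748))).symm
theorem E21629 : n7541 = n3658 := (((F24448).symm.trans (sb E20533 F48256))).symm
theorem F200531 : act 8 n5254 = n7463 := (sb E20533 (iv D10832))
theorem E21633 : n7715 = n3662 := (((D3662).symm.trans (sb E20535 (iv F34998)))).symm
theorem E21634 : n3674 = n3663 := (((D3663).symm.trans (sb E20535 (iv D5321)))).symm
theorem F200532 : act 0 n5259 = n7463 := (sb E20536 (iv F33985))
theorem E21641 : n15758 = n6948 := (E21623).trans E21626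
theorem F200533 : act 3 n10030 = n7580 := (sb E20541 (iv D11007))
theorem E21644 : n16008 = n13768 := ((((iv F60504)).symm.trans (sb E20541 D16008))).symm
theorem E21645 : n14573 = n14558 := ((D14573).symm.trans (sb E20541 (iv F63857)))
theorem E21647 : n30349 = n14549 := (((D14549).symm.trans (sb E20543 (iv F128776)))).symm
theorem E21649 : n16059 = n13623 := ((((iv F59886)).symm.trans (sb E20544 (iv F70060)))).symm
theorem E21650 : n16060 = n14331 := (((D14331).symm.trans (sb E20544 D16060))).symm
theorem E21652 : n16485 = n6812 := (((D6812).symm.trans (sb E20545 D16485))).symm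
theorem E21653 : n7813 = n6802 := ((((iv F31156)).symm.trans (sb E20545 (iv D11341)))).symm
theorem E21654 : n34055 = n13627 := (((D13627).symm.trans (sb E20546 (iv F143553)))).symm
theorem E21655 : n34056 = n13628 := (((D13628).symm.trans (sb E20546 D34056))).symm
theorem E21661 : n15696 = n3314 := ((((iv F15889)).symm.trans (sb E20552 F98017))).symm
theorem E21662 : n29765 = n1599 := ((((iv D2300)).symm.trans (sb E20552 (iv F193564)))).symm
theorem E21663 : n15831 = n1608 := (((F11304).symm.trans (sb E20552 F98019))).symm
theorem E21665 : n29742 = n779 := ((((iv D1121)).symm.trans (sb E20553 (iv F193560)))).symm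
theorem E21666 : n29738 = n1610 := (((D1610).symm.trans (sb E20553 F193398))).symm
theorem E21671 : n7508 = n1757 := (((F12295).symm.trans (sb E20558 F48125))).symm
theorem E21673 : n15836 = n1759 := (((D1759).symm.trans (sb E20560 (iv F69134)))).symm
theorem E21691 : n7532 = n3659 := (((D3659).symm.trans (sb E20575 (iv F34270)))).symm
theorem F200534 : act 8 n2532 = n3606 := (sb E20575 F24196)
theorem E21695 : n15879 = n3664 := (((D3664).symm.trans (sb E20578 (iv F69317)))).symm
theorem E21696 : n7551 = n3666 := (((D3666).symm.trans (sb E20578 F48613))).symm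
theorem F200535 : act 0 n2536 = n3606 := (sb E20579 F24248)
theorem F200536 : act 9 n2536 = n3599 := (sb E20579 (iv D5208))
theorem F200537 : act 0 n2588 = n3537 := (sb E20581 F23837)
theorem E21698 : n6801 = n3734 := ((((iv F17748)).symm.trans (sb E20581 (iv F31149)))).symm
theorem E21699 : n3536 = n1830 := (((F12613).symm.trans (sb E20581 (iv D5111)))).symm
theorem F200538 : act 9 n2588 = n3541 := (sb E20581 F23841)
theorem E21700 : n17815 = n1781 := (((F12389).symm.trans (sb E20582 (iv F77161)))).symm
theorem E21701 : n8474 = n3670 := (((D3670).symm.trans (sb E20582 F54047))).symm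
theorem E21709 : n4157 = n3592 := (((D3592).symm.trans (sb E20591 (iv F19514)))).symm
theorem E21710 : n3594 = n1990 := ((D3594).symm.trans (sb E20591 (iv D2873)))
theorem F200539 : act 2 n1380 = n1761 := (sb E20592 F12177)
theorem F200540 : act 8 n1380 = n1727 := (sb E20592 (iv D2488))
theorem E21714 : n4151 = n3670 := (((D3670).symm.trans (sb E20594 (iv D6013)))).symm
theorem E21715 : n17896 = n2021 := (((F13819).symm.trans (sb E20596 (iv F77482)))).symm
theorem E21716 : n8463 = n4127 := ((((iv F19405)).symm.trans (sb E20596 (iv D12296)))).symm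
theorem E21717 : n7753 = n3609 := (((D3609).symm.trans (sb E20854 (iv D11258)))).symm
theorem F200541 : act 8 n2853 = n4032 := (sb E20598 (iv D5837))
theorem E21718 : n4032 = n3612 := (((D3612).symm.trans (sb E20600 F26811))).symm
theorem F200542 : act 0 n2500 = n1939 := (sb E20601 F13515)
theorem F200543 : act 8 n2500 = n1978 := (sb E20601 (iv F200318))
theorem F200544 : act 1 n2454 = n1835 := (sb E20605 F12830)
theorem E21721 : n3802 = n3504 := ((((iv F16758)).symm.trans (sb E20605 (iv F18055)))).symm
theorem E21723 : n7927 = n3240 := ((((iv F15549)).symm.trans (sb E20606 (iv F35902)))).symm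
theorem E21724 : n3789 = n3256 := ((((iv F15630)).symm.trans (sb E20606 (iv D5477)))).symm
theorem E21725 : n6797 = n3729 := (((iv F31128)).symm.trans (sb E20607 (iv D5394)))
theorem E21726 : n7934 = n3491 := ((((iv F16689)).symm.trans (sb E20608 (iv F35940)))).symm
theorem E21727 : n3792 = n3501 := ((((iv F16746)).symm.trans (sb E20608 (iv D5481)))).symm
theorem E21728 : n3533 = n1826 := (((iv F16894)).symm.trans (sb E20609 (iv D2629)))
theorem F200545 : act 8 n2584 = n3537 := (sb E20610 F23820)
theorem E21735 : n4277 = n3914 := ((((iv D5658)).symm.trans (sb E20619 F27398))).symm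
theorem E21736 : n8198 = n4236 := ((D8198).symm.trans (sb E20619 F199899))
theorem E21737 : n4352 = n3913 := (((F195515).symm.trans (sb E20620 F28280))).symm
theorem E21739 : n8419 = n1983 := ((((iv F9796)).symm.trans (sb E20622 F53933))).symm
theorem E21747 : n2069 = n1935 := ((((iv F9606)).symm.trans (sb E20627 F14244))).symm
theorem E21750 : n4278 = n3986 := ((((iv F18861)).symm.trans (sb E20631 (iv F200023)))).symm
theorem E21751 : n4274 = n3921 := ((((iv F18601)).symm.trans (sb E20631 F27389))).symm
theorem E21754 : n3970 = n2055 := (((iv F18808)).symm.trans (sb E20636 F14168))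
theorem E21755 : n3963 = n2048 := (((iv F18783)).symm.trans (sb E20636 (iv D2955)))
theorem E21756 : n3979 = n3768 := (((iv F18838)).symm.trans (sb E20638 (iv F17893)))
theorem E21758 : n4273 = n3918 := ((((iv F18591)).symm.trans (sb E20639 F199910))).symm
theorem E21760 : n4328 = n3876 := (((F195513).symm.trans (sb E20642 F199782))).symm
theorem E21761 : n8089 = n4234 := (((iv F36667)).symm.trans (sb E20642 (iv D6124)))
theorem F200546 : act 2 n2930 = n3931 := (sb E20643 F26304)
theorem F200547 : act 8 n2930 = n3937 := (sb E20643 F26306)
theorem F200548 : act 1 n1425 = n1911 := (sb E20646 F13349)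
theorem E21765 : n3906 = n2053 := ((((iv F10091)).symm.trans (sb E20646 (iv F18548)))).symm
theorem F200549 : act 9 n1425 = n1915 := (sb E20646 F13351)
theorem E21766 : n4269 = n3907 := ((((iv F18551)).symm.trans (sb E20647 D4269))).symm
theorem E21767 : n2097 = n1883 := ((((iv D2710)).symm.trans (sb E20647 F14163))).symm
theorem E21768 : n3902 = n2047 := (((iv F18531)).symm.trans (sb E20647 (iv D2953)))
theorem F200550 : act 2 n1420 = n1907 := (sb E20648 F13333)
theorem F200551 : act 8 n1420 = n1911 := (sb E20648 F13334)
theorem E21771 : n4321 = n3872 := ((((iv D5593)).symm.trans (sb E20651 F28053))).symm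
theorem F200552 : act 1 n2935 = n3873 := (sb E20653 F25935)
theorem F200553 : act 3 n2935 = n3880 := (sb E20653 F195595)
theorem E21772 : n3871 = n2084 := (((F14090).symm.trans (sb E20653 (iv D5592)))).symm
theorem F200554 : act 6 n2935 = n3878 := (sb E20653 F195596)
theorem F200555 : act 9 n2935 = n3877 := (sb E20653 F25939)
theorem F200556 : act 2 n2999 = n3854 := (sb E20654 F25813)
theorem F200557 : act 5 n2999 = n3880 := (sb E20654 F25815)
theorem E21773 : n4325 = n3853 := (((iv F20236)).symm.trans (sb E20654 (iv D5566)))
theorem F200558 : act 2 n2959 = n3881 := (sb E20655 F25992)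
theorem F200559 : act 4 n2959 = n3949 := (sb E20655 F25993)
theorem F200560 : act 7 n2959 = n3880 := (sb E20655 (iv D5607))
theorem F200561 : act 5 n3018 = n3881 := (sb E20657 F25820)
theorem F200562 : act 7 n3018 = n3854 := (sb E20657 (iv D5567))
theorem F200563 : act 0 n2610 = n1915 := (sb E20658 F13368)
theorem E21775 : n3912 = n3766 := ((((iv F17886)).symm.trans (sb E20658 (iv F18570)))).symm
theorem E21778 : n4240 = n3919 := (((D3919).symm.trans (sb E20660 (iv D6131)))).symm
theorem E21803 : n4430 = n201 := ((((iv D295)).symm.trans (sb E20682 F28696))).symm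
theorem E21804 : n2137 = n433 := ((((iv D631)).symm.trans (sb E20683 F14418))).symm
theorem E21805 : n2151 = n95 := ((((iv D140)).symm.trans (sb E20684 F14480))).symm
theorem E21806 : n1046 = n206 := ((((iv D303)).symm.trans (sb E20685 F7356))).symm
theorem E21807 : n2140 = n203 := (((D203).symm.trans (sb E20686 (iv D3075)))).symm
theorem E21808 : n1037 = n439 := ((((iv F2397)).symm.trans (sb E20687 (iv D1489)))).symm
theorem E21832 : n4309 = n3489 := ((((iv F16679)).symm.trans (sb E20704 (iv F20162)))).symm
theorem E21833 : n3499 = n2074 := (((iv F16737)).symm.trans (sb E20704 (iv D2986)))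
theorem F200564 : act 2 n1442 = n1703 := (sb E20705 (iv D2449))
theorem F200565 : act 8 n1442 = n1704 := (sb E20705 F12007)
theorem E21835 : n9007 = n1683 := ((((iv F8465)).symm.trans (sb E20706 (iv F40331)))).symm
theorem E21836 : n4372 = n817 := ((((iv D1176)).symm.trans (sb E20706 F28444))).symm
theorem E21837 : n2108 = n825 := ((((iv F4357)).symm.trans (sb E20707 (iv D3032)))).symm
theorem E21839 : n4303 = n3488 := ((((iv F16674)).symm.trans (sb E20708 (iv D6218)))).symm
theorem E21840 : n2107 = n1688 := ((((iv D2427)).symm.trans (sb E20709 F14284))).symm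
theorem E21841 : n1702 = n1023 := (((iv F8558)).symm.trans (sb E20710 (iv D1467)))
theorem E21842 : n7497 = n954 := (((F6915).symm.trans (sb E20712 F48085))).symm
theorem E21843 : n7514 = n1979 := (((D1979).symm.trans (sb E20713 (iv F34196)))).symm
theorem E21844 : n8394 = n458 := (((F3500).symm.trans (sb E20714 (iv F37873)))).symm
theorem E21855 : n4320 = n3848 := ((((iv F18282)).symm.trans (sb E20725 (iv F20215)))).symm
theorem E21856 : n3868 = n2079 := (((iv F18381)).symm.trans (sb E20725 (iv D2994)))
theorem F200566 : act 2 n2929 = n3869 := (sb E20726 F25918)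
theorem F200567 : act 8 n2929 = n3873 := (sb E20726 F25921)
theorem F200568 : act 1 n705 = n924 := (sb E20732 (iv D1327))
theorem E21860 : n1882 = n1017 := ((((iv F5235)).symm.trans (sb E20732 (iv F9386)))).symm
theorem E21861 : n933 = n489 := (((F3711).symm.trans (sb E20732 F6770))).symm
theorem F200569 : act 9 n705 = n926 := (sb E20732 F6771)
theorem F200570 : act 1 n690 = n934 := (sb E20733 F6830)
theorem E21862 : n1932 = n1000 := ((((iv F5158)).symm.trans (sb E20733 D1932))).symm
theorem F200571 : act 9 n690 = n937 := (sb E20733 F6833)
theorem E21863 : n1880 = n1014 := (((iv F9378)).symm.trans (sb E20734 (iv D1458)))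
theorem E21864 : n931 = n488 := (((iv F4859)).symm.trans (sb E20735 (iv D708)))
theorem F200572 : act 2 n702 = n923 := (sb E20736 (iv D1325))
theorem F200573 : act 8 n702 = n924 := (sb E20736 F6761)
theorem E21866 : n1928 = n996 := (((iv F9579)).symm.trans (sb E20737 (iv D1435)))
theorem F200574 : act 2 n687 = n932 := (sb E20738 F6815)
theorem F200575 : act 8 n687 = n934 := (sb E20738 F6817)
theorem E21867 : n1036 = n911 := ((((iv D1309)).symm.trans (sb E20739 F7312))).symm
theorem E21868 : n501 = n444 := ((((iv D645)).symm.trans (sb E20740 F3717))).symm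
theorem E21869 : n922 = n496 := (((iv F4821)).symm.trans (sb E20741 (iv D718)))
theorem E21870 : n1938 = n1824 := (((iv F9617)).symm.trans (sb E20744 (iv F9098)))
theorem F200576 : act 0 n1268 = n937 := (sb E20745 F6846)
theorem E21871 : n936 = n898 := (((F6488).symm.trans (sb E20745 (iv D1346)))).symm
theorem F200577 : act 0 n5414 = n3877 := (sb E20759 F25958)
theorem E21887 : n3875 = n3806 := (((F25116).symm.trans (sb E20759 (iv D5598)))).symm
theorem E21889 : n4324 = n3852 := ((((iv F18303)).symm.trans (sb E20761 F28078))).symm
theorem E21890 : n4239 = n3879 := (((D3879).symm.trans (sb E20761 (iv D6130)))).symm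
theorem F200578 : act 8 n2934 = n3878 := (sb E20762 (iv D5605))
theorem F200579 : act 0 n1285 = n926 := (sb E20764 (iv D1330))
theorem E21891 : n1885 = n1845 := ((((iv F9204)).symm.trans (sb E20764 (iv F9398)))).symm
theorem E21892 : n4387 = n900 := ((((iv D1293)).symm.trans (sb E20766 F28515))).symm
theorem E21893 : n2115 = n904 := ((((iv F4737)).symm.trans (sb E20767 (iv D3042)))).symm
theorem E21895 : n1027 = n916 := ((((iv F4792)).symm.trans (sb E20768 F7390))).symm
theorem E21897 : n18414 = n2027 := ((((iv F9979)).symm.trans (sb E20770 (iv F198603)))).symm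
theorem E21899 : n8499 = n4164 := ((((iv F19537)).symm.trans (sb E20771 F54377))).symm
theorem E21900 : n8707 = n4171 := ((((iv F19561)).symm.trans (sb E20771 (iv F197771)))).symm
theorem E21901 : n8484 = n4139 := ((((iv F19452)).symm.trans (sb E20771 (iv D12327)))).symm
theorem F200580 : act 4 n5924 = n4097 := (sb E20774 F27276)
theorem F200581 : act 6 n5924 = n4095 := (sb E20774 F27277)
theorem F200582 : act 8 n5924 = n4094 := (sb E20774 (iv D5929))
theorem E21902 : n15762 = n7598 := ((D15762).symm.trans (sb E20775 F49083))
theorem F200583 : act 7 n10839 = n7595 := (sb E20775 (iv D11030))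
theorem E21904 : n4164 = n4147 := (((iv F196976)).symm.trans (sb E20777 F27285))
theorem F200584 : act 7 n5922 = n4097 := (sb E20777 F27286)
theorem F200585 : act 8 n5922 = n4096 := (sb E20777 (iv D5932))
theorem E21907 : n8450 = n4171 := ((((iv F19561)).symm.trans (sb E20779 (iv F38096)))).symm
theorem E21908 : n4029 = n1996 := ((((iv D2883)).symm.trans (sb E20779 F26897))).symm
theorem F200586 : act 2 n2843 = n4097 := (sb E20780 F26566)
theorem F200587 : act 8 n2843 = n3972 := (sb E20780 (iv D5747))
theorem E21910 : n8503 = n4143 := ((((iv F19465)).symm.trans (sb E20791 F53620))).symm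
theorem E21911 : n8499 = n4147 := (E21899).trans E21904
theorem E21913 : n6171 = n5651 := ((((iv F26181)).symm.trans (sb E20785 (iv F28239)))).symm
theorem E21914 : n5732 = n2954 := (((iv F26514)).symm.trans (sb E20785 (iv D4271)))
theorem E21915 : n6043 = n5827 := ((((iv F26881)).symm.trans (sb E20786 (iv F27674)))).symm
theorem F200590 : act 8 n4028 = n2883 := (sb E20786 (iv D4174))
theorem F200591 : act 8 n5744 = n4112 := (sb E20787 (iv D5957))
theorem F200592 : act 1 n2850 = n3972 := (sb E20788 F26542)
theorem F200593 : act 4 n2850 = n3989 := (sb E20788 F196078)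
theorem E21916 : n4022 = n2003 := (((F13740).symm.trans (sb E20788 F26544))).symm
theorem F200594 : act 7 n2850 = n3987 := (sb E20788 F196079)
theorem F200595 : act 9 n2850 = n3983 := (sb E20788 F26545)
theorem E21917 : n4177 = n4050 := ((((iv F19119)).symm.trans (sb E20789 F27384))).symm
theorem E21918 : n4055 = n4040 := (((F26605).symm.trans (sb E20790 F26651))).symm
theorem F200596 : act 9 n5758 = n3990 := (sb E20790 (iv D5773))
theorem E21919 : n38099 = n2025 := ((((iv F9971)).symm.trans (sb E20792 (iv F159507)))).symm
theorem E21922 : n8496 = n4144 := ((((iv F19468)).symm.trans (sb E20801 (iv F38276)))).symm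
theorem F200597 : act 9 n2866 = n4047 := (sb E20801 (iv D5860))
theorem E21923 : n4162 = n4144 := (((iv F19531)).symm.trans (sb E20795 (tr F54357 E21922)))
theorem E21924 : n8709 = n4170 := (((D4170).symm.trans (sb E20795 F197369))).symm
theorem E21925 : n8481 = n4137 := ((((iv F19444)).symm.trans (sb E20795 (iv D12322)))).symm
theorem F200598 : act 2 n2859 = n4047 := (sb E20796 F26963)
theorem F200599 : act 8 n2859 = n4040 := (sb E20796 (iv D5849))
theorem F200600 : act 1 n2866 = n4040 := (sb E20797 (iv F19082))
theorem E21926 : n8449 = n4170 := (((iv F196982)).symm.trans (sb E21025 (tr (iv F39069) E21924)))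
theorem E21927 : n7539 = n4128 := ((((iv F19406)).symm.trans (sb E20799 (iv F34302)))).symm
theorem E21936 : n4178 = n4049 := (((F26878).symm.trans (sb E21027 (iv D6049)))).symm
theorem E21937 : n4176 = n4051 := (((D4051).symm.trans (sb E20855 (iv D6047)))).symm
theorem F200601 : act 2 n5913 = n7640 := (sb E20808 F48245)
theorem F200602 : act 8 n5913 = n7487 := (sb E20808 F48248)
theorem F200603 : act 9 n5848 = n4054 := (sb E20809 (iv D5867))
theorem F200604 : act 0 n4046 = n5351 := (sb E20813 (iv F24808))
theorem E21938 : n2980 = n2801 := (((F19105).symm.trans (sb E20813 F19591))).symm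
theorem E21939 : n8740 = n7533 := (E21586).trans E21610
theorem F200605 : act 5 n5859 = n4112 := (sb E20816 (iv D5955))
theorem F200606 : act 1 n2961 = n3975 := (sb E20817 F195773)
theorem F200607 : act 3 n2961 = n3987 := (sb E20817 F26225)
theorem E21940 : n4025 = n2071 := (((F14190).symm.trans (sb E20817 (iv F195906)))).symm
theorem F200608 : act 6 n2961 = n3917 := (sb E20817 (iv D5663))
theorem F200609 : act 1 n2890 = n4028 := (sb E20818 F196097)
theorem F200610 : act 5 n2890 = n3987 := (sb E20818 (iv D5767))
theorem F200611 : act 9 n2890 = n4046 := (sb E20818 (iv F196324))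
theorem F200612 : act 8 n2936 = n3917 := (sb E20820 (iv D5664))
theorem F200613 : act 0 n5294 = n3983 := (sb E20821 F26585)
theorem F200614 : act 4 n5294 = n7460 := (sb E20821 F196051)
theorem F200615 : act 7 n5294 = n7458 := (sb E20821 (iv F196218))
theorem E21964 : n17937 = n2024 := (((D2024).symm.trans (sb E20839 F111157))).symm
theorem F200616 : act 1 n2864 = n4053 := (sb E20842 F26998)
theorem E21968 : n8498 = n4145 := (((D4145).symm.trans (sb E20842 (iv F38284)))).symm
theorem F200617 : act 9 n2864 = n4045 := (sb E20842 (iv D5858))
theorem E21969 : n4053 = n4039 := ((F200616).symm.trans (sb E20843 (iv F19078)))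
theorem E21970 : n4027 = n1995 := (((iv F19033)).symm.trans (sb E20843 F13837))
theorem F200618 : act 2 n2858 = n4045 := (sb E20844 F26954)
theorem F200619 : act 8 n2858 = n4039 := (sb E20844 (iv D5847))
theorem F200620 : act 1 n2795 = n1986 := (sb E20845 (iv F200373))
theorem F200621 : act 9 n2795 = n1945 := (sb E20845 (iv D2806))
theorem F200622 : act 2 n1383 = n1986 := (sb E20846 F13504)
theorem F200623 : act 8 n1383 = n1933 := (sb E20846 (iv D2788))
theorem F200624 : act 2 n2853 = n3673 := (sb E20847 F24220)
theorem E21972 : n7537 = n4127 := (((D4127).symm.trans (sb E20847 (iv F34294)))).symm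
theorem E21976 : n4021 = n2001 := (((D2001).symm.trans (sb E20850 (iv D5822)))).symm
theorem F200625 : act 1 n1388 = n1933 := (sb E20851 F13485)
theorem F200626 : act 9 n1388 = n1940 := (sb E20851 F13488)
theorem E21979 : n4034 = n3695 := (((iv F19059)).symm.trans (sb E20857 (iv F17560)))
theorem F200627 : act 0 n2558 = n1940 := (sb E20858 F13519)
theorem F200628 : act 1 n1450 = n1867 := (sb E20859 (iv D2684))
theorem E21980 : n3847 = n2085 := ((((iv F10232)).symm.trans (sb E20859 (iv F18278)))).symm
theorem F200629 : act 9 n1450 = n1869 := (sb E20859 F13068)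
theorem E21982 : n34313 = n34092 := (((D34092).symm.trans (sb E20860 (iv F144479)))).symm
theorem E21988 : n34165 = n15770 := ((((iv F68860)).symm.trans (sb E20863 (iv F143971)))).symm
theorem E21989 : n15770 = n7656 := ((((iv F34773)).symm.trans (sb E20871 (tr (iv F143969) E21988)))).symm
theorem E21991 : n15784 = n3652 := (((F24559).symm.trans (sb E20865 D15784))).symm
theorem F200630 : act 6 n5285 = n7477 := (sb E20865 F48330)
theorem E21996 : n34170 = n15773 := ((((iv F68867)).symm.trans (sb E20869 (iv F197492)))).symm
theorem E21997 : n34303 = n7740 := (((F49421).symm.trans (sb E20869 (iv F144448)))).symm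
theorem E21999 : n16182 = n15722 := (E21197).trans E21227
theorem E22002 : n15773 = n7654 := (((D7654).symm.trans (sb E20887 (tr (iv F197494) E21996)))).symm
theorem E22003 : n15771 = n14587 := ((D15771).symm.trans (sb E20873 (iv F63973)))
theorem F200631 : act 7 n10845 = n7600 := (sb E20873 (iv D11036))
theorem E22005 : n16090 = n15777 := ((((iv F68881)).symm.trans (sb E20875 F100366))).symm
theorem E22007 : n34146 = n16184 := ((((iv F70517)).symm.trans (sb E20875 (iv F143904)))).symm
theorem E22008 : n30972 = n16187 := (((D16187).symm.trans (sb E20875 (iv F131216)))).symm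
theorem E22010 : n23379 = n9876 := ((((iv F44255)).symm.trans (sb E20878 (iv D34086)))).symm
theorem E22012 : n16479 = n14320 := ((((iv F62895)).symm.trans (sb E20880 F102438))).symm
theorem E22014 : n34374 = n14326 := (((D14326).symm.trans (sb E20880 (tr (iv F146780) E21116)))).symm
theorem F200633 : act 4 n11024 = n15636 := (sb E20884 (iv F196204))
theorem E22027 : n34170 = n7654 := (E21996).trans E22002
theorem E22028 : n33124 = n16030 := (((D16030).symm.trans (sb E20888 D33124))).symm
theorem F200634 : act 6 n11023 = n15636 := (sb E20888 F196467)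
theorem E22031 : n16337 = n7749 := (((F49446).symm.trans (sb E20890 (iv F71107)))).symm
theorem E22032 : n16247 = n7662 := ((((iv D11130)).symm.trans (sb E20890 (iv F70769)))).symm
theorem E22033 : n33985 = n30831 := (((D30831).symm.trans (sb E20982 (iv F143263)))).symm
theorem E22034 : n16112 = n14608 := (((F91196).symm.trans (sb E20982 F99925))).symm
theorem E22035 : n33986 = n30833 := (((D30833).symm.trans (sb E20982 D33986))).symm
theorem E22036 : n15755 = n14608 := ((D15755).symm.trans (sb E20893 (tr (iv F70268) E22034)))
theorem E22037 : n16110 = n15754 := ((((iv F68802)).symm.trans (sb E20893 (iv F70264)))).symm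
theorem E22041 : n33954 = n33204 := ((((iv F140182)).symm.trans (sb E20895 D33954))).symm
theorem E22042 : n33205 = n30841 := ((D33205).symm.trans (sb E20895 (iv F130702)))
theorem E22043 : n16234 = n7556 := (((F48307).symm.trans (sb E20896 F100418))).symm
theorem E22046 : n34439 = n7737 := ((((iv F35080)).symm.trans (sb E20898 (iv F144909)))).symm
theorem F200636 : act 3 n21166 = n15636 := (sb E20904 (iv D22761))
theorem E22053 : n33173 = n30831 := (((D30831).symm.trans (sb E20904 D33173))).symm
theorem E22054 : n30833 = n30356 := ((D30833).symm.trans (sb E20904 (iv F128805)))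
theorem E22056 : n16335 = n7751 := (((D7751).symm.trans (sb E20905 (iv D23794)))).symm
theorem E22057 : n8661 = n7704 := ((((iv F34954)).symm.trans (sb E20907 (iv D12583)))).symm
theorem E22058 : n7704 = n7550 := (((F48287).symm.trans (sb E20949 (tr (iv F197613) E22057)))).symm
theorem F200637 : act 1 n10841 = n7640 := (sb E20909 F49288)
theorem F200638 : act 3 n5248 = n7477 := (sb E20919 (iv D10855))
theorem E22075 : n7662 = n7566 := ((((iv F34407)).symm.trans (sb E20922 (tr (iv F70765) E22032)))).symm
theorem E22077 : n7570 = n3692 := (((iv F34424)).symm.trans (sb E20924 F24570))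
theorem F200639 : act 5 n5225 = n3653 := (sb E20924 (iv D5288))
theorem E22097 : n16244 = n7563 := ((((iv F34396)).symm.trans (sb E20942 (iv F70749)))).symm
theorem E22098 : n16247 = n7566 := (E22032).trans E22075
theorem E22100 : n18355 = n7571 := (((D7571).symm.trans (sb E20943 (iv F79241)))).symm
theorem E22102 : n8666 = n7709 := ((((iv F34973)).symm.trans (sb E20946 (iv D12593)))).symm
theorem E22103 : n8661 = n7550 := (E22057).trans E22058
theorem E22116 : n33956 = n33207 := ((((iv F140195)).symm.trans (sb E20962 D33956))).symm
theorem E22117 : n16092 = n15779 := (((F97802).symm.trans (sb E20962 F99839))).symm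
theorem E22118 : n33208 = n30843 := ((D33208).symm.trans (sb E20962 (iv F130712)))
theorem E22119 : n7682 = n7560 := (((F48322).symm.trans (sb E20963 F49208))).symm
theorem E22120 : n15780 = n14613 := ((D15780).symm.trans (sb E20963 (iv F64072)))
theorem E22121 : n33177 = n14558 := (E21627).trans E21645
theorem E22122 : n21171 = n20843 := ((((iv F89919)).symm.trans (iv (sb E20964 (tr F97803 E21650))))).symm
theorem E22123 : n22786 = n20843 := (E20964).trans E22122
theorem E22124 : n30843 = n28782 := ((((iv F122215)).symm.trans (sb E22123 (tr (iv F140199) E22118)))).symm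
theorem E22125 : n30841 = n30348 := ((((iv F128770)).symm.trans (sb E22123 (tr (iv F140186) E22042)))).symm
theorem E22126 : n14613 = n14396 := (((F89922).symm.trans (sb E22123 (tr F97806 E22120)))).symm
theorem E22129 : n16223 = n7746 := (((F49438).symm.trans (sb E20965 F100377))).symm
theorem E22130 : n30975 = n16190 := (((D16190).symm.trans (sb E20965 (iv F131227)))).symm
theorem E22131 : n33208 = n28782 := (E22118).trans E22124
theorem E22132 : n16220 = n7744 := ((((iv F35100)).symm.trans (sb E20967 (iv F70650)))).symm
theorem E22133 : n14702 = n7747 := (((D7747).symm.trans (sb E20967 (iv F64372)))).symm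
theorem E22134 : n15780 = n14396 := (E22120).trans E22126
theorem E22135 : n16115 = n14609 := (((iv F70277)).symm.trans (sb E20968 (iv D21260)))
theorem E22137 : n33989 = n30358 := (((D30358).symm.trans (sb E21000 (iv F143277)))).symm
theorem E22138 : n33986 = n30356 := (E22035).trans E22054
theorem E22139 : n14609 = n14400 := (((F89937).symm.trans (sb E21000 (tr F99937 E22135)))).symm
theorem E22140 : n30866 = n30359 := (((D30359).symm.trans (sb E21000 (iv F130807)))).symm
theorem E22148 : n7681 = n7558 := ((((iv F34378)).symm.trans (sb E20976 (iv F34861)))).symm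
theorem E22149 : n16217 = n7739 := ((((iv F35086)).symm.trans (sb E20977 (iv F70639)))).symm
theorem E22150 : n7695 = n7677 := (((iv F34918)).symm.trans (sb E20977 (iv D11150)))
theorem E22151 : n7697 = n7545 := (((D7545).symm.trans (sb E20987 (iv F34923)))).symm
theorem E22152 : n7677 = n7544 := ((((iv F34323)).symm.trans (sb E20987 (tr (iv F34916) E22150)))).symm
theorem E22154 : n7545 = n6973 := (((F44977).symm.trans (sb E20990 (tr F49263 E22151)))).symm
theorem E22155 : n16115 = n14400 := (E22135).trans E22139
theorem E22157 : n30358 = n29070 := (((D29070).symm.trans (sb E20981 (tr D33989 E22137)))).symm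
theorem F200640 : act 3 n10055 = n7465 := (sb E20983 (iv D10836))
theorem E22159 : n8660 = n7702 := ((((iv F34946)).symm.trans (sb E20984 (iv D12581)))).symm
theorem E22160 : n7702 = n7548 := ((((iv F34338)).symm.trans (sb E21015 (tr D8660 E22159)))).symm
theorem F200641 : act 1 n5207 = n3673 := (sb E20986 F24662)
theorem E22161 : n7695 = n7544 := (E22150).trans E22152
theorem F200642 : act 8 n20847 = n14547 := (sb E20989 (iv D21167))
theorem E22164 : n16238 = n7559 := (((F48318).symm.trans (sb E20991 F100434))).symm
theorem E22166 : n7697 = n6973 := (E22151).trans E22154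
theorem E22167 : n16236 = n7557 := ((((iv F34374)).symm.trans (sb E20992 (iv F70713)))).symm
theorem E22185 : n16246 = n7564 := (((D7564).symm.trans (sb E21009 (iv F70759)))).symm
theorem E22187 : n8677 = n7573 := (((D7573).symm.trans (sb E21011 (iv D12610)))).symm
theorem E22188 : n8660 = n7548 := (E22159).trans E22160
theorem E22189 : n8665 = n7711 := ((((iv F34980)).symm.trans (sb E21014 D8665))).symm
theorem F200643 : act 4 n2886 = n4054 := (sb E21028 F27016)
theorem F200644 : act 0 n5319 = n4047 := (sb E21032 F26938)
theorem E22198 : n8472 = n7709 := ((((iv F34971)).symm.trans (sb E21032 (iv F38181)))).symm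
theorem E22200 : n8699 = n8506 := (((D8506).symm.trans (sb E21034 (iv D12642)))).symm
theorem E22201 : n8495 = n4219 := ((D8495).symm.trans (sb E21036 (iv F197721)))
theorem E22203 : n4014 = n2068 := (((iv F18982)).symm.trans (sb E21041 (iv D2978)))
theorem F200645 : act 0 n2640 = n1869 := (sb E21103 (iv D2687))
theorem E22265 : n3850 = n3807 := ((((iv F18082)).symm.trans (sb E21103 (iv F18293)))).symm
theorem E22266 : n3845 = n2080 := (((iv F18268)).symm.trans (sb E21105 (iv D2995)))
theorem F200646 : act 2 n1445 = n1866 := (sb E21106 (iv D2682))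
theorem F200647 : act 8 n1445 = n1867 := (sb E21106 F13058)
theorem E22269 : n2114 = n1856 := ((((iv D2668)).symm.trans (sb E21108 F14315))).symm
theorem E22270 : n1864 = n1026 := (((iv F9300)).symm.trans (sb E21109 F7386))
theorem F200648 : act 2 n711 = n917 := (sb E21110 F6719)
theorem F200649 : act 0 n5317 = n4045 := (sb E21112 F26931)
theorem E22273 : n8473 = n7711 := ((((iv F34980)).symm.trans (sb E21112 D8473))).symm
theorem E22276 : n8507 = n4201 := ((D8507).symm.trans (sb E21114 F27501))
theorem E22277 : n8497 = n4191 := ((D8497).symm.trans (sb E21115 F27452))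
theorem E22278 : n34914 = n14326 := (E21116).trans E22014
theorem E22279 : n24085 = n9909 := (((F62923).symm.trans (sb E22278 F146779))).symm
theorem E22280 : n23568 = n23530 := ((((iv F100747)).symm.trans (sb E21119 F144660))).symm
theorem E22281 : n23432 = n22967 := ((((iv F98489)).symm.trans (sb E21121 F197512))).symm
theorem E22282 : n45078 = n23574 := (((D23574).symm.trans (sb E21121 (iv F188047)))).symm
theorem E22283 : n23307 = n21169 := ((((iv F91206)).symm.trans (sb E21607 F143112))).symm
theorem E22284 : n23354 = n20826 := ((((iv F89847)).symm.trans (sb E21607 F197484))).symm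
theorem E22285 : n22967 = n21181 := (((D21181).symm.trans (sb E21607 (tr F143114 E22281)))).symm
theorem E22286 : n45055 = n21182 := (((D21182).symm.trans (sb E21607 F197486))).symm
theorem E22287 : n11358 = n9872 := ((((iv F44240)).symm.trans (sb E21129 (iv F200101)))).symm
theorem E22288 : n11369 = n9806 := ((((iv F43950)).symm.trans (sb E21129 F70085))).symm
theorem E22289 : n11134 = n9879 := (((D9879).symm.trans (sb E21129 F70087))).symm
theorem E22290 : n11337 = n9863 := ((((iv F44203)).symm.trans (sb E21129 (iv F200063)))).symm
theorem E22291 : n24025 = n9808 := ((((iv F43958)).symm.trans (sb E21130 (iv F102695)))).symm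
theorem E22292 : n11529 = n9784 := ((((iv F43845)).symm.trans (sb E21130 F71890))).symm
theorem E22299 : n24153 = n9848 := (((D9848).symm.trans (sb E21135 F147842))).symm
theorem E22300 : n11434 = n9845 := ((((iv F44113)).symm.trans (sb E21137 (iv D16616)))).symm
theorem E22302 : n24112 = n9842 := ((((iv F44104)).symm.trans (sb E21140 F147474))).symm
theorem E22304 : n22732 = n10031 := ((((iv F44883)).symm.trans (sb E21143 F139781))).symm
theorem E22305 : n22877 = n4804 := (((F31646).symm.trans (sb E21143 F139783))).symm
theorem E22306 : n44198 = n10040 := (((D10040).symm.trans (sb E21143 (iv F184637)))).symm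
theorem E22307 : n23384 = n20854 := (((D20854).symm.trans (sb E21144 F143664))).symm
theorem E22308 : n23380 = n20855 := (((D20855).symm.trans (sb E21144 F143665))).symm
theorem E22309 : n23351 = n20845 := ((((iv F89926)).symm.trans (sb E21145 (iv F100083)))).symm
theorem E22310 : n20857 = n11119 := ((D20857).symm.trans (sb E21145 F70034))
theorem E22311 : n23372 = n20858 := (((D20858).symm.trans (sb E21145 (iv F100177)))).symm
theorem E22312 : n23564 = n9921 := (((D9921).symm.trans (sb E21146 F197421))).symm
theorem E22313 : n44384 = n9922 := (((D9922).symm.trans (sb E21146 (iv F185395)))).symm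
theorem E22314 : n23371 = n20859 := (((D20859).symm.trans (sb E21147 (iv D34072)))).symm
theorem E22315 : n11400 = n4731 := ((((iv F22161)).symm.trans (sb E21148 F72004))).symm
theorem E22319 : n23533 = n9921 := (((iv F100758)).symm.trans (sb E21149 (tr (iv D34363) E22312)))
theorem E22320 : n23462 = n21210 := ((((iv F91380)).symm.trans (sb E21151 F144129))).symm
theorem E22323 : n23459 = n11101 := ((((iv F49352)).symm.trans (sb E21154 (iv F100505)))).symm
theorem E22324 : n23476 = n5329 := (((F34756).symm.trans (sb E21154 (iv F100558)))).symm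
theorem E22325 : n11080 = n11066 := ((((iv F49227)).symm.trans (sb E21154 (iv D16120)))).symm
theorem E22327 : n22924 = n22894 := (((iv F98338)).symm.trans (sb E21157 (iv F98234)))
theorem E22328 : n22937 = n21210 := ((D22937).symm.trans (sb E21157 (tr (iv F100512) E22320)))
theorem E22329 : n22895 = n11101 := (((iv F196468)).symm.trans (sb E21157 (tr (iv F100507) E22323)))
theorem E22330 : n11120 = n10833 := ((((iv D15752)).symm.trans (sb E21157 F70255))).symm
theorem E22331 : n22938 = n11071 := ((D22938).symm.trans (sb E21157 (iv D16107)))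
theorem E22332 : n22857 = n5277 := (((F34755).symm.trans (sb E21158 (iv F98089)))).symm
theorem F200682 : act 4 n7650 = n10841 := (sb E21158 (iv F196469))
theorem E22333 : n10934 = n5329 := (((F34756).symm.trans (sb E21158 F68729))).symm
theorem F200683 : act 6 n7650 = n10839 := (sb E21158 F196196)
theorem E22334 : n10822 = n5274 := ((((iv D7650)).symm.trans (sb E21158 F68730))).symm
theorem F200684 : act 8 n7650 = n10821 := (sb E21158 (iv D15735))
theorem F200685 : act 1 n7466 = n5292 := (sb E21159 F34802)
theorem E22336 : n11135 = n10698 := ((((iv F47687)).symm.trans (sb E21159 (iv F49463)))).symm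
theorem F200686 : act 9 n7466 = n5284 := (sb E21159 (iv D7666))
theorem F200687 : act 0 n7630 = n10856 := (sb E21160 F68832)
theorem F200688 : act 3 n7630 = n22953 := (sb E21160 (iv F98446))
theorem F200689 : act 9 n7630 = n10839 := (sb E21160 (iv D15763))
theorem E22337 : n11093 = n11071 := ((((iv F49244)).symm.trans (sb E21161 (iv F49327)))).symm
theorem E22338 : n22953 = n11003 := ((F200688).symm.trans (sb E21161 F196241))
theorem F200690 : act 7 n7630 = n11000 := (sb E21161 F196242)
theorem E22339 : n22894 = n11059 := (((F69776).symm.trans (sb E21163 F139858))).symm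
theorem E22340 : n22924 = n11059 := (E22327).trans E22339
theorem F200691 : act 7 n15752 = n11024 := (sb E21165 (iv D16033))
theorem F200692 : act 4 n15992 = n11006 := (sb E21166 F69831)
theorem F200693 : act 8 n15992 = n11004 := (sb E21166 (iv D16003))
theorem E22341 : n23563 = n10923 := ((((iv F48629)).symm.trans (sb E21235 (iv F100865)))).symm
theorem E22342 : n11256 = n10930 := ((((iv F48655)).symm.trans (sb E21235 F70547))).symm
theorem E22344 : n22964 = n11072 := (((F68692).symm.trans (sb E21168 (iv F98481)))).symm
theorem E22345 : n23530 = n20918 := ((((iv F90229)).symm.trans (sb E21168 (tr (iv F100877) E22280)))).symm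
theorem E22346 : n11123 = n10834 := ((((iv F196477)).symm.trans (sb E21168 F70499))).symm
theorem E22347 : n11118 = n10846 := (((F68695).symm.trans (sb E21168 (iv D16177)))).symm
theorem F200694 : act 1 n7467 = n5294 := (sb E21169 F34809)
theorem E22348 : n5443 = n5155 := (((F34000).symm.trans (sb E21169 F34810))).symm
theorem E22349 : n5346 = n5206 := (((F34001).symm.trans (sb E21169 F34811))).symm
theorem E22350 : n10810 = n5286 := (((iv F48173)).symm.trans (sb E21169 (iv D7668)))
theorem E22351 : n10852 = n5345 := (((iv F196456)).symm.trans (sb E21170 F35060))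
theorem E22352 : n11219 = n10923 := ((((iv F48629)).symm.trans (sb E21170 (iv F49794)))).symm
theorem E22353 : n5460 = n5196 := (((F34264).symm.trans (sb E21170 F35062))).symm
theorem F200695 : act 6 n7478 = n5284 := (sb E21171 F34797)
theorem F200696 : act 8 n7478 = n5283 := (sb E21171 (iv D7664))
theorem E22357 : n23432 = n21181 := (E22281).trans E22285
theorem E22359 : n11121 = n10844 := ((((iv F196458)).symm.trans (sb E21173 F70410))).symm
theorem F200697 : act 8 n15616 = n11024 := (sb E21174 (iv D16034))
theorem F200698 : act 2 n15745 = n10856 := (sb E21176 F68864)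
theorem E22361 : n10849 = n10831 := ((((iv D15745)).symm.trans (sb E21176 F68865))).symm
theorem F200699 : act 9 n15745 = n10845 := (sb E21176 (iv D15772))
theorem F200700 : act 6 n15991 = n11006 := (sb E21177 F69840)
theorem F200701 : act 8 n15991 = n11005 := (sb E21177 (iv D16005))
theorem E22363 : n22899 = n10056 := (((F63809).symm.trans (sb E21178 F139878))).symm
theorem E22364 : n22897 = n11060 := (((D11060).symm.trans (sb E21180 (iv F98249)))).symm
theorem E22365 : n10816 = n5271 := (((F34630).symm.trans (sb E21180 (iv D15727)))).symm
theorem F200702 : act 1 n7592 = n11006 := (sb E21181 F68249)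
theorem F200703 : act 8 n7592 = n10742 := (sb E21181 (iv D15617))
theorem E22366 : n22783 = n20842 := (((F196650).symm.trans (sb E21182 F140175))).symm
theorem F200704 : act 2 n15632 = n10771 := (sb E21183 F68391)
theorem F200705 : act 8 n15632 = n10997 := (sb E21183 (iv F200442))
theorem F200706 : act 9 n15632 = n10764 := (sb E21183 (iv D15650))
theorem E22367 : n22969 = n11070 := (((D11070).symm.trans (sb E21184 F140166))).symm
theorem E22368 : n23113 = n5304 := (((F34665).symm.trans (sb E21186 F140735))).symm
theorem E22369 : n22941 = n11073 := (((D11073).symm.trans (sb E21186 F140737))).symm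
theorem E22371 : n22943 = n11074 := (((D11074).symm.trans (sb E21187 (iv F98407)))).symm
theorem F200707 : act 9 n7626 = n10835 := (sb E21187 (iv D15756))
theorem E22372 : n10807 = n5280 := (((D5280).symm.trans (sb E21188 (iv D15713)))).symm
theorem E22373 : n11074 = n10080 := (((F63916).symm.trans (sb E21625 (tr F140060 E22371)))).symm
theorem F200708 : act 0 n7601 = n10742 := (sb E21190 F68206)
theorem E22374 : n20818 = n11038 := (((D11038).symm.trans (sb E21190 (iv F89812)))).symm
theorem F200709 : act 4 n7601 = n10763 := (sb E21190 F196172)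
theorem F200710 : act 6 n7601 = n10762 := (sb E21190 F196173)
theorem F200711 : act 9 n7601 = n10755 := (sb E21190 F68209)
theorem E22375 : n11100 = n10814 := (((F68243).symm.trans (sb E21191 F69956))).symm
theorem F200712 : act 8 n15615 = n11023 := (sb E21191 (iv D16032))
theorem E22376 : n23504 = n11069 := (((F69825).symm.trans (sb E21192 F196752))).symm
theorem F200713 : act 2 n34045 = n24034 := (sb E21194 F143696)
theorem E22379 : n34045 = n30322 := ((((iv F128665)).symm.trans (iv (sb E21194 (tr (iv D34095) E22307))))).symm
theorem E22380 : n23576 = n23525 := ((((iv F100733)).symm.trans (sb E21195 F143692))).symm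
theorem F200718 : act 9 n34037 = n45127 := (sb E21196 (iv F188221))
theorem E22381 : n23525 = n20947 := ((((iv F197035)).symm.trans (sb E21999 (tr (iv F100894) E22380)))).symm
theorem E22382 : n11245 = n10952 := ((((iv F197150)).symm.trans (sb E21999 F70510))).symm
theorem E22383 : n23464 = n22892 := (((D22892).symm.trans (sb E21999 (iv F100520)))).symm
theorem E22384 : n22892 = n11099 := (((D11099).symm.trans (sb E21198 (tr F196745 E22383)))).symm
theorem F200719 : act 1 n7617 = n10835 := (sb E21200 F68776)
theorem E22385 : n22927 = n10056 := ((((iv F44981)).symm.trans (sb E21200 D22927))).symm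
theorem E22386 : n22926 = n11060 := (((D11060).symm.trans (sb E21200 (iv F98350)))).symm
theorem F200720 : act 8 n7617 = n10831 := (sb E21200 (iv D15747))
theorem E22387 : n11103 = n9900 := ((((iv F44362)).symm.trans (sb E21201 D11103))).symm
theorem E22391 : n11206 = n5304 := (((F34665).symm.trans (sb E21203 F70371))).symm
theorem E22392 : n11094 = n11073 := (((D11073).symm.trans (sb E21203 (iv D16139)))).symm
theorem F200721 : act 0 n7626 = n10831 := (sb E21204 (iv F48249))
theorem E22393 : n23568 = n20918 := (E22280).trans E22345
theorem E22394 : n23810 = n11216 := ((((iv F49782)).symm.trans (sb E21206 F198257))).symm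
theorem E22396 : n23098 = n11221 := (((D11221).symm.trans (sb E21206 (iv D33674)))).symm
theorem E22397 : n23464 = n11099 := (E22383).trans E22384
theorem E22398 : n11221 = n5211 := (((F34020).symm.trans (sb E21240 (tr (iv F197921) E22396)))).symm
theorem E22399 : n11117 = n10847 := (((D10847).symm.trans (sb E21240 (iv D16175)))).symm
theorem E22400 : n22943 = n10080 := (E22371).trans E22373
theorem E22401 : n23382 = n10843 := (((D10843).symm.trans (sb E21210 D23382))).symm
theorem E22402 : n20903 = n10848 := (((D10848).symm.trans (sb E21212 (iv F90173)))).symm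
theorem F200722 : act 3 n14572 = n11006 := (sb E21213 (iv D16006))
theorem E22403 : n23312 = n21202 := (((D21202).symm.trans (sb E21213 D23312))).symm
theorem E22404 : n21204 = n21183 := ((D21204).symm.trans (sb E21213 (iv F91272)))
theorem E22405 : n44248 = n21170 := (((D21170).symm.trans (sb E21214 (iv F184837)))).symm
theorem E22407 : n23387 = n20844 := (((D20844).symm.trans (sb E21215 (iv F100222)))).symm
theorem E22410 : n23993 = n9875 := (((D9875).symm.trans (sb E21216 (iv F102559)))).symm
theorem E22412 : n23994 = n9877 := (((D9877).symm.trans (sb E21216 D23994))).symm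
theorem E22413 : n11338 = n9861 := ((((iv F44196)).symm.trans (sb E21216 (iv D16482)))).symm
theorem E22414 : n23535 = n9920 := (((F62972).symm.trans (sb E21217 F143541))).symm
theorem E22415 : n23356 = n20825 := ((((iv F89846)).symm.trans (sb E21217 (iv D34052)))).symm
theorem E22419 : n20821 = n11357 := ((F196139).symm.trans (sb E21221 F70043))
theorem E22420 : n22773 = n21231 := ((D22773).symm.trans (sb E21221 (iv F91465)))
theorem F200723 : act 7 n7655 = n10763 := (sb E21222 (iv D15647))
theorem F200724 : act 0 n15649 = n21166 := (sb E21224 (iv F197014))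
theorem E22421 : n22782 = n21223 := ((D22782).symm.trans (sb E21224 (iv F91442)))
theorem F200725 : act 6 n15649 = n11033 := (sb E21224 (iv D16046))
theorem E22423 : n11423 = n9919 := ((((iv F44428)).symm.trans (sb E21228 (iv F50666)))).symm
theorem E22425 : n5470 = n5209 := (((F34013).symm.trans (sb E21228 F35711))).symm
theorem E22427 : n10708 = n5442 := ((F196187).symm.trans (sb E21228 (iv D7883)))
theorem F200726 : act 1 n7549 = n5351 := (sb E21229 F35127)
theorem E22428 : n11257 = n10929 := ((((iv F197153)).symm.trans (sb E21229 (iv F49927)))).symm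
theorem E22429 : n11191 = n10963 := (((D10963).symm.trans (sb E21229 (iv F49687)))).symm
theorem E22430 : n11107 = n10963 := ((D11107).symm.trans (sb E21238 (tr F70308 E22429)))
theorem E22431 : n11083 = n11064 := ((((iv F49218)).symm.trans (sb E21238 (iv D16123)))).symm
theorem F200727 : act 8 n7476 = n5285 := (sb E21231 (iv D7667))
theorem F200728 : act 7 n7648 = n10841 := (sb E21232 F196721)
theorem F200729 : act 8 n7648 = n10819 := (sb E21232 (iv D15732))
theorem E22434 : n23706 = n5327 := ((((iv D7729)).symm.trans (sb E21234 (iv F101377)))).symm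
theorem E22435 : n11255 = n11230 := (((D11230).symm.trans (sb E21234 (iv D16370)))).symm
theorem E22436 : n12284 = n5299 := ((((iv F24614)).symm.trans (sb E21236 (iv D17875)))).symm
theorem E22437 : n23098 = n5211 := (E22396).trans E22398
theorem E22438 : n11230 = n5215 := ((((iv F24277)).symm.trans (sb E21261 (tr F70538 E22435)))).symm
theorem E22439 : n11129 = n5218 := (((D5218).symm.trans (sb E21261 (iv D16192)))).symm
theorem F200730 : act 8 n7620 = n11079 := (sb E21239 (iv D16118))
theorem F200731 : act 4 n7479 = n5285 := (sb E21242 F34794)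
theorem F200732 : act 7 n7479 = n5283 := (sb E21242 (iv D7663))
theorem E22441 : n11079 = n10858 := (((D10858).symm.trans (sb E21242 (iv F49272)))).symm
theorem E22442 : n11356 = n10703 := ((((iv F47708)).symm.trans (sb E21243 (iv F50393)))).symm
theorem F200733 : act 7 n7380 = n5408 := (sb E21243 F35512)
theorem E22443 : n10709 = n5407 := ((D10709).symm.trans (sb E21243 (iv D7834)))
theorem F200734 : act 0 n7453 = n5284 := (sb E21244 F34749)
theorem F200735 : act 8 n7453 = n5273 := (sb E21244 (iv D7649))
theorem E22444 : n5427 = n5146 := ((((iv F23992)).symm.trans (sb E21245 (iv D7863)))).symm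
theorem F200736 : act 8 n7480 = n5255 := (sb E21247 (iv F200457))
theorem F200737 : act 0 n7407 = n5408 := (sb E21248 F35439)
theorem E22445 : n11344 = n10622 := ((((iv F47363)).symm.trans (sb E21248 (iv F50338)))).symm
theorem E22446 : n10732 = n5396 := (((iv F47834)).symm.trans (sb E21248 (iv D7818)))
theorem E22447 : n11353 = n10632 := (((iv F50381)).symm.trans (sb E21249 F195800))
theorem E22448 : n9859 = n5402 := (((F35470).symm.trans (sb E21249 (iv D14316)))).symm
theorem F200738 : act 4 n7332 = n5408 := (sb E21250 F35498)
theorem E22450 : n11365 = n5064 := ((((iv D7332)).symm.trans (sb E21250 (iv F50431)))).symm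
theorem E22451 : n10618 = n5406 := (((iv F195732)).symm.trans (sb E21250 F35499))
theorem E22452 : n10636 = n5405 := ((D10636).symm.trans (sb E21250 (iv D7831)))
theorem F200739 : act 0 n3737 = n5113 := (sb E21251 F33735)
theorem E22454 : n5142 = n2603 := (((F17763).symm.trans (sb E21251 F33737))).symm
theorem F200740 : act 9 n3737 = n5119 := (sb E21251 F33738)
theorem F200741 : act 1 n7416 = n5416 := (sb E21253 F35513)
theorem F200742 : act 9 n7416 = n5408 := (sb E21253 (iv D7835))
theorem F200743 : act 0 n3650 = n5144 := (sb E21254 F33929)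
theorem F200744 : act 9 n3650 = n5153 := (sb E21254 F33932)
theorem E22456 : n10588 = n5492 := (((iv F47201)).symm.trans (sb E21255 F35501))
theorem E22457 : n10638 = n5440 := ((D10638).symm.trans (sb E21255 F35502))
theorem F200745 : act 3 n7423 = n5284 := (sb E21256 (iv D7665))
theorem F200746 : act 1 n3564 = n2610 := (sb E21257 F17867)
theorem E22459 : n5421 = n4721 := ((((iv F22129)).symm.trans (sb E21258 (iv D7855)))).symm
theorem E22460 : n5136 = n2596 := (((iv F23952)).symm.trans (sb E21259 (iv D3750)))
theorem F200747 : act 8 n3643 = n5144 := (sb E21260 (iv D7455))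
theorem E22462 : n23576 = n20947 := (E22380).trans E22381
theorem E22463 : n23042 = n1125 := (((F8016).symm.trans (sb E21267 (iv D33590)))).symm
theorem E22465 : n10817 = n4800 := ((((iv F22456)).symm.trans (sb E21269 F68653))).symm
theorem E22467 : n22879 = n4561 := ((((iv F21375)).symm.trans (sb E21269 D22879))).symm
theorem E22468 : n10913 = n2320 := (((F15930).symm.trans (sb E21269 F68654))).symm
theorem E22469 : n20908 = n4805 := (((D4805).symm.trans (sb E21269 (iv F90192)))).symm
theorem E22472 : n23099 = n4759 := (((D4759).symm.trans (sb E21271 (iv F99044)))).symm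
theorem E22473 : n21033 = n4760 := (((D4760).symm.trans (sb E21271 (iv F90673)))).symm
theorem E22474 : n20904 = n9923 := (((D9923).symm.trans (sb E21272 (iv D30440)))).symm
theorem E22476 : n5459 = n2285 := ((((iv F11229)).symm.trans (sb E21273 F35774))).symm
theorem E22481 : n5340 = n4755 := ((((iv F22267)).symm.trans (sb E21274 F35036))).symm
theorem E22482 : n11225 = n4523 := ((((iv F21195)).symm.trans (sb E21274 (iv F49818)))).symm
theorem E22483 : n11223 = n4759 := (((D4759).symm.trans (sb E21274 (iv F49809)))).symm
theorem E22489 : n11128 = n9914 := ((((iv F44409)).symm.trans (sb E21278 F70436))).symm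
theorem E22490 : n11405 = n4730 := (((F31319).symm.trans (sb E21278 F70437))).symm
theorem E22491 : n23539 = n9424 := ((((iv F42264)).symm.trans (sb E21278 (iv F100781)))).symm
theorem E22493 : n2621 = n2284 := ((((iv F11224)).symm.trans (sb E21279 F17920))).symm
theorem E22494 : n2657 = n1109 := ((((iv D1590)).symm.trans (sb E21279 F17922))).symm
theorem E22495 : n5457 = n2286 := (((D2286).symm.trans (sb E21279 (iv F25297)))).symm
theorem E22496 : n2613 = n2280 := ((((iv F11209)).symm.trans (sb E21279 (iv D3774)))).symm
theorem E22502 : n22734 = n9494 := ((((iv F42569)).symm.trans (sb E21283 D22734))).symm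
theorem E22503 : n20828 = n10032 := (((D10032).symm.trans (sb E21283 (iv F89859)))).symm
theorem F200757 : act 1 n3642 = n5259 := (sb E21284 F33944)
theorem E22504 : n5191 = n2543 := (((F17368).symm.trans (sb E21284 F33947))).symm
theorem F200758 : act 8 n3642 = n5143 := (sb E21284 (iv D7452))
theorem E22507 : n20819 = n10041 := (((D10041).symm.trans (sb E21287 (iv D30315)))).symm
theorem E22509 : n10912 = n2547 := (((D2547).symm.trans (sb E21288 (iv F48582)))).symm
theorem E22510 : n5186 = n2548 := (((D2548).symm.trans (sb E21288 (iv D7517)))).symm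
theorem F200759 : act 0 n3647 = n5143 := (sb E21289 F33925)
theorem E22511 : n9896 = n5281 := (((D5281).symm.trans (sb E21289 (iv F44345)))).symm
theorem F200760 : act 9 n3647 = n5152 := (sb E21289 F33928)
theorem F200761 : act 0 n7602 = n9860 := (sb E21290 F62864)
theorem E22512 : n9858 = n5403 := (((F34569).symm.trans (sb E21290 (iv D14313)))).symm
theorem E22513 : n19774 = n11040 := (((D11040).symm.trans (sb E21290 (iv F85366)))).symm
theorem F200762 : act 9 n7602 = n9869 := (sb E21290 F62868)
theorem E22514 : n10851 = n9912 := (((D9912).symm.trans (sb E21291 (iv F48319)))).symm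
theorem E22518 : n5422 = n4720 := ((((iv F22126)).symm.trans (sb E21292 (iv D7857)))).symm
theorem E22519 : n23538 = n9423 := (((D9423).symm.trans (sb E21293 (iv F100778)))).symm
theorem E22522 : n41882 = n20861 := (((D20861).symm.trans (sb E21295 (iv F175064)))).symm
theorem E22523 : n44192 = n20862 := (((D20862).symm.trans (sb E21295 D44192))).symm
theorem E22524 : n23096 = n5210 := (((D5210).symm.trans (sb E21296 (iv F99030)))).symm
theorem E22525 : n10908 = n5212 := (((D5212).symm.trans (sb E21296 (iv D15863)))).symm
theorem E22526 : n9953 = n5213 := (((D5213).symm.trans (sb E21297 (iv F44566)))).symm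
theorem E22527 : n5214 = n5202 := ((D5214).symm.trans (sb E21297 F34203))
theorem F200763 : act 0 n7474 = n10055 := (sb E21298 F63107)
theorem E22528 : n19815 = n10850 := (((D10850).symm.trans (sb E21298 (iv F85553)))).symm
theorem F200764 : act 2 n7463 = n5161 := (sb E21299 F34028)
theorem F200765 : act 9 n7463 = n5157 := (sb E21299 (iv D7475))
theorem F200766 : act 0 n15651 = n19983 := (sb E21300 F122079)
theorem E22529 : n41881 = n22784 := (((D22784).symm.trans (sb E21300 D41881))).symm
theorem E22530 : n22785 = n19790 := ((D22785).symm.trans (sb E21300 F122085))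
theorem F200767 : act 9 n14329 = n10765 := (sb E21301 (iv D15652))
theorem F200768 : act 1 n7330 = n5414 := (sb E21303 F35504)
theorem E22532 : n5493 = n5063 := ((((iv D7330)).symm.trans (sb E21303 F35506))).symm
theorem E22533 : n23987 = n9804 := ((((iv F43943)).symm.trans (sb E21304 (iv F102536)))).symm
theorem E22534 : n11494 = n4678 := ((((iv D6765)).symm.trans (sb E21304 F71694))).symm
theorem E22535 : n11335 = n9796 := ((((iv F43911)).symm.trans (sb E21304 (iv D16477)))).symm
theorem E22536 : n9853 = n5393 := (((iv F44153)).symm.trans (sb E21305 (iv D7812)))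
theorem E22537 : n11504 = n5044 := ((((iv F23526)).symm.trans (sb E21306 (iv F51002)))).symm
theorem E22538 : n5479 = n5059 := ((((iv F23604)).symm.trans (sb E21306 (iv D7933)))).symm
theorem E22539 : n10612 = n5395 := (((iv F47322)).symm.trans (sb E21307 (iv D7816)))
theorem F200769 : act 8 n3730 = n5113 := (sb E21308 F33706)
theorem E22542 : n11255 = n5215 := (E22435).trans E22438
theorem E22546 : n2650 = n2271 := ((((iv D3272)).symm.trans (sb E21314 F17849))).symm
theorem E22547 : n4719 = n2600 := (((iv F22123)).symm.trans (sb E21314 (iv D3757)))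
theorem F200770 : act 1 n1715 = n1285 := (sb E21315 F9193)
theorem E22548 : n2652 = n2443 := ((((iv F11979)).symm.trans (sb E21315 (iv F12906)))).symm
theorem E22549 : n1289 = n1203 := (((F8617).symm.trans (sb E21315 F9195))).symm
theorem E22550 : n2464 = n1282 := (((iv F12076)).symm.trans (sb E21315 (iv D1843)))
theorem F200771 : act 1 n1730 = n1268 := (sb E21316 F9080)
theorem E22551 : n2624 = n2492 := (((D2492).symm.trans (sb E21316 (iv F12772)))).symm
theorem E22552 : n2484 = n1264 := (((iv F12162)).symm.trans (sb E21316 (iv D1820)))
theorem F200772 : act 0 n1805 = n2465 := (sb E21317 F16997)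
theorem F200773 : act 9 n1805 = n2469 := (sb E21317 F17000)
theorem F200774 : act 1 n3598 = n2558 := (sb E21318 F17545)
theorem E22554 : n5344 = n5205 := (((D5205).symm.trans (sb E21318 (iv F24782)))).symm
theorem E22555 : n5187 = n2551 := (((iv F24165)).symm.trans (sb E21318 (iv D3691)))
theorem F200775 : act 0 n1768 = n2485 := (sb E21319 F17124)
theorem F200776 : act 9 n1768 = n2491 := (sb E21319 F17128)
theorem E22559 : n5507 = n2257 := ((((iv F11100)).symm.trans (sb E21322 (iv F25529)))).symm
theorem E22560 : n2643 = n2268 := ((((iv F11155)).symm.trans (sb E21322 (iv D3813)))).symm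
theorem E22561 : n4715 = n2595 := (((iv F22102)).symm.trans (sb E21323 (iv D3747)))
theorem E22562 : n2645 = n2440 := ((((iv F11968)).symm.trans (sb E21324 (iv D3815)))).symm
theorem E22563 : n1287 = n1200 := ((((iv F6181)).symm.trans (sb E21325 (iv D1848)))).symm
theorem E22564 : n2461 = n1278 := (((iv F12062)).symm.trans (sb E21326 (iv D1838)))
theorem E22565 : n2615 = n2486 := ((((iv F12170)).symm.trans (sb E21327 (iv D3777)))).symm
theorem E22566 : n2480 = n1260 := (((iv F12142)).symm.trans (sb E21328 (iv D1814)))
theorem F200777 : act 8 n1801 = n2465 := (sb E21329 F16982)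
theorem E22568 : n5328 = n5192 := ((((iv F24186)).symm.trans (sb E21330 (iv D7730)))).symm
theorem E22569 : n5194 = n2544 := ((D5194).symm.trans (sb E21331 (iv D3679)))
theorem F200778 : act 8 n1764 = n2485 := (sb E21332 (iv D3590))
theorem E22577 : n11445 = n9800 := ((((iv F43927)).symm.trans (sb E21339 F70622))).symm
theorem E22591 : n22835 = n2306 := ((((iv F11328)).symm.trans (sb E21350 F140469))).symm
theorem E22600 : n9785 = n5522 := ((D9785).symm.trans (sb E21356 F36050))
theorem E22606 : n11395 = n9829 := ((((iv F44054)).symm.trans (sb E21366 F71980))).symm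
theorem E22610 : n7869 = n6786 := ((((iv F31079)).symm.trans (sb E21370 F50567))).symm
theorem E22611 : n16567 = n6788 := ((((iv F31088)).symm.trans (sb E21370 (iv F72073)))).symm
theorem E22612 : n7969 = n3250 := ((((iv D4694)).symm.trans (sb E21370 F50570))).symm
theorem E22613 : n7851 = n6780 := ((((iv F31057)).symm.trans (sb E21370 (iv D11397)))).symm
theorem E22624 : n22994 = n2542 := ((((iv F12406)).symm.trans (sb E21377 F141324))).symm
theorem E22626 : n6145 = n5140 := ((((iv F23970)).symm.trans (sb E21379 (iv D8910)))).symm
theorem F200779 : act 3 n7585 = n10856 := (sb E21384 F68915)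
theorem F200780 : act 3 n7412 = n5292 := (sb E21385 F34836)
theorem E22628 : n5653 = n5448 := ((F195646).symm.trans (sb E21385 F34837))
theorem E22629 : n10737 = n6110 := (((iv F47860)).symm.trans (sb E21385 F199986))
theorem E22630 : n5652 = n5523 := ((F195537).symm.trans (sb E21386 F35739))
theorem E22632 : n22849 = n4790 := (((F31580).symm.trans (sb E21388 F139657))).symm
theorem E22633 : n22858 = n5257 := (((D5257).symm.trans (sb E21389 (iv F98095)))).symm
theorem E22634 : n23059 = n2537 := (((F17341).symm.trans (sb E21391 F140538))).symm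
theorem F200781 : act 3 n7327 = n5414 := (sb E21399 F35548)
theorem E22642 : n5597 = n5499 := ((F195533).symm.trans (sb E21399 F35549))
theorem E22643 : n10615 = n6108 := (((iv F47334)).symm.trans (sb E21399 F199815))
theorem F200782 : act 2 n4225 = n5110 := (sb E21400 F33719)
theorem F200783 : act 8 n4225 = n5116 := (sb E21400 F33721)
theorem E22654 : n2970 = n2489 := (((F17017).symm.trans (sb E21410 F19940))).symm
theorem E22655 : n5139 = n2943 := (((iv F23965)).symm.trans (sb E21410 (iv D4256)))
theorem F200784 : act 2 n2042 = n2463 := (sb E21411 F16989)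
theorem F200785 : act 8 n2042 = n2467 := (sb E21411 F16990)
theorem E22658 : n5495 = n5045 := ((((iv F23532)).symm.trans (sb E21417 F35528))).symm
theorem E22659 : n5410 = n5067 := (((D5067).symm.trans (sb E21417 (iv D7837)))).symm
theorem F200786 : act 3 n3741 = n5068 := (sb E21418 F33432)
theorem F200787 : act 6 n3741 = n5066 := (sb E21418 (iv D7336))
theorem F200788 : act 8 n3740 = n5066 := (sb E21419 (iv D7337))
theorem F200789 : act 4 n7325 = n5416 := (sb E21420 F35539)
theorem F200790 : act 6 n7325 = n5414 := (sb E21420 F35540)
theorem E22663 : n5496 = n5046 := (((D5046).symm.trans (sb E21421 F36028))).symm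
theorem E22664 : n6224 = n5041 := ((((iv F23513)).symm.trans (sb E21421 F199742))).symm
theorem E22665 : n5056 = n2984 := (((iv F23590)).symm.trans (sb E21422 (iv D4308)))
theorem F200791 : act 2 n3805 = n5047 := (sb E21423 F33287)
theorem F200792 : act 5 n3805 = n5068 := (sb E21423 F33289)
theorem F200793 : act 2 n3765 = n5069 := (sb E21424 F33444)
theorem F200794 : act 4 n3765 = n5128 := (sb E21424 F33445)
theorem F200795 : act 7 n3765 = n5068 := (sb E21424 (iv D7339))
theorem F200796 : act 2 n4224 = n5057 := (sb E21425 F33364)
theorem F200797 : act 8 n4224 = n5061 := (sb E21425 F33367)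
theorem F200798 : act 5 n3824 = n5069 := (sb E21429 F33294)
theorem F200799 : act 7 n3824 = n5047 := (sb E21429 (iv D7306))
theorem E22670 : n7878 = n7381 := ((((iv F33630)).symm.trans (sb E21431 F200095))).symm
theorem E22671 : n7879 = n7384 := (((D7384).symm.trans (sb E21431 F200096))).symm
theorem E22672 : n7387 = n3764 := ((D7387).symm.trans (sb E21432 F25239))
theorem E22673 : n7388 = n3763 := ((D7388).symm.trans (sb E21432 (iv D5444)))
theorem F200800 : act 6 n5102 = n3765 := (sb E21433 F25242)
theorem E22674 : n5646 = n2958 := (((iv F26161)).symm.trans (sb E21434 F19987))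
theorem E22676 : n5639 = n2952 := (((iv F26135)).symm.trans (sb E21434 (iv D4268)))
theorem E22679 : n10682 = n5439 := (((iv F47623)).symm.trans (sb E21437 F35619))
theorem E22680 : n11406 = n10689 := (((D10689).symm.trans (sb E21437 (iv F50601)))).symm
theorem E22681 : n10673 = n5424 := (((iv F47589)).symm.trans (sb E21437 (iv D7859)))
theorem E22682 : n5655 = n5446 := ((F195864).symm.trans (sb E21438 F35722))
theorem E22683 : n10678 = n6151 := (((iv F47609)).symm.trans (sb E21439 F199992))
theorem F200801 : act 2 n4253 = n5084 := (sb E21440 F33548)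
theorem F200802 : act 8 n4253 = n5090 := (sb E21440 F33551)
theorem E22685 : n7882 = n7375 := ((((iv F33609)).symm.trans (sb E21443 (iv F35708)))).symm
theorem E22686 : n3823 = n3524 := ((((iv D5093)).symm.trans (sb E21443 F25226))).symm
theorem E22687 : n7364 = n3759 := (((iv F33566)).symm.trans (sb E21443 (iv D5441)))
theorem E22688 : n16501 = n7378 := ((((iv F33621)).symm.trans (sb E21444 (iv F71803)))).symm
theorem E22689 : n7976 = n3525 := ((((iv D5095)).symm.trans (sb E21444 F199920))).symm
theorem E22690 : n7830 = n7382 := (((D7382).symm.trans (sb E21444 (iv D11366)))).symm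
theorem E22691 : n7860 = n7366 := ((((iv F33573)).symm.trans (sb E21444 (iv F199961)))).symm
theorem E22692 : n3814 = n3520 := ((((iv F16836)).symm.trans (sb E21445 (iv D5511)))).symm
theorem E22693 : n7358 = n3748 := (((iv F33539)).symm.trans (sb E21446 (iv D5425)))
theorem F200803 : act 7 n5100 = n3740 := (sb E21448 (iv D5411))
theorem E22696 : n3517 = n2090 := (((iv F16823)).symm.trans (sb E21450 (iv D3008)))
theorem F200804 : act 2 n2942 = n3518 := (sb E21451 F23713)
theorem F200805 : act 8 n2942 = n3522 := (sb E21451 F23715)
theorem E22700 : n22808 = n1117 := (((F8043).symm.trans (sb E21455 F139462))).symm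
theorem E22702 : n10885 = n1124 := (((F8077).symm.trans (sb E21456 F68547))).symm
theorem E22781 : n1496 = n268 := ((((iv D396)).symm.trans (sb E21521 F10302))).symm
theorem E22785 : n2438 = n1453 := (((iv F11959)).symm.trans (sb E21526 (iv D2091)))
theorem E22786 : n1198 = n706 := (((iv F6171)).symm.trans (sb E21527 (iv D1020)))
theorem F200806 : act 2 n1011 = n1191 := (sb E21528 (iv D1710))
theorem F200807 : act 8 n1011 = n1192 := (sb E21528 F8598)
theorem E22788 : n2482 = n1429 := (((iv F12152)).symm.trans (sb E21529 (iv D2061)))
theorem F200808 : act 2 n993 = n1199 := (sb E21530 F8650)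
theorem F200809 : act 8 n993 = n1201 := (sb E21530 F8652)
theorem E22792 : n3062 = n567 := ((((iv D822)).symm.trans (sb E21533 F20280))).symm
theorem E22794 : n1483 = n573 := ((((iv F3089)).symm.trans (sb E21535 (iv D2131)))).symm
theorem E22795 : n1482 = n1181 := ((((iv D1696)).symm.trans (sb E21536 F10245))).symm
theorem E22796 : n724 = n577 := ((((iv D834)).symm.trans (sb E21537 F5242))).symm
theorem E22797 : n1190 = n716 := (((iv F6136)).symm.trans (sb E21538 (iv D1033)))
theorem E22798 : n12312 = n6014 := ((((iv F27570)).symm.trans (sb E21540 F197524))).symm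
theorem E22799 : n11195 = n6021 := ((((iv F27599)).symm.trans (sb E21540 F70325))).symm
theorem E22800 : n11086 = n5979 := ((((iv F27443)).symm.trans (sb E21540 (iv D16127)))).symm
theorem E22803 : n6014 = n5318 := (((F34716).symm.trans (sb E21564 (tr (iv F197176) E22798)))).symm
theorem F200810 : act 0 n7636 = n5924 := (sb E21544 F38603)
theorem F200811 : act 2 n7636 = n5941 := (sb E21544 (iv F196604))
theorem F200812 : act 3 n7636 = n5916 := (sb E21544 F38604)
theorem F200813 : act 7 n7636 = n5913 := (sb E21544 (iv D8578))
theorem F200814 : act 9 n7636 = n5943 := (sb E21544 F38606)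
theorem F200815 : act 8 n7619 = n10856 := (sb E21545 F68727)
theorem F200816 : act 0 n7639 = n5922 := (sb E21546 F38596)
theorem F200817 : act 2 n7639 = n5943 := (sb E21546 F196984)
theorem F200818 : act 4 n7639 = n5913 := (sb E21546 F38598)
theorem F200819 : act 6 n7639 = n5912 := (sb E21546 (iv D8576))
theorem F200820 : act 9 n7639 = n5941 := (sb E21546 F38599)
theorem E22804 : n22981 = n5310 := ((((iv F24655)).symm.trans (sb E21547 (iv F98539)))).symm
theorem E22805 : n10991 = n5314 := ((((iv F24673)).symm.trans (sb E21547 F68936))).symm
theorem E22806 : n12312 = n5318 := (E22798).trans E22803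
theorem E22807 : n5840 = n5350 := (((iv F196505)).symm.trans (sb E21548 F35141))
theorem E22808 : n10938 = n6021 := ((D10938).symm.trans (sb E21548 (tr (iv F49703) E22799)))
theorem E22809 : n5348 = n5221 := (((F34283).symm.trans (sb E21548 (iv D7755)))).symm
theorem E22811 : n5200 = n2872 := ((((iv D4158)).symm.trans (sb E21549 F34301))).symm
theorem F200821 : act 8 n4158 = n5199 := (sb E21549 (iv D7538))
theorem E22812 : n10943 = n5979 := ((((iv F27443)).symm.trans (sb E21549 D10943))).symm
theorem E22813 : n11398 = n9906 := ((((iv F44379)).symm.trans (sb E21551 (iv F50573)))).symm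
theorem E22814 : n10800 = n5426 := (((iv F48129)).symm.trans (sb E21551 (iv D7862)))
theorem E22817 : n5185 = n2969 := (((iv F24155)).symm.trans (sb E21554 (iv D4289)))
theorem F200822 : act 8 n4255 = n5151 := (sb E21555 F33923)
theorem F200823 : act 2 n4103 = n5268 := (sb E21558 F33978)
theorem F200824 : act 8 n4103 = n5148 := (sb E21558 (iv D7461))
theorem F200825 : act 6 n7631 = n10856 := (sb E21562 F68911)
theorem F200826 : act 0 n7487 = n5758 := (sb E21563 F196233)
theorem F200827 : act 4 n7487 = n5267 := (sb E21563 F34701)
theorem E22822 : n5836 = n5226 := (((F34072).symm.trans (sb E21563 (iv F196508)))).symm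
theorem F200828 : act 7 n7487 = n5265 := (sb E21563 (iv D7635))
theorem E22826 : n23720 = n2915 := ((((iv F13999)).symm.trans (sb E21570 F145444))).symm
theorem E22828 : n10964 = n5311 := ((((iv F24659)).symm.trans (sb E21583 (iv F48797)))).symm
theorem E22829 : n12309 = n5315 := ((((iv F24677)).symm.trans (sb E21583 (iv F54304)))).symm
theorem E22830 : n6012 = n5315 := (((iv F27562)).symm.trans (sb E21573 (tr F197546 E22829)))
theorem E22831 : n11197 = n6020 := (((D6020).symm.trans (sb E21573 F70894))).symm
theorem F200829 : act 0 n7632 = n10858 := (sb E21575 F68841)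
theorem F200830 : act 9 n7632 = n10841 := (sb E21575 (iv D15765))
theorem F200831 : act 5 n7712 = n5941 := (sb E21577 (iv D8619))
theorem E22834 : n10935 = n5299 := ((((iv F24611)).symm.trans (sb E21581 F69325))).symm
theorem E22835 : n23123 = n5308 := ((((iv F24649)).symm.trans (sb E21581 (iv F99139)))).symm
theorem E22838 : n10993 = n5313 := (((D5313).symm.trans (sb E21582 F69741))).symm
theorem E22844 : n10937 = n6020 := ((D10937).symm.trans (sb E21939 (iv D8740)))
theorem E22845 : n5349 = n5220 := (((D5220).symm.trans (sb E21588 F35137))).symm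
theorem E22846 : n5347 = n5222 := (((D5222).symm.trans (sb E21588 (iv D7754)))).symm
theorem E22847 : n11078 = n10987 := ((D11078).symm.trans (sb E21591 F68920))
theorem F200832 : act 0 n7574 = n5848 := (sb E21593 F196773)
theorem F200833 : act 5 n7574 = n5265 := (sb E21593 (iv D7634))
theorem F200834 : act 4 n3656 = n5165 := (sb E21595 F34052)
theorem F200835 : act 7 n3656 = n5163 := (sb E21595 (iv D7482))
theorem F200836 : act 1 n5449 = n7470 := (sb E21598 (iv F34012))
theorem F200837 : act 3 n5449 = n7458 := (sb E21598 (iv F196217))
theorem F200838 : act 4 n5449 = n7370 := (sb E21598 F196039)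
theorem F200839 : act 6 n7369 = n5449 := (sb E21599 F35554)
theorem F200840 : act 7 n7369 = n5416 := (sb E21599 F35555)
theorem F200841 : act 0 n7712 = n5859 := (sb E21600 F38192)
theorem F200842 : act 3 n3767 = n5163 := (sb E21603 F33645)
theorem F200843 : act 4 n3767 = n5099 := (sb E21603 F33646)
theorem F200844 : act 6 n3767 = n5098 := (sb E21603 (iv D7385))
theorem F200845 : act 4 n3742 = n5100 := (sb E21604 F33649)
theorem F200846 : act 8 n3742 = n5098 := (sb E21604 (iv D7386))
theorem F200847 : act 5 n3696 = n5163 := (sb E21605 (iv D7481))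
theorem E22854 : n2794 = n2626 := (((F17977).symm.trans (sb E21609 (iv D4038)))).symm
theorem F200848 : act 4 n7533 = n5351 := (sb E21610 F35145)
theorem F200849 : act 0 n3697 = n2798 := (sb E21611 F19063)
theorem E22855 : n22851 = n4789 := (((F31574).symm.trans (sb E21612 F139667))).symm
theorem E22856 : n22901 = n9521 := (((F60433).symm.trans (sb E21613 F139886))).symm
theorem E22857 : n10928 = n4816 := (((F31690).symm.trans (sb E21614 F68711))).symm
theorem E22860 : n10926 = n5296 := (((D5296).symm.trans (sb E21616 (iv F48640)))).symm
theorem E22861 : n23052 = n2312 := (((F15896).symm.trans (sb E21617 F140510))).symm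
theorem E22862 : n23117 = n4579 := (((F30133).symm.trans (sb E21618 F140747))).symm
theorem E22863 : n23115 = n4820 := (((D4820).symm.trans (sb E21619 (iv F99107)))).symm
theorem E22864 : n23118 = n4821 := (((D4821).symm.trans (sb E21619 D23118))).symm
theorem E22865 : n22946 = n10066 := (((D10066).symm.trans (sb E21620 F140749))).symm
theorem E22867 : n23110 = n5303 := (((D5303).symm.trans (sb E21621 (iv F99089)))).symm
theorem E22868 : n10955 = n5305 := (((D5305).symm.trans (sb E21621 F69288))).symm
theorem E22869 : n10957 = n5306 := (((D5306).symm.trans (sb E21622 (iv F48765)))).symm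
theorem F200850 : act 9 n3663 = n5204 := (sb E21622 (iv D7546))
theorem E22870 : n22945 = n9537 := ((((iv F42754)).symm.trans (sb E21641 (iv F98415)))).symm
theorem E22871 : n5306 = n4832 := (((F31752).symm.trans (sb E21641 (tr F68816 E22869)))).symm
theorem E22872 : n10081 = n10066 := ((D10081).symm.trans (sb E21641 (tr D22946 E22865)))
theorem F200851 : act 3 n6948 = n5259 := (sb E21626 (iv D7627))
theorem E22874 : n44267 = n21186 := (((D21186).symm.trans (sb E22121 (iv F184918)))).symm
theorem E22875 : n22930 = n9521 := ((((iv F42693)).symm.trans (sb E21628 D22930))).symm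
theorem E22876 : n10947 = n4816 := (((F31690).symm.trans (sb E21628 F68781))).symm
theorem E22877 : n20942 = n10057 := (((D10057).symm.trans (sb E21628 (iv F90313)))).symm
theorem F200852 : act 1 n3658 = n5204 := (sb E21629 F34311)
theorem E22878 : n10946 = n5296 := (((D5296).symm.trans (sb E21629 (iv F48723)))).symm
theorem F200853 : act 8 n3658 = n5202 := (sb E21629 (iv D7541))
theorem E22885 : n11204 = n5303 := (((D5303).symm.trans (sb E21633 (iv F49741)))).symm
theorem E22886 : n5320 = n5305 := (((D5305).symm.trans (sb E21633 (iv D7715)))).symm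
theorem F200854 : act 0 n3663 = n5202 := (sb E21634 (iv F24224))
theorem E22891 : n10957 = n4832 := (E22869).trans E22871
theorem E22894 : n23314 = n20008 := (((D20008).symm.trans (sb E21644 D23314))).symm
theorem E22895 : n21185 = n20009 := (((D20009).symm.trans (sb E21644 (iv F91280)))).symm
theorem F200855 : act 8 n14558 = n10030 := (sb E21645 (iv D14573))
theorem E22896 : n21206 = n21186 := (((D21186).symm.trans (sb E21645 D21206))).symm
theorem F200856 : act 1 n14549 = n20847 := (sb E21647 F128773)
theorem E22898 : n44252 = n21172 := (((D21172).symm.trans (sb E21647 D44252))).symm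
theorem E22901 : n23390 = n19791 := (((D19791).symm.trans (sb E21649 (iv F100232)))).symm
theorem E22908 : n21853 = n9878 := (((D9878).symm.trans (sb E21652 (iv F93791)))).symm
theorem E22909 : n10327 = n9862 := (((D9862).symm.trans (sb E21653 (iv F46023)))).symm
theorem E22910 : n23358 = n19778 := ((((iv F85391)).symm.trans (sb E21654 (iv D34055)))).symm
theorem E22911 : n45087 = n19802 := (((D19802).symm.trans (sb E21655 (iv F188089)))).symm
theorem E22916 : n20476 = n2299 := ((((iv D3314)).symm.trans (sb E21661 (iv F193424)))).symm
theorem E22917 : n10895 = n2311 := (((F15892).symm.trans (sb E21661 F68585))).symm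
theorem E22919 : n21633 = n2195 := ((((iv F10785)).symm.trans (sb E21662 F126307))).symm
theorem E22920 : n20445 = n1120 := (((F8057).symm.trans (sb E21662 (iv D29765)))).symm
theorem E22922 : n20443 = n2313 := (((D2313).symm.trans (sb E21663 F193283))).symm
theorem E22923 : n21612 = n1074 := ((((iv F5545)).symm.trans (sb E21665 F126207))).symm
theorem E22925 : n43340 = n2314 := ((((iv F11363)).symm.trans (sb E21666 (iv F181055)))).symm
theorem E22933 : n10900 = n2533 := (((D2533).symm.trans (sb E21671 (iv F48526)))).symm
theorem E22935 : n20378 = n1235 := (((F8810).symm.trans (sb E21673 F193101))).symm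
theorem E22953 : n10933 = n5298 := (((D5298).symm.trans (sb E21691 (iv F48666)))).symm
theorem F200857 : act 8 n3659 = n5219 := (sb E21691 F34272)
theorem E22957 : n20375 = n2565 := (((F17445).symm.trans (sb E21695 F193088))).symm
theorem E22958 : n10962 = n5309 := (((D5309).symm.trans (sb E21695 F69320))).symm
theorem F200858 : act 0 n3666 = n5219 := (sb E21696 F34349)
theorem F200859 : act 9 n3666 = n5207 := (sb E21696 (iv D7551))
theorem F200860 : act 0 n3734 = n4703 := (sb E21698 F31147)
theorem E22960 : n4702 = n2632 := (((F17749).symm.trans (sb E21698 (iv D6801)))).symm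
theorem F200861 : act 9 n3734 = n4707 := (sb E21698 F31152)
theorem F200862 : act 0 n1830 = n2451 := (sb E21699 (iv D3536))
theorem E22961 : n5058 = n2635 := ((((iv F12828)).symm.trans (sb E21699 (iv F23599)))).symm
theorem F200863 : act 9 n1830 = n2454 := (sb E21699 F16911)
theorem E22962 : n20368 = n2570 := (((D2570).symm.trans (sb E21700 F193070))).symm
theorem E22964 : n12311 = n5316 := (((D5316).symm.trans (sb E21701 (iv F54312)))).symm
theorem E22972 : n5198 = n2871 := ((D5198).symm.trans (sb E21709 (iv D4157)))
theorem F200864 : act 2 n1990 = n2540 := (sb E21710 F17159)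
theorem F200865 : act 8 n1990 = n2487 := (sb E21710 (iv D3594))
theorem E22976 : n6011 = n5316 := (((D5316).symm.trans (sb E21714 D6011))).symm
theorem E22977 : n26068 = n2913 := ((((iv F13989)).symm.trans (sb E21715 (iv F110907)))).symm
theorem F200866 : act 8 n4127 = n5835 := (sb E21716 (iv D8463))
theorem E22979 : n5391 = n5223 := (((D5223).symm.trans (sb E21717 F35132))).symm
theorem E22980 : n5835 = n5224 := (((D5224).symm.trans (sb E21717 F197609))).symm
theorem F200867 : act 0 n3612 = n2795 := (sb E21718 F19051)
theorem F200868 : act 8 n3612 = n2853 := (sb E21718 (iv F200541))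
theorem F200869 : act 1 n3504 = n2640 := (sb E21721 F18053)
theorem E22984 : n5494 = n5043 := ((((iv F23522)).symm.trans (sb E21721 (iv F25466)))).symm
theorem E22988 : n11496 = n4668 := ((((iv F21872)).symm.trans (sb E21723 (iv F50961)))).symm
theorem E22989 : n5475 = n4674 := ((((iv F21906)).symm.trans (sb E21723 (iv D7927)))).symm
theorem E22990 : n4699 = n2627 := (((iv F22023)).symm.trans (sb E21724 (iv D3789)))
theorem F200870 : act 1 n3729 = n4700 := (sb E21725 F31124)
theorem E22991 : n9852 = n4914 := ((((iv F22906)).symm.trans (sb E21725 D9852))).symm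
theorem F200871 : act 8 n3729 = n4703 := (sb E21725 F31128)
theorem E22992 : n5480 = n5040 := ((((iv F23508)).symm.trans (sb E21726 (iv D7934)))).symm
theorem E22993 : n5055 = n2628 := (((iv F23585)).symm.trans (sb E21727 (iv D3792)))
theorem F200872 : act 8 n1826 = n2451 := (sb E21728 F16894)
theorem E22997 : n3019 = n2713 := ((((iv D3914)).symm.trans (sb E21735 F20021))).symm
theorem E22998 : n6123 = n5660 := (((D5660).symm.trans (sb E21735 F199830))).symm
theorem F200873 : act 9 n3914 = n2959 := (sb E21735 (iv D4277))
theorem F200874 : act 2 n4236 = n5682 := (sb E21736 F195546)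
theorem F200875 : act 8 n4236 = n5658 := (sb E21736 (iv D8198))
theorem F200876 : act 9 n3913 = n3018 := (sb E21737 (iv D4352))
theorem E23001 : n10907 = n2855 := ((((iv F13757)).symm.trans (sb E21739 (iv F48557)))).symm
theorem E23010 : n2785 = n1439 := (((iv F13492)).symm.trans (sb E21747 F10158))
theorem E23011 : n2778 = n1434 := (((iv F13463)).symm.trans (sb E21747 (iv D2069)))
theorem F200877 : act 0 n3986 = n5449 := (sb E21750 (iv F25257))
theorem F200878 : act 9 n3986 = n2961 := (sb E21750 (iv D4278))
theorem F200879 : act 6 n3921 = n2959 := (sb E21751 F20010)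
theorem F200880 : act 1 n2055 = n2752 := (sb E21754 F18808)
theorem F200881 : act 9 n2055 = n2759 := (sb E21754 F18811)
theorem F200882 : act 2 n2048 = n2746 := (sb E21755 F18781)
theorem F200883 : act 8 n2048 = n2752 := (sb E21755 F18783)
theorem F200884 : act 0 n3768 = n2759 := (sb E21756 F18838)
theorem F200885 : act 4 n3918 = n2961 := (sb E21758 F20006)
theorem E23013 : n5666 = n2957 := ((D5666).symm.trans (sb E21758 (iv D4273)))
theorem E23015 : n6241 = n5559 := (((F195490).symm.trans (sb E21760 F199748))).symm
theorem E23016 : n6122 = n5601 := (((D5601).symm.trans (sb E21760 F199749))).symm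
theorem F200886 : act 9 n3876 = n2999 := (sb E21760 (iv D4328))
theorem F200887 : act 2 n4234 = n5589 := (sb E21761 F36665)
theorem F200888 : act 8 n4234 = n5595 := (sb E21761 F36667)
theorem F200889 : act 1 n2053 = n2710 := (sb E21765 F18546)
theorem E23019 : n2708 = n1460 := (((F10092).symm.trans (sb E21765 (iv D3906)))).symm
theorem F200890 : act 9 n2053 = n2714 := (sb E21765 F18549)
theorem F200891 : act 1 n3907 = n2959 := (sb E21766 F19991)
theorem E23020 : n3016 = n2709 := ((((iv D3907)).symm.trans (sb E21766 F19992))).symm
theorem E23021 : n2705 = n1457 := (((iv F13164)).symm.trans (sb E21767 (iv D2097)))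
theorem F200892 : act 2 n2047 = n2706 := (sb E21768 F18529)
theorem F200893 : act 8 n2047 = n2710 := (sb E21768 F18531)
theorem F200894 : act 1 n3872 = n2999 := (sb E21771 F20217)
theorem F200895 : act 1 n2084 = n2685 := (sb E21772 F18393)
theorem E23024 : n5557 = n2998 := ((((iv F14358)).symm.trans (sb E21772 (iv F25774)))).symm
theorem F200896 : act 9 n2084 = n2688 := (sb E21772 F18396)
theorem F200897 : act 6 n3853 = n2999 := (sb E21773 F20236)
theorem F200898 : act 0 n3766 = n2714 := (sb E21775 F18568)
theorem F200899 : act 1 n3766 = n5093 := (sb E21775 (iv F23756))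
theorem E23025 : n2712 = n2654 := (((F17887).symm.trans (sb E21775 (iv D3912)))).symm
theorem F200900 : act 4 n3919 = n2936 := (sb E21778 F19877)
theorem F200901 : act 7 n3919 = n2934 := (sb E21778 (iv D4240))
theorem E23051 : n3072 = n294 := (((D294).symm.trans (sb E21803 (iv D4430)))).symm
theorem E23052 : n1488 = n630 := ((((iv F3368)).symm.trans (sb E21804 (iv D2137)))).symm
theorem E23053 : n1499 = n139 := (((D139).symm.trans (sb E21805 (iv D2151)))).symm
theorem E23054 : n726 = n302 := ((((iv F1684)).symm.trans (sb E21806 (iv D1046)))).symm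
theorem E23055 : n1490 = n298 := (((D298).symm.trans (sb E21807 F10492))).symm
theorem E23056 : n720 = n638 := ((((iv F3407)).symm.trans (sb E21808 F5334))).symm
theorem E23079 : n5038 = n2985 := (((iv F23497)).symm.trans (sb E21832 (iv D4309)))
theorem F200902 : act 2 n2074 = n2427 := (sb E21833 (iv D3499))
theorem F200903 : act 8 n2074 = n2428 := (sb E21833 F16737)
theorem E23082 : n6314 = n1171 := ((((iv D1683)).symm.trans (sb E21835 F40333))).symm
theorem E23083 : n3031 = n1175 := ((((iv F6061)).symm.trans (sb E21836 (iv D4372)))).symm
theorem E23085 : n1469 = n1185 := ((((iv F6110)).symm.trans (sb E21837 F10328))).symm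
theorem E23087 : n3030 = n2419 := ((((iv D3488)).symm.trans (sb E21839 F20133))).symm
theorem E23088 : n2425 = n1468 := (((iv F11888)).symm.trans (sb E21840 F10324))
theorem F200904 : act 2 n1023 = n1186 := (sb E21841 F8558)
theorem E23090 : n10882 = n667 := (((F4958).symm.trans (sb E21842 (iv F48453)))).symm
theorem E23091 : n10905 = n1392 := (((F9780).symm.trans (sb E21843 (iv F48549)))).symm
theorem E23092 : n12186 = n668 := (((D668).symm.trans (sb E21844 (iv F53812)))).symm
theorem E23104 : n5554 = n2993 := (((iv F25759)).symm.trans (sb E21855 (iv D4320)))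
theorem F200905 : act 2 n2079 = n2683 := (sb E21856 F18379)
theorem F200906 : act 8 n2079 = n2685 := (sb E21856 F18381)
theorem F200907 : act 1 n1017 = n1310 := (sb E21860 (iv D1882))
theorem F200908 : act 9 n1017 = n1312 := (sb E21860 F9388)
theorem F200909 : act 1 n489 = n646 := (sb E21861 (iv D933))
theorem F200910 : act 9 n489 = n648 := (sb E21861 F4870)
theorem F200911 : act 1 n1000 = n1344 := (sb E21862 F9594)
theorem F200912 : act 9 n1000 = n1348 := (sb E21862 F9598)
theorem F200913 : act 2 n1014 = n1309 := (sb E21863 (iv D1880))
theorem F200914 : act 8 n1014 = n1310 := (sb E21863 F9378)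
theorem F200915 : act 2 n488 = n645 := (sb E21864 (iv D931))
theorem F200916 : act 8 n488 = n646 := (sb E21864 F4859)
theorem F200917 : act 2 n996 = n1340 := (sb E21866 F9576)
theorem F200918 : act 8 n996 = n1344 := (sb E21866 F9579)
theorem E23111 : n1307 = n719 := (((iv F6678)).symm.trans (sb E21867 F5330))
theorem E23113 : n644 = n344 := (((iv F3432)).symm.trans (sb E21868 (iv D501)))
theorem F200919 : act 2 n496 = n639 := (sb E21869 F4821)
theorem F200920 : act 0 n1824 = n1348 := (sb E21870 F9617)
theorem F200921 : act 0 n898 = n648 := (sb E21871 (iv D936))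
theorem F200922 : act 0 n3806 = n2688 := (sb E21887 F18409)
theorem E23130 : n5561 = n5497 := ((((iv F25482)).symm.trans (sb E21887 (iv F25793)))).symm
theorem E23131 : n5565 = n2997 := ((D5565).symm.trans (sb E21889 (iv D4324)))
theorem F200923 : act 5 n3879 = n2934 := (sb E21890 (iv D4239))
theorem F200924 : act 0 n1845 = n1312 := (sb E21891 (iv D1885))
theorem E23132 : n3041 = n1292 := ((((iv F6607)).symm.trans (sb E21892 (iv D4387)))).symm
theorem E23134 : n1475 = n1297 := ((((iv F6633)).symm.trans (sb E21893 F10367))).symm
theorem E23137 : n1315 = n714 := (((iv F6713)).symm.trans (sb E21895 F5280))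
theorem F200925 : act 8 n916 = n711 := (sb E21895 (iv D1027))
theorem E23139 : n26819 = n2919 := ((((iv F14015)).symm.trans (sb E21897 (iv F113747)))).symm
theorem E23140 : n12650 = n2921 := ((((iv F14025)).symm.trans (sb E21897 F79456))).symm
theorem E23142 : n12272 = n6000 := ((((iv F27520)).symm.trans (sb E21911 (iv F197323)))).symm
theorem F200926 : act 9 n4147 = n5859 := (sb E21911 (iv D8499))
theorem E23143 : n6000 = n5991 := ((((iv F197335)).symm.trans (sb E21900 (tr (iv F54156) E23142)))).symm
theorem E23144 : n5999 = n5992 := ((((iv F27493)).symm.trans (sb E21900 (iv D8707)))).symm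
theorem F200927 : act 2 n4139 = n5859 := (sb E21901 F38228)
theorem F200928 : act 8 n4139 = n5848 := (sb E21901 (iv D8484))
theorem F200929 : act 3 n7598 = n10839 := (sb E21902 (iv D15762))
theorem F200930 : act 1 n4147 = n5848 := (sb E21904 (iv F26958))
theorem F200931 : act 2 n4147 = n2883 := (sb E21904 F19537)
theorem F200932 : act 5 n4147 = n5922 := (sb E21904 F196976)
theorem F200933 : act 5 n4171 = n5856 := (sb E21907 (iv F196618))
theorem E23150 : n5828 = n2881 := ((((iv D4171)).symm.trans (sb E21907 F38098))).symm
theorem F200934 : act 2 n1996 = n2866 := (sb E21908 F19041)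
theorem F200935 : act 8 n1996 = n2787 := (sb E21908 (iv D4029))
theorem E23152 : n12350 = n2908 := (((F19464).symm.trans (sb E21910 (iv F54473)))).symm
theorem E23153 : n5865 = n5846 := ((((iv F196626)).symm.trans (sb E21910 F38304))).symm
theorem E23156 : n8167 = n4267 := (((iv F36986)).symm.trans (sb E21913 (iv D6171)))
theorem F200936 : act 2 n2954 = n3964 := (sb E21914 F26512)
theorem F200937 : act 8 n2954 = n3975 := (sb E21914 F26514)
theorem F200938 : act 8 n5827 = n4171 := (sb E21915 (iv D6043))
theorem F200939 : act 1 n2003 = n2787 := (sb E21916 F19014)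
theorem E23157 : n5821 = n2888 := ((((iv F13875)).symm.trans (sb E21916 (iv F26859)))).symm
theorem F200940 : act 9 n2003 = n2798 := (sb E21916 F19016)
theorem F200941 : act 8 n4050 = n2886 := (sb E21917 (iv D4177))
theorem F200942 : act 9 n4040 = n2805 := (sb E21918 (iv D4055))
theorem E23158 : n26123 = n2918 := ((((iv F14012)).symm.trans (sb E21919 F159509))).symm
theorem E23163 : n12343 = n6001 := (((D6001).symm.trans (sb E21922 (iv F54444)))).symm
theorem F200943 : act 9 n4144 = n5856 := (sb E21922 (iv D8496))
theorem F200944 : act 1 n4144 = n5846 := (sb E21923 (iv F26950))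
theorem E23164 : n6026 = n6001 := (((D6001).symm.trans (sb E21923 (iv F27618)))).symm
theorem F200945 : act 2 n4137 = n5856 := (sb E21925 F38216)
theorem F200946 : act 8 n4137 = n5846 := (sb E21925 (iv D8481))
theorem F200947 : act 4 n4170 = n5859 := (sb E21926 F196982)
theorem F200948 : act 7 n4170 = n5856 := (sb E21926 F196983)
theorem F200949 : act 8 n4170 = n5826 := (sb E21926 (iv D8449))
theorem F200950 : act 2 n4128 = n5319 := (sb E21927 F34303)
theorem E23166 : n10940 = n5977 := ((((iv F27434)).symm.trans (sb E21927 (iv F48695)))).symm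
theorem F200951 : act 8 n4128 = n5226 := (sb E21927 F34305)
theorem F200952 : act 4 n4049 = n2890 := (sb E21936 F19585)
theorem F200953 : act 8 n4049 = n2887 := (sb E21936 (iv D4178))
theorem E23173 : n5864 = n2922 := ((D5864).symm.trans (sb E21937 F19579))
theorem F200954 : act 5 n4051 = n2887 := (sb E21937 F19580)
theorem F200955 : act 7 n4051 = n2886 := (sb E21937 (iv D4176))
theorem F200956 : act 0 n2801 = n3786 := (sb E21938 (iv F17973))
theorem F200957 : act 1 n2071 = n2790 := (sb E21940 F19024)
theorem F200958 : act 9 n2071 = n2801 := (sb E21940 F19028)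
theorem E23191 : n12344 = n2917 := (((D2917).symm.trans (sb E21964 F77651))).symm
theorem F200959 : act 1 n4145 = n5866 := (sb E21968 F38283)
theorem E23195 : n6003 = n2917 := ((D6003).symm.trans (sb E21968 (tr (iv F54448) E23191)))
theorem F200960 : act 9 n4145 = n5857 := (sb E21968 (iv D8498))
theorem F200961 : act 1 n4039 = n2864 := (sb E21969 (iv F200616))
theorem E23197 : n5866 = n5845 := (((D5845).symm.trans (sb E21969 (iv F27027)))).symm
theorem F200962 : act 9 n4039 = n2803 := (sb E21969 (iv D4053))
theorem F200963 : act 2 n1995 = n2864 := (sb E21970 F19033)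
theorem F200964 : act 8 n1995 = n2786 := (sb E21970 (iv D4027))
theorem F200965 : act 2 n4127 = n5317 := (sb E21972 F34293)
theorem E23200 : n10942 = n2895 := (((F19402).symm.trans (sb E21972 (iv F48704)))).symm
theorem F200966 : act 1 n2001 = n2786 := (sb E21976 F19009)
theorem F200967 : act 9 n2001 = n2797 := (sb E21976 F19013)
theorem F200968 : act 0 n3695 = n2797 := (sb E21979 F19059)
theorem F200969 : act 1 n2085 = n2669 := (sb E21980 (iv D3847))
theorem F200970 : act 9 n2085 = n2671 := (sb E21980 F18280)
theorem F200971 : act 0 n34092 = n23573 := (sb E21982 F144477)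
theorem E23204 : n34092 = n14407 := (((D14407).symm.trans (iv (sb E21982 (tr F144478 E22414))))).symm
theorem E23205 : n34313 = n14407 := (E21982).trans E23204
theorem E23206 : n23528 = n20915 := ((((iv F90219)).symm.trans (sb E23205 (iv D34313)))).symm
theorem F200972 : act 6 n7656 = n10845 := (sb E21989 F68860)
theorem E23214 : n22980 = n2553 := (((F17401).symm.trans (sb E21991 (iv F98537)))).symm
theorem E23219 : n23649 = n11116 := (((D11116).symm.trans (sb E22027 F143987))).symm
theorem E23220 : n11116 = n10972 := ((((iv F48826)).symm.trans (sb E21997 (tr F198282 E23219)))).symm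
theorem F200973 : act 3 n14587 = n10845 := (sb E22003 (iv D15771))
theorem E23226 : n22966 = n21226 := ((((iv F91449)).symm.trans (sb E22003 D22966))).symm
theorem E23228 : n23437 = n22973 := ((((iv F98513)).symm.trans (sb E22005 D23437))).symm
theorem E23229 : n23435 = n22971 := ((((iv F98507)).symm.trans (sb E22005 (iv F100415)))).symm
theorem E23230 : n22974 = n21267 := ((D22974).symm.trans (sb E22005 (iv F91600)))
theorem E23232 : n23625 = n11247 := (((F70516).symm.trans (sb E22007 F143903))).symm
theorem E23233 : n45177 = n23579 := (((D23579).symm.trans (sb E22007 (iv F188408)))).symm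
theorem E23234 : n23469 = n21259 := (((iv F100532)).symm.trans (sb E22008 (iv D30972)))
theorem E23235 : n45181 = n21364 := ((((iv F91924)).symm.trans (sb E22008 D45181))).symm
theorem E23237 : n16510 = n14333 := ((((iv F62950)).symm.trans (sb E22010 (iv F200260)))).symm
theorem E23238 : n34087 = n14342 := ((((iv F62991)).symm.trans (sb E22010 D34087))).symm
theorem E23239 : n16178 = n14344 := (((D14344).symm.trans (sb E22010 F100198))).symm
theorem E23244 : n23990 = n20830 := ((((iv F89866)).symm.trans (sb E22012 D23990))).symm
theorem E23246 : n21847 = n20833 := (((D20833).symm.trans (sb E22012 (iv F93765)))).symm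
theorem E23256 : n44261 = n23347 := (((D23347).symm.trans (sb E22028 F196730))).symm
theorem E23259 : n23663 = n5341 := ((((iv D7749)).symm.trans (sb E22031 (iv F101237)))).symm
theorem E23260 : n10982 = n5341 := (((iv F48863)).symm.trans (sb E22098 (tr (iv F101234) E23259)))
theorem E23261 : n23468 = n21257 := (((F130655).symm.trans (sb E22033 F143264))).symm
theorem E23262 : n23466 = n21258 := (((D21258).symm.trans (sb E22034 (iv F100526)))).symm
theorem E23263 : n21259 = n20949 := (((F128804).symm.trans (sb E22138 (tr F143268 E23234)))).symm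
theorem E23264 : n45017 = n44264 := (((D44264).symm.trans (sb E22138 (iv F187808)))).symm
theorem F200981 : act 3 n14608 = n10835 := (sb E22036 (iv D15755))
theorem E23266 : n22940 = n21258 := (((D21258).symm.trans (sb E22036 (iv F98398)))).symm
theorem E23267 : n11178 = n10953 := (((F68801).symm.trans (sb E22037 F70263))).symm
theorem E23269 : n23469 = n20949 := (E23234).trans E23263
theorem E23271 : n33204 = n30346 := ((((iv F128758)).symm.trans (iv (sb E22041 (tr F143135 E22403))))).symm
theorem E23272 : n33954 = n30346 := (E22041).trans E23271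
theorem E23273 : n22973 = n20939 := (((F128761).symm.trans (sb E23272 (tr F143137 E23228)))).symm
theorem E23275 : n33205 = n30348 := (E22042).trans E22125
theorem E23276 : n21267 = n20941 := (((F128771).symm.trans (sb E23275 (tr F140187 E23230)))).symm
theorem E23277 : n44295 = n44249 := (((D44249).symm.trans (sb E23275 (iv F185029)))).symm
theorem E23278 : n23644 = n10969 := ((((iv F48816)).symm.trans (sb E22043 (iv F101151)))).symm
theorem E23281 : n23621 = n11241 := (((D11241).symm.trans (sb E22046 (iv D34439)))).symm
theorem E23285 : n44967 = n44263 := ((D44967).symm.trans (sb E22053 (iv F184899)))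
theorem F200982 : act 8 n30356 = n21166 := (sb E22054 (iv D30833))
theorem E23286 : n44971 = n44264 := (((D44264).symm.trans (sb E22054 D44971))).symm
theorem E23288 : n11227 = n11188 := ((((iv F49672)).symm.trans (sb E22056 (iv D16335)))).symm
theorem E23289 : n11188 = n10960 := ((((iv F48778)).symm.trans (sb E22103 (tr (iv F198020) E23288)))).symm
theorem F200983 : act 1 n7550 = n5319 := (sb E22058 F34951)
theorem F200984 : act 5 n7566 = n5283 := (sb E22075 (iv D7662))
theorem F200985 : act 4 n3692 = n5225 := (sb E22077 F34424)
theorem E23309 : n23665 = n10983 := (((D10983).symm.trans (sb E22097 (iv F101244)))).symm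
theorem E23311 : n12607 = n10994 := (((D10994).symm.trans (sb E22100 (iv D18355)))).symm
theorem E23312 : n11227 = n10960 := (E23288).trans E23289
theorem E23313 : n11199 = n6094 := (((iv F49719)).symm.trans (sb E22102 (iv F198090)))
theorem E23318 : n33207 = n28781 := ((((iv F122207)).symm.trans (iv (sb E22116 (tr F143143 E22894))))).symm
theorem E23319 : n33956 = n28781 := (E22116).trans E23318
theorem E23320 : n23439 = n19840 := (((F122211).symm.trans (sb E23319 F143146))).symm
theorem E23322 : n22976 = n19840 := (((iv F98524)).symm.trans (sb E22117 (tr D23439 E23320)))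
theorem E23323 : n11160 = n10978 := (((F68892).symm.trans (sb E22117 F70195))).symm
theorem E23324 : n22977 = n21269 := ((D22977).symm.trans (sb E22117 (iv F91608)))
theorem E23325 : n21269 = n19841 := (((F122217).symm.trans (sb E22131 (tr F140201 E23324)))).symm
theorem E23326 : n44298 = n41921 := (((D41921).symm.trans (sb E22131 (iv F185043)))).symm
theorem E23327 : n11158 = n10976 := ((((iv F48842)).symm.trans (sb E22119 (iv F49555)))).symm
theorem E23328 : n10979 = n10121 := ((D10979).symm.trans (sb E22119 (iv F45206)))
theorem E23329 : n22977 = n19841 := (E23324).trans E23325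
theorem E23330 : n22974 = n20941 := (E23230).trans E23276
theorem E23331 : n10121 = n9979 := (((F63205).symm.trans (sb E22134 (tr F68895 E23328)))).symm
theorem F200986 : act 0 n20843 = n14558 := (sb E22122 F91215)
theorem F200987 : act 3 n20843 = n14549 := (sb E22122 (iv D21171))
theorem E23333 : n42359 = n41920 := (((D41920).symm.trans (sb E22124 (iv F177071)))).symm
theorem E23335 : n44986 = n44249 := (((D44249).symm.trans (sb E22125 D44986))).symm
theorem E23339 : n21401 = n11253 := (((D11253).symm.trans (sb E22129 (iv F92053)))).symm
theorem E23340 : n42546 = n23586 := (((D23586).symm.trans (sb E22130 (iv F177869)))).symm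
theorem E23342 : n23628 = n11249 := ((((iv F49899)).symm.trans (sb E22132 D23628))).symm
theorem E23343 : n21398 = n11250 := (((D11250).symm.trans (sb E22132 (iv F92041)))).symm
theorem E23344 : n10979 = n9979 := (E23328).trans E23331
theorem E23345 : n11183 = n10117 := (((iv F49652)).symm.trans (sb E22133 (iv D14702)))
theorem E23347 : n23472 = n20951 := (((D20951).symm.trans (sb E22155 (iv F100541)))).symm
theorem E23348 : n10117 = n9983 := (((F63217).symm.trans (sb E22155 (tr F70278 E23345)))).symm
theorem E23349 : n21292 = n20952 := (((D20952).symm.trans (sb E22155 (iv F91688)))).symm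
theorem E23351 : n33989 = n29070 := (E22137).trans E22157
theorem E23352 : n20951 = n20070 := (((F123420).symm.trans (sb E23351 (tr F143279 E23347)))).symm
theorem E23353 : n45020 = n42351 := (((D42351).symm.trans (sb E23351 (iv F187819)))).symm
theorem F200988 : act 8 n14400 = n10055 := (sb E22139 (iv D14609))
theorem E23354 : n44266 = n42351 := (((iv F184911)).symm.trans (sb E22140 (tr (iv F187816) E23353)))
theorem E23360 : n11155 = n10971 := ((((iv F48823)).symm.trans (sb E22148 (iv F49543)))).symm
theorem E23361 : n23622 = n11243 := ((((iv F49881)).symm.trans (sb E22149 D23622))).symm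
theorem E23362 : n11175 = n11148 := (((iv F49629)).symm.trans (sb E22149 (iv D16217)))
theorem E23363 : n11180 = n10954 := (((D10954).symm.trans (sb E22161 (iv F49641)))).symm
theorem E23364 : n11148 = n10951 := ((((iv F48742)).symm.trans (sb E22161 (tr (iv F49626) E23362)))).symm
theorem E23366 : n10954 = n10116 := (((D10116).symm.trans (sb E22166 (tr (iv F49642) E23363)))).symm
theorem E23367 : n11183 = n9983 := (E23345).trans E23348
theorem E23369 : n23472 = n20070 := (E23347).trans E23352
theorem F200989 : act 3 n6973 = n5204 := (sb E22154 (iv D7545))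
theorem E23371 : n42350 = n41929 := ((D42350).symm.trans (sb E22157 (iv F175289)))
theorem F200990 : act 4 n29070 = n20847 := (sb E22157 (iv D30358))
theorem E23372 : n44265 = n42349 := ((((iv F177024)).symm.trans (sb E22157 D44265))).symm
theorem E23374 : n11321 = n10961 := (((D10961).symm.trans (sb E22188 (iv F198796)))).symm
theorem F200991 : act 1 n7548 = n5317 := (sb E22160 F34942)
theorem E23375 : n11175 = n10951 := (E23362).trans E23364
theorem E23376 : n11190 = n10961 := (((D10961).symm.trans (sb E22160 (iv F49678)))).symm
theorem E23377 : n23656 = n10977 := (((D10977).symm.trans (sb E22164 (iv F101200)))).symm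
theorem E23380 : n11180 = n10116 := (E23363).trans E23366
theorem E23381 : n23653 = n10975 := (((D10975).symm.trans (sb E22167 (iv F101187)))).symm
theorem E23395 : n23667 = n10985 := (((D10985).symm.trans (sb E22185 (iv F101254)))).symm
theorem E23396 : n11165 = n10986 := (((D10986).symm.trans (sb E22185 (iv D16246)))).symm
theorem E23397 : n10995 = n6064 := ((D10995).symm.trans (sb E22187 F38952))
theorem E23398 : n11201 = n6054 := (((iv F49728)).symm.trans (sb E22189 F38895))
theorem F200992 : act 0 n7709 = n5856 := (sb E22198 F38180)
theorem E23404 : n12352 = n6079 := ((D12352).symm.trans (sb E22200 F39033))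
theorem F200993 : act 3 n4219 = n5856 := (sb E22201 (iv D8495))
theorem F200994 : act 6 n4219 = n5857 := (sb E22201 F38273)
theorem F200995 : act 2 n2068 = n2779 := (sb E22203 F18979)
theorem F200996 : act 8 n2068 = n2790 := (sb E22203 F18982)
theorem F200997 : act 0 n3807 = n2671 := (sb E22265 (iv D3850))
theorem F200998 : act 2 n2080 = n2668 := (sb E22266 (iv D3845))
theorem F200999 : act 8 n2080 = n2669 := (sb E22266 F18268)
theorem E23444 : n2665 = n1474 := (((iv F12968)).symm.trans (sb E22269 F10362))
theorem F201000 : act 2 n1026 = n1299 := (sb E22270 F9300)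
theorem E23447 : n2679 = n1473 := (((D1473).symm.trans (sb E22270 (iv F13043)))).symm
theorem F201001 : act 0 n7711 = n5857 := (sb E22273 F38183)
theorem E23450 : n8478 = n4201 := ((D8478).symm.trans (iv (sb E22276 (tr (iv D8507) E23197))))
theorem F201002 : act 2 n4191 = n5857 := (sb E22277 (iv D8497))
theorem E23451 : n16568 = n14385 := ((((iv F63162)).symm.trans (sb E22279 F102941))).symm
theorem E23453 : n16547 = n6836 := (((F44391).symm.trans (sb E22279 (iv D24085)))).symm
theorem E23459 : n34370 = n30461 := ((((iv F129228)).symm.trans (sb E22393 (iv F144665)))).symm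
theorem E23461 : n16180 = n15750 := (((F196401).symm.trans (sb E22393 F100878))).symm
theorem E23462 : n34371 = n30465 := (((D30465).symm.trans (sb E22393 D34371))).symm
theorem E23463 : n16176 = n14410 := (((F90231).symm.trans (sb E22393 (iv D23568)))).symm
theorem E23464 : n16135 = n16106 := (((iv F196661)).symm.trans (sb E22357 F100401))
theorem E23466 : n34164 = n14623 := (((F91264).symm.trans (sb E22357 (iv F143967)))).symm
theorem E23467 : n34159 = n30859 := (((D30859).symm.trans (sb E22357 (iv F143947)))).symm
theorem E23469 : n31080 = n30465 := (((E23462).symm.trans (((iv F144667)).symm.trans (sb E22282 F188045)))).symm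
theorem E23471 : n33970 = n30840 := (((D30840).symm.trans (sb E22283 (iv F143214)))).symm
theorem E23473 : n30904 = n30326 := (((D30326).symm.trans (sb E22284 (iv F130961)))).symm
theorem E23478 : n30890 = n30860 := (((D30860).symm.trans (sb E22286 (iv D45055)))).symm
theorem E23479 : n16491 = n14230 := ((((iv F62518)).symm.trans (sb E22287 F200102))).symm
theorem F201006 : act 9 n9872 = n7824 := (sb E22287 (iv D11358))
theorem E23481 : n16504 = n14234 := ((((iv F62531)).symm.trans (sb E22288 (iv F71814)))).symm
theorem E23482 : n14198 = n7951 := (((iv F62368)).symm.trans (sb E22288 F50444))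
theorem E23483 : n14237 = n7881 := ((D14237).symm.trans (sb E22288 F50445))
theorem E23484 : n16475 = n14221 := ((((iv F62481)).symm.trans (sb E22288 (iv F199936)))).symm
theorem E23486 : n16200 = n14323 := ((((iv F62910)).symm.trans (sb E22289 D16200))).symm
theorem F201007 : act 0 n9863 = n7824 := (sb E22290 F50304)
theorem E23487 : n14307 = n7811 := (((iv F62834)).symm.trans (sb E22290 (iv D11337)))
theorem E23489 : n16728 = n14200 := ((((iv F62377)).symm.trans (sb E22291 F102696))).symm
theorem E23494 : n14203 = n7988 := ((D14203).symm.trans (sb E22292 F51114))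
theorem E23501 : n16593 = n14292 := ((((iv F62766)).symm.trans (sb E22299 (iv D24153)))).symm
theorem E23506 : n16562 = n14271 := ((((iv F62692)).symm.trans (sb E22300 (iv F200213)))).symm
theorem E23509 : n16591 = n14286 := ((((iv F62748)).symm.trans (sb E22302 F200432))).symm
theorem E23512 : n16563 = n14268 := ((((iv F62682)).symm.trans (sb E22302 (iv D24112)))).symm
theorem E23515 : n33079 = n6917 := (((F44884).symm.trans (sb E22304 (iv F139651)))).symm
theorem E23516 : n33129 = n14574 := (((D14574).symm.trans (sb E22304 D33129))).symm
theorem E23517 : n15726 = n6949 := (((F44886).symm.trans (sb E22304 F97576))).symm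
theorem E23518 : n30327 = n14576 := (((D14576).symm.trans (sb E22304 (iv F128687)))).symm
theorem E23522 : n30447 = n6958 := (((D6958).symm.trans (sb E22305 (iv F129178)))).symm
theorem E23523 : n30314 = n14589 := (((D14589).symm.trans (sb E22306 (iv D44198)))).symm
theorem E23524 : n30129 = n16509 := (((iv F127870)).symm.trans (sb E22307 F100212))
theorem E23526 : n30312 = n16056 := (((iv F196633)).symm.trans (sb E22307 F100213))
theorem E23527 : n30934 = n30368 := (((D30368).symm.trans (sb E22307 (iv F131072)))).symm
theorem E23528 : n34089 = n30369 := (((D30369).symm.trans (sb E22308 D34089))).symm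
theorem E23529 : n30370 = n16179 := ((D30370).symm.trans (sb E22308 F100200))
theorem E23530 : n34075 = n30371 := (((D30371).symm.trans (sb E22308 (iv F143638)))).symm
theorem E23531 : n16150 = n15721 := ((((iv F196644)).symm.trans (sb E22309 F100085))).symm
theorem E23532 : n34037 = n30355 := (((D30355).symm.trans (sb E22309 (iv F143480)))).symm
theorem F201008 : act 1 n11119 = n14587 := (sb E22310 F89975)
theorem F201009 : act 7 n11119 = n14338 := (sb E22310 (iv D20857))
theorem E23533 : n30374 = n16171 := ((((iv F70484)).symm.trans (sb E22310 D30374))).symm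
theorem F201010 : act 3 n20858 = n16047 := (sb E22311 (iv D23372))
theorem E23534 : n34076 = n30376 := (((D30376).symm.trans (sb E22311 D34076))).symm
theorem E23536 : n33673 = n6889 := (((F44436).symm.trans (sb E22312 (iv F198252)))).symm
theorem E23537 : n34346 = n14411 := (((D14411).symm.trans (sb E22312 (iv F144608)))).symm
theorem E23538 : n30439 = n14412 := (((D14412).symm.trans (sb E22313 (iv D44384)))).symm
theorem E23539 : n30921 = n30377 := (((D30377).symm.trans (sb E22314 (iv F131034)))).symm
theorem F201011 : act 6 n20859 = n16047 := (sb E22314 F100174)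
theorem E23540 : n34073 = n30378 := (((D30378).symm.trans (sb E22314 D34073))).symm
theorem E23541 : n7872 = n6840 := ((((iv F31310)).symm.trans (sb E22315 F50579))).symm
theorem E23543 : n7900 = n3296 := (((F22163).symm.trans (sb E22315 F50581))).symm
theorem E23544 : n7853 = n6831 := ((((iv F31280)).symm.trans (sb E22315 (iv D11400)))).symm
theorem E23550 : n16184 = n14398 := ((((iv F63208)).symm.trans (sb E22319 F100757))).symm
theorem E23562 : n33367 = n16086 := ((((iv F197475)).symm.trans (sb E22323 (iv F140815)))).symm
theorem E23563 : n33801 = n7721 := (((F49353).symm.trans (sb E22323 (iv F198300)))).symm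
theorem E23564 : n16105 = n16088 := ((((iv F70180)).symm.trans (sb E22323 (iv D23459)))).symm
theorem E23565 : n16274 = n7728 := ((((iv F35047)).symm.trans (sb E22324 F100557))).symm
theorem F201012 : act 1 n11066 = n7636 := (sb E22325 F49273)
theorem F201013 : act 4 n11066 = n7632 := (sb E22325 F49274)
theorem F201014 : act 6 n11066 = n7630 := (sb E22325 F49275)
theorem F201015 : act 8 n11066 = n7629 := (sb E22325 (iv D11080))
theorem F201016 : act 1 n11059 = n15752 := (sb E22340 F98338)
theorem E23568 : n33412 = n16085 := (((D16085).symm.trans (sb E22340 D33412))).symm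
theorem E23569 : n16108 = n16086 := (((D16086).symm.trans (sb E22340 (iv F196731)))).symm
theorem F201017 : act 8 n11059 = n15745 := (sb E22340 (iv D22924))
theorem F201018 : act 3 n21210 = n15752 := (sb E22328 (iv D22937))
theorem E23573 : n33428 = n30903 := (((D30903).symm.trans (sb E22328 (iv F141023)))).symm
theorem F201019 : act 4 n11101 = n15754 := (sb E22329 (iv F196734))
theorem E23574 : n15889 = n7721 := (((F49353).symm.trans (sb E22329 F98241))).symm
theorem F201020 : act 6 n11101 = n15752 := (sb E22329 F196468)
theorem E23575 : n15725 = n7644 := ((((iv D11101)).symm.trans (sb E22329 F98242))).symm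
theorem F201021 : act 8 n11101 = n15724 := (sb E22329 (iv D22895))
theorem F201022 : act 9 n10833 = n7655 := (sb E22330 (iv D11120))
theorem F201023 : act 9 n11071 = n15752 := (sb E22331 (iv D22938))
theorem E23577 : n33298 = n6955 := ((((iv F31776)).symm.trans (sb E22332 (iv F140563)))).symm
theorem E23578 : n15851 = n3681 := (((F24539).symm.trans (sb E22332 F98090))).symm
theorem E23582 : n15899 = n7728 := ((((iv F35047)).symm.trans (sb E22333 (iv F69393)))).symm
theorem E23583 : n7531 = n3678 := ((((iv D5329)).symm.trans (sb E22333 F48672))).symm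
theorem F201024 : act 8 n5329 = n7530 := (sb E22333 (iv D10934))
theorem E23584 : n15904 = n7686 := ((((iv F34885)).symm.trans (sb E22333 D15904))).symm
theorem F201025 : act 8 n5274 = n7454 := (sb E22334 (iv D10822))
theorem E23585 : n15552 = n7817 := ((D15552).symm.trans (sb E22336 F200079))
theorem F201026 : act 0 n11071 = n15745 := (sb E22337 (iv F68767))
theorem F201027 : act 1 n11071 = n7643 := (sb E22337 F49326)
theorem F201028 : act 7 n11071 = n15992 := (sb E22337 F196478)
theorem F201029 : act 3 n11003 = n7630 := (sb E22338 (iv F200688))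
theorem E23587 : n33471 = n7692 := (((F48628).symm.trans (sb E22341 (iv F141170)))).symm
theorem E23588 : n16349 = n15885 := ((((iv F69343)).symm.trans (sb E22341 F100866))).symm
theorem E23590 : n7751 = n7547 := ((((iv F196762)).symm.trans (sb E22342 F49923))).symm
theorem E23591 : n7749 = n7562 := (((F48657).symm.trans (sb E22342 (iv D11256)))).symm
theorem E23592 : n15775 = n15746 := ((((iv F196765)).symm.trans (sb E22344 F98483))).symm
theorem E23593 : n16181 = n15766 := ((((iv F196637)).symm.trans (sb E22345 F100746))).symm
theorem E23596 : n7742 = n7543 := (((F48262).symm.trans (sb E22346 F49427))).symm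
theorem E23597 : n15712 = n7657 := (((iv F68649)).symm.trans (sb E22346 (iv D11123)))
theorem F201030 : act 6 n10846 = n7655 := (sb E22347 F49415)
theorem F201031 : act 8 n10846 = n7654 := (sb E22347 (iv D11118))
theorem F201032 : act 1 n5155 = n3768 := (sb E22348 F25231)
theorem E23598 : n3785 = n3600 := (((F24027).symm.trans (sb E22348 F25232))).symm
theorem E23599 : n7450 = n3761 := (((iv F33940)).symm.trans (sb E22348 (iv D5443)))
theorem F201033 : act 1 n5206 = n3697 := (sb E22349 F24789)
theorem E23600 : n7519 = n3690 := (((iv F34221)).symm.trans (sb E22349 (iv D5346)))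
theorem F201034 : act 0 n5286 = n7454 := (sb E22350 F48169)
theorem F201035 : act 4 n5286 = n7478 := (sb E22350 F196446)
theorem F201036 : act 7 n5286 = n7476 := (sb E22350 F196447)
theorem F201037 : act 9 n5286 = n7467 := (sb E22350 F48173)
theorem F201038 : act 0 n5345 = n7530 := (sb E22351 F196456)
theorem E23601 : n15768 = n7740 := ((((iv F35089)).symm.trans (sb E22351 (iv F68851)))).symm
theorem E23602 : n7522 = n3784 := (((F24786).symm.trans (sb E22351 F196457))).symm
theorem E23603 : n7750 = n7561 := (((iv F35120)).symm.trans (sb E22351 F48324))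
theorem F201039 : act 5 n5345 = n7476 := (sb E22351 (iv D10852))
theorem F201040 : act 9 n5345 = n7549 := (sb E22351 (iv F196717))
theorem E23605 : n16319 = n15885 := ((((iv F69343)).symm.trans (sb E22352 (iv F71031)))).symm
theorem E23607 : n7898 = n6874 := ((((iv F31450)).symm.trans (sb E22353 (iv F35778)))).symm
theorem E23608 : n3776 = n3591 := ((((iv D5196)).symm.trans (sb E22353 F25310))).symm
theorem E23609 : n7509 = n3775 := (((iv F34173)).symm.trans (sb E22353 (iv D5460)))
theorem F201041 : act 8 n10844 = n7656 := (sb E22359 (iv D11121))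
theorem F201042 : act 2 n10831 = n7480 := (sb E22361 F48313)
theorem E23611 : n15777 = n14395 := ((((iv F63201)).symm.trans (sb E22361 (iv F68883)))).symm
theorem F201043 : act 9 n10831 = n7473 := (sb E22361 (iv D10849))
theorem E23615 : n33374 = n14611 := (((D14611).symm.trans (sb E22363 (iv F140840)))).symm
theorem E23617 : n15891 = n7680 := (((F49201).symm.trans (sb E22364 F98248))).symm
theorem F201044 : act 1 n5271 = n7626 := (sb E22365 F48194)
theorem F201045 : act 8 n5271 = n7451 := (sb E22365 (iv D10816))
theorem F201046 : act 9 n20842 = n15649 := (sb E22366 (iv D22783))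
theorem E23618 : n33484 = n16101 := ((((iv F70237)).symm.trans (sb E22367 (iv F141210)))).symm
theorem E23619 : n15963 = n15919 := ((((iv F197464)).symm.trans (sb E22367 F98498))).symm
theorem E23621 : n33692 = n7690 := ((((iv F34901)).symm.trans (sb E22368 (iv F142084)))).symm
theorem E23622 : n15935 = n7693 := (((D7693).symm.trans (sb E22368 F99102))).symm
theorem E23624 : n33441 = n16109 := (((D16109).symm.trans (sb E22369 (iv F141066)))).symm
theorem F201047 : act 9 n11073 = n15754 := (sb E22369 (iv D22941))
theorem E23626 : n16109 = n14645 := (((D14645).symm.trans (sb E22400 (tr (iv F141068) E23624)))).symm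
theorem E23627 : n33444 = n14646 := (((D14646).symm.trans (sb E22400 D33444))).symm
theorem F201048 : act 0 n5280 = n7451 := (sb E22372 F48158)
theorem E23628 : n14371 = n7658 := (((D7658).symm.trans (sb E22372 (iv F63114)))).symm
theorem F201049 : act 9 n5280 = n7464 := (sb E22372 F48160)
theorem F201050 : act 3 n10080 = n7626 := (sb E22373 (iv D11074))
theorem E23629 : n16111 = n14644 := (((D14644).symm.trans (sb E22373 D16111))).symm
theorem E23630 : n14646 = n14625 := ((D14646).symm.trans (sb E22373 (iv F64117)))
theorem F201051 : act 0 n11038 = n14317 := (sb E22374 F89810)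
theorem E23631 : n14314 = n7825 := (((F49111).symm.trans (sb E22374 F89811))).symm
theorem F201052 : act 6 n11038 = n15644 := (sb E22374 F196356)
theorem F201053 : act 9 n11038 = n14330 := (sb E22374 F89814)
theorem F201054 : act 0 n10814 = n7655 := (sb E22375 F49347)
theorem F201055 : act 8 n10814 = n7643 := (sb E22375 (iv D11100))
theorem E23633 : n34169 = n16101 := (((D16101).symm.trans (sb E22376 (iv F197490)))).symm
theorem E23636 : n24034 = n20849 := (((F196652).symm.trans (sb E22379 F200713))).symm
theorem E23639 : n16358 = n14500 := (((F90329).symm.trans (sb E22462 F100895))).symm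
theorem E23640 : n34383 = n30509 := (((D30509).symm.trans (sb E22462 D34383))).symm
theorem E23642 : n34302 = n14500 := (((F90329).symm.trans (sb E22381 (iv F144443)))).symm
theorem E23643 : n34295 = n30509 := (((D30509).symm.trans (sb E22381 (iv F144420)))).symm
theorem E23644 : n16351 = n15884 := ((((iv F197468)).symm.trans (sb E22382 (iv F71149)))).symm
theorem E23645 : n16262 = n15933 := (((D15933).symm.trans (sb E22382 (iv F70816)))).symm
theorem E23646 : n34215 = n16145 := ((((iv F70389)).symm.trans (sb E22397 (iv F144141)))).symm
theorem E23647 : n16147 = n15933 := ((D16147).symm.trans (sb E22397 (tr F100518 E23645)))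
theorem F201056 : act 7 n11099 = n15754 := (sb E22384 F197159)
theorem F201057 : act 8 n11099 = n15722 := (sb E22384 (iv D22892))
theorem E23649 : n33418 = n14610 := (((D14610).symm.trans (sb E22385 D33418))).symm
theorem E23650 : n33415 = n14611 := (((D14611).symm.trans (sb E22385 (iv F140978)))).symm
theorem E23651 : n30497 = n14612 := (((D14612).symm.trans (sb E22385 (iv F129347)))).symm
theorem F201058 : act 1 n11060 = n15754 := (sb E22386 F98347)
theorem E23652 : n15920 = n7680 := (((F49201).symm.trans (sb E22386 F98349))).symm
theorem F201059 : act 8 n11060 = n15746 := (sb E22386 (iv D22926))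
theorem E23653 : n7854 = n6829 := (((F44361).symm.trans (sb E22387 F49359))).symm
theorem E23654 : n16155 = n14378 := (((D14378).symm.trans (sb E22387 D16155))).symm
theorem E23662 : n16298 = n7690 := ((((iv F34901)).symm.trans (sb E22391 (iv F70957)))).symm
theorem E23663 : n7714 = n7693 := (((D7693).symm.trans (sb E22391 (iv D11206)))).symm
theorem F201060 : act 0 n11073 = n15746 := (sb E22392 (iv F68771))
theorem E23664 : n34707 = n16320 := (((D16320).symm.trans (sb E22394 (iv F145904)))).symm
theorem E23667 : n16347 = n16321 := (((D16321).symm.trans (sb E22394 (iv D23810)))).symm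
theorem E23669 : n16321 = n7553 := ((((iv F34360)).symm.trans (sb E22437 (tr (iv F198255) E23667)))).symm
theorem E23670 : n15862 = n7556 := (((D7556).symm.trans (sb E22437 (iv D23098)))).symm
theorem E23671 : n16169 = n15774 := (((D15774).symm.trans (sb E22399 (iv F70480)))).symm
theorem F201061 : act 4 n10847 = n7656 := (sb E22399 F49412)
theorem F201062 : act 7 n10847 = n7654 := (sb E22399 (iv D11117))
theorem E23672 : n16507 = n15556 := ((((iv F67976)).symm.trans (sb E22401 F100204))).symm
theorem E23673 : n30932 = n15767 := (((D15767).symm.trans (sb E22401 (iv F131065)))).symm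
theorem F201063 : act 0 n10848 = n14608 := (sb E22402 F90170)
theorem E23674 : n30437 = n15776 := (((D15776).symm.trans (sb E22402 D30437))).symm
theorem E23675 : n33984 = n29105 := ((((iv F123569)).symm.trans (sb E22403 D33984))).symm
theorem E23676 : n30888 = n30862 := ((D30888).symm.trans (sb E22403 (iv F130791)))
theorem F201064 : act 0 n21183 = n30348 := (sb E22404 (iv F128767))
theorem F201065 : act 8 n21183 = n14572 := (sb E22404 (iv D21204))
theorem E23677 : n30892 = n30863 := (((D30863).symm.trans (sb E22404 D30892))).symm
theorem F201066 : act 1 n21170 = n30356 := (sb E22405 F184834)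
theorem F201067 : act 3 n21170 = n30348 := (sb E22405 (iv D44248))
theorem E23681 : n34098 = n28783 := ((((iv F122220)).symm.trans (sb E22407 (iv F143706)))).symm
theorem E23683 : n34099 = n30353 := (((D30353).symm.trans (sb E22407 D34099))).symm
theorem E23690 : n16481 = n14319 := ((((iv F62894)).symm.trans (sb E22410 (iv D23993)))).symm
theorem E23692 : n31840 = n14346 := (((D14346).symm.trans (sb E22412 (iv F134398)))).symm
theorem E23693 : n15009 = n14321 := (((D14321).symm.trans (sb E22413 (iv F65575)))).symm
theorem E23696 : n34051 = n28764 := ((((iv F122127)).symm.trans (sb E22415 D34051))).symm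
theorem E23697 : n30906 = n30324 := (((D30324).symm.trans (sb E22415 (iv F130969)))).symm
theorem F201068 : act 0 n11357 = n14320 := (sb E22419 F89823)
theorem F201069 : act 2 n11357 = n15644 := (sb E22419 (iv F196139))
theorem E23700 : n30320 = n15028 := ((((iv F65668)).symm.trans (sb E22419 D30320))).symm
theorem F201070 : act 1 n21231 = n16047 := (sb E22420 F97749)
theorem F201071 : act 8 n21231 = n15644 := (sb E22420 (iv D22773))
theorem E23701 : n33190 = n30935 := (((D30935).symm.trans (sb E22420 D33190))).symm
theorem F201072 : act 4 n21223 = n15649 := (sb E22421 (iv D22782))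
theorem E23702 : n33203 = n30919 := (((D30919).symm.trans (sb E22421 D33203))).symm
theorem E23704 : n14377 = n7870 := (((iv F63138)).symm.trans (sb E22423 (iv D11423)))
theorem F201073 : act 1 n5209 = n3786 := (sb E22425 F25345)
theorem F201074 : act 0 n5442 = n7457 := (sb E22427 F196022)
theorem F201075 : act 3 n5442 = n7476 := (sb E22427 F47724)
theorem F201076 : act 6 n5442 = n7380 := (sb E22427 (iv D10708))
theorem F201077 : act 9 n5442 = n7470 := (sb E22427 (iv F196187))
theorem E23706 : n16276 = n15898 := (((D15898).symm.trans (sb E22428 (iv F70866)))).symm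
theorem F201078 : act 1 n10963 = n7712 := (sb E22429 F49683)
theorem E23707 : n15948 = n7703 := ((D15948).symm.trans (sb E22429 (iv D11191)))
theorem E23708 : n15898 = n7727 := (((iv F197472)).symm.trans (sb E22430 F49375))
theorem F201079 : act 5 n10963 = n7648 := (sb E22430 (iv D11107))
theorem E23709 : n8717 = n7703 := (((E23707).symm.trans ((D15948).symm.trans (sb E22430 (iv F197531))))).symm
theorem F201080 : act 1 n11064 = n7639 := (sb E22431 F49284)
theorem F201081 : act 7 n11064 = n7632 := (sb E22431 F49287)
theorem F201082 : act 8 n11064 = n7631 := (sb E22431 (iv D11083))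
theorem E23711 : n16276 = n7727 := (E23706).trans E23708
theorem E23712 : n16272 = n7684 := ((((iv F34875)).symm.trans (sb E22434 (iv D23706)))).symm
theorem E23713 : n16347 = n7553 := (E23667).trans E23669
theorem E23714 : n7748 = n7563 := (((D7563).symm.trans (sb E22542 (iv D11255)))).symm
theorem F201083 : act 8 n5299 = n8457 := (sb E22436 (iv D12284))
theorem E23715 : n8457 = n7567 := (((D7567).symm.trans (sb E22439 F197220))).symm
theorem F201084 : act 4 n10858 = n7631 := (sb E22441 F49271)
theorem F201085 : act 7 n10858 = n7629 := (sb E22441 (iv D11079))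
theorem F201086 : act 8 n10858 = n7620 := (sb E22441 (iv F200730))
theorem F201087 : act 7 n10703 = n7824 := (sb E22442 F50396)
theorem E23716 : n15558 = n7823 := ((D15558).symm.trans (sb E22442 (iv D11356)))
theorem F201088 : act 8 n5407 = n7380 := (sb E22443 (iv D10709))
theorem E23717 : n7441 = n3749 := (((iv F33901)).symm.trans (sb E22444 (iv D5427)))
theorem E23718 : n7952 = n7329 := (((F195579).symm.trans (sb E22445 F199859))).symm
theorem E23719 : n15419 = n7815 := (((iv F67410)).symm.trans (sb E22445 (iv D11344)))
theorem F201089 : act 8 n5396 = n7407 := (sb E22446 F47834)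
theorem E23720 : n16502 = n14231 := ((((iv F62522)).symm.trans (sb E22447 D16502))).symm
theorem F201090 : act 4 n10632 = n7824 := (sb E22447 F50381)
theorem E23721 : n16500 = n7331 := ((((iv D10632)).symm.trans (sb E22447 (iv F71800)))).symm
theorem E23722 : n14217 = n7822 := (((iv F195794)).symm.trans (sb E22447 F50382))
theorem E23723 : n15451 = n7821 := ((D15451).symm.trans (sb E22447 (iv D11353)))
theorem F201091 : act 0 n5402 = n6803 := (sb E22448 F44183)
theorem E23724 : n6827 = n3755 := (((F25063).symm.trans (sb E22448 F44186))).symm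
theorem F201092 : act 9 n5402 = n6809 := (sb E22448 F44187)
theorem E23727 : n7948 = n7301 := ((((iv F33270)).symm.trans (sb E22450 F50432))).symm
theorem E23728 : n7829 = n7333 := (((D7333).symm.trans (sb E22450 (iv D11365)))).symm
theorem E23729 : n7932 = n7323 := ((((iv F33380)).symm.trans (sb E22450 (iv F199798)))).symm
theorem F201093 : act 0 n5406 = n7324 := (sb E22451 F47346)
theorem F201094 : act 3 n5406 = n7334 := (sb E22451 F195731)
theorem E23730 : n7322 = n3800 := (((F25079).symm.trans (sb E22451 (iv D10618)))).symm
theorem F201095 : act 6 n5406 = n7332 := (sb E22451 F195732)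
theorem F201096 : act 9 n5406 = n7330 := (sb E22451 F47350)
theorem F201097 : act 8 n5405 = n7332 := (sb E22452 (iv D10636))
theorem F201098 : act 0 n2603 = n3558 := (sb E22454 F23977)
theorem F201099 : act 9 n2603 = n3564 := (sb E22454 F23979)
theorem F201100 : act 5 n5492 = n7334 := (sb E22456 F47201)
theorem E23733 : n7949 = n7302 := (((iv F36012)).symm.trans (sb E22456 (iv D10588)))
theorem F201101 : act 4 n5440 = n7423 := (sb E22457 F47427)
theorem F201102 : act 7 n5440 = n7334 := (sb E22457 (iv D10638))
theorem E23735 : n6821 = n3746 := (((iv F31238)).symm.trans (sb E22459 (iv D5421)))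
theorem F201103 : act 8 n2596 = n3558 := (sb E22460 F23952)
theorem E23738 : n15830 = n1613 := ((((iv F8120)).symm.trans (sb E22463 F98805))).symm
theorem E23743 : n15728 = n6586 := ((((iv F30167)).symm.trans (sb E22465 D15728))).symm
theorem E23744 : n7526 = n3343 := (((F22458).symm.trans (sb E22465 F48198))).symm
theorem E23745 : n14381 = n6950 := (((D6950).symm.trans (sb E22465 (iv F63152)))).symm
theorem E23749 : n15873 = n3182 := (((F21376).symm.trans (sb E22467 F98180))).symm
theorem E23750 : n30449 = n6591 := (((D6591).symm.trans (sb E22467 (iv F129185)))).symm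
theorem E23751 : n15871 = n3347 := (((D3347).symm.trans (sb E22468 (iv F69282)))).symm
theorem E23752 : n14461 = n3348 := (((D3348).symm.trans (sb E22468 (iv F63466)))).symm
theorem E23753 : n14372 = n6959 := (((D6959).symm.trans (sb E22469 (iv D20908)))).symm
theorem E23758 : n30633 = n6890 := (((D6890).symm.trans (sb E22472 (iv F129891)))).symm
theorem E23759 : n14457 = n6891 := (((D6891).symm.trans (sb E22473 (iv D21033)))).symm
theorem E23761 : n28818 = n14414 := (((D14414).symm.trans (sb E22474 (iv F122362)))).symm
theorem E23762 : n30441 = n14415 := (((D14415).symm.trans (sb E22474 D30441))).symm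
theorem E23763 : n3783 = n3291 := ((((iv F15785)).symm.trans (sb E22476 F25303))).symm
theorem E23764 : n7904 = n3137 := ((((iv F15043)).symm.trans (sb E22476 (iv F35801)))).symm
theorem E23765 : n7902 = n3294 := (((D3294).symm.trans (sb E22476 (iv F35794)))).symm
theorem E23766 : n7905 = n3295 := (((D3295).symm.trans (sb E22476 D7905))).symm
theorem E23767 : n3773 = n3285 := ((((iv F15761)).symm.trans (sb E22476 (iv D5459)))).symm
theorem E23777 : n7560 = n6880 := (((D6880).symm.trans (sb E22481 (iv F34384)))).symm
theorem E23778 : n7746 = n6529 := ((((iv F29908)).symm.trans (sb E22481 (iv F35107)))).symm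
theorem E23779 : n7744 = n6881 := (((D6881).symm.trans (sb E22481 (iv F35100)))).symm
theorem E23781 : n6864 = n3685 := (((iv F31414)).symm.trans (sb E22481 (iv D5340)))
theorem E23782 : n16332 = n6533 := (((D6533).symm.trans (sb E22482 (iv F71083)))).symm
theorem E23785 : n16329 = n6888 := (((D6888).symm.trans (sb E22483 (iv F71071)))).symm
theorem E23791 : n16190 = n13657 := ((((iv F60030)).symm.trans (sb E22489 (iv F70531)))).symm
theorem E23794 : n15078 = n6846 := (((D6846).symm.trans (sb E22490 (iv F65885)))).symm
theorem E23796 : n34325 = n13665 := ((((iv F60059)).symm.trans (sb E22491 (iv F144522)))).symm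
theorem E23797 : n31089 = n13667 := (((D13667).symm.trans (sb E22491 (iv F131620)))).symm
theorem E23799 : n1850 = n1589 := ((((iv D2284)).symm.trans (sb E22493 F12759))).symm
theorem E23800 : n3781 = n3292 := (((D3292).symm.trans (sb E22493 (iv F17956)))).symm
theorem E23801 : n3284 = n1817 := (((iv F15758)).symm.trans (sb E22493 (iv D2621)))
theorem E23803 : n1847 = n1586 := ((((iv F7995)).symm.trans (sb E22494 (iv D2657)))).symm
theorem E23804 : n3772 = n3286 := ((((iv F15766)).symm.trans (sb E22495 (iv D5457)))).symm
theorem E23805 : n3280 = n1812 := (((iv F15735)).symm.trans (sb E22496 (iv D2613)))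
theorem E23815 : n30329 = n13770 := (((D13770).symm.trans (sb E22502 (iv F128696)))).symm
theorem F201104 : act 1 n10032 = n14558 := (sb E22503 F89856)
theorem F201105 : act 3 n10032 = n14318 := (sb E22503 (iv D20828))
theorem E23816 : n30330 = n14578 := (((D14578).symm.trans (sb E22503 D30330))).symm
theorem F201106 : act 1 n2543 = n3663 := (sb E22504 F24178)
theorem E23817 : n7525 = n3675 := (((D3675).symm.trans (sb E22504 (iv F34246)))).symm
theorem F201107 : act 8 n2543 = n3588 := (sb E22504 (iv D5191))
theorem F201108 : act 0 n10041 = n14318 := (sb E22507 F89815)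
theorem E23819 : n14315 = n7126 := (((F44924).symm.trans (sb E22507 F89816))).symm
theorem E23820 : n28758 = n14591 := (((D14591).symm.trans (sb E22507 (iv F122093)))).symm
theorem E23821 : n30316 = n14592 := (((D14592).symm.trans (sb E22507 D30316))).symm
theorem E23822 : n15868 = n3682 := (((D3682).symm.trans (sb E22509 (iv F69271)))).symm
theorem E23823 : n7516 = n3684 := (((D3684).symm.trans (sb E22509 (iv D10912)))).symm
theorem F201109 : act 0 n2548 = n3588 := (sb E22510 F24157)
theorem F201110 : act 9 n2548 = n3597 := (sb E22510 F24160)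
theorem F201111 : act 0 n5281 = n6828 := (sb E22511 F44344)
theorem E23824 : n6826 = n3756 := (((F24547).symm.trans (sb E22511 (iv D9896)))).symm
theorem E23825 : n13639 = n7660 := (((D7660).symm.trans (sb E22511 (iv F59951)))).symm
theorem F201112 : act 9 n5281 = n6837 := (sb E22511 F44347)
theorem F201113 : act 0 n5403 = n6802 := (sb E22512 F44178)
theorem E23826 : n13612 = n7827 := (((D7827).symm.trans (sb E22512 (iv F59826)))).symm
theorem F201114 : act 9 n5403 = n6808 := (sb E22512 F44182)
theorem F201115 : act 0 n11040 = n13614 := (sb E22513 F85364)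
theorem E23827 : n28757 = n16058 := (((D16058).symm.trans (sb E22513 D28757))).symm
theorem F201116 : act 9 n11040 = n13623 := (sb E22513 F85369)
theorem E23828 : n15779 = n13655 := ((((iv F60023)).symm.trans (sb E22514 (iv F68891)))).symm
theorem F201117 : act 9 n9912 = n7474 := (sb E22514 (iv D10851))
theorem E23834 : n7145 = n6830 := (((D6830).symm.trans (sb E22518 (iv F32545)))).symm
theorem E23835 : n34324 = n13664 := (((D13664).symm.trans (sb E22519 (iv F144519)))).symm
theorem E23836 : n16157 = n13643 := ((((iv F59972)).symm.trans (sb E22519 (iv D23538)))).symm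
theorem F201118 : act 0 n20861 = n29070 := (sb E22522 F175061)
theorem F201119 : act 8 n20862 = n30350 := (sb E22523 F184611)
theorem E23839 : n15861 = n7554 := (((D7554).symm.trans (sb E22524 (iv D23096)))).symm
theorem E23840 : n14456 = n7557 := (((D7557).symm.trans (sb E22525 (iv F63445)))).symm
theorem E23841 : n7558 = n7540 := ((D7558).symm.trans (sb E22525 F48566))
theorem F201120 : act 0 n5213 = n6973 := (sb E22526 F44564)
theorem E23842 : n13680 = n7559 := (((D7559).symm.trans (sb E22526 (iv F60108)))).symm
theorem F201121 : act 2 n5202 = n3606 := (sb E22527 F24272)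
theorem F201122 : act 9 n5202 = n3602 := (sb E22527 (iv D5214))
theorem F201123 : act 0 n10850 = n13809 := (sb E22528 F85550)
theorem E23843 : n28817 = n15778 := (((D15778).symm.trans (sb E22528 D28817))).symm
theorem F201124 : act 0 n22784 = n29069 := (sb E22529 F175055)
theorem F201125 : act 9 n19790 = n15651 := (sb E22530 (iv D22785))
theorem F201126 : act 1 n5063 = n3806 := (sb E22532 F25459)
theorem E23846 : n7950 = n7300 := ((((iv F33265)).symm.trans (sb E22532 (iv F36017)))).symm
theorem E23847 : n16700 = n6764 := ((((iv D9804)).symm.trans (sb E22533 F102537))).symm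
theorem E23849 : n16476 = n14219 := ((((iv F62475)).symm.trans (sb E22533 (iv D23987)))).symm
theorem E23850 : n16697 = n6749 := ((((iv F30902)).symm.trans (sb E22534 (iv F72578)))).symm
theorem E23851 : n7924 = n6759 := ((((iv F30957)).symm.trans (sb E22534 (iv D11494)))).symm
theorem E23852 : n14211 = n7810 := (((iv F62437)).symm.trans (sb E22535 (iv D11335)))
theorem F201127 : act 1 n5393 = n6799 := (sb E22536 F44150)
theorem E23853 : n14305 = n7116 := ((((iv F32405)).symm.trans (sb E22536 (iv F62823)))).symm
theorem F201128 : act 8 n5393 = n6803 := (sb E22536 F44153)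
theorem E23854 : n7931 = n7296 := ((((iv F33246)).symm.trans (sb E22537 (iv D11504)))).symm
theorem E23855 : n7318 = n3790 := (((iv F33358)).symm.trans (sb E22538 (iv D5479)))
theorem F201129 : act 8 n5395 = n7324 := (sb E22539 F47322)
theorem E23860 : n3821 = n3126 := ((((iv F14994)).symm.trans (sb E22546 (iv F18146)))).symm
theorem E23861 : n3819 = n3249 := ((((iv F15594)).symm.trans (sb E22546 (iv F18137)))).symm
theorem E23862 : n3267 = n1840 := (((iv F15682)).symm.trans (sb E22546 (iv D2650)))
theorem F201130 : act 0 n2600 = n3268 := (sb E22547 F22119)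
theorem F201131 : act 9 n2600 = n3272 := (sb E22547 F22123)
theorem F201132 : act 1 n2443 = n1845 := (sb E22548 F12904)
theorem E23864 : n3519 = n1842 := (((iv F16833)).symm.trans (sb E22548 (iv D2652)))
theorem F201133 : act 1 n1203 = n898 := (sb E22549 F6591)
theorem E23865 : n1725 = n897 := (((iv F8664)).symm.trans (sb E22549 (iv D1289)))
theorem F201134 : act 0 n1282 = n1712 := (sb E22550 (iv D2464))
theorem F201135 : act 9 n1282 = n1715 := (sb E22550 F12076)
theorem F201136 : act 1 n2492 = n1824 := (sb E22551 F12770)
theorem E23867 : n3587 = n1819 := (((iv F17133)).symm.trans (sb E22551 (iv D2624)))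
theorem F201137 : act 0 n1264 = n1726 := (sb E22552 F12159)
theorem F201138 : act 9 n1264 = n1730 := (sb E22552 F12162)
theorem F201139 : act 1 n5205 = n3695 := (sb E22554 F24780)
theorem E23869 : n7518 = n3688 := (((iv F34217)).symm.trans (sb E22554 (iv D5344)))
theorem F201140 : act 0 n2551 = n3589 := (sb E22555 F24161)
theorem F201141 : act 9 n2551 = n3598 := (sb E22555 F24165)
theorem E23875 : n3811 = n3246 := ((((iv F15582)).symm.trans (sb E22559 (iv D5507)))).symm
theorem E23876 : n3264 = n1836 := (((iv F15667)).symm.trans (sb E22560 (iv D2643)))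
theorem F201142 : act 1 n2595 = n3265 := (sb E22561 F22099)
theorem E23877 : n6820 = n3410 := ((((iv F16294)).symm.trans (sb E22561 D6820))).symm
theorem F201143 : act 8 n2595 = n3268 := (sb E22561 F22102)
theorem E23878 : n3516 = n1837 := (((iv F16818)).symm.trans (sb E22562 (iv D2645)))
theorem E23879 : n1722 = n895 := (((iv F8647)).symm.trans (sb E22563 (iv D1287)))
theorem F201144 : act 8 n1278 = n1712 := (sb E22564 F12062)
theorem E23881 : n3581 = n1813 := (((iv F17102)).symm.trans (sb E22565 (iv D2615)))
theorem F201145 : act 8 n1260 = n1726 := (sb E22566 F12142)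
theorem E23885 : n7529 = n3677 := ((D7529).symm.trans (sb E22568 (iv D5328)))
theorem E23886 : n7507 = n1765 := (((F12416).symm.trans (sb E22569 (iv F34163)))).symm
theorem F201146 : act 8 n2544 = n3589 := (sb E22569 (iv D5194))
theorem E23894 : n8184 = n7992 := ((F195570).symm.trans (sb E22577 F50746))
theorem E23916 : n33279 = n3326 := (((D3326).symm.trans (sb E22591 (iv F140496)))).symm
theorem F201147 : act 5 n5522 = n6769 := (sb E22600 F43851)
theorem F201148 : act 7 n5522 = n6752 := (sb E22600 (iv D9785))
theorem E23931 : n14264 = n7867 := (((iv F62663)).symm.trans (sb E22606 F50560))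
theorem E23932 : n14255 = n7850 := (((iv F62628)).symm.trans (sb E22606 (iv D11395)))
theorem E23936 : n11421 = n9836 := ((((iv F44085)).symm.trans (sb E22610 (iv F50660)))).symm
theorem E23937 : n5514 = n4692 := ((((iv D6786)).symm.trans (sb E22610 F35665))).symm
theorem E23938 : n9825 = n5431 := (((iv F44044)).symm.trans (sb E22610 (iv D7869)))
theorem E23939 : n24020 = n9839 := ((((iv F44097)).symm.trans (sb E22611 F200233))).symm
theorem E23940 : n24117 = n9841 := (((D9841).symm.trans (sb E22611 (iv F103058)))).symm
theorem E23941 : n11557 = n4693 := ((((iv D6788)).symm.trans (sb E22611 F72074))).symm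
theorem E23942 : n24118 = n9843 := (((D9843).symm.trans (sb E22611 D24118))).symm
theorem E23943 : n11396 = n9827 := ((((iv F44051)).symm.trans (sb E22611 (iv D16567)))).symm
theorem E23944 : n5505 = n4688 := ((((iv F21975)).symm.trans (sb E22612 (iv D7969)))).symm
theorem E23945 : n9819 = n5419 := (((iv F44015)).symm.trans (sb E22613 (iv D7851)))
theorem E23957 : n33517 = n1784 := (((F12407).symm.trans (sb E22624 (iv F141330)))).symm
theorem F201149 : act 2 n5140 = n4255 := (sb E22626 F28137)
theorem F201150 : act 0 n5448 = n3914 := (sb E22628 F26188)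
theorem F201151 : act 2 n5448 = n7328 := (sb E22628 F195584)
theorem F201152 : act 4 n5448 = n7412 := (sb E22628 (iv F195646))
theorem E23958 : n3911 = n3825 := (((F25256).symm.trans (sb E22628 (iv D5653)))).symm
theorem F201153 : act 6 n5448 = n7373 := (sb E22628 (iv F195647))
theorem F201154 : act 7 n5448 = n7327 := (sb E22628 F195585)
theorem E23959 : n8189 = n7890 := (((D7890).symm.trans (sb E22628 D8189))).symm
theorem F201155 : act 2 n6110 = n7401 := (sb E22629 F47857)
theorem F201156 : act 8 n6110 = n7412 := (sb E22629 F47860)
theorem F201157 : act 0 n5523 = n3913 := (sb E22630 F26184)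
theorem F201158 : act 5 n5523 = n7328 := (sb E22630 (iv F195537))
theorem F201159 : act 7 n5523 = n7299 := (sb E22630 F195504)
theorem E23960 : n8186 = n7993 := (((D7993).symm.trans (sb E22630 D8186))).symm
theorem E23962 : n29805 = n6935 := (((D6935).symm.trans (sb E22632 F193427))).symm
theorem E23963 : n15852 = n3661 := (((F24462).symm.trans (sb E22633 F98094))).symm
theorem E23964 : n29760 = n3337 := ((((iv F15979)).symm.trans (sb E22634 (iv F193284)))).symm
theorem E23965 : n29663 = n1780 := (((F12385).symm.trans (sb E22634 F193187))).symm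
theorem F201160 : act 0 n5499 = n3876 := (sb E22642 F25955)
theorem F201161 : act 2 n5499 = n7299 := (sb E22642 F195500)
theorem F201162 : act 5 n5499 = n7327 := (sb E22642 (iv F195533))
theorem E23974 : n7956 = n7298 := (((iv F36046)).symm.trans (sb E22642 F195501))
theorem E23975 : n8104 = n7959 := (((D7959).symm.trans (sb E22642 D8104))).symm
theorem F201163 : act 2 n6108 = n7321 := (sb E22643 F47332)
theorem F201164 : act 8 n6108 = n7327 := (sb E22643 F47334)
theorem E23986 : n3584 = n2060 := (((iv F17116)).symm.trans (sb E22654 (iv D2970)))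
theorem F201165 : act 2 n2943 = n3555 := (sb E22655 F23963)
theorem F201166 : act 8 n2943 = n3561 := (sb E22655 F23965)
theorem E23988 : n7303 = n3804 := ((D7303).symm.trans (sb E22658 F25472))
theorem E23989 : n7304 = n3803 := ((D7304).symm.trans (sb E22658 (iv D5495)))
theorem E23990 : n7954 = n7297 := ((((iv F33252)).symm.trans (sb E22658 D7954))).symm
theorem F201167 : act 5 n5067 = n3740 := (sb E22659 (iv D5410))
theorem F201168 : act 6 n5046 = n3805 := (sb E22663 F25476)
theorem E23992 : n7293 = n4307 := (((iv F33230)).symm.trans (sb E22664 (iv D6224)))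
theorem F201169 : act 2 n2984 = n3500 := (sb E22665 F23588)
theorem F201170 : act 8 n2984 = n3502 := (sb E22665 F23590)
theorem E23995 : n11416 = n10704 := ((((iv F47711)).symm.trans (sb E22670 (iv F50642)))).symm
theorem F201171 : act 4 n7381 = n5442 := (sb E22670 F35693)
theorem E23996 : n10711 = n5438 := ((D10711).symm.trans (sb E22670 (iv D7878)))
theorem F201172 : act 6 n7384 = n5440 := (sb E22671 F35698)
theorem F201173 : act 3 n3764 = n5102 := (sb E22672 F33653)
theorem F201174 : act 7 n3764 = n5099 := (sb E22672 (iv D7387))
theorem F201175 : act 6 n3763 = n5100 := (sb E22673 F33659)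
theorem F201176 : act 8 n3763 = n5099 := (sb E22673 (iv D7388))
theorem F201177 : act 1 n2958 = n3909 := (sb E22674 F26161)
theorem F201178 : act 3 n2958 = n3921 := (sb E22674 F195766)
theorem F201179 : act 7 n2958 = n3918 := (sb E22674 F195767)
theorem F201180 : act 9 n2958 = n3916 := (sb E22674 F26165)
theorem F201181 : act 2 n2952 = n3903 := (sb E22676 F26132)
theorem F201182 : act 8 n2952 = n3909 := (sb E22676 F26135)
theorem F201183 : act 0 n5439 = n7368 := (sb E22679 F47623)
theorem F201184 : act 3 n5439 = n7384 := (sb E22679 F196017)
theorem F201185 : act 7 n5439 = n7381 := (sb E22679 F196018)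
theorem F201186 : act 9 n5439 = n7377 := (sb E22679 F47627)
theorem E24001 : n15513 = n7858 := (((iv F67808)).symm.trans (sb E22680 (iv D11406)))
theorem F201187 : act 8 n5424 = n7368 := (sb E22681 F47589)
theorem F201188 : act 0 n5446 = n3916 := (sb E22682 F26194)
theorem F201189 : act 1 n5446 = n7377 := (sb E22682 (iv F33616))
theorem F201190 : act 3 n5446 = n7373 := (sb E22682 F195753)
theorem F201191 : act 7 n5446 = n7370 := (sb E22682 (iv F195864))
theorem F201192 : act 2 n6151 = n7362 := (sb E22683 F47606)
theorem F201193 : act 8 n6151 = n7373 := (sb E22683 F47609)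
theorem F201194 : act 1 n7375 = n5448 := (sb E22685 F35707)
theorem E24002 : n11437 = n10696 := ((((iv F47680)).symm.trans (sb E22685 (iv F50711)))).symm
theorem E24003 : n5521 = n5092 := ((((iv D7375)).symm.trans (sb E22685 F35709))).symm
theorem E24004 : n11343 = n10700 := (((D10700).symm.trans (sb E22685 F199959))).symm
theorem F201195 : act 9 n7375 = n5440 := (sb E22685 (iv D7882))
theorem E24005 : n5085 = n2651 := (((iv F23725)).symm.trans (sb E22686 (iv D3823)))
theorem F201196 : act 0 n3759 = n5087 := (sb E22687 F33563)
theorem F201197 : act 9 n3759 = n5093 := (sb E22687 F33566)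
theorem E24007 : n11565 = n5094 := ((((iv D7378)).symm.trans (sb E22688 F200040))).symm
theorem E24008 : n11352 = n10705 := (((D10705).symm.trans (sb E22688 (iv D16501)))).symm
theorem E24009 : n11409 = n10683 := ((((iv F47630)).symm.trans (sb E22688 (iv F200097)))).symm
theorem E24011 : n5510 = n5086 := ((((iv F23729)).symm.trans (sb E22689 (iv D7976)))).symm
theorem F201198 : act 4 n7382 = n5407 := (sb E22690 F35494)
theorem F201199 : act 7 n7382 = n5405 := (sb E22690 (iv D7830))
theorem F201200 : act 0 n7366 = n5440 := (sb E22691 F35624)
theorem E24012 : n5081 = n2644 := (((iv F23707)).symm.trans (sb E22692 (iv D3814)))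
theorem F201201 : act 8 n3748 = n5087 := (sb E22693 F33539)
theorem F201202 : act 2 n2090 = n2439 := (sb E22696 F16821)
theorem F201203 : act 8 n2090 = n2441 := (sb E22696 F16823)
theorem E24018 : n15802 = n781 := (((F5773).symm.trans (sb E22700 F97899))).symm
theorem E24020 : n15829 = n1614 := (((D1614).symm.trans (sb E22702 (iv F69104)))).symm
theorem E24112 : n1044 = n395 := ((((iv F2174)).symm.trans (sb E22781 (iv D1496)))).symm
theorem F201204 : act 2 n1453 = n1696 := (sb E22785 (iv D2438))
theorem F201205 : act 8 n1453 = n1697 := (sb E22785 F11959)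
theorem F201206 : act 2 n706 = n834 := (sb E22786 (iv D1198))
theorem F201207 : act 8 n706 = n835 := (sb E22786 F6171)
theorem F201208 : act 2 n1429 = n1724 := (sb E22788 F12149)
theorem F201209 : act 8 n1429 = n1728 := (sb E22788 F12152)
theorem E24121 : n2130 = n821 := ((((iv F4336)).symm.trans (sb E22792 (iv D3062)))).symm
theorem E24123 : n1035 = n828 := ((((iv F4373)).symm.trans (sb E22794 F7447))).symm
theorem E24124 : n1694 = n1034 := (((iv F8521)).symm.trans (sb E22795 F7443))
theorem E24126 : n833 = n500 := (((iv F4394)).symm.trans (sb E22796 (iv D724)))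
theorem F201210 : act 2 n716 = n829 := (sb E22797 F6136)
theorem E24127 : n15908 = n7707 := ((((iv F34963)).symm.trans (sb E22806 (iv F197527)))).symm
theorem E24128 : n8674 = n7707 := (((iv F197784)).symm.trans (sb E22799 (tr (iv F69429) E24127)))
theorem E24129 : n16286 = n4214 := (((F27598).symm.trans (sb E22799 (iv F70906)))).symm
theorem F201211 : act 5 n6021 = n7709 := (sb E22799 F49701)
theorem E24130 : n8675 = n7706 := (((iv F38944)).symm.trans (sb E22799 (iv D11195)))
theorem F201212 : act 5 n5979 = n7636 := (sb E22800 F49300)
theorem F201213 : act 2 n5318 = n4158 := (sb E22803 F27570)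
theorem E24134 : n15975 = n7699 := ((((iv F34931)).symm.trans (sb E22804 F98540))).symm
theorem E24135 : n15986 = n3714 := (((F24672).symm.trans (sb E22805 (iv F69750)))).symm
theorem E24136 : n7705 = n7572 := (((iv F34957)).symm.trans (sb E22805 F48903))
theorem F201214 : act 0 n5350 = n4044 := (sb E22807 F26928)
theorem F201215 : act 5 n5350 = n7534 := (sb E22807 F196505)
theorem F201216 : act 7 n5350 = n7533 := (sb E22807 (iv F196772))
theorem E24137 : n7568 = n3694 := ((((iv D5350)).symm.trans (sb E22807 (iv F196824)))).symm
theorem E24138 : n15909 = n4214 := (((F27598).symm.trans (sb E22808 D15909))).symm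
theorem E24139 : n7535 = n4156 := ((((iv D6021)).symm.trans (sb E22808 F48689))).symm
theorem F201217 : act 8 n6021 = n7534 := (sb E22808 (iv D10938))
theorem F201218 : act 8 n5221 = n3692 := (sb E22809 (iv D5348))
theorem F201219 : act 2 n2872 = n3672 := (sb E22811 F24217)
theorem F201220 : act 8 n2872 = n3593 := (sb E22811 (iv D5200))
theorem F201221 : act 2 n5979 = n7712 := (sb E22812 F48708)
theorem F201222 : act 8 n5979 = n7574 := (sb E22812 F48711)
theorem E24145 : n14364 = n7852 := (((iv F63082)).symm.trans (sb E22813 (iv D11398)))
theorem F201223 : act 8 n5426 = n7457 := (sb E22814 F48129)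
theorem F201224 : act 2 n2969 = n3585 := (sb E22817 F24152)
theorem F201225 : act 8 n2969 = n3596 := (sb E22817 F24155)
theorem F201226 : act 0 n5226 = n4040 := (sb E22822 F26913)
theorem E24151 : n34582 = n4211 := ((((iv F19743)).symm.trans (sb E22826 (iv F145439)))).symm
theorem F201227 : act 0 n5311 = n7567 := (sb E22828 F48796)
theorem E24156 : n15945 = n7700 := ((((iv F34935)).symm.trans (sb E22828 (iv F69583)))).symm
theorem F201228 : act 9 n5311 = n7550 := (sb E22828 (iv D10964))
theorem E24157 : n17914 = n7708 := (((D7708).symm.trans (sb E22829 (iv F77558)))).symm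
theorem E24158 : n8715 = n7700 := ((((iv F34934)).symm.trans (sb E22830 (iv F39093)))).symm
theorem E24159 : n8724 = n7708 := (((D7708).symm.trans (sb E22830 (iv F39123)))).symm
theorem F201229 : act 4 n6020 = n7712 := (sb E22831 F49710)
theorem F201230 : act 7 n6020 = n7709 := (sb E22831 F49712)
theorem E24160 : n15901 = n7684 := ((((iv F34874)).symm.trans (sb E22834 (iv F69400)))).symm
theorem E24161 : n29659 = n3709 := (((F24648).symm.trans (sb E22835 F193172))).symm
theorem E24162 : n15977 = n7698 := (((D7698).symm.trans (sb E22835 F197929))).symm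
theorem F201231 : act 4 n5313 = n7574 := (sb E22838 F48913)
theorem F201232 : act 8 n6020 = n7533 := (sb E22844 (iv D10937))
theorem F201233 : act 4 n5220 = n3696 := (sb E22845 F24801)
theorem F201234 : act 8 n5220 = n3693 := (sb E22845 (iv D5349))
theorem E24173 : n7571 = n3728 := ((D7571).symm.trans (sb E22846 F24793))
theorem F201235 : act 5 n5222 = n3693 := (sb E22846 F24794)
theorem F201236 : act 7 n5222 = n3692 := (sb E22846 (iv D5347))
theorem F201237 : act 5 n10987 = n7629 := (sb E22847 (iv D11078))
theorem F201238 : act 0 n2626 = n1942 := (sb E22854 F13526)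
theorem E24175 : n31585 = n6575 := ((((iv F30123)).symm.trans (sb E22855 (iv F193578)))).symm
theorem E24176 : n15845 = n3332 := (((F22413).symm.trans (sb E22855 F98073))).symm
theorem E24179 : n15895 = n6613 := (((F42694).symm.trans (sb E22856 F98260))).symm
theorem E24181 : n15893 = n6974 := (((D6974).symm.trans (sb E22857 (iv F69373)))).symm
theorem E24184 : n15888 = n7679 := (((D7679).symm.trans (sb E22860 (iv F69355)))).symm
theorem E24186 : n29756 = n3335 := (((D3335).symm.trans (sb E22861 F193401))).symm
theorem E24188 : n31520 = n6617 := (((D6617).symm.trans (sb E22862 (iv F193952)))).symm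
theorem E24191 : n33702 = n6983 := (((D6983).symm.trans (sb E22863 D33702))).symm
theorem E24192 : n15940 = n6984 := (((D6984).symm.trans (sb E22864 F99117))).symm
theorem E24194 : n33447 = n14627 := (((D14627).symm.trans (sb E22865 (iv F141088)))).symm
theorem E24195 : n33444 = n14625 := (E23627).trans E23630
theorem E24196 : n30516 = n14628 := (((D14628).symm.trans (sb E22865 (iv F129414)))).symm
theorem E24197 : n29675 = n7689 := (((D7689).symm.trans (sb E22867 (iv F193272)))).symm
theorem E24198 : n15932 = n7691 := (((D7691).symm.trans (sb E22867 F99092))).symm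
theorem E24199 : n15937 = n7694 := (((D7694).symm.trans (sb E22868 (iv F69548)))).symm
theorem F201239 : act 9 n5305 = n7544 := (sb E22868 (iv D10955))
theorem E24201 : n7694 = n6998 := (((D6998).symm.trans (sb E22891 (tr (iv F69549) E24199)))).symm
theorem E24202 : n6999 = n6984 := ((D6999).symm.trans (sb E22891 (tr D15940 E24192)))
theorem E24204 : n14627 = n13835 := (((D13835).symm.trans (sb E22870 (tr D33447 E24194)))).symm
theorem F201240 : act 3 n4832 = n3663 := (sb E22871 (iv D5306))
theorem F201241 : act 0 n10066 = n14396 := (sb E22872 (iv F63202))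
theorem F201242 : act 8 n10066 = n6948 := (sb E22872 (iv D10081))
theorem E24206 : n14648 = n14628 := (((D14628).symm.trans (sb E22872 D14648))).symm
theorem F201243 : act 8 n21186 = n30359 := (sb E22874 (iv D44267))
theorem E24209 : n15924 = n6613 := (((F42694).symm.trans (sb E22875 F98365))).symm
theorem E24210 : n30500 = n13811 := (((D13811).symm.trans (sb E22875 (iv F129360)))).symm
theorem E24211 : n15921 = n6974 := (((D6974).symm.trans (sb E22876 (iv F69488)))).symm
theorem E24212 : n14495 = n6975 := (((D6975).symm.trans (sb E22876 (iv F63602)))).symm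
theorem F201244 : act 1 n10057 = n14400 := (sb E22877 F90311)
theorem F201245 : act 3 n10057 = n14396 := (sb E22877 (iv D20942))
theorem E24213 : n30501 = n14614 := (((D14614).symm.trans (sb E22877 D30501))).symm
theorem F201246 : act 1 n5296 = n7544 := (sb E22878 F48721)
theorem E24214 : n15918 = n7679 := (((D7679).symm.trans (sb E22878 (iv F69475)))).symm
theorem F201247 : act 8 n5296 = n7540 := (sb E22878 (iv D10946))
theorem E24224 : n16299 = n7689 := (((D7689).symm.trans (sb E22885 D16299))).symm
theorem E24225 : n7713 = n7691 := (((D7691).symm.trans (sb E22885 (iv D11204)))).symm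
theorem F201248 : act 0 n5305 = n7540 := (sb E22886 (iv F34306))
theorem E24230 : n15937 = n6998 := (E24199).trans E24201
theorem E24234 : n30864 = n29107 := (((D29107).symm.trans (sb E22894 (iv F130798)))).symm
theorem E24235 : n29108 = n29088 := ((D29108).symm.trans (sb E22895 (iv F123497)))
theorem F201249 : act 4 n20009 = n14558 := (sb E22895 (iv D21185))
theorem E24236 : n30865 = n29109 := (((D29109).symm.trans (sb E22895 D30865))).symm
theorem F201250 : act 0 n21186 = n30350 := (sb E22896 (iv F128777))
theorem F201251 : act 1 n21172 = n30359 := (sb E22898 F184855)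
theorem F201252 : act 3 n21172 = n30350 := (sb E22898 F184856)
theorem E24242 : n34102 = n28785 := (((D28785).symm.trans (sb E22901 D34102))).symm
theorem E24254 : n15012 = n14322 := ((((iv F62905)).symm.trans (sb E22908 (iv D21853)))).symm
theorem E24255 : n14306 = n7117 := (((iv F62827)).symm.trans (sb E22909 (iv D10327)))
theorem E24256 : n34054 = n28765 := (((D28765).symm.trans (sb E22910 D34054))).symm
theorem E24257 : n30908 = n28766 := (((D28766).symm.trans (sb E22910 (iv F130978)))).symm
theorem E24258 : n30909 = n28768 := ((((iv F122149)).symm.trans (sb E22911 (iv D45087)))).symm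
theorem E24262 : n14886 = n3156 := ((((iv F15140)).symm.trans (sb E22916 F88334))).symm
theorem E24263 : n14080 = n1607 := (((F11299).symm.trans (sb E22916 (iv D20476)))).symm
theorem E24264 : n14078 = n3333 := (((D3333).symm.trans (sb E22917 F193191))).symm
theorem E24267 : n14857 = n1537 := (((F10787).symm.trans (sb E22919 (iv D21633)))).symm
theorem E24270 : n14059 = n784 := (((F5784).symm.trans (sb E22920 (iv D20445)))).symm
theorem E24271 : n14057 = n1621 := (((F11358).symm.trans (sb E22922 (iv D20443)))).symm
theorem E24274 : n14843 = n753 := (((F5546).symm.trans (sb E22923 (iv D21612)))).symm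
theorem E24277 : n29732 = n3338 := (((D3338).symm.trans (sb E22925 (iv D43340)))).symm
theorem E24284 : n14028 = n1776 := (((F12369).symm.trans (sb E22933 F193026))).symm
theorem E24286 : n14015 = n1778 := ((((iv F8889)).symm.trans (sb E22935 (iv D20378)))).symm
theorem E24309 : n14025 = n3701 := (((F24607).symm.trans (sb E22953 F193023))).symm
theorem F201253 : act 8 n5298 = n7565 := (sb E22953 F48669)
theorem E24310 : n14019 = n3705 := ((((iv F17611)).symm.trans (sb E22957 F87883))).symm
theorem E24311 : n14013 = n3710 := (((D3710).symm.trans (sb E22957 (iv D20375)))).symm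
theorem F201254 : act 0 n5309 = n7565 := (sb E22958 F48786)
theorem E24313 : n15947 = n7701 := (((D7701).symm.trans (sb E22958 (iv F69592)))).symm
theorem F201255 : act 9 n5309 = n7548 := (sb E22958 (iv D10962))
theorem F201256 : act 0 n2632 = n3256 := (sb E22960 (iv D4702))
theorem E24314 : n6488 = n3797 := (((D3797).symm.trans (sb E22960 (iv F29722)))).symm
theorem E24315 : n6758 = n3796 := ((((iv F18028)).symm.trans (sb E22960 (iv F30951)))).symm
theorem F201257 : act 9 n2632 = n3259 := (sb E22960 F22041)
theorem F201258 : act 0 n2635 = n3501 := (sb E22961 (iv D5058))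
theorem E24316 : n7295 = n3801 := ((((iv F18051)).symm.trans (sb E22961 (iv F33240)))).symm
theorem F201259 : act 9 n2635 = n3504 := (sb E22961 F23601)
theorem E24317 : n17917 = n3716 := (((D3716).symm.trans (sb E22962 (iv F193066)))).symm
theorem E24318 : n17916 = n7710 := (((D7710).symm.trans (sb E22964 (iv F77567)))).symm
theorem F201260 : act 2 n2871 = n3670 := (sb E22972 F24207)
theorem F201261 : act 8 n2871 = n3592 := (sb E22972 (iv D5198))
theorem E24326 : n7710 = n4210 := ((D7710).symm.trans (sb E22976 F27557))
theorem E24327 : n38020 = n4208 := ((((iv F19729)).symm.trans (sb E22977 (iv F159173)))).symm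
theorem E24328 : n17916 = n4210 := (E24318).trans E24326
theorem E24331 : n7788 = n7573 := (((D7573).symm.trans (sb E22979 (iv F35305)))).symm
theorem F201262 : act 0 n5224 = n4039 := (sb E22980 F26909)
theorem F201263 : act 8 n5224 = n4127 := (sb E22980 (iv F200866))
theorem F201264 : act 1 n5043 = n3807 := (sb E22984 F25463)
theorem E24340 : n7925 = n6745 := ((((iv F30882)).symm.trans (sb E22988 (iv D11496)))).symm
theorem E24341 : n6755 = n3788 := (((iv F30936)).symm.trans (sb E22989 (iv D5475)))
theorem F201265 : act 1 n2627 = n3254 := (sb E22990 (iv D4699))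
theorem F201266 : act 8 n2627 = n3256 := (sb E22990 F22023)
theorem F201267 : act 1 n4914 = n6798 := (sb E22991 F44145)
theorem E24342 : n7292 = n3791 := (((iv F33224)).symm.trans (sb E22992 (iv D5480)))
theorem F201268 : act 8 n2628 = n3501 := (sb E22993 F23585)
theorem F201269 : act 9 n2713 = n2099 := (sb E22997 (iv D3019))
theorem F201270 : act 4 n5660 = n4236 := (sb E22998 F28046)
theorem F201271 : act 7 n5660 = n4234 := (sb E22998 (iv D6123))
theorem E24348 : n15857 = n2008 := (((F13759).symm.trans (sb E23001 (iv F69218)))).symm
theorem F201272 : act 1 n1439 = n1935 := (sb E23010 F13492)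
theorem F201273 : act 9 n1439 = n1942 := (sb E23010 F13495)
theorem F201274 : act 2 n1434 = n1929 := (sb E23011 F13461)
theorem F201275 : act 8 n1434 = n1935 := (sb E23011 F13463)
theorem F201276 : act 6 n2957 = n3919 := (sb E23013 F26236)
theorem F201277 : act 8 n2957 = n3918 := (sb E23013 (iv D5666))
theorem E24359 : n8038 = n4319 := (((iv F36437)).symm.trans (sb E23015 (iv D6241)))
theorem F201278 : act 5 n5601 = n4234 := (sb E23016 (iv D6122))
theorem F201279 : act 1 n1460 = n1883 := (sb E23019 F13175)
theorem F201280 : act 9 n1460 = n1886 := (sb E23019 F13178)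
theorem F201281 : act 1 n2709 = n2099 := (sb E23020 F14432)
theorem F201282 : act 2 n1457 = n1881 := (sb E23021 F13162)
theorem F201283 : act 8 n1457 = n1883 := (sb E23021 F13164)
theorem F201284 : act 1 n2998 = n3848 := (sb E23024 F25772)
theorem F201285 : act 3 n2998 = n3853 := (sb E23024 F195506)
theorem F201286 : act 5 n2998 = n3852 := (sb E23024 F195507)
theorem F201287 : act 9 n2998 = n3851 := (sb E23024 F25776)
theorem F201288 : act 0 n2654 = n1886 := (sb E23025 F13191)
theorem F201289 : act 1 n2654 = n3524 := (sb E23025 (iv F16852))
theorem E24390 : n2138 = n432 := (((D432).symm.trans (sb E23051 F14709))).symm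
theorem E24391 : n1039 = n909 := ((((iv F4760)).symm.trans (sb E23052 F7473))).symm
theorem E24393 : n1047 = n205 := (((D205).symm.trans (sb E23053 F7526))).symm
theorem E24394 : n502 = n443 := ((((iv F2415)).symm.trans (sb E23054 F3816))).symm
theorem E24395 : n1040 = n438 := (((D438).symm.trans (sb E23055 F7480))).symm
theorem E24396 : n921 = n499 := (((iv F4816)).symm.trans (sb E23056 F3783))
theorem F201290 : act 8 n638 = n496 := (sb E23056 (iv D720))
theorem F201291 : act 2 n2985 = n3488 := (sb E23079 (iv D5038))
theorem F201292 : act 8 n2985 = n3489 := (sb E23079 F23497)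
theorem E24422 : n4371 = n1682 := ((((iv F8457)).symm.trans (sb E23082 (iv D6314)))).symm
theorem E24424 : n2111 = n1686 := ((((iv F8481)).symm.trans (sb E23083 F14503))).symm
theorem F201293 : act 8 n1185 = n1023 := (sb E23085 (iv D1469))
theorem E24428 : n3485 = n2110 := (((iv F16654)).symm.trans (sb E23087 F14498))
theorem F201294 : act 2 n1468 = n1688 := (sb E23088 F11888)
theorem E24430 : n3496 = n2109 := (((D2109).symm.trans (sb E23088 (iv F16719)))).symm
theorem E24431 : n13997 = n966 := (((D966).symm.trans (sb E23090 F193038))).symm
theorem E24432 : n13996 = n2006 := ((((iv F9879)).symm.trans (sb E23091 F192946))).symm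
theorem E24433 : n13988 = n967 := (((D967).symm.trans (sb E23092 F193004))).symm
theorem F201295 : act 2 n2993 = n3846 := (sb E23104 F25756)
theorem F201296 : act 8 n2993 = n3848 := (sb E23104 F25759)
theorem F201297 : act 2 n719 = n911 := (sb E23111 F6678)
theorem E24444 : n1877 = n1038 := (((D1038).symm.trans (sb E23111 (iv F9363)))).symm
theorem F201298 : act 2 n344 = n444 := (sb E23113 F3432)
theorem F201299 : act 0 n5497 = n3851 := (sb E23130 F25791)
theorem F201300 : act 6 n2997 = n3879 := (sb E23131 F25811)
theorem F201301 : act 8 n2997 = n3852 := (sb E23131 (iv D5565))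
theorem E24464 : n2120 = n1853 := ((((iv F9244)).symm.trans (sb E23132 F14555))).symm
theorem E24467 : n1861 = n1031 := (((iv F9287)).symm.trans (sb E23134 F7404))
theorem E24468 : n2119 = n1863 := ((((iv F9297)).symm.trans (sb E23134 (iv F10386)))).symm
theorem F201302 : act 8 n1297 = n1026 := (sb E23134 (iv D1475))
theorem F201303 : act 1 n714 = n916 := (sb E23137 F6713)
theorem E24471 : n1032 = n915 := ((D1032).symm.trans (sb E23137 (iv D1315)))
theorem E24472 : n18413 = n4218 := ((((iv F19775)).symm.trans (sb E23139 F113748))).symm
theorem E24474 : n8706 = n4199 := ((((iv F19690)).symm.trans (sb E23140 (iv D12650)))).symm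
theorem E24477 : n8708 = n4198 := (((F27486).symm.trans (sb E23143 D8708))).symm
theorem F201304 : act 4 n5991 = n4147 := (sb E23143 F27520)
theorem F201305 : act 7 n5991 = n4144 := (sb E23143 F27522)
theorem F201306 : act 8 n5991 = n4143 := (sb E23143 (iv D6000))
theorem F201307 : act 5 n5992 = n4144 := (sb E23144 F27518)
theorem F201308 : act 8 n5992 = n4142 := (sb E23144 (iv D5999))
theorem F201309 : act 2 n2881 = n4144 := (sb E23150 F26884)
theorem F201310 : act 8 n2881 = n4026 := (sb E23150 (iv D5828))
theorem E24484 : n8506 = n4203 := ((((iv F19708)).symm.trans (sb E23152 F54474))).symm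
theorem F201311 : act 9 n5846 = n4051 := (sb E23153 (iv D5865))
theorem F201312 : act 2 n4267 = n5640 := (sb E23156 F36983)
theorem F201313 : act 6 n4267 = n5660 := (sb E23156 F195548)
theorem F201314 : act 8 n4267 = n5651 := (sb E23156 F36986)
theorem F201315 : act 1 n2888 = n4026 := (sb E23157 F26857)
theorem F201316 : act 5 n2888 = n4050 := (sb E23157 F196568)
theorem F201317 : act 7 n2888 = n4049 := (sb E23157 F196569)
theorem F201318 : act 9 n2888 = n4044 := (sb E23157 F26860)
theorem E24487 : n17961 = n4215 := ((((iv F19761)).symm.trans (sb E23158 F111139))).symm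
theorem E24492 : n8710 = n4215 := ((D8710).symm.trans (sb E23163 (tr (iv F77752) E24487)))
theorem F201319 : act 1 n6001 = n4203 := (sb E23164 F197372)
theorem F201320 : act 9 n6001 = n4219 := (sb E23164 (iv F197722))
theorem F201321 : act 2 n5977 = n7709 := (sb E23166 F48694)
theorem F201322 : act 8 n5977 = n7572 := (sb E23166 F48697)
theorem F201323 : act 3 n2922 = n4051 := (sb E23173 (iv D5864))
theorem F201324 : act 6 n2922 = n4052 := (sb E23173 F27021)
theorem F201325 : act 2 n2917 = n4145 := (sb E23195 (iv D6003))
theorem E24523 : n4216 = n4207 := ((D4216).symm.trans (sb E23195 F27532))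
theorem F201326 : act 1 n5845 = n4145 := (sb E23197 (iv F200959))
theorem F201327 : act 9 n5845 = n4052 := (sb E23197 (iv D5866))
theorem E24525 : n14000 = n4183 := ((((iv F19606)).symm.trans (sb E23200 F192943))).symm
theorem E24528 : n23573 = n20944 := ((((iv F90318)).symm.trans (sb E23204 F200971))).symm
theorem E24529 : n24031 = n20777 := ((((iv F89635)).symm.trans (sb E23204 F143686))).symm
theorem E24530 : n23575 = n20960 := (((D20960).symm.trans (sb E23204 F143687))).symm
theorem E24534 : n34298 = n30459 := (((D30459).symm.trans (sb E23206 (iv F144429)))).symm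
theorem E24547 : n33499 = n1791 := (((F12447).symm.trans (sb E23214 D33499))).symm
theorem E24555 : n16168 = n15962 := (((D15962).symm.trans (sb E23220 (iv F70477)))).symm
theorem E24556 : n15956 = n7735 := (((iv F69629)).symm.trans (sb E23220 F49409))
theorem F201328 : act 5 n10972 = n7654 := (sb E23220 (iv D11116))
theorem E24566 : n33466 = n30926 := (((D30926).symm.trans (sb E23226 (iv F141154)))).symm
theorem E24568 : n23437 = n20939 := (E23228).trans E23273
theorem E24571 : n30987 = n30494 := (((D30494).symm.trans (sb E24568 (iv F131272)))).symm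
theorem E24572 : n33441 = n14645 := (E23624).trans E23626
theorem E24574 : n16233 = n15965 := (((F98506).symm.trans (sb E23229 F100414))).symm
theorem E24575 : n33487 = n30985 := ((D33487).symm.trans (sb E23229 (iv F131264)))
theorem E24576 : n33490 = n30494 := ((((iv F129333)).symm.trans (sb E23330 (iv F141233)))).symm
theorem E24577 : n30985 = n30496 := ((((iv F129343)).symm.trans (sb E23330 (tr (iv F141223) E24575)))).symm
theorem E24580 : n31179 = n16361 := (((D16361).symm.trans (sb E23232 (iv F131902)))).symm
theorem E24581 : n33487 = n30496 := (E24575).trans E24577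
theorem E24582 : n34218 = n30971 := (((iv F144150)).symm.trans (sb E23233 (iv D45177)))
theorem E24583 : n34221 = n30512 := (((D30512).symm.trans (sb E23269 (iv F144159)))).symm
theorem E24584 : n30971 = n30510 := ((((iv F129391)).symm.trans (sb E23269 (tr (iv F144152) E24582)))).symm
theorem E24585 : n31019 = n30513 := (((D30513).symm.trans (sb E23269 (iv F131381)))).symm
theorem E24587 : n30973 = n30513 := (((E24585).symm.trans (((iv F131379)).symm.trans (sb E23235 F188421)))).symm
theorem E24589 : n24035 = n20852 := (((D20852).symm.trans (sb E23237 D24035))).symm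
theorem F201329 : act 9 n14333 = n11357 := (sb E23237 (iv D16510))
theorem E24590 : n24026 = n20701 := ((((iv F89326)).symm.trans (sb E23238 F143672))).symm
theorem E24591 : n23570 = n20864 := (((D20864).symm.trans (sb E23238 F143673))).symm
theorem F201330 : act 2 n14344 = n11119 := (sb E23239 (iv D16178))
theorem E24593 : n23557 = n20868 := (((D20868).symm.trans (sb E23239 (iv F100852)))).symm
theorem E24595 : n34946 = n30105 := ((((iv F127776)).symm.trans (sb E23244 (iv F146918)))).symm
theorem E24600 : n30301 = n15008 := (((iv F128562)).symm.trans (sb E23246 (iv D21847)))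
theorem F201331 : act 6 n23347 = n30356 := (sb E23256 F184890)
theorem F201332 : act 4 n5341 = n7566 := (sb E23260 F48863)
theorem E24618 : n30969 = n30512 := ((D30969).symm.trans (sb E23261 (tr D34221 E24583)))
theorem E24619 : n16264 = n14700 := (((F91565).symm.trans (sb E23262 F100525))).symm
theorem E24620 : n34218 = n30510 := (E24582).trans E24584
theorem F201333 : act 8 n20949 = n14608 := (sb E23263 (iv D21259))
theorem F201334 : act 8 n44264 = n30863 := (sb E23264 (iv D45017))
theorem F201335 : act 3 n21258 = n15754 := (sb E23266 (iv D22940))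
theorem E24623 : n15934 = n14700 := (((F91565).symm.trans (sb E23266 F98397))).symm
theorem E24624 : n16257 = n15930 := ((((iv F69523)).symm.trans (sb E23267 (iv F70799)))).symm
theorem F201336 : act 8 n44249 = n30378 := (sb E23277 (iv D44295))
theorem E24628 : n34477 = n15957 := (((D15957).symm.trans (sb E23278 (iv F145048)))).symm
theorem E24632 : n16216 = n15930 := (((E24624).symm.trans (((iv F70801)).symm.trans (sb E23281 (iv D23621))))).symm
theorem F201337 : act 1 n44263 = n30838 := (sb E23285 F187596)
theorem F201338 : act 6 n44263 = n30897 := (sb E23285 F197844)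
theorem F201339 : act 8 n44263 = n30831 := (sb E23285 (iv D44967))
theorem F201340 : act 1 n44264 = n30842 := (sb E23286 F187614)
theorem E24636 : n15944 = n7801 := ((D15944).symm.trans (sb E23312 F49825))
theorem F201341 : act 1 n10960 = n7709 := (sb E23289 F49669)
theorem E24651 : n34505 = n15978 := (((D15978).symm.trans (sb E23309 (iv F145168)))).symm
theorem E24652 : n16243 = n15979 := (((D15979).symm.trans (sb E23309 (iv D23665)))).symm
theorem E24653 : n15988 = n8793 := ((D15988).symm.trans (sb E23311 F55438))
theorem F201342 : act 3 n6094 = n7709 := (sb E23313 F49719)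
theorem F201343 : act 6 n6094 = n7711 := (sb E23313 F49721)
theorem F201344 : act 9 n28781 = n22784 := (sb E23318 (iv D33207))
theorem E24660 : n33492 = n28854 := (((D28854).symm.trans (sb E23322 (iv F141242)))).symm
theorem E24661 : n33493 = n28855 := (((D28855).symm.trans (sb E23322 D33493))).symm
theorem E24662 : n16237 = n15970 := ((((iv F69682)).symm.trans (sb E23323 D16237))).symm
theorem E24663 : n15971 = n14711 := ((D15971).symm.trans (sb E23323 (iv F64411)))
theorem E24664 : n33447 = n13835 := (E24194).trans E24204
theorem E24666 : n14711 = n13706 := (((F85668).symm.trans (sb E23329 (tr F98528 E24663)))).symm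
theorem E24668 : n29208 = n28856 := (((D28856).symm.trans (sb E23325 (iv F124012)))).symm
theorem F201345 : act 8 n41921 = n30380 := (sb E23326 (iv D44298))
theorem E24670 : n16235 = n15967 := ((((iv F69670)).symm.trans (sb E23327 D16235))).symm
theorem E24671 : n15968 = n14709 := ((D15968).symm.trans (sb E23327 (iv F64402)))
theorem E24672 : n15971 = n13706 := (E24663).trans E24666
theorem E24673 : n14709 = n14494 := ((((iv F63597)).symm.trans (sb E23344 (tr (iv F69674) E24671)))).symm
theorem F201346 : act 4 n41920 = n29074 := (sb E23333 (iv D42359))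
theorem F201347 : act 3 n44249 = n30842 := (sb E23335 F187682)
theorem E24679 : n29395 = n16368 := (((D16368).symm.trans (sb E23339 (iv F124752)))).symm
theorem E24681 : n34225 = n29199 := (((iv F144169)).symm.trans (sb E23340 (iv D42546)))
theorem E24683 : n31182 = n16364 := (((D16364).symm.trans (sb E23342 (iv F131914)))).symm
theorem E24684 : n15968 = n14494 := (E24671).trans E24673
theorem E24685 : n16267 = n14701 := (((iv F70829)).symm.trans (sb E23343 (iv D21398)))
theorem E24687 : n16270 = n14504 := (((D14504).symm.trans (sb E23367 (iv F70839)))).symm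
theorem E24688 : n14701 = n14502 := ((((iv F63627)).symm.trans (sb E23367 (tr (iv F70830) E24685)))).symm
theorem E24689 : n14734 = n14505 := (((D14505).symm.trans (sb E23367 (iv F64496)))).symm
theorem E24692 : n14504 = n13896 := (((F86643).symm.trans (sb E23369 (tr F100542 E24687)))).symm
theorem E24693 : n31022 = n29200 := (((D29200).symm.trans (sb E23369 (iv F131390)))).symm
theorem F201348 : act 8 n9983 = n6973 := (sb E23348 (iv D10117))
theorem E24694 : n30515 = n29200 := (((iv F129409)).symm.trans (sb E23349 (tr (iv F131388) E24693)))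
theorem E24695 : n29199 = n28865 := ((D29199).symm.trans (sb E23352 (iv F122555)))
theorem F201349 : act 4 n20070 = n14400 := (sb E23352 (iv D20951))
theorem E24696 : n30514 = n29198 := ((((iv F123973)).symm.trans (sb E23352 D30514))).symm
theorem F201350 : act 0 n42351 = n30380 := (sb E23354 F184909)
theorem F201351 : act 4 n42351 = n30359 := (sb E23354 F184911)
theorem E24697 : n16230 = n15961 := ((((iv F69646)).symm.trans (sb E23360 D16230))).symm
theorem E24698 : n34433 = n16356 := (((D16356).symm.trans (sb E23361 (iv F144887)))).symm
theorem E24699 : n16260 = n15931 := (((D15931).symm.trans (sb E23375 (iv F70807)))).symm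
theorem E24700 : n16266 = n14699 := (((D14699).symm.trans (sb E23380 (iv F70826)))).symm
theorem E24701 : n16267 = n14502 := (E24685).trans E24688
theorem E24702 : n16215 = n15931 := (((D15931).symm.trans (sb E23364 D16215))).symm
theorem E24704 : n16270 = n13896 := (E24687).trans E24692
theorem F201352 : act 3 n10116 = n7544 := (sb E23366 (iv D10954))
theorem F201353 : act 1 n41929 = n29074 := (sb E23371 F177026)
theorem F201354 : act 3 n41929 = n29070 := (sb E23371 (iv D42350))
theorem F201355 : act 0 n42349 = n30379 := (sb E23372 F184905)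
theorem E24709 : n16454 = n15946 := (((D15946).symm.trans (sb E23374 (iv F71588)))).symm
theorem F201356 : act 1 n10961 = n7711 := (sb E23376 F49677)
theorem E24711 : n31579 = n15966 := ((((iv F69666)).symm.trans (sb E23377 F194125))).symm
theorem E24716 : n29825 = n15960 := ((((iv F69643)).symm.trans (sb E23381 F193717))).symm
theorem E24731 : n16245 = n15980 := (((D15980).symm.trans (sb E23395 (iv D23667)))).symm
theorem E24732 : n14023 = n7771 := ((F193021).symm.trans (sb E23396 F49590))
theorem F201357 : act 8 n6064 = n7573 := (sb E23397 (iv D10995))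
theorem F201358 : act 2 n6054 = n7711 := (sb E23398 F49728)
theorem E24735 : n6082 = n6079 := ((D6082).symm.trans (iv (sb E23404 (tr (iv D12352) E24484))))
theorem F201359 : act 2 n1474 = n1856 := (sb E23444 F12968)
theorem E24773 : n3841 = n2118 := ((((iv F10382)).symm.trans (sb E23444 (iv F18245)))).symm
theorem F201360 : act 2 n1473 = n1865 := (sb E23447 F13042)
theorem F201361 : act 8 n4201 = n5845 := (sb E23450 (iv D8478))
theorem E24778 : n20912 = n11422 := (((iv F90204)).symm.trans (sb E23451 F72075))
theorem E24779 : n24119 = n20925 := ((((iv F90253)).symm.trans (sb E23451 D24119))).symm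
theorem E24780 : n11458 = n9968 := (((F63164).symm.trans (sb E23451 F72076))).symm
theorem E24781 : n11399 = n9903 := ((((iv D14385)).symm.trans (sb E23451 F72077))).symm
theorem E24782 : n21942 = n20929 := (((D20929).symm.trans (sb E23451 (iv F94184)))).symm
theorem E24784 : n11385 = n9895 := ((((iv F44342)).symm.trans (sb E23453 (iv D16547)))).symm
theorem E24791 : n23578 = n20945 := ((((iv F197082)).symm.trans (sb E23459 F144664))).symm
theorem E24792 : n23567 = n20963 := (((F129229).symm.trans (sb E23459 (iv D34370)))).symm
theorem E24793 : n23574 = n22933 := (((D22933).symm.trans (sb E23461 D23574))).symm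
theorem F201362 : act 9 n15750 = n11119 := (sb E23461 (iv D16180))
theorem F201363 : act 6 n14410 = n11119 := (sb E23463 F70497)
theorem E24794 : n23555 = n20967 := (((D20967).symm.trans (sb E23463 (iv F100847)))).symm
theorem F201364 : act 0 n16106 = n21181 := (sb E23464 F196661)
theorem F201365 : act 1 n16106 = n11098 := (sb E23464 F70357)
theorem F201366 : act 2 n16106 = n21175 := (sb E23464 F196662)
theorem E24795 : n23461 = n21312 := ((D23461).symm.trans (sb E23464 (iv F91759)))
theorem E24796 : n23458 = n21265 := (((iv F100504)).symm.trans (sb E23464 (iv F197080)))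
theorem F201367 : act 7 n16106 = n21169 := (sb E23464 F196663)
theorem E24797 : n23500 = n23453 := ((((iv F100489)).symm.trans (sb E23464 D23500))).symm
theorem F201368 : act 9 n16106 = n21210 := (sb E23464 (iv F197092))
theorem E24798 : n23745 = n10131 := (((F64110).symm.trans (sb E23466 F198309))).symm
theorem E24799 : n45305 = n21285 := (((D21285).symm.trans (sb E23466 F198311))).symm
theorem E24800 : n45011 = n23428 := ((D45011).symm.trans (sb E23467 (iv D34159)))
theorem E24801 : n22957 = n21358 := (((iv F197033)).symm.trans (sb E23469 F131580))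
theorem E24802 : n44425 = n21329 := ((D44425).symm.trans (sb E23469 (iv D31080)))
theorem E24803 : n45346 = n44419 := ((((iv F185519)).symm.trans (sb E23469 D45346))).symm
theorem E24804 : n21506 = n21058 := (((F129241).symm.trans (sb E23469 F131582))).symm
theorem E24806 : n45347 = n44426 := (((D44426).symm.trans (sb E23469 D45347))).symm
theorem F201369 : act 3 n30840 = n23303 := (sb E23471 (iv D33970))
theorem F201370 : act 0 n30326 = n21231 := (sb E23473 F130957)
theorem F201371 : act 3 n30326 = n21211 := (sb E23473 (iv D30904))
theorem E24808 : n45081 = n44218 := (((D44218).symm.trans (sb E23473 D45081))).symm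
theorem F201372 : act 0 n30860 = n23303 := (sb E23478 F197406)
theorem F201373 : act 1 n30860 = n21211 := (sb E23478 F130902)
theorem E24809 : n45013 = n44976 := ((D45013).symm.trans (sb E23478 (iv F197900)))
theorem F201374 : act 8 n30860 = n21203 := (sb E23478 (iv D30890))
theorem E24810 : n45056 = n45014 := (((D45014).symm.trans (sb E23478 D45056))).symm
theorem E24811 : n23985 = n20676 := ((((iv F195954)).symm.trans (sb E23479 (iv F102529)))).symm
theorem E24812 : n11505 = n10619 := (((F195804).symm.trans (sb E23479 F71755))).symm
theorem E24813 : n20673 = n11354 := (((iv F195936)).symm.trans (sb E23481 (iv D16504)))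
theorem E24814 : n20645 = n11514 := (((iv F89082)).symm.trans (sb E23481 F71815))
theorem E24815 : n20703 = n11419 := ((D20703).symm.trans (sb E23481 F71816))
theorem E24817 : n23983 = n20679 := ((((iv F89241)).symm.trans (sb E23481 (iv F200069)))).symm
theorem F201375 : act 1 n7951 = n9784 := (sb E23482 F62365)
theorem F201376 : act 5 n7951 = n9806 := (sb E23482 F62368)
theorem E24818 : n11527 = n9781 := (((iv F51104)).symm.trans (sb E23482 (iv D14198)))
theorem E24820 : n11530 = n10628 := ((D11530).symm.trans (sb E23482 F195621))
theorem F201377 : act 1 n7881 = n9811 := (sb E23483 F62539)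
theorem F201378 : act 4 n7881 = n9879 := (sb E23483 F62541)
theorem F201379 : act 6 n7881 = n9845 := (sb E23483 F62542)
theorem F201380 : act 7 n7881 = n9806 := (sb E23483 (iv D14237))
theorem E24821 : n20666 = n11334 := (((iv F89185)).symm.trans (sb E23484 (iv D16475)))
theorem E24822 : n20811 = n11336 := (((iv F89776)).symm.trans (sb E23486 F200210))
theorem F201381 : act 1 n7811 = n9856 := (sb E23487 F62831)
theorem E24823 : n20808 = n10325 := ((((iv F46013)).symm.trans (sb E23487 (iv F89759)))).symm
theorem F201382 : act 8 n7811 = n9863 := (sb E23487 F62834)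
theorem E24826 : n20651 = n11570 := ((D20651).symm.trans (sb E23489 F72718))
theorem F201383 : act 5 n7988 = n9811 := (sb E23494 F62391)
theorem F201384 : act 7 n7988 = n9784 := (sb E23494 (iv D14203))
theorem E24832 : n11584 = n10695 := ((D11584).symm.trans (sb E23494 F195628))
theorem E24839 : n20744 = n11417 := (((iv F196360)).symm.trans (sb E23501 (iv D16593)))
theorem E24842 : n24108 = n20755 := ((((iv F89554)).symm.trans (sb E23501 (iv F200429)))).symm
theorem E24843 : n20734 = n11394 := (((iv F89472)).symm.trans (sb E23506 (iv D16562)))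
theorem E24848 : n24139 = n20781 := (((D20781).symm.trans (sb E23509 (iv F103134)))).symm
theorem E24851 : n24103 = n20756 := (((D20756).symm.trans (sb E23512 (iv F103010)))).symm
theorem E24853 : n22848 = n4801 := (((F31632).symm.trans (sb E23515 F139653))).symm
theorem E24855 : n22898 = n10082 := (((F63923).symm.trans (sb E23516 F139874))).symm
theorem E24856 : n44219 = n21209 := (((D21209).symm.trans (sb E23516 (iv F184725)))).symm
theorem E24857 : n22896 = n10083 := (((D10083).symm.trans (sb E23517 (iv F98245)))).symm
theorem E24858 : n20920 = n10084 := (((D10084).symm.trans (sb E23517 (iv F90238)))).symm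
theorem F201385 : act 1 n14576 = n21183 := (sb E23518 F128684)
theorem F201386 : act 3 n14576 = n20827 := (sb E23518 (iv D30327))
theorem E24859 : n44220 = n21213 := (((D21213).symm.trans (sb E23518 D44220))).symm
theorem E24864 : n20907 = n10097 := (((D10097).symm.trans (sb E23522 (iv D30447)))).symm
theorem F201387 : act 0 n14589 = n20827 := (sb E23523 F128626)
theorem E24866 : n20822 = n10339 := (((F63979).symm.trans (sb E23523 F128627))).symm
theorem E24867 : n44195 = n21233 := (((D21233).symm.trans (sb E23523 (iv F184622)))).symm
theorem E24868 : n44199 = n21234 := (((D21234).symm.trans (sb E23523 D44199))).symm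
theorem F201388 : act 0 n16509 = n20830 := (sb E23524 F196140)
theorem F201389 : act 2 n16509 = n20854 := (sb E23524 F127870)
theorem E24869 : n24023 = n20696 := (((iv F102689)).symm.trans (sb E23524 (iv D30129)))
theorem E24870 : n41766 = n24033 := (((D24033).symm.trans (sb E23524 (iv F174602)))).symm
theorem E24871 : n20820 = n11359 := (((F71835).symm.trans (sb E23524 (iv F196357)))).symm
theorem E24872 : n43922 = n21877 := ((((iv F93902)).symm.trans (sb E23524 D43922))).symm
theorem F201390 : act 0 n16056 = n20825 := (sb E23526 F128617)
theorem F201391 : act 1 n16056 = n21223 := (sb E23526 (iv F197016))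
theorem F201392 : act 3 n16056 = n20855 := (sb E23526 F196632)
theorem E24874 : n41883 = n23386 := (((D23386).symm.trans (sb E23526 (iv F175069)))).symm
theorem F201393 : act 6 n16056 = n20854 := (sb E23526 F196633)
theorem E24875 : n20905 = n11124 := (((F70050).symm.trans (sb E23526 F128619))).symm
theorem F201394 : act 9 n16056 = n20844 := (sb E23526 F128620)
theorem E24876 : n45115 = n44279 := (((D44279).symm.trans (sb E23527 (iv F188185)))).symm
theorem F201395 : act 4 n30368 = n21231 := (sb E23527 (iv D30934))
theorem E24877 : n45126 = n44280 := (((D44280).symm.trans (sb E23527 D45126))).symm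
theorem E24878 : n41977 = n23572 := (((iv F197104)).symm.trans (sb E23528 F143680))
theorem F201396 : act 0 n16179 = n20915 := (sb E23529 (iv F197048))
theorem F201397 : act 1 n16179 = n21226 := (sb E23529 F128859)
theorem F201398 : act 7 n16179 = n20855 := (sb E23529 (iv D30370))
theorem E24879 : n44283 = n23558 := ((((iv F100853)).symm.trans (sb E23529 D44283))).symm
theorem E24880 : n45106 = n44284 := (((D44284).symm.trans (sb E23530 (iv F188161)))).symm
theorem F201399 : act 0 n15721 = n11119 := (sb E23531 F70404)
theorem E24881 : n23520 = n22889 := (((D22889).symm.trans (sb E23531 (iv F100715)))).symm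
theorem F201400 : act 3 n30355 = n23347 := (sb E23532 (iv D34037))
theorem E24882 : n45127 = n44262 := (((D44262).symm.trans (sb E23532 F200718))).symm
theorem F201401 : act 1 n16171 = n21230 := (sb E23533 F128873)
theorem F201402 : act 7 n16171 = n20858 := (sb E23533 F128877)
theorem E24883 : n44290 = n23559 := (((D23559).symm.trans (sb E23533 D44290))).symm
theorem F201403 : act 3 n30376 = n23373 := (sb E23534 F143639)
theorem E24884 : n44672 = n9994 := (((D9994).symm.trans (sb E23536 (iv F186471)))).symm
theorem E24885 : n23554 = n20968 := (((D20968).symm.trans (sb E23537 (iv D34346)))).symm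
theorem E24887 : n44385 = n20971 := (((D20971).symm.trans (sb E23538 D44385))).symm
theorem E24888 : n45103 = n44287 := ((((iv F184991)).symm.trans (sb E23539 D45103))).symm
theorem E24889 : n45101 = n44293 := (((D44293).symm.trans (sb E23539 (iv F188148)))).symm
theorem F201404 : act 6 n30377 = n21224 := (sb E23539 F131035)
theorem F201405 : act 8 n30377 = n21223 := (sb E23539 (iv D30921))
theorem E24890 : n45104 = n44294 := (((D44294).symm.trans (sb E23539 D45104))).symm
theorem F201406 : act 6 n30378 = n23373 := (sb E23540 F143632)
theorem E24892 : n5464 = n4758 := (((F31313).symm.trans (sb E23541 F35676))).symm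
theorem E24893 : n9899 = n5433 := (((iv F44359)).symm.trans (sb E23541 (iv D7872)))
theorem E24896 : n5455 = n4749 := ((((iv F22244)).symm.trans (sb E23543 (iv D7900)))).symm
theorem E24897 : n9890 = n5420 := (((iv F44318)).symm.trans (sb E23544 (iv D7853)))
theorem E24902 : n22971 = n20940 := ((((iv F90302)).symm.trans (sb E23550 (iv F98503)))).symm
theorem E24903 : n11247 = n9981 := (((F63211).symm.trans (sb E23550 F70516))).symm
theorem E24905 : n20906 = n11122 := (((iv F90186)).symm.trans (sb E23550 (iv D16184)))
theorem E24911 : n23208 = n11205 := ((((iv F197942)).symm.trans (sb E23562 F197460))).symm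
theorem E24912 : n23680 = n11215 := ((((iv F49778)).symm.trans (sb E23563 F198299))).symm
theorem E24913 : n23183 = n11156 := ((((iv F49549)).symm.trans (sb E23563 (iv D33801)))).symm
theorem F201407 : act 4 n16088 = n11073 := (sb E23564 F70249)
theorem F201408 : act 6 n16088 = n11071 := (sb E23564 F70250)
theorem F201409 : act 8 n16088 = n11070 := (sb E23564 (iv D16105))
theorem E24914 : n23709 = n5385 := (((F35046).symm.trans (sb E23565 (iv F101386)))).symm
theorem E24915 : n11185 = n11163 := ((((iv F49580)).symm.trans (sb E23565 (iv D16274)))).symm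
theorem E24917 : n23463 = n21315 := ((((iv F197882)).symm.trans (sb E23568 F196741))).symm
theorem E24918 : n11205 = n11176 := (((iv F197942)).symm.trans (sb E23569 F70257))
theorem F201410 : act 7 n16086 = n11073 := (sb E23569 F70258)
theorem F201411 : act 8 n16086 = n11072 := (sb E23569 (iv D16108))
theorem F201412 : act 3 n30903 = n22933 := (sb E23573 (iv D33428))
theorem E24920 : n23134 = n11215 := ((((iv F49778)).symm.trans (sb E23574 (iv F99188)))).symm
theorem E24921 : n10924 = n5323 := ((((iv D7721)).symm.trans (sb E23574 F69362))).symm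
theorem F201413 : act 8 n7721 = n10923 := (sb E23574 (iv D15889))
theorem F201414 : act 1 n7644 = n11073 := (sb E23575 F68696)
theorem F201415 : act 8 n7644 = n10815 := (sb E23575 (iv D15725))
theorem E24923 : n23067 = n4839 := (((F31778).symm.trans (sb E23577 F140564))).symm
theorem E24926 : n23077 = n2577 := (((F17516).symm.trans (sb E23578 (iv F98944)))).symm
theorem E24931 : n23154 = n5385 := (((F35046).symm.trans (sb E23582 D23154))).symm
theorem F201416 : act 5 n7728 = n10960 := (sb E23582 (iv F197166))
theorem E24932 : n10931 = n5327 := ((((iv D7728)).symm.trans (sb E23582 F69395))).symm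
theorem F201417 : act 8 n7728 = n10930 := (sb E23582 (iv D15899))
theorem F201418 : act 8 n3678 = n5193 := (sb E23583 (iv D7531))
theorem F201419 : act 8 n7686 = n10987 := (sb E23584 F69413)
theorem F201420 : act 8 n7817 = n10698 := (sb E23585 (iv D15552))
theorem E24934 : n23240 = n11172 := ((((iv F49617)).symm.trans (sb E23587 F141172))).symm
theorem E24935 : n23208 = n11176 := (E24911).trans E24918
theorem E24936 : n23812 = n23128 := ((((iv F99163)).symm.trans (sb E23588 (iv F101780)))).symm
theorem E24937 : n11241 = n10950 := ((((iv F197167)).symm.trans (sb E23588 F71143))).symm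
theorem E24938 : n11238 = n10968 := (((F69345).symm.trans (sb E23588 (iv D16349)))).symm
theorem F201421 : act 1 n7547 = n5350 := (sb E23590 F35123)
theorem E24939 : n10915 = n5343 := (((iv F48595)).symm.trans (sb E23590 (iv D7751)))
theorem F201422 : act 8 n7562 = n5341 := (sb E23591 (iv D7749))
theorem F201423 : act 2 n15746 = n10858 := (sb E23592 F68876)
theorem E24940 : n10974 = n10945 := (((F68774).symm.trans (sb E23592 F68877))).symm
theorem F201424 : act 9 n15746 = n10847 := (sb E23592 (iv D15775))
theorem E24941 : n21038 = n11244 := (((iv F197031)).symm.trans (sb E23593 F70507))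
theorem E24943 : n10911 = n5336 := (((iv F48579)).symm.trans (sb E23596 (iv D7742)))
theorem F201425 : act 0 n7657 = n10815 := (sb E23597 F68646)
theorem F201426 : act 4 n7657 = n10846 := (sb E23597 F196690)
theorem F201427 : act 7 n7657 = n10844 := (sb E23597 F196691)
theorem F201428 : act 9 n7657 = n10834 := (sb E23597 F68649)
theorem F201429 : act 1 n3600 = n2626 := (sb E23598 F17969)
theorem E24944 : n5189 = n2623 := (((iv F24173)).symm.trans (sb E23598 (iv D3785)))
theorem F201430 : act 0 n3761 = n5146 := (sb E23599 F33937)
theorem F201431 : act 9 n3761 = n5155 := (sb E23599 F33940)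
theorem F201432 : act 0 n3690 = n5193 := (sb E23600 F34218)
theorem F201433 : act 9 n3690 = n5206 := (sb E23600 F34221)
theorem F201434 : act 0 n7740 = n10923 := (sb E23601 F196714)
theorem E24946 : n11239 = n10967 := (((iv F49869)).symm.trans (sb E23601 F68852))
theorem F201435 : act 5 n7740 = n10844 := (sb E23601 (iv D15768))
theorem F201436 : act 9 n7740 = n10952 := (sb E23601 (iv F197151))
theorem F201437 : act 0 n3784 = n5196 := (sb E23602 F34231)
theorem E24947 : n9960 = n5462 := ((((iv F25317)).symm.trans (sb E23602 (iv F44596)))).symm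
theorem F201438 : act 9 n3784 = n5209 := (sb E23602 F34235)
theorem F201439 : act 4 n7561 = n5345 := (sb E23603 F35120)
theorem F201440 : act 8 n7561 = n5342 := (sb E23603 (iv D7750))
theorem E24950 : n23774 = n23128 := ((((iv F99163)).symm.trans (sb E23605 D23774))).symm
theorem E24952 : n9947 = n5454 := (((iv F44537)).symm.trans (sb E23607 (iv D7898)))
theorem E24953 : n5180 = n2614 := (((iv F24130)).symm.trans (sb E23608 (iv D3776)))
theorem F201441 : act 8 n3775 = n5196 := (sb E23609 F34173)
theorem F201442 : act 9 n14395 = n10848 := (sb E23611 (iv D15777))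
theorem E24954 : n23143 = n10119 := (((F64064).symm.trans (sb E23615 F140839))).symm
theorem E24956 : n23136 = n11154 := ((((iv F49539)).symm.trans (sb E23617 (iv F99195)))).symm
theorem E24957 : n23252 = n21088 := ((((iv F197869)).symm.trans (sb E23618 F141211))).symm
theorem F201443 : act 2 n15919 = n10987 := (sb E23619 F69654)
theorem F201444 : act 9 n15919 = n10972 := (sb E23619 (iv D15963))
theorem E24959 : n23203 = n11173 := (((D11173).symm.trans (sb E23621 F142086))).symm
theorem E24961 : n23210 = n11177 := (((D11177).symm.trans (sb E23622 (iv F99486)))).symm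
theorem F201445 : act 9 n7693 = n10953 := (sb E23622 (iv D15935))
theorem E24962 : n11177 = n10153 := (((F64188).symm.trans (sb E24572 (tr F141067 E24961)))).symm
theorem F201446 : act 3 n14645 = n11073 := (sb E23626 (iv D16109))
theorem E24963 : n23465 = n21313 := ((((iv F91762)).symm.trans (sb E23626 D23465))).symm
theorem E24964 : n21316 = n21286 := ((D21316).symm.trans (sb E23626 (iv F91670)))
theorem E24965 : n44498 = n21289 := (((D21289).symm.trans (sb E24195 (iv F185777)))).symm
theorem F201447 : act 0 n7658 = n9900 := (sb E23628 F63112)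
theorem E24966 : n9897 = n5434 := (((F34778).symm.trans (sb E23628 F63113))).symm
theorem F201448 : act 9 n7658 = n9913 := (sb E23628 F63115)
theorem E24967 : n23467 = n20105 := ((((iv F86770)).symm.trans (sb E23629 D23467))).symm
theorem E24968 : n21314 = n21288 := ((D21314).symm.trans (sb E23629 (iv F91676)))
theorem F201449 : act 0 n14625 = n20941 := (sb E23630 (iv F90306))
theorem F201450 : act 8 n14625 = n10080 := (sb E23630 (iv D14646))
theorem E24969 : n21318 = n21289 := (((D21289).symm.trans (sb E23630 D21318))).symm
theorem F201451 : act 0 n7825 = n9861 := (sb E23631 F62869)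
theorem F201452 : act 9 n7825 = n9870 := (sb E23631 F62873)
theorem E24970 : n23648 = n21088 := ((((iv F197869)).symm.trans (sb E23633 F143983))).symm
theorem E24974 : n35022 = n30360 := (((D30360).symm.trans (sb E23636 (iv F147213)))).symm
theorem F201453 : act 9 n20849 = n16509 := (sb E23636 (iv D24034))
theorem E24979 : n23822 = n21098 := ((((iv F90929)).symm.trans (sb E23639 (iv F101813)))).symm
theorem E24980 : n23823 = n21102 := (((D21102).symm.trans (sb E23639 D23823))).symm
theorem E24981 : n45415 = n44493 := (((D44493).symm.trans (sb E23640 (iv F189169)))).symm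
theorem E24982 : n45485 = n21102 := (((D21102).symm.trans (sb E23642 F198280))).symm
theorem E24983 : n44492 = n23519 := ((D44492).symm.trans (sb E23643 (iv D34295)))
theorem E24984 : n23814 = n23127 := ((((iv F99158)).symm.trans (sb E23644 (iv F101788)))).symm
theorem E24986 : n23693 = n23207 := (((D23207).symm.trans (sb E23645 (iv F101335)))).symm
theorem E24987 : n23207 = n21396 := ((((iv F197866)).symm.trans (sb E23646 (tr F144142 E24986)))).symm
theorem E24988 : n23133 = n11214 := (((iv F197951)).symm.trans (sb E23647 F70395))
theorem F201454 : act 5 n15933 = n11099 := (sb E23647 (iv D16147))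
theorem E24989 : n44472 = n21264 := (((D21264).symm.trans (sb E23649 (iv F185687)))).symm
theorem E24990 : n23184 = n10119 := (((F64064).symm.trans (sb E23650 F140977))).symm
theorem E24991 : n44469 = n21266 := (((D21266).symm.trans (sb E23650 (iv F185674)))).symm
theorem F201455 : act 1 n14612 = n20949 := (sb E23651 F129345)
theorem F201456 : act 3 n14612 = n20941 := (sb E23651 (iv D30497))
theorem E24992 : n44473 = n21268 := (((D21268).symm.trans (sb E23651 D44473))).symm
theorem F201457 : act 1 n7680 = n10953 := (sb E23652 F69483)
theorem E24993 : n23180 = n11154 := ((((iv F49539)).symm.trans (sb E23652 (iv F99367)))).symm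
theorem F201458 : act 8 n7680 = n10945 := (sb E23652 (iv D15920))
theorem E24994 : n11401 = n9902 := (((D9902).symm.trans (sb E23653 D11401))).symm
theorem E24995 : n10368 = n9904 := (((D9904).symm.trans (sb E23653 (iv F46216)))).symm
theorem E24996 : n23534 = n19823 := ((((iv F85591)).symm.trans (sb E23654 D23534))).symm
theorem E24997 : n21332 = n20917 := (((D20917).symm.trans (sb E23654 (iv F91826)))).symm
theorem E25006 : n23740 = n11169 := ((((iv F49608)).symm.trans (sb E23662 D23740))).symm
theorem E25007 : n11203 = n11173 := (((D11173).symm.trans (sb E23662 (iv D16298)))).symm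
theorem F201459 : act 0 n7693 = n10945 := (sb E23663 (iv F48717))
theorem E25008 : n23772 = n23127 := (((iv F101631)).symm.trans (sb E23664 (tr F145905 E24984)))
theorem E25009 : n23809 = n23777 := (((D23777).symm.trans (sb E23664 (iv D34707)))).symm
theorem E25011 : n23777 = n10965 := ((((iv F48802)).symm.trans (sb E23713 (tr D23809 E25009)))).symm
theorem E25012 : n11237 = n10969 := (((D10969).symm.trans (sb E23713 (iv D16347)))).symm
theorem E25013 : n23210 = n10153 := (E24961).trans E24962
theorem E25014 : n21031 = n10973 := (((D10973).symm.trans (sb E23670 (iv F90663)))).symm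
theorem F201460 : act 0 n15774 = n21258 := (sb E23671 (iv F197845))
theorem E25015 : n22970 = n21346 := ((D22970).symm.trans (sb E23671 (iv F91880)))
theorem F201461 : act 7 n15774 = n11114 := (sb E23671 (iv D16169))
theorem F201462 : act 7 n15556 = n11357 := (sb E23672 F71827)
theorem E25016 : n22641 = n21875 := ((D22641).symm.trans (sb E23672 (iv F93893)))
theorem F201463 : act 3 n15767 = n21230 := (sb E23673 (iv D30932))
theorem F201464 : act 7 n15767 = n21231 := (sb E23673 F131064)
theorem E25017 : n45124 = n22959 := (((D22959).symm.trans (sb E23673 D45124))).symm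
theorem F201465 : act 0 n15776 = n21257 := (sb E23674 F129134)
theorem F201466 : act 3 n15776 = n21226 := (sb E23674 F197381)
theorem E25018 : n41972 = n22972 := (((D22972).symm.trans (sb E23674 (iv F175459)))).symm
theorem F201467 : act 7 n15776 = n21223 := (sb E23674 F197382)
theorem F201468 : act 9 n15776 = n20939 := (sb E23674 F129137)
theorem E25019 : n45015 = n42404 := (((D42404).symm.trans (sb E23675 (iv F187800)))).symm
theorem F201469 : act 0 n30862 = n44245 := (sb E23676 (iv F184817))
theorem E25020 : n45052 = n45009 := ((((iv F187776)).symm.trans (sb E23676 D45052))).symm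
theorem F201470 : act 8 n30862 = n21202 := (sb E23676 (iv D30888))
theorem E25021 : n45053 = n45016 := (((D45016).symm.trans (sb E23676 D45053))).symm
theorem F201471 : act 0 n30863 = n44249 := (sb E23677 (iv F184838))
theorem E25028 : n23581 = n19842 := (((F122221).symm.trans (sb E23681 F143707))).symm
theorem E25030 : n45130 = n44259 := (((D44259).symm.trans (sb E23683 (iv F188232)))).symm
theorem E25036 : n21849 = n20831 := (((D20831).symm.trans (sb E23690 (iv F93773)))).symm
theorem E25038 : n21850 = n20834 := ((((iv F89882)).symm.trans (sb E23692 (iv D31840)))).symm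
theorem E25039 : n20809 = n10326 := (((iv F89763)).symm.trans (sb E23693 (iv D15009)))
theorem E25041 : n45082 = n41895 := (((D41895).symm.trans (sb E23696 (iv F188066)))).symm
theorem E25042 : n45076 = n44214 := (((D44214).symm.trans (sb E23697 (iv F188037)))).symm
theorem E25043 : n45083 = n44215 := (((D44215).symm.trans (sb E23697 D45083))).symm
theorem F201472 : act 0 n15028 = n20833 := (sb E23700 F128653)
theorem E25045 : n44208 = n21878 := (((D21878).symm.trans (sb E23700 D44208))).symm
theorem F201473 : act 1 n30935 = n23373 := (sb E23701 F140125)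
theorem F201474 : act 4 n30919 = n22784 := (sb E23702 F140178)
theorem F201475 : act 0 n7870 = n9906 := (sb E23704 F63134)
theorem F201476 : act 6 n7870 = n10703 := (sb E23704 F196132)
theorem F201477 : act 9 n7870 = n9919 := (sb E23704 F63138)
theorem E25047 : n23711 = n5384 := (((F35042).symm.trans (sb E23711 (iv F101395)))).symm
theorem E25048 : n11186 = n11162 := ((((iv F49574)).symm.trans (sb E23711 (iv D16276)))).symm
theorem F201478 : act 0 n7703 = n10987 := (sb E23707 F69596)
theorem E25049 : n23153 = n11162 := (((E25048).symm.trans (((iv F49662)).symm.trans (sb E23707 (iv F197939))))).symm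
theorem F201479 : act 9 n7703 = n10963 := (sb E23707 (iv D15948))
theorem E25050 : n23152 = n5384 := (((F35042).symm.trans (sb E23708 D23152))).symm
theorem F201480 : act 4 n7727 = n10963 := (sb E23708 F197472)
theorem F201481 : act 7 n7727 = n10960 := (sb E23708 F197473)
theorem F201482 : act 8 n7727 = n10929 := (sb E23708 (iv D15898))
theorem F201483 : act 5 n7703 = n11064 := (sb E23709 F197530)
theorem F201484 : act 8 n7684 = n11184 := (sb E23712 (iv D16272))
theorem E25052 : n10983 = n5390 := ((D10983).symm.trans (sb E23714 F35112))
theorem F201485 : act 5 n7563 = n5342 := (sb E23714 F35113)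
theorem F201486 : act 7 n7563 = n5341 := (sb E23714 (iv D7748))
theorem E25053 : n11184 = n10984 := (((D10984).symm.trans (sb E23714 (iv F49657)))).symm
theorem F201487 : act 8 n7567 = n5299 := (sb E23715 (iv F201083))
theorem F201488 : act 8 n7823 = n10703 := (sb E23716 (iv D15558))
theorem F201489 : act 8 n3749 = n5146 := (sb E23717 F33901)
theorem F201490 : act 1 n7329 = n5499 := (sb E23718 F36023)
theorem E25055 : n11502 = n10578 := (((F195528).symm.trans (sb E23718 F199796))).symm
theorem E25056 : n11342 = n10630 := (((D10630).symm.trans (sb E23718 F199797))).symm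
theorem F201491 : act 9 n7329 = n5492 := (sb E23718 (iv D7952))
theorem F201492 : act 8 n7815 = n10622 := (sb E23719 F67410)
theorem E25057 : n24018 = n9803 := ((((iv D14231)).symm.trans (sb E23720 (iv F102669)))).symm
theorem E25058 : n24012 = n20698 := (((D20698).symm.trans (sb E23720 (iv F102646)))).symm
theorem E25059 : n11511 = n10585 := ((((iv F47189)).symm.trans (sb E23721 F71801))).symm
theorem E25060 : n11351 = n10633 := (((D10633).symm.trans (sb E23721 (iv D16500)))).symm
theorem F201493 : act 0 n7822 = n9796 := (sb E23722 F62462)
theorem E25061 : n9794 = n5484 := (((F35460).symm.trans (sb E23722 (iv D14217)))).symm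
theorem F201494 : act 6 n7822 = n10632 := (sb E23722 F195794)
theorem F201495 : act 9 n7822 = n9802 := (sb E23722 F62467)
theorem F201496 : act 8 n7821 = n10632 := (sb E23723 (iv D15451))
theorem F201497 : act 0 n3755 = n4721 := (sb E23724 F31264)
theorem F201498 : act 9 n3755 = n4727 := (sb E23724 F31267)
theorem E25067 : n10576 = n5491 := (((iv F195574)).symm.trans (sb E23727 F36008))
theorem E25068 : n10587 = n5490 := ((D10587).symm.trans (sb E23727 (iv D7948)))
theorem F201499 : act 5 n7333 = n5405 := (sb E23728 (iv D7829))
theorem F201500 : act 0 n7323 = n5492 := (sb E23729 F35926)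
theorem F201501 : act 0 n3800 = n5059 := (sb E23730 F33373)
theorem F201502 : act 9 n3800 = n5063 := (sb E23730 F33376)
theorem F201503 : act 6 n7302 = n5492 := (sb E23733 F36012)
theorem F201504 : act 1 n3746 = n4717 := (sb E23735 F31236)
theorem E25071 : n9888 = n4931 := ((((iv F22993)).symm.trans (sb E23735 (iv F44309)))).symm
theorem F201505 : act 8 n3746 = n4721 := (sb E23735 F31238)
theorem E25073 : n10894 = n2318 := ((((iv F11380)).symm.trans (sb E23738 F69106))).symm
theorem E25074 : n23051 = n2212 := ((((iv F10866)).symm.trans (sb E23738 D23051))).symm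
theorem E25075 : n23049 = n2321 := (((D2321).symm.trans (sb E23738 (iv F98833)))).symm
theorem E25083 : n22900 = n9538 := (((D9538).symm.trans (sb E23743 D22900))).symm
theorem E25084 : n10927 = n4588 := (((F30168).symm.trans (sb E23743 F68708))).symm
theorem E25085 : n20922 = n9539 := (((D9539).symm.trans (sb E23743 (iv F90245)))).symm
theorem E25086 : n10925 = n4833 := (((D4833).symm.trans (sb E23744 (iv F48636)))).symm
theorem E25087 : n9964 = n4834 := (((D4834).symm.trans (sb E23744 (iv F44614)))).symm
theorem F201506 : act 1 n6950 = n10066 := (sb E23745 F63150)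
theorem F201507 : act 3 n6950 = n9901 := (sb E23745 (iv D14381))
theorem E25088 : n20923 = n10086 := (((D10086).symm.trans (sb E23745 D20923))).symm
theorem E25093 : n23116 = n4592 := (((D4592).symm.trans (sb E23749 D23116))).symm
theorem E25094 : n21042 = n4593 := (((D4593).symm.trans (sb E23749 (iv F90711)))).symm
theorem E25095 : n41984 = n9548 := (((D9548).symm.trans (sb E23750 (iv F175512)))).symm
theorem E25097 : n23114 = n4840 := (((D4840).symm.trans (sb E23751 D23114))).symm
theorem E25098 : n21040 = n4842 := (((D4842).symm.trans (sb E23751 (iv F90703)))).symm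
theorem E25099 : n9955 = n4843 := (((D4843).symm.trans (sb E23752 (iv D14461)))).symm
theorem F201508 : act 0 n6959 = n9901 := (sb E23753 F63116)
theorem E25101 : n9898 = n4941 := (((F31786).symm.trans (sb E23753 F63117))).symm
theorem E25102 : n19817 = n10099 := (((D10099).symm.trans (sb E23753 (iv F85562)))).symm
theorem E25103 : n20909 = n10100 := (((D10100).symm.trans (sb E23753 D20909))).symm
theorem E25108 : n21032 = n9995 := (((D9995).symm.trans (sb E23758 (iv D30633)))).symm
theorem E25110 : n19877 = n9997 := (((D9997).symm.trans (sb E23759 (iv F85792)))).symm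
theorem E25111 : n21034 = n9998 := (((D9998).symm.trans (sb E23759 D21034))).symm
theorem F201509 : act 0 n14414 = n20070 := (sb E23761 F122359)
theorem E25113 : n41974 = n20972 := (((D20972).symm.trans (sb E23761 (iv F175470)))).symm
theorem E25114 : n41976 = n20973 := (((D20973).symm.trans (sb E23761 D41976))).symm
theorem F201510 : act 8 n14415 = n20943 := (sb E23762 F129156)
theorem E25115 : n5468 = n4521 := ((((iv F21186)).symm.trans (sb E23763 (iv F25340)))).symm
theorem E25116 : n5466 = n4756 := (((D4756).symm.trans (sb E23763 (iv F25333)))).symm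
theorem E25118 : n4744 = n2620 := (((iv F22224)).symm.trans (sb E23763 (iv D3783)))
theorem E25119 : n5529 = n2183 := ((((iv D3137)).symm.trans (sb E23764 F35800))).symm
theorem E25120 : n11466 = n4524 := (((D4524).symm.trans (sb E23764 (iv F50830)))).symm
theorem E25123 : n11463 = n4761 := (((D4761).symm.trans (sb E23765 (iv F50820)))).symm
theorem E25124 : n11464 = n4763 := (((D4763).symm.trans (sb E23765 D11464))).symm
theorem E25125 : n5456 = n4747 := ((((iv F22238)).symm.trans (sb E23765 (iv D7902)))).symm
theorem E25126 : n10434 = n4764 := (((D4764).symm.trans (sb E23766 (iv F46494)))).symm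
theorem E25127 : n4960 = n4748 := (((D4748).symm.trans (sb E23767 (iv F23119)))).symm
theorem E25145 : n10978 = n9451 := ((((iv F42378)).symm.trans (sb E23777 (iv F48851)))).symm
theorem E25146 : n10976 = n9978 := (((D9978).symm.trans (sb E23777 (iv F48842)))).symm
theorem F201511 : act 9 n6880 = n5213 := (sb E23777 (iv D7560))
theorem E25147 : n11252 = n9452 := (((D9452).symm.trans (sb E23778 (iv F49908)))).symm
theorem E25148 : n11253 = n9453 := (((D9453).symm.trans (sb E23778 D11253))).symm
theorem E25149 : n9435 = n5339 := (((iv F42301)).symm.trans (sb E23778 (iv D7746)))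
theorem E25150 : n11249 = n9980 := (((D9980).symm.trans (sb E23779 (iv F49899)))).symm
theorem E25152 : n9954 = n5337 := (((iv F44573)).symm.trans (sb E23779 (iv D7744)))
theorem F201512 : act 0 n3685 = n4746 := (sb E23781 F31411)
theorem F201513 : act 9 n3685 = n4755 := (sb E23781 F31414)
theorem E25154 : n23787 = n9459 := (((D9459).symm.trans (sb E23782 (iv F101691)))).symm
theorem E25155 : n23790 = n9460 := (((D9460).symm.trans (sb E23782 (iv F101705)))).symm
theorem E25156 : n23791 = n9461 := (((D9461).symm.trans (sb E23782 D23791))).symm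
theorem E25161 : n23779 = n9990 := (((D9990).symm.trans (sb E23785 (iv F101661)))).symm
theorem E25162 : n23788 = n9992 := (((D9992).symm.trans (sb E23785 D23788))).symm
theorem E25163 : n11222 = n9961 := ((((iv F44603)).symm.trans (sb E23785 (iv D16329)))).symm
theorem E25169 : n23586 = n19845 := (((D19845).symm.trans (sb E23791 D23586))).symm
theorem E25170 : n23585 = n19844 := ((((iv F85678)).symm.trans (sb E23791 (iv F100920)))).symm
theorem E25175 : n10371 = n9905 := ((((iv F44377)).symm.trans (sb E23794 (iv D15078)))).symm
theorem E25177 : n45356 = n19858 := (((D19858).symm.trans (sb E23796 (iv F189008)))).symm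
theorem E25178 : n21335 = n19827 := ((((iv F85609)).symm.trans (sb E23797 (iv D31089)))).symm
theorem E25179 : n2659 = n2182 := ((((iv F10720)).symm.trans (sb E23799 (iv F12939)))).symm
theorem E25180 : n2279 = n1288 := (((iv F11205)).symm.trans (sb E23799 (iv D1850)))
theorem E25181 : n4745 = n2619 := (((iv F22230)).symm.trans (sb E23800 (iv D3781)))
theorem F201514 : act 0 n1817 = n2280 := (sb E23801 F15754)
theorem F201515 : act 9 n1817 = n2284 := (sb E23801 F15758)
theorem E25185 : n2276 = n1286 := (((iv F11187)).symm.trans (sb E23803 (iv D1847)))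
theorem E25186 : n4739 = n2612 := (((iv F22197)).symm.trans (sb E23804 (iv D3772)))
theorem F201516 : act 1 n1812 = n2277 := (sb E23805 F15732)
theorem E25187 : n4738 = n2374 := ((((iv F11628)).symm.trans (sb E23805 D4738))).symm
theorem F201517 : act 8 n1812 = n2280 := (sb E23805 F15735)
theorem E25195 : n41900 = n20013 := (((D20013).symm.trans (sb E23815 (iv F175154)))).symm
theorem F201518 : act 1 n14578 = n21186 := (sb E23816 F128697)
theorem F201519 : act 3 n14578 = n20829 := (sb E23816 F128698)
theorem F201520 : act 1 n3675 = n5305 := (sb E23817 F34244)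
theorem E25197 : n10922 = n5322 := (((D5322).symm.trans (sb E23817 (iv F48625)))).symm
theorem F201521 : act 8 n3675 = n5190 := (sb E23817 (iv D7525))
theorem F201522 : act 0 n7126 = n9862 := (sb E23819 F62874)
theorem E25201 : n19776 = n10341 := (((D10341).symm.trans (sb E23819 (iv F85378)))).symm
theorem E25202 : n20823 = n10342 := (((D10342).symm.trans (sb E23819 D20823))).symm
theorem F201523 : act 0 n14591 = n19779 := (sb E23820 F122091)
theorem E25203 : n41886 = n20027 := ((((iv F86449)).symm.trans (sb E23820 D41886))).symm
theorem E25204 : n41885 = n21235 := (((D21235).symm.trans (sb E23820 (iv F175079)))).symm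
theorem E25205 : n41887 = n21236 := (((D21236).symm.trans (sb E23820 D41887))).symm
theorem F201524 : act 0 n14592 = n20829 := (sb E23821 F128634)
theorem F201525 : act 8 n14592 = n20848 := (sb E23821 F128638)
theorem E25206 : n23109 = n5332 := (((D5332).symm.trans (sb E23822 D23109))).symm
theorem E25207 : n10910 = n5334 := (((D5334).symm.trans (sb E23822 (iv D15868)))).symm
theorem F201526 : act 0 n3684 = n5190 := (sb E23823 F34204)
theorem F201527 : act 9 n3684 = n5203 := (sb E23823 F34207)
theorem F201528 : act 0 n3756 = n4720 := (sb E23824 F31260)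
theorem E25208 : n9408 = n5436 := (((D5436).symm.trans (sb E23824 (iv F42195)))).symm
theorem F201529 : act 9 n3756 = n4726 := (sb E23824 F31263)
theorem F201530 : act 0 n7660 = n9410 := (sb E23825 F59949)
theorem E25209 : n19816 = n11126 := (((D11126).symm.trans (sb E23825 D19816))).symm
theorem F201531 : act 9 n7660 = n9419 := (sb E23825 F59953)
theorem F201532 : act 0 n7827 = n9391 := (sb E23826 F59824)
theorem E25210 : n9390 = n5488 := (((F35480).symm.trans (sb E23826 (iv D13612)))).symm
theorem E25211 : n19775 = n11361 := (((D11361).symm.trans (sb E23826 D19775))).symm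
theorem F201533 : act 9 n7827 = n9397 := (sb E23826 F59829)
theorem F201534 : act 0 n16058 = n19778 := (sb E23827 F122086)
theorem E25212 : n41884 = n23389 := (((D23389).symm.trans (sb E23827 D41884))).symm
theorem F201535 : act 9 n16058 = n19791 := (sb E23827 F122090)
theorem F201536 : act 9 n13655 = n10850 := (sb E23828 (iv D15779))
theorem E25222 : n9889 = n4932 := (((iv F44312)).symm.trans (sb E23834 (iv D7145)))
theorem E25223 : n23537 = n19824 := ((((iv F85597)).symm.trans (sb E23835 (iv D34324)))).symm
theorem E25224 : n21334 = n19825 := (((D19825).symm.trans (sb E23836 (iv F91833)))).symm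
theorem E25226 : n23809 = n10965 := (E25009).trans E25011
theorem E25227 : n23094 = n10970 := (((D10970).symm.trans (sb E23839 D23094))).symm
theorem E25228 : n10971 = n10944 := ((D10971).symm.trans (sb E23839 F69241))
theorem F201537 : act 0 n7557 = n10116 := (sb E23840 F63442)
theorem E25229 : n21030 = n10975 := (((D10975).symm.trans (sb E23840 D21030))).symm
theorem F201538 : act 2 n7540 = n5219 := (sb E23841 F34377)
theorem F201539 : act 9 n7540 = n5212 := (sb E23841 (iv D7558))
theorem F201540 : act 0 n7559 = n9578 := (sb E23842 F60105)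
theorem E25230 : n19876 = n10977 := (((D10977).symm.trans (sb E23842 D19876))).symm
theorem F201541 : act 0 n15778 = n20069 := (sb E23843 F122354)
theorem E25231 : n41973 = n22975 := (((D22975).symm.trans (sb E23843 D41973))).symm
theorem F201542 : act 9 n15778 = n19840 := (sb E23843 F122358)
theorem F201543 : act 1 n7300 = n5497 := (sb E23846 F36015)
theorem E25236 : n24294 = n9780 := ((((iv F43826)).symm.trans (sb E23847 (iv F103744)))).symm
theorem E25237 : n24300 = n9805 := (((D9805).symm.trans (sb E23847 D24300))).symm
theorem E25238 : n11493 = n9795 := ((((iv F43906)).symm.trans (sb E23847 (iv D16700)))).symm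
theorem E25239 : n23978 = n20680 := (((D20680).symm.trans (sb E23849 (iv F102499)))).symm
theorem E25240 : n11492 = n9775 := ((((iv F43802)).symm.trans (sb E23850 (iv D16697)))).symm
theorem E25241 : n9790 = n5473 := (((iv F43882)).symm.trans (sb E23851 (iv D7924)))
theorem F201544 : act 1 n7810 = n9792 := (sb E23852 F62433)
theorem E25242 : n20664 = n11333 := (((D11333).symm.trans (sb E23852 (iv F89175)))).symm
theorem F201545 : act 8 n7810 = n9796 := (sb E23852 F62437)
theorem F201546 : act 1 n7116 = n9854 := (sb E23853 F62822)
theorem E25244 : n20807 = n10324 := (((D10324).symm.trans (sb E23853 D20807))).symm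
theorem E25245 : n10572 = n5478 := (((iv F47125)).symm.trans (sb E23854 (iv D7931)))
theorem F201547 : act 8 n3790 = n5059 := (sb E23855 F33358)
theorem E25249 : n5516 = n4489 := ((((iv F21041)).symm.trans (sb E23860 (iv F25568)))).symm
theorem E25251 : n4502 = n2649 := (((iv F21102)).symm.trans (sb E23860 (iv D3821)))
theorem E25252 : n4687 = n2648 := (((iv F21971)).symm.trans (sb E23861 (iv D3819)))
theorem F201548 : act 0 n1840 = n2268 := (sb E23862 (iv D3267))
theorem F201549 : act 9 n1840 = n2271 := (sb E23862 F15682)
theorem F201550 : act 0 n1842 = n2440 := (sb E23864 (iv D3519))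
theorem F201551 : act 9 n1842 = n2443 := (sb E23864 F16833)
theorem F201552 : act 0 n897 = n1200 := (sb E23865 (iv D1725))
theorem F201553 : act 9 n897 = n1203 := (sb E23865 F8664)
theorem F201554 : act 0 n1819 = n2486 := (sb E23867 F17129)
theorem F201555 : act 9 n1819 = n2492 := (sb E23867 F17133)
theorem F201556 : act 0 n3688 = n5192 := (sb E23869 F34212)
theorem F201557 : act 9 n3688 = n5205 := (sb E23869 F34217)
theorem E25264 : n4684 = n2642 := (((iv F21955)).symm.trans (sb E23875 (iv D3811)))
theorem F201558 : act 1 n1836 = n2266 := (sb E23876 (iv D3264))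
theorem F201559 : act 8 n1836 = n2268 := (sb E23876 F15667)
theorem F201560 : act 1 n3410 = n4716 := (sb E23877 F31232)
theorem F201561 : act 8 n1837 = n2440 := (sb E23878 F16818)
theorem F201562 : act 8 n895 = n1200 := (sb E23879 F8647)
theorem E25269 : n5178 = n1261 := (((F9051).symm.trans (sb E23881 (iv F24122)))).symm
theorem F201563 : act 8 n1813 = n2486 := (sb E23881 F17102)
theorem E25273 : n10932 = n2575 := (((F17498).symm.trans (sb E23885 D10932))).symm
theorem F201564 : act 8 n3677 = n5192 := (sb E23885 (iv D7529))
theorem E25274 : n10893 = n2319 := ((((iv F11385)).symm.trans (sb E23886 (iv F48500)))).symm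
theorem F201565 : act 5 n7992 = n9800 := (sb E23894 (iv F195570))
theorem F201566 : act 7 n7992 = n9778 := (sb E23894 F195522)
theorem E25280 : n11875 = n11587 := (((D11587).symm.trans (sb E23894 D11875))).symm
theorem E25297 : n23048 = n2323 := (((F15939).symm.trans (sb E23916 F140495))).symm
theorem F201567 : act 0 n7867 = n9829 := (sb E23931 F62663)
theorem F201568 : act 9 n7867 = n9838 := (sb E23931 F62668)
theorem F201569 : act 1 n7850 = n9822 := (sb E23932 F62624)
theorem E25313 : n20731 = n11392 := ((((iv F50549)).symm.trans (sb E23932 (iv F89457)))).symm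
theorem F201570 : act 8 n7850 = n9829 := (sb E23932 F62628)
theorem E25317 : n16598 = n14278 := ((((iv F62719)).symm.trans (sb E23936 (iv F72180)))).symm
theorem E25318 : n16600 = n14280 := (((D14280).symm.trans (sb E23936 (iv F72188)))).symm
theorem E25319 : n7981 = n6785 := ((((iv D9836)).symm.trans (sb E23936 F50661))).symm
theorem E25320 : n16601 = n14282 := (((D14282).symm.trans (sb E23936 D16601))).symm
theorem E25321 : n14262 = n7868 := (((iv F62659)).symm.trans (sb E23936 (iv D11421)))
theorem E25322 : n6778 = n3817 := (((iv F31050)).symm.trans (sb E23937 (iv D5514)))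
theorem F201571 : act 0 n5431 = n6780 := (sb E23938 F44040)
theorem F201572 : act 9 n5431 = n6786 := (sb E23938 F44044)
theorem E25325 : n16787 = n6787 := ((((iv D9839)).symm.trans (sb E23939 F200184))).symm
theorem E25327 : n16565 = n14265 := ((((iv F62672)).symm.trans (sb E23939 (iv F200228)))).symm
theorem E25330 : n16566 = n14267 := ((((iv F62678)).symm.trans (sb E23940 (iv D24117)))).symm
theorem E25332 : n16790 = n6789 := (((D6789).symm.trans (sb E23941 D16790))).symm
theorem E25333 : n7968 = n6779 := ((((iv F31053)).symm.trans (sb E23941 (iv D11557)))).symm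
theorem E25334 : n35127 = n14294 := (((D14294).symm.trans (sb E23942 (iv F147634)))).symm
theorem E25335 : n16560 = n14269 := (((D14269).symm.trans (sb E23943 (iv F72048)))).symm
theorem E25336 : n6774 = n3810 := (((iv F31029)).symm.trans (sb E23944 (iv D5505)))
theorem F201573 : act 1 n5419 = n6776 := (sb E23945 F44012)
theorem E25337 : n14253 = n7849 := (((D7849).symm.trans (sb E23945 (iv F62618)))).symm
theorem F201574 : act 8 n5419 = n6780 := (sb E23945 F44015)
theorem E25353 : n23278 = n2571 := ((((iv F12530)).symm.trans (sb E23957 F141329))).symm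
theorem F201575 : act 0 n3825 = n2713 := (sb E23958 F18565)
theorem E25354 : n5654 = n5524 := (((D5524).symm.trans (sb E23958 D5654))).symm
theorem F201576 : act 0 n7890 = n5660 := (sb E23959 F37065)
theorem F201577 : act 2 n7890 = n10616 := (sb E23959 F195531)
theorem F201578 : act 0 n7993 = n5657 := (sb E23960 F37055)
theorem E25355 : n11879 = n11588 := (((D11588).symm.trans (sb E23960 D11879))).symm
theorem F201579 : act 5 n7993 = n10616 := (sb E23960 (iv F195503))
theorem F201580 : act 7 n7993 = n10575 := (sb E23960 F195483)
theorem E25358 : n20471 = n4819 := (((F31704).symm.trans (sb E23962 (iv D29805)))).symm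
theorem E25360 : n20397 = n2562 := (((F17435).symm.trans (sb E23963 F193106))).symm
theorem E25361 : n43375 = n4823 := ((((iv F22537)).symm.trans (sb E23964 (iv F181217)))).symm
theorem E25362 : n20441 = n2334 := (((F15980).symm.trans (sb E23964 (iv D29760)))).symm
theorem E25364 : n20377 = n2566 := ((((iv F12505)).symm.trans (sb E23965 (iv D29663)))).symm
theorem F201581 : act 3 n7298 = n5497 := (sb E23974 F36044)
theorem F201582 : act 6 n7298 = n5499 := (sb E23974 F36046)
theorem E25374 : n10574 = n6223 := (((iv F47135)).symm.trans (sb E23974 F199737))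
theorem F201583 : act 0 n7959 = n5601 := (sb E23975 F36725)
theorem F201584 : act 2 n7959 = n10575 := (sb E23975 F195481)
theorem F201585 : act 2 n2060 = n2483 := (sb E23986 F17114)
theorem F201586 : act 8 n2060 = n2489 := (sb E23986 F17116)
theorem F201587 : act 3 n3804 = n5046 := (sb E23988 F33278)
theorem F201588 : act 5 n3804 = n5045 := (sb E23988 (iv D7303))
theorem F201589 : act 6 n3803 = n5067 := (sb E23989 F33284)
theorem F201590 : act 8 n3803 = n5045 := (sb E23989 (iv D7304))
theorem F201591 : act 5 n7297 = n5497 := (sb E23990 F36034)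
theorem F201592 : act 2 n4307 = n5039 := (sb E23992 F33227)
theorem F201593 : act 8 n4307 = n5041 := (sb E23992 F33230)
theorem F201594 : act 4 n10704 = n7870 := (sb E23995 F50643)
theorem F201595 : act 7 n10704 = n7867 := (sb E23995 F50645)
theorem E25383 : n15560 = n7866 := ((D15560).symm.trans (sb E23995 (iv D11416)))
theorem F201596 : act 6 n5438 = n7382 := (sb E23996 F47735)
theorem F201597 : act 8 n5438 = n7381 := (sb E23996 (iv D10711))
theorem F201598 : act 8 n7858 = n10689 := (sb E24001 F67808)
theorem E25384 : n7989 = n7374 := ((((iv D10696)).symm.trans (sb E24002 F50712))).symm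
theorem E25385 : n16474 = n15548 := (((D15548).symm.trans (sb E24002 F200066))).symm
theorem F201599 : act 9 n10696 = n7881 := (sb E24002 (iv D11437))
theorem F201600 : act 1 n5092 = n3825 := (sb E24003 F25585)
theorem E25386 : n7990 = n7376 := (((D7376).symm.trans (sb E24003 D7990))).symm
theorem F201601 : act 9 n5092 = n3822 := (sb E24003 (iv D5521))
theorem F201602 : act 1 n10700 = n7890 := (sb E24004 F199855)
theorem F201603 : act 4 n10700 = n7817 := (sb E24004 F50333)
theorem F201604 : act 6 n10700 = n7858 := (sb E24004 F50334)
theorem F201605 : act 7 n10700 = n7815 := (sb E24004 (iv D11343))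
theorem F201606 : act 0 n2651 = n3520 := (sb E24005 F23722)
theorem F201607 : act 9 n2651 = n3524 := (sb E24005 F23725)
theorem E25389 : n7975 = n7365 := ((((iv F33570)).symm.trans (sb E24007 (iv D11565)))).symm
theorem E25390 : n16495 = n15561 := (((D15561).symm.trans (sb E24008 (iv F71776)))).symm
theorem F201608 : act 4 n10705 = n7823 := (sb E24008 F50376)
theorem F201609 : act 7 n10705 = n7821 := (sb E24008 (iv D11352))
theorem F201610 : act 0 n10683 = n7881 := (sb E24009 F50613)
theorem F201611 : act 0 n5086 = n3822 := (sb E24011 F25540)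
theorem F201612 : act 8 n2644 = n3520 := (sb E24012 F23707)
theorem E25396 : n20446 = n545 := (((F4127).symm.trans (sb E24018 F193565))).symm
theorem E25398 : n20444 = n1135 := (((F8124).symm.trans (sb E24020 F193285))).symm
theorem E25479 : n725 = n576 := ((((iv F3102)).symm.trans (sb E24112 F5369))).symm
theorem E25487 : n1485 = n1179 := ((((iv F6082)).symm.trans (sb E24121 F10445))).symm
theorem F201613 : act 8 n828 = n716 := (sb E24123 (iv D1035))
theorem F201614 : act 2 n1034 = n1181 := (sb E24124 F8521)
theorem E25490 : n2435 = n1484 := (((D1484).symm.trans (sb E24124 (iv F11941)))).symm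
theorem F201615 : act 2 n500 = n577 := (sb E24126 F4394)
theorem E25491 : n23166 = n11196 := (((D11196).symm.trans (sb E24127 (iv F99305)))).symm
theorem F201616 : act 0 n7707 = n5991 := (sb E24128 F38936)
theorem F201617 : act 2 n7707 = n6021 := (sb E24128 F197784)
theorem E25492 : n11196 = n6061 := ((D11196).symm.trans (sb E24128 F38937))
theorem F201618 : act 5 n7707 = n5977 := (sb E24128 (iv D8674))
theorem F201619 : act 9 n7707 = n6020 := (sb E24128 F38939)
theorem E25493 : n23723 = n6093 := ((((iv F27908)).symm.trans (sb E24129 (iv F101451)))).symm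
theorem E25494 : n11194 = n6062 := ((((iv F27765)).symm.trans (sb E24129 (iv D16286)))).symm
theorem F201620 : act 0 n7706 = n5992 := (sb E24130 F38940)
theorem F201621 : act 2 n7706 = n6020 := (sb E24130 (iv F197332))
theorem F201622 : act 4 n7706 = n5979 := (sb E24130 F38942)
theorem F201623 : act 7 n7706 = n5977 := (sb E24130 (iv D8675))
theorem F201624 : act 9 n7706 = n6021 := (sb E24130 F38944)
theorem E25497 : n23268 = n5370 := (((F34930).symm.trans (sb E24134 (iv F99717)))).symm
theorem E25498 : n10994 = n5374 := ((((iv F24926)).symm.trans (sb E24135 F69751))).symm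
theorem F201625 : act 0 n7572 = n5846 := (sb E24136 F196819)
theorem F201626 : act 5 n7572 = n5314 := (sb E24136 F34957)
theorem F201627 : act 7 n7572 = n5313 := (sb E24136 (iv D7705))
theorem F201628 : act 5 n3694 = n5221 := (sb E24137 F34417)
theorem F201629 : act 7 n3694 = n5220 := (sb E24137 (iv D7568))
theorem E25500 : n23167 = n6093 := ((((iv F27908)).symm.trans (sb E24138 D23167))).symm
theorem F201630 : act 2 n4156 = n5315 := (sb E24139 F34285)
theorem F201631 : act 8 n4156 = n5197 := (sb E24139 (iv D7535))
theorem F201632 : act 8 n7852 = n9906 := (sb E24145 F63082)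
theorem E25512 : n26093 = n6090 := ((((iv F27895)).symm.trans (sb E24151 F198409))).symm
theorem E25513 : n23726 = n6092 := (((D6092).symm.trans (sb E24151 F145440))).symm
theorem E25514 : n23718 = n6055 := ((((iv F27727)).symm.trans (sb E24151 (iv D34582)))).symm
theorem F201633 : act 0 n7700 = n10984 := (sb E24156 F69581)
theorem E25517 : n23224 = n11187 := (((D11187).symm.trans (sb E24156 (iv F99547)))).symm
theorem F201634 : act 9 n7700 = n10960 := (sb E24156 (iv D15945))
theorem E25518 : n11198 = n6090 := ((D11198).symm.trans (sb E24157 (tr (iv F111013) E25512)))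
theorem E25519 : n23166 = n6061 := (E25491).trans E25492
theorem E25521 : n11278 = n11187 := (((D11187).symm.trans (sb E24158 (iv F198018)))).symm
theorem F201635 : act 9 n7708 = n6094 := (sb E24159 (iv F198091))
theorem E25523 : n20393 = n5358 := (((F34873).symm.trans (sb E24160 F193096))).symm
theorem E25524 : n20384 = n5363 := ((((iv F24870)).symm.trans (sb E24161 F125842))).symm
theorem F201636 : act 4 n7698 = n10987 := (sb E24162 F69708)
theorem F201637 : act 3 n3728 = n5222 := (sb E24173 (iv D7571))
theorem F201638 : act 6 n3728 = n5223 := (sb E24173 F34430)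
theorem E25537 : n21667 = n4577 := (((F30124).symm.trans (sb E24175 (iv D31585)))).symm
theorem E25540 : n20467 = n4817 := (((D4817).symm.trans (sb E24176 F193294))).symm
theorem E25543 : n21665 = n9579 := (((D9579).symm.trans (sb E24179 (iv F193730)))).symm
theorem E25546 : n20466 = n10118 := (((D10118).symm.trans (sb E24181 (iv F193388)))).symm
theorem E25549 : n20409 = n11153 := (((D11153).symm.trans (sb E24184 (iv F193175)))).symm
theorem E25554 : n20438 = n4822 := (((D4822).symm.trans (sb E24186 (iv D29756)))).symm
theorem E25558 : n21624 = n9586 := (((D9586).symm.trans (sb E24188 (iv D31520)))).symm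
theorem E25566 : n23213 = n10133 := (((D10133).symm.trans (sb E24191 F142118))).symm
theorem E25568 : n23216 = n10135 := (((D10135).symm.trans (sb E24192 (iv F99510)))).symm
theorem E25569 : n21109 = n10136 := (((D10136).symm.trans (sb E24192 (iv F90972)))).symm
theorem E25570 : n10135 = n9604 := (((F60784).symm.trans (sb E24664 (tr F141089 E25568)))).symm
theorem E25571 : n44501 = n20109 := (((D20109).symm.trans (sb E24664 (iv F185789)))).symm
theorem E25572 : n21291 = n20109 := (((iv F91683)).symm.trans (sb E24196 (tr (iv F185787) E25571)))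
theorem F201639 : act 8 n14628 = n20952 := (sb E24196 (iv D30516))
theorem E25574 : n20385 = n5362 := (((F34896).symm.trans (sb E24197 (iv D29675)))).symm
theorem E25577 : n23206 = n11174 := (((D11174).symm.trans (sb E24198 (iv F99470)))).symm
theorem F201640 : act 9 n7691 = n10951 := (sb E24198 (iv D15932))
theorem E25578 : n23212 = n10152 := (((D10152).symm.trans (sb E24230 (iv F99494)))).symm
theorem E25579 : n10154 = n10133 := ((D10154).symm.trans (sb E24230 (tr D23213 E25566)))
theorem E25581 : n23216 = n9604 := (E25568).trans E25570
theorem F201641 : act 3 n6998 = n5305 := (sb E24201 (iv D7694))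
theorem F201642 : act 0 n6984 = n9979 := (sb E24202 (iv F44671))
theorem F201643 : act 8 n6984 = n4832 := (sb E24202 (iv D6999))
theorem E25583 : n10156 = n10136 := (((D10136).symm.trans (sb E24202 D10156))).symm
theorem E25584 : n20108 = n20088 := ((D20108).symm.trans (sb E24204 (iv F86708)))
theorem F201644 : act 4 n13835 = n10066 := (sb E24204 (iv D14627))
theorem F201645 : act 0 n14628 = n20943 := (sb E24206 (iv F90314))
theorem E25589 : n23191 = n9579 := (((D9579).symm.trans (sb E24209 D23191))).symm
theorem E25590 : n21093 = n9580 := (((D9580).symm.trans (sb E24209 (iv F90912)))).symm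
theorem E25591 : n42035 = n20074 := (((D20074).symm.trans (sb E24210 (iv F175727)))).symm
theorem E25593 : n23187 = n10118 := (((D10118).symm.trans (sb E24211 D23187))).symm
theorem E25594 : n21090 = n10120 := (((D10120).symm.trans (sb E24211 (iv F90898)))).symm
theorem F201646 : act 1 n6975 = n9983 := (sb E24212 F63600)
theorem F201647 : act 3 n6975 = n9979 := (sb E24212 (iv D14495))
theorem E25595 : n21094 = n10122 := (((D10122).symm.trans (sb E24212 D21094))).symm
theorem F201648 : act 1 n14614 = n20952 := (sb E24213 F129362)
theorem F201649 : act 3 n14614 = n20943 := (sb E24213 F129363)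
theorem F201650 : act 1 n7679 = n10951 := (sb E24214 F69473)
theorem E25596 : n23181 = n11153 := (((D11153).symm.trans (sb E24214 D23181))).symm
theorem F201651 : act 8 n7679 = n10944 := (sb E24214 (iv D15918))
theorem E25611 : n23735 = n11170 := (((D11170).symm.trans (sb E24224 (iv F101502)))).symm
theorem F201652 : act 0 n7691 = n10944 := (sb E24225 (iv F48712))
theorem E25612 : n11202 = n11174 := (((D11174).symm.trans (sb E24225 D11202))).symm
theorem E25616 : n42407 = n42380 := ((D42407).symm.trans (sb E24234 (iv F177158)))
theorem F201653 : act 0 n29088 = n41920 := (sb E24235 (iv F175248))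
theorem F201654 : act 3 n29088 = n20009 := (sb E24235 (iv D29108))
theorem E25619 : n42411 = n42381 := (((D42381).symm.trans (sb E24235 D42411))).symm
theorem F201655 : act 4 n29109 = n21186 := (sb E24236 F130800)
theorem E25626 : n45133 = n41928 := (((D41928).symm.trans (sb E24242 (iv F188243)))).symm
theorem E25636 : n20810 = n10328 := (((iv F89767)).symm.trans (sb E24254 F65587))
theorem F201656 : act 1 n7117 = n9855 := (sb E24255 F62826)
theorem F201657 : act 3 n7117 = n9862 := (sb E24255 F62827)
theorem E25637 : n45085 = n41897 := (((D41897).symm.trans (sb E24256 (iv F188079)))).symm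
theorem E25638 : n42424 = n41898 := (((D41898).symm.trans (sb E24257 (iv F177344)))).symm
theorem E25639 : n45086 = n41899 := (((D41899).symm.trans (sb E24257 D45086))).symm
theorem E25640 : n42425 = n41901 := ((((iv F175160)).symm.trans (sb E24258 (iv F177349)))).symm
theorem E25643 : n10240 = n2206 := (((F15142).symm.trans (sb E24262 (iv D14886)))).symm
theorem E25645 : n9699 = n1128 := (((F8092).symm.trans (sb E24263 (iv D14080)))).symm
theorem E25646 : n9697 = n2330 := (((F15964).symm.trans (sb E24264 (iv D14078)))).symm
theorem E25654 : n10219 = n1082 := (((F7739).symm.trans (sb E24267 (iv D14857)))).symm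
theorem E25657 : n9685 = n1129 := (((D1129).symm.trans (sb E24270 (iv D14059)))).symm
theorem E25658 : n9684 = n2332 := ((((iv F11435)).symm.trans (sb E24271 (iv D14057)))).symm
theorem E25665 : n10210 = n1083 := (((D1083).symm.trans (sb E24274 (iv D14843)))).symm
theorem E25670 : n21602 = n4583 := ((((iv F21472)).symm.trans (sb E24277 F126155))).symm
theorem E25682 : n9665 = n2560 := ((((iv F12475)).symm.trans (sb E24284 (iv D14028)))).symm
theorem E25684 : n9660 = n2563 := ((((iv F12491)).symm.trans (sb E24286 F61532))).symm
theorem E25705 : n9669 = n5354 := ((((iv F24825)).symm.trans (sb E24309 F61579))).symm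
theorem E25707 : n9658 = n5364 := (((D5364).symm.trans (sb E24310 (iv D14019)))).symm
theorem E25709 : n20373 = n5372 := (((D5372).symm.trans (sb E24311 D20373))).symm
theorem F201658 : act 0 n7701 = n10986 := (sb E24313 F69590)
theorem E25710 : n23226 = n11189 := (((D11189).symm.trans (sb E24313 (iv F99557)))).symm
theorem F201659 : act 9 n7701 = n10961 := (sb E24313 (iv D15947))
theorem F201660 : act 0 n3797 = n4494 := (sb E24314 (iv D6488))
theorem E25711 : n9360 = n5486 := ((((iv F25428)).symm.trans (sb E24314 (iv F41978)))).symm
theorem F201661 : act 9 n3797 = n4497 := (sb E24314 F29726)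
theorem F201662 : act 0 n3796 = n4674 := (sb E24315 (iv D6758))
theorem E25712 : n9774 = n5485 := ((((iv F25424)).symm.trans (sb E24315 (iv F43795)))).symm
theorem F201663 : act 9 n3796 = n4677 := (sb E24315 F30953)
theorem F201664 : act 0 n3801 = n5040 := (sb E24316 (iv D7295))
theorem F201665 : act 9 n3801 = n5043 := (sb E24316 F33242)
theorem E25713 : n26096 = n5378 := (((D5378).symm.trans (sb E24317 (iv F111026)))).symm
theorem E25714 : n26095 = n6087 := ((((iv F27880)).symm.trans (sb E24328 (iv F111021)))).symm
theorem E25715 : n6091 = n5378 := ((D6091).symm.trans (sb E24328 (tr D26096 E25713)))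
theorem F201666 : act 2 n4210 = n5316 := (sb E24326 (iv D7710))
theorem E25723 : n26066 = n6050 := ((((iv F27702)).symm.trans (sb E24327 (iv D38020)))).symm
theorem F201667 : act 0 n7573 = n5845 := (sb E24331 F197604)
theorem E25733 : n9771 = n5474 := (((iv F43778)).symm.trans (sb E24340 (iv D7925)))
theorem F201668 : act 1 n3788 = n4672 := (sb E24341 (iv D6755))
theorem F201669 : act 8 n3788 = n4674 := (sb E24341 F30936)
theorem F201670 : act 8 n3791 = n5040 := (sb E24342 F33224)
theorem E25738 : n20348 = n2896 := ((((iv F13908)).symm.trans (sb E24348 F192979))).symm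
theorem F201671 : act 2 n4319 = n5555 := (sb E24359 F36434)
theorem F201672 : act 6 n4319 = n5601 := (sb E24359 (iv F195477))
theorem F201673 : act 8 n4319 = n5559 := (sb E24359 F36437)
theorem E25763 : n1492 = n628 := (((D628).symm.trans (sb E24390 F10482))).symm
theorem E25765 : n1304 = n722 := (((iv F6665)).symm.trans (sb E24391 F5342))
theorem E25766 : n1491 = n1306 := ((((iv F6675)).symm.trans (sb E24391 (iv F7485)))).symm
theorem F201674 : act 8 n909 = n719 := (sb E24391 (iv D1039))
theorem E25767 : n727 = n301 := (((D301).symm.trans (sb E24393 F5385))).symm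
theorem E25768 : n643 = n345 := (((iv F3426)).symm.trans (sb E24394 F2697))
theorem F201675 : act 8 n443 = n344 := (sb E24394 (iv D502))
theorem E25769 : n723 = n637 := (((D637).symm.trans (sb E24395 F5346))).symm
theorem F201676 : act 1 n499 = n638 := (sb E24396 F4816)
theorem E25784 : n3036 = n2416 := ((((iv F11837)).symm.trans (sb E24422 F20440))).symm
theorem E25787 : n3035 = n2424 := ((((iv F11883)).symm.trans (sb E24424 (iv F14524)))).symm
theorem F201677 : act 8 n1686 = n1468 := (sb E24424 (iv D2111))
theorem F201678 : act 2 n2110 = n2419 := (sb E24428 F16654)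
theorem E25790 : n5034 = n3034 := ((((iv F14519)).symm.trans (sb E24428 (iv F23471)))).symm
theorem F201679 : act 2 n2109 = n2426 := (sb E24430 F16718)
theorem E25792 : n9644 = n1391 := (((D1391).symm.trans (sb E24431 (iv D13997)))).symm
theorem E25793 : n9647 = n2893 := ((((iv F13893)).symm.trans (sb E24432 F61436))).symm
theorem E25795 : n9641 = n1393 := (((D1393).symm.trans (sb E24433 F61390))).symm
theorem F201680 : act 2 n1038 = n1308 := (sb E24444 F9362)
theorem E25805 : n2661 = n1479 := (((iv F12949)).symm.trans (sb E24464 F10389))
theorem E25806 : n3047 = n2664 := ((((iv F12965)).symm.trans (sb E24464 (iv F14585)))).symm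
theorem F201681 : act 8 n1853 = n1474 := (sb E24464 (iv D2120))
theorem F201682 : act 1 n1031 = n1297 := (sb E24467 F9287)
theorem E25810 : n2675 = n1478 := ((((iv F7422)).symm.trans (sb E24467 (iv F13023)))).symm
theorem E25811 : n1480 = n1295 := ((D1480).symm.trans (sb E24467 (iv D1861)))
theorem F201683 : act 8 n1863 = n1473 := (sb E24468 (iv D2119))
theorem F201684 : act 9 n915 = n714 := (sb E24471 (iv D1032))
theorem E25815 : n12648 = n6069 := ((((iv F27798)).symm.trans (sb E24472 (iv D18413)))).symm
theorem F201685 : act 5 n4199 = n6001 := (sb E24474 F39059)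
theorem E25817 : n6083 = n6078 := (((D6078).symm.trans (sb E24474 F39061))).symm
theorem E25819 : n12651 = n6068 := ((((iv F27790)).symm.trans (sb E24477 D12651))).symm
theorem F201686 : act 7 n4198 = n6001 := (sb E24477 F39067)
theorem E25820 : n6084 = n6077 := (((D6077).symm.trans (sb E24477 F39068))).symm
theorem F201687 : act 2 n4215 = n6001 := (sb E24492 (iv D8710))
theorem E25829 : n6097 = n6085 := ((D6097).symm.trans (sb E24492 F39075))
theorem F201688 : act 8 n4207 = n2917 := (sb E24523 (iv D4216))
theorem E25839 : n9651 = n6050 := ((((iv F27699)).symm.trans (sb E24525 F61454))).symm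
theorem E25841 : n34379 = n28858 := ((((iv F122532)).symm.trans (sb E24528 (iv F144687)))).symm
theorem F201689 : act 9 n20944 = n16179 := (sb E24528 (iv D23573))
theorem E25843 : n35018 = n28732 := ((((iv F121996)).symm.trans (sb E24529 D35018))).symm
theorem E25844 : n30251 = n16602 := ((D30251).symm.trans (sb E24529 F102717))
theorem F201690 : act 7 n20777 = n16509 := (sb E24529 F102718)
theorem E25845 : n31879 = n30252 := (((D30252).symm.trans (sb E24529 (iv F134569)))).symm
theorem E25846 : n34381 = n30525 := (((D30525).symm.trans (sb E24530 D34381))).symm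
theorem E25847 : n30443 = n16183 := (((iv F197389)).symm.trans (sb E24530 F100892))
theorem E25848 : n31125 = n30527 := (((D30527).symm.trans (sb E24530 (iv F131717)))).symm
theorem E25850 : n45329 = n44415 := (((D44415).symm.trans (sb E24534 (iv F188917)))).symm
theorem E25856 : n23267 = n2581 := ((((iv F12578)).symm.trans (sb E24547 F141263))).symm
theorem E25861 : n23551 = n23251 := (((D23251).symm.trans (sb E24555 D23551))).symm
theorem F201691 : act 5 n15962 = n11114 := (sb E24555 (iv D16168))
theorem E25862 : n23553 = n21131 := ((((iv F91056)).symm.trans (sb E24555 D23553))).symm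
theorem F201692 : act 4 n7735 = n10972 := (sb E24556 F69629)
theorem E25866 : n45112 = n44520 := ((D45112).symm.trans (sb E24566 (iv F185848)))
theorem E25869 : n45198 = n44466 := (((D44466).symm.trans (sb E24571 (iv F188482)))).symm
theorem E25871 : n23650 = n23254 := ((((iv F99665)).symm.trans (sb E24574 D23650))).symm
theorem E25872 : n23255 = n21411 := ((D23255).symm.trans (sb E24574 (iv F92092)))
theorem E25873 : n21411 = n21089 := (((F129342).symm.trans (sb E24581 (tr F141222 E25872)))).symm
theorem E25874 : n44541 = n44470 := (((D44470).symm.trans (sb E24581 (iv F185913)))).symm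
theorem E25875 : n44544 = n44467 := (((D44467).symm.trans (sb E24576 (iv F185925)))).symm
theorem E25876 : n45203 = n44470 := (((D44470).symm.trans (sb E24577 D45203))).symm
theorem E25878 : n23255 = n21089 := (E25872).trans E25873
theorem E25879 : n23696 = n21397 := (((iv F101343)).symm.trans (sb E24580 (iv D31179)))
theorem E25880 : n45489 = n21555 := ((((iv F92599)).symm.trans (sb E24580 D45489))).symm
theorem E25881 : n21397 = n21103 := (((F129390).symm.trans (sb E24620 (tr F144151 E25879)))).symm
theorem E25882 : n45249 = n44495 := (((D44495).symm.trans (sb E24620 (iv F188650)))).symm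
theorem E25883 : n45252 = n44497 := (((D44497).symm.trans (sb E24583 (iv F188659)))).symm
theorem E25884 : n45173 = n44494 := (((D44494).symm.trans (sb E24584 (iv F188394)))).symm
theorem F201693 : act 8 n30510 = n21258 := (sb E24584 (iv D30971))
theorem E25885 : n45178 = n44495 := (((D44495).symm.trans (sb E24584 D45178))).symm
theorem E25886 : n45175 = n44497 := ((((iv F185773)).symm.trans (sb E24587 (iv F188399)))).symm
theorem E25888 : n31883 = n30366 := (((D30366).symm.trans (sb E24589 (iv F134585)))).symm
theorem E25889 : n30095 = n16505 := (((iv F196127)).symm.trans (sb E24590 F102698))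
theorem E25890 : n35012 = n30138 := (((D30138).symm.trans (sb E24590 D35012))).symm
theorem E25891 : n30139 = n16597 := ((D30139).symm.trans (sb E24590 F102699))
theorem F201694 : act 2 n20864 = n16179 := (sb E24591 F100881)
theorem E25895 : n34352 = n30384 := (((D30384).symm.trans (sb E24591 (iv F144622)))).symm
theorem F201695 : act 2 n20868 = n16171 := (sb E24593 (iv D23557))
theorem E25897 : n34353 = n30389 := (((D30389).symm.trans (sb E24593 D34353))).symm
theorem E25901 : n24163 = n20767 := ((((iv F195978)).symm.trans (sb E24595 F200217))).symm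
theorem F201696 : act 1 n15008 = n20815 := (sb E24600 F128561)
theorem F201697 : act 3 n15008 = n20833 := (sb E24600 F128562)
theorem E25905 : n44179 = n21848 := (((D21848).symm.trans (sb E24600 D44179))).symm
theorem E25912 : n45174 = n44490 := ((((iv F185746)).symm.trans (sb E24618 D45174))).symm
theorem E25913 : n44496 = n42540 := ((D44496).symm.trans (sb E24618 (iv F177848)))
theorem F201698 : act 8 n30512 = n21257 := (sb E24618 (iv D30969))
theorem E25914 : n23695 = n21394 := ((((iv F92024)).symm.trans (sb E24619 (iv F101340)))).symm
theorem E25915 : n23696 = n21103 := (E25879).trans E25881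
theorem F201699 : act 3 n14700 = n10953 := (sb E24623 (iv D15934))
theorem E25916 : n23209 = n21394 := ((((iv F92024)).symm.trans (sb E24623 D23209))).symm
theorem E25917 : n23685 = n23202 := (((D23202).symm.trans (sb E24624 (iv F101310)))).symm
theorem E25919 : n23643 = n23245 := (((D23245).symm.trans (sb E24628 (iv D34477)))).symm
theorem E25920 : n23617 = n23202 := (((D23202).symm.trans (sb E24632 (iv F101048)))).symm
theorem E25922 : n23223 = n11320 := ((((iv F50225)).symm.trans (sb E24636 D23223))).symm
theorem F201700 : act 3 n7801 = n10960 := (sb E24636 (iv D15944))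
theorem F201701 : act 6 n7801 = n10961 := (sb E24636 F69579)
theorem E25927 : n23664 = n23271 := (((D23271).symm.trans (sb E24651 (iv D34505)))).symm
theorem E25928 : n20389 = n11281 := ((F193095).symm.trans (sb E24652 F70746))
theorem E25929 : n8793 = n7789 := (((D7789).symm.trans (iv (sb E24653 (tr (iv D15988) E25498))))).symm
theorem E25937 : n23260 = n19913 := (((F122516).symm.trans (sb E24660 F141241))).symm
theorem E25938 : n44547 = n42033 := (((D42033).symm.trans (sb E24661 (iv F185937)))).symm
theorem E25939 : n23652 = n23257 := ((((iv F99675)).symm.trans (sb E24662 (iv F101183)))).symm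
theorem E25940 : n23261 = n21415 := ((D23261).symm.trans (sb E24662 (iv F92109)))
theorem E25941 : n23262 = n19915 := (((D19915).symm.trans (sb E24672 D23262))).symm
theorem E25942 : n21415 = n19914 := ((((iv F85965)).symm.trans (sb E24672 (tr (iv F99692) E25940)))).symm
theorem E25945 : n20208 = n19915 := (((D19915).symm.trans (sb E24666 (iv F87190)))).symm
theorem E25947 : n42495 = n42034 := (((D42034).symm.trans (sb E24668 (iv F177644)))).symm
theorem E25948 : n42561 = n42036 := (((D42036).symm.trans (sb E24668 D42561))).symm
theorem E25949 : n23646 = n23249 := ((((iv F99646)).symm.trans (sb E24670 (iv F101159)))).symm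
theorem E25950 : n23258 = n21413 := ((D23258).symm.trans (sb E24670 (iv F92100)))
theorem E25951 : n21413 = n21087 := ((((iv F90883)).symm.trans (sb E24684 (tr (iv F99680) E25950)))).symm
theorem E25956 : n23261 = n19914 := (E25940).trans E25942
theorem E25959 : n42836 = n23834 := (((D23834).symm.trans (sb E24679 (iv F178995)))).symm
theorem E25960 : n23703 = n20199 := (((iv F101363)).symm.trans (sb E24679 (iv D29395)))
theorem E25961 : n42839 = n21562 := ((((iv F92621)).symm.trans (sb E24679 D42839))).symm
theorem E25962 : n34225 = n28865 := (E24681).trans E24695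
theorem E25963 : n20199 = n19924 := (((F122556).symm.trans (sb E25962 (tr F144170 E25960)))).symm
theorem E25964 : n45256 = n42050 := (((D42050).symm.trans (sb E25962 (iv F188671)))).symm
theorem E25966 : n45483 = n23830 := (((D23830).symm.trans (sb E24683 (iv F189403)))).symm
theorem E25968 : n23699 = n21105 := (((D21105).symm.trans (sb E24701 (iv F101352)))).symm
theorem E25971 : n23703 = n19924 := (E25960).trans E25963
theorem E25972 : n23702 = n20198 := ((((iv F87147)).symm.trans (sb E24704 (iv F101361)))).symm
theorem E25973 : n21448 = n20200 := (((D20200).symm.trans (sb E24704 (iv F92228)))).symm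
theorem E25974 : n21395 = n21105 := (((D21105).symm.trans (sb E24688 (iv F92028)))).symm
theorem F201702 : act 8 n14502 = n10116 := (sb E24688 (iv D14701))
theorem E25975 : n21108 = n20200 := (((iv F90967)).symm.trans (sb E24689 (tr (iv F92226) E25973)))
theorem F201703 : act 4 n13896 = n9983 := (sb E24692 (iv D14504))
theorem E25977 : n21107 = n20198 := ((((iv F87147)).symm.trans (sb E24692 D21107))).symm
theorem E25978 : n42547 = n42050 := (((iv F177873)).symm.trans (sb E24693 (tr D45256 E25964)))
theorem F201704 : act 4 n29200 = n20952 := (sb E24694 F129409)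
theorem E25979 : n44500 = n42544 := ((((iv F177863)).symm.trans (sb E24694 (iv F185784)))).symm
theorem F201705 : act 3 n28865 = n20070 := (sb E24695 (iv D29199))
theorem E25981 : n42543 = n42049 := (((D42049).symm.trans (sb E24695 (iv F177859)))).symm
theorem E25982 : n44499 = n42542 := ((((iv F177857)).symm.trans (sb E24696 D44499))).symm
theorem E25983 : n23645 = n23247 := ((((iv F99637)).symm.trans (sb E24697 D23645))).symm
theorem E25984 : n23638 = n23250 := (((D23250).symm.trans (sb E24697 (iv F101128)))).symm
theorem E25985 : n23691 = n23618 := (((iv F101328)).symm.trans (sb E24698 (iv D34433)))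
theorem E25986 : n23204 = n20420 := ((D23204).symm.trans (sb E24699 F193274))
theorem E25987 : n23205 = n20487 := ((D23205).symm.trans (sb E24699 (iv F193383)))
theorem E25988 : n23618 = n23197 := ((((iv F99439)).symm.trans (sb E24699 (tr D23691 E25985)))).symm
theorem E25989 : n21393 = n20487 := ((D21393).symm.trans (sb E24700 F193545))
theorem E25990 : n21664 = n20196 := ((((iv F87138)).symm.trans (sb E24700 (iv F193720)))).symm
theorem E25991 : n23616 = n20420 := (((E25986).symm.trans ((D23204).symm.trans (sb E24702 D23616)))).symm
theorem E25995 : n23225 = n12736 := ((D23225).symm.trans (sb E24709 (iv F199188)))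
theorem E25997 : n45999 = n11248 := (((F69664).symm.trans (sb E24711 (iv F191260)))).symm
theorem E25998 : n23248 = n21689 := (((iv F99642)).symm.trans (sb E24711 F133373))
theorem E26004 : n23246 = n20501 := (((iv F99633)).symm.trans (sb E24716 F126542))
theorem E26013 : n23691 = n23197 := (E25985).trans E25988
theorem E26014 : n20172 = n11282 := ((F193092).symm.trans (sb E24731 F70756))
theorem F201706 : act 8 n7771 = n10986 := (sb E24732 (iv F193021))
theorem F201707 : act 5 n6079 = n4205 := (sb E24735 F27860)
theorem F201708 : act 7 n6079 = n4204 := (sb E24735 F27861)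
theorem F201709 : act 8 n6079 = n4203 := (sb E24735 (iv D6082))
theorem F201710 : act 2 n2118 = n2667 := (sb E24773 F18244)
theorem E26027 : n5546 = n3046 := (((D3046).symm.trans (sb E24773 (iv F25717)))).symm
theorem F201711 : act 0 n11422 = n14385 := (sb E24778 F90204)
theorem F201712 : act 2 n11422 = n15766 := (sb E24778 (iv F196638))
theorem E26029 : n14465 = n7907 := (((F50663).symm.trans (sb E24778 F90207))).symm
theorem F201713 : act 6 n11422 = n15556 := (sb E24778 F196364)
theorem E26030 : n14374 = n7871 := (((F50664).symm.trans (sb E24778 (iv D20912)))).symm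
theorem E26031 : n30456 = n15100 := ((((iv F65976)).symm.trans (sb E24778 D30456))).symm
theorem F201714 : act 9 n11422 = n14404 := (sb E24778 F90208)
theorem E26034 : n16570 = n14383 := ((((iv D20925)).symm.trans (sb E24779 F103063))).symm
theorem E26036 : n16648 = n14478 := ((((iv F63534)).symm.trans (sb E24780 D16648))).symm
theorem E26037 : n7899 = n6871 := ((((iv D9968)).symm.trans (sb E24780 F50801))).symm
theorem E26038 : n15159 = n14482 := (((D14482).symm.trans (sb E24780 (iv F66224)))).symm
theorem E26039 : n15072 = n14386 := (((D14386).symm.trans (sb E24781 (iv F65864)))).symm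
theorem E26040 : n30427 = n15071 := (((iv F129090)).symm.trans (sb E24782 (iv D21942)))
theorem F201715 : act 1 n9895 = n7852 := (sb E24784 F50519)
theorem E26044 : n15057 = n14367 := ((((iv F63094)).symm.trans (sb E24784 (iv F65798)))).symm
theorem E26058 : n34385 = n30504 := (((D30504).symm.trans (sb E24791 (iv F144703)))).symm
theorem E26059 : n34386 = n30506 := (((D30506).symm.trans (sb E24791 D34386))).symm
theorem F201716 : act 6 n20963 = n16179 := (sb E24792 F100876)
theorem E26061 : n34349 = n30532 := (((D30532).symm.trans (sb E24792 (iv F144615)))).symm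
theorem E26062 : n34356 = n33429 := (((D33429).symm.trans (sb E24793 (iv F144630)))).symm
theorem F201717 : act 3 n20967 = n16170 := (sb E24794 (iv D23555))
theorem F201718 : act 6 n20967 = n16171 := (sb E24794 F100846)
theorem E26063 : n34350 = n30539 := (((D30539).symm.trans (sb E24794 D34350))).symm
theorem F201719 : act 4 n21312 = n16106 := (sb E24795 (iv D23461))
theorem E26066 : n34197 = n31050 := (((D31050).symm.trans (sb E24795 (iv F144096)))).symm
theorem E26067 : n33800 = n14707 := (((F91591).symm.trans (sb E24796 (iv F198297)))).symm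
theorem F201720 : act 6 n21265 = n16106 := (sb E24796 F100504)
theorem E26068 : n34194 = n30984 := (((D30984).symm.trans (sb E24796 (iv F144089)))).symm
theorem F201721 : act 0 n23453 = n30859 := (sb E24797 F197089)
theorem F201722 : act 1 n23453 = n16146 := (sb E24797 F100651)
theorem F201723 : act 2 n23453 = n30850 := (sb E24797 F197090)
theorem F201724 : act 7 n23453 = n30840 := (sb E24797 F197091)
theorem E26069 : n34265 = n34198 := (((D34198).symm.trans (sb E24797 D34265))).symm
theorem E26071 : n31307 = n14727 := (((D14727).symm.trans (sb E24798 (iv F132367)))).symm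
theorem E26072 : n31056 = n31013 := (((D31013).symm.trans (sb E24799 (iv D45305)))).symm
theorem F201725 : act 3 n23428 = n30859 := (sb E24800 (iv D45011))
theorem F201726 : act 7 n23428 = n30860 := (sb E24800 F187783)
theorem F201727 : act 0 n21358 = n30465 := (sb E24801 F197033)
theorem F201728 : act 1 n21358 = n16170 := (sb E24801 F98459)
theorem E26073 : n30645 = n14800 := (((F91904).symm.trans (sb E24801 (iv F197392)))).symm
theorem F201729 : act 6 n21358 = n15767 := (sb E24801 F98460)
theorem E26074 : n30446 = n14673 := (((F91905).symm.trans (sb E24801 (iv F197390)))).symm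
theorem F201730 : act 8 n21358 = n15766 := (sb E24801 (iv D22957))
theorem E26075 : n33464 = n31126 := (((D31126).symm.trans (sb E24801 D33464))).symm
theorem F201731 : act 3 n21329 = n30465 := (sb E24802 (iv D44425))
theorem E26076 : n30674 = n14771 := (((F91813).symm.trans (sb E24802 F185534))).symm
theorem E26077 : n30466 = n14653 := (((F91814).symm.trans (sb E24802 F185535))).symm
theorem E26078 : n31082 = n30462 := (((F185520).symm.trans (sb E24803 F188965))).symm
theorem E26079 : n31348 = n30668 := ((((iv F130031)).symm.trans (sb E24804 D31348))).symm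
theorem F201732 : act 0 n44426 = n31126 := (sb E24806 F188967)
theorem F201733 : act 3 n44426 = n31081 := (sb E24806 F188969)
theorem F201734 : act 0 n44218 = n30935 := (sb E24808 F188057)
theorem F201735 : act 3 n44218 = n30905 := (sb E24808 F188059)
theorem F201736 : act 4 n44976 = n30860 := (sb E24809 (iv D45013))
theorem F201737 : act 6 n44976 = n30862 := (sb E24809 F187791)
theorem F201738 : act 1 n45014 = n30905 := (sb E24810 F187958)
theorem E26083 : n16698 = n14218 := ((((iv D20676)).symm.trans (sb E24811 F102530))).symm
theorem F201739 : act 0 n10619 = n7951 := (sb E24812 F51005)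
theorem F201740 : act 0 n11354 = n14219 := (sb E24813 F89214)
theorem F201741 : act 2 n11354 = n14234 := (sb E24813 F195936)
theorem E26086 : n14216 = n7939 := (((F50384).symm.trans (sb E24813 (iv D20673)))).symm
theorem F201742 : act 6 n11354 = n14231 := (sb E24813 F195937)
theorem E26087 : n30097 = n16497 := ((((iv F71785)).symm.trans (sb E24813 D30097))).symm
theorem F201743 : act 9 n11354 = n14228 := (sb E24813 F89218)
theorem F201744 : act 1 n11514 = n14200 := (sb E24814 F89080)
theorem E26088 : n28654 = n16729 := (((D16729).symm.trans (sb E24814 (iv F195823)))).symm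
theorem F201745 : act 5 n11514 = n14234 := (sb E24814 F89082)
theorem E26089 : n16725 = n14196 := (((iv F72706)).symm.trans (sb E24814 (iv D20645)))
theorem E26091 : n30056 = n16720 := ((((iv F72688)).symm.trans (sb E24814 D30056))).symm
theorem E26092 : n16730 = n14227 := ((D16730).symm.trans (sb E24814 F195712))
theorem F201746 : act 1 n11419 = n14240 := (sb E24815 F89331)
theorem F201747 : act 6 n11419 = n14292 := (sb E24815 F89333)
theorem F201748 : act 7 n11419 = n14234 := (sb E24815 (iv D20703))
theorem E26093 : n30143 = n16588 := ((((iv F72151)).symm.trans (sb E24815 D30143))).symm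
theorem E26095 : n34935 = n30108 := (((D30108).symm.trans (sb E24817 (iv F146873)))).symm
theorem F201749 : act 6 n9781 = n7951 := (sb E24818 F51104)
theorem E26096 : n16695 = n14188 := ((((iv F62322)).symm.trans (sb E24818 (iv F199791)))).symm
theorem E26097 : n16473 = n15443 := (((D15443).symm.trans (sb E24820 F199846))).symm
theorem F201750 : act 9 n10628 = n7951 := (sb E24820 (iv D11530))
theorem F201751 : act 1 n11334 = n14214 := (sb E24821 F89182)
theorem F201752 : act 8 n11334 = n14221 := (sb E24821 F89185)
theorem F201753 : act 1 n11336 = n14312 := (sb E24822 F89772)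
theorem F201754 : act 8 n11336 = n14323 := (sb E24822 F89776)
theorem F201755 : act 1 n10325 = n14309 := (sb E24823 F89758)
theorem E26109 : n16809 = n14277 := ((D16809).symm.trans (sb E24826 F195725))
theorem F201759 : act 9 n10695 = n7988 := (sb E24832 (iv D11584))
theorem F201760 : act 0 n11417 = n14268 := (sb E24839 F89509)
theorem F201761 : act 2 n11417 = n14292 := (sb E24839 F196360)
theorem E26125 : n30201 = n16594 := (((D16594).symm.trans (sb E24839 (iv F128170)))).symm
theorem F201762 : act 7 n11417 = n14286 := (sb E24839 F196361)
theorem E26126 : n30204 = n16586 := ((((iv F72143)).symm.trans (sb E24839 D30204))).symm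
theorem F201763 : act 9 n11417 = n14281 := (sb E24839 F89513)
theorem E26130 : n35117 = n30220 := (((D30220).symm.trans (sb E24842 (iv F147598)))).symm
theorem F201764 : act 1 n11394 = n14260 := (sb E24843 F89468)
theorem F201765 : act 8 n11394 = n14271 := (sb E24843 F89472)
theorem E26140 : n30259 = n16585 := ((D30259).symm.trans (sb E24848 (iv D24139)))
theorem E26146 : n30185 = n16559 := (((iv F128104)).symm.trans (sb E24851 (iv D24103)))
theorem E26152 : n33299 = n6952 := (((D6952).symm.trans (sb E24853 (iv F140569)))).symm
theorem E26157 : n30468 = n14651 := (((D14651).symm.trans (sb E24855 (iv F129253)))).symm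
theorem F201766 : act 1 n21209 = n30862 := (sb E24856 F184723)
theorem E26158 : n15890 = n7001 := (((F45080).symm.trans (sb E24857 F98244))).symm
theorem F201767 : act 1 n10084 = n14625 := (sb E24858 F90236)
theorem F201768 : act 3 n10084 = n14380 := (sb E24858 (iv D20920))
theorem E26159 : n30469 = n14655 := (((D14655).symm.trans (sb E24858 D30469))).symm
theorem F201769 : act 1 n21213 = n30863 := (sb E24859 F184726)
theorem F201770 : act 3 n21213 = n30328 := (sb E24859 F184727)
theorem F201771 : act 0 n10097 = n14380 := (sb E24864 F90187)
theorem E26164 : n14375 = n7157 := (((F45123).symm.trans (sb E24864 F90188))).symm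
theorem E26165 : n30444 = n14675 := (((D14675).symm.trans (sb E24864 (iv F129166)))).symm
theorem E26166 : n30448 = n14676 := (((D14676).symm.trans (sb E24864 D30448))).symm
theorem F201772 : act 0 n10339 = n14321 := (sb E24866 F89828)
theorem E26168 : n30318 = n15030 := (((D15030).symm.trans (sb E24866 (iv F128645)))).symm
theorem E26169 : n30321 = n15031 := (((D15031).symm.trans (sb E24866 D30321))).symm
theorem F201773 : act 0 n21233 = n30324 := (sb E24867 F184620)
theorem F201774 : act 6 n21233 = n30368 := (sb E24867 F197025)
theorem F201775 : act 0 n21234 = n30328 := (sb E24868 F184638)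
theorem F201776 : act 8 n21234 = n30357 := (sb E24868 F184642)
theorem F201777 : act 3 n20696 = n16509 := (sb E24869 F102689)
theorem E26170 : n35006 = n28678 := ((((iv F121772)).symm.trans (sb E24869 D35006))).symm
theorem F201778 : act 0 n24033 = n30331 := (sb E24870 F196373)
theorem F201779 : act 2 n24033 = n28793 := (sb E24870 F174600)
theorem F201780 : act 0 n11359 = n14319 := (sb E24871 F89819)
theorem E26172 : n28759 = n16511 := (((D16511).symm.trans (sb E24871 (iv F122098)))).symm
theorem E26173 : n14373 = n7873 := (((F50406).symm.trans (sb E24871 F89821))).symm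
theorem F201781 : act 9 n11359 = n14332 := (sb E24871 F89822)
theorem F201782 : act 0 n21877 = n30333 := (sb E24872 F196375)
theorem F201783 : act 2 n21877 = n30368 := (sb E24872 F183518)
theorem F201785 : act 0 n23386 = n28764 := (sb E24874 F175067)
theorem F201786 : act 1 n23386 = n30919 := (sb E24874 F197021)
theorem F201787 : act 3 n23386 = n30369 := (sb E24874 F197022)
theorem E26174 : n28819 = n16185 := (((F100220).symm.trans (sb E24874 F175070))).symm
theorem F201788 : act 9 n23386 = n28783 := (sb E24874 F175071)
theorem F201789 : act 0 n11124 = n14378 := (sb E24875 F90179)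
theorem F201790 : act 9 n11124 = n14397 := (sb E24875 F90181)
theorem F201791 : act 4 n44279 = n30927 := (sb E24876 (iv D45115))
theorem F201792 : act 6 n44279 = n30930 := (sb E24876 F188186)
theorem F201793 : act 2 n44280 = n31882 := (sb E24877 F188215)
theorem F201794 : act 4 n44280 = n30935 := (sb E24877 F188216)
theorem F201795 : act 6 n44280 = n30937 := (sb E24877 F188217)
theorem F201796 : act 0 n23572 = n28829 := (sb E24878 F175481)
theorem F201797 : act 1 n23572 = n30924 := (sb E24878 F197101)
theorem F201798 : act 7 n23572 = n30369 := (sb E24878 F197104)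
theorem F201799 : act 0 n23558 = n30459 := (sb E24879 F197105)
theorem F201800 : act 1 n23558 = n30926 := (sb E24879 F184977)
theorem F201801 : act 7 n23558 = n30371 := (sb E24879 F184981)
theorem F201802 : act 4 n44284 = n30922 := (sb E24880 (iv D45106))
theorem F201803 : act 7 n44284 = n31108 := (sb E24880 F188162)
theorem F201804 : act 8 n44284 = n30930 := (sb E24880 F188163)
theorem F201805 : act 0 n22889 = n16171 := (sb E24881 F100713)
theorem F201806 : act 3 n22889 = n16146 := (sb E24881 (iv D23520))
theorem E26175 : n34299 = n33362 := (((D33362).symm.trans (sb E24881 D34299))).symm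
theorem F201807 : act 8 n44262 = n30935 := (sb E24882 (iv D45127))
theorem F201808 : act 1 n23559 = n30933 := (sb E24883 F185002)
theorem F201809 : act 7 n23559 = n30376 := (sb E24883 F185006)
theorem E26176 : n30632 = n14521 := (((D14521).symm.trans (sb E24884 (iv D44672)))).symm
theorem E26177 : n31104 = n30540 := (((D30540).symm.trans (sb E24885 (iv F131675)))).symm
theorem F201810 : act 7 n20968 = n16170 := (sb E24885 F100845)
theorem E26178 : n34347 = n30541 := (((D30541).symm.trans (sb E24885 D34347))).symm
theorem F201811 : act 8 n20971 = n30498 := (sb E24887 F185400)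
theorem F201812 : act 6 n44287 = n30922 := (sb E24888 F188153)
theorem F201813 : act 8 n44287 = n30927 := (sb E24888 F188154)
theorem F201814 : act 8 n44293 = n30919 := (sb E24889 (iv D45101))
theorem F201815 : act 6 n44294 = n30923 := (sb E24890 F188157)
theorem E26181 : n6867 = n3779 := (((iv F31427)).symm.trans (sb E24892 (iv D5464)))
theorem F201816 : act 0 n5433 = n6831 := (sb E24893 F44355)
theorem F201817 : act 9 n5433 = n6840 := (sb E24893 F44359)
theorem E26186 : n6858 = n3771 := (((iv F31382)).symm.trans (sb E24896 (iv D5455)))
theorem F201818 : act 1 n5420 = n6824 := (sb E24897 F44315)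
theorem E26187 : n14361 = n7143 := ((((iv F32537)).symm.trans (sb E24897 (iv F63068)))).symm
theorem F201819 : act 8 n5420 = n6831 := (sb E24897 F44318)
theorem E26193 : n15965 = n14493 := (((F90305).symm.trans (sb E24902 F98506))).symm
theorem F201820 : act 9 n20940 = n15774 := (sb E24902 (iv D22971))
theorem E26194 : n16360 = n14498 := ((((iv F63613)).symm.trans (sb E24903 (iv F71178)))).symm
theorem E26196 : n14459 = n7741 := (((iv F63459)).symm.trans (sb E24903 (iv D11247)))
theorem F201821 : act 0 n11122 = n14379 := (sb E24905 F90182)
theorem F201822 : act 7 n11122 = n15766 := (sb E24905 F197026)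
theorem F201823 : act 9 n11122 = n14398 := (sb E24905 F90186)
theorem E26205 : n33729 = n16255 := ((((iv F70794)).symm.trans (sb E24935 (iv F198286)))).symm
theorem F201824 : act 9 n11176 = n15933 := (sb E24935 (iv D23208))
theorem E26206 : n16255 = n16227 := ((((iv F198290)).symm.trans (sb E24912 (tr (iv F142229) E26205)))).symm
theorem E26207 : n34530 = n16313 := ((((iv F71008)).symm.trans (sb E24912 (iv F145253)))).symm
theorem E26208 : n16254 = n16228 := ((((iv F70682)).symm.trans (sb E24912 (iv D23680)))).symm
theorem F201825 : act 1 n11156 = n15933 := (sb E24913 F99380)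
theorem F201826 : act 8 n11156 = n15919 := (sb E24913 (iv D23183))
theorem E26209 : n34570 = n7800 := ((((iv F35358)).symm.trans (sb E24914 (iv F145381)))).symm
theorem E26210 : n16273 = n7769 := ((((iv F35214)).symm.trans (sb E24914 (iv D23709)))).symm
theorem F201827 : act 1 n11163 = n7706 := (sb E24915 F49658)
theorem F201828 : act 5 n11163 = n7700 := (sb E24915 F49659)
theorem F201829 : act 8 n11163 = n7698 := (sb E24915 (iv D11185))
theorem E26214 : n16261 = n14757 := (((F91769).symm.trans (sb E24917 F100515))).symm
theorem F201830 : act 0 n11176 = n15919 := (sb E24918 (iv F69478))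
theorem F201831 : act 1 n11176 = n7721 := (sb E24918 F49744)
theorem F201832 : act 5 n11176 = n16086 := (sb E24918 F197942)
theorem E26218 : n33730 = n16313 := ((((iv F71008)).symm.trans (sb E24920 D33730))).symm
theorem F201833 : act 5 n11215 = n15930 := (sb E24920 (iv F197502))
theorem E26219 : n15886 = n7719 := ((((iv D11215)).symm.trans (sb E24920 F99190))).symm
theorem F201834 : act 8 n11215 = n15885 := (sb E24920 (iv D23134))
theorem F201835 : act 1 n5323 = n7693 := (sb E24921 F48632)
theorem F201836 : act 8 n5323 = n7524 := (sb E24921 (iv D10924))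
theorem E26221 : n29804 = n3382 := (((F22601).symm.trans (sb E24923 F193429))).symm
theorem E26224 : n29803 = n6980 := ((((iv F31865)).symm.trans (sb E24923 F193430))).symm
theorem E26227 : n29692 = n3722 := ((((iv F17694)).symm.trans (sb E24926 F193203))).symm
theorem E26232 : n29706 = n7800 := ((((iv F35358)).symm.trans (sb E24931 (iv F193279)))).symm
theorem F201837 : act 8 n5327 = n7528 := (sb E24932 (iv D10931))
theorem E26235 : n33887 = n16249 := ((((iv F70775)).symm.trans (sb E24934 (iv F142856)))).symm
theorem E26236 : n15958 = n15917 := ((((iv F197508)).symm.trans (sb E24934 F99613))).symm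
theorem E26239 : n16353 = n15926 := ((((iv F197509)).symm.trans (sb E24936 F101781))).symm
theorem E26241 : n16348 = n15950 := (((F99165).symm.trans (sb E24936 (iv D23812)))).symm
theorem E26242 : n15867 = n7737 := (((iv F69268)).symm.trans (sb E24937 (iv D11241)))
theorem F201838 : act 8 n10968 = n7735 := (sb E24938 (iv D11238))
theorem F201839 : act 0 n5343 = n7528 := (sb E24939 F48591)
theorem F201840 : act 5 n5343 = n7562 := (sb E24939 F197138)
theorem F201841 : act 7 n5343 = n7561 := (sb E24939 F197139)
theorem F201842 : act 9 n5343 = n7547 := (sb E24939 F48595)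
theorem F201843 : act 2 n10945 = n7567 := (sb E24940 F48834)
theorem F201844 : act 9 n10945 = n7556 := (sb E24940 (iv D10974))
theorem F201845 : act 0 n11244 = n14471 := (sb E24941 F90692)
theorem E26243 : n30641 = n16357 := (((D16357).symm.trans (sb E24941 (iv F129924)))).symm
theorem F201846 : act 5 n11244 = n15766 := (sb E24941 F197031)
theorem F201847 : act 9 n11244 = n14500 := (sb E24941 F90696)
theorem F201848 : act 0 n5336 = n7524 := (sb E24943 F48577)
theorem F201849 : act 9 n5336 = n7543 := (sb E24943 F48579)
theorem F201850 : act 0 n2623 = n3591 := (sb E24944 F24170)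
theorem F201851 : act 9 n2623 = n3600 := (sb E24944 F24173)
theorem E26247 : n16350 = n15949 := ((((iv F69603)).symm.trans (sb E24946 D16350))).symm
theorem F201852 : act 4 n10967 = n7740 := (sb E24946 F49869)
theorem F201853 : act 8 n10967 = n7736 := (sb E24946 (iv D11239))
theorem F201854 : act 0 n5462 = n6874 := (sb E24947 F44594)
theorem F201855 : act 9 n5462 = n6887 := (sb E24947 F44599)
theorem E26250 : n16320 = n15882 := ((((iv D23128)).symm.trans (sb E24950 F101640))).symm
theorem E26251 : n34652 = n33720 := (((D33720).symm.trans (sb E24950 (iv F145696)))).symm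
theorem F201856 : act 1 n5454 = n6863 := (sb E24952 F44533)
theorem E26252 : n14446 = n7183 := ((((iv F32709)).symm.trans (sb E24952 (iv F63395)))).symm
theorem F201857 : act 8 n5454 = n6874 := (sb E24952 F44537)
theorem F201858 : act 8 n2614 = n3591 := (sb E24953 F24130)
theorem E26253 : n29795 = n6977 := (((F45196).symm.trans (sb E24954 F193396))).symm
theorem E26254 : n29794 = n14705 := ((((iv F64384)).symm.trans (sb E24954 (iv F193552)))).symm
theorem E26256 : n29707 = n16225 := ((((iv F70668)).symm.trans (sb E24956 (iv F193275)))).symm
theorem E26258 : n33903 = n30713 := ((((iv F130193)).symm.trans (sb E24957 (iv F142917)))).symm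
theorem E26259 : n33904 = n30717 := (((D30717).symm.trans (sb E24957 D33904))).symm
theorem F201859 : act 9 n21088 = n15962 := (sb E24957 (iv D23252))
theorem E26261 : n33834 = n16256 := (((D16256).symm.trans (sb E24959 (iv F142639)))).symm
theorem F201860 : act 9 n11173 = n15930 := (sb E24959 (iv D23203))
theorem E26264 : n33845 = n14758 := (((D14758).symm.trans (sb E25013 D33845))).symm
theorem F201861 : act 3 n10153 = n7693 := (sb E24962 (iv D11177))
theorem E26265 : n16263 = n14755 := ((((iv F64575)).symm.trans (sb E24962 D16263))).symm
theorem E26266 : n14758 = n14728 := ((D14758).symm.trans (sb E24962 (iv F64476)))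
theorem E26267 : n34216 = n31051 := (((D31051).symm.trans (sb E24963 D34216))).symm
theorem E26268 : n31053 = n31015 := ((D31053).symm.trans (sb E24963 (iv F131368)))
theorem F201862 : act 0 n21286 = n30496 := (sb E24964 (iv F129339))
theorem F201863 : act 8 n21286 = n14645 := (sb E24964 (iv D21316))
theorem E26269 : n31058 = n31016 := (((D31016).symm.trans (sb E24964 D31058))).symm
theorem F201864 : act 8 n21289 = n30513 := (sb E24965 (iv D44498))
theorem F201865 : act 0 n5434 = n6829 := (sb E24966 F44348)
theorem F201866 : act 9 n5434 = n6838 := (sb E24966 F44351)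
theorem E26271 : n31017 = n29253 := (((D29253).symm.trans (sb E24967 (iv F131375)))).symm
theorem F201867 : act 0 n21288 = n30494 := (sb E24968 (iv F129330))
theorem E26272 : n31054 = n31011 := ((((iv F131356)).symm.trans (sb E24968 D31054))).symm
theorem F201868 : act 8 n21288 = n14644 := (sb E24968 (iv D21314))
theorem E26273 : n31055 = n31018 := (((D31018).symm.trans (sb E24968 D31055))).symm
theorem F201869 : act 0 n21289 = n30498 := (sb E24969 (iv F129348))
theorem E26275 : n31202 = n30717 := (((D30717).symm.trans (sb E24970 (iv F131991)))).symm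
theorem F201870 : act 9 n30360 = n24033 := (sb E24974 (iv D35022))
theorem E26284 : n34723 = n30735 := (((D30735).symm.trans (sb E24979 D34723))).symm
theorem E26285 : n34551 = n30741 := (((D30741).symm.trans (sb E24980 (iv F145316)))).symm
theorem F201871 : act 8 n44493 = n31126 := (sb E24981 (iv D45415))
theorem E26287 : n31178 = n30741 := (((D30741).symm.trans (sb E24982 (iv D45485)))).symm
theorem F201872 : act 3 n23519 = n30509 := (sb E24983 (iv D44492))
theorem F201873 : act 7 n23519 = n30510 := (sb E24983 F185752)
theorem F201874 : act 0 n21396 = n15962 := (sb E24987 F99473)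
theorem F201875 : act 3 n21396 = n15933 := (sb E24987 (iv D23207))
theorem E26291 : n33841 = n31174 := ((((iv F131882)).symm.trans (sb E24987 D33841))).symm
theorem E26292 : n33728 = n16312 := ((((iv F71004)).symm.trans (sb E24988 D33728))).symm
theorem F201876 : act 4 n11214 = n15933 := (sb E24988 F197951)
theorem F201877 : act 7 n11214 = n15930 := (sb E24988 F197952)
theorem F201878 : act 8 n11214 = n15884 := (sb E24988 (iv D23133))
theorem F201879 : act 1 n21264 = n30512 := (sb E24989 F185686)
theorem E26293 : n33803 = n14705 := ((((iv F64384)).symm.trans (sb E24990 D33803))).symm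
theorem E26294 : n30718 = n14708 := (((D14708).symm.trans (sb E24990 (iv F130216)))).symm
theorem F201880 : act 1 n21266 = n30510 := (sb E24991 F185671)
theorem F201881 : act 3 n21266 = n30496 := (sb E24991 (iv D44469))
theorem F201882 : act 1 n21268 = n30513 := (sb E24992 F185689)
theorem F201883 : act 3 n21268 = n30498 := (sb E24992 F185690)
theorem F201884 : act 1 n11154 = n15930 := (sb E24993 F99365)
theorem E26295 : n33795 = n16225 := ((((iv F70668)).symm.trans (sb E24993 D33795))).symm
theorem F201885 : act 8 n11154 = n15917 := (sb E24993 (iv D23180))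
theorem E26297 : n15074 = n14384 := (((D14384).symm.trans (sb E24994 (iv F65871)))).symm
theorem E26298 : n14362 = n7144 := (((iv F63072)).symm.trans (sb E24995 (iv D10368)))
theorem E26300 : n34320 = n28830 := (((D28830).symm.trans (sb E24996 D34320))).symm
theorem E26301 : n31084 = n28831 := (((D28831).symm.trans (sb E24996 (iv F131601)))).symm
theorem E26302 : n31078 = n30463 := (((D30463).symm.trans (sb E24997 (iv F131577)))).symm
theorem E26309 : n34601 = n16250 := (((D16250).symm.trans (sb E25006 (iv F145516)))).symm
theorem F201886 : act 0 n11173 = n15917 := (sb E25007 (iv F69468))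
theorem E26310 : n16294 = n16256 := (((D16256).symm.trans (sb E25007 (iv F70944)))).symm
theorem E26312 : n34650 = n33719 := (((D33719).symm.trans (sb E25008 (iv F145687)))).symm
theorem E26314 : n34692 = n15951 := (((D15951).symm.trans (sb E25226 (iv F145855)))).symm
theorem E26316 : n16339 = n15957 := (((D15957).symm.trans (sb E25012 (iv F71113)))).symm
theorem F201887 : act 5 n10969 = n7736 := (sb E25012 F49864)
theorem F201888 : act 7 n10969 = n7735 := (sb E25012 (iv D11237))
theorem F201889 : act 0 n10973 = n14700 := (sb E25014 F90660)
theorem E26317 : n30629 = n15964 := (((D15964).symm.trans (sb E25014 (iv F129870)))).symm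
theorem F201890 : act 4 n21346 = n15774 := (sb E25015 (iv D22970))
theorem F201891 : act 6 n21346 = n15776 := (sb E25015 F98502)
theorem F201892 : act 0 n21875 = n30336 := (sb E25016 F196365)
theorem F201893 : act 2 n21875 = n15767 := (sb E25016 F97173)
theorem F201894 : act 8 n21875 = n15556 := (sb E25016 (iv D22641))
theorem E26320 : n32993 = n31880 := (((D31880).symm.trans (sb E25016 D32993))).symm
theorem F201895 : act 3 n22959 = n30933 := (sb E25017 F188208)
theorem F201896 : act 7 n22959 = n30935 := (sb E25017 F188211)
theorem F201897 : act 0 n22972 = n29196 := (sb E25018 F175456)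
theorem F201898 : act 3 n22972 = n30924 := (sb E25018 F197847)
theorem F201899 : act 7 n22972 = n30919 := (sb E25018 F197848)
theorem F201900 : act 9 n22972 = n28853 := (sb E25018 F175460)
theorem F201901 : act 5 n42404 = n30862 := (sb E25019 (iv D45015))
theorem F201902 : act 1 n45009 = n30901 := (sb E25020 F187943)
theorem F201903 : act 1 n45016 = n30902 := (sb E25021 F187945)
theorem E26331 : n34389 = n28860 := (((D28860).symm.trans (sb E25028 D34389))).symm
theorem F201904 : act 8 n44259 = n30937 := (sb E25030 (iv D45130))
theorem E26342 : n31832 = n30334 := (((D30334).symm.trans (sb E25036 (iv F134363)))).symm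
theorem E26344 : n30302 = n15010 := (((iv F128566)).symm.trans (sb E25038 F93775))
theorem F201905 : act 1 n10326 = n14310 := (sb E25039 F89762)
theorem F201906 : act 3 n10326 = n14321 := (sb E25039 F89763)
theorem E26345 : n30299 = n15006 := ((((iv F65559)).symm.trans (sb E25039 (iv F128553)))).symm
theorem F201907 : act 0 n41895 = n30936 := (sb E25041 F188062)
theorem F201908 : act 0 n44214 = n30930 := (sb E25042 F188036)
theorem F201909 : act 4 n44214 = n30901 := (sb E25042 (iv D45076))
theorem F201910 : act 0 n44215 = n30937 := (sb E25043 F188067)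
theorem F201911 : act 0 n21878 = n30337 := (sb E25045 F184677)
theorem E26347 : n34573 = n7799 := ((((iv F35353)).symm.trans (sb E25047 (iv F145395)))).symm
theorem E26348 : n16275 = n7768 := ((((iv F35209)).symm.trans (sb E25047 (iv D23711)))).symm
theorem F201912 : act 1 n11162 = n7707 := (sb E25048 F49661)
theorem F201913 : act 4 n11162 = n7703 := (sb E25048 F49662)
theorem F201914 : act 7 n11162 = n7700 := (sb E25048 F49664)
theorem F201915 : act 8 n11162 = n7699 := (sb E25048 (iv D11186))
theorem E26349 : n29684 = n7768 := (((F49572).symm.trans (sb E25049 F193180))).symm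
theorem E26350 : n29704 = n7799 := ((((iv F35353)).symm.trans (sb E25050 (iv F193278)))).symm
theorem E26353 : n15978 = n7806 := ((((iv F35381)).symm.trans (sb E25052 D15978))).symm
theorem F201916 : act 3 n5390 = n7563 := (sb E25052 (iv D10983))
theorem F201917 : act 6 n5390 = n7564 := (sb E25052 F48868)
theorem E26354 : n15979 = n7783 := ((((iv F35281)).symm.trans (sb E25052 D15979))).symm
theorem F201918 : act 5 n10984 = n7699 := (sb E25053 F49656)
theorem F201919 : act 7 n10984 = n7698 := (sb E25053 (iv D11184))
theorem F201920 : act 8 n10984 = n7684 := (sb E25053 (iv F201484))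
theorem E26356 : n15358 = n7930 := (((iv F67120)).symm.trans (sb E25055 (iv D11502)))
theorem F201921 : act 1 n10630 = n7959 := (sb E25056 F199754)
theorem F201922 : act 5 n10630 = n7815 := (sb E25056 (iv D11342))
theorem E26358 : n16723 = n14195 := ((((iv F62356)).symm.trans (sb E25057 F102670))).symm
theorem E26360 : n30134 = n16496 := ((D30134).symm.trans (sb E25058 (iv D24012)))
theorem E26362 : n14186 = n7938 := (((iv F195610)).symm.trans (sb E25059 F51035))
theorem E26363 : n15379 = n7937 := ((D15379).symm.trans (sb E25059 (iv D11511)))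
theorem E26364 : n16494 = n15452 := (((D15452).symm.trans (sb E25060 (iv F71771)))).symm
theorem F201923 : act 5 n10633 = n7821 := (sb E25060 (iv D11351))
theorem F201924 : act 0 n5484 = n6759 := (sb E25061 F43899)
theorem F201925 : act 9 n5484 = n6763 := (sb E25061 F43903)
theorem F201926 : act 0 n5491 = n7296 := (sb E25067 F47142)
theorem F201927 : act 3 n5491 = n7302 := (sb E25067 F195573)
theorem F201928 : act 5 n5491 = n7301 := (sb E25067 F195574)
theorem F201929 : act 9 n5491 = n7300 := (sb E25067 F47146)
theorem F201930 : act 6 n5490 = n7333 := (sb E25068 F47197)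
theorem F201931 : act 8 n5490 = n7301 := (sb E25068 (iv D10587))
theorem F201932 : act 1 n4931 = n6822 := (sb E25071 F44308)
theorem E26372 : n14360 = n7142 := (((D7142).symm.trans (sb E25071 D14360))).symm
theorem E26373 : n15844 = n3180 := ((((iv F15250)).symm.trans (sb E25073 D15844))).symm
theorem E26374 : n15842 = n3344 := (((D3344).symm.trans (sb E25073 (iv F69158)))).symm
theorem E26377 : n31523 = n3183 := (((D3183).symm.trans (sb E25074 (iv F193961)))).symm
theorem E26379 : n29757 = n3349 := (((D3349).symm.trans (sb E25075 (iv F193562)))).symm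
theorem E26390 : n33378 = n13837 := (((D13837).symm.trans (sb E25083 D33378))).symm
theorem E26391 : n30470 = n13838 := (((D13838).symm.trans (sb E25083 (iv F129258)))).symm
theorem E26392 : n15894 = n6630 := (((D6630).symm.trans (sb E25084 D15894))).symm
theorem E26393 : n14475 = n6631 := (((D6631).symm.trans (sb E25084 (iv F63525)))).symm
theorem E26394 : n28836 = n13839 := (((D13839).symm.trans (sb E25085 (iv F122439)))).symm
theorem E26396 : n15892 = n7000 := (((D7000).symm.trans (sb E25086 D15892))).symm
theorem E26397 : n14473 = n7002 := (((D7002).symm.trans (sb E25086 (iv F63517)))).symm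
theorem F201933 : act 1 n4834 = n6984 := (sb E25087 F44612)
theorem F201934 : act 3 n4834 = n6869 := (sb E25087 (iv D9964))
theorem E26398 : n14476 = n7004 := (((D7004).symm.trans (sb E25087 D14476))).symm
theorem F201935 : act 1 n10086 = n14628 := (sb E25088 F90246)
theorem F201936 : act 3 n10086 = n14382 := (sb E25088 F90247)
theorem E26401 : n31521 = n6637 := (((D6637).symm.trans (sb E25093 F194121))).symm
theorem E26404 : n28920 = n6640 := (((D6640).symm.trans (sb E25094 (iv F122757)))).symm
theorem E26406 : n28822 = n13853 := (((D13853).symm.trans (sb E25095 (iv D41984)))).symm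
theorem E26408 : n30648 = n7012 := (((D7012).symm.trans (sb E25097 (iv F129951)))).symm
theorem E26409 : n14460 = n7015 := (((D7015).symm.trans (sb E25098 (iv D21040)))).symm
theorem F201937 : act 0 n4843 = n6869 := (sb E25099 F44574)
theorem E26411 : n6866 = n3437 := (((F22611).symm.trans (sb E25099 F44575))).symm
theorem E26412 : n13682 = n7017 := (((D7017).symm.trans (sb E25099 (iv F60118)))).symm
theorem E26413 : n14462 = n7018 := (((D7018).symm.trans (sb E25099 D14462))).symm
theorem F201938 : act 0 n4941 = n6830 := (sb E25101 F44352)
theorem E26414 : n13641 = n7159 := (((D7159).symm.trans (sb E25101 (iv F59961)))).symm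
theorem E26415 : n14376 = n7160 := (((D7160).symm.trans (sb E25101 D14376))).symm
theorem F201939 : act 0 n10099 = n13644 := (sb E25102 F85560)
theorem E26416 : n28821 = n14677 := (((D14677).symm.trans (sb E25102 (iv F122375)))).symm
theorem E26417 : n28823 = n14678 := (((D14678).symm.trans (sb E25102 D28823))).symm
theorem F201940 : act 0 n10100 = n14382 := (sb E25103 F90193)
theorem F201941 : act 8 n10100 = n14401 := (sb E25103 F90196)
theorem E26419 : n30630 = n14523 := (((D14523).symm.trans (sb E25108 (iv F129875)))).symm
theorem E26420 : n30634 = n14524 := (((D14524).symm.trans (sb E25108 D30634))).symm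
theorem F201942 : act 0 n9997 = n13896 := (sb E25110 F85789)
theorem E26421 : n28910 = n14525 := (((D14525).symm.trans (sb E25110 (iv F122710)))).symm
theorem E26422 : n28912 = n14526 := (((D14526).symm.trans (sb E25110 D28912))).symm
theorem F201943 : act 8 n9998 = n14496 := (sb E25111 F90678)
theorem F201944 : act 0 n20972 = n29198 := (sb E25113 F175467)
theorem F201945 : act 0 n20973 = n29200 := (sb E25114 F175475)
theorem F201946 : act 8 n20973 = n28857 := (sb E25114 F175480)
theorem E26423 : n3831 = n3136 := ((((iv D4521)).symm.trans (sb E25115 F25339))).symm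
theorem E26424 : n7915 = n6530 := (((D6530).symm.trans (sb E25115 (iv F35843)))).symm
theorem E26426 : n6518 = n3782 := (((iv F29853)).symm.trans (sb E25115 (iv D5468)))
theorem E26427 : n7912 = n6883 := (((D6883).symm.trans (sb E25116 (iv F35833)))).symm
theorem E26429 : n6865 = n3780 := (((iv F31419)).symm.trans (sb E25116 (iv D5466)))
theorem F201947 : act 0 n2620 = n3285 := (sb E25118 F22221)
theorem F201948 : act 9 n2620 = n3291 := (sb E25118 F22224)
theorem E26431 : n8000 = n3138 := (((D3138).symm.trans (sb E25119 (iv F36238)))).symm
theorem E26436 : n16658 = n6537 := (((D6537).symm.trans (sb E25120 D16658))).symm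
theorem E26441 : n16655 = n6894 := (((D6894).symm.trans (sb E25123 D16655))).symm
theorem E26442 : n7901 = n6870 := ((((iv F31439)).symm.trans (sb E25123 (iv D11463)))).symm
theorem E26443 : n15165 = n6897 := (((D6897).symm.trans (sb E25124 (iv F66247)))).symm
theorem E26444 : n7185 = n6872 := (((D6872).symm.trans (sb E25125 (iv F32718)))).symm
theorem E26445 : n7188 = n6873 := ((((iv F31448)).symm.trans (sb E25126 (iv D10434)))).symm
theorem E26446 : n6857 = n3428 := (((iv F31376)).symm.trans (sb E25127 (iv D4960)))
theorem E26471 : n15970 = n13705 := (((D13705).symm.trans (sb E25145 (iv F69682)))).symm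
theorem F201949 : act 9 n9451 = n7559 := (sb E25145 (iv D10978))
theorem E26472 : n15967 = n14492 := (((D14492).symm.trans (sb E25146 (iv F69670)))).symm
theorem F201950 : act 9 n9978 = n7557 := (sb E25146 (iv D10976))
theorem E26473 : n16363 = n13707 := (((D13707).symm.trans (sb E25147 (iv F71185)))).symm
theorem E26474 : n16366 = n13708 := (((D13708).symm.trans (sb E25147 (iv F71196)))).symm
theorem E26475 : n16367 = n13709 := (((D13709).symm.trans (sb E25147 D16367))).symm
theorem E26476 : n13681 = n7745 := (((iv F60115)).symm.trans (sb E25147 (iv D11252)))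
theorem E26477 : n16368 = n13710 := (((D13710).symm.trans (sb E25148 D16368))).symm
theorem F201951 : act 0 n5339 = n6520 := (sb E25149 F42297)
theorem F201952 : act 9 n5339 = n6529 := (sb E25149 F42301)
theorem E26479 : n16355 = n14497 := (((D14497).symm.trans (sb E25150 (iv F71163)))).symm
theorem E26480 : n16364 = n14499 := (((D14499).symm.trans (sb E25150 D16364))).symm
theorem E26481 : n14458 = n7743 := (((iv F63455)).symm.trans (sb E25150 (iv D11249)))
theorem F201953 : act 0 n5337 = n6868 := (sb E25152 F44569)
theorem F201954 : act 9 n5337 = n6881 := (sb E25152 F44573)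
theorem E26483 : n34670 = n13717 := (((D13717).symm.trans (sb E25154 (iv F145771)))).symm
theorem E26484 : n34679 = n13718 := (((D13718).symm.trans (sb E25154 (iv F145808)))).symm
theorem E26485 : n34680 = n13719 := (((D13719).symm.trans (sb E25154 D34680))).symm
theorem E26486 : n16328 = n13688 := ((((iv F60152)).symm.trans (sb E25154 (iv D23787)))).symm
theorem E26487 : n34682 = n13720 := (((D13720).symm.trans (sb E25155 (iv F145820)))).symm
theorem E26488 : n34683 = n13721 := (((D13721).symm.trans (sb E25155 D34683))).symm
theorem E26489 : n16331 = n13689 := ((((iv F60156)).symm.trans (sb E25155 (iv D23790)))).symm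
theorem E26491 : n31358 = n13723 := (((D13723).symm.trans (sb E25156 (iv F132553)))).symm
theorem E26498 : n16322 = n14468 := ((((iv F63497)).symm.trans (sb E25161 (iv D23779)))).symm
theorem E26500 : n31355 = n14519 := (((D14519).symm.trans (sb E25162 (iv F132541)))).symm
theorem E26501 : n14774 = n14470 := (((D14470).symm.trans (sb E25163 (iv F64643)))).symm
theorem E26508 : n31136 = n28866 := (((D28866).symm.trans (sb E25169 (iv F131751)))).symm
theorem E26509 : n34392 = n28862 := ((((iv F122547)).symm.trans (sb E25170 (iv F144721)))).symm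
theorem E26518 : n14363 = n7146 := (((iv F63075)).symm.trans (sb E25175 F46226))
theorem E26519 : n31088 = n28835 := ((((iv F122436)).symm.trans (sb E25177 (iv D45356)))).symm
theorem E26520 : n29274 = n28837 := ((((iv F122444)).symm.trans (sb E25178 (iv F124248)))).symm
theorem E26522 : n3131 = n1849 := (((iv F15015)).symm.trans (sb E25179 (iv D2659)))
theorem F201955 : act 0 n1288 = n1586 := (sb E25180 (iv D2279))
theorem F201956 : act 9 n1288 = n1589 := (sb E25180 F11205)
theorem F201957 : act 0 n2619 = n3286 := (sb E25181 F22225)
theorem F201958 : act 9 n2619 = n3292 := (sb E25181 F22230)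
theorem F201959 : act 1 n1286 = n1584 := (sb E25185 (iv D2276))
theorem F201960 : act 8 n1286 = n1586 := (sb E25185 F11187)
theorem F201961 : act 1 n2612 = n3282 := (sb E25186 F22193)
theorem E26526 : n6856 = n3427 := ((((iv F16369)).symm.trans (sb E25186 (iv F31372)))).symm
theorem F201962 : act 8 n2612 = n3286 := (sb E25186 F22197)
theorem F201963 : act 1 n2374 = n3281 := (sb E25187 F22189)
theorem F201964 : act 1 n20013 = n29088 := (sb E25195 F175152)
theorem F201965 : act 4 n20013 = n28767 := (sb E25195 (iv D41900))
theorem F201966 : act 1 n5322 = n7691 := (sb E25197 F48623)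
theorem E26531 : n15887 = n7718 := (((D7718).symm.trans (sb E25197 D15887))).symm
theorem F201967 : act 8 n5322 = n7523 := (sb E25197 (iv D10922))
theorem F201968 : act 0 n10341 = n13616 := (sb E25201 F85375)
theorem E26533 : n28761 = n15032 := (((D15032).symm.trans (sb E25201 (iv F122109)))).symm
theorem E26534 : n28762 = n15033 := (((D15033).symm.trans (sb E25201 D28762))).symm
theorem F201969 : act 0 n10342 = n14322 := (sb E25202 F89832)
theorem F201970 : act 8 n10342 = n14335 := (sb E25202 F89836)
theorem F201971 : act 0 n20027 = n28767 := (sb E25203 F175081)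
theorem F201972 : act 0 n21235 = n28766 := (sb E25204 F175077)
theorem F201973 : act 0 n21236 = n28768 := (sb E25205 F175086)
theorem F201974 : act 8 n21236 = n28787 := (sb E25205 F175091)
theorem E26536 : n33686 = n7734 := (((D7734).symm.trans (sb E25206 (iv F142061)))).symm
theorem F201975 : act 0 n5334 = n7523 := (sb E25207 F48572)
theorem E26537 : n15866 = n7738 := (((D7738).symm.trans (sb E25207 D15866))).symm
theorem F201976 : act 9 n5334 = n7542 := (sb E25207 F48576)
theorem F201977 : act 0 n5436 = n6501 := (sb E25208 F42193)
theorem E26538 : n6500 = n3820 := (((F25207).symm.trans (sb E25208 (iv D9408)))).symm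
theorem E26539 : n13640 = n7875 := (((D7875).symm.trans (sb E25208 D13640))).symm
theorem F201978 : act 9 n5436 = n6507 := (sb E25208 F42197)
theorem F201979 : act 0 n11126 = n13643 := (sb E25209 F85556)
theorem E26540 : n28820 = n16188 := (((D16188).symm.trans (sb E25209 D28820))).symm
theorem F201980 : act 9 n11126 = n13656 := (sb E25209 F85559)
theorem F201981 : act 0 n5488 = n6489 := (sb E25210 F42108)
theorem E26541 : n13613 = n7945 := (((D7945).symm.trans (sb E25210 D13613))).symm
theorem F201982 : act 9 n5488 = n6493 := (sb E25210 F42114)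
theorem F201983 : act 0 n11361 = n13615 := (sb E25211 F85370)
theorem E26542 : n28760 = n16514 := (((D16514).symm.trans (sb E25211 D28760))).symm
theorem F201984 : act 9 n11361 = n13624 := (sb E25211 F85374)
theorem F201985 : act 0 n23389 = n28765 := (sb E25212 F175072)
theorem F201986 : act 9 n23389 = n28784 := (sb E25212 F175076)
theorem F201987 : act 1 n4932 = n6823 := (sb E25222 F44311)
theorem F201988 : act 3 n4932 = n6830 := (sb E25222 F44312)
theorem E26554 : n34323 = n28832 := (((D28832).symm.trans (sb E25223 D34323))).symm
theorem E26555 : n31087 = n28833 := (((D28833).symm.trans (sb E25223 (iv F131612)))).symm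
theorem E26556 : n29273 = n28834 := (((D28834).symm.trans (sb E25224 (iv F124244)))).symm
theorem E26557 : n16457 = n15959 := (((D15959).symm.trans (sb E25227 (iv F198906)))).symm
theorem E26560 : n15961 = n15916 := ((D15961).symm.trans (sb E25227 F99021))
theorem F201989 : act 2 n10944 = n7565 := (sb E25228 F48822)
theorem F201990 : act 9 n10944 = n7554 := (sb E25228 (iv D10971))
theorem F201991 : act 0 n10975 = n14699 := (sb E25229 F90655)
theorem E26561 : n28908 = n15966 := (((D15966).symm.trans (sb E25229 (iv F122699)))).symm
theorem F201992 : act 0 n10977 = n13895 := (sb E25230 F85783)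
theorem E26562 : n28909 = n15969 := (((D15969).symm.trans (sb E25230 D28909))).symm
theorem F201993 : act 0 n22975 = n29197 := (sb E25231 F175461)
theorem F201994 : act 9 n22975 = n28854 := (sb E25231 F175466)
theorem E26572 : n16696 = n14187 := ((((iv F62317)).symm.trans (sb E25236 (iv D24294)))).symm
theorem E26573 : n35380 = n14236 := (((D14236).symm.trans (sb E25237 (iv F148618)))).symm
theorem E26574 : n16693 = n14220 := (((D14220).symm.trans (sb E25238 (iv F72561)))).symm
theorem E26575 : n30084 = n16472 := (((iv F127686)).symm.trans (sb E25239 (iv D23978)))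
theorem E26577 : n14182 = n7923 := (((iv F62289)).symm.trans (sb E25240 (iv D11492)))
theorem F201995 : act 1 n5473 = n6756 := (sb E25241 F43879)
theorem E26578 : n14210 = n7922 := (((D7922).symm.trans (sb E25241 D14210))).symm
theorem F201996 : act 8 n5473 = n6759 := (sb E25241 F43882)
theorem F201997 : act 1 n11333 = n14212 := (sb E25242 F89174)
theorem F201998 : act 1 n10324 = n14308 := (sb E25244 F89754)
theorem F201999 : act 8 n5478 = n7296 := (sb E25245 F47125)
theorem E26583 : n7983 = n6481 := (((D6481).symm.trans (sb E25249 (iv F36159)))).symm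
theorem E26585 : n6476 = n3818 := (((iv F29671)).symm.trans (sb E25249 (iv D5516)))
theorem F202000 : act 0 n2649 = n3123 := (sb E25251 (iv D4502))
theorem F202001 : act 9 n2649 = n3126 := (sb E25251 F21102)
theorem F202002 : act 0 n2648 = n3246 := (sb E25252 (iv D4687))
theorem F202003 : act 9 n2648 = n3249 := (sb E25252 F21971)
theorem F202004 : act 1 n2642 = n3244 := (sb E25264 (iv D4684))
theorem F202005 : act 8 n2642 = n3246 := (sb E25264 F21955)
theorem E26594 : n7503 = n1650 := ((((iv F8294)).symm.trans (sb E25269 (iv F34149)))).symm
theorem E26598 : n14036 = n3719 := ((((iv F17680)).symm.trans (sb E25273 (iv F193091)))).symm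
theorem E26600 : n14079 = n1627 := (((F11386).symm.trans (sb E25274 F193193))).symm
theorem E26605 : n17260 = n16828 := (((D16828).symm.trans (sb E25280 D17260))).symm
theorem F202006 : act 5 n11587 = n14215 := (sb E25280 (iv F195521))
theorem F202007 : act 7 n11587 = n14185 := (sb E25280 F195494)
theorem E26627 : n29761 = n1631 := (((F11399).symm.trans (sb E25297 F193405))).symm
theorem F202008 : act 1 n11392 = n14257 := (sb E25313 F89456)
theorem E26644 : n11572 = n9835 := ((((iv D14278)).symm.trans (sb E25317 F72182))).symm
theorem E26645 : n24164 = n20769 := (((D20769).symm.trans (sb E25317 D24164))).symm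
theorem F202009 : act 9 n14278 = n11419 := (sb E25317 (iv D16598))
theorem E26646 : n24166 = n19752 := ((((iv F85288)).symm.trans (sb E25318 (iv F103221)))).symm
theorem E26647 : n24167 = n20773 := (((D20773).symm.trans (sb E25318 D24167))).symm
theorem E26648 : n20743 = n11420 := (((iv F89508)).symm.trans (sb E25318 (iv D16600)))
theorem E26649 : n11574 = n9379 := ((((iv F42070)).symm.trans (sb E25319 (iv F51305)))).symm
theorem E26650 : n11575 = n9837 := (((D9837).symm.trans (sb E25319 D11575))).symm
theorem E26651 : n9824 = n5513 := (((iv F44039)).symm.trans (sb E25319 (iv D7981)))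
theorem E26652 : n24149 = n20776 := (((D20776).symm.trans (sb E25320 (iv F103168)))).symm
theorem F202010 : act 0 n7868 = n9827 := (sb E25321 F62656)
theorem E26653 : n20745 = n11414 := ((((iv F50636)).symm.trans (sb E25321 D20745))).symm
theorem F202011 : act 9 n7868 = n9836 := (sb E25321 F62659)
theorem F202012 : act 0 n3817 = n4688 := (sb E25322 F31046)
theorem F202013 : act 9 n3817 = n4692 := (sb E25322 F31050)
theorem E26658 : n11555 = n9826 := ((((iv F44048)).symm.trans (sb E25325 (iv D16787)))).symm
theorem F202014 : act 0 n14265 = n11419 := (sb E25327 F72067)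
theorem E26660 : n24105 = n20750 := (((D20750).symm.trans (sb E25327 (iv F103019)))).symm
theorem E26663 : n24106 = n20754 := (((D20754).symm.trans (sb E25330 (iv F103021)))).symm
theorem E26666 : n24419 = n9844 := (((D9844).symm.trans (sb E25332 (iv F104291)))).symm
theorem E26667 : n11553 = n9828 := (((D9828).symm.trans (sb E25333 (iv F51227)))).symm
theorem E26668 : n24107 = n20757 := ((((iv F89560)).symm.trans (sb E25334 (iv D35127)))).symm
theorem E26669 : n20732 = n11393 := (((iv F89461)).symm.trans (sb E25335 (iv D16560)))
theorem F202015 : act 1 n3810 = n4685 := (sb E25336 F31026)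
theorem E26670 : n9818 = n5504 := (((D5504).symm.trans (sb E25336 D9818))).symm
theorem F202016 : act 8 n3810 = n4688 := (sb E25336 F31029)
theorem F202017 : act 1 n7849 = n9820 := (sb E25337 F62617)
theorem E26671 : n20730 = n10363 := ((((iv F46194)).symm.trans (sb E25337 D20730))).symm
theorem E26683 : n29662 = n3711 := ((((iv F17637)).symm.trans (sb E25353 F198008))).symm
theorem F202018 : act 0 n5524 = n3915 := (sb E25354 F26190)
theorem E26685 : n17269 = n16829 := (((D16829).symm.trans (sb E25355 D17269))).symm
theorem F202020 : act 5 n11588 = n15413 := (sb E25355 (iv F195484))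
theorem F202021 : act 7 n11588 = n15355 := (sb E25355 F195472)
theorem E26686 : n14076 = n3362 := (((F22523).symm.trans (sb E25358 (iv D20471)))).symm
theorem E26687 : n14027 = n3702 := ((((iv F17595)).symm.trans (sb E25360 (iv D20397)))).symm
theorem E26688 : n29753 = n6986 := ((((iv F31883)).symm.trans (sb E25361 (iv D43375)))).symm
theorem E26689 : n14056 = n3366 := ((((iv F16092)).symm.trans (sb E25362 (iv D20441)))).symm
theorem E26691 : n14021 = n3706 := ((((iv F17616)).symm.trans (sb E25364 F87894))).symm
theorem F202022 : act 2 n6223 = n7294 := (sb E25374 F47132)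
theorem F202023 : act 8 n6223 = n7298 := (sb E25374 F47135)
theorem E26703 : n22648 = n11412 := ((((iv F50627)).symm.trans (sb E25383 D22648))).symm
theorem F202024 : act 6 n7866 = n10705 := (sb E25383 F67991)
theorem F202025 : act 8 n7866 = n10704 := (sb E25383 (iv D15560))
theorem F202026 : act 9 n7374 = n5520 := (sb E25384 (iv D7989))
theorem E26705 : n23976 = n22629 := (((D22629).symm.trans (sb E25385 (iv F102490)))).symm
theorem F202027 : act 4 n15548 = n11336 := (sb E25385 F71681)
theorem F202028 : act 6 n15548 = n11394 := (sb E25385 F71682)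
theorem F202029 : act 7 n15548 = n11334 := (sb E25385 (iv D16474))
theorem F202030 : act 1 n7376 = n5524 := (sb E25386 F36186)
theorem F202031 : act 0 n7365 = n5520 := (sb E25389 F36128)
theorem E26707 : n22650 = n21863 := ((D22650).symm.trans (sb E25390 (iv F93840)))
theorem F202032 : act 7 n15561 = n11349 := (sb E25390 (iv D16495))
theorem E26709 : n14060 = n788 := (((D788).symm.trans (sb E25396 F88205))).symm
theorem E26711 : n14058 = n1629 := ((((iv F8194)).symm.trans (sb E25398 F88196))).symm
theorem F202033 : act 8 n576 = n500 := (sb E25479 (iv D725))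
theorem E26783 : n2133 = n1693 := ((((iv F8516)).symm.trans (sb E25487 (iv F10458)))).symm
theorem F202034 : act 8 n1179 = n1034 := (sb E25487 (iv D1485))
theorem F202035 : act 2 n1484 = n1695 := (sb E25490 F11940)
theorem E26784 : n29627 = n8782 := ((((iv F39357)).symm.trans (sb E25519 F193033))).symm
theorem E26785 : n29613 = n8791 := (((D8791).symm.trans (sb E25519 F193034))).symm
theorem F202036 : act 3 n6061 = n7707 := (sb E25492 (iv D11196))
theorem F202037 : act 7 n6061 = n7708 := (sb E25492 F49707)
theorem E26787 : n8791 = n7791 := ((D8791).symm.trans (sb E25492 F49708))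
theorem E26788 : n29636 = n8827 := ((((iv F39572)).symm.trans (sb E25493 (iv F193123)))).symm
theorem E26789 : n16284 = n8783 := ((((iv F39365)).symm.trans (sb E25493 (iv D23723)))).symm
theorem F202038 : act 3 n6062 = n7706 := (sb E25494 (iv D11194))
theorem F202039 : act 5 n6062 = n7708 := (sb E25494 F49697)
theorem E26790 : n8792 = n7790 := ((D8792).symm.trans (sb E25494 F49699))
theorem E26793 : n29672 = n7776 := ((((iv F35245)).symm.trans (sb E25497 (iv F198326)))).symm
theorem F202040 : act 3 n5374 = n7572 := (sb E25498 F48918)
theorem F202041 : act 6 n5374 = n7573 := (sb E25498 F48920)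
theorem E26795 : n29613 = n7791 := (E26785).trans E26787
theorem E26796 : n29639 = n8827 := ((((iv F39572)).symm.trans (sb E25500 (iv F193128)))).symm
theorem E26797 : n29633 = n4212 := (((F27909).symm.trans (sb E25500 F193053))).symm
theorem E26807 : n29635 = n8824 := ((((iv F39557)).symm.trans (sb E25512 (iv F198422)))).symm
theorem E26808 : n29626 = n8830 := (((D8830).symm.trans (sb E25512 (iv F198426)))).symm
theorem E26809 : n29638 = n8826 := ((((iv F39567)).symm.trans (sb E25513 (iv F193124)))).symm
theorem E26810 : n34580 = n8773 := ((((iv F39309)).symm.trans (sb E25514 D34580))).symm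
theorem E26814 : n29702 = n16277 := (((D16277).symm.trans (sb E25517 (iv F198330)))).symm
theorem F202042 : act 2 n6090 = n7708 := (sb E25518 (iv D11198))
theorem E26817 : n8830 = n7792 := ((D8830).symm.trans (sb E25518 F49717))
theorem E26818 : n29626 = n7792 := (E26808).trans E26817
theorem F202043 : act 0 n11187 = n7783 := (sb E25521 F50030)
theorem E26819 : n16390 = n16277 := (((D16277).symm.trans (sb E25521 (iv F71304)))).symm
theorem F202044 : act 9 n11187 = n7801 := (sb E25521 F50034)
theorem E26821 : n14034 = n7762 := ((((iv F35175)).symm.trans (sb E25523 F87969))).symm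
theorem E26823 : n29673 = n7773 := ((((iv F35234)).symm.trans (sb E25524 D29673))).symm
theorem E26824 : n29671 = n7775 := (((D7775).symm.trans (sb E25524 (iv F125903)))).symm
theorem E26825 : n14018 = n7777 := (((D7777).symm.trans (sb E25524 (iv D20384)))).symm
theorem E26836 : n14878 = n6614 := (((D6614).symm.trans (sb E25537 (iv D21667)))).symm
theorem E26839 : n14073 = n6976 := (((D6976).symm.trans (sb E25540 (iv D20467)))).symm
theorem E26842 : n14877 = n13897 := (((D13897).symm.trans (sb E25543 (iv D21665)))).symm
theorem E26847 : n14704 = n14088 := ((D14704).symm.trans (sb E25546 F88293))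
theorem E26848 : n29785 = n14706 := (((D14706).symm.trans (sb E25546 (iv F126394)))).symm
theorem E26850 : n14035 = n7761 := (((F49533).symm.trans (sb E25549 (iv D20409)))).symm
theorem E26859 : n14054 = n3365 := (((F22533).symm.trans (sb E25554 (iv D20438)))).symm
theorem E26860 : n29748 = n6987 := (((D6987).symm.trans (sb E25554 (iv F126237)))).symm
theorem E26862 : n14864 = n13907 := (((D13907).symm.trans (sb E25558 F92878))).symm
theorem E26869 : n33848 = n14730 := (((D14730).symm.trans (sb E25566 (iv F142693)))).symm
theorem E26870 : n33845 = n14728 := (E26264).trans E26266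
theorem E26871 : n30747 = n14731 := (((D14731).symm.trans (sb E25566 (iv F130333)))).symm
theorem E26872 : n33852 = n13934 := (((D13934).symm.trans (sb E25581 D33852))).symm
theorem E26874 : n30750 = n13935 := (((D13935).symm.trans (sb E25581 (iv F130345)))).symm
theorem E26875 : n14733 = n13935 := (((iv F64491)).symm.trans (sb E25569 (tr (iv F130343) E26874)))
theorem F202045 : act 8 n10136 = n14505 := (sb E25569 (iv D21109))
theorem E26876 : n13934 = n13914 := ((D13934).symm.trans (sb E25570 (iv F61104)))
theorem F202046 : act 4 n9604 = n6984 := (sb E25570 (iv D10135))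
theorem E26877 : n14732 = n13933 := ((((iv F61175)).symm.trans (sb E25570 D14732))).symm
theorem E26878 : n29260 = n29230 := (((iv F124195)).symm.trans (sb E25572 (iv F124088)))
theorem F202047 : act 4 n20109 = n14628 := (sb E25572 F91683)
theorem E26880 : n29349 = n7774 := (((D7774).symm.trans (sb E25574 (iv F124543)))).symm
theorem E26882 : n33839 = n16259 := (((D16259).symm.trans (sb E25577 (iv F142660)))).symm
theorem F202048 : act 9 n11174 = n15931 := (sb E25577 (iv D23206))
theorem E26884 : n16259 = n14754 := (((D14754).symm.trans (sb E25578 (tr (iv F142659) E26882)))).symm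
theorem E26886 : n14756 = n14730 := ((D14756).symm.trans (sb E25578 (tr D33848 E26869)))
theorem F202049 : act 0 n10133 = n14494 := (sb E25579 (iv F63594))
theorem F202050 : act 8 n10133 = n6998 := (sb E25579 (iv D10154))
theorem E26887 : n14760 = n14731 := (((D14731).symm.trans (sb E25579 D14760))).symm
theorem F202051 : act 0 n10136 = n14496 := (sb E25583 (iv F63603))
theorem F202052 : act 0 n20088 = n28856 := (sb E25584 (iv F122521))
theorem E26890 : n29258 = n29179 := ((((iv F123886)).symm.trans (sb E25584 D29258))).symm
theorem F202053 : act 3 n20088 = n13835 := (sb E25584 (iv D20108))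
theorem E26891 : n29256 = n29229 := (((D29229).symm.trans (sb E25584 (iv F124181)))).symm
theorem E26897 : n30725 = n13899 := (((D13899).symm.trans (sb E25589 (iv F130249)))).symm
theorem E26898 : n28971 = n13900 := (((D13900).symm.trans (sb E25590 (iv F122998)))).symm
theorem F202054 : act 1 n20074 = n28865 := (sb E25591 F175726)
theorem F202055 : act 4 n20074 = n28856 := (sb E25591 (iv D42035))
theorem E26901 : n30721 = n14706 := (((D14706).symm.trans (sb E25593 (iv F130230)))).symm
theorem F202056 : act 1 n10120 = n14502 := (sb E25594 F90895)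
theorem F202057 : act 3 n10120 = n14494 := (sb E25594 (iv D21090))
theorem E26902 : n30722 = n14710 := (((D14710).symm.trans (sb E25594 D30722))).symm
theorem F202058 : act 1 n10122 = n14505 := (sb E25595 F90914)
theorem F202059 : act 3 n10122 = n14496 := (sb E25595 F90915)
theorem F202060 : act 1 n11153 = n15931 := (sb E25596 F99370)
theorem E26904 : n33790 = n16226 := (((D16226).symm.trans (sb E25596 (iv F142463)))).symm
theorem E26919 : n16295 = n16251 := (((D16251).symm.trans (sb E25611 (iv D23735)))).symm
theorem F202061 : act 0 n11174 = n15916 := (sb E25612 (iv F69464))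
theorem E26921 : n16293 = n16258 := (((D16258).symm.trans (sb E25612 D16293))).symm
theorem F202062 : act 1 n42380 = n29115 := (sb E25616 F177268)
theorem F202063 : act 3 n42380 = n29107 := (sb E25616 (iv D42407))
theorem F202064 : act 1 n42381 = n29118 := (sb E25619 F177286)
theorem F202065 : act 3 n42381 = n29109 := (sb E25619 F177287)
theorem F202066 : act 8 n41928 = n30940 := (sb E25626 (iv D45133))
theorem F202067 : act 1 n10328 = n14311 := (sb E25636 F89766)
theorem F202068 : act 3 n10328 = n14322 := (sb E25636 F89767)
theorem F202069 : act 0 n41897 = n30939 := (sb E25637 F188076)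
theorem F202070 : act 0 n41898 = n29138 := (sb E25638 F177342)
theorem F202071 : act 0 n41899 = n30940 := (sb E25639 F188080)
theorem F202072 : act 0 n41901 = n29139 := (sb E25640 F177347)
theorem F202073 : act 4 n41901 = n29118 := (sb E25640 F177350)
theorem E26945 : n7053 = n1550 := (((F10840).symm.trans (sb E25643 (iv D10240)))).symm
theorem E26947 : n6692 = n1619 := (((D1619).symm.trans (sb E25645 (iv D9699)))).symm
theorem E26948 : n6691 = n3360 := ((((iv F16065)).symm.trans (sb E25646 (iv D9697)))).symm
theorem E26956 : n7039 = n1551 := (((D1551).symm.trans (sb E25654 (iv D10219)))).symm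
theorem E26958 : n6683 = n1620 := (((D1620).symm.trans (sb E25657 (iv D9685)))).symm
theorem E26959 : n6686 = n3363 := ((((iv F16080)).symm.trans (sb E25658 F43379))).symm
theorem E26960 : n6682 = n3367 := (((D3367).symm.trans (sb E25658 (iv D9684)))).symm
theorem E26970 : n7035 = n1552 := (((D1552).symm.trans (sb E25665 (iv D10210)))).symm
theorem E26971 : n7760 = n1548 := ((((iv F7797)).symm.trans (sb E25665 F45531))).symm
theorem E26977 : n31482 = n6624 := (((D6624).symm.trans (sb E25670 (iv F132982)))).symm
theorem E26988 : n6673 = n3699 := ((((iv F17579)).symm.trans (sb E25682 F43293))).symm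
theorem E26992 : n6666 = n3707 := (((D3707).symm.trans (sb E25684 (iv D9660)))).symm
theorem E27014 : n7757 = n6677 := (((iv F35149)).symm.trans (sb E25705 F43308))
theorem E27015 : n7763 = n6671 := ((D7763).symm.trans (sb E25705 (iv D9669)))
theorem E27016 : n13873 = n7778 := (((D7778).symm.trans (sb E25707 (iv F60922)))).symm
theorem E27017 : n29337 = n7787 := (((D7787).symm.trans (sb E25709 (iv F124482)))).symm
theorem F202074 : act 0 n11189 = n15980 := (sb E25710 F99556)
theorem E27018 : n29712 = n16279 := (((D16279).symm.trans (sb E25710 (iv F198946)))).symm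
theorem F202075 : act 9 n11189 = n15946 := (sb E25710 (iv D23226))
theorem F202076 : act 0 n5486 = n6468 := (sb E25711 (iv D9360))
theorem E27019 : n13567 = n7943 := (((D7943).symm.trans (sb E25711 D13567))).symm
theorem E27020 : n13555 = n7941 := ((((iv F35973)).symm.trans (sb E25711 (iv F59571)))).symm
theorem F202077 : act 9 n5486 = n6471 := (sb E25711 F41981)
theorem F202078 : act 0 n5485 = n6745 := (sb E25712 (iv D9774))
theorem F202079 : act 9 n5485 = n6748 := (sb E25712 F43797)
theorem E27021 : n29634 = n7793 := (((D7793).symm.trans (sb E25713 (iv F199008)))).symm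
theorem E27022 : n16279 = n8823 := (((D8823).symm.trans (sb E25714 (tr (iv F198947) E27018)))).symm
theorem E27023 : n8825 = n7793 := ((D8825).symm.trans (sb E25714 (tr (iv F199009) E27021)))
theorem F202080 : act 8 n5378 = n4210 := (sb E25715 (iv D6091))
theorem E27031 : n34863 = n8774 := (((D8774).symm.trans (sb E25723 (iv F199003)))).symm
theorem F202081 : act 1 n5474 = n6743 := (sb E25733 (iv D9771))
theorem F202082 : act 8 n5474 = n6745 := (sb E25733 F43778)
theorem E27041 : n14002 = n4184 := ((((iv F19611)).symm.trans (sb E25738 F87749))).symm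
theorem E27058 : n1042 = n907 := (((D907).symm.trans (sb E25763 F7488))).symm
theorem F202083 : act 1 n722 = n909 := (sb E25765 F6665)
theorem E27060 : n1873 = n1041 := ((((iv F5353)).symm.trans (sb E25765 (iv F9343)))).symm
theorem F202084 : act 8 n1306 = n1038 := (sb E25766 (iv D1491))
theorem E27062 : n503 = n442 := (((D442).symm.trans (sb E25767 F3820))).symm
theorem F202085 : act 1 n345 = n443 := (sb E25768 F3426)
theorem F202086 : act 9 n637 = n499 := (sb E25769 (iv D723))
theorem E27074 : n4377 = n3484 := ((((iv F16649)).symm.trans (sb E25784 (iv F20472)))).symm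
theorem F202087 : act 8 n2416 = n2110 := (sb E25784 (iv D3036))
theorem F202088 : act 8 n2424 = n2109 := (sb E25787 (iv D3035))
theorem F202089 : act 2 n3034 = n3487 := (sb E25790 F23470)
theorem E27080 : n7285 = n4376 := (((D4376).symm.trans (sb E25790 (iv F33182)))).symm
theorem E27081 : n6658 = n2005 := (((D2005).symm.trans (sb E25792 F43183))).symm
theorem E27083 : n6662 = n4181 := ((((iv F19595)).symm.trans (sb E25793 F43196))).symm
theorem E27084 : n6657 = n4185 := (((D4185).symm.trans (sb E25793 (iv D9647)))).symm
theorem E27085 : n6654 = n2010 := (((D2010).symm.trans (sb E25795 (iv D9641)))).symm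
theorem F202090 : act 1 n1479 = n1853 := (sb E25805 F12949)
theorem E27089 : n3835 = n2123 := ((((iv F10408)).symm.trans (sb E25805 (iv F18215)))).symm
theorem E27090 : n2126 = n1851 := ((D2126).symm.trans (sb E25805 (iv D2661)))
theorem E27092 : n4394 = n3840 := ((((iv F18241)).symm.trans (sb E25806 (iv F20559)))).symm
theorem F202091 : act 8 n2664 = n2118 := (sb E25806 (iv D3047))
theorem F202092 : act 1 n1478 = n1863 := (sb E25810 F13021)
theorem E27095 : n3857 = n2124 := (((D2124).symm.trans (sb E25810 (iv F18328)))).symm
theorem E27096 : n2125 = n1860 := ((D2125).symm.trans (sb E25810 (iv D2675)))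
theorem F202093 : act 9 n1295 = n1031 := (sb E25811 (iv D1480))
theorem E27099 : n8818 = n8802 := (((D8802).symm.trans (sb E25815 F55594))).symm
theorem F202094 : act 3 n6078 = n4204 := (sb E25817 (iv D6083))
theorem F202095 : act 5 n6078 = n4206 := (sb E25817 F27863)
theorem E27101 : n8820 = n8801 := (((D8801).symm.trans (sb E25819 F55605))).symm
theorem F202096 : act 3 n6077 = n4205 := (sb E25820 (iv D6084))
theorem F202097 : act 7 n6077 = n4206 := (sb E25820 F27868)
theorem F202098 : act 8 n6085 = n4215 := (sb E25829 (iv D6097))
theorem E27105 : n8774 = n6660 := ((D8774).symm.trans (sb E25839 (iv D9651)))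
theorem F202099 : act 9 n28858 = n23572 := (sb E25841 (iv D34379))
theorem F202100 : act 7 n28732 = n24033 := (sb E25843 F147198)
theorem F202101 : act 0 n16602 = n20925 := (sb E25844 F196639)
theorem F202102 : act 2 n16602 = n20960 := (sb E25844 F128358)
theorem F202103 : act 3 n16602 = n20778 := (sb E25844 F128359)
theorem E27106 : n44104 = n24168 := (((D24168).symm.trans (sb E25844 D44104))).symm
theorem F202104 : act 6 n16602 = n20777 := (sb E25844 (iv D30251))
theorem E27107 : n20910 = n11424 := (((F72193).symm.trans (sb E25844 (iv F197027)))).symm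
theorem E27108 : n44106 = n21986 := ((((iv F94350)).symm.trans (sb E25844 D44106))).symm
theorem F202105 : act 9 n16602 = n20954 := (sb E25844 (iv F197047))
theorem F202106 : act 4 n30252 = n21875 := (sb E25845 (iv D31879))
theorem F202107 : act 7 n30252 = n21877 := (sb E25845 F134568)
theorem E27109 : n44513 = n23821 := ((D44513).symm.trans (sb E25846 F144690))
theorem E27110 : n44391 = n23577 := (((iv F197861)).symm.trans (sb E25846 F144691))
theorem E27111 : n45413 = n44515 := (((D44515).symm.trans (sb E25846 (iv F189162)))).symm
theorem F202108 : act 0 n16183 = n20916 := (sb E25847 F129160)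
theorem F202109 : act 1 n16183 = n21346 := (sb E25847 (iv F197849))
theorem F202110 : act 3 n16183 = n20963 := (sb E25847 F197388)
theorem F202111 : act 7 n16183 = n20960 := (sb E25847 F197389)
theorem E27112 : n44393 = n21360 := ((((iv F91912)).symm.trans (sb E25847 D44393))).symm
theorem F202112 : act 9 n16183 = n20945 := (sb E25847 F129163)
theorem E27113 : n45396 = n44517 := (((D44517).symm.trans (sb E25848 (iv F189127)))).symm
theorem F202113 : act 4 n30527 = n21358 := (sb E25848 (iv D31125))
theorem E27114 : n45414 = n44518 := (((D44518).symm.trans (sb E25848 D45414))).symm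
theorem F202114 : act 0 n44415 = n31108 := (sb E25850 F188916)
theorem F202115 : act 4 n44415 = n31070 := (sb E25850 (iv D45329))
theorem E27122 : n29677 = n3725 := ((((iv F17706)).symm.trans (sb E25856 (iv F197553)))).symm
theorem E27124 : n33889 = n16338 := (((iv F142864)).symm.trans (sb E25861 F100836))
theorem E27125 : n33902 = n31101 := ((D33902).symm.trans (sb E25861 (iv F131668)))
theorem F202116 : act 5 n21131 = n16170 := (sb E25862 F100842)
theorem E27127 : n34345 = n30787 := (((D30787).symm.trans (sb E25862 D34345))).symm
theorem F202117 : act 3 n44520 = n30926 := (sb E25866 (iv D45112))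
theorem F202118 : act 6 n44520 = n31114 := (sb E25866 F188177)
theorem F202119 : act 7 n44520 = n30927 := (sb E25866 F188178)
theorem F202120 : act 4 n44466 = n30982 := (sb E25869 (iv D45198))
theorem E27130 : n34476 = n33894 := ((((iv F142882)).symm.trans (sb E25871 (iv F145045)))).symm
theorem E27131 : n34486 = n33906 := ((((iv F142929)).symm.trans (sb E25871 D34486))).symm
theorem E27132 : n33907 = n31204 := ((D33907).symm.trans (sb E25871 (iv F132000)))
theorem E27133 : n31204 = n30714 := ((((iv F130198)).symm.trans (sb E25878 (tr (iv F142932) E27132)))).symm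
theorem F202121 : act 8 n44470 = n30541 := (sb E25874 (iv D44541))
theorem F202122 : act 8 n44467 = n30543 := (sb E25875 (iv D44544))
theorem F202123 : act 3 n44470 = n30986 := (sb E25876 F188501)
theorem E27136 : n33907 = n30714 := (E27132).trans E27133
theorem E27137 : n34554 = n30743 := (((D30743).symm.trans (sb E25915 (iv F145324)))).symm
theorem E27138 : n31251 = n30744 := (((D30744).symm.trans (sb E25915 (iv F132165)))).symm
theorem E27139 : n31180 = n30744 := (((E27138).symm.trans (((iv F132163)).symm.trans (sb E25880 F189425)))).symm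
theorem E27140 : n31175 = n30743 := (((D30743).symm.trans (sb E25881 (iv F131887)))).symm
theorem F202124 : act 8 n21103 = n14700 := (sb E25881 (iv D21397))
theorem F202125 : act 8 n44495 = n31016 := (sb E25882 (iv D45249))
theorem F202126 : act 8 n44497 = n31018 := (sb E25883 (iv D45252))
theorem F202127 : act 1 n44494 = n30981 := (sb E25884 F188392)
theorem F202128 : act 7 n44494 = n31069 := (sb E25884 F198690)
theorem F202129 : act 8 n44494 = n30968 := (sb E25884 (iv D45173))
theorem F202130 : act 1 n44495 = n30986 := (sb E25885 F188409)
theorem F202131 : act 1 n44497 = n30983 := (sb E25886 F188397)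
theorem F202132 : act 8 n30366 = n21878 := (sb E25888 (iv D31883))
theorem F202133 : act 0 n16505 = n20678 := (sb E25889 F127733)
theorem F202134 : act 2 n16505 = n20701 := (sb E25889 F196127)
theorem E27141 : n41732 = n24028 := (((D24028).symm.trans (sb E25889 (iv F174448)))).symm
theorem F202135 : act 6 n16505 = n20696 := (sb E25889 F196128)
theorem E27142 : n43872 = n24015 := ((((iv F102657)).symm.trans (sb E25889 D43872))).symm
theorem F202136 : act 9 n16505 = n20691 := (sb E25889 F127737)
theorem E27143 : n41730 = n24344 := (((iv F195989)).symm.trans (sb E25890 F147177))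
theorem E27144 : n41792 = n24162 := (((iv F196430)).symm.trans (sb E25890 F147178))
theorem F202137 : act 0 n16597 = n20748 := (sb E25891 (iv F196385))
theorem F202138 : act 1 n16597 = n20707 := (sb E25891 F127906)
theorem F202139 : act 3 n16597 = n20864 := (sb E25891 F127907)
theorem F202140 : act 6 n16597 = n20787 := (sb E25891 F127909)
theorem F202141 : act 7 n16597 = n20701 := (sb E25891 (iv D30139))
theorem E27145 : n43938 = n24145 := ((((iv F103156)).symm.trans (sb E25891 D43938))).symm
theorem F202143 : act 2 n30384 = n23558 := (sb E25895 F144621)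
theorem F202144 : act 2 n30389 = n23559 := (sb E25897 F144623)
theorem E27147 : n35209 = n28722 := ((((iv F121959)).symm.trans (sb E25901 (iv F147911)))).symm
theorem F202145 : act 9 n20767 = n16597 := (sb E25901 (iv D24163))
theorem F202149 : act 1 n21848 = n30309 := (sb E25905 F184540)
theorem F202150 : act 3 n21848 = n30337 := (sb E25905 F184541)
theorem F202151 : act 1 n44490 = n30982 := (sb E25912 F188396)
theorem F202152 : act 0 n42540 = n30542 := (sb E25913 F185767)
theorem F202153 : act 5 n42540 = n30512 := (sb E25913 (iv D44496))
theorem E27153 : n31171 = n29822 := (((iv F131871)).symm.trans (sb E25914 F193722))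
theorem E27155 : n33833 = n29822 := (((E27153).symm.trans (((iv F131871)).symm.trans (sb E25916 (iv F142636))))).symm
theorem E27157 : n33832 = n29720 := ((D33832).symm.trans (sb E25917 F193385))
theorem E27159 : n34475 = n33892 := ((((iv F142876)).symm.trans (sb E25919 D34475))).symm
theorem E27160 : n34464 = n33895 := (((D33895).symm.trans (sb E25919 (iv F144998)))).symm
theorem E27161 : n29720 = n16450 := ((E27157).symm.trans ((D33832).symm.trans (sb E25920 (iv F198929))))
theorem E27162 : n34432 = n33821 := ((((iv F142593)).symm.trans (sb E25920 D34432))).symm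
theorem E27164 : n33832 = n16450 := (E27157).trans E27161
theorem F202154 : act 6 n11320 = n15946 := (sb E25922 F99543)
theorem E27166 : n29353 = n16404 := ((F193177).symm.trans (sb E25927 F101241))
theorem E27167 : n11299 = n11281 := ((D11299).symm.trans (iv (sb E25928 (tr (iv F193095) E26354))))
theorem F202155 : act 0 n7789 = n6079 := (sb E25929 F39412)
theorem F202156 : act 3 n7789 = n6063 := (sb E25929 (iv D8793))
theorem F202157 : act 6 n7789 = n6064 := (sb E25929 F39414)
theorem E27173 : n33913 = n28967 := (((D28967).symm.trans (sb E25937 D33913))).symm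
theorem F202158 : act 8 n42033 = n30546 := (sb E25938 (iv D44547))
theorem E27174 : n33900 = n31611 := (((iv F142905)).symm.trans (sb E25939 F194126))
theorem E27175 : n33910 = n31206 := ((D33910).symm.trans (sb E25939 (iv F132009)))
theorem E27177 : n31206 = n28965 := ((((iv F122970)).symm.trans (sb E25956 (tr (iv F142944) E27175)))).symm
theorem E27179 : n33852 = n13914 := (E26872).trans E26876
theorem E27180 : n33915 = n28970 := (((D28970).symm.trans (sb E25941 D33915))).symm
theorem E27181 : n30797 = n28972 := (((D28972).symm.trans (sb E25941 (iv F130521)))).symm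
theorem E27182 : n29409 = n28968 := (((D28968).symm.trans (sb E25942 (iv F124809)))).symm
theorem E27184 : n29344 = n28970 := (((D28970).symm.trans (sb E25945 (iv F124515)))).symm
theorem E27185 : n29410 = n28972 := (((D28972).symm.trans (sb E25945 D29410))).symm
theorem F202159 : act 4 n42034 = n29165 := (sb E25947 (iv D42495))
theorem F202160 : act 4 n42036 = n29209 := (sb E25948 F177927)
theorem E27187 : n33897 = n29844 := (((iv F142893)).symm.trans (sb E25949 F193718))
theorem E27188 : n34467 = n33901 := (((D33901).symm.trans (sb E25949 (iv F145010)))).symm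
theorem E27190 : n33910 = n28965 := (E27175).trans E27177
theorem E27192 : n31200 = n30715 := (((D30715).symm.trans (sb E25951 (iv F131982)))).symm
theorem E27194 : n34562 = n29394 := (((iv F145348)).symm.trans (sb E25959 (iv D42836)))
theorem E27195 : n29394 = n28584 := ((((iv F121323)).symm.trans (sb E25971 (tr D34562 E27194)))).symm
theorem E27196 : n34561 = n28985 := (((D28985).symm.trans (sb E25971 (iv F145344)))).symm
theorem E27197 : n31258 = n28986 := (((D28986).symm.trans (sb E25971 (iv F132188)))).symm
theorem E27198 : n29396 = n28986 := (((E27197).symm.trans (((iv F132186)).symm.trans (sb E25961 F179007)))).symm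
theorem F202161 : act 3 n19924 = n13896 := (sb E25963 (iv D20199))
theorem E27199 : n29392 = n28985 := (((D28985).symm.trans (sb E25963 (iv F124740)))).symm
theorem E27200 : n34558 = n31176 := (((iv F145336)).symm.trans (sb E25966 (iv D45483)))
theorem E27201 : n31176 = n30739 := ((((iv F130298)).symm.trans (sb E25968 (tr D34558 E27200)))).symm
theorem E27202 : n31558 = n30745 := (((D30745).symm.trans (sb E25968 (iv F193947)))).symm
theorem E27203 : n31254 = n30746 := (((D30746).symm.trans (sb E25968 (iv F132176)))).symm
theorem E27205 : n30745 = n29389 := ((((iv F124728)).symm.trans (sb E25972 (tr F194131 E27202)))).symm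
theorem F202162 : act 8 n21105 = n14699 := (sb E25974 (iv D21395))
theorem F202163 : act 4 n20200 = n14505 := (sb E25975 F90967)
theorem E27208 : n30749 = n29393 := ((((iv F124745)).symm.trans (sb E25975 (iv F130339)))).symm
theorem E27209 : n30748 = n29391 := ((((iv F124738)).symm.trans (sb E25977 D30748))).symm
theorem F202164 : act 1 n42050 = n29209 := (sb E25978 F177872)
theorem F202165 : act 3 n42050 = n29200 := (sb E25978 F177873)
theorem F202166 : act 0 n42544 = n30546 := (sb E25979 F185782)
theorem F202167 : act 1 n42049 = n29206 := (sb E25981 F177858)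
theorem F202168 : act 3 n42049 = n29198 := (sb E25981 (iv D42543))
theorem F202169 : act 0 n42542 = n30545 := (sb E25982 F185778)
theorem E27210 : n34466 = n29358 := ((((iv F193280)).symm.trans (sb E25983 (iv F145007)))).symm
theorem E27211 : n34468 = n33881 := ((((iv F142836)).symm.trans (sb E25984 D34468))).symm
theorem E27212 : n33823 = n29384 := ((D33823).symm.trans (sb E26013 F193387))
theorem E27213 : n33824 = n29451 := ((D33824).symm.trans (sb E26013 (iv F193547)))
theorem E27214 : n34524 = n33825 := (((D33825).symm.trans (sb E26013 (iv F145238)))).symm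
theorem F202170 : act 0 n20420 = n15959 := (sb E25986 F99462)
theorem F202171 : act 2 n20420 = n15931 := (sb E25986 (iv D23204))
theorem F202172 : act 3 n20420 = n15946 := (sb E25986 F99463)
theorem F202173 : act 0 n20487 = n15960 := (sb E25987 F99466)
theorem F202174 : act 4 n20487 = n15931 := (sb E25987 (iv D23205))
theorem E27219 : n31172 = n29451 := (((E27213).symm.trans ((D33824).symm.trans (sb E25988 (iv F131875))))).symm
theorem E27220 : n34434 = n33825 := (((D33825).symm.trans (sb E25988 D34434))).symm
theorem F202175 : act 3 n20487 = n14699 := (sb E25989 (iv D21393))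
theorem E27222 : n29387 = n14896 := (((F88377).symm.trans (sb E25989 (iv F124719)))).symm
theorem E27223 : n31573 = n29388 := (((D29388).symm.trans (sb E25990 (iv F133356)))).symm
theorem E27224 : n31558 = n29389 := (E27202).trans E27205
theorem E27225 : n16372 = n14044 := ((((iv D20420)).symm.trans (sb E25991 F101042))).symm
theorem F202176 : act 1 n12736 = n15946 := (sb E25995 (iv D23225))
theorem E27229 : n29712 = n8823 := (E27018).trans E27022
theorem E27230 : n31544 = n16354 := ((((iv F71159)).symm.trans (sb E25997 F191261))).symm
theorem F202177 : act 3 n21689 = n15966 := (sb E25998 F99642)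
theorem F202178 : act 5 n21689 = n15960 := (sb E25998 (iv D23248))
theorem E27232 : n33899 = n31608 := ((((iv F133485)).symm.trans (sb E25998 D33899))).symm
theorem E27233 : n33879 = n31270 := ((((iv F132232)).symm.trans (sb E25998 (iv F142829)))).symm
theorem F202179 : act 2 n20501 = n15960 := (sb E26004 F99633)
theorem F202180 : act 4 n20501 = n15959 := (sb E26004 (iv D23246))
theorem E27234 : n33891 = n29841 := ((((iv F126607)).symm.trans (sb E26004 (iv F142874)))).symm
theorem E27235 : n33877 = n29465 := ((((iv F125013)).symm.trans (sb E26004 (iv F142820)))).symm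
theorem E27236 : n16394 = n13878 := (((iv F71324)).symm.trans (sb E26014 (iv D20172)))
theorem F202181 : act 8 n11282 = n15980 := (sb E26014 (iv F193092))
theorem F202182 : act 2 n3046 = n3843 := (sb E26027 F25715)
theorem F202183 : act 0 n7907 = n9968 := (sb E26029 F63480)
theorem E27239 : n21045 = n11468 := (((D11468).symm.trans (sb E26029 (iv F90722)))).symm
theorem E27240 : n9957 = n5463 := (((F35814).symm.trans (sb E26029 (iv D14465)))).symm
theorem E27241 : n21049 = n10451 := ((((iv F46569)).symm.trans (sb E26029 D21049))).symm
theorem F202184 : act 9 n7907 = n9987 := (sb E26029 F63484)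
theorem F202185 : act 0 n7871 = n9903 := (sb E26030 F63122)
theorem E27242 : n20913 = n10387 := ((((iv F46297)).symm.trans (sb E26030 D20913))).symm
theorem F202186 : act 9 n7871 = n9916 := (sb E26030 F63126)
theorem F202187 : act 0 n15100 = n20929 := (sb E26031 F129207)
theorem E27244 : n44411 = n21987 := (((D21987).symm.trans (sb E26031 D44411))).symm
theorem E27247 : n21944 = n20926 := (((D20926).symm.trans (sb E26034 (iv F94192)))).symm
theorem E27248 : n11460 = n9966 := ((((iv D14478)).symm.trans (sb E26036 F72369))).symm
theorem E27249 : n22071 = n21068 := (((D21068).symm.trans (sb E26036 (iv F94706)))).symm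
theorem E27250 : n10428 = n9969 := (((D9969).symm.trans (sb E26037 (iv F46471)))).symm
theorem E27251 : n21020 = n10427 := (((iv F90608)).symm.trans (sb E26038 (iv D15159)))
theorem E27253 : n20894 = n10367 := (((iv F90131)).symm.trans (sb E26039 (iv D15072)))
theorem F202188 : act 1 n15071 = n20901 := (sb E26040 F129089)
theorem F202189 : act 3 n15071 = n20929 := (sb E26040 F129090)
theorem E27257 : n44367 = n21943 := (((D21943).symm.trans (sb E26040 D44367))).symm
theorem F202190 : act 1 n14367 = n10366 := (sb E26044 F65796)
theorem E27269 : n23825 = n21097 := (((F129372).symm.trans (sb E26058 F144702))).symm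
theorem E27270 : n45418 = n44488 := (((D44488).symm.trans (sb E26059 (iv F189180)))).symm
theorem E27271 : n45381 = n44526 := (((D44526).symm.trans (sb E26061 (iv F189095)))).symm
theorem F202191 : act 6 n30532 = n23558 := (sb E26061 F144614)
theorem F202192 : act 8 n33429 = n23559 := (sb E26062 (iv D34356))
theorem F202193 : act 3 n30539 = n23556 := (sb E26063 F144616)
theorem F202194 : act 6 n30539 = n23559 := (sb E26063 F144617)
theorem E27272 : n45295 = n45228 := ((D45295).symm.trans (sb E26066 (iv F188598)))
theorem F202195 : act 4 n31050 = n23453 := (sb E26066 (iv D34197))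
theorem E27273 : n44800 = n21410 := (((D21410).symm.trans (sb E26067 (iv F186953)))).symm
theorem F202196 : act 3 n30984 = n23452 := (sb E26068 (iv D34194))
theorem F202197 : act 6 n30984 = n23453 := (sb E26068 F144088)
theorem F202198 : act 1 n34198 = n23521 := (sb E26069 F144324)
theorem F202199 : act 4 n34198 = n45296 := (sb E26069 (iv F188809))
theorem E27275 : n21482 = n21439 := (((D21439).symm.trans (sb E26071 (iv D31307)))).symm
theorem F202200 : act 0 n31013 = n23452 := (sb E26072 F198241)
theorem F202201 : act 1 n31013 = n21329 := (sb E26072 F131503)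
theorem E27277 : n45245 = n45189 := ((D45245).symm.trans (sb E26072 (iv F198720)))
theorem F202202 : act 6 n31013 = n23428 := (sb E26072 F198242)
theorem F202203 : act 8 n31013 = n21315 := (sb E26072 (iv D31056))
theorem E27278 : n45306 = n45246 := (((D45246).symm.trans (sb E26072 D45306))).symm
theorem F202204 : act 0 n14800 = n21058 := (sb E26073 F129938)
theorem E27279 : n44689 = n21551 := (((D21551).symm.trans (sb E26073 (iv F186543)))).symm
theorem E27280 : n21039 = n10181 := (((F64730).symm.trans (sb E26073 F129941))).symm
theorem E27281 : n44696 = n21552 := (((D21552).symm.trans (sb E26073 D44696))).symm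
theorem F202205 : act 0 n14673 = n20919 := (sb E26074 F129172)
theorem E27282 : n44398 = n21361 := (((D21361).symm.trans (sb E26074 D44398))).symm
theorem F202206 : act 1 n31126 = n23556 := (sb E26075 F141149)
theorem F202207 : act 6 n31126 = n22959 := (sb E26075 F141150)
theorem E27283 : n44628 = n10171 := (((F64630).symm.trans (sb E26076 (iv F186261)))).symm
theorem F202208 : act 3 n14771 = n21058 := (sb E26076 (iv D30674))
theorem E27284 : n44740 = n21500 := ((((iv F92417)).symm.trans (sb E26076 D44740))).symm
theorem E27285 : n21059 = n10161 := (((F64632).symm.trans (sb E26076 F130051))).symm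
theorem E27286 : n44741 = n21507 := (((D21507).symm.trans (sb E26076 D44741))).symm
theorem F202209 : act 1 n14653 = n21286 := (sb E26077 F129243)
theorem F202210 : act 3 n14653 = n20919 := (sb E26077 (iv D30466))
theorem E27288 : n44427 = n21326 := ((((iv F91805)).symm.trans (sb E26077 D44427))).symm
theorem E27289 : n44428 = n21331 := (((D21331).symm.trans (sb E26077 D44428))).symm
theorem E27290 : n45338 = n44420 := (((D44420).symm.trans (sb E26078 (iv F188945)))).symm
theorem E27291 : n45348 = n44418 := ((((iv F185516)).symm.trans (sb E26078 D45348))).symm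
theorem E27292 : n45349 = n44421 := (((D44421).symm.trans (sb E26078 D45349))).symm
theorem E27293 : n45729 = n44729 := (((D44729).symm.trans (sb E26079 (iv F190278)))).symm
theorem E27294 : n45746 = n44726 := ((((iv F186685)).symm.trans (sb E26079 D45746))).symm
theorem E27296 : n45747 = n44730 := (((D44730).symm.trans (sb E26079 D45747))).symm
theorem F202211 : act 0 n14218 = n11514 := (sb E26083 F72581)
theorem E27300 : n24287 = n20677 := (((D20677).symm.trans (sb E26083 (iv F103717)))).symm
theorem F202212 : act 0 n7939 = n9795 := (sb E26086 F62458)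
theorem E27301 : n19706 = n11515 := (((D11515).symm.trans (sb E26086 (iv F85083)))).symm
theorem E27302 : n20627 = n11512 := ((((iv F51038)).symm.trans (sb E26086 (iv F88999)))).symm
theorem E27303 : n20674 = n11509 := ((((iv F51026)).symm.trans (sb E26086 D20674))).symm
theorem F202213 : act 9 n7939 = n9801 := (sb E26086 F62461)
theorem F202214 : act 0 n16497 = n20680 := (sb E26087 F127742)
theorem F202215 : act 2 n16497 = n20704 := (sb E26087 F196122)
theorem F202216 : act 6 n16497 = n20698 := (sb E26087 F196123)
theorem E27305 : n43875 = n24016 := (((D24016).symm.trans (sb E26087 D43875))).symm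
theorem E27309 : n24345 = n19717 := ((D24345).symm.trans (sb E26088 F121662))
theorem F202218 : act 6 n14196 = n11514 := (sb E26089 F72706)
theorem E27310 : n24323 = n20646 := (((D20646).symm.trans (sb E26089 (iv F103879)))).symm
theorem F202220 : act 5 n16720 = n20704 := (sb E26091 F127554)
theorem F202221 : act 9 n14227 = n11514 := (sb E26092 (iv D16730))
theorem F202222 : act 1 n16588 = n20711 := (sb E26093 F127920)
theorem F202223 : act 6 n16588 = n20791 := (sb E26093 F127922)
theorem F202224 : act 7 n16588 = n20704 := (sb E26093 F127923)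
theorem E27316 : n43855 = n23977 := (((iv F183246)).symm.trans (sb E26095 (iv D34935)))
theorem E27317 : n20622 = n11491 := (((iv F88973)).symm.trans (sb E26096 (iv D16695)))
theorem F202225 : act 5 n15443 = n11334 := (sb E26097 (iv D16473))
theorem F202232 : act 9 n14277 = n11570 := (sb E26109 (iv D16809))
theorem F202234 : act 0 n16594 = n20753 := (sb E26125 F128167)
theorem F202235 : act 2 n16594 = n20787 := (sb E26125 F196635)
theorem E27328 : n44030 = n24156 := (((D24156).symm.trans (sb E26125 D44030))).symm
theorem F202236 : act 7 n16594 = n20778 := (sb E26125 F196636)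
theorem E27329 : n44032 = n24142 := ((((iv F103146)).symm.trans (sb E26125 D44032))).symm
theorem F202237 : act 9 n16594 = n20772 := (sb E26125 F128171)
theorem F202238 : act 0 n16586 = n20756 := (sb E26126 F128180)
theorem F202239 : act 2 n16586 = n20791 := (sb E26126 F196628)
theorem F202240 : act 7 n16586 = n20781 := (sb E26126 F196629)
theorem E27331 : n44036 = n24143 := (((D24143).symm.trans (sb E26126 D44036))).symm
theorem E27332 : n44006 = n24102 := (((iv F183862)).symm.trans (sb E26130 (iv D35117)))
theorem F202242 : act 3 n16585 = n20781 := (sb E26140 (iv D30259))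
theorem F202244 : act 3 n16559 = n20756 := (sb E26146 F128104)
theorem E27340 : n23068 = n4836 := (((F31765).symm.trans (sb E26152 F140568))).symm
theorem F202245 : act 1 n14651 = n21288 := (sb E26157 F129252)
theorem E27346 : n44423 = n21327 := (((D21327).symm.trans (sb E26157 (iv F185530)))).symm
theorem E27347 : n44430 = n21328 := (((D21328).symm.trans (sb E26157 D44430))).symm
theorem E27348 : n23142 = n10158 := ((((iv F45345)).symm.trans (sb E26158 D23142))).symm
theorem F202246 : act 1 n14655 = n21289 := (sb E26159 F129254)
theorem F202247 : act 3 n14655 = n20921 := (sb E26159 F129255)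
theorem F202248 : act 0 n7157 = n9904 := (sb E26164 F63127)
theorem E27356 : n20911 = n10389 := (((D10389).symm.trans (sb E26164 (iv F90203)))).symm
theorem E27357 : n20914 = n10390 := (((D10390).symm.trans (sb E26164 D20914))).symm
theorem F202249 : act 0 n14675 = n20917 := (sb E26165 F129164)
theorem E27358 : n44394 = n21356 := ((((iv F91901)).symm.trans (sb E26165 D44394))).symm
theorem E27359 : n41979 = n21362 := (((D21362).symm.trans (sb E26165 (iv F175492)))).symm
theorem E27360 : n44395 = n21363 := (((D21363).symm.trans (sb E26165 D44395))).symm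
theorem F202250 : act 0 n14676 = n20921 := (sb E26166 F129179)
theorem F202251 : act 8 n14676 = n20950 := (sb E26166 F129182)
theorem F202252 : act 0 n15030 = n20831 := (sb E26168 F128643)
theorem E27363 : n44205 = n21873 := ((((iv F93883)).symm.trans (sb E26168 D44205))).symm
theorem E27364 : n41889 = n21879 := (((D21879).symm.trans (sb E26168 (iv F175099)))).symm
theorem E27365 : n44206 = n21880 := (((D21880).symm.trans (sb E26168 D44206))).symm
theorem F202253 : act 0 n15031 = n20834 := (sb E26169 F128657)
theorem F202254 : act 8 n15031 = n20853 := (sb E26169 F128661)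
theorem F202255 : act 3 n28678 = n24033 := (sb E26170 F147156)
theorem F202256 : act 0 n16511 = n19780 := (sb E26172 F122096)
theorem E27366 : n41888 = n24036 := (((D24036).symm.trans (sb E26172 D41888))).symm
theorem E27367 : n19818 = n11426 := (((F71842).symm.trans (sb E26172 F122099))).symm
theorem F202257 : act 9 n16511 = n19793 := (sb E26172 F122100)
theorem F202258 : act 0 n7873 = n9902 := (sb E26173 F63119)
theorem F202259 : act 9 n7873 = n9915 := (sb E26173 F63121)
theorem F202260 : act 0 n16185 = n19823 := (sb E26174 F122364)
theorem E27368 : n41978 = n23580 := (((D23580).symm.trans (sb E26174 D41978))).symm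
theorem F202261 : act 9 n16185 = n19842 := (sb E26174 F122367)
theorem F202262 : act 0 n33362 = n23559 := (sb E26175 F144430)
theorem F202263 : act 3 n33362 = n23521 := (sb E26175 F144431)
theorem E27370 : n44673 = n21134 := (((D21134).symm.trans (sb E26176 D44673))).symm
theorem E27371 : n45378 = n44529 := ((((iv F185875)).symm.trans (sb E26177 D45378))).symm
theorem E27372 : n45375 = n44539 := (((D44539).symm.trans (sb E26177 (iv F189081)))).symm
theorem F202264 : act 7 n30540 = n21347 := (sb E26177 F131676)
theorem F202265 : act 8 n30540 = n21346 := (sb E26177 (iv D31104))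
theorem E27373 : n45379 = n44540 := (((D44540).symm.trans (sb E26177 D45379))).symm
theorem F202266 : act 7 n30541 = n23556 := (sb E26178 F144610)
theorem F202267 : act 0 n3779 = n4749 := (sb E26181 F31423)
theorem F202268 : act 9 n3779 = n4758 := (sb E26181 F31427)
theorem F202269 : act 1 n3771 = n4742 := (sb E26186 F31379)
theorem E27381 : n9944 = n4958 := ((((iv F23111)).symm.trans (sb E26186 (iv F44522)))).symm
theorem F202270 : act 8 n3771 = n4749 := (sb E26186 F31382)
theorem F202271 : act 1 n7143 = n9892 := (sb E26187 F63067)
theorem E27383 : n20891 = n10364 := ((((iv F46199)).symm.trans (sb E26187 (iv F90121)))).symm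
theorem E27386 : n23254 = n21086 := ((((iv F90879)).symm.trans (sb E26193 (iv F99665)))).symm
theorem F202272 : act 9 n14493 = n10973 := (sb E26193 (iv D15965))
theorem E27387 : n23816 = n21095 := ((((iv F90919)).symm.trans (sb E26194 (iv F101794)))).symm
theorem E27389 : n21036 = n11246 := (((iv F90687)).symm.trans (sb E26194 (iv D16360)))
theorem F202273 : act 0 n7741 = n9962 := (sb E26196 F63456)
theorem F202274 : act 9 n7741 = n9981 := (sb E26196 F63459)
theorem E27394 : n23681 = n23635 := ((((iv F101114)).symm.trans (sb E26206 D23681))).symm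
theorem F202275 : act 4 n16227 = n11176 := (sb E26206 F70794)
theorem F202276 : act 7 n16227 = n11173 := (sb E26206 F70796)
theorem F202277 : act 8 n16227 = n11172 := (sb E26206 (iv D16255))
theorem E27395 : n23679 = n23636 := ((((iv F101121)).symm.trans (sb E26207 (iv D34530)))).symm
theorem F202278 : act 5 n16228 = n11173 := (sb E26208 F70791)
theorem F202279 : act 8 n16228 = n11171 := (sb E26208 (iv D16254))
theorem E27396 : n23707 = n11271 := ((((iv F50000)).symm.trans (sb E26209 (iv D34570)))).symm
theorem F202280 : act 5 n7769 = n11187 := (sb E26210 F70850)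
theorem E27397 : n11300 = n11280 := (((D11280).symm.trans (sb E26210 F70852))).symm
theorem F202281 : act 3 n14757 = n11176 := (sb E26214 (iv D16261))
theorem F202282 : act 5 n16313 = n23202 := (sb E26218 F197501)
theorem E27400 : n23135 = n11212 := ((((iv D16313)).symm.trans (sb E26218 F142236))).symm
theorem F202283 : act 1 n7719 = n11173 := (sb E26219 F69346)
theorem F202284 : act 8 n7719 = n10921 := (sb E26219 (iv D15886))
theorem E27401 : n43384 = n2350 := (((F16166).symm.trans (sb E26221 (iv F181249)))).symm
theorem E27402 : n20470 = n4890 := ((((iv F22810)).symm.trans (sb E26221 F126467))).symm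
theorem E27408 : n43432 = n10125 := ((((iv F45222)).symm.trans (sb E26224 (iv F181443)))).symm
theorem E27410 : n20411 = n5383 := ((((iv F24969)).symm.trans (sb E26227 F125982))).symm
theorem E27414 : n20417 = n11315 := ((((iv F50206)).symm.trans (sb E26232 F126040))).symm
theorem E27415 : n43301 = n11317 := ((((iv F50215)).symm.trans (sb E26232 (iv F180883)))).symm
theorem E27417 : n20406 = n11271 := ((((iv F50000)).symm.trans (sb E26232 (iv D29706)))).symm
theorem E27419 : n23245 = n23176 := ((((iv F197966)).symm.trans (sb E26235 F142857))).symm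
theorem F202285 : act 2 n15917 = n10984 := (sb E26236 F69635)
theorem F202286 : act 9 n15917 = n10969 := (sb E26236 (iv D15958))
theorem E27420 : n23817 = n23196 := (((D23196).symm.trans (sb E26239 D23817))).symm
theorem E27421 : n23104 = n11240 := (((iv F99066)).symm.trans (sb E26239 (iv D16353)))
theorem E27422 : n23799 = n23231 := (((D23231).symm.trans (sb E26241 (iv F101739)))).symm
theorem F202287 : act 0 n7737 = n10921 := (sb E26242 F69265)
theorem F202288 : act 5 n7737 = n10968 := (sb E26242 F197442)
theorem F202289 : act 7 n7737 = n10967 := (sb E26242 F197443)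
theorem F202290 : act 9 n7737 = n10950 := (sb E26242 F69268)
theorem F202291 : act 0 n16357 = n21054 := (sb E26243 F129922)
theorem E27423 : n23813 = n23228 := (((iv F101784)).symm.trans (sb E26243 (iv F197872)))
theorem F202292 : act 9 n16357 = n21098 := (sb E26243 F129926)
theorem E27424 : n23801 = n23230 := (((D23230).symm.trans (sb E26247 (iv F101746)))).symm
theorem E27426 : n23766 = n23129 := (((D23129).symm.trans (sb E26250 (iv F101608)))).symm
theorem F202293 : act 3 n33720 = n23765 := (sb E26251 (iv D34652))
theorem F202294 : act 1 n7183 = n9950 := (sb E26252 F63394)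
theorem E27427 : n21016 = n10423 := ((((iv F46448)).symm.trans (sb E26252 (iv F90591)))).symm
theorem E27428 : n20464 = n10123 := ((((iv F45214)).symm.trans (sb E26253 (iv D29795)))).symm
theorem E27430 : n21403 = n20485 := (((iv F92059)).symm.trans (sb E26254 F126432))
theorem E27431 : n43428 = n21405 := (((D21405).symm.trans (sb E26254 (iv F181430)))).symm
theorem E27435 : n20407 = n11268 := (((F70667).symm.trans (sb E26256 (iv D29707)))).symm
theorem F202295 : act 9 n30713 = n23251 := (sb E26258 (iv D33903))
theorem E27439 : n44910 = n44801 := (((D44801).symm.trans (sb E26259 (iv F187370)))).symm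
theorem F202296 : act 9 n16256 = n23202 := (sb E26261 (iv D33834))
theorem E27440 : n44845 = n21442 := (((D21442).symm.trans (sb E26870 (iv F187129)))).symm
theorem E27441 : n23684 = n21475 := ((((iv F92330)).symm.trans (sb E26265 (iv F101308)))).symm
theorem E27442 : n23694 = n21477 := (((D21477).symm.trans (sb E26265 D23694))).symm
theorem E27443 : n21479 = n21441 := ((D21479).symm.trans (sb E26265 (iv F92204)))
theorem F202297 : act 0 n14728 = n21089 := (sb E26266 (iv F90890))
theorem F202298 : act 8 n14728 = n10153 := (sb E26266 (iv D14758))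
theorem E27444 : n21484 = n21442 := (((D21442).symm.trans (sb E26266 D21484))).symm
theorem E27445 : n45298 = n45247 := ((D45298).symm.trans (sb E26267 (iv F188642)))
theorem F202299 : act 0 n31015 = n44465 := (sb E26268 (iv F185654))
theorem E27446 : n45300 = n45237 := ((((iv F188620)).symm.trans (sb E26268 D45300))).symm
theorem F202300 : act 8 n31015 = n21313 := (sb E26268 (iv D31053))
theorem E27447 : n45301 = n45248 := (((D45248).symm.trans (sb E26268 D45301))).symm
theorem F202301 : act 0 n31016 = n44470 := (sb E26269 (iv F185675))
theorem E27449 : n45242 = n42625 := (((D42625).symm.trans (sb E26271 (iv F188629)))).symm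
theorem F202302 : act 5 n29253 = n21288 := (sb E26271 (iv D31017))
theorem E27450 : n45251 = n42626 := (((D42626).symm.trans (sb E26271 D45251))).symm
theorem F202303 : act 0 n31011 = n44466 := (sb E26272 (iv F185659))
theorem E27452 : n45304 = n45243 := (((D45243).symm.trans (sb E26272 D45304))).symm
theorem F202304 : act 0 n31018 = n44467 := (sb E26273 (iv F185661))
theorem E27454 : n45527 = n44801 := (((D44801).symm.trans (sb E26275 D45527))).symm
theorem E27458 : n45848 = n44831 := (((D44831).symm.trans (sb E26284 (iv F190665)))).symm
theorem E27459 : n45595 = n44842 := (((D44842).symm.trans (sb E26285 (iv F189799)))).symm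
theorem E27460 : n45479 = n44841 := (((D44841).symm.trans (sb E26287 (iv F189390)))).symm
theorem F202305 : act 5 n30741 = n23519 := (sb E26287 F198232)
theorem F202306 : act 8 n30741 = n21396 := (sb E26287 (iv D31178))
theorem E27461 : n45486 = n44842 := (((D44842).symm.trans (sb E26287 D45486))).symm
theorem F202307 : act 0 n31174 = n23251 := (sb E26291 F142665)
theorem F202308 : act 7 n16312 = n23202 := (sb E26292 F198306)
theorem E27462 : n44803 = n21407 := (((D21407).symm.trans (sb E26293 (iv F186967)))).symm
theorem F202309 : act 1 n14708 = n21103 := (sb E26294 F130214)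
theorem F202310 : act 3 n14708 = n21089 := (sb E26294 (iv D30718))
theorem E27463 : n44804 = n21412 := (((D21412).symm.trans (sb E26294 D44804))).symm
theorem F202311 : act 1 n16225 = n23202 := (sb E26295 F142484)
theorem E27466 : n21940 = n20927 := (((D20927).symm.trans (sb E26297 (iv F94177)))).symm
theorem F202312 : act 1 n7144 = n9893 := (sb E26298 F63071)
theorem F202313 : act 3 n7144 = n9904 := (sb E26298 F63072)
theorem E27468 : n20892 = n10365 := ((((iv F46203)).symm.trans (sb E26298 (iv F90124)))).symm
theorem E27469 : n20895 = n10369 := (((D10369).symm.trans (sb E26298 D20895))).symm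
theorem E27470 : n45351 = n41997 := (((D41997).symm.trans (sb E26300 (iv F188988)))).symm
theorem E27471 : n45343 = n41998 := (((D41998).symm.trans (sb E26301 (iv F188958)))).symm
theorem E27472 : n45352 = n41999 := (((D41999).symm.trans (sb E26301 D45352))).symm
theorem E27473 : n45341 = n44422 := (((D44422).symm.trans (sb E26302 (iv F188952)))).symm
theorem E27474 : n45344 = n44424 := (((D44424).symm.trans (sb E26302 D45344))).symm
theorem E27478 : n23734 = n23672 := (((D23672).symm.trans (sb E26309 (iv D34601)))).symm
theorem F202314 : act 0 n16256 = n23176 := (sb E26310 (iv F99348))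
theorem E27479 : n23730 = n23683 := (((D23683).symm.trans (sb E26310 (iv F101485)))).symm
theorem F202315 : act 3 n33719 = n23764 := (sb E26312 (iv D34650))
theorem E27480 : n23798 = n23232 := (((D23232).symm.trans (sb E26314 (iv D34692)))).symm
theorem E27481 : n23243 = n11323 := ((D23243).symm.trans (sb E26316 F71112))
theorem E27482 : n23795 = n23244 := (((D23244).symm.trans (sb E26316 (iv F101725)))).symm
theorem F202316 : act 5 n15957 = n11233 := (sb E26316 F71114)
theorem F202317 : act 7 n15957 = n11232 := (sb E26316 (iv D16339))
theorem F202318 : act 0 n15964 = n21394 := (sb E26317 F129867)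
theorem E27483 : n44666 = n23253 := (((D23253).symm.trans (sb E26317 D44666))).symm
theorem F202319 : act 2 n31880 = n22959 := (sb E26320 F139276)
theorem F202320 : act 4 n31880 = n44108 := (sb E26320 (iv F184250))
theorem E27489 : n45421 = n42043 := (((D42043).symm.trans (sb E26331 (iv F189190)))).symm
theorem E27492 : n44176 = n21844 := (((iv F184527)).symm.trans (sb E26342 (iv D31832)))
theorem F202321 : act 1 n15010 = n20816 := (sb E26344 F128565)
theorem F202322 : act 3 n15010 = n20834 := (sb E26344 F128566)
theorem E27493 : n44177 = n21845 := ((((iv F93753)).symm.trans (sb E26344 (iv F184531)))).symm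
theorem F202323 : act 1 n15006 = n20813 := (sb E26345 F128552)
theorem E27495 : n23710 = n11270 := ((((iv F49995)).symm.trans (sb E26347 (iv D34573)))).symm
theorem F202324 : act 7 n7768 = n11187 := (sb E26348 F70860)
theorem E27496 : n11301 = n11279 := (((D11279).symm.trans (sb E26348 F70861))).symm
theorem E27497 : n20405 = n11270 := ((((iv F49992)).symm.trans (sb E26349 F125956))).symm
theorem E27499 : n20415 = n11314 := ((((iv F50200)).symm.trans (sb E26350 F126031))).symm
theorem F202325 : act 6 n7806 = n10985 := (sb E26353 F69713)
theorem E27502 : n23271 = n11288 := ((((iv F50079)).symm.trans (sb E26353 D23271))).symm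
theorem F202326 : act 3 n7783 = n10984 := (sb E26354 F69716)
theorem F202327 : act 6 n7783 = n10986 := (sb E26354 F69718)
theorem F202328 : act 6 n7930 = n10630 := (sb E26356 (iv F195498))
theorem F202329 : act 8 n7930 = n10578 := (sb E26356 F67120)
theorem E27504 : n24321 = n20643 := (((D20643).symm.trans (sb E26358 (iv F103870)))).symm
theorem F202330 : act 3 n16496 = n20698 := (sb E26360 (iv D30134))
theorem F202331 : act 0 n7938 = n9775 := (sb E26362 F62308)
theorem F202332 : act 5 n7938 = n10585 := (sb E26362 F195610)
theorem F202333 : act 9 n7938 = n9779 := (sb E26362 F62313)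
theorem E27509 : n22375 = n11507 := ((((iv F51016)).symm.trans (sb E26363 D22375))).symm
theorem F202334 : act 6 n7937 = n10633 := (sb E26363 F67222)
theorem F202335 : act 8 n7937 = n10585 := (sb E26363 (iv D15379))
theorem F202336 : act 5 n15452 = n11349 := (sb E26364 (iv D16494))
theorem F202337 : act 1 n7142 = n9891 := (sb E26372 F63064)
theorem E27516 : n21668 = n4589 := (((D4589).symm.trans (sb E26373 (iv F193761)))).symm
theorem E27518 : n20468 = n4835 := (((D4835).symm.trans (sb E26374 (iv F193416)))).symm
theorem E27524 : n21626 = n4594 := (((D4594).symm.trans (sb E26377 F133158))).symm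
theorem E27528 : n20439 = n2346 := (((F16026).symm.trans (sb E26379 F126273))).symm
theorem E27530 : n43382 = n4846 := (((D4846).symm.trans (sb E26379 D43382))).symm
theorem E27542 : n23147 = n9606 := (((F60791).symm.trans (sb E26390 F140850))).symm
theorem E27544 : n42005 = n20115 := (((D20115).symm.trans (sb E26391 (iv F175602)))).symm
theorem E27546 : n21666 = n9605 := (((D9605).symm.trans (sb E26392 F193955))).symm
theorem E27547 : n21063 = n9607 := (((D9607).symm.trans (sb E26392 (iv F90794)))).symm
theorem E27548 : n19895 = n9608 := (((D9608).symm.trans (sb E26393 (iv F85876)))).symm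
theorem F202338 : act 1 n13839 = n20088 := (sb E26394 F122437)
theorem F202339 : act 4 n13839 = n19826 := (sb E26394 (iv D28836))
theorem E27550 : n42006 = n20118 := (((D20118).symm.trans (sb E26394 D42006))).symm
theorem E27551 : n20488 = n10157 := (((D10157).symm.trans (sb E26396 F193555))).symm
theorem E27552 : n21061 = n10159 := (((D10159).symm.trans (sb E26396 (iv F90787)))).symm
theorem F202340 : act 1 n7002 = n10133 := (sb E26397 F63514)
theorem F202341 : act 3 n7002 = n9963 := (sb E26397 (iv D14473))
theorem E27553 : n21062 = n10163 := (((D10163).symm.trans (sb E26397 D21062))).symm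
theorem F202342 : act 1 n7004 = n10136 := (sb E26398 F63526)
theorem F202343 : act 3 n7004 = n9965 := (sb E26398 F63527)
theorem E27556 : n21644 = n9615 := (((D9615).symm.trans (sb E26401 F133151))).symm
theorem E27562 : n19881 = n9622 := (((D9622).symm.trans (sb E26404 (iv D28920)))).symm
theorem F202344 : act 0 n13853 = n19826 := (sb E26406 F122376)
theorem E27564 : n41982 = n20138 := (((D20138).symm.trans (sb E26406 (iv F175504)))).symm
theorem E27565 : n41985 = n20139 := (((D20139).symm.trans (sb E26406 D41985))).symm
theorem E27570 : n44693 = n10178 := (((D10178).symm.trans (sb E26408 (iv F186557)))).symm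
theorem F202345 : act 0 n7015 = n9963 := (sb E26409 F63460)
theorem E27572 : n9958 = n4971 := (((F31985).symm.trans (sb E26409 F63461))).symm
theorem E27573 : n21037 = n10183 := (((D10183).symm.trans (sb E26409 (iv F90690)))).symm
theorem E27574 : n21041 = n10184 := (((D10184).symm.trans (sb E26409 D21041))).symm
theorem F202346 : act 0 n3437 = n4748 := (sb E26411 F31420)
theorem E27575 : n9437 = n4973 := (((D4973).symm.trans (sb E26411 (iv F42310)))).symm
theorem E27576 : n9959 = n4974 := (((D4974).symm.trans (sb E26411 D9959))).symm
theorem F202347 : act 0 n7017 = n9440 := (sb E26412 F60116)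
theorem E27577 : n19880 = n10185 := (((D10185).symm.trans (sb E26412 (iv F85805)))).symm
theorem E27578 : n19882 = n10186 := (((D10186).symm.trans (sb E26412 D19882))).symm
theorem F202348 : act 0 n7018 = n9965 := (sb E26413 F63467)
theorem F202349 : act 8 n7018 = n9984 := (sb E26413 F63470)
theorem F202350 : act 0 n7159 = n9412 := (sb E26414 F59958)
theorem E27579 : n19820 = n10391 := (((D10391).symm.trans (sb E26414 (iv F85576)))).symm
theorem E27580 : n19821 = n10392 := (((D10392).symm.trans (sb E26414 D19821))).symm
theorem F202351 : act 0 n7160 = n9905 := (sb E26415 F63130)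
theorem F202352 : act 8 n7160 = n9918 := (sb E26415 F63133)
theorem F202353 : act 0 n14677 = n19825 := (sb E26416 F122373)
theorem E27581 : n41981 = n21365 := (((D21365).symm.trans (sb E26416 (iv F175501)))).symm
theorem E27582 : n41983 = n21366 := (((D21366).symm.trans (sb E26416 D41983))).symm
theorem F202354 : act 0 n14678 = n19827 := (sb E26417 F122380)
theorem F202355 : act 8 n14678 = n19846 := (sb E26417 F122384)
theorem E27587 : n42110 = n21135 := (((D21135).symm.trans (sb E26419 (iv F175980)))).symm
theorem E27588 : n44670 = n21136 := (((D21136).symm.trans (sb E26419 D44670))).symm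
theorem F202356 : act 8 n14524 = n21091 := (sb E26420 F129897)
theorem F202357 : act 0 n14525 = n20198 := (sb E26421 F122707)
theorem E27589 : n42112 = n21138 := (((D21138).symm.trans (sb E26421 (iv F175991)))).symm
theorem E27590 : n42114 = n21139 := (((D21139).symm.trans (sb E26421 D42114))).symm
theorem F202358 : act 0 n14526 = n20200 := (sb E26422 F122716)
theorem F202359 : act 8 n14526 = n19916 := (sb E26422 F122721)
theorem E27591 : n5532 = n4522 := (((D4522).symm.trans (sb E26423 (iv F25640)))).symm
theorem E27593 : n4514 = n2658 := (((iv F21151)).symm.trans (sb E26423 (iv D3831)))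
theorem E27594 : n11474 = n9454 := (((D9454).symm.trans (sb E26424 (iv F50857)))).symm
theorem E27595 : n11477 = n9455 := (((D9455).symm.trans (sb E26424 (iv F50868)))).symm
theorem E27596 : n11478 = n9456 := (((D9456).symm.trans (sb E26424 D11478))).symm
theorem E27597 : n9436 = n5467 := (((iv F42306)).symm.trans (sb E26424 (iv D7915)))
theorem F202360 : act 0 n3782 = n4515 := (sb E26426 F29849)
theorem F202361 : act 9 n3782 = n4521 := (sb E26426 F29853)
theorem E27601 : n9956 = n5465 := (((iv F44581)).symm.trans (sb E26427 (iv D7912)))
theorem F202362 : act 0 n3780 = n4747 := (sb E26429 F31415)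
theorem F202363 : act 9 n3780 = n4756 := (sb E26429 F31419)
theorem E27603 : n11597 = n4526 := (((D4526).symm.trans (sb E26431 (iv F51409)))).symm
theorem E27604 : n11598 = n4473 := ((((iv F20956)).symm.trans (sb E26431 D11598))).symm
theorem E27613 : n24238 = n9344 := ((((iv F41892)).symm.trans (sb E26436 D24238))).symm
theorem E27620 : n22078 = n10003 := (((D10003).symm.trans (sb E26441 (iv F94730)))).symm
theorem E27621 : n10430 = n9967 := (((D9967).symm.trans (sb E26442 (iv F46478)))).symm
theorem E27622 : n10431 = n9970 := ((((iv F44635)).symm.trans (sb E26443 (iv D15165)))).symm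
theorem E27623 : n9945 = n4959 := (((iv F44525)).symm.trans (sb E26444 (iv D7185)))
theorem E27624 : n9946 = n4961 := (((iv F44529)).symm.trans (sb E26445 F32729))
theorem F202364 : act 1 n3428 = n4741 := (sb E26446 F31375)
theorem F202365 : act 3 n3428 = n4748 := (sb E26446 F31376)
theorem E27641 : n23257 = n19912 := (((D19912).symm.trans (sb E26471 (iv F99675)))).symm
theorem F202366 : act 9 n13705 = n10977 := (sb E26471 (iv D15970))
theorem E27642 : n23249 = n21085 := (((D21085).symm.trans (sb E26472 (iv F99646)))).symm
theorem F202367 : act 9 n14492 = n10975 := (sb E26472 (iv D15967))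
theorem E27643 : n23819 = n19917 := (((D19917).symm.trans (sb E26473 (iv F101803)))).symm
theorem E27644 : n23828 = n19918 := (((D19918).symm.trans (sb E26473 (iv F101831)))).symm
theorem E27645 : n23829 = n19919 := (((D19919).symm.trans (sb E26473 D23829))).symm
theorem E27646 : n19878 = n11248 := (((iv F85798)).symm.trans (sb E26473 (iv D16363)))
theorem E27647 : n23831 = n19920 := (((D19920).symm.trans (sb E26474 (iv F101840)))).symm
theorem E27649 : n19879 = n11251 := (((iv F85802)).symm.trans (sb E26474 (iv D16366)))
theorem E27650 : n23833 = n19922 := (((D19922).symm.trans (sb E26475 D23833))).symm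
theorem F202368 : act 0 n7745 = n9439 := (sb E26476 F60111)
theorem F202369 : act 9 n7745 = n9452 := (sb E26476 F60115)
theorem E27652 : n23834 = n19657 := ((((iv F84844)).symm.trans (sb E26477 D23834))).symm
theorem E27654 : n23820 = n21096 := (((D21096).symm.trans (sb E26479 D23820))).symm
theorem E27655 : n21035 = n11242 := (((iv F90683)).symm.trans (sb E26479 (iv D16355)))
theorem E27656 : n23830 = n21100 := (((D21100).symm.trans (sb E26480 D23830))).symm
theorem F202370 : act 0 n7743 = n9961 := (sb E26481 F63452)
theorem F202371 : act 9 n7743 = n9980 := (sb E26481 F63455)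
theorem E27658 : n23778 = n19888 := ((((iv F85846)).symm.trans (sb E26483 (iv D34670)))).symm
theorem E27659 : n23786 = n19889 := ((((iv F85850)).symm.trans (sb E26484 (iv D34679)))).symm
theorem E27660 : n45754 = n19939 := (((D19939).symm.trans (sb E26485 (iv F190373)))).symm
theorem E27661 : n21510 = n19890 := (((D19890).symm.trans (sb E26486 (iv F92456)))).symm
theorem E27662 : n23789 = n19891 := ((((iv F85860)).symm.trans (sb E26487 (iv D34682)))).symm
theorem E27663 : n45757 = n19942 := (((D19942).symm.trans (sb E26488 (iv F190384)))).symm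
theorem E27664 : n21513 = n19892 := (((D19892).symm.trans (sb E26489 (iv F92468)))).symm
theorem E27666 : n21514 = n19894 := ((((iv F85873)).symm.trans (sb E26491 (iv D31358)))).symm
theorem E27671 : n23768 = n21052 := (((D21052).symm.trans (sb E26498 (iv F101615)))).symm
theorem E27673 : n21511 = n21057 := ((((iv F90773)).symm.trans (sb E26500 (iv D31355)))).symm
theorem E27674 : n21504 = n21056 := (((D21056).symm.trans (sb E26501 (iv F92430)))).symm
theorem E27683 : n42707 = n42051 := (((D42051).symm.trans (sb E26508 (iv F178425)))).symm
theorem E27684 : n45424 = n42046 := (((D42046).symm.trans (sb E26509 (iv F189198)))).symm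
theorem F202372 : act 1 n7146 = n9894 := (sb E26518 F63074)
theorem F202373 : act 3 n7146 = n9905 := (sb E26518 F63075)
theorem E27688 : n42659 = n42004 := ((((iv F175598)).symm.trans (sb E26519 (iv F178269)))).symm
theorem E27689 : n45355 = n42002 := ((((iv F175591)).symm.trans (sb E26519 (iv F189004)))).symm
theorem E27690 : n42660 = n42007 := (((D42007).symm.trans (sb E26520 D42660))).symm
theorem F202374 : act 0 n1849 = n2179 := (sb E26522 (iv D3131))
theorem F202375 : act 9 n1849 = n2182 := (sb E26522 F15015)
theorem F202376 : act 1 n3427 = n4740 := (sb E26526 F31371)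
theorem E27693 : n9943 = n4957 := (((D4957).symm.trans (sb E26526 D9943))).symm
theorem F202377 : act 1 n7718 = n11174 := (sb E26531 F69350)
theorem E27694 : n20410 = n5381 := (((F35007).symm.trans (sb E26531 F193276))).symm
theorem E27695 : n23130 = n11213 := (((D11213).symm.trans (sb E26531 (iv F99172)))).symm
theorem F202378 : act 0 n15032 = n19782 := (sb E26533 F122106)
theorem E27696 : n41891 = n21882 := (((D21882).symm.trans (sb E26533 (iv F175111)))).symm
theorem E27697 : n41892 = n21883 := (((D21883).symm.trans (sb E26533 D41892))).symm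
theorem F202379 : act 0 n15033 = n19783 := (sb E26534 F122111)
theorem F202380 : act 8 n15033 = n19796 := (sb E26534 F122117)
theorem E27700 : n23105 = n11235 := (((D11235).symm.trans (sb E26536 (iv D33686)))).symm
theorem F202381 : act 0 n7738 = n10920 := (sb E26537 F69260)
theorem F202382 : act 9 n7738 = n10949 := (sb E26537 F69264)
theorem F202383 : act 0 n3820 = n4503 := (sb E26538 F29779)
theorem E27701 : n9409 = n5517 := (((D5517).symm.trans (sb E26538 D9409))).symm
theorem F202384 : act 9 n3820 = n4507 := (sb E26538 F29784)
theorem F202385 : act 0 n7875 = n9411 := (sb E26539 F59954)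
theorem E27702 : n19819 = n11429 := (((D11429).symm.trans (sb E26539 D19819))).symm
theorem F202386 : act 9 n7875 = n9420 := (sb E26539 F59957)
theorem F202387 : act 0 n16188 = n19824 := (sb E26540 F122368)
theorem E27703 : n41980 = n23583 := (((D23583).symm.trans (sb E26540 D41980))).symm
theorem F202388 : act 9 n16188 = n19843 := (sb E26540 F122372)
theorem F202389 : act 0 n7945 = n9392 := (sb E26541 F59830)
theorem E27704 : n19707 = n11519 := ((((iv F51067)).symm.trans (sb E26541 (iv F85089)))).symm
theorem E27705 : n19777 = n11522 := (((D11522).symm.trans (sb E26541 D19777))).symm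
theorem F202390 : act 9 n7945 = n9398 := (sb E26541 F59835)
theorem F202391 : act 0 n16514 = n19781 := (sb E26542 F122101)
theorem E27706 : n41890 = n24039 := (((D24039).symm.trans (sb E26542 D41890))).symm
theorem F202392 : act 9 n16514 = n19794 := (sb E26542 F122105)
theorem E27719 : n45354 = n42000 := (((D42000).symm.trans (sb E26554 (iv F189000)))).symm
theorem E27720 : n42658 = n42001 := (((D42001).symm.trans (sb E26555 (iv F178264)))).symm
theorem E27721 : n42655 = n42003 := (((D42003).symm.trans (sb E26556 (iv F178253)))).symm
theorem E27723 : n23954 = n23234 := ((((iv F99592)).symm.trans (sb E26557 D23954))).symm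
theorem E27724 : n23247 = n23175 := ((D23247).symm.trans (sb E26557 F198907))
theorem E27727 : n23250 = n23177 := (((D23177).symm.trans (sb E26560 D23250))).symm
theorem F202393 : act 9 n15916 = n10970 := (sb E26560 (iv D15961))
theorem F202394 : act 0 n15966 = n20196 := (sb E26561 F122696)
theorem E27728 : n42109 = n23256 := (((D23256).symm.trans (sb E26561 D42109))).symm
theorem F202395 : act 0 n15969 = n20197 := (sb E26562 F122702)
theorem E27729 : n42111 = n23259 := (((D23259).symm.trans (sb E26562 D42111))).symm
theorem F202396 : act 9 n15969 = n19913 := (sb E26562 F122706)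
theorem E27736 : n24285 = n20631 := (((D20631).symm.trans (sb E26572 (iv F103707)))).symm
theorem E27737 : n24289 = n20681 := ((((iv F89247)).symm.trans (sb E26573 (iv D35380)))).symm
theorem E27738 : n20665 = n11490 := (((iv F89179)).symm.trans (sb E26574 (iv D16693)))
theorem F202398 : act 3 n16472 = n20680 := (sb E26575 F127686)
theorem F202399 : act 1 n7923 = n9772 := (sb E26577 F62285)
theorem E27741 : n20621 = n11489 := ((((iv F50927)).symm.trans (sb E26577 D20621))).symm
theorem F202400 : act 8 n7923 = n9775 := (sb E26577 F62289)
theorem F202401 : act 1 n7922 = n9791 := (sb E26578 F62429)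
theorem E27744 : n9372 = n5515 := (((iv F42036)).symm.trans (sb E26583 (iv D7983)))
theorem F202403 : act 0 n3818 = n4486 := (sb E26585 (iv D6476))
theorem F202404 : act 9 n3818 = n4489 := (sb E26585 F29671)
theorem E27748 : n10891 = n1156 := (((F8295).symm.trans (sb E26594 D10891))).symm
theorem E27751 : n9677 = n5379 := ((((iv F24951)).symm.trans (sb E26598 F61623))).symm
theorem E27752 : n9672 = n2574 := ((((iv D3719)).symm.trans (sb E26598 F61624))).symm
theorem E27754 : n9698 = n2341 := ((((iv F11479)).symm.trans (sb E26600 F61826))).symm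
theorem E27758 : n25118 = n24477 := (((D24477).symm.trans (sb E26605 D25118))).symm
theorem F202405 : act 5 n16828 = n20660 := (sb E26605 (iv F195496))
theorem F202406 : act 7 n16828 = n20619 := (sb E26605 F195480)
theorem E27765 : n20442 = n2347 := ((((iv F11503)).symm.trans (sb E26627 F126291))).symm
theorem E27776 : n16811 = n13596 := ((((iv F59769)).symm.trans (sb E26644 (iv F73069)))).symm
theorem F202408 : act 9 n9835 = n7979 := (sb E26644 (iv D11572))
theorem E27779 : n35184 = n30241 := (((D30241).symm.trans (sb E26645 (iv F147829)))).symm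
theorem E27780 : n16814 = n13597 := ((((iv D19752)).symm.trans (sb E26646 F103220))).symm
theorem E27781 : n35213 = n28727 := (((D28727).symm.trans (sb E26646 (iv F147923)))).symm
theorem E27783 : n28698 = n16599 := (((iv F121850)).symm.trans (sb E26646 (iv D24166)))
theorem E27785 : n35187 = n30248 := (((D30248).symm.trans (sb E26647 (iv F147838)))).symm
theorem F202409 : act 0 n11420 = n14267 := (sb E26648 F89505)
theorem E27786 : n30202 = n16589 := ((((iv F72153)).symm.trans (sb E26648 D30202))).symm
theorem F202410 : act 9 n11420 = n14280 := (sb E26648 F89508)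
theorem E27787 : n16815 = n13598 := (((D13598).symm.trans (sb E26649 D16815))).symm
theorem E27788 : n13585 = n7980 := (((iv F59716)).symm.trans (sb E26649 (iv D11574)))
theorem E27789 : n16806 = n14283 := (((D14283).symm.trans (sb E26650 (iv F73053)))).symm
theorem F202411 : act 0 n5513 = n6779 := (sb E26651 F44036)
theorem E27790 : n14263 = n7977 := ((((iv F36139)).symm.trans (sb E26651 D14263))).symm
theorem F202412 : act 9 n5513 = n6785 := (sb E26651 F44039)
theorem E27791 : n30205 = n16590 := (((iv F128187)).symm.trans (sb E26652 (iv D24149)))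
theorem F202413 : act 0 n11414 = n14269 := (sb E26653 F89514)
theorem F202414 : act 0 n9826 = n7979 := (sb E26658 F51233)
theorem E27800 : n16782 = n14266 := (((D14266).symm.trans (sb E26658 (iv F72962)))).symm
theorem F202417 : act 0 n20750 = n16588 := (sb E26660 F103016)
theorem E27809 : n31962 = n30218 := (((D30218).symm.trans (sb E26663 (iv F134928)))).symm
theorem E27814 : n16784 = n14270 := ((((iv F62687)).symm.trans (sb E26666 (iv D24419)))).symm
theorem E27815 : n14254 = n7967 := (((iv F62621)).symm.trans (sb E26667 (iv D11553)))
theorem E27816 : n30186 = n16561 := (((iv F128108)).symm.trans (sb E26668 F103023))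
theorem F202418 : act 1 n11393 = n14258 := (sb E26669 F89460)
theorem F202419 : act 3 n11393 = n14269 := (sb E26669 F89461)
theorem F202420 : act 1 n5504 = n6775 := (sb E26670 F44008)
theorem F202421 : act 1 n10363 = n14256 := (sb E26671 F89452)
theorem E27828 : n20387 = n5365 := ((((iv F24880)).symm.trans (sb E26683 F125855))).symm
theorem F202423 : act 7 n16829 = n22329 := (sb E26685 F195469)
theorem E27830 : n9696 = n4861 := ((((iv F22676)).symm.trans (sb E26686 (iv D14076)))).symm
theorem E27831 : n9671 = n5355 := ((((iv F24830)).symm.trans (sb E26687 F61588))).symm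
theorem E27833 : n20437 = n4870 := (((F31882).symm.trans (sb E26688 (iv D29753)))).symm
theorem E27836 : n43363 = n10139 := (((D10139).symm.trans (sb E26688 (iv F181167)))).symm
theorem E27837 : n9690 = n4866 := ((((iv F22702)).symm.trans (sb E26689 F61722))).symm
theorem E27838 : n20440 = n4872 := (((D4872).symm.trans (sb E26689 (iv F88182)))).symm
theorem E27839 : n9683 = n4873 := (((D4873).symm.trans (sb E26689 (iv D14056)))).symm
theorem E27840 : n9659 = n5366 := (((D5366).symm.trans (sb E26691 (iv D14021)))).symm
theorem F202424 : act 6 n11412 = n15561 := (sb E26703 F97199)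
theorem F202425 : act 6 n22629 = n16558 := (sb E26705 F102491)
theorem F202426 : act 7 n22629 = n16471 := (sb E26705 (iv D23976))
theorem E27847 : n33006 = n31856 := ((((iv F134476)).symm.trans (sb E26707 D33006))).symm
theorem E27849 : n9686 = n1134 := (((D1134).symm.trans (sb E26709 F61740))).symm
theorem E27851 : n9691 = n2344 := ((((iv F11492)).symm.trans (sb E26711 F61730))).symm
theorem E27852 : n9727 = n2348 := (((D2348).symm.trans (sb E26711 F61733))).symm
theorem F202428 : act 8 n1693 = n1484 := (sb E26783 (iv D2133))
theorem E27889 : n20361 = n12739 := ((((iv F55936)).symm.trans (sb E26784 F125686))).symm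
theorem E27890 : n20353 = n12755 := (((D12755).symm.trans (sb E26784 (iv D29627)))).symm
theorem E27891 : n12755 = n11308 := (((D11308).symm.trans (sb E26795 (tr F125618 E27890)))).symm
theorem F202429 : act 0 n7791 = n6077 := (sb E26787 F39402)
theorem F202430 : act 5 n7791 = n6063 := (sb E26787 F39404)
theorem F202431 : act 8 n7791 = n6061 := (sb E26787 (iv D8791))
theorem E27893 : n43194 = n11315 := ((((iv F50207)).symm.trans (sb E26788 D43194))).symm
theorem E27896 : n23721 = n12740 := ((((iv F55944)).symm.trans (sb E26788 (iv F193219)))).symm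
theorem E27897 : n12756 = n11306 := ((D12756).symm.trans (sb E26789 F70900))
theorem F202432 : act 0 n7790 = n6078 := (sb E26790 F39407)
theorem F202433 : act 4 n7790 = n6065 := (sb E26790 F39408)
theorem F202434 : act 7 n7790 = n6063 := (sb E26790 F39410)
theorem F202435 : act 8 n7790 = n6062 := (sb E26790 (iv D8792))
theorem E27900 : n43251 = n11284 := ((((iv F50062)).symm.trans (sb E26793 D43251))).symm
theorem E27901 : n20383 = n11290 := (((D11290).symm.trans (sb E26793 (iv D29672)))).symm
theorem E27904 : n20362 = n12740 := ((((iv F55944)).symm.trans (sb E26796 (iv D29639)))).symm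
theorem E27906 : n20358 = n6057 := ((((iv F27739)).symm.trans (sb E26797 (iv D29633)))).symm
theorem E27911 : n20413 = n12806 := ((((iv F56252)).symm.trans (sb E26807 F125725))).symm
theorem E27912 : n20360 = n12810 := (((D12810).symm.trans (sb E26807 (iv D29635)))).symm
theorem E27913 : n12810 = n11309 := (((D11309).symm.trans (sb E26818 (tr F125681 E27912)))).symm
theorem E27914 : n20353 = n11308 := (E27890).trans E27891
theorem E27915 : n43197 = n11314 := ((((iv F50201)).symm.trans (sb E26809 D43197))).symm
theorem E27916 : n23927 = n12741 := (((D12741).symm.trans (sb E26810 F145432))).symm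
theorem E27917 : n23712 = n12806 := ((D23712).symm.trans (sb E26814 (tr F126024 E27911)))
theorem E27919 : n20404 = n11302 := (((F70869).symm.trans (sb E26814 (iv D29702)))).symm
theorem F202436 : act 8 n7792 = n6090 := (sb E26817 (iv D8830))
theorem F202437 : act 0 n16277 = n11288 := (sb E26819 F71303)
theorem F202438 : act 9 n16277 = n11320 := (sb E26819 F71307)
theorem E27921 : n11261 = n9675 := (((iv F49945)).symm.trans (sb E26821 F61616))
theorem E27922 : n11272 = n9668 := ((D11272).symm.trans (sb E26821 (iv D14034)))
theorem E27923 : n20451 = n10228 := ((((iv F45617)).symm.trans (sb E26823 F125912))).symm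
theorem E27925 : n42769 = n11285 := (((D11285).symm.trans (sb E26823 (iv F178695)))).symm
theorem E27926 : n20382 = n11289 := (((D11289).symm.trans (sb E26824 (iv D29671)))).symm
theorem E27927 : n20167 = n11291 := (((D11291).symm.trans (sb E26825 (iv F87001)))).symm
theorem E27942 : n10233 = n9581 := (((D9581).symm.trans (sb E26836 (iv D14878)))).symm
theorem E27943 : n21653 = n9583 := (((D9583).symm.trans (sb E26836 (iv F93002)))).symm
theorem E27946 : n9694 = n4860 := (((F31842).symm.trans (sb E26839 (iv D14073)))).symm
theorem E27947 : n20459 = n10124 := (((D10124).symm.trans (sb E26839 (iv F88265)))).symm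
theorem E27949 : n20201 = n10247 := ((D20201).symm.trans (sb E26842 F65045))
theorem E27950 : n21661 = n20202 := (((D20202).symm.trans (sb E26842 (iv F93033)))).symm
theorem E27951 : n21652 = n20203 := (((D20203).symm.trans (sb E26842 (iv F92998)))).symm
theorem F202439 : act 0 n14088 = n10128 := (sb E26847 F64377)
theorem E27957 : n10212 = n9704 := ((((iv D14088)).symm.trans (sb E26847 F64378))).symm
theorem F202440 : act 3 n14088 = n10118 := (sb E26847 (iv D14704))
theorem F202441 : act 4 n14088 = n11153 := (sb E26847 F64379)
theorem E27958 : n21404 = n20237 := ((((iv F87297)).symm.trans (sb E26847 D21404))).symm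
theorem E27959 : n42881 = n21408 := (((D21408).symm.trans (sb E26848 (iv F179180)))).symm
theorem E27961 : n11260 = n9676 := (((iv F49940)).symm.trans (sb E26850 F61619))
theorem E27962 : n20184 = n11269 := (((D11269).symm.trans (sb E26850 (iv F87082)))).symm
theorem E27979 : n9682 = n4871 := (((D4871).symm.trans (sb E26859 (iv D14054)))).symm
theorem E27980 : n20434 = n10140 := (((D10140).symm.trans (sb E26860 (iv D29748)))).symm
theorem E27987 : n21641 = n20217 := (((D20217).symm.trans (sb E26862 (iv F92958)))).symm
theorem E28002 : n44848 = n21444 := (((D21444).symm.trans (sb E26869 (iv F187143)))).symm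
theorem F202442 : act 8 n14731 = n21106 := (sb E26871 (iv D30747))
theorem E28003 : n44852 = n20230 := (((D20230).symm.trans (sb E27179 (iv F187158)))).symm
theorem E28005 : n20260 = n20230 := (((iv F87385)).symm.trans (sb E26874 (tr D44852 E28003)))
theorem F202443 : act 4 n13935 = n10136 := (sb E26875 F64491)
theorem E28006 : n21447 = n20257 := ((((iv F87374)).symm.trans (sb E26875 (iv F92223)))).symm
theorem F202444 : act 0 n13914 = n19915 := (sb E26876 (iv F85967))
theorem E28007 : n20258 = n20179 := ((((iv F87058)).symm.trans (sb E26876 D20258))).symm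
theorem F202445 : act 3 n13914 = n9604 := (sb E26876 (iv D13934))
theorem E28008 : n20256 = n20229 := (((D20229).symm.trans (sb E26876 (iv F87369)))).symm
theorem E28009 : n21443 = n20253 := ((((iv F87358)).symm.trans (sb E26877 (iv F92209)))).symm
theorem F202446 : act 0 n29230 = n42036 := (sb E26878 (iv F175730))
theorem F202447 : act 3 n29230 = n20109 := (sb E26878 F124195)
theorem E28012 : n42632 = n42592 := ((((iv F178029)).symm.trans (sb E26878 (iv F178168)))).symm
theorem E28013 : n42637 = n42593 := (((D42593).symm.trans (sb E26878 D42637))).symm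
theorem E28015 : n20168 = n11286 := (((D11286).symm.trans (sb E26880 (iv D29349)))).symm
theorem E28017 : n21474 = n20502 := ((D21474).symm.trans (sb E26884 F193549))
theorem F202448 : act 4 n14754 = n11174 := (sb E26884 (iv D16259))
theorem E28018 : n21690 = n20251 := ((((iv F87351)).symm.trans (sb E26884 (iv F193724)))).symm
theorem E28019 : n23675 = n21476 := (((D21476).symm.trans (sb E26884 (iv F101282)))).symm
theorem F202449 : act 9 n14754 = n20487 := (sb E26884 F193550)
theorem F202450 : act 0 n14730 = n21087 := (sb E26886 (iv F90880))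
theorem E28020 : n21480 = n21437 := ((((iv F92190)).symm.trans (sb E26886 D21480))).symm
theorem F202451 : act 8 n14730 = n10152 := (sb E26886 (iv D14756))
theorem E28021 : n21481 = n21444 := (((D21444).symm.trans (sb E26886 D21481))).symm
theorem F202452 : act 0 n14731 = n21091 := (sb E26887 (iv F90899))
theorem F202453 : act 0 n29179 = n42034 := (sb E26890 (iv F175721))
theorem F202454 : act 0 n29229 = n42032 := (sb E26891 (iv F175713))
theorem F202455 : act 3 n29229 = n20107 := (sb E26891 (iv D29256))
theorem E28024 : n42631 = n42588 := ((((iv F178019)).symm.trans (sb E26891 D42631))).symm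
theorem E28025 : n42628 = n42591 := (((D42591).symm.trans (sb E26891 (iv F178154)))).symm
theorem E28030 : n42205 = n20206 := (((D20206).symm.trans (sb E26897 (iv F176421)))).symm
theorem F202456 : act 1 n13900 = n19924 := (sb E26898 F122997)
theorem E28032 : n42203 = n20165 := ((((iv F86991)).symm.trans (sb E26898 (iv F176412)))).symm
theorem F202457 : act 4 n13900 = n19915 := (sb E26898 (iv D28971))
theorem E28033 : n42206 = n20209 := (((D20209).symm.trans (sb E26898 D42206))).symm
theorem F202458 : act 1 n14706 = n21105 := (sb E26901 F130228)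
theorem E28034 : n44798 = n21408 := (((D21408).symm.trans (sb E26901 (iv F186943)))).symm
theorem E28035 : n44808 = n21409 := (((D21409).symm.trans (sb E26901 D44808))).symm
theorem F202459 : act 1 n14710 = n21106 := (sb E26902 F130232)
theorem F202460 : act 3 n14710 = n21091 := (sb E26902 F130233)
theorem F202461 : act 1 n16226 = n23197 := (sb E26904 F142460)
theorem F202462 : act 3 n16226 = n23177 := (sb E26904 (iv D33790))
theorem F202463 : act 0 n16251 = n23177 := (sb E26919 (iv F99351))
theorem E28050 : n23731 = n23674 := (((D23674).symm.trans (sb E26919 (iv F101488)))).symm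
theorem F202464 : act 0 n16258 = n23175 := (sb E26921 (iv F99343))
theorem E28052 : n20421 = n11311 := ((F193325).symm.trans (sb E26921 F70939))
theorem E28061 : n4868 = n2226 := (((D2226).symm.trans (sb E26945 (iv D7053)))).symm
theorem E28063 : n4627 = n2329 := (((D2329).symm.trans (sb E26947 (iv D6692)))).symm
theorem E28064 : n4858 = n4630 := (((iv F22662)).symm.trans (sb E26948 F30630))
theorem E28065 : n4862 = n4626 := ((D4862).symm.trans (sb E26948 (iv D6691)))
theorem E28071 : n5357 = n2222 := ((((iv F10920)).symm.trans (sb E26956 F32077))).symm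
theorem E28073 : n4622 = n2333 := (((D2333).symm.trans (sb E26958 (iv D6683)))).symm
theorem E28074 : n4867 = n4623 := ((D4867).symm.trans (sb E26959 (iv D6686)))
theorem E28075 : n4874 = n4639 := ((D4874).symm.trans (sb E26960 F30587))
theorem E28088 : n4857 = n2230 := (((D2230).symm.trans (sb E26970 (iv D7035)))).symm
theorem E28089 : n5353 = n2223 := (((D2223).symm.trans (sb E26971 (iv D7760)))).symm
theorem E28103 : n45928 = n9598 := (((D9598).symm.trans (sb E26977 (iv F190959)))).symm
theorem E28116 : n5352 = n4619 := (((iv F24813)).symm.trans (sb E26988 F30539))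
theorem E28117 : n5356 = n4614 := ((D5356).symm.trans (sb E26988 (iv D6673)))
theorem E28119 : n5367 = n4612 := ((D5367).symm.trans (sb E26992 F30508))
theorem F202465 : act 1 n6677 = n5354 := (sb E27014 F35149)
theorem F202466 : act 2 n6677 = n6050 := (sb E27014 F35150)
theorem F202467 : act 0 n6671 = n5364 := (sb E27015 F35178)
theorem F202468 : act 2 n6671 = n5359 := (sb E27015 F35179)
theorem E28121 : n11273 = n9568 := ((((iv F42871)).symm.trans (sb E27015 D11273))).symm
theorem F202469 : act 8 n6671 = n5354 := (sb E27015 (iv D7763))
theorem E28122 : n20162 = n11292 := (((D11292).symm.trans (sb E27016 (iv F86978)))).symm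
theorem E28123 : n11293 = n9563 := ((D11293).symm.trans (sb E27016 (iv D13873)))
theorem E28124 : n20412 = n11303 := (((D11303).symm.trans (sb E27017 (iv F199163)))).symm
theorem E28126 : n12807 = n11303 := ((D12807).symm.trans (sb E27229 (tr (iv D29712) E28124)))
theorem F202470 : act 0 n7943 = n9361 := (sb E27019 F59632)
theorem E28127 : n19688 = n11517 := ((((iv F51056)).symm.trans (sb E27019 (iv F84992)))).symm
theorem F202471 : act 9 n7943 = n9365 := (sb E27019 F59637)
theorem F202472 : act 0 n7941 = n9352 := (sb E27020 (iv D13555))
theorem F202473 : act 9 n7941 = n9355 := (sb E27020 F59574)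
theorem E28128 : n20360 = n11309 := (E27912).trans E27913
theorem F202474 : act 1 n8823 = n11189 := (sb E27022 (iv D16279))
theorem F202475 : act 8 n7793 = n6087 := (sb E27023 (iv D8825))
theorem E28132 : n34863 = n6660 := (E27031).trans E27105
theorem E28133 : n12741 = n9650 := (((D9650).symm.trans (sb E28132 (tr F146549 E27916)))).symm
theorem E28140 : n9646 = n6058 := (((D6058).symm.trans (sb E27041 (iv D14002)))).symm
theorem E28145 : n1494 = n1303 := (((D1303).symm.trans (sb E27058 (iv F7500)))).symm
theorem F202476 : act 9 n907 = n722 := (sb E27058 (iv D1042))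
theorem F202477 : act 1 n1041 = n1306 := (sb E27060 F9341)
theorem E28147 : n2694 = n1493 := (((D1493).symm.trans (sb E27060 (iv F13111)))).symm
theorem F202478 : act 9 n442 = n345 := (sb E27062 (iv D503))
theorem E28151 : n6321 = n5033 := ((((iv F23465)).symm.trans (sb E27074 (iv F28905)))).symm
theorem F202479 : act 8 n3484 = n3034 := (sb E27074 (iv D4377))
theorem F202480 : act 2 n4376 = n5036 := (sb E27080 F33180)
theorem E28156 : n4605 = n2894 := (((D2894).symm.trans (sb E27081 (iv D6658)))).symm
theorem E28157 : n6052 = n4607 := ((D6052).symm.trans (sb E27083 (iv D6662)))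
theorem E28158 : n6059 = n4606 := ((D6059).symm.trans (sb E27084 F30456))
theorem E28159 : n4604 = n2902 := (((D2902).symm.trans (sb E27085 (iv D6654)))).symm
theorem F202481 : act 1 n2123 = n2664 := (sb E27089 F18213)
theorem E28160 : n5537 = n3052 := (((D3052).symm.trans (sb E27089 (iv F25666)))).symm
theorem E28161 : n5538 = n3051 := ((((iv F14607)).symm.trans (sb E27089 (iv F25674)))).symm
theorem E28162 : n3053 = n2660 := ((D3053).symm.trans (sb E27089 (iv D3835)))
theorem F202482 : act 9 n1851 = n1479 := (sb E27090 (iv D2126))
theorem F202483 : act 8 n3840 = n3046 := (sb E27092 (iv D4394))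
theorem F202484 : act 1 n2124 = n2678 := (sb E27095 F18327)
theorem E28166 : n5569 = n3054 := (((D3054).symm.trans (sb E27095 (iv F25831)))).symm
theorem E28167 : n3055 = n2674 := ((D3055).symm.trans (sb E27095 (iv D3857)))
theorem F202485 : act 9 n1860 = n1478 := (sb E27096 (iv D2125))
theorem F202486 : act 5 n8802 = n6085 := (sb E27099 F39531)
theorem F202487 : act 7 n8801 = n6085 := (sb E27101 F39541)
theorem F202488 : act 1 n6660 = n6056 := (sb E27105 F39313)
theorem F202489 : act 8 n6660 = n6050 := (sb E27105 (iv D8774))
theorem F202490 : act 0 n24168 = n30473 := (sb E27106 F197038)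
theorem F202491 : act 2 n24168 = n30525 := (sb E27106 F184236)
theorem F202492 : act 3 n24168 = n30253 := (sb E27106 F184237)
theorem E28169 : n30653 = n16660 := (((F103225).symm.trans (sb E27106 F197039))).symm
theorem E28170 : n30451 = n16604 := (((F103226).symm.trans (sb E27106 F197040))).symm
theorem F202493 : act 9 n24168 = n30517 := (sb E27106 F197041)
theorem F202494 : act 0 n11424 = n14383 := (sb E27107 F90197)
theorem E28171 : n30453 = n15102 := ((((iv F65984)).symm.trans (sb E27107 D30453))).symm
theorem F202495 : act 9 n11424 = n14402 := (sb E27107 F90200)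
theorem F202496 : act 0 n21986 = n30475 := (sb E27108 F197042)
theorem F202497 : act 2 n21986 = n30527 := (sb E27108 F184243)
theorem F202498 : act 6 n21986 = n30252 := (sb E27108 F184245)
theorem F202499 : act 0 n23821 = n30666 := (sb E27109 F197873)
theorem E28172 : n34711 = n30762 := (((iv F145916)).symm.trans (sb E27109 F185830))
theorem F202500 : act 4 n23821 = n30525 := (sb E27109 (iv D44513))
theorem E28173 : n30640 = n16359 := (((F101811).symm.trans (sb E27109 F197876))).symm
theorem F202501 : act 9 n23821 = n30733 := (sb E27109 F197877)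
theorem F202502 : act 0 n23577 = n30460 := (sb E27110 F185419)
theorem F202503 : act 1 n23577 = n31102 := (sb E27110 F197859)
theorem F202504 : act 3 n23577 = n30530 := (sb E27110 F197860)
theorem F202505 : act 7 n23577 = n30525 := (sb E27110 F197861)
theorem F202506 : act 9 n23577 = n30504 := (sb E27110 F185422)
theorem F202507 : act 2 n44515 = n32044 := (sb E27111 F189159)
theorem F202508 : act 4 n44515 = n31415 := (sb E27111 F189160)
theorem F202509 : act 7 n44515 = n31127 := (sb E27111 F189161)
theorem F202510 : act 0 n21360 = n30462 := (sb E27112 F185427)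
theorem F202511 : act 7 n21360 = n30527 := (sb E27112 F197863)
theorem F202512 : act 4 n44517 = n31114 := (sb E27113 (iv D45396))
theorem F202513 : act 7 n44517 = n31117 := (sb E27113 F189128)
theorem F202514 : act 2 n44518 = n32045 := (sb E27114 F189163)
theorem F202515 : act 4 n44518 = n31126 := (sb E27114 F189164)
theorem F202516 : act 7 n44518 = n31128 := (sb E27114 F189165)
theorem E28177 : n20455 = n4896 := ((((iv F22835)).symm.trans (sb E27122 F125931))).symm
theorem F202517 : act 3 n16338 = n23251 := (sb E27124 F142864)
theorem F202518 : act 1 n31101 = n23821 := (sb E27125 F142912)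
theorem F202519 : act 5 n31101 = n23251 := (sb E27125 (iv D33902))
theorem E28178 : n45373 = n44908 := ((D45373).symm.trans (sb E27125 (iv F187360)))
theorem F202520 : act 5 n30787 = n23556 := (sb E27127 F144605)
theorem E28179 : n33894 = n30710 := ((((iv F130179)).symm.trans (iv (sb E27130 (tr F145044 E27441))))).symm
theorem E28180 : n33906 = n30712 := ((((iv F130187)).symm.trans (iv (sb E27131 (tr F145083 E27442))))).symm
theorem E28183 : n44913 = n44796 := (((D44796).symm.trans (sb E27136 (iv F187382)))).symm
theorem E28184 : n45518 = n44795 := (((D44795).symm.trans (sb E27133 (iv F189535)))).symm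
theorem E28186 : n45598 = n44844 := (((D44844).symm.trans (sb E27137 (iv F189808)))).symm
theorem E28187 : n45481 = n44844 := ((((iv F187124)).symm.trans (sb E27139 (iv F189397)))).symm
theorem E28188 : n45480 = n44833 := ((((iv F187085)).symm.trans (sb E27140 D45480))).symm
theorem E28189 : n45478 = n44843 := (((D44843).symm.trans (sb E27140 (iv F189387)))).symm
theorem F202521 : act 8 n30743 = n21394 := (sb E27140 (iv D31175))
theorem F202522 : act 0 n24028 = n28660 := (sb E27141 F174445)
theorem F202523 : act 2 n24028 = n30138 := (sb E27141 F196363)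
theorem E28190 : n28655 = n16731 := (((F102706).symm.trans (sb E27141 (iv D41732)))).symm
theorem F202524 : act 9 n24028 = n28673 := (sb E27141 F174450)
theorem F202525 : act 0 n24015 = n30106 := (sb E27142 F183317)
theorem F202526 : act 2 n24015 = n30140 := (sb E27142 F196351)
theorem F202527 : act 6 n24015 = n30131 := (sb E27142 F196352)
theorem E28193 : n35463 = n28671 := ((D35463).symm.trans (sb E27143 F174440))
theorem F202530 : act 0 n24162 = n28703 := (sb E27144 F174700)
theorem F202534 : act 0 n24145 = n30208 := (sb E27145 F196431)
theorem F202535 : act 1 n24145 = n30147 := (sb E27145 F183574)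
theorem F202536 : act 6 n24145 = n30268 := (sb E27145 F183576)
theorem F202537 : act 7 n24145 = n30140 := (sb E27145 F183577)
theorem E28195 : n24456 = n19750 := ((((iv D28722)).symm.trans (sb E27147 F147910))).symm
theorem F202540 : act 9 n28722 = n24162 := (sb E27147 (iv D35209))
theorem E28198 : n23944 = n20498 := (((F126535).symm.trans (sb E27153 (iv F199138)))).symm
theorem F202541 : act 3 n29822 = n21394 := (sb E27153 F131871)
theorem E28199 : n45472 = n43466 := ((((iv F181570)).symm.trans (sb E27153 D45472))).symm
theorem E28200 : n43471 = n23762 := (((iv F181587)).symm.trans (sb E27153 F198901))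
theorem E28201 : n45474 = n42919 := ((((iv F179297)).symm.trans (sb E27153 D45474))).symm
theorem F202542 : act 0 n29822 = n23244 := (sb E27155 F142635)
theorem F202543 : act 4 n29822 = n23202 := (sb E27155 (iv D33833))
theorem F202544 : act 2 n16450 = n23202 := (sb E27164 (iv D33832))
theorem F202545 : act 0 n33892 = n23683 := (sb E27159 F145041)
theorem F202546 : act 0 n33895 = n23672 := (sb E27160 F144996)
theorem F202547 : act 3 n33895 = n23637 := (sb E27160 (iv D34464))
theorem E28202 : n23836 = n20418 := (((iv F199156)).symm.trans (sb E27161 (iv D29720)))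
theorem F202548 : act 6 n16450 = n20420 := (sb E27161 F126098)
theorem E28205 : n42816 = n23947 := (((D23947).symm.trans (sb E27161 (iv F178909)))).symm
theorem F202549 : act 1 n33821 = n23637 := (sb E27162 F144882)
theorem F202550 : act 2 n33821 = n23947 := (sb E27162 F198932)
theorem F202551 : act 4 n33821 = n42919 := (sb E27162 (tr (iv F189372) E28201))
theorem F202552 : act 5 n33821 = n23765 := (sb E27162 F198933)
theorem F202553 : act 7 n33821 = n23764 := (sb E27162 F198934)
theorem E28207 : n23870 = n20173 := (((iv F102015)).symm.trans (sb E27166 F124562))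
theorem E28208 : n16416 = n16404 := ((D16416).symm.trans (iv (sb E27166 (tr (iv F193177) E27502))))
theorem F202554 : act 1 n11281 = n7789 := (sb E27167 F50128)
theorem F202555 : act 5 n11281 = n7785 := (sb E27167 F50130)
theorem F202556 : act 7 n11281 = n7784 := (sb E27167 F50131)
theorem F202557 : act 8 n11281 = n7783 := (sb E27167 (iv D11299))
theorem E28213 : n44919 = n42199 := (((D42199).symm.trans (sb E27173 (iv F187408)))).symm
theorem E28215 : n31611 = n28963 := (((D28963).symm.trans (iv (sb E27174 (tr F142905 E27641))))).symm
theorem E28217 : n44916 = n42196 := (((D42196).symm.trans (sb E27190 (iv F187397)))).symm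
theorem E28221 : n46162 = n41614 := ((((iv F173893)).symm.trans (sb E27180 F192926))).symm
theorem E28223 : n42277 = n42207 := (((D42207).symm.trans (sb E27181 (iv F176696)))).symm
theorem E28225 : n42858 = n42201 := (((D42201).symm.trans (sb E27182 (iv F179085)))).symm
theorem E28227 : n42749 = n41614 := ((((iv F173893)).symm.trans (sb E27184 (iv F178601)))).symm
theorem E28228 : n42764 = n42204 := (((D42204).symm.trans (sb E27184 D42764))).symm
theorem E28229 : n42863 = n42207 := (((D42207).symm.trans (sb E27185 D42863))).symm
theorem E28230 : n30709 = n29844 := ((D30709).symm.trans (iv (sb E27187 (tr F142893 E27642))))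
theorem E28231 : n33901 = n30711 := ((((iv F130183)).symm.trans (iv (sb E27188 (tr F145008 E28019))))).symm
theorem E28232 : n34467 = n30711 := (E27188).trans E28231
theorem E28233 : n45509 = n44790 := (((D44790).symm.trans (sb E28232 (iv F189502)))).symm
theorem E28235 : n45521 = n44797 := (((D44797).symm.trans (sb E27192 (iv F189543)))).symm
theorem E28236 : n45524 = n44799 := (((D44799).symm.trans (sb E27192 D45524))).symm
theorem E28237 : n34562 = n28584 := (E27194).trans E27195
theorem E28238 : n43727 = n41615 := ((((iv F173898)).symm.trans (sb E28237 F192927))).symm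
theorem E28239 : n43726 = n41629 := (((D41629).symm.trans (sb E28237 (iv F192928)))).symm
theorem E28241 : n42748 = n41615 := ((((iv F173898)).symm.trans (sb E27195 (iv F178596)))).symm
theorem E28244 : n43725 = n42225 := ((((iv F176499)).symm.trans (sb E27196 (iv F192930)))).symm
theorem E28246 : n42910 = n42230 := (((D42230).symm.trans (sb E27197 (iv F179264)))).symm
theorem F202558 : act 3 n28986 = n20200 := (sb E27198 F124756)
theorem E28247 : n42835 = n42229 := ((((iv F176514)).symm.trans (sb E27198 (iv F178993)))).symm
theorem E28248 : n42840 = n42230 := (((D42230).symm.trans (sb E27198 D42840))).symm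
theorem F202559 : act 3 n28985 = n20198 := (sb E27199 (iv D29392))
theorem E28249 : n42834 = n42225 := ((((iv F176499)).symm.trans (sb E27199 D42834))).symm
theorem E28250 : n42831 = n42228 := (((D42228).symm.trans (sb E27199 (iv F178978)))).symm
theorem E28254 : n44838 = n42828 := ((D44838).symm.trans (sb E27201 (iv F178965)))
theorem E28256 : n45484 = n44839 := (((D44839).symm.trans (sb E27201 D45484))).symm
theorem E28257 : n45563 = n42828 := (((D42828).symm.trans (sb E27224 (iv F189711)))).symm
theorem E28259 : n45601 = n42829 := (((D42829).symm.trans (sb E27224 (iv F194136)))).symm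
theorem E28260 : n44847 = n42829 := (((iv F187137)).symm.trans (sb E27203 (tr (iv F189818) E28259)))
theorem F202560 : act 5 n29389 = n21105 := (sb E27205 (iv D30745))
theorem E28261 : n44846 = n42827 := ((((iv F178963)).symm.trans (sb E27205 D44846))).symm
theorem E28263 : n44850 = n42832 := ((((iv F178982)).symm.trans (sb E27208 (iv F187150)))).symm
theorem E28264 : n44849 = n42830 := ((((iv F178976)).symm.trans (sb E27209 D44849))).symm
theorem E28265 : n42756 = n23674 := (((iv F178632)).symm.trans (sb E27210 F145003))
theorem F202561 : act 0 n33881 = n23676 := (sb E27211 F145011)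
theorem F202562 : act 3 n33881 = n23639 := (sb E27211 F145012)
theorem F202563 : act 0 n29384 = n23234 := (sb E27212 F142597)
theorem F202564 : act 2 n29384 = n23197 := (sb E27212 (iv D33823))
theorem F202565 : act 0 n29451 = n23235 := (sb E27213 F142602)
theorem E28267 : n44824 = n42893 := ((((iv F179216)).symm.trans (sb E27213 (iv F187055)))).symm
theorem F202566 : act 4 n29451 = n23197 := (sb E27213 (iv D33824))
theorem F202567 : act 8 n33825 = n23676 := (sb E27214 (iv D34524))
theorem E28272 : n45476 = n42923 := (((D42923).symm.trans (sb E27219 D45476))).symm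
theorem F202568 : act 1 n33825 = n23639 := (sb E27220 F144888)
theorem F202569 : act 4 n33825 = n42923 := (sb E27220 (tr (iv F189378) E28272))
theorem F202570 : act 3 n14896 = n20196 := (sb E27222 (iv D29387))
theorem E28275 : n42823 = n21686 := ((((iv F93129)).symm.trans (sb E27222 D42823))).symm
theorem E28276 : n46068 = n42825 := (((D42825).symm.trans (sb E27223 (iv F191526)))).symm
theorem E28277 : n46074 = n42826 := (((D42826).symm.trans (sb E27223 (iv F191543)))).symm
theorem F202571 : act 3 n14044 = n12736 := (sb E27225 F71217)
theorem F202572 : act 1 n16354 = n21689 := (sb E27230 F133251)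
theorem E28278 : n46028 = n23818 := (((D23818).symm.trans (sb E27230 (iv F191386)))).symm
theorem E28279 : n45549 = n23805 := ((((iv F101759)).symm.trans (sb E27230 (iv F189666)))).symm
theorem F202573 : act 3 n31608 = n23256 := (sb E27232 F142902)
theorem E28280 : n45584 = n44881 := (((iv F189765)).symm.trans (sb E27233 (iv F187273)))
theorem F202574 : act 5 n31270 = n23235 := (sb E27233 (iv D33879))
theorem F202575 : act 2 n29841 = n23244 := (sb E27234 F142872)
theorem E28281 : n29841 = n16455 := ((((iv F71595)).symm.trans (iv (sb E27234 (tr (iv D33891) E27481))))).symm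
theorem F202576 : act 2 n29465 = n23235 := (sb E27235 F142818)
theorem F202577 : act 4 n29465 = n23234 := (sb E27235 (iv D33877))
theorem F202578 : act 3 n13878 = n11282 := (sb E27236 F71324)
theorem F202579 : act 0 n11468 = n14478 := (sb E27239 F90719)
theorem E28284 : n14463 = n7909 := (((F50838).symm.trans (sb E27239 (iv D21045)))).symm
theorem E28285 : n30655 = n15195 := ((((iv F66379)).symm.trans (sb E27239 D30655))).symm
theorem F202580 : act 9 n11468 = n14507 := (sb E27239 F90724)
theorem F202581 : act 0 n5463 = n6871 := (sb E27240 F44582)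
theorem E28286 : n14466 = n7202 := ((((iv F32796)).symm.trans (sb E27240 D14466))).symm
theorem F202582 : act 9 n5463 = n6884 := (sb E27240 F44585)
theorem F202583 : act 0 n10451 = n14482 := (sb E27241 F90738)
theorem E28288 : n30660 = n15196 := (((D15196).symm.trans (sb E27241 D30660))).symm
theorem F202584 : act 0 n10387 = n14386 := (sb E27242 F90209)
theorem E28290 : n30457 = n15103 := (((D15103).symm.trans (sb E27242 D30457))).symm
theorem F202585 : act 0 n21987 = n30480 := (sb E27244 F185488)
theorem F202586 : act 8 n21987 = n30524 := (sb E27244 F185492)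
theorem E28296 : n31971 = n30476 := (((D30476).symm.trans (sb E27247 (iv F134963)))).symm
theorem E28298 : n15161 = n14479 := (((D14479).symm.trans (sb E27248 (iv F66232)))).symm
theorem E28299 : n32149 = n30688 := (((D30688).symm.trans (sb E27249 (iv F135666)))).symm
theorem E28301 : n14447 = n7184 := (((iv F63399)).symm.trans (sb E27250 (iv D10428)))
theorem F202587 : act 1 n10427 = n14454 := (sb E27251 F90607)
theorem F202588 : act 3 n10427 = n14482 := (sb E27251 F90608)
theorem E28304 : n30611 = n15153 := ((((iv F66197)).symm.trans (sb E27251 (iv F129781)))).symm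
theorem E28305 : n30616 = n15160 := (((D15160).symm.trans (sb E27251 D30616))).symm
theorem F202589 : act 1 n10367 = n14368 := (sb E27253 F90130)
theorem F202590 : act 3 n10367 = n14386 := (sb E27253 F90131)
theorem E28307 : n30424 = n15068 := ((((iv F65848)).symm.trans (sb E27253 (iv F129080)))).symm
theorem E28308 : n30428 = n15073 := (((D15073).symm.trans (sb E27253 D30428))).symm
theorem F202592 : act 1 n21943 = n30436 := (sb E27257 F185316)
theorem F202593 : act 3 n21943 = n30480 := (sb E27257 F185317)
theorem E28329 : n34726 = n30734 := (((D30734).symm.trans (sb E27269 D34726))).symm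
theorem F202595 : act 8 n44488 = n31128 := (sb E27270 (iv D45418))
theorem F202596 : act 4 n44526 = n31105 := (sb E27271 (iv D45381))
theorem F202597 : act 6 n44526 = n31108 := (sb E27271 F189096)
theorem F202598 : act 8 n44526 = n31117 := (sb E27271 F189097)
theorem F202599 : act 1 n45228 = n31070 := (sb E27272 F188806)
theorem F202600 : act 3 n45228 = n31050 := (sb E27272 (iv D45295))
theorem F202601 : act 1 n21410 = n30741 := (sb E27273 F186950)
theorem F202602 : act 3 n21410 = n30717 := (sb E27273 (iv D44800))
theorem F202603 : act 0 n21439 = n30717 := (sb E27275 (iv F130208))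
theorem F202604 : act 1 n21439 = n14771 := (sb E27275 F92351)
theorem E28330 : n31301 = n31247 := (((D31247).symm.trans (sb E27275 (iv F132347)))).symm
theorem F202605 : act 8 n21439 = n14757 := (sb E27275 (iv D21482))
theorem E28331 : n31308 = n31248 := (((D31248).symm.trans (sb E27275 D31308))).symm
theorem F202606 : act 4 n45189 = n31013 := (sb E27277 (iv D45245))
theorem F202607 : act 7 n45189 = n31015 := (sb E27277 F188634)
theorem F202608 : act 1 n45246 = n31081 := (sb E27278 F188837)
theorem F202609 : act 0 n21551 = n30668 := (sb E27279 F186541)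
theorem E28332 : n30642 = n14802 := (((F92586).symm.trans (sb E27279 F186545))).symm
theorem F202610 : act 0 n10181 = n14472 := (sb E27280 F90697)
theorem E28333 : n30647 = n14803 := (((D14803).symm.trans (sb E27280 D30647))).symm
theorem F202611 : act 0 n21552 = n30675 := (sb E27281 F186566)
theorem F202612 : act 8 n21552 = n30742 := (sb E27281 F186570)
theorem F202613 : act 0 n21361 = n30467 := (sb E27282 F185444)
theorem F202614 : act 8 n21361 = n30511 := (sb E27282 F185448)
theorem E28334 : n30602 = n7008 := (((F45399).symm.trans (sb E27283 F186263))).symm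
theorem E28335 : n30676 = n14768 := (((F92419).symm.trans (sb E27284 F186730))).symm
theorem F202615 : act 1 n10161 = n14728 := (sb E27285 F90778)
theorem F202616 : act 3 n10161 = n14472 := (sb E27285 (iv D21059))
theorem E28336 : n30677 = n14773 := (((D14773).symm.trans (sb E27285 D30677))).symm
theorem F202617 : act 3 n21507 = n30675 := (sb E27286 F186733)
theorem F202618 : act 1 n21326 = n31015 := (sb E27288 F185542)
theorem F202619 : act 1 n21331 = n31016 := (sb E27289 F185545)
theorem F202620 : act 3 n21331 = n30467 := (sb E27289 F185546)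
theorem F202621 : act 0 n44420 = n31117 := (sb E27290 F188944)
theorem F202622 : act 4 n44420 = n31075 := (sb E27290 (iv D45338))
theorem F202623 : act 0 n44418 = n31127 := (sb E27291 F188972)
theorem E28337 : n31350 = n30667 := (((F185515).symm.trans (sb E27291 F188974))).symm
theorem F202624 : act 0 n44421 = n31128 := (sb E27292 F188976)
theorem F202625 : act 0 n44729 = n31398 := (sb E27293 F190277)
theorem F202626 : act 4 n44729 = n31337 := (sb E27293 (iv D45729))
theorem E28338 : n31340 = n30669 := (((F186695).symm.trans (sb E27293 F190280))).symm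
theorem F202627 : act 0 n44726 = n31415 := (sb E27294 F190333)
theorem F202628 : act 0 n44730 = n31416 := (sb E27296 F190337)
theorem F202630 : act 0 n20677 = n16720 := (sb E27300 F103714)
theorem F202631 : act 0 n11515 = n13568 := (sb E27301 F85081)
theorem E28344 : n28627 = n16726 := ((((iv F72710)).symm.trans (sb E27301 (iv F121528)))).symm
theorem E28345 : n28656 = n16721 := ((((iv F72692)).symm.trans (sb E27301 D28656))).symm
theorem F202632 : act 9 n11515 = n13574 := (sb E27301 F85085)
theorem F202633 : act 0 n11512 = n14187 := (sb E27302 F88997)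
theorem F202634 : act 2 n11512 = n14196 := (sb E27302 F195678)
theorem F202635 : act 5 n11512 = n14195 := (sb E27302 F195679)
theorem E28346 : n30026 = n16718 := ((((iv F72679)).symm.trans (sb E27302 D30026))).symm
theorem F202636 : act 9 n11512 = n14193 := (sb E27302 F89001)
theorem F202637 : act 0 n11509 = n14220 := (sb E27303 F89219)
theorem E28348 : n30098 = n16722 := (((D16722).symm.trans (sb E27303 D30098))).symm
theorem F202638 : act 0 n24016 = n30109 := (sb E27305 F183329)
theorem F202640 : act 6 n24016 = n30135 := (sb E27305 F196355)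
theorem F202641 : act 8 n24016 = n30128 := (sb E27305 F183333)
theorem F202644 : act 9 n19717 = n16729 := (sb E27309 (iv D24345))
theorem F202645 : act 6 n20646 = n16720 := (sb E27310 F103877)
theorem F202652 : act 3 n23977 = n30108 := (sb E27316 F183246)
theorem F202653 : act 1 n11491 = n14184 := (sb E27317 F88969)
theorem E28359 : n30016 = n16691 := ((((iv F72551)).symm.trans (sb E27317 (iv F127370)))).symm
theorem F202654 : act 6 n11491 = n15443 := (sb E27317 (iv F195519))
theorem F202655 : act 8 n11491 = n14188 := (sb E27317 F88973)
theorem F202664 : act 0 n24156 = n30215 := (sb E27328 F183959)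
theorem F202665 : act 2 n24156 = n30266 := (sb E27328 F197028)
theorem F202666 : act 7 n24156 = n30253 := (sb E27328 F197029)
theorem F202667 : act 9 n24156 = n30244 := (sb E27328 F183963)
theorem F202668 : act 0 n24142 = n30217 := (sb E27329 F183969)
theorem F202669 : act 2 n24142 = n30268 := (sb E27329 F197010)
theorem F202670 : act 7 n24142 = n30255 := (sb E27329 F197011)
theorem F202671 : act 0 n24143 = n30221 := (sb E27331 F183984)
theorem F202673 : act 7 n24143 = n30260 := (sb E27331 F197013)
theorem F202674 : act 8 n24143 = n30250 := (sb E27331 F183988)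
theorem F202676 : act 3 n24102 = n30220 := (sb E27332 F183862)
theorem E28371 : n29796 = n7005 := ((((iv F31954)).symm.trans (sb E27340 (iv F193576)))).symm
theorem F202682 : act 1 n21327 = n31011 := (sb E27346 F185529)
theorem F202683 : act 4 n21327 = n30463 := (sb E27346 (iv D44423))
theorem F202684 : act 1 n21328 = n31018 := (sb E27347 F185552)
theorem E28374 : n29823 = n14764 := ((((iv F64607)).symm.trans (sb E27348 F193733))).symm
theorem F202685 : act 0 n10389 = n14384 := (sb E27356 F90201)
theorem E28379 : n30454 = n15098 := ((((iv F65969)).symm.trans (sb E27356 D30454))).symm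
theorem E28380 : n28825 = n15104 := (((D15104).symm.trans (sb E27356 (iv F122392)))).symm
theorem E28381 : n30455 = n15105 := (((D15105).symm.trans (sb E27356 D30455))).symm
theorem F202686 : act 0 n10390 = n14387 := (sb E27357 F90213)
theorem F202687 : act 8 n10390 = n14406 := (sb E27357 F90216)
theorem F202688 : act 0 n21356 = n30463 := (sb E27358 F185431)
theorem F202689 : act 0 n21362 = n28831 := (sb E27359 F175489)
theorem F202690 : act 0 n21363 = n30464 := (sb E27360 F185432)
theorem F202691 : act 8 n21363 = n30508 := (sb E27360 F185435)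
theorem F202692 : act 0 n21873 = n30334 := (sb E27363 F184664)
theorem F202693 : act 0 n21879 = n28770 := (sb E27364 F175096)
theorem F202694 : act 0 n21880 = n30335 := (sb E27365 F184667)
theorem F202695 : act 8 n21880 = n30364 := (sb E27365 F184671)
theorem F202696 : act 0 n24036 = n28769 := (sb E27366 F175092)
theorem F202697 : act 9 n24036 = n28788 := (sb E27366 F175095)
theorem F202698 : act 0 n11426 = n13645 := (sb E27367 F85564)
theorem E28382 : n28824 = n16607 := (((D16607).symm.trans (sb E27367 D28824))).symm
theorem F202699 : act 9 n11426 = n13658 := (sb E27367 F85567)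
theorem F202700 : act 0 n23580 = n28830 := (sb E27368 F175485)
theorem F202701 : act 9 n23580 = n28859 := (sb E27368 F175488)
theorem F202702 : act 8 n21134 = n30719 := (sb E27370 F186476)
theorem F202703 : act 7 n44529 = n31105 := (sb E27371 F189087)
theorem F202704 : act 8 n44529 = n31114 := (sb E27371 F189088)
theorem F202705 : act 7 n44539 = n31103 := (sb E27372 F189082)
theorem F202706 : act 8 n44539 = n31102 := (sb E27372 (iv D45375))
theorem F202707 : act 7 n44540 = n31106 := (sb E27373 F189091)
theorem F202708 : act 1 n4958 = n6860 := (sb E27381 F44521)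
theorem E28390 : n14444 = n7181 := ((((iv F32700)).symm.trans (sb E27381 (iv F63388)))).symm
theorem F202709 : act 1 n10364 = n14365 := (sb E27383 F90120)
theorem F202710 : act 9 n21086 = n15964 := (sb E27386 (iv D23254))
theorem E28395 : n30638 = n16352 := (((iv F129914)).symm.trans (sb E27387 (iv D23816)))
theorem F202711 : act 0 n11246 = n14469 := (sb E27389 F90684)
theorem F202712 : act 9 n11246 = n14498 := (sb E27389 F90687)
theorem E28401 : n34531 = n16385 := (((F101113).symm.trans (sb E27394 D34531))).symm
theorem F202713 : act 7 n23635 = n16256 := (sb E27394 F101300)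
theorem E28403 : n34514 = n34462 := (((D34462).symm.trans (sb E27394 (iv F145207)))).symm
theorem E28404 : n34528 = n16386 := (((F101118).symm.trans (sb E27395 D34528))).symm
theorem F202714 : act 5 n23636 = n16256 := (sb E27395 F101293)
theorem E28406 : n34512 = n34463 := (((D34463).symm.trans (sb E27395 (iv F145200)))).symm
theorem F202715 : act 5 n11271 = n16277 := (sb E27396 F101378)
theorem E28408 : n16430 = n16392 := (((D16392).symm.trans (sb E27396 F101380))).symm
theorem F202716 : act 1 n11280 = n7790 := (sb E27397 F50133)
theorem F202717 : act 3 n11280 = n7784 := (sb E27397 (iv D11300))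
theorem F202718 : act 5 n11280 = n7786 := (sb E27397 F50134)
theorem F202719 : act 1 n11212 = n16256 := (sb E27400 F99191)
theorem E28412 : n29708 = n7797 := (((F49767).symm.trans (sb E27400 F193390))).symm
theorem E28413 : n33721 = n16314 := (((D16314).symm.trans (sb E27400 (iv F142201)))).symm
theorem E28414 : n29759 = n3389 := ((((iv F16195)).symm.trans (sb E27401 F181250))).symm
theorem E28415 : n14090 = n7077 := ((((iv F32247)).symm.trans (sb E27402 F88309))).symm
theorem E28416 : n29793 = n7081 := ((((iv F32266)).symm.trans (sb E27402 (iv F126428)))).symm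
theorem E28417 : n14077 = n3379 := ((((iv D4890)).symm.trans (sb E27402 F88312))).symm
theorem E28418 : n14146 = n7085 := (((D7085).symm.trans (sb E27402 F88313))).symm
theorem E28419 : n14075 = n7043 := ((((iv F32096)).symm.trans (sb E27402 (iv D20470)))).symm
theorem E28423 : n29792 = n14714 := ((((iv F64423)).symm.trans (sb E27408 (iv D43432)))).symm
theorem E28424 : n14046 = n7796 := ((((iv F35341)).symm.trans (sb E27410 F88039))).symm
theorem E28426 : n14037 = n7764 := ((((iv F35188)).symm.trans (sb E27410 (iv D20411)))).symm
theorem E28428 : n29719 = n16445 := ((((iv F71553)).symm.trans (sb E27414 (iv F126093)))).symm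
theorem E28429 : n14043 = n7795 := ((((iv D11315)).symm.trans (sb E27414 F88069))).symm
theorem E28430 : n16376 = n14041 := (((iv F71240)).symm.trans (sb E27414 (iv D20417)))
theorem E28431 : n29821 = n14924 := ((((iv F65242)).symm.trans (sb E27415 F180884))).symm
theorem E28432 : n29705 = n16386 := ((((iv F71292)).symm.trans (sb E27415 (iv D43301)))).symm
theorem E28433 : n16392 = n14033 := ((D16392).symm.trans (sb E27417 (iv D20406)))
theorem E28434 : n33892 = n16407 := ((((iv F198337)).symm.trans (sb E27419 (iv F142876)))).symm
theorem E28435 : n33895 = n33789 := (((D33789).symm.trans (sb E27419 D33895))).symm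
theorem F202720 : act 9 n23176 = n15957 := (sb E27419 (iv D23245))
theorem E28436 : n34700 = n33822 := (((D33822).symm.trans (sb E27420 (iv F145881)))).symm
theorem F202721 : act 0 n11240 = n15882 := (sb E27421 F99063)
theorem F202722 : act 5 n11240 = n15950 := (sb E27421 F197935)
theorem F202723 : act 7 n11240 = n15949 := (sb E27421 F197936)
theorem E28437 : n33685 = n16342 := ((((iv F71123)).symm.trans (sb E27421 D33685))).symm
theorem F202724 : act 9 n11240 = n15926 := (sb E27421 F99066)
theorem F202725 : act 3 n23231 = n16340 := (sb E27422 (iv D23799))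
theorem E28438 : n34695 = n33873 := (((D33873).symm.trans (sb E27422 D34695))).symm
theorem F202726 : act 3 n23228 = n16357 := (sb E27423 F101784)
theorem E28439 : n34696 = n33867 := (((D33867).symm.trans (sb E27423 (iv F145869)))).symm
theorem F202727 : act 3 n23230 = n16341 := (sb E27424 (iv D23801))
theorem E28440 : n34697 = n33871 := (((D33871).symm.trans (sb E27424 D34697))).symm
theorem E28442 : n34655 = n33722 := (((D33722).symm.trans (sb E27426 D34655))).symm
theorem F202728 : act 1 n10423 = n14450 := (sb E27427 F90589)
theorem E28443 : n30609 = n15151 := ((((iv F66189)).symm.trans (sb E27427 (iv F129775)))).symm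
theorem E28444 : n14072 = n7041 := (((F45213).symm.trans (sb E27428 (iv D20464)))).symm
theorem E28445 : n29790 = n14713 := (((D14713).symm.trans (sb E27428 (iv F126415)))).symm
theorem E28446 : n29783 = n14715 := (((D14715).symm.trans (sb E27428 (iv F126387)))).symm
theorem F202729 : act 0 n20485 = n14720 := (sb E27430 F92057)
theorem E28447 : n14845 = n14086 := ((((iv D20485)).symm.trans (sb E27430 F92058))).symm
theorem F202730 : act 3 n20485 = n14705 := (sb E27430 F92059)
theorem F202731 : act 4 n20485 = n16225 := (sb E27430 F92060)
theorem E28448 : n31189 = n29817 := ((((iv F126520)).symm.trans (sb E27430 D31189))).symm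
theorem E28449 : n31190 = n29820 := ((((iv F126530)).symm.trans (sb E27430 D31190))).symm
theorem E28450 : n31191 = n29449 := ((((iv F124954)).symm.trans (sb E27430 D31191))).symm
theorem E28451 : n31567 = n29399 := ((((iv F124770)).symm.trans (sb E27431 F181431))).symm
theorem E28452 : n16373 = n14042 := (((iv F71222)).symm.trans (sb E27435 F88024))
theorem E28453 : n29703 = n16385 := (((D16385).symm.trans (sb E27435 (iv F126029)))).symm
theorem E28454 : n29371 = n16387 := (((D16387).symm.trans (sb E27435 (iv F124642)))).symm
theorem F202732 : act 8 n44801 = n30787 := (sb E27439 (iv D44910))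
theorem F202733 : act 8 n21442 = n30744 := (sb E27440 (iv D44845))
theorem E28455 : n31292 = n29842 := (((iv F132317)).symm.trans (sb E27441 F193726))
theorem F202734 : act 4 n21475 = n16256 := (sb E27441 (iv D23684))
theorem E28457 : n34517 = n31296 := (((D31296).symm.trans (sb E27441 (iv F145216)))).symm
theorem F202735 : act 9 n21475 = n29822 := (sb E27441 F193727)
theorem E28458 : n34552 = n29471 := ((((iv F125036)).symm.trans (sb E27442 D34552))).symm
theorem E28459 : n31300 = n31249 := ((D31300).symm.trans (sb E27442 (iv F132158)))
theorem F202736 : act 0 n21441 = n30714 := (sb E27443 (iv F130195))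
theorem E28460 : n31302 = n31239 := ((((iv F132130)).symm.trans (sb E27443 D31302))).symm
theorem F202737 : act 8 n21441 = n14755 := (sb E27443 (iv D21479))
theorem E28461 : n31303 = n31250 := (((D31250).symm.trans (sb E27443 D31303))).symm
theorem F202738 : act 0 n21442 = n30719 := (sb E27444 (iv F130217))
theorem F202739 : act 1 n45247 = n31073 := (sb E27445 F188814)
theorem F202740 : act 8 n45247 = n31051 := (sb E27445 (iv D45298))
theorem F202741 : act 1 n45237 = n31075 := (sb E27446 F188822)
theorem F202742 : act 1 n45248 = n31076 := (sb E27447 F188824)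
theorem F202743 : act 5 n42625 = n31011 := (sb E27449 (iv D45242))
theorem F202744 : act 5 n42626 = n31018 := (sb E27450 F188656)
theorem F202745 : act 1 n45243 = n31079 := (sb E27452 F188831)
theorem F202746 : act 3 n44801 = n31203 := (sb E27454 F189567)
theorem F202747 : act 8 n44831 = n31416 := (sb E27458 (iv D45848))
theorem F202748 : act 8 n44842 = n31248 := (sb E27459 (iv D45595))
theorem F202749 : act 1 n44841 = n31196 := (sb E27460 F189388)
theorem F202750 : act 8 n44841 = n31174 := (sb E27460 (iv D45479))
theorem F202751 : act 1 n44842 = n31203 := (sb E27461 F189412)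
theorem F202752 : act 1 n21407 = n30743 := (sb E27462 F186965)
theorem F202753 : act 1 n21412 = n30744 := (sb E27463 F186969)
theorem F202754 : act 3 n21412 = n30719 := (sb E27463 F186970)
theorem E28470 : n31974 = n30478 := (((D30478).symm.trans (sb E27466 (iv F134971)))).symm
theorem E28471 : n30425 = n15069 := (((iv F129083)).symm.trans (sb E27466 (iv D21940)))
theorem F202755 : act 1 n10365 = n14366 := (sb E27468 F90123)
theorem E28473 : n30426 = n15070 := (((D15070).symm.trans (sb E27468 D30426))).symm
theorem F202756 : act 1 n10369 = n14369 := (sb E27469 F90134)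
theorem F202757 : act 3 n10369 = n14387 := (sb E27469 F90135)
theorem F202758 : act 0 n41997 = n31130 := (sb E27470 F188985)
theorem F202759 : act 0 n41998 = n31122 := (sb E27471 F188957)
theorem F202760 : act 0 n41999 = n31131 := (sb E27472 F188989)
theorem F202761 : act 0 n44422 = n31120 := (sb E27473 F188951)
theorem F202762 : act 4 n44422 = n31077 := (sb E27473 (iv D45341))
theorem F202763 : act 0 n44424 = n31123 := (sb E27474 F188959)
theorem F202764 : act 4 n44424 = n31079 := (sb E27474 F188961)
theorem E28474 : n34594 = n34516 := (((D34516).symm.trans (sb E27478 (iv F145493)))).symm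
theorem E28475 : n34602 = n34518 := (((D34518).symm.trans (sb E27478 D34602))).symm
theorem E28476 : n29721 = n16442 := ((F193457).symm.trans (sb E27479 F101484))
theorem F202765 : act 9 n23683 = n16450 := (sb E27479 (iv F198930))
theorem E28477 : n33874 = n16458 := ((D33874).symm.trans (sb E27480 F101733))
theorem E28478 : n34688 = n33875 := (((D33875).symm.trans (sb E27480 (iv F145842)))).symm
theorem F202766 : act 5 n23232 = n16341 := (sb E27480 F101734)
theorem F202767 : act 7 n23232 = n16340 := (sb E27480 F101735)
theorem E28479 : n34693 = n33876 := (((D33876).symm.trans (sb E27480 D34693))).symm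
theorem F202768 : act 2 n11323 = n15957 := (sb E27481 (iv D23243))
theorem F202769 : act 6 n11323 = n15959 := (sb E27481 F99625)
theorem E28480 : n33893 = n31374 := ((D33893).symm.trans (sb E27482 (iv F132621)))
theorem F202770 : act 7 n23244 = n16338 := (sb E27482 (iv D23795))
theorem F202771 : act 0 n23253 = n31173 := (sb E27483 F186439)
theorem F202772 : act 4 n23253 = n31102 := (sb E27483 F198695)
theorem F202773 : act 7 n23253 = n31101 := (sb E27483 F198696)
theorem F202774 : act 8 n42043 = n31131 := (sb E27489 (iv D45421))
theorem F202776 : act 4 n21844 = n30334 := (sb E27492 F184527)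
theorem F202777 : act 1 n21845 = n30307 := (sb E27493 F184530)
theorem F202778 : act 7 n11270 = n16277 := (sb E27495 F101392)
theorem E28492 : n16432 = n16391 := (((D16391).symm.trans (sb E27495 F101393))).symm
theorem F202779 : act 1 n11279 = n7791 := (sb E27496 F50137)
theorem F202780 : act 3 n11279 = n7785 := (sb E27496 (iv D11301))
theorem F202781 : act 7 n11279 = n7786 := (sb E27496 F50140)
theorem E28493 : n16375 = n14040 := (((iv F71230)).symm.trans (sb E27497 F88016))
theorem E28494 : n16391 = n14032 := ((D16391).symm.trans (sb E27497 (iv D20405)))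
theorem E28495 : n29717 = n16444 := ((((iv F71549)).symm.trans (sb E27499 (iv F126085)))).symm
theorem E28498 : n16432 = n14032 := (E28492).trans E28494
theorem E28499 : n16430 = n14033 := (E28408).trans E28433
theorem F202782 : act 6 n11288 = n15980 := (sb E27502 F99733)
theorem E28502 : n30051 = n16717 := ((D30051).symm.trans (sb E27504 (iv D24321)))
theorem E28507 : n32593 = n16716 := (((D16716).symm.trans (sb E27509 D32593))).symm
theorem F202785 : act 6 n11507 = n15452 := (sb E27509 F96063)
theorem E28510 : n14879 = n6632 := (((D6632).symm.trans (sb E27516 F93054))).symm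
theorem E28514 : n14074 = n3378 := (((F22584).symm.trans (sb E27518 F88300))).symm
theorem E28515 : n29802 = n7006 := (((D7006).symm.trans (sb E27518 D29802))).symm
theorem E28523 : n31524 = n6643 := (((D6643).symm.trans (sb E27524 D31524))).symm
theorem E28525 : n29754 = n3387 := (((D3387).symm.trans (sb E27528 (iv F126263)))).symm
theorem E28526 : n14117 = n3388 := (((D3388).symm.trans (sb E27528 F88177))).symm
theorem E28527 : n29894 = n7022 := (((D7022).symm.trans (sb E27530 F181242))).symm
theorem E28533 : n31575 = n13937 := ((((iv F61191)).symm.trans (sb E27542 F194140))).symm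
theorem E28535 : n30681 = n13940 := (((D13940).symm.trans (sb E27542 (iv F130077)))).symm
theorem F202786 : act 1 n20115 = n29229 := (sb E27544 F175600)
theorem E28536 : n14897 = n13936 := (((D13936).symm.trans (sb E27546 F93047))).symm
theorem E28537 : n30678 = n13938 := (((D13938).symm.trans (sb E27546 (iv F193958)))).symm
theorem E28538 : n28941 = n13941 := (((D13941).symm.trans (sb E27547 (iv F122856)))).symm
theorem F202787 : act 1 n9608 = n13914 := (sb E27548 F85874)
theorem F202788 : act 4 n9608 = n13691 := (sb E27548 (iv D19895))
theorem E28540 : n28942 = n13944 := (((D13944).symm.trans (sb E27548 D28942))).symm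
theorem F202789 : act 1 n20118 = n29230 := (sb E27550 F175604)
theorem F202790 : act 4 n20118 = n28837 := (sb E27550 F175607)
theorem E28541 : n14089 = n7074 := (((F45340).symm.trans (sb E27551 F88379))).symm
theorem E28542 : n29827 = n14765 := (((D14765).symm.trans (sb E27551 D29827))).symm
theorem F202791 : act 9 n10157 = n14088 := (sb E27551 (iv D20488))
theorem F202792 : act 1 n10159 = n14730 := (sb E27552 F90785)
theorem E28543 : n30672 = n14769 := (((D14769).symm.trans (sb E27552 (iv F130044)))).symm
theorem E28544 : n30679 = n14770 := (((D14770).symm.trans (sb E27552 D30679))).symm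
theorem F202793 : act 1 n10163 = n14731 := (sb E27553 F90788)
theorem F202794 : act 3 n10163 = n14474 := (sb E27553 F90789)
theorem E28546 : n14865 = n6718 := (((F43067).symm.trans (sb E27556 F92968))).symm
theorem E28548 : n31546 = n13953 := (((D13953).symm.trans (sb E27556 D31546))).symm
theorem F202795 : act 0 n9622 = n13691 := (sb E27562 F85807)
theorem E28549 : n28918 = n13964 := (((D13964).symm.trans (sb E27562 (iv F122747)))).symm
theorem E28550 : n28921 = n13965 := (((D13965).symm.trans (sb E27562 D28921))).symm
theorem F202796 : act 0 n20138 = n28834 := (sb E27564 F175502)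
theorem F202797 : act 0 n20139 = n28837 := (sb E27565 F175515)
theorem E28553 : n30643 = n14798 := (((D14798).symm.trans (sb E27570 (iv D44693)))).symm
theorem F202798 : act 0 n4971 = n6872 := (sb E27572 F44586)
theorem E28554 : n14464 = n7204 := (((D7204).symm.trans (sb E27572 (iv F63478)))).symm
theorem E28555 : n14467 = n7205 := (((D7205).symm.trans (sb E27572 D14467))).symm
theorem F202799 : act 0 n10183 = n14470 := (sb E27573 F90688)
theorem E28556 : n28915 = n14804 := (((D14804).symm.trans (sb E27573 (iv F122735)))).symm
theorem E28557 : n30644 = n14805 := (((D14805).symm.trans (sb E27573 D30644))).symm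
theorem F202800 : act 0 n10184 = n14474 := (sb E27574 F90704)
theorem F202801 : act 8 n10184 = n14503 := (sb E27574 F90708)
theorem F202802 : act 0 n4973 = n6522 := (sb E27575 F42307)
theorem E28558 : n13685 = n7206 := (((D7206).symm.trans (sb E27575 (iv F60133)))).symm
theorem E28559 : n13686 = n7207 := (((D7207).symm.trans (sb E27575 D13686))).symm
theorem F202803 : act 0 n4974 = n6873 := (sb E27576 F44590)
theorem F202804 : act 8 n4974 = n6886 := (sb E27576 F44593)
theorem F202805 : act 0 n10185 = n13690 := (sb E27577 F85803)
theorem E28560 : n28917 = n14807 := (((D14807).symm.trans (sb E27577 (iv F122744)))).symm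
theorem E28561 : n28919 = n14808 := (((D14808).symm.trans (sb E27577 D28919))).symm
theorem F202806 : act 0 n10186 = n13692 := (sb E27578 F85811)
theorem F202807 : act 8 n10186 = n13711 := (sb E27578 F85815)
theorem F202808 : act 0 n10391 = n13647 := (sb E27579 F85573)
theorem E28562 : n28827 = n15107 := (((D15107).symm.trans (sb E27579 (iv F122402)))).symm
theorem E28563 : n28828 = n15108 := (((D15108).symm.trans (sb E27579 D28828))).symm
theorem F202809 : act 0 n10392 = n13648 := (sb E27580 F85577)
theorem F202810 : act 8 n10392 = n13661 := (sb E27580 F85582)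
theorem F202811 : act 0 n21365 = n28833 := (sb E27581 F175498)
theorem F202812 : act 0 n21366 = n28835 := (sb E27582 F175506)
theorem F202813 : act 8 n21366 = n28864 := (sb E27582 F175509)
theorem F202814 : act 0 n21135 = n29389 := (sb E27587 F175976)
theorem F202815 : act 8 n21136 = n30716 := (sb E27588 F186462)
theorem F202816 : act 0 n21138 = n29391 := (sb E27589 F175988)
theorem F202817 : act 0 n21139 = n29393 := (sb E27590 F175997)
theorem F202818 : act 8 n21139 = n28969 := (sb E27590 F176002)
theorem E28564 : n8003 = n6532 := (((D6532).symm.trans (sb E27591 (iv F36253)))).symm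
theorem E28565 : n8004 = n6453 := ((((iv F29552)).symm.trans (sb E27591 D8004))).symm
theorem E28566 : n6519 = n3830 := (((iv F29860)).symm.trans (sb E27591 (iv D5532)))
theorem F202819 : act 0 n2658 = n3132 := (sb E27593 F21146)
theorem F202820 : act 9 n2658 = n3136 := (sb E27593 F21151)
theorem E28568 : n16667 = n13712 := (((D13712).symm.trans (sb E27594 (iv F72435)))).symm
theorem E28569 : n16668 = n13713 := (((D13713).symm.trans (sb E27594 D16668))).symm
theorem E28570 : n13683 = n7911 := (((iv F60125)).symm.trans (sb E27594 (iv D11474)))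
theorem E28571 : n16670 = n13714 := (((D13714).symm.trans (sb E27595 (iv F72447)))).symm
theorem E28572 : n16671 = n13715 := (((D13715).symm.trans (sb E27595 D16671))).symm
theorem E28573 : n13684 = n7914 := (((iv F60129)).symm.trans (sb E27595 (iv D11477)))
theorem E28574 : n16672 = n13535 := ((((iv F59473)).symm.trans (sb E27596 D16672))).symm
theorem F202821 : act 0 n5467 = n6521 := (sb E27597 F42302)
theorem F202822 : act 9 n5467 = n6530 := (sb E27597 F42306)
theorem F202823 : act 0 n5465 = n6870 := (sb E27601 F44577)
theorem F202824 : act 9 n5465 = n6883 := (sb E27601 F44581)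
theorem E28581 : n16842 = n6457 := ((((iv F29570)).symm.trans (sb E27603 D16842))).symm
theorem E28583 : n16843 = n6455 := ((((iv F29560)).symm.trans (sb E27604 D16843))).symm
theorem E28596 : n32408 = n13540 := ((((iv F59499)).symm.trans (sb E27613 (iv F192541)))).symm
theorem E28603 : n15164 = n14481 := ((((iv F63546)).symm.trans (sb E27620 (iv D22078)))).symm
theorem E28604 : n15157 = n14480 := (((D14480).symm.trans (sb E27621 (iv F66214)))).symm
theorem E28605 : n14448 = n7186 := (((iv F63402)).symm.trans (sb E27622 F46480))
theorem F202825 : act 1 n4959 = n6861 := (sb E27623 F44524)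
theorem F202826 : act 3 n4959 = n6872 := (sb E27623 F44525)
theorem E28606 : n14445 = n7182 := ((((iv F32704)).symm.trans (sb E27623 (iv F63391)))).symm
theorem F202827 : act 1 n4961 = n6862 := (sb E27624 F44528)
theorem F202828 : act 3 n4961 = n6873 := (sb E27624 F44529)
theorem F202829 : act 9 n19912 = n15966 := (sb E27641 (iv D23257))
theorem F202830 : act 9 n21085 = n15960 := (sb E27642 (iv D23249))
theorem E28624 : n34718 = n28973 := (((D28973).symm.trans (sb E27643 (iv F145942)))).symm
theorem E28626 : n28913 = n16354 := (((iv F122727)).symm.trans (sb E27643 (iv D23819)))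
theorem E28627 : n34728 = n28976 := (((D28976).symm.trans (sb E27644 (iv F145969)))).symm
theorem E28628 : n34729 = n28977 := (((D28977).symm.trans (sb E27644 D34729))).symm
theorem E28629 : n28914 = n16362 := (((iv F122731)).symm.trans (sb E27644 (iv D23828)))
theorem E28630 : n34730 = n28978 := (((D28978).symm.trans (sb E27645 D34730))).symm
theorem F202831 : act 0 n11248 = n13688 := (sb E27646 F85794)
theorem F202832 : act 9 n11248 = n13707 := (sb E27646 F85798)
theorem E28632 : n34732 = n28980 := (((D28980).symm.trans (sb E27647 D34732))).symm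
theorem E28633 : n28916 = n16365 := (((iv F122741)).symm.trans (sb E27647 (iv D23831)))
theorem F202833 : act 0 n11251 = n13689 := (sb E27649 F85799)
theorem F202834 : act 9 n11251 = n13708 := (sb E27649 F85802)
theorem E28636 : n31800 = n28582 := ((((iv F121313)).symm.trans (sb E27650 (iv F192537)))).symm
theorem E28637 : n31799 = n28983 := (((D28983).symm.trans (sb E27650 (iv F192530)))).symm
theorem E28638 : n31427 = n28984 := (((D28984).symm.trans (sb E27650 (iv F132767)))).symm
theorem E28639 : n31801 = n28575 := ((((iv F121280)).symm.trans (sb E27652 (iv F192553)))).symm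
theorem E28643 : n34703 = n30732 := (((D30732).symm.trans (sb E27654 (iv F145892)))).symm
theorem F202835 : act 0 n11242 = n14468 := (sb E27655 F90679)
theorem E28644 : n30639 = n16344 := ((((iv F71128)).symm.trans (sb E27655 D30639))).symm
theorem F202836 : act 9 n11242 = n14497 := (sb E27655 F90683)
theorem E28646 : n31424 = n30740 := (((D30740).symm.trans (sb E27656 (iv F132758)))).symm
theorem E28648 : n34656 = n28930 := (((D28930).symm.trans (sb E27658 (iv F145713)))).symm
theorem E28649 : n34678 = n28932 := (((D28932).symm.trans (sb E27659 D34678))).symm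
theorem E28650 : n31353 = n28933 := (((D28933).symm.trans (sb E27659 (iv F132531)))).symm
theorem E28651 : n31354 = n28935 := ((((iv F122832)).symm.trans (sb E27660 (iv D45754)))).symm
theorem E28652 : n31345 = n28934 := (((D28934).symm.trans (sb E27661 (iv F132499)))).symm
theorem E28653 : n31356 = n28936 := (((D28936).symm.trans (sb E27662 (iv F132545)))).symm
theorem E28654 : n31357 = n28938 := ((((iv F122844)).symm.trans (sb E27663 (iv D45757)))).symm
theorem E28655 : n29507 = n28937 := (((D28937).symm.trans (sb E27664 (iv F125178)))).symm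
theorem E28656 : n29508 = n28940 := ((((iv F122851)).symm.trans (sb E27666 (iv F125182)))).symm
theorem E28659 : n31331 = n30664 := (((D30664).symm.trans (sb E27671 (iv F132453)))).symm
theorem E28661 : n31346 = n30673 := ((((iv F130047)).symm.trans (sb E27673 (iv F132502)))).symm
theorem E28662 : n31343 = n30671 := (((D30671).symm.trans (sb E27674 (iv F132491)))).symm
theorem F202837 : act 3 n42051 = n29306 := (sb E27683 (iv D42707))
theorem F202838 : act 8 n42046 = n31134 := (sb E27684 (iv D45424))
theorem F202839 : act 0 n42004 = n29305 := (sb E27688 F178267)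
theorem F202840 : act 0 n42002 = n31134 := (sb E27689 F189001)
theorem F202841 : act 0 n42007 = n29306 := (sb E27690 F178271)
theorem F202842 : act 4 n42007 = n29275 := (sb E27690 F178273)
theorem F202843 : act 1 n4957 = n6859 := (sb E27693 F44516)
theorem E28679 : n14045 = n7794 := ((((iv F35332)).symm.trans (sb E27694 F88034))).symm
theorem F202844 : act 1 n11213 = n16251 := (sb E27695 F99169)
theorem F202845 : act 3 n11213 = n15883 := (sb E27695 (iv D23130))
theorem E28681 : n33725 = n16316 := (((D16316).symm.trans (sb E27695 D33725))).symm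
theorem F202846 : act 0 n21882 = n28772 := (sb E27696 F175107)
theorem F202847 : act 0 n21883 = n28773 := (sb E27697 F175112)
theorem F202848 : act 8 n21883 = n28792 := (sb E27697 F175117)
theorem F202849 : act 0 n11235 = n15883 := (sb E27700 F99067)
theorem E28682 : n33687 = n16345 := (((D16345).symm.trans (sb E27700 D33687))).symm
theorem F202850 : act 0 n5517 = n6502 := (sb E27701 F42198)
theorem E28683 : n13586 = n7982 := ((((iv F36155)).symm.trans (sb E27701 (iv F59720)))).symm
theorem E28684 : n13642 = n7985 := (((D7985).symm.trans (sb E27701 D13642))).symm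
theorem F202851 : act 9 n5517 = n6508 := (sb E27701 F42202)
theorem F202852 : act 0 n11429 = n13646 := (sb E27702 F85568)
theorem E28685 : n28826 = n16610 := (((D16610).symm.trans (sb E27702 D28826))).symm
theorem F202853 : act 9 n11429 = n13659 := (sb E27702 F85572)
theorem F202854 : act 0 n23583 = n28832 := (sb E27703 F175493)
theorem F202855 : act 9 n23583 = n28861 := (sb E27703 F175497)
theorem F202856 : act 0 n11519 = n13569 := (sb E27704 F85086)
theorem E28686 : n28657 = n16737 := (((D16737).symm.trans (sb E27704 D28657))).symm
theorem F202857 : act 9 n11519 = n13575 := (sb E27704 F85092)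
theorem F202858 : act 0 n11522 = n13617 := (sb E27705 F85381)
theorem E28687 : n28763 = n16740 := (((D16740).symm.trans (sb E27705 D28763))).symm
theorem F202859 : act 9 n11522 = n13626 := (sb E27705 F85386)
theorem F202861 : act 9 n24039 = n28790 := (sb E27706 F175106)
theorem F202862 : act 0 n42000 = n31133 := (sb E27719 F188997)
theorem F202863 : act 0 n42001 = n29304 := (sb E27720 F178262)
theorem F202864 : act 0 n42003 = n29301 := (sb E27721 F178251)
theorem F202865 : act 5 n42003 = n29271 := (sb E27721 (iv D42655))
theorem E28701 : n34898 = n33878 := (((D33878).symm.trans (sb E27723 D34898))).symm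
theorem F202866 : act 3 n23175 = n15980 := (sb E27724 F99638)
theorem E28702 : n33786 = n29358 := ((D33786).symm.trans (sb E27724 (iv F193280)))
theorem F202867 : act 9 n23175 = n15959 := (sb E27724 (iv D23247))
theorem E28703 : n33881 = n33791 := (((D33791).symm.trans (sb E27727 (iv F142836)))).symm
theorem F202868 : act 0 n23256 = n29388 := (sb E27728 F175971)
theorem F202869 : act 9 n23256 = n28964 := (sb E27728 F175975)
theorem F202870 : act 0 n23259 = n29390 := (sb E27729 F175982)
theorem F202871 : act 9 n23259 = n28966 := (sb E27729 F175987)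
theorem E28712 : n30017 = n16692 := (((iv F127374)).symm.trans (sb E27736 (iv D24285)))
theorem E28714 : n30085 = n16694 := (((iv F127690)).symm.trans (sb E27737 F103723))
theorem F202872 : act 1 n11490 = n14213 := (sb E27738 F89178)
theorem F202873 : act 3 n11490 = n14220 := (sb E27738 F89179)
theorem F202877 : act 1 n11489 = n14183 := (sb E27741 F88964)
theorem F202878 : act 0 n5515 = n6477 := (sb E27744 F42031)
theorem F202879 : act 9 n5515 = n6481 := (sb E27744 F42036)
theorem E28717 : n14150 = n1660 := ((((iv F8341)).symm.trans (sb E27748 (iv F193307)))).symm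
theorem E28719 : n6680 = n3718 := ((((iv D5379)).symm.trans (sb E27751 F43342))).symm
theorem F202880 : act 9 n5379 = n6677 := (sb E27751 (iv D9677))
theorem E28720 : n6698 = n3376 := ((((iv F16142)).symm.trans (sb E27752 F43322))).symm
theorem E28722 : n6693 = n1626 := ((((iv D2341)).symm.trans (sb E27754 F43446))).symm
theorem E28723 : n6724 = n3380 := (((D3380).symm.trans (sb E27754 F43448))).symm
theorem F202883 : act 7 n24477 = n30005 := (sb E27758 F195473)
theorem E28731 : n14067 = n3384 := ((((iv F16176)).symm.trans (sb E27765 F88188))).symm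
theorem E28732 : n14120 = n3390 := (((D3390).symm.trans (sb E27765 F88191))).symm
theorem F202885 : act 9 n13596 = n11571 := (sb E27776 (iv D16811))
theorem F202888 : act 8 n30241 = n24146 := (sb E27779 (iv D35184))
theorem E28741 : n24460 = n19753 := (((D19753).symm.trans (sb E27780 (iv F104443)))).symm
theorem E28742 : n24461 = n19754 := (((D19754).symm.trans (sb E27780 D24461))).symm
theorem E28743 : n19734 = n11573 := (((iv F85206)).symm.trans (sb E27780 (iv D16814)))
theorem E28744 : n41797 = n24165 := (((iv F174725)).symm.trans (sb E27781 (iv D35213)))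
theorem F202889 : act 0 n16599 = n19739 := (sb E27783 F121846)
theorem E28745 : n41798 = n24147 := ((((iv F103162)).symm.trans (sb E27783 D41798))).symm
theorem F202890 : act 9 n16599 = n19752 := (sb E27783 F121850)
theorem E28746 : n44034 = n24148 := (((iv F183979)).symm.trans (sb E27785 (iv D35187)))
theorem F202891 : act 0 n16589 = n20754 := (sb E27786 F128172)
theorem E28747 : n44033 = n21969 := ((((iv F94293)).symm.trans (sb E27786 D44033))).symm
theorem E28749 : n24449 = n19755 := (((D19755).symm.trans (sb E27787 (iv F104405)))).symm
theorem F202892 : act 0 n7980 = n9373 := (sb E27788 F59712)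
theorem E28750 : n19735 = n11568 := ((((iv F51288)).symm.trans (sb E27788 D19735))).symm
theorem F202893 : act 9 n7980 = n9379 := (sb E27788 F59716)
theorem E28751 : n20746 = n11569 := (((iv F89520)).symm.trans (sb E27789 (iv D16806)))
theorem F202894 : act 0 n7977 = n9828 := (sb E27790 F62660)
theorem F202895 : act 0 n16590 = n20757 := (sb E27791 F128184)
theorem F202896 : act 8 n16590 = n20776 := (sb E27791 F128187)
theorem F202898 : act 0 n14266 = n11567 := (sb E27800 F72959)
theorem E28759 : n44004 = n21932 := (((iv F183854)).symm.trans (sb E27809 (iv D31962)))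
theorem E28761 : n20733 = n11554 := (((iv F89464)).symm.trans (sb E27814 F72968))
theorem F202905 : act 1 n7967 = n9821 := (sb E27815 F62620)
theorem F202906 : act 3 n7967 = n9828 := (sb E27815 F62621)
theorem F202907 : act 1 n16561 = n20739 := (sb E27816 F128107)
theorem F202908 : act 3 n16561 = n20757 := (sb E27816 F128108)
theorem E28765 : n14066 = n7049 := ((((iv F32122)).symm.trans (sb E27828 F87945))).symm
theorem E28766 : n14020 = n7779 := (((D7779).symm.trans (sb E27828 (iv D20387)))).symm
theorem E28767 : n7037 = n6697 := (((iv F32065)).symm.trans (sb E27830 F43437))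
theorem E28768 : n7044 = n6690 := ((D7044).symm.trans (sb E27830 (iv D9696)))
theorem E28769 : n7758 = n6679 := (((iv F35155)).symm.trans (sb E27831 F43317))
theorem E28770 : n7765 = n6672 := ((D7765).symm.trans (sb E27831 (iv D9671)))
theorem E28771 : n14063 = n7047 := ((((iv F32113)).symm.trans (sb E27833 F88166))).symm
theorem E28772 : n29751 = n7055 := (((D7055).symm.trans (sb E27833 (iv F126251)))).symm
theorem E28773 : n29752 = n7056 := (((D7056).symm.trans (sb E27833 (iv F126257)))).symm
theorem E28774 : n14053 = n7057 := (((D7057).symm.trans (sb E27833 (iv D20437)))).symm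
theorem E28776 : n29747 = n14738 := (((D14738).symm.trans (sb E27836 (iv D43363)))).symm
theorem E28777 : n7050 = n6685 := ((D7050).symm.trans (sb E27837 (iv D9690)))
theorem E28778 : n14055 = n7060 := (((D7060).symm.trans (sb E27838 (iv D20440)))).symm
theorem E28779 : n7061 = n6709 := ((D7061).symm.trans (sb E27839 F43377))
theorem E28780 : n7780 = n6668 := ((D7780).symm.trans (sb E27840 F43263))
theorem F202912 : act 4 n31856 = n22652 := (sb E27847 F139322)
theorem E28784 : n6712 = n1630 := (((D1630).symm.trans (sb E27849 F43391))).symm
theorem E28786 : n6717 = n3385 := (((D3385).symm.trans (sb E27851 F43415))).symm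
theorem E28788 : n6710 = n3391 := (((D3391).symm.trans (sb E27852 (iv D9727)))).symm
theorem E28819 : n18534 = n14004 := ((D18534).symm.trans (sb E27889 (iv D20361)))
theorem E28820 : n16440 = n14004 := ((D16440).symm.trans (sb E27914 F87773))
theorem F202914 : act 0 n11308 = n8801 := (sb E27891 F56017)
theorem F202915 : act 5 n11308 = n8784 := (sb E27891 F56020)
theorem F202916 : act 8 n11308 = n8782 := (sb E27891 (iv D12755))
theorem E28822 : n29715 = n16445 := ((((iv F71553)).symm.trans (sb E27893 F180430))).symm
theorem E28824 : n18535 = n16438 := ((D18535).symm.trans (sb E27896 F101444))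
theorem F202917 : act 0 n11306 = n8802 := (sb E27897 F56023)
theorem F202918 : act 4 n11306 = n8786 := (sb E27897 F56025)
theorem F202919 : act 7 n11306 = n8784 := (sb E27897 F56027)
theorem F202920 : act 8 n11306 = n8783 := (sb E27897 (iv D12756))
theorem E28826 : n29772 = n14868 := ((((iv F65011)).symm.trans (sb E27900 F180700))).symm
theorem E28827 : n29347 = n16418 := (((D16418).symm.trans (sb E27901 (iv F124530)))).symm
theorem E28830 : n16438 = n14005 := ((E28824).symm.trans ((D18535).symm.trans (sb E27904 (iv D20362))))
theorem E28831 : n14001 = n8786 := (((D8786).symm.trans (sb E27906 (iv D20358)))).symm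
theorem E28833 : n29713 = n16442 := ((((iv F71542)).symm.trans (sb E27911 D29713))).symm
theorem E28834 : n18625 = n14039 := ((D18625).symm.trans (sb E27911 (iv D20413)))
theorem E28835 : n16433 = n14039 := (((iv F71497)).symm.trans (sb E28128 F87807))
theorem E28836 : n18535 = n14005 := (E28824).trans E28830
theorem F202921 : act 8 n11309 = n8824 := (sb E27913 (iv D12810))
theorem E28837 : n29718 = n16444 := ((((iv F71549)).symm.trans (sb E27915 F180444))).symm
theorem F202922 : act 1 n12806 = n16277 := (sb E27917 (iv D23712))
theorem E28839 : n29338 = n16419 := ((((iv F71435)).symm.trans (sb E27919 (iv F198950)))).symm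
theorem F202923 : act 1 n9675 = n7762 := (sb E27921 F49945)
theorem F202924 : act 2 n9675 = n8773 := (sb E27921 F49946)
theorem F202925 : act 0 n9668 = n7777 := (sb E27922 F50001)
theorem F202926 : act 2 n9668 = n7770 := (sb E27922 F50002)
theorem E28842 : n16393 = n13883 := ((((iv F60971)).symm.trans (sb E27922 D16393))).symm
theorem F202927 : act 8 n9668 = n7762 := (sb E27922 (iv D11272))
theorem E28843 : n29770 = n14867 := (((D14867).symm.trans (sb E27923 (iv F126333)))).symm
theorem E28844 : n29415 = n14869 := (((D14869).symm.trans (sb E27923 (iv F124837)))).symm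
theorem E28845 : n29348 = n16410 := (((D16410).symm.trans (sb E27925 (iv D42769)))).symm
theorem E28846 : n29346 = n16417 := (((D16417).symm.trans (sb E27926 (iv F124525)))).symm
theorem E28847 : n16420 = n13874 := ((D16420).symm.trans (sb E27927 F87002))
theorem E28862 : n7048 = n6684 := (((F42934).symm.trans (sb E27942 (iv D10233)))).symm
theorem E28863 : n14870 = n13903 := (((D13903).symm.trans (sb E27942 (iv F65019)))).symm
theorem E28864 : n16413 = n13875 := ((((iv F60932)).symm.trans (sb E27943 F93000))).symm
theorem E28868 : n7036 = n6695 := (((iv F32061)).symm.trans (sb E27946 F43426))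
theorem E28869 : n7042 = n6689 := ((D7042).symm.trans (sb E27946 (iv D9694)))
theorem E28870 : n14716 = n14069 := ((D14716).symm.trans (sb E27947 (iv D20459)))
theorem F202928 : act 0 n10247 = n13907 := (sb E27949 F87157)
theorem E28872 : n14052 = n7058 := ((((iv D10247)).symm.trans (sb E27949 F87158))).symm
theorem F202929 : act 3 n10247 = n13897 := (sb E27949 (iv D20201))
theorem E28873 : n29397 = n14894 := ((((iv F65118)).symm.trans (sb E27949 D29397))).symm
theorem E28874 : n29398 = n14740 := ((((iv F64517)).symm.trans (sb E27949 D29398))).symm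
theorem E28876 : n31555 = n29401 := (((D29401).symm.trans (sb E27950 (iv F133294)))).symm
theorem E28877 : n31229 = n29402 := (((D29402).symm.trans (sb E27951 (iv F132103)))).symm
theorem F202930 : act 0 n9704 = n7046 := (sb E27957 F45538)
theorem F202931 : act 4 n9704 = n7761 := (sb E27957 F45539)
theorem E28881 : n14846 = n13919 := ((((iv F61124)).symm.trans (sb E27957 D14846))).symm
theorem F202932 : act 0 n20237 = n14721 := (sb E27958 F92062)
theorem E28882 : n31192 = n29430 := ((((iv F124892)).symm.trans (sb E27958 D31192))).symm
theorem F202933 : act 4 n20237 = n16226 := (sb E27958 F92064)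
theorem E28883 : n31193 = n29452 := (((D29452).symm.trans (sb E27958 D31193))).symm
theorem E28884 : n31199 = n29423 := ((D31199).symm.trans (sb E27959 (iv D42881)))
theorem F202934 : act 1 n9676 = n7761 := (sb E27961 F49940)
theorem E28885 : n16374 = n13891 := ((((iv F61009)).symm.trans (sb E27961 D16374))).symm
theorem E28886 : n16388 = n13884 := ((D16388).symm.trans (sb E27962 (iv D20184)))
theorem E28903 : n7059 = n6708 := ((D7059).symm.trans (sb E27979 F43372))
theorem E28904 : n29749 = n14741 := (((D14741).symm.trans (sb E27980 D29749))).symm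
theorem E28908 : n31536 = n29420 := (((D29420).symm.trans (sb E27987 (iv F133220)))).symm
theorem E28909 : n31539 = n29421 := (((D29421).symm.trans (sb E27987 (iv F133232)))).symm
theorem E28910 : n31218 = n29422 := (((D29422).symm.trans (sb E27987 (iv F132064)))).symm
theorem F202935 : act 8 n21444 = n30746 := (sb E28002 (iv D44848))
theorem F202936 : act 0 n20230 = n28972 := (sb E28005 (iv F123001))
theorem E28913 : n29483 = n29366 := ((((iv F124619)).symm.trans (sb E28005 (iv F125080)))).symm
theorem F202937 : act 3 n20230 = n13935 := (sb E28005 F87385)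
theorem E28914 : n29481 = n29441 := ((((iv F124923)).symm.trans (sb E28005 (iv F125073)))).symm
theorem E28915 : n29486 = n29442 := (((D29442).symm.trans (sb E28005 D29486))).symm
theorem E28916 : n31253 = n29475 := ((((iv F125050)).symm.trans (sb E28006 (iv F132170)))).symm
theorem F202938 : act 0 n20179 = n28970 := (sb E28007 (iv F122992))
theorem E28918 : n29479 = n29365 := (((D29365).symm.trans (sb E28007 (iv F125065)))).symm
theorem F202939 : act 0 n20229 = n28968 := (sb E28008 (iv F122982))
theorem F202940 : act 3 n20229 = n13933 := (sb E28008 (iv D20256))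
theorem E28919 : n29480 = n29437 := ((((iv F124911)).symm.trans (sb E28008 D29480))).symm
theorem E28920 : n29477 = n29440 := (((D29440).symm.trans (sb E28008 (iv F125058)))).symm
theorem E28921 : n31244 = n29474 := (((D29474).symm.trans (sb E28009 (iv F132142)))).symm
theorem F202941 : act 5 n20253 = n14730 := (sb E28009 (iv D21443))
theorem F202942 : act 1 n42592 = n29272 := (sb E28012 F178166)
theorem F202943 : act 3 n42592 = n29257 := (sb E28012 F178167)
theorem F202944 : act 1 n42593 = n29275 := (sb E28013 F178184)
theorem E28924 : n29339 = n16412 := (((D16412).symm.trans (sb E28015 (iv F124492)))).symm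
theorem E28926 : n14913 = n14100 := (((F88433).symm.trans (sb E28017 F92325))).symm
theorem F202945 : act 2 n20502 = n14754 := (sb E28017 (iv D21474))
theorem E28927 : n29468 = n14911 := (((F88435).symm.trans (sb E28017 (iv F125025)))).symm
theorem E28928 : n31293 = n29845 := (((D29845).symm.trans (sb E28017 D31293))).symm
theorem E28929 : n31609 = n29469 := (((D29469).symm.trans (sb E28018 (iv F133489)))).symm
theorem E28930 : n31612 = n29470 := (((D29470).symm.trans (sb E28018 D31612))).symm
theorem F202946 : act 9 n20251 = n14896 := (sb E28018 (iv D21690))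
theorem E28931 : n31297 = n31230 := ((D31297).symm.trans (sb E28019 (iv F132106)))
theorem F202947 : act 4 n21476 = n16251 := (sb E28019 (iv D23675))
theorem E28932 : n34523 = n31298 := (((D31298).symm.trans (sb E28019 D34523))).symm
theorem F202948 : act 0 n21437 = n30715 := (sb E28020 (iv F130200))
theorem E28933 : n31304 = n31242 := ((((iv F132136)).symm.trans (sb E28020 D31304))).symm
theorem E28934 : n31306 = n31245 := (((D31245).symm.trans (sb E28020 D31306))).symm
theorem F202949 : act 0 n21444 = n30716 := (sb E28021 (iv F130203))
theorem F202950 : act 1 n42588 = n29271 := (sb E28024 F178164)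
theorem F202951 : act 1 n42591 = n29269 := (sb E28025 F178152)
theorem F202952 : act 3 n42591 = n29255 := (sb E28025 (iv D42628))
theorem F202953 : act 1 n20206 = n28985 := (sb E28030 F176420)
theorem F202954 : act 4 n20165 = n28970 := (sb E28032 (iv D42203))
theorem F202955 : act 1 n20209 = n28986 := (sb E28033 F176425)
theorem F202956 : act 4 n20209 = n28972 := (sb E28033 F176427)
theorem F202957 : act 1 n21408 = n30739 := (sb E28034 F186942)
theorem F202958 : act 4 n21408 = n30715 := (sb E28034 (iv D44798))
theorem F202959 : act 1 n21409 = n30746 := (sb E28035 F186989)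
theorem E28936 : n29725 = n16443 := ((F193459).symm.trans (sb E28050 F101487))
theorem E28938 : n34596 = n34521 := (((D34521).symm.trans (sb E28050 D34596))).symm
theorem F202960 : act 1 n11311 = n16258 := (sb E28052 (iv F193325))
theorem F202961 : act 9 n11311 = n14044 := (sb E28052 (iv D20421))
theorem E28950 : n3364 = n3203 := (((D3203).symm.trans (sb E28061 (iv D4868)))).symm
theorem E28951 : n3708 = n3196 := ((((iv F15329)).symm.trans (sb E28061 F22714))).symm
theorem E28952 : n3359 = n3207 := ((D3359).symm.trans (sb E28063 F21675))
theorem E28953 : n3361 = n3205 := ((D3361).symm.trans (sb E28063 (iv D4627)))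
theorem F202962 : act 0 n4630 = n3363 := (sb E28064 F22661)
theorem F202963 : act 2 n4630 = n3360 := (sb E28064 F22662)
theorem F202964 : act 3 n4630 = n3699 := (sb E28064 F22663)
theorem F202965 : act 0 n4626 = n3367 := (sb E28065 F22679)
theorem F202966 : act 8 n4626 = n3360 := (sb E28065 (iv D4862))
theorem E28959 : n3700 = n3197 := (((D3197).symm.trans (sb E28071 (iv D5357)))).symm
theorem E28960 : n3368 = n3214 := ((D3368).symm.trans (sb E28073 F21653))
theorem F202967 : act 2 n4623 = n3367 := (sb E28074 F22707)
theorem F202968 : act 8 n4623 = n3363 := (sb E28074 (iv D4867))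
theorem F202969 : act 1 n4639 = n3374 := (sb E28075 F22735)
theorem F202970 : act 9 n4639 = n3367 := (sb E28075 (iv D4874))
theorem E28974 : n3698 = n3200 := ((((iv F15346)).symm.trans (sb E28088 F22657))).symm
theorem E28976 : n4182 = n3193 := ((((iv F15306)).symm.trans (sb E28089 F24819))).symm
theorem E28987 : n31476 = n13926 := (((D13926).symm.trans (sb E28103 (iv D45928)))).symm
theorem F202971 : act 1 n4619 = n3699 := (sb E28116 F24813)
theorem F202972 : act 2 n4619 = n4181 := (sb E28116 F24814)
theorem F202973 : act 0 n4614 = n3707 := (sb E28117 F24833)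
theorem F202974 : act 2 n4614 = n3703 := (sb E28117 F24834)
theorem F202975 : act 8 n4614 = n3699 := (sb E28117 (iv D5356))
theorem F202976 : act 3 n4612 = n3707 := (sb E28119 (iv D5367))
theorem F202977 : act 0 n9568 = n7778 := (sb E28121 F50006)
theorem F202978 : act 0 n11292 = n13878 := (sb E28122 F86977)
theorem E28994 : n29332 = n16421 := (((D16421).symm.trans (sb E28122 (iv F124456)))).symm
theorem E28995 : n16422 = n13871 := ((D16422).symm.trans (sb E28122 (iv D20162)))
theorem F202979 : act 4 n9563 = n7778 := (sb E28123 (iv D11293))
theorem F202980 : act 8 n11303 = n8823 := (sb E28126 (iv D12807))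
theorem F202981 : act 0 n11517 = n13556 := (sb E28127 F84989)
theorem F202982 : act 9 n11517 = n13560 := (sb E28127 F84995)
theorem F202983 : act 1 n9650 = n8784 := (sb E28133 F55946)
theorem E29000 : n8776 = n6661 := (((F43216).symm.trans (sb E28133 F55947))).symm
theorem F202984 : act 8 n9650 = n8773 := (sb E28133 (iv D12741))
theorem E29005 : n8787 = n6659 := ((D8787).symm.trans (sb E28140 F43193))
theorem E29009 : n2144 = n1872 := (((D1872).symm.trans (sb E28145 (iv F10511)))).symm
theorem F202985 : act 9 n1303 = n1041 := (sb E28145 (iv D1494))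
theorem F202986 : act 1 n1493 = n1876 := (sb E28147 F13110)
theorem F202987 : act 8 n5033 = n4376 := (sb E28151 (iv D6321))
theorem E29017 : n4186 = n3192 := ((D4186).symm.trans (sb E28156 (iv D4605)))
theorem F202988 : act 1 n4607 = n4185 := (sb E28157 F27709)
theorem F202989 : act 8 n4607 = n4181 := (sb E28157 (iv D6052))
theorem F202990 : act 0 n4606 = n4196 := (sb E28158 F27745)
theorem F202991 : act 3 n4606 = n4185 := (sb E28158 (iv D6059))
theorem E29019 : n4197 = n3191 := ((D4197).symm.trans (sb E28159 (iv D4604)))
theorem F202992 : act 1 n3052 = n3839 := (sb E28160 F25665)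
theorem E29020 : n8008 = n4401 := (((D4401).symm.trans (sb E28160 (iv F36278)))).symm
theorem E29021 : n8011 = n4399 := ((((iv F20582)).symm.trans (sb E28160 (iv F36298)))).symm
theorem E29022 : n4402 = n3833 := ((D4402).symm.trans (sb E28160 (iv D5537)))
theorem F202993 : act 1 n3051 = n3840 := (sb E28161 F25671)
theorem E29023 : n4400 = n3834 := ((D4400).symm.trans (sb E28161 (iv D5538)))
theorem F202994 : act 9 n2660 = n2123 := (sb E28162 (iv D3053))
theorem E29027 : n4404 = n3855 := ((D4404).symm.trans (sb E28166 (iv D5569)))
theorem F202995 : act 9 n2674 = n2124 := (sb E28167 (iv D3055))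
theorem F202996 : act 0 n16660 = n21066 := (sb E28169 F129966)
theorem E29029 : n44705 = n24240 := (((D24240).symm.trans (sb E28169 D44705))).symm
theorem E29030 : n21044 = n11470 := (((F72409).symm.trans (sb E28169 (iv D30653)))).symm
theorem E29031 : n44706 = n22121 := ((((iv F94908)).symm.trans (sb E28169 D44706))).symm
theorem F202997 : act 9 n16660 = n21110 := (sb E28169 F129970)
theorem F202998 : act 0 n16604 = n20924 := (sb E28170 F129189)
theorem E29032 : n41986 = n24171 := (((D24171).symm.trans (sb E28170 (iv F175522)))).symm
theorem E29033 : n44405 = n21988 := ((((iv F94357)).symm.trans (sb E28170 D44405))).symm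
theorem F202999 : act 9 n16604 = n20953 := (sb E28170 F129192)
theorem F203000 : act 0 n15102 = n20926 := (sb E28171 F129197)
theorem E29034 : n44407 = n21978 := ((((iv F94327)).symm.trans (sb E28171 D44407))).symm
theorem E29035 : n44408 = n21989 := (((D21989).symm.trans (sb E28171 D44408))).symm
theorem F203001 : act 3 n30762 = n23821 := (sb E28172 F145916)
theorem E29036 : n44682 = n23815 := (((iv F198711)).symm.trans (sb E28172 F145917))
theorem F203002 : act 0 n16359 = n21053 := (sb E28173 F129919)
theorem E29037 : n42120 = n23824 := (((D23824).symm.trans (sb E28173 (iv F176029)))).symm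
theorem E29038 : n44688 = n21553 := ((((iv F92593)).symm.trans (sb E28173 D44688))).symm
theorem F203003 : act 9 n16359 = n21097 := (sb E28173 F129921)
theorem E29041 : n29773 = n7090 := ((((iv F32302)).symm.trans (sb E28177 (iv F126347)))).symm
theorem E29042 : n14131 = n7094 := (((D7094).symm.trans (sb E28177 F88249))).symm
theorem F203004 : act 4 n44908 = n31103 := (sb E28178 F189076)
theorem F203005 : act 8 n44908 = n31101 := (sb E28178 (iv D45373))
theorem F203006 : act 9 n30710 = n23244 := (sb E28179 (iv D33894))
theorem F203007 : act 9 n30712 = n23253 := (sb E28180 (iv D33906))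
theorem F203008 : act 8 n44796 = n30789 := (sb E28183 (iv D44913))
theorem F203009 : act 4 n44795 = n31197 := (sb E28184 (iv D45518))
theorem F203010 : act 8 n44844 = n31250 := (sb E28186 (iv D45598))
theorem F203011 : act 1 n44844 = n31198 := (sb E28187 F189395)
theorem F203012 : act 1 n44833 = n31197 := (sb E28188 F189393)
theorem F203013 : act 1 n44843 = n31195 := (sb E28189 F189385)
theorem F203014 : act 8 n44843 = n31173 := (sb E28189 (iv D45478))
theorem F203015 : act 0 n16731 = n19709 := (sb E28190 F121663)
theorem E29043 : n41733 = n24347 := (((D24347).symm.trans (sb E28190 D41733))).symm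
theorem E29044 : n41734 = n24329 := ((((iv F103902)).symm.trans (sb E28190 D41734))).symm
theorem F203016 : act 9 n16731 = n19718 := (sb E28190 F121667)
theorem F203019 : act 9 n28671 = n24344 := (sb E28193 (iv D35463))
theorem E29047 : n35617 = n28723 := (((D28723).symm.trans (sb E28195 (iv F149615)))).symm
theorem F203021 : act 9 n19750 = n16810 := (sb E28195 (iv D24456))
theorem F203022 : act 4 n20498 = n16450 := (sb E28198 F102346)
theorem E29050 : n31662 = n29833 := ((((iv F126575)).symm.trans (sb E28198 (iv F133704)))).symm
theorem E29051 : n29838 = n16449 := (((iv F126595)).symm.trans (sb E28198 (iv D23944)))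
theorem E29052 : n34887 = n29462 := ((((iv F125002)).symm.trans (sb E28198 D34887))).symm
theorem F203023 : act 0 n43466 = n31374 := (sb E28199 F199140)
theorem F203024 : act 3 n43466 = n31173 := (sb E28199 F189364)
theorem F203025 : act 4 n43466 = n31325 := (sb E28199 F199142)
theorem F203026 : act 7 n43466 = n31324 := (sb E28199 F199143)
theorem F203027 : act 9 n43466 = n31294 := (sb E28199 F189365)
theorem F203028 : act 7 n23762 = n29822 := (sb E28200 F181587)
theorem F203029 : act 1 n20418 = n16450 := (sb E28202 F199156)
theorem F203030 : act 3 n20418 = n16448 := (sb E28202 F199157)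
theorem E29053 : n34739 = n29382 := ((((iv F124695)).symm.trans (sb E28202 D34739))).symm
theorem F203031 : act 6 n23947 = n29384 := (sb E28205 F178908)
theorem F203032 : act 3 n20173 = n16404 := (sb E28207 F102015)
theorem E29056 : n23903 = n20173 := ((((iv F203032)).symm.trans (sb E28208 D23903))).symm
theorem F203033 : act 5 n16404 = n11290 := (sb E28208 F71424)
theorem F203034 : act 7 n16404 = n11289 := (sb E28208 F71425)
theorem F203035 : act 8 n16404 = n11288 := (sb E28208 (iv D16416))
theorem F203036 : act 8 n42199 = n30795 := (sb E28213 (iv D44919))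
theorem E29057 : n42189 = n21708 := ((D42189).symm.trans (sb E28215 F133494))
theorem E29058 : n46124 = n42190 := (((D42190).symm.trans (sb E28215 (iv F191724)))).symm
theorem E29059 : n46127 = n42191 := (((D42191).symm.trans (sb E28215 D46127))).symm
theorem F203037 : act 9 n28963 = n21689 := (sb E28215 (iv D31611))
theorem F203038 : act 8 n42196 = n30792 := (sb E28217 (iv D44916))
theorem F203039 : act 5 n41614 = n31637 := (sb E28221 (iv D46162))
theorem F203040 : act 3 n42207 = n29018 := (sb E28223 (iv D42277))
theorem F203041 : act 5 n42201 = n29407 := (sb E28225 (iv D42858))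
theorem F203042 : act 4 n41614 = n29335 := (sb E28227 (iv D42749))
theorem F203043 : act 4 n42204 = n29345 := (sb E28228 F178670)
theorem F203044 : act 4 n42207 = n29411 := (sb E28229 F179104)
theorem F203045 : act 2 n29844 = n21085 := (sb E28230 (iv D30709))
theorem F203046 : act 4 n29844 = n23175 := (sb E28230 F130177)
theorem E29060 : n43498 = n23886 := (((iv F181686)).symm.trans (sb E28230 F198959))
theorem E29061 : n44786 = n43501 := (((D43501).symm.trans (sb E28230 D44786))).symm
theorem E29062 : n44790 = n42894 := (((D42894).symm.trans (iv (sb E28233 (tr (iv D45509) E28882))))).symm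
theorem E29064 : n44797 = n42882 := (((D42882).symm.trans (iv (sb E28235 (tr (iv D45521) E28884))))).symm
theorem F203047 : act 4 n44799 = n31201 := (sb E28236 F189555)
theorem F203048 : act 5 n41615 = n30000 := (sb E28238 (iv D43727))
theorem F203049 : act 1 n41629 = n30000 := (sb E28239 F182634)
theorem F203050 : act 4 n41629 = n29999 := (sb E28239 (iv D43726))
theorem F203051 : act 2 n41615 = n29335 := (sb E28241 (iv D42748))
theorem F203052 : act 2 n42225 = n29999 := (sb E28244 (iv D43725))
theorem F203053 : act 3 n42230 = n29442 := (sb E28246 (iv D42910))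
theorem F203054 : act 1 n42229 = n29408 := (sb E28247 F178991)
theorem F203055 : act 3 n42229 = n29393 := (sb E28247 F178992)
theorem F203056 : act 1 n42230 = n29411 := (sb E28248 F179009)
theorem F203057 : act 1 n42225 = n29407 := (sb E28249 F178988)
theorem F203058 : act 1 n42228 = n29405 := (sb E28250 F178977)
theorem F203059 : act 3 n42228 = n29391 := (sb E28250 (iv D42831))
theorem F203060 : act 0 n42828 = n30783 := (sb E28254 F187100)
theorem F203061 : act 5 n42828 = n30739 := (sb E28254 (iv D44838))
theorem F203062 : act 1 n44839 = n31201 := (sb E28256 F189405)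
theorem F203063 : act 8 n42828 = n31241 := (sb E28257 F189713)
theorem F203064 : act 0 n42829 = n30792 := (sb E28260 F187134)
theorem F203065 : act 5 n42829 = n30746 := (sb E28260 F187137)
theorem F203066 : act 0 n42827 = n30791 := (sb E28261 F187130)
theorem F203067 : act 0 n42832 = n30795 := (sb E28263 F187148)
theorem F203068 : act 0 n42830 = n30794 := (sb E28264 F187144)
theorem F203069 : act 0 n23674 = n29358 := (sb E28265 F178632)
theorem F203070 : act 0 n42893 = n30769 := (sb E28267 F187054)
theorem F203071 : act 4 n42893 = n30731 := (sb E28267 (iv D44824))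
theorem F203072 : act 8 n42893 = n30739 := (sb E28267 F187057)
theorem F203073 : act 8 n42923 = n31298 := (sb E28272 F189380)
theorem F203074 : act 3 n21686 = n29388 := (sb E28275 F178944)
theorem F203075 : act 3 n42825 = n31600 := (sb E28276 F191525)
theorem F203076 : act 3 n42826 = n31605 := (sb E28277 F191541)
theorem F203077 : act 1 n23818 = n31608 := (sb E28278 F191383)
theorem F203078 : act 1 n23805 = n31270 := (sb E28279 F189662)
theorem F203079 : act 0 n44881 = n31241 := (sb E28280 (iv D45584))
theorem F203080 : act 3 n44881 = n31270 := (sb E28280 F189765)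
theorem F203081 : act 0 n16455 = n20498 := (sb E28281 (iv D29841))
theorem F203082 : act 2 n16455 = n23244 := (sb E28281 F202575)
theorem E29068 : n43488 = n21759 := ((((iv F93423)).symm.trans (sb E28281 (iv F181648)))).symm
theorem F203083 : act 6 n16455 = n20501 := (sb E28281 F126607)
theorem E29070 : n42938 = n23951 := (((D23951).symm.trans (sb E28281 (iv F179370)))).symm
theorem F203084 : act 0 n7909 = n9966 := (sb E28284 F63471)
theorem E29071 : n21046 = n10453 := ((((iv F46577)).symm.trans (sb E28284 D21046))).symm
theorem F203085 : act 9 n7909 = n9985 := (sb E28284 F63475)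
theorem F203086 : act 0 n15195 = n21068 := (sb E28285 F129974)
theorem E29072 : n44709 = n22104 := ((((iv F94839)).symm.trans (sb E28285 D44709))).symm
theorem E29073 : n44710 = n22122 := (((D22122).symm.trans (sb E28285 D44710))).symm
theorem F203087 : act 0 n7202 = n9969 := (sb E28286 F63485)
theorem E29075 : n21050 = n10454 := (((D10454).symm.trans (sb E28286 D21050))).symm
theorem F203088 : act 0 n15196 = n21073 := (sb E28288 F129995)
theorem F203089 : act 8 n15196 = n21117 := (sb E28288 F129999)
theorem F203090 : act 0 n15103 = n20930 := (sb E28290 F129211)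
theorem F203091 : act 8 n15103 = n20959 := (sb E28290 F129215)
theorem E29082 : n44363 = n21937 := (((iv F185304)).symm.trans (sb E28296 (iv D31971)))
theorem E29083 : n22063 = n21069 := (((D21069).symm.trans (sb E28298 (iv F94670)))).symm
theorem E29085 : n44642 = n22060 := (((iv F186324)).symm.trans (sb E28299 (iv D32149)))
theorem F203092 : act 1 n7184 = n9951 := (sb E28301 F63398)
theorem E29086 : n21010 = n4965 := (((F32713).symm.trans (sb E28301 (iv F90564)))).symm
theorem F203093 : act 3 n7184 = n9969 := (sb E28301 F63399)
theorem E29087 : n21017 = n10424 := ((((iv F46453)).symm.trans (sb E28301 (iv F90595)))).symm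
theorem E29088 : n21021 = n10429 := (((D10429).symm.trans (sb E28301 D21021))).symm
theorem F203094 : act 1 n15153 = n21024 := (sb E28304 F129780)
theorem E29091 : n44639 = n22057 := ((((iv F94644)).symm.trans (sb E28304 (iv F186313)))).symm
theorem E29092 : n44643 = n22061 := (((D22061).symm.trans (sb E28304 D44643))).symm
theorem F203095 : act 1 n15160 = n21029 := (sb E28305 F129801)
theorem F203096 : act 3 n15160 = n21073 := (sb E28305 F129802)
theorem F203097 : act 1 n15068 = n20898 := (sb E28307 F129079)
theorem E29096 : n44364 = n21938 := (((D21938).symm.trans (sb E28307 D44364))).symm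
theorem F203098 : act 1 n15073 = n20902 := (sb E28308 F129093)
theorem F203099 : act 3 n15073 = n20930 := (sb E28308 F129094)
theorem E29102 : n45851 = n44829 := (((D44829).symm.trans (sb E28329 (iv F190674)))).symm
theorem F203101 : act 0 n31247 = n44794 := (sb E28330 (iv F186924))
theorem F203102 : act 1 n31247 = n21500 := (sb E28330 F132345)
theorem E29103 : n45668 = n45576 := ((((iv F189745)).symm.trans (sb E28330 D45668))).symm
theorem E29104 : n45665 = n45593 := (((D45593).symm.trans (sb E28330 (iv F190054)))).symm
theorem F203103 : act 8 n31247 = n21478 := (sb E28330 (iv D31301))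
theorem E29105 : n45669 = n45594 := (((D45594).symm.trans (sb E28330 D45669))).symm
theorem F203104 : act 0 n31248 = n44801 := (sb E28331 (iv F186954))
theorem F203105 : act 1 n31248 = n21507 := (sb E28331 F132368)
theorem F203106 : act 0 n14802 = n21055 := (sb E28332 F129927)
theorem E29106 : n44690 = n21543 := ((((iv F92566)).symm.trans (sb E28332 D44690))).symm
theorem E29107 : n44691 = n21554 := (((D21554).symm.trans (sb E28332 D44691))).symm
theorem F203107 : act 0 n14803 = n21060 := (sb E28333 F129945)
theorem F203108 : act 8 n14803 = n21104 := (sb E28333 F129948)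
theorem E29108 : n43439 = n10168 := ((((iv F45384)).symm.trans (sb E28334 (iv F193763)))).symm
theorem F203109 : act 1 n14768 = n21441 := (sb E28335 F130058)
theorem E29110 : n44732 = n21501 := (((D21501).symm.trans (sb E28335 (iv F186705)))).symm
theorem E29111 : n44742 = n21499 := ((((iv F92414)).symm.trans (sb E28335 D44742))).symm
theorem E29112 : n44743 = n21502 := (((D21502).symm.trans (sb E28335 D44743))).symm
theorem F203110 : act 1 n14773 = n21442 := (sb E28336 F130061)
theorem F203111 : act 3 n14773 = n21060 := (sb E28336 F130062)
theorem E29113 : n45734 = n44727 := (((D44727).symm.trans (sb E28337 (iv F190296)))).symm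
theorem E29114 : n45749 = n42147 := ((((iv F176158)).symm.trans (sb E28337 D45749))).symm
theorem E29115 : n45750 = n44728 := (((D44728).symm.trans (sb E28337 D45750))).symm
theorem E29116 : n45732 = n44731 := (((D44731).symm.trans (sb E28338 (iv F190288)))).symm
theorem E29117 : n45714 = n44720 := ((((iv F186663)).symm.trans (sb E28338 (iv F190228)))).symm
theorem E29118 : n45735 = n44733 := (((D44733).symm.trans (sb E28338 D45735))).symm
theorem F203114 : act 0 n16726 = n19689 := (sb E28344 F121525)
theorem F203115 : act 2 n16726 = n20644 := (sb E28344 F195796)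
theorem E29120 : n41690 = n24324 := ((((iv F103884)).symm.trans (sb E28344 D41690))).symm
theorem F203116 : act 9 n16726 = n19695 := (sb E28344 F121530)
theorem F203117 : act 0 n16721 = n19710 := (sb E28345 F121668)
theorem E29121 : n41735 = n24330 := (((D24330).symm.trans (sb E28345 D41735))).symm
theorem F203118 : act 0 n16718 = n20631 := (sb E28346 F127420)
theorem F203119 : act 2 n16718 = n20646 := (sb E28346 F195791)
theorem F203120 : act 5 n16718 = n20643 := (sb E28346 F195792)
theorem E29123 : n43768 = n24325 := (((D24325).symm.trans (sb E28346 D43768))).symm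
theorem F203121 : act 0 n16722 = n20681 := (sb E28348 F127746)
theorem F203122 : act 8 n16722 = n20694 := (sb E28348 F127749)
theorem F203128 : act 6 n16691 = n22472 := (sb E28359 (iv F195558))
theorem E29129 : n20465 = n4888 := (((F31953).symm.trans (sb E28371 F126438))).symm
theorem E29134 : n20486 = n10267 := (((F64606).symm.trans (sb E28374 F126537))).symm
theorem E29135 : n43468 = n21493 := (((D21493).symm.trans (sb E28374 (iv F181575)))).symm
theorem E29136 : n43472 = n21494 := (((D21494).symm.trans (sb E28374 (iv F181590)))).symm
theorem F203135 : act 9 n14764 = n20485 := (sb E28374 (iv D29823))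
theorem F203136 : act 0 n15098 = n20927 := (sb E28379 F129201)
theorem E29142 : n44409 = n21981 := ((((iv F94335)).symm.trans (sb E28379 D44409))).symm
theorem E29143 : n41989 = n21983 := (((D21983).symm.trans (sb E28379 (iv F175535)))).symm
theorem E29144 : n44410 = n21984 := (((D21984).symm.trans (sb E28379 D44410))).symm
theorem F203137 : act 0 n15104 = n19829 := (sb E28380 F122389)
theorem E29145 : n41988 = n21991 := (((D21991).symm.trans (sb E28380 (iv F175531)))).symm
theorem E29146 : n41990 = n21992 := (((D21992).symm.trans (sb E28380 D41990))).symm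
theorem F203138 : act 0 n15105 = n20928 := (sb E28381 F129203)
theorem F203139 : act 8 n15105 = n20957 := (sb E28381 F129206)
theorem F203140 : act 0 n16607 = n19828 := (sb E28382 F122385)
theorem E29147 : n41987 = n24174 := (((D24174).symm.trans (sb E28382 D41987))).symm
theorem F203141 : act 9 n16607 = n19847 := (sb E28382 F122388)
theorem F203142 : act 1 n7181 = n9948 := (sb E28390 F63386)
theorem E29153 : n21015 = n10422 := (((D10422).symm.trans (sb E28390 D21015))).symm
theorem F203144 : act 0 n16352 = n21051 := (sb E28395 F129910)
theorem F203145 : act 7 n16352 = n23228 := (sb E28395 F198235)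
theorem E29155 : n44684 = n23803 := ((((iv F101752)).symm.trans (sb E28395 D44684))).symm
theorem F203146 : act 9 n16352 = n21095 := (sb E28395 F129914)
theorem F203147 : act 7 n16385 = n23683 := (sb E28401 F145258)
theorem F203148 : act 3 n34462 = n23671 := (sb E28403 (iv D34514))
theorem F203149 : act 7 n34462 = n23672 := (sb E28403 F145206)
theorem F203150 : act 5 n16386 = n23683 := (sb E28404 F145250)
theorem F203151 : act 3 n34463 = n23670 := (sb E28406 (iv D34512))
theorem F203152 : act 5 n34463 = n23672 := (sb E28406 F145198)
theorem E29159 : n23904 = n20182 := ((((iv F87071)).symm.trans (sb E28499 (iv F102162)))).symm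
theorem F203153 : act 5 n14033 = n11302 := (sb E28499 F71485)
theorem E29161 : n20419 = n11312 := ((((iv F50192)).symm.trans (sb E28412 F126047))).symm
theorem F203154 : act 1 n16314 = n23672 := (sb E28413 F142199)
theorem F203155 : act 3 n16314 = n23129 := (sb E28413 (iv D33721))
theorem E29163 : n43373 = n4900 := ((((iv F22851)).symm.trans (sb E28414 (iv F181209)))).symm
theorem E29164 : n20534 = n4904 := (((D4904).symm.trans (sb E28414 F126286))).symm
theorem E29165 : n10264 = n9715 := (((iv F45768)).symm.trans (sb E28415 F61867))
theorem E29166 : n20484 = n10270 := ((((iv F45796)).symm.trans (sb E28415 (iv F88368)))).symm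
theorem E29167 : n9707 = n4885 := ((((iv D7077)).symm.trans (sb E28415 F61870))).symm
theorem E29168 : n10274 = n9756 := ((D10274).symm.trans (sb E28415 F61871))
theorem E29169 : n10215 = n9706 := (((iv F45555)).symm.trans (sb E28415 (iv D14090)))
theorem E29170 : n43427 = n10276 := ((((iv F45823)).symm.trans (sb E28416 (iv F181426)))).symm
theorem E29171 : n20564 = n10278 := (((D10278).symm.trans (sb E28416 F126431))).symm
theorem E29172 : n20463 = n10222 := ((((iv F45589)).symm.trans (sb E28416 (iv D29793)))).symm
theorem E29173 : n9745 = n4891 := (((D4891).symm.trans (sb E28417 F61821))).symm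
theorem E29174 : n20574 = n4995 := (((F32282).symm.trans (sb E28418 (iv F88749)))).symm
theorem E29175 : n10283 = n9743 := ((D10283).symm.trans (sb E28418 (iv D14146)))
theorem E29176 : n10226 = n9695 := ((D10226).symm.trans (sb E28419 (iv D14075)))
theorem E29182 : n43414 = n21420 := (((D21420).symm.trans (sb E28423 (iv F181375)))).symm
theorem E29183 : n9679 = n5380 := ((((iv D7796)).symm.trans (sb E28424 F61670))).symm
theorem E29184 : n11263 = n9678 := (((iv F49961)).symm.trans (sb E28424 (iv D14046)))
theorem E29185 : n11274 = n9670 := ((D11274).symm.trans (sb E28426 (iv D14037)))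
theorem E29186 : n43319 = n23838 := ((((iv F199160)).symm.trans (sb E28428 (iv F180954)))).symm
theorem E29187 : n21714 = n20497 := (((iv F93237)).symm.trans (sb E28428 F126094))
theorem E29189 : n23839 = n20416 := (((iv F101871)).symm.trans (sb E28428 (iv D29719)))
theorem F203156 : act 9 n7795 = n9675 := (sb E28429 (iv D14043))
theorem F203157 : act 1 n14041 = n11271 := (sb E28430 F71236)
theorem F203158 : act 2 n14041 = n12740 := (sb E28430 F71237)
theorem F203159 : act 5 n14041 = n12806 := (sb E28430 (iv F198790))
theorem F203160 : act 9 n14041 = n11315 := (sb E28430 F71240)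
theorem E29191 : n43465 = n21727 := ((((iv F93298)).symm.trans (sb E28431 (iv F181567)))).symm
theorem E29192 : n43473 = n21729 := (((D21729).symm.trans (sb E28431 D43473))).symm
theorem E29193 : n21615 = n20483 := (((iv F92845)).symm.trans (sb E28431 (iv D29821)))
theorem E29194 : n42801 = n23860 := (((D23860).symm.trans (sb E28432 (iv F178840)))).symm
theorem F203161 : act 0 n14033 = n11290 := (sb E28433 F71314)
theorem F203162 : act 2 n14033 = n11280 := (sb E28433 F71315)
theorem E29195 : n23869 = n20182 := ((((iv F87071)).symm.trans (sb E28433 D23869))).symm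
theorem F203163 : act 8 n14033 = n11271 := (sb E28433 (iv D16392))
theorem F203164 : act 0 n16407 = n23683 := (sb E28434 F202545)
theorem F203165 : act 0 n33789 = n23672 := (sb E28435 F202546)
theorem F203166 : act 3 n33789 = n23637 := (sb E28435 F202547)
theorem F203167 : act 8 n33822 = n23804 := (sb E28436 (iv D34700))
theorem F203168 : act 0 n16342 = n23129 := (sb E28437 F142055)
theorem F203169 : act 5 n16342 = n23231 := (sb E28437 F198276)
theorem F203170 : act 7 n16342 = n23230 := (sb E28437 F198277)
theorem F203171 : act 3 n33873 = n23800 := (sb E28438 F145863)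
theorem F203172 : act 5 n33873 = n23804 := (sb E28438 F145864)
theorem F203173 : act 3 n33867 = n45790 := (sb E28439 (iv F190506))
theorem F203174 : act 7 n33867 = n23803 := (sb E28439 F145868)
theorem F203175 : act 3 n33871 = n23802 := (sb E28440 F145871)
theorem F203176 : act 7 n33871 = n23804 := (sb E28440 F145873)
theorem F203177 : act 0 n33722 = n23804 := (sb E28442 F145705)
theorem F203178 : act 3 n33722 = n23767 := (sb E28442 F145707)
theorem F203179 : act 1 n15151 = n21022 := (sb E28443 F129773)
theorem E29198 : n10213 = n9703 := (((iv F45543)).symm.trans (sb E28444 F61796))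
theorem E29199 : n20462 = n10221 := (((D10221).symm.trans (sb E28444 (iv F88279)))).symm
theorem E29200 : n10223 = n9693 := ((D10223).symm.trans (sb E28444 (iv D14072)))
theorem E29202 : n21657 = n20210 := ((((iv F87199)).symm.trans (sb E28445 F126416))).symm
theorem E29203 : n43412 = n21419 := (((D21419).symm.trans (sb E28445 (iv F181367)))).symm
theorem E29204 : n21421 = n20458 := ((D21421).symm.trans (sb E28446 (iv D29783)))
theorem F203180 : act 0 n14086 = n10228 := (sb E28447 F64906)
theorem F203181 : act 4 n14086 = n11268 := (sb E28447 F64908)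
theorem E29207 : n21614 = n20481 := ((((iv F88357)).symm.trans (sb E28447 D21614))).symm
theorem E29208 : n21616 = n20235 := ((((iv F87290)).symm.trans (sb E28447 D21616))).symm
theorem F203182 : act 0 n29817 = n21426 := (sb E28448 F131937)
theorem F203183 : act 3 n29817 = n21405 := (sb E28448 F131939)
theorem E29209 : n45502 = n43467 := (((D43467).symm.trans (sb E28448 D45502))).symm
theorem E29210 : n42841 = n21681 := (((F126521).symm.trans (sb E28448 (iv F179016)))).symm
theorem E29211 : n45503 = n43463 := ((((iv F181561)).symm.trans (sb E28448 D45503))).symm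
theorem E29212 : n45504 = n42914 := ((((iv F179280)).symm.trans (sb E28448 D45504))).symm
theorem F203184 : act 0 n29820 = n21427 := (sb E28449 F131941)
theorem F203185 : act 1 n29820 = n23762 := (sb E28449 (iv F198697))
theorem F203186 : act 3 n29820 = n21406 := (sb E28449 F131943)
theorem F203187 : act 4 n29820 = n23636 := (sb E28449 F131944)
theorem E29213 : n45505 = n42917 := ((((iv F179290)).symm.trans (sb E28449 D45505))).symm
theorem F203188 : act 0 n29449 = n21428 := (sb E28450 F131947)
theorem E29214 : n45506 = n42890 := ((((iv F179210)).symm.trans (sb E28450 D45506))).symm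
theorem F203189 : act 4 n29449 = n23637 := (sb E28450 F131949)
theorem E29215 : n45507 = n42920 := (((D42920).symm.trans (sb E28450 D45507))).symm
theorem E29217 : n46065 = n42846 := (((D42846).symm.trans (sb E28451 (iv F191516)))).symm
theorem F203190 : act 1 n14042 = n11268 := (sb E28452 F71222)
theorem E29220 : n23838 = n20414 := ((((iv F88055)).symm.trans (sb E28452 D23838))).symm
theorem E29221 : n23840 = n20191 := ((((iv F87113)).symm.trans (sb E28452 D23840))).symm
theorem E29223 : n42799 = n23859 := (((D23859).symm.trans (sb E28453 (iv F178831)))).symm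
theorem E29224 : n23861 = n20183 := ((D23861).symm.trans (sb E28454 (iv D29371)))
theorem E29226 : n21711 = n20499 := (((F126608).symm.trans (sb E28455 F132316))).symm
theorem F203191 : act 2 n29842 = n21475 := (sb E28455 F132317)
theorem E29227 : n45650 = n43490 := ((((iv F181654)).symm.trans (sb E28455 D45650))).symm
theorem E29228 : n43496 = n23857 := (((iv F181678)).symm.trans (sb E28455 (iv F199147)))
theorem E29229 : n45652 = n43499 := (((D43499).symm.trans (sb E28455 D45652))).symm
theorem E29230 : n45659 = n45561 := ((D45659).symm.trans (sb E28457 (iv F189706)))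
theorem F203192 : act 4 n31296 = n23672 := (sb E28457 (iv D34517))
theorem E29231 : n45596 = n42952 := (((D42952).symm.trans (sb E28458 (iv F189802)))).symm
theorem F203193 : act 0 n31249 = n44793 := (sb E28459 (iv F186920))
theorem E29232 : n45666 = n45581 := ((((iv F189759)).symm.trans (sb E28459 D45666))).symm
theorem F203194 : act 8 n31249 = n21477 := (sb E28459 (iv D31300))
theorem E29233 : n45667 = n45597 := (((D45597).symm.trans (sb E28459 D45667))).symm
theorem F203195 : act 0 n31239 = n44795 := (sb E28460 (iv F186930))
theorem E29235 : n45672 = n45582 := (((D45582).symm.trans (sb E28460 D45672))).symm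
theorem F203196 : act 0 n31250 = n44796 := (sb E28461 (iv F186933))
theorem E29236 : n44365 = n21939 := (((iv F185310)).symm.trans (sb E28470 (iv D31974)))
theorem F203197 : act 1 n15069 = n20899 := (sb E28471 F129082)
theorem F203198 : act 4 n15069 = n20927 := (sb E28471 F129083)
theorem E29237 : n44366 = n21941 := (((D21941).symm.trans (sb E28471 D44366))).symm
theorem F203199 : act 1 n15070 = n20900 := (sb E28473 F129085)
theorem F203200 : act 0 n34516 = n23889 := (sb E28474 F198956)
theorem F203201 : act 1 n34516 = n23935 := (sb E28474 F145492)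
theorem F203202 : act 4 n34516 = n43499 := (sb E28474 (tr (iv F190014) E29229))
theorem F203203 : act 5 n34516 = n23860 := (sb E28474 F198957)
theorem F203204 : act 7 n34516 = n23859 := (sb E28474 F198958)
theorem F203205 : act 1 n34518 = n23767 := (sb E28475 F145517)
theorem F203206 : act 4 n34518 = n45660 := (sb E28475 (iv F190038))
theorem F203207 : act 1 n16442 = n23683 := (sb E28476 (iv F193457))
theorem E29239 : n43319 = n20414 := (E29186).trans E29220
theorem F203208 : act 9 n16442 = n20418 := (sb E28476 (iv D29721))
theorem F203209 : act 2 n16458 = n23232 := (sb E28477 (iv D33874))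
theorem F203210 : act 6 n16458 = n23234 := (sb E28477 F142809)
theorem F203211 : act 2 n33875 = n23951 := (sb E28478 F145841)
theorem F203212 : act 5 n33875 = n45780 := (sb E28478 (iv F190481))
theorem F203213 : act 7 n33875 = n23796 := (sb E28478 F145843)
theorem F203214 : act 2 n33876 = n23955 := (sb E28479 F145856)
theorem F203215 : act 5 n33876 = n23802 := (sb E28479 F145857)
theorem F203216 : act 7 n33876 = n23800 := (sb E28479 F145858)
theorem F203217 : act 3 n31374 = n23253 := (sb E28480 F142880)
theorem F203218 : act 5 n31374 = n23244 := (sb E28480 (iv D33893))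
theorem E29242 : n23906 = n20181 := ((((iv F87067)).symm.trans (sb E28498 (iv F102170)))).symm
theorem F203219 : act 7 n14032 = n11302 := (sb E28498 F71495)
theorem F203220 : act 1 n14040 = n11270 := (sb E28493 F71230)
theorem F203221 : act 2 n14040 = n12739 := (sb E28493 F71231)
theorem F203222 : act 7 n14040 = n12806 := (sb E28493 F198966)
theorem F203223 : act 9 n14040 = n11314 := (sb E28493 F71234)
theorem F203224 : act 0 n14032 = n11289 := (sb E28494 F71308)
theorem F203225 : act 2 n14032 = n11279 := (sb E28494 F71309)
theorem E29244 : n23868 = n20181 := ((((iv F87067)).symm.trans (sb E28494 D23868))).symm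
theorem F203226 : act 8 n14032 = n11270 := (sb E28494 (iv D16391))
theorem E29245 : n43316 = n23938 := (((D23938).symm.trans (sb E28495 (iv F180943)))).symm
theorem F203227 : act 3 n16717 = n20643 := (sb E28502 (iv D30051))
theorem F203230 : act 6 n16716 = n22486 := (sb E28507 F137640)
theorem E29251 : n10234 = n4641 := (((F30357).symm.trans (sb E28510 F65051))).symm
theorem E29252 : n21663 = n9610 := (((D9610).symm.trans (sb E28510 (iv F93039)))).symm
theorem E29253 : n21669 = n9611 := (((D9611).symm.trans (sb E28510 D21669))).symm
theorem E29257 : n9705 = n4884 := ((((iv F22785)).symm.trans (sb E28514 F61803))).symm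
theorem E29258 : n9742 = n4889 := (((D4889).symm.trans (sb E28514 F61807))).symm
theorem E29259 : n20572 = n10169 := (((D10169).symm.trans (sb E28515 F126459))).symm
theorem E29272 : n21744 = n9627 := (((D9627).symm.trans (sb E28523 F133161))).symm
theorem E29276 : n43371 = n4899 := (((D4899).symm.trans (sb E28525 (iv F181201)))).symm
theorem E29277 : n20529 = n4901 := (((D4901).symm.trans (sb E28525 F126264))).symm
theorem E29278 : n20532 = n4902 := (((D4902).symm.trans (sb E28526 (iv F88572)))).symm
theorem E29279 : n9723 = n4903 := (((D4903).symm.trans (sb E28526 (iv D14117)))).symm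
theorem E29284 : n43560 = n10194 := (((D10194).symm.trans (sb E28527 (iv F181966)))).symm
theorem E29289 : n21687 = n20261 := ((((iv F87389)).symm.trans (sb E28533 F133361))).symm
theorem E29293 : n42161 = n20269 := (((D20269).symm.trans (sb E28535 (iv F176216)))).symm
theorem E29295 : n10248 = n9721 := (((F61185).symm.trans (sb E28536 F65126))).symm
theorem E29296 : n21691 = n20262 := (((D20262).symm.trans (sb E28536 D21691))).symm
theorem F203234 : act 9 n13936 = n10247 := (sb E28536 (iv D14897))
theorem E29297 : n44737 = n20266 := (((D20266).symm.trans (sb E28537 (iv F186719)))).symm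
theorem F203235 : act 1 n13941 = n20229 := (sb E28538 F122854)
theorem E29299 : n42158 = n20271 := (((D20271).symm.trans (sb E28538 (iv F176201)))).symm
theorem E29300 : n42162 = n20272 := (((D20272).symm.trans (sb E28538 D42162))).symm
theorem F203236 : act 1 n13944 = n20230 := (sb E28540 F122859)
theorem F203237 : act 4 n13944 = n19896 := (sb E28540 F122862)
theorem E29301 : n42163 = n20275 := (((D20275).symm.trans (sb E28540 D42163))).symm
theorem E29302 : n10261 = n9714 := (((iv F45755)).symm.trans (sb E28541 F61863))
theorem E29303 : n20489 = n10268 := (((D10268).symm.trans (sb E28541 D20489))).symm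
theorem F203238 : act 9 n7074 = n9704 := (sb E28541 (iv D14089))
theorem E29304 : n43479 = n21496 := (((D21496).symm.trans (sb E28542 D43479))).symm
theorem E29305 : n42924 = n21497 := (((D21497).symm.trans (sb E28542 (iv F179315)))).symm
theorem F203239 : act 1 n14769 = n21437 := (sb E28543 F130043)
theorem E29306 : n44735 = n21503 := (((D21503).symm.trans (sb E28543 (iv F186713)))).symm
theorem F203240 : act 4 n14769 = n21056 := (sb E28543 (iv D30672))
theorem E29307 : n44738 = n21505 := (((D21505).symm.trans (sb E28543 D44738))).symm
theorem F203241 : act 1 n14770 = n21444 := (sb E28544 F130068)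
theorem E29310 : n21642 = n9736 := (((D9736).symm.trans (sb E28546 (iv F92963)))).symm
theorem E29311 : n21645 = n9737 := (((D9737).symm.trans (sb E28546 D21645))).symm
theorem E29315 : n46033 = n20287 := (((D20287).symm.trans (sb E28548 D46033))).symm
theorem F203242 : act 0 n13964 = n19893 := (sb E28549 F122745)
theorem E29317 : n42128 = n20301 := ((((iv F87539)).symm.trans (sb E28549 D42128))).symm
theorem E29318 : n42126 = n20304 := (((D20304).symm.trans (sb E28549 (iv F176055)))).symm
theorem E29319 : n42129 = n20305 := (((D20305).symm.trans (sb E28549 D42129))).symm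
theorem F203243 : act 0 n13965 = n19896 := (sb E28550 F122760)
theorem E29320 : n42132 = n20306 := (((D20306).symm.trans (sb E28550 D42132))).symm
theorem F203244 : act 0 n14798 = n21056 := (sb E28553 F129931)
theorem E29325 : n44692 = n21546 := ((((iv F92572)).symm.trans (sb E28553 D44692))).symm
theorem E29326 : n42123 = n21548 := (((D21548).symm.trans (sb E28553 (iv F176041)))).symm
theorem E29327 : n44685 = n21534 := ((((iv F92547)).symm.trans (sb E28553 (iv F186528)))).symm
theorem E29328 : n44694 = n21549 := (((D21549).symm.trans (sb E28553 D44694))).symm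
theorem F203245 : act 0 n7204 = n9967 := (sb E28554 F63476)
theorem E29329 : n21047 = n10449 := ((((iv F46559)).symm.trans (sb E28554 D21047))).symm
theorem E29330 : n19884 = n10455 := (((D10455).symm.trans (sb E28554 (iv F85824)))).symm
theorem E29331 : n21048 = n10456 := (((D10456).symm.trans (sb E28554 D21048))).symm
theorem F203246 : act 0 n7205 = n9970 := (sb E28555 F63488)
theorem F203247 : act 8 n7205 = n9989 := (sb E28555 F63492)
theorem F203248 : act 0 n14804 = n19890 := (sb E28556 F122732)
theorem E29332 : n42122 = n21556 := (((D21556).symm.trans (sb E28556 (iv F176039)))).symm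
theorem E29333 : n42124 = n21557 := (((D21557).symm.trans (sb E28556 D42124))).symm
theorem F203249 : act 0 n14805 = n21057 := (sb E28557 F129933)
theorem F203250 : act 8 n14805 = n21101 := (sb E28557 F129937)
theorem F203251 : act 0 n7206 = n9443 := (sb E28558 F60130)
theorem E29334 : n19886 = n10458 := (((D10458).symm.trans (sb E28558 (iv F85834)))).symm
theorem E29335 : n19887 = n10459 := (((D10459).symm.trans (sb E28558 D19887))).symm
theorem F203252 : act 0 n7207 = n9444 := (sb E28559 F60135)
theorem F203253 : act 8 n7207 = n9457 := (sb E28559 F60140)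
theorem F203254 : act 0 n14807 = n19892 := (sb E28560 F122742)
theorem E29336 : n42125 = n21559 := (((D21559).symm.trans (sb E28560 (iv F176052)))).symm
theorem E29337 : n42127 = n21560 := (((D21560).symm.trans (sb E28560 D42127))).symm
theorem F203255 : act 0 n14808 = n19894 := (sb E28561 F122750)
theorem F203256 : act 8 n14808 = n19923 := (sb E28561 F122754)
theorem F203257 : act 0 n15107 = n19831 := (sb E28562 F122398)
theorem E29338 : n41991 = n21994 := (((D21994).symm.trans (sb E28562 (iv F175545)))).symm
theorem E29339 : n41992 = n21995 := (((D21995).symm.trans (sb E28562 D41992))).symm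
theorem F203258 : act 0 n15108 = n19832 := (sb E28563 F122403)
theorem F203259 : act 8 n15108 = n19851 := (sb E28563 F122407)
theorem E29340 : n11600 = n9458 := (((D9458).symm.trans (sb E28564 (iv F51424)))).symm
theorem E29341 : n11601 = n9339 := ((((iv F41872)).symm.trans (sb E28564 D11601))).symm
theorem E29342 : n9438 = n5531 := (((iv F42317)).symm.trans (sb E28564 (iv D8003)))
theorem E29343 : n11602 = n9337 := ((((iv F41860)).symm.trans (sb E28565 D11602))).symm
theorem F203260 : act 0 n3830 = n4516 := (sb E28566 F29854)
theorem F203261 : act 9 n3830 = n4522 := (sb E28566 F29860)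
theorem E29345 : n24247 = n19927 := (((D19927).symm.trans (sb E28568 (iv F103527)))).symm
theorem E29347 : n19883 = n11473 := (((iv F85820)).symm.trans (sb E28568 (iv D16667)))
theorem E29348 : n24249 = n19929 := (((D19929).symm.trans (sb E28569 D24249))).symm
theorem F203262 : act 0 n7911 = n9441 := (sb E28570 F60120)
theorem F203263 : act 9 n7911 = n9454 := (sb E28570 F60125)
theorem E29351 : n19885 = n11476 := (((iv F85830)).symm.trans (sb E28571 (iv D16670)))
theorem E29352 : n24252 = n19662 := ((((iv F84869)).symm.trans (sb E28572 D24252))).symm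
theorem F203264 : act 0 n7914 = n9442 := (sb E28573 F60126)
theorem F203265 : act 9 n7914 = n9455 := (sb E28573 F60129)
theorem E29354 : n22252 = n19656 := ((((iv F84840)).symm.trans (sb E28574 F192543))).symm
theorem E29363 : n24495 = n9343 := ((((iv F41889)).symm.trans (sb E28581 D24495))).symm
theorem E29364 : n22294 = n9340 := ((((iv F41875)).symm.trans (sb E28583 F192550))).symm
theorem E29372 : n22250 = n19666 := ((((iv F84889)).symm.trans (sb E28596 (iv D32408)))).symm
theorem E29373 : n22069 = n21072 := ((((iv F90822)).symm.trans (sb E28603 (iv F94695)))).symm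
theorem E29374 : n22066 = n21071 := (((D21071).symm.trans (sb E28604 (iv F94681)))).symm
theorem E29375 : n21018 = n10425 := (((iv F90598)).symm.trans (sb E28604 (iv D15157)))
theorem F203266 : act 1 n7186 = n9952 := (sb E28605 F63401)
theorem F203267 : act 3 n7186 = n9970 := (sb E28605 F63402)
theorem E29376 : n21019 = n10426 := ((((iv F46461)).symm.trans (sb E28605 (iv F90603)))).symm
theorem F203268 : act 1 n7182 = n9949 := (sb E28606 F63390)
theorem E29380 : n42118 = n23818 := (((iv F176021)).symm.trans (sb E28624 (iv D34718)))
theorem F203269 : act 0 n16354 = n19888 := (sb E28626 F122722)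
theorem E29381 : n42119 = n23805 := ((((iv F101759)).symm.trans (sb E28626 D42119))).symm
theorem F203270 : act 9 n16354 = n19917 := (sb E28626 F122727)
theorem E29382 : n42121 = n23827 := (((iv F176035)).symm.trans (sb E28627 (iv D34728)))
theorem E29383 : n45854 = n42217 := (((D42217).symm.trans (sb E28628 (iv F190684)))).symm
theorem F203271 : act 0 n16362 = n19889 := (sb E28629 F122728)
theorem F203272 : act 9 n16362 = n19918 := (sb E28629 F122731)
theorem E29384 : n46340 = n42219 := (((D42219).symm.trans (sb E28630 F192529))).symm
theorem E29386 : n45857 = n42222 := (((D42222).symm.trans (sb E28632 (iv F190694)))).symm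
theorem F203273 : act 0 n16365 = n19891 := (sb E28633 F122737)
theorem F203274 : act 9 n16365 = n19920 := (sb E28633 F122741)
theorem E29388 : n41612 = n21828 := (((iv F173882)).symm.trans (sb E28636 F134200))
theorem E29389 : n41627 = n21827 := ((D41627).symm.trans (sb E28636 (iv D31800)))
theorem E29390 : n45859 = n41628 := (((D41628).symm.trans (sb E28636 F192539))).symm
theorem E29391 : n46160 = n42201 := ((((iv F176403)).symm.trans (sb E28637 (iv F191859)))).symm
theorem E29392 : n45860 = n42226 := (((D42226).symm.trans (sb E28637 (iv F192532)))).symm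
theorem E29393 : n43079 = n42227 := (((D42227).symm.trans (sb E28638 (iv F179890)))).symm
theorem E29394 : n45861 = n41616 := (((D41616).symm.trans (sb E28639 (iv F192573)))).symm
theorem E29396 : n44686 = n23806 := (((iv F186533)).symm.trans (sb E28643 (iv D34703)))
theorem F203275 : act 0 n16344 = n21052 := (sb E28644 F129915)
theorem E29398 : n45845 = n44840 := (((D44840).symm.trans (sb E28646 (iv F190654)))).symm
theorem E29399 : n45719 = n42144 := (((D42144).symm.trans (sb E28648 (iv F190245)))).symm
theorem E29400 : n45752 = n42148 := (((D42148).symm.trans (sb E28649 (iv F190363)))).symm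
theorem E29401 : n45743 = n42149 := (((D42149).symm.trans (sb E28650 (iv F190325)))).symm
theorem E29402 : n45753 = n42150 := (((D42150).symm.trans (sb E28650 D45753))).symm
theorem E29403 : n45744 = n42153 := ((((iv F176178)).symm.trans (sb E28651 (iv F190327)))).symm
theorem E29404 : n45740 = n42151 := (((D42151).symm.trans (sb E28652 (iv F190313)))).symm
theorem E29405 : n42997 = n42152 := (((D42152).symm.trans (sb E28652 (iv F179593)))).symm
theorem E29406 : n43008 = n42154 := (((D42154).symm.trans (sb E28653 (iv F179639)))).symm
theorem E29407 : n45756 = n42155 := (((D42155).symm.trans (sb E28653 D45756))).symm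
theorem E29408 : n43009 = n42157 := ((((iv F176197)).symm.trans (sb E28654 (iv F179644)))).symm
theorem E29409 : n43005 = n42156 := (((D42156).symm.trans (sb E28655 (iv F179625)))).symm
theorem E29410 : n43006 = n42159 := ((((iv F176206)).symm.trans (sb E28656 (iv F179629)))).symm
theorem E29411 : n43010 = n42160 := (((D42160).symm.trans (sb E28656 D43010))).symm
theorem E29412 : n45717 = n44722 := (((D44722).symm.trans (sb E28659 (iv F190236)))).symm
theorem E29413 : n45720 = n44724 := (((D44724).symm.trans (sb E28659 D45720))).symm
theorem E29414 : n45741 = n44736 := ((((iv F186715)).symm.trans (sb E28661 (iv F190317)))).symm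
theorem E29415 : n45745 = n44739 := (((D44739).symm.trans (sb E28661 D45745))).symm
theorem E29416 : n45738 = n44734 := (((D44734).symm.trans (sb E28662 (iv F190306)))).symm
theorem E29422 : n20422 = n11313 := (((D11313).symm.trans (sb E28679 D20422))).symm
theorem F203276 : act 9 n7794 = n9676 := (sb E28679 (iv D14045))
theorem F203277 : act 1 n16316 = n23676 := (sb E28681 F142213)
theorem F203278 : act 3 n16316 = n23131 := (sb E28681 F142214)
theorem F203279 : act 0 n16345 = n23131 := (sb E28682 F142062)
theorem F203280 : act 8 n16345 = n23198 := (sb E28682 F142066)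
theorem F203281 : act 0 n7982 = n9374 := (sb E28683 F59717)
theorem E29424 : n19736 = n11576 := (((D11576).symm.trans (sb E28683 D19736))).symm
theorem F203282 : act 9 n7982 = n9380 := (sb E28683 F59722)
theorem F203283 : act 0 n7985 = n9413 := (sb E28684 F59963)
theorem E29425 : n19822 = n11579 := (((D11579).symm.trans (sb E28684 D19822))).symm
theorem F203284 : act 9 n7985 = n9422 := (sb E28684 F59968)
theorem F203285 : act 0 n16610 = n19830 := (sb E28685 F122393)
theorem F203286 : act 9 n16610 = n19849 := (sb E28685 F122397)
theorem F203288 : act 9 n16737 = n19720 := (sb E28686 F121678)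
theorem F203290 : act 9 n16740 = n19797 := (sb E28687 F122124)
theorem F203291 : act 6 n33878 = n23955 := (sb E28701 F146700)
theorem F203292 : act 2 n29358 = n23177 := (sb E28702 F142445)
theorem E29434 : n43501 = n42785 := (((D42785).symm.trans (sb E28702 (tr (iv F186894) E29061)))).symm
theorem E29435 : n42782 = n23889 := (((iv F178757)).symm.trans (sb E28702 F198960))
theorem F203293 : act 8 n29358 = n23175 := (sb E28702 (iv D33786))
theorem F203294 : act 0 n33791 = n23676 := (sb E28703 F202561)
theorem F203295 : act 3 n33791 = n23639 := (sb E28703 F202562)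
theorem F203296 : act 8 n33791 = n23236 := (sb E28703 (iv D33881))
theorem F203298 : act 3 n16692 = n20631 := (sb E28712 F127374)
theorem F203299 : act 1 n16694 = n20670 := (sb E28714 F127689)
theorem F203300 : act 3 n16694 = n20681 := (sb E28714 F127690)
theorem E29438 : n9748 = n1155 := ((((iv D1660)).symm.trans (sb E28717 F62139))).symm
theorem E29439 : n9747 = n2392 := (((D2392).symm.trans (sb E28717 (iv D14150)))).symm
theorem E29440 : n4882 = n4637 := (((iv F22776)).symm.trans (sb E28719 F30572))
theorem E29441 : n4620 = n2573 := ((((iv D3718)).symm.trans (sb E28719 F30573))).symm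
theorem F203301 : act 9 n3718 = n4619 := (sb E28719 (iv D6680))
theorem E29442 : n4631 = n2340 := ((((iv D3376)).symm.trans (sb E28720 F30659))).symm
theorem E29443 : n4886 = n4655 := ((D4886).symm.trans (sb E28720 F30661))
theorem F203302 : act 9 n3376 = n4630 := (sb E28720 (iv D6698))
theorem E29444 : n4869 = n2233 := ((((iv F10974)).symm.trans (sb E28722 F30639))).symm
theorem E29445 : n4650 = n2342 := (((D2342).symm.trans (sb E28722 F30642))).symm
theorem E29446 : n4892 = n4648 := ((D4892).symm.trans (sb E28723 (iv D6724)))
theorem E29447 : n9735 = n4897 := (((D4897).symm.trans (sb E28731 F61776))).symm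
theorem E29449 : n9725 = n4905 := (((D4905).symm.trans (sb E28732 (iv D14120)))).symm
theorem E29457 : n35621 = n28729 := (((D28729).symm.trans (sb E28741 (iv F149626)))).symm
theorem E29459 : n28699 = n16813 := (((iv F121855)).symm.trans (sb E28741 (iv D24460)))
theorem E29461 : n35607 = n28731 := (((D28731).symm.trans (sb E28742 (iv F149577)))).symm
theorem F203305 : act 0 n11573 = n13588 := (sb E28743 F85203)
theorem E29462 : n28700 = n16804 := ((((iv F73045)).symm.trans (sb E28743 D28700))).symm
theorem F203306 : act 9 n11573 = n13597 := (sb E28743 F85206)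
theorem F203307 : act 0 n24165 = n28708 := (sb E28744 F174721)
theorem F203308 : act 9 n24165 = n28727 := (sb E28744 F174725)
theorem F203309 : act 0 n24147 = n28709 := (sb E28745 F174726)
theorem F203310 : act 0 n24148 = n30219 := (sb E28746 F183976)
theorem F203311 : act 8 n24148 = n30248 := (sb E28746 F183979)
theorem F203312 : act 0 n21969 = n30218 := (sb E28747 F183973)
theorem E29465 : n28701 = n16805 := (((iv F121865)).symm.trans (sb E28749 (iv D24449)))
theorem F203313 : act 0 n11568 = n13589 := (sb E28750 F85207)
theorem F203314 : act 0 n11569 = n14270 := (sb E28751 F89517)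
theorem F203315 : act 8 n11569 = n14283 := (sb E28751 F89520)
theorem F203319 : act 4 n21932 = n30218 := (sb E28759 F183854)
theorem F203320 : act 1 n11554 = n14259 := (sb E28761 F89463)
theorem F203321 : act 3 n11554 = n14270 := (sb E28761 F89464)
theorem E29472 : n20450 = n10231 := ((((iv F45628)).symm.trans (sb E28765 (iv F88225)))).symm
theorem E29473 : n10235 = n9689 := ((D10235).symm.trans (sb E28765 (iv D14066)))
theorem E29474 : n11294 = n9662 := ((D11294).symm.trans (sb E28766 F61557))
theorem F203323 : act 0 n6697 = n4866 := (sb E28767 F32064)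
theorem F203324 : act 2 n6697 = n4861 := (sb E28767 F32065)
theorem F203325 : act 3 n6697 = n5355 := (sb E28767 F32066)
theorem F203326 : act 0 n6690 = n4873 := (sb E28768 F32097)
theorem F203327 : act 8 n6690 = n4861 := (sb E28768 (iv D7044))
theorem F203328 : act 1 n6679 = n5355 := (sb E28769 F35155)
theorem F203329 : act 2 n6679 = n6051 := (sb E28769 F35156)
theorem F203330 : act 0 n6672 = n5366 := (sb E28770 F35189)
theorem F203331 : act 2 n6672 = n5361 := (sb E28770 F35190)
theorem F203332 : act 8 n6672 = n5355 := (sb E28770 (iv D7765))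
theorem E29481 : n10232 = n9687 := ((D10232).symm.trans (sb E28771 (iv D14063)))
theorem E29483 : n43369 = n10242 := (((D10242).symm.trans (sb E28772 (iv F181194)))).symm
theorem E29484 : n20435 = n10243 := (((D10243).symm.trans (sb E28772 (iv D29751)))).symm
theorem E29485 : n20436 = n10244 := (((D10244).symm.trans (sb E28773 (iv D29752)))).symm
theorem E29486 : n20433 = n10245 := (((D10245).symm.trans (sb E28774 (iv F88148)))).symm
theorem E29487 : n10246 = n9722 := ((D10246).symm.trans (sb E28774 F61709))
theorem E29491 : n42843 = n21455 := (((D21455).symm.trans (sb E28776 (iv F179025)))).symm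
theorem E29494 : n43364 = n21456 := (((D21456).symm.trans (sb E28776 D43364))).symm
theorem F203333 : act 2 n6685 = n4873 := (sb E28777 F32127)
theorem F203334 : act 8 n6685 = n4866 := (sb E28777 (iv D7050))
theorem E29497 : n10249 = n9724 := ((D10249).symm.trans (sb E28778 F61720))
theorem F203335 : act 1 n6709 = n4881 := (sb E28779 F32173)
theorem F203336 : act 9 n6709 = n4873 := (sb E28779 (iv D7061))
theorem F203337 : act 3 n6668 = n5366 := (sb E28780 (iv D7780))
theorem E29504 : n4640 = n2349 := (((D2349).symm.trans (sb E28784 (iv D6712)))).symm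
theorem E29505 : n4898 = n4643 := ((D4898).symm.trans (sb E28786 (iv D6717)))
theorem F203338 : act 8 n3391 = n4639 := (sb E28788 (iv D6710))
theorem F203339 : act 8 n14004 = n12739 := (sb E28819 (iv D18534))
theorem F203340 : act 1 n14004 = n11308 := (sb E28820 (iv D16440))
theorem F203341 : act 7 n14004 = n11309 := (sb E28820 F71533)
theorem E29538 : n43314 = n20497 := (((E29187).symm.trans (((iv F93237)).symm.trans (sb E28822 D43314)))).symm
theorem F203342 : act 5 n16445 = n20418 := (sb E28822 F126078)
theorem E29540 : n42811 = n23941 := (((D23941).symm.trans (sb E28822 (iv F178886)))).symm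
theorem E29541 : n12743 = n9652 := (((F61481).symm.trans (sb E28836 F79930))).symm
theorem F203343 : act 8 n14005 = n12740 := (sb E28836 (iv D18535))
theorem E29543 : n42868 = n21649 := (((D21649).symm.trans (sb E28826 (iv F179131)))).symm
theorem E29544 : n23907 = n20169 := ((D23907).symm.trans (sb E28827 F124531))
theorem F203344 : act 1 n14005 = n11306 := (sb E28830 (iv D16438))
theorem F203345 : act 5 n14005 = n11309 := (sb E28830 F71522)
theorem E29546 : n12760 = n9649 := ((D12760).symm.trans (sb E28831 F61459))
theorem E29547 : n43311 = n20499 := (((E29226).symm.trans (((iv F93226)).symm.trans (sb E28833 D43311)))).symm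
theorem E29548 : n42809 = n23935 := (((D23935).symm.trans (sb E28833 (iv F178876)))).symm
theorem F203346 : act 8 n14039 = n12806 := (sb E28834 (iv D18625))
theorem F203347 : act 1 n14039 = n11302 := (sb E28835 (iv D16433))
theorem F203348 : act 2 n14039 = n11309 := (sb E28835 F71497)
theorem E29550 : n23908 = n20188 := ((((iv F87098)).symm.trans (sb E28835 (iv F102180)))).symm
theorem F203349 : act 6 n14039 = n11303 := (sb E28835 F71499)
theorem E29551 : n23938 = n20496 := ((D23938).symm.trans (sb E28837 F126089))
theorem F203350 : act 7 n16444 = n20418 := (sb E28837 F126091)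
theorem E29552 : n42814 = n23940 := (((D23940).symm.trans (sb E28837 (iv F178900)))).symm
theorem F203351 : act 0 n16419 = n20173 := (sb E28839 F124487)
theorem E29553 : n23909 = n20163 := ((D23909).symm.trans (sb E28839 F124489))
theorem E29554 : n42755 = n23894 := ((((iv F102124)).symm.trans (sb E28839 D42755))).symm
theorem F203352 : act 0 n13883 = n11291 := (sb E28842 F71320)
theorem E29557 : n43398 = n21646 := (((D21646).symm.trans (sb E28843 D43398))).symm
theorem E29558 : n21637 = n20456 := ((((iv F88252)).symm.trans (sb E28843 F126334))).symm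
theorem E29560 : n21650 = n20212 := ((D21650).symm.trans (sb E28844 (iv D29415)))
theorem E29562 : n23895 = n20170 := ((D23895).symm.trans (sb E28845 F124536))
theorem E29563 : n42767 = n23890 := ((((iv F102108)).symm.trans (sb E28845 (iv F178684)))).symm
theorem E29565 : n23905 = n20175 := ((D23905).symm.trans (sb E28846 (iv F199397)))
theorem F203353 : act 4 n13874 = n11291 := (sb E28847 (iv D16420))
theorem F203354 : act 2 n6684 = n4871 := (sb E28862 F32117)
theorem F203355 : act 8 n6684 = n4865 := (sb E28862 (iv D7048))
theorem F203356 : act 3 n13903 = n10229 := (sb E28863 (iv D14870))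
theorem E29577 : n21654 = n20214 := (((D20214).symm.trans (sb E28863 D21654))).symm
theorem E29578 : n23898 = n20164 := ((((iv F86987)).symm.trans (sb E28864 (iv F102136)))).symm
theorem F203357 : act 4 n13875 = n11286 := (sb E28864 (iv D16413))
theorem E29579 : n23901 = n20171 := (((D20171).symm.trans (sb E28864 D23901))).symm
theorem F203358 : act 0 n6695 = n4865 := (sb E28868 F32060)
theorem F203359 : act 2 n6695 = n4860 := (sb E28868 F32061)
theorem F203360 : act 0 n6689 = n4871 := (sb E28869 F32087)
theorem F203361 : act 8 n6689 = n4860 := (sb E28869 (iv D7042))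
theorem F203362 : act 0 n14069 = n10140 := (sb E28870 F64430)
theorem F203363 : act 3 n14069 = n10124 := (sb E28870 (iv D14716))
theorem E29580 : n21424 = n20460 := (((D20460).symm.trans (sb E28870 D21424))).symm
theorem F203364 : act 0 n7058 = n9692 := (sb E28872 F61701)
theorem F203365 : act 0 n14894 = n20217 := (sb E28873 F124758)
theorem F203366 : act 3 n14894 = n20202 := (sb E28873 F124760)
theorem E29581 : n42842 = n21684 := ((((iv F93121)).symm.trans (sb E28873 D42842))).symm
theorem F203367 : act 0 n14740 = n20218 := (sb E28874 F124763)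
theorem E29582 : n42844 = n21436 := ((((iv F92188)).symm.trans (sb E28874 D42844))).symm
theorem E29583 : n42845 = n21458 := (((D21458).symm.trans (sb E28874 D42845))).symm
theorem E29585 : n45560 = n42849 := (((D42849).symm.trans (sb E28876 (iv F189703)))).symm
theorem F203368 : act 2 n29402 = n21429 := (sb E28877 (iv D31229))
theorem E29587 : n45564 = n42852 := (((D42852).symm.trans (sb E28877 D45564))).symm
theorem E29588 : n45565 = n42853 := (((D42853).symm.trans (sb E28877 D45565))).symm
theorem F203369 : act 0 n13919 = n10229 := (sb E28881 F64910)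
theorem F203370 : act 4 n13919 = n11269 := (sb E28881 F64911)
theorem E29589 : n21618 = n20238 := (((D20238).symm.trans (sb E28881 D21618))).symm
theorem F203371 : act 0 n29430 = n21429 := (sb E28882 F131951)
theorem F203372 : act 8 n29430 = n21408 := (sb E28882 F131953)
theorem E29590 : n45510 = n42895 := (((D42895).symm.trans (sb E28882 D45510))).symm
theorem F203373 : act 0 n29452 = n21430 := (sb E28883 F131954)
theorem F203374 : act 4 n29452 = n23639 := (sb E28883 F131956)
theorem F203375 : act 2 n29423 = n21408 := (sb E28884 (iv D31199))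
theorem E29592 : n45517 = n42879 := ((((iv F179174)).symm.trans (sb E28884 (iv F189533)))).symm
theorem E29593 : n45522 = n42883 := (((D42883).symm.trans (sb E28884 D45522))).symm
theorem F203376 : act 1 n13891 = n11269 := (sb E28885 F71226)
theorem E29595 : n23842 = n20194 := (((D20194).symm.trans (sb E28885 D23842))).symm
theorem F203377 : act 0 n13884 = n11286 := (sb E28886 F71295)
theorem F203378 : act 3 n13884 = n11269 := (sb E28886 (iv D16388))
theorem E29596 : n23865 = n20185 := (((D20185).symm.trans (sb E28886 D23865))).symm
theorem F203379 : act 1 n6708 = n4879 := (sb E28903 F32164)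
theorem F203380 : act 9 n6708 = n4871 := (sb E28903 (iv D7059))
theorem E29602 : n21459 = n20524 := ((D21459).symm.trans (sb E28904 F126242))
theorem E29608 : n46021 = n42875 := (((D42875).symm.trans (sb E28908 D46021))).symm
theorem E29609 : n46017 = n42876 := (((D42876).symm.trans (sb E28908 (iv F191340)))).symm
theorem E29610 : n45541 = n42877 := (((D42877).symm.trans (sb E28908 (iv F189628)))).symm
theorem E29611 : n45544 = n42878 := (((D42878).symm.trans (sb E28909 (iv F189641)))).symm
theorem E29612 : n45547 = n42880 := (((D42880).symm.trans (sb E28910 D45547))).symm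
theorem F203381 : act 0 n29366 = n42204 := (sb E28913 (iv F176415))
theorem F203382 : act 0 n29441 = n42202 := (sb E28914 (iv F176406))
theorem F203383 : act 3 n29441 = n20257 := (sb E28914 F125072)
theorem E29615 : n42967 = n42905 := ((((iv F179248)).symm.trans (sb E28914 (iv F179477)))).symm
theorem E29616 : n42963 = n42908 := ((((iv F179258)).symm.trans (sb E28914 (iv F179462)))).symm
theorem E29617 : n42968 = n42909 := (((D42909).symm.trans (sb E28914 D42968))).symm
theorem F203384 : act 0 n29442 = n42207 := (sb E28915 (iv F176429))
theorem E29618 : n45591 = n42958 := ((((iv F179442)).symm.trans (sb E28916 (iv F189783)))).symm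
theorem F203385 : act 5 n29475 = n21444 := (sb E28916 F132171)
theorem F203386 : act 0 n29365 = n42200 := (sb E28918 (iv F176397))
theorem F203387 : act 0 n29437 = n42201 := (sb E28919 (iv F176402))
theorem E29623 : n42957 = n42896 := ((((iv F179225)).symm.trans (sb E28919 (iv F179439)))).symm
theorem E29624 : n42962 = n42904 := (((D42904).symm.trans (sb E28919 (iv F179458)))).symm
theorem F203388 : act 0 n29440 = n42198 := (sb E28920 (iv F176389))
theorem F203389 : act 3 n29440 = n20255 := (sb E28920 (iv D29477))
theorem E29625 : n42959 = n42907 := (((D42907).symm.trans (sb E28920 (iv F179447)))).symm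
theorem E29626 : n45587 = n42956 := (((D42956).symm.trans (sb E28921 (iv F189773)))).symm
theorem F203390 : act 5 n29474 = n21437 := (sb E28921 (iv D31244))
theorem E29628 : n45566 = n42949 := ((((iv F179412)).symm.trans (sb E28921 (iv F189722)))).symm
theorem F203391 : act 0 n16412 = n20174 := (sb E28924 F124491)
theorem E29631 : n42757 = n23899 := (((D23899).symm.trans (sb E28924 D42757))).symm
theorem F203392 : act 4 n14100 = n11311 := (sb E28926 F65192)
theorem E29633 : n21712 = n20503 := (((D20503).symm.trans (sb E28926 D21712))).symm
theorem F203393 : act 2 n14911 = n20251 := (sb E28927 (iv D29468))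
theorem E29634 : n42944 = n21706 := ((((iv F93206)).symm.trans (sb E28927 D42944))).symm
theorem E29635 : n42945 = n21709 := (((D21709).symm.trans (sb E28927 D42945))).symm
theorem E29636 : n44786 = n42785 := (E29061).trans E29434
theorem F203394 : act 2 n29845 = n21476 := (sb E28928 F132321)
theorem E29638 : n45654 = n42942 := ((((iv F179384)).symm.trans (sb E28928 D45654))).symm
theorem E29639 : n46116 = n42946 := (((D42946).symm.trans (sb E28929 (iv F191697)))).symm
theorem E29640 : n46122 = n42947 := (((D42947).symm.trans (sb E28929 (iv F191716)))).symm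
theorem E29641 : n46125 = n42948 := (((D42948).symm.trans (sb E28929 D46125))).symm
theorem F203395 : act 9 n29469 = n21686 := (sb E28929 (iv D31609))
theorem E29642 : n45624 = n42950 := (((D42950).symm.trans (sb E28930 (iv F189906)))).symm
theorem F203396 : act 0 n31230 = n42894 := (sb E28931 (tr (iv F186908) E29062))
theorem F203397 : act 3 n31230 = n21476 := (sb E28931 (iv D31297))
theorem E29644 : n45663 = n45567 := (((D45567).symm.trans (sb E28931 D45663))).symm
theorem F203398 : act 4 n31298 = n23676 := (sb E28932 F145233)
theorem F203399 : act 0 n31242 = n42882 := (sb E28933 (tr (iv F186938) E29064))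
theorem E29645 : n45673 = n45585 := ((((iv F189767)).symm.trans (sb E28933 D45673))).symm
theorem F203400 : act 0 n31245 = n44799 := (sb E28934 (iv F186945))
theorem E29647 : n45678 = n45592 := (((D45592).symm.trans (sb E28934 D45678))).symm
theorem F203401 : act 1 n16443 = n23674 := (sb E28936 (iv F193459))
theorem E29648 : n23936 = n23897 := ((D23936).symm.trans (sb E28936 (iv F193460)))
theorem E29649 : n42821 = n23937 := (((D23937).symm.trans (sb E28936 (iv F178936)))).symm
theorem F203402 : act 1 n34521 = n23937 := (sb E28938 F145499)
theorem F203403 : act 4 n34521 = n42942 := (sb E28938 (tr (iv F190021) E29638))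
theorem F203404 : act 2 n3203 = n2333 := (sb E28950 F16085)
theorem F203405 : act 8 n3203 = n2331 := (sb E28950 (iv D3364))
theorem F203406 : act 3 n3196 = n2564 := (sb E28951 (iv D3708))
theorem F203407 : act 0 n3207 = n2331 := (sb E28952 F16058)
theorem F203408 : act 2 n3207 = n2329 := (sb E28952 (iv D3359))
theorem F203409 : act 3 n3207 = n2559 := (sb E28952 F16059)
theorem F203410 : act 0 n3205 = n2333 := (sb E28953 F16068)
theorem F203411 : act 8 n3205 = n2329 := (sb E28953 (iv D3361))
theorem F203412 : act 0 n3197 = n2564 := (sb E28959 F17582)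
theorem F203413 : act 2 n3197 = n2561 := (sb E28959 F17583)
theorem F203414 : act 8 n3197 = n2559 := (sb E28959 (iv D3700))
theorem F203415 : act 1 n3214 = n2338 := (sb E28960 F16099)
theorem F203416 : act 9 n3214 = n2333 := (sb E28960 (iv D3368))
theorem F203417 : act 1 n3200 = n2559 := (sb E28974 (iv D3698))
theorem F203418 : act 2 n3200 = n2892 := (sb E28974 F17573)
theorem F203419 : act 1 n3193 = n2894 := (sb E28976 F19600)
theorem F203420 : act 8 n3193 = n2892 := (sb E28976 (iv D4182))
theorem E29672 : n45929 = n20247 := (((D20247).symm.trans (sb E28987 D45929))).symm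
theorem E29682 : n23912 = n20160 := ((D23912).symm.trans (sb E28994 (iv D29332)))
theorem F203421 : act 4 n13871 = n11292 := (sb E28995 (iv D16422))
theorem F203424 : act 1 n6661 = n6058 := (sb E29000 F39325)
theorem F203425 : act 8 n6661 = n6051 := (sb E29000 (iv D8776))
theorem F203426 : act 0 n6659 = n6073 := (sb E29005 F39381)
theorem F203427 : act 3 n6659 = n6058 := (sb E29005 (iv D8787))
theorem E29685 : n3079 = n2692 := (((D2692).symm.trans (sb E29009 (iv F14739)))).symm
theorem F203428 : act 9 n1872 = n1493 := (sb E29009 (iv D2144))
theorem F203429 : act 0 n3192 = n2902 := (sb E29017 F19620)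
theorem F203430 : act 3 n3192 = n2894 := (sb E29017 (iv D4186))
theorem F203431 : act 4 n3191 = n2902 := (sb E29019 (iv D4197))
theorem E29691 : n11606 = n6351 := ((((iv F29049)).symm.trans (sb E29020 (iv F51454)))).symm
theorem E29692 : n6355 = n5534 := ((D6355).symm.trans (sb E29020 (iv D8008)))
theorem F203432 : act 1 n4399 = n5543 := (sb E29021 F36296)
theorem E29693 : n11611 = n6352 := (((D6352).symm.trans (sb E29021 (iv F51484)))).symm
theorem E29694 : n6353 = n5535 := ((D6353).symm.trans (sb E29021 (iv D8011)))
theorem F203433 : act 9 n3833 = n3052 := (sb E29022 (iv D4402))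
theorem F203434 : act 9 n3834 = n3051 := (sb E29023 (iv D4400))
theorem F203435 : act 9 n3855 = n3054 := (sb E29027 (iv D4404))
theorem F203436 : act 0 n24240 = n30684 := (sb E29029 F186598)
theorem F203437 : act 9 n24240 = n30751 := (sb E29029 F186602)
theorem F203438 : act 0 n11470 = n14477 := (sb E29030 F90715)
theorem E29699 : n28922 = n16663 := (((D16663).symm.trans (sb E29030 (iv F122767)))).symm
theorem E29700 : n30654 = n15197 := ((((iv F66385)).symm.trans (sb E29030 D30654))).symm
theorem F203439 : act 9 n11470 = n14506 := (sb E29030 F90718)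
theorem F203440 : act 0 n22121 = n30685 := (sb E29031 F186603)
theorem F203441 : act 0 n24171 = n28838 := (sb E29032 F175519)
theorem F203442 : act 9 n24171 = n28867 := (sb E29032 F175523)
theorem F203443 : act 0 n21988 = n30474 := (sb E29033 F185468)
theorem F203444 : act 0 n21978 = n30476 := (sb E29034 F185476)
theorem F203445 : act 0 n21989 = n30477 := (sb E29035 F185479)
theorem F203446 : act 8 n21989 = n30521 := (sb E29035 F185483)
theorem F203447 : act 0 n23815 = n30661 := (sb E29036 F186512)
theorem F203448 : act 1 n23815 = n31374 := (sb E29036 F198709)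
theorem F203449 : act 4 n23815 = n30763 := (sb E29036 F198710)
theorem F203450 : act 7 n23815 = n30762 := (sb E29036 F198711)
theorem F203451 : act 9 n23815 = n30728 := (sb E29036 F186515)
theorem F203452 : act 0 n23824 = n28931 := (sb E29037 F176027)
theorem F203453 : act 9 n23824 = n28975 := (sb E29037 F176030)
theorem F203454 : act 0 n21553 = n30667 := (sb E29038 F186538)
theorem E29701 : n43396 = n10289 := ((((iv F45874)).symm.trans (sb E29041 (iv F181303)))).symm
theorem E29702 : n20544 = n10291 := (((D10291).symm.trans (sb E29041 F126350))).symm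
theorem E29703 : n10296 = n9734 := ((D10296).symm.trans (sb E29042 (iv D14131)))
theorem F203456 : act 9 n24347 = n28674 := (sb E29043 F174454)
theorem F203457 : act 0 n24329 = n28662 := (sb E29044 F174455)
theorem F203460 : act 9 n28723 = n24455 := (sb E29047 (iv D35617))
theorem E29705 : n43489 = n21727 := ((D43489).symm.trans (sb E29050 F133703))
theorem E29707 : n43483 = n21726 := (((iv F181629)).symm.trans (sb E29050 (iv D31662)))
theorem E29708 : n46200 = n42930 := ((((iv F179339)).symm.trans (sb E29050 D46200))).symm
theorem F203461 : act 7 n16449 = n20498 := (sb E29051 F126595)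
theorem E29709 : n42935 = n23945 := (((D23945).symm.trans (sb E29051 (iv F179358)))).symm
theorem F203462 : act 4 n29462 = n23947 := (sb E29052 F146657)
theorem F203463 : act 1 n29382 = n23947 := (sb E29053 F199274)
theorem F203464 : act 5 n20173 = n16418 := (sb E29056 F102159)
theorem F203465 : act 7 n20173 = n16417 := (sb E29056 F102160)
theorem E29711 : n34815 = n29357 := (((D29357).symm.trans (sb E29056 (iv F146353)))).symm
theorem F203466 : act 2 n21708 = n28963 := (sb E29057 (iv D42189))
theorem F203467 : act 2 n42190 = n31632 := (sb E29058 F191722)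
theorem F203468 : act 9 n42190 = n31608 := (sb E29058 (iv D46124))
theorem F203469 : act 2 n42191 = n31635 := (sb E29059 F191732)
theorem F203470 : act 0 n23886 = n29842 := (sb E29060 F181683)
theorem F203471 : act 6 n23886 = n29844 := (sb E29060 F181686)
theorem F203472 : act 2 n42785 = n30711 := (sb E29636 F186893)
theorem F203473 : act 1 n42894 = n30731 := (sb E29062 F186909)
theorem F203474 : act 3 n42894 = n30711 := (sb E29062 (iv D44790))
theorem F203475 : act 8 n42894 = n30715 := (sb E29062 F186911)
theorem F203476 : act 2 n42882 = n30715 := (sb E29064 (iv D44797))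
theorem F203477 : act 0 n21759 = n29833 := (sb E29068 (iv D43488))
theorem E29712 : n31708 = n31622 := ((D31708).symm.trans (sb E29068 F181649))
theorem F203478 : act 0 n23951 = n29462 := (sb E29070 (iv D42938))
theorem F203479 : act 6 n23951 = n29465 := (sb E29070 F179369)
theorem F203480 : act 0 n10453 = n14479 := (sb E29071 F90725)
theorem E29713 : n30656 = n15187 := ((((iv F66344)).symm.trans (sb E29071 D30656))).symm
theorem E29714 : n30657 = n15198 := (((D15198).symm.trans (sb E29071 D30657))).symm
theorem F203481 : act 0 n22104 = n30688 := (sb E29072 F186615)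
theorem F203482 : act 0 n22122 = n30689 := (sb E29073 F186620)
theorem F203483 : act 8 n22122 = n30756 := (sb E29073 F186625)
theorem F203484 : act 0 n10454 = n14483 := (sb E29075 F90742)
theorem F203485 : act 8 n10454 = n14512 := (sb E29075 F90745)
theorem F203487 : act 4 n21937 = n30476 := (sb E29082 F185304)
theorem E29721 : n32152 = n30690 := (((D30690).symm.trans (sb E29083 (iv F135678)))).symm
theorem E29722 : n30612 = n15154 := (((iv F129785)).symm.trans (sb E29083 (iv D22063)))
theorem F203488 : act 1 n22060 = n30621 := (sb E29085 F186323)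
theorem F203489 : act 4 n22060 = n30688 := (sb E29085 F186324)
theorem E29724 : n30598 = n7191 := ((((iv F32744)).symm.trans (sb E29086 (iv F129726)))).symm
theorem F203490 : act 1 n10424 = n14451 := (sb E29087 F90594)
theorem E29726 : n30610 = n15152 := ((((iv F66193)).symm.trans (sb E29087 (iv F129778)))).symm
theorem E29727 : n30613 = n15155 := (((D15155).symm.trans (sb E29087 D30613))).symm
theorem F203491 : act 1 n10429 = n14455 := (sb E29088 F90611)
theorem F203492 : act 3 n10429 = n14483 := (sb E29088 F90612)
theorem F203493 : act 1 n22057 = n30618 := (sb E29091 F186312)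
theorem F203494 : act 1 n22061 = n30622 := (sb E29092 F186328)
theorem F203496 : act 1 n21938 = n30433 := (sb E29096 F185306)
theorem F203497 : act 8 n44829 = n31419 := (sb E29102 (iv D45851))
theorem F203498 : act 1 n45576 = n31337 := (sb E29103 F190061)
theorem F203499 : act 1 n45593 = n31334 := (sb E29104 F190052)
theorem F203500 : act 8 n45593 = n31299 := (sb E29104 (iv D45665))
theorem F203501 : act 1 n45594 = n31338 := (sb E29105 F190064)
theorem F203502 : act 0 n21543 = n30669 := (sb E29106 F186546)
theorem F203503 : act 0 n21554 = n30670 := (sb E29107 F186548)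
theorem F203504 : act 8 n21554 = n30737 := (sb E29107 F186552)
theorem E29736 : n29945 = n14782 := (((D14782).symm.trans (sb E29108 F181465))).symm
theorem F203505 : act 1 n21501 = n31239 := (sb E29110 F186704)
theorem F203506 : act 4 n21501 = n30669 := (sb E29110 (iv D44732))
theorem F203507 : act 1 n21499 = n31249 := (sb E29111 F186736)
theorem F203508 : act 1 n21502 = n31250 := (sb E29112 F186738)
theorem F203509 : act 0 n44727 = n31403 := (sb E29113 F190295)
theorem F203510 : act 0 n42147 = n31418 := (sb E29114 F190347)
theorem F203511 : act 0 n44728 = n31419 := (sb E29115 F190351)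
theorem F203512 : act 0 n44731 = n31401 := (sb E29116 F190287)
theorem F203513 : act 4 n44731 = n31339 := (sb E29116 (iv D45732))
theorem F203514 : act 0 n44720 = n31383 := (sb E29117 F190225)
theorem F203515 : act 4 n44720 = n31328 := (sb E29117 (iv D45714))
theorem F203516 : act 0 n44733 = n31404 := (sb E29118 F190297)
theorem F203517 : act 4 n44733 = n31341 := (sb E29118 F190299)
theorem F203522 : act 0 n24324 = n28631 := (sb E29120 F174245)
theorem F203525 : act 8 n24330 = n28676 := (sb E29121 F174465)
theorem F203526 : act 0 n24325 = n30033 := (sb E29123 F182855)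
theorem F203528 : act 5 n24325 = n30052 := (sb E29123 F195932)
theorem E29737 : n14087 = n7075 := ((((iv F32240)).symm.trans (sb E29129 F88289))).symm
theorem E29738 : n29791 = n7080 := (((D7080).symm.trans (sb E29129 (iv F126420)))).symm
theorem E29739 : n14141 = n7082 := (((D7082).symm.trans (sb E29129 F88292))).symm
theorem E29741 : n14914 = n14098 := (((iv F65195)).symm.trans (sb E29134 F88373))
theorem E29742 : n29819 = n14923 := (((D14923).symm.trans (sb E29134 (iv F126527)))).symm
theorem E29743 : n29824 = n14925 := (((D14925).symm.trans (sb E29134 D29824))).symm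
theorem F203534 : act 9 n10267 = n14086 := (sb E29134 (iv D20486))
theorem E29744 : n31602 = n29487 := ((((iv F125097)).symm.trans (sb E29135 F181576))).symm
theorem F203535 : act 9 n21493 = n29817 := (sb E29135 (iv D43468))
theorem F203536 : act 9 n21494 = n29820 := (sb E29136 (iv D43472))
theorem F203537 : act 0 n21981 = n30478 := (sb E29142 F185484)
theorem F203538 : act 0 n21983 = n28841 := (sb E29143 F175532)
theorem F203539 : act 0 n21984 = n30479 := (sb E29144 F185485)
theorem F203540 : act 0 n21991 = n28840 := (sb E29145 F175528)
theorem F203541 : act 0 n21992 = n28842 := (sb E29146 F175536)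
theorem F203542 : act 8 n21992 = n28871 := (sb E29146 F175540)
theorem F203543 : act 0 n24174 = n28839 := (sb E29147 F175524)
theorem F203544 : act 9 n24174 = n28868 := (sb E29147 F175527)
theorem F203545 : act 1 n10422 = n14449 := (sb E29153 F90585)
theorem F203546 : act 0 n23803 = n30663 := (sb E29155 F186522)
theorem F203547 : act 2 n20182 = n16417 := (sb E29159 (iv D23904))
theorem F203548 : act 5 n20182 = n16419 := (sb E29159 F102163)
theorem E29752 : n34817 = n29370 := (((D29370).symm.trans (sb E29159 (iv F146360)))).symm
theorem E29755 : n29722 = n16446 := (((D16446).symm.trans (sb E29161 D29722))).symm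
theorem F203549 : act 9 n11312 = n14042 := (sb E29161 (iv D20419))
theorem E29756 : n29886 = n7098 := (((D7098).symm.trans (sb E29163 F181212))).symm
theorem E29758 : n14118 = n7103 := (((D7103).symm.trans (sb E29164 (iv D20534)))).symm
theorem F203550 : act 1 n9715 = n7077 := (sb E29165 F45768)
theorem F203551 : act 3 n9715 = n7796 := (sb E29165 F45770)
theorem E29759 : n14917 = n14096 := ((((iv F61897)).symm.trans (sb E29165 (iv F65209)))).symm
theorem E29760 : n7071 = n6705 := (((F43519).symm.trans (sb E29165 (iv D10264)))).symm
theorem E29763 : n29816 = n14928 := ((((iv F65257)).symm.trans (sb E29166 (iv F126517)))).symm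
theorem E29764 : n14930 = n14156 := ((D14930).symm.trans (sb E29166 F88371))
theorem E29765 : n14848 = n14085 := (((iv F64921)).symm.trans (sb E29166 (iv D20484)))
theorem E29766 : n7078 = n6732 := ((D7078).symm.trans (sb E29167 F43484))
theorem F203552 : act 9 n4885 = n6697 := (sb E29167 (iv D9707))
theorem F203553 : act 0 n9756 = n7094 := (sb E29168 F45809)
theorem F203554 : act 2 n9756 = n7085 := (sb E29168 F45810)
theorem F203555 : act 8 n9756 = n7077 := (sb E29168 (iv D10274))
theorem F203556 : act 0 n9706 = n7049 := (sb E29169 F45550)
theorem F203557 : act 2 n9706 = n7043 := (sb E29169 F45551)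
theorem F203558 : act 3 n9706 = n7764 := (sb E29169 F45552)
theorem F203559 : act 9 n9706 = n7077 := (sb E29169 F45555)
theorem E29769 : n29933 = n14937 := (((D14937).symm.trans (sb E29170 F181428))).symm
theorem E29770 : n29789 = n14859 := ((((iv F64972)).symm.trans (sb E29170 (iv D43427)))).symm
theorem E29771 : n29939 = n14940 := (((D14940).symm.trans (sb E29171 (iv F127029)))).symm
theorem E29772 : n14941 = n14139 := ((D14941).symm.trans (sb E29171 (iv D20564)))
theorem E29773 : n14861 = n14071 := ((D14861).symm.trans (sb E29172 (iv D20463)))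
theorem E29774 : n14148 = n3454 := (((F22815).symm.trans (sb E29173 (iv F62129)))).symm
theorem E29775 : n7086 = n6722 := ((D7086).symm.trans (sb E29173 (iv D9745)))
theorem E29777 : n14145 = n7235 := (((D7235).symm.trans (sb E29174 (iv D20574)))).symm
theorem F203560 : act 9 n9743 = n7085 := (sb E29175 (iv D10283))
theorem F203561 : act 0 n9695 = n7060 := (sb E29176 F45603)
theorem F203562 : act 8 n9695 = n7043 := (sb E29176 (iv D10226))
theorem E29779 : n31216 = n29782 := ((D31216).symm.trans (sb E29182 (iv D43414)))
theorem F203563 : act 9 n5380 = n6679 := (sb E29183 (iv D9679))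
theorem F203564 : act 1 n9678 = n7764 := (sb E29184 F49957)
theorem F203565 : act 2 n9678 = n8775 := (sb E29184 F49958)
theorem F203566 : act 9 n9678 = n7796 := (sb E29184 F49961)
theorem F203567 : act 0 n9670 = n7779 := (sb E29185 F50010)
theorem F203568 : act 2 n9670 = n7772 := (sb E29185 F50011)
theorem F203569 : act 8 n9670 = n7764 := (sb E29185 (iv D11274))
theorem E29781 : n29839 = n29716 := (((D29716).symm.trans (sb E29239 F180955))).symm
theorem F203570 : act 1 n20497 = n14924 := (sb E29187 F93235)
theorem E29782 : n31639 = n29716 := (((E29781).symm.trans (((iv F126597)).symm.trans (sb E29187 (iv F133600))))).symm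
theorem F203571 : act 4 n20497 = n16445 := (sb E29187 F93237)
theorem E29783 : n31644 = n29832 := ((((iv F126572)).symm.trans (sb E29187 (iv F133622)))).symm
theorem E29784 : n31646 = n29840 := (((D29840).symm.trans (sb E29187 D31646))).symm
theorem F203572 : act 1 n20416 = n16386 := (sb E29189 F101868)
theorem F203573 : act 2 n20416 = n16444 := (sb E29189 (iv F198951))
theorem F203574 : act 5 n20416 = n16442 := (sb E29189 (iv F198952))
theorem E29786 : n34745 = n29380 := ((((iv F124684)).symm.trans (sb E29189 D34745))).symm
theorem F203575 : act 9 n20416 = n16445 := (sb E29189 F101871)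
theorem E29787 : n31502 = n29815 := (((iv F133084)).symm.trans (sb E29191 (iv D43465)))
theorem E29788 : n31668 = n29970 := ((D31668).symm.trans (sb E29192 F181592))
theorem F203576 : act 0 n20483 = n14868 := (sb E29193 F92841)
theorem F203577 : act 4 n20483 = n16386 := (sb E29193 F92843)
theorem E29789 : n31504 = n29447 := ((((iv F124947)).symm.trans (sb E29193 D31504))).symm
theorem F203578 : act 9 n20483 = n14924 := (sb E29193 F92845)
theorem E29790 : n34777 = n29370 := ((D34777).symm.trans (sb E29194 (iv D42801)))
theorem F203579 : act 0 n20182 = n16418 := (sb E29195 F102010)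
theorem F203581 : act 0 n9703 = n7047 := (sb E29198 F45542)
theorem F203582 : act 2 n9703 = n7041 := (sb E29198 F45543)
theorem E29792 : n14847 = n14084 := ((((iv F61849)).symm.trans (sb E29198 D14847))).symm
theorem E29793 : n14873 = n14061 := ((((iv F61746)).symm.trans (sb E29199 F88280))).symm
theorem E29794 : n14860 = n14070 := ((D14860).symm.trans (sb E29199 (iv D20462)))
theorem F203583 : act 0 n9693 = n7057 := (sb E29200 F45590)
theorem F203584 : act 8 n9693 = n7041 := (sb E29200 (iv D10223))
theorem E29796 : n31565 = n29412 := (((D29412).symm.trans (sb E29202 (iv F133329)))).symm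
theorem E29797 : n31551 = n29413 := (((D29413).symm.trans (sb E29202 (iv F133280)))).symm
theorem E29798 : n31214 = n29781 := ((D31214).symm.trans (sb E29203 (iv D43412)))
theorem F203585 : act 0 n20458 = n14738 := (sb E29204 F92132)
theorem F203586 : act 3 n20458 = n14715 := (sb E29204 (iv D21421))
theorem E29799 : n31219 = n29784 := (((D29784).symm.trans (sb E29204 D31219))).symm
theorem F203587 : act 0 n20481 = n14867 := (sb E29207 F92838)
theorem E29801 : n31501 = n29818 := (((D29818).symm.trans (sb E29207 D31501))).symm
theorem E29802 : n29745 = n14890 := (((F88358).symm.trans (sb E29207 (iv F126224)))).symm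
theorem E29803 : n31503 = n29445 := ((((iv F124939)).symm.trans (sb E29207 D31503))).symm
theorem F203588 : act 0 n20235 = n14869 := (sb E29208 F92846)
theorem F203589 : act 4 n20235 = n16387 := (sb E29208 F92847)
theorem E29804 : n31506 = n29450 := (((D29450).symm.trans (sb E29208 D31506))).symm
theorem F203590 : act 0 n43467 = n31223 := (sb E29209 F189472)
theorem F203591 : act 1 n43467 = n31325 := (sb E29209 F199148)
theorem F203592 : act 3 n43467 = n31299 := (sb E29209 F199149)
theorem F203593 : act 5 n43467 = n31295 := (sb E29209 F199150)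
theorem F203594 : act 7 n43467 = n31294 := (sb E29209 F199151)
theorem F203595 : act 9 n43467 = n31324 := (sb E29209 F189475)
theorem F203596 : act 0 n21681 = n29420 := (sb E29210 F179013)
theorem F203597 : act 3 n21681 = n29399 := (sb E29210 F179015)
theorem F203598 : act 0 n43463 = n31224 := (sb E29211 F189476)
theorem F203599 : act 1 n43463 = n31324 := (sb E29211 F198753)
theorem F203600 : act 3 n43463 = n31194 := (sb E29211 F189478)
theorem F203601 : act 4 n43463 = n31294 := (sb E29211 F198754)
theorem F203602 : act 9 n43463 = n31325 := (sb E29211 F189480)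
theorem F203603 : act 0 n42914 = n31225 := (sb E29212 F189481)
theorem F203604 : act 0 n42917 = n31226 := (sb E29213 F189484)
theorem F203605 : act 4 n42917 = n34463 := (sb E29213 F189486)
theorem F203606 : act 0 n42890 = n31227 := (sb E29214 F189489)
theorem F203607 : act 8 n42890 = n31197 := (sb E29214 F189491)
theorem F203608 : act 0 n42920 = n31228 := (sb E29215 F189492)
theorem F203609 : act 4 n42920 = n34465 := (sb E29215 F189494)
theorem F203610 : act 8 n42920 = n31329 := (sb E29215 F189496)
theorem F203611 : act 3 n42846 = n31597 := (sb E29217 F191514)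
theorem F203612 : act 1 n20414 = n16385 := (sb E29220 F101863)
theorem F203613 : act 2 n20414 = n16445 := (sb E29220 F199160)
theorem F203614 : act 7 n20414 = n16442 := (sb E29220 F199161)
theorem E29805 : n34744 = n29378 := ((((iv F124674)).symm.trans (sb E29220 D34744))).symm
theorem F203615 : act 9 n20414 = n16444 := (sb E29220 F101866)
theorem F203616 : act 1 n20191 = n16387 := (sb E29221 F101873)
theorem E29807 : n34747 = n29383 := (((D29383).symm.trans (sb E29221 D34747))).symm
theorem E29808 : n34775 = n29369 := ((D34775).symm.trans (sb E29223 (iv D42799)))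
theorem F203617 : act 0 n20183 = n16410 := (sb E29224 F101976)
theorem F203618 : act 3 n20183 = n16387 := (sb E29224 (iv D23861))
theorem E29809 : n34781 = n29372 := (((D29372).symm.trans (sb E29224 D34781))).symm
theorem F203619 : act 4 n20499 = n16442 := (sb E29226 F93226)
theorem E29810 : n31638 = n29835 := ((((iv F126583)).symm.trans (sb E29226 D31638))).symm
theorem E29811 : n31640 = n29843 := (((D29843).symm.trans (sb E29226 D31640))).symm
theorem F203620 : act 0 n43490 = n31547 := (sb E29227 F199176)
theorem F203621 : act 2 n43490 = n31294 := (sb E29227 F190005)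
theorem E29812 : n43490 = n43464 := (((D43464).symm.trans (iv (sb E29227 (tr F199177 E29787))))).symm
theorem F203622 : act 7 n23857 = n29842 := (sb E29228 F181678)
theorem F203623 : act 2 n43499 = n31296 := (sb E29229 F190013)
theorem F203624 : act 1 n45561 = n31328 := (sb E29230 F190034)
theorem F203625 : act 3 n45561 = n31296 := (sb E29230 (iv D45659))
theorem F203626 : act 6 n42952 = n31249 := (sb E29231 (iv D45596))
theorem F203627 : act 1 n45581 = n31335 := (sb E29232 F190056)
theorem F203628 : act 1 n45597 = n31336 := (sb E29233 F190058)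
theorem F203629 : act 1 n45582 = n31341 := (sb E29235 F190074)
theorem F203630 : act 4 n21939 = n30478 := (sb E29236 F185310)
theorem F203631 : act 1 n21941 = n30435 := (sb E29237 F185312)
theorem F203632 : act 4 n21941 = n30479 := (sb E29237 F185314)
theorem F203633 : act 2 n20181 = n16418 := (sb E29242 (iv D23906))
theorem F203634 : act 7 n20181 = n16419 := (sb E29242 F102172)
theorem E29816 : n34820 = n29369 := (((D29369).symm.trans (sb E29242 (iv F146371)))).symm
theorem F203635 : act 0 n20181 = n16417 := (sb E29244 F102006)
theorem E29819 : n43316 = n20496 := (E29245).trans E29551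
theorem E29820 : n29836 = n29830 := ((((iv F126565)).symm.trans (sb E29819 F180944))).symm
theorem E29823 : n14876 = n6713 := (((D6713).symm.trans (sb E29251 (iv F65043)))).symm
theorem E29824 : n7093 = n6714 := (((D6714).symm.trans (sb E29251 F45641))).symm
theorem E29825 : n31572 = n13946 := (((D13946).symm.trans (sb E29252 (iv F133353)))).symm
theorem E29826 : n31578 = n13947 := (((D13947).symm.trans (sb E29252 D31578))).symm
theorem E29827 : n14965 = n13948 := (((D13948).symm.trans (sb E29253 F93057))).symm
theorem F203639 : act 1 n4884 = n6703 := (sb E29257 F43472)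
theorem E29829 : n7076 = n6730 := ((D7076).symm.trans (sb E29257 F43476))
theorem F203640 : act 9 n4884 = n6695 := (sb E29257 (iv D9705))
theorem E29830 : n14144 = n7083 := (((D7083).symm.trans (sb E29258 (iv F62109)))).symm
theorem E29831 : n7084 = n6720 := ((D7084).symm.trans (sb E29258 (iv D9742)))
theorem E29832 : n29950 = n14784 := (((D14784).symm.trans (sb E29259 (iv F127069)))).symm
theorem E29833 : n29951 = n7192 := (((F45388).symm.trans (sb E29259 (iv F127073)))).symm
theorem E29834 : n29930 = n14785 := (((D14785).symm.trans (sb E29259 (iv F126996)))).symm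
theorem E29844 : n31688 = n13972 := (((D13972).symm.trans (sb E29272 (iv F133799)))).symm
theorem E29845 : n31674 = n13973 := (((D13973).symm.trans (sb E29272 (iv F133746)))).symm
theorem E29849 : n29884 = n7097 := (((D7097).symm.trans (sb E29276 F181203))).symm
theorem E29850 : n29889 = n7099 := (((D7099).symm.trans (sb E29277 (iv F126820)))).symm
theorem E29851 : n14115 = n7100 := (((D7100).symm.trans (sb E29277 (iv D20529)))).symm
theorem E29852 : n29892 = n7101 := (((D7101).symm.trans (sb E29278 (iv F126831)))).symm
theorem E29854 : n14116 = n7102 := (((D7102).symm.trans (sb E29278 (iv D20532)))).symm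
theorem F203641 : act 8 n4903 = n6708 := (sb E29279 (iv D9723))
theorem E29855 : n29880 = n14820 := (((D14820).symm.trans (sb E29284 (iv D43560)))).symm
theorem E29858 : n14895 = n14111 := (((F87388).symm.trans (sb E29289 F93130))).symm
theorem E29859 : n31606 = n29488 := (((D29488).symm.trans (sb E29289 (iv F133477)))).symm
theorem E29860 : n31610 = n29489 := (((D29489).symm.trans (sb E29289 D31610))).symm
theorem F203642 : act 9 n20261 = n14894 := (sb E29289 (iv D21687))
theorem F203643 : act 1 n20269 = n29440 := (sb E29293 F176214)
theorem F203644 : act 1 n9721 = n7068 := (sb E29295 F45697)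
theorem E29861 : n14898 = n14112 := (((D14112).symm.trans (sb E29295 D14898))).symm
theorem F203645 : act 9 n9721 = n7058 := (sb E29295 (iv D10248))
theorem E29862 : n31613 = n29490 := (((D29490).symm.trans (sb E29296 D31613))).symm
theorem E29863 : n31272 = n29491 := (((D29491).symm.trans (sb E29296 (iv F132240)))).symm
theorem E29864 : n31744 = n29497 := (((D29497).symm.trans (sb E29297 F194147))).symm
theorem F203646 : act 1 n20271 = n29437 := (sb E29299 F176199)
theorem F203647 : act 5 n20271 = n28939 := (sb E29299 (iv D42158))
theorem F203648 : act 1 n20272 = n29441 := (sb E29300 F176218)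
theorem F203649 : act 1 n20275 = n29442 := (sb E29301 F176223)
theorem F203650 : act 4 n20275 = n28943 := (sb E29301 F176225)
theorem F203651 : act 1 n9714 = n7074 := (sb E29302 F45755)
theorem F203652 : act 4 n9714 = n7794 := (sb E29302 F45756)
theorem E29865 : n14915 = n14101 := (((D14101).symm.trans (sb E29302 D14915))).symm
theorem E29866 : n14926 = n14161 := ((D14926).symm.trans (sb E29303 F88383))
theorem E29867 : n29453 = n14927 := (((D14927).symm.trans (sb E29303 (iv F124969)))).symm
theorem F203653 : act 1 n21496 = n31230 := (sb E29304 F193739)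
theorem E29868 : n31330 = n29976 := ((D31330).symm.trans (sb E29304 F181610))
theorem F203654 : act 4 n21496 = n30664 := (sb E29304 F193740)
theorem F203655 : act 8 n21497 = n29452 := (sb E29305 (iv D42924))
theorem F203656 : act 4 n21503 = n30671 := (sb E29306 (iv D44735))
theorem F203657 : act 1 n21505 = n31245 := (sb E29307 F186721)
theorem F203658 : act 4 n21505 = n30673 := (sb E29307 F186723)
theorem E29869 : n31538 = n14132 := (((D14132).symm.trans (sb E29310 (iv F133228)))).symm
theorem E29871 : n31543 = n14134 := (((D14134).symm.trans (sb E29310 D31543))).symm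
theorem E29872 : n14946 = n14135 := (((D14135).symm.trans (sb E29311 F92973))).symm
theorem E29874 : n31707 = n29527 := (((D29527).symm.trans (sb E29315 F191405))).symm
theorem F203659 : act 0 n20301 = n28939 := (sb E29317 F176061)
theorem F203660 : act 0 n20304 = n28937 := (sb E29318 F176053)
theorem F203661 : act 0 n20305 = n28940 := (sb E29319 F176065)
theorem F203662 : act 0 n20306 = n28943 := (sb E29320 F176080)
theorem F203663 : act 3 n20306 = n28987 := (sb E29320 F176082)
theorem F203664 : act 0 n21546 = n30671 := (sb E29325 F186553)
theorem E29878 : n30658 = n15190 := (((F92573).symm.trans (sb E29325 F186554))).symm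
theorem F203665 : act 0 n21548 = n28934 := (sb E29326 F176040)
theorem F203666 : act 0 n21534 = n30664 := (sb E29327 F186526)
theorem F203667 : act 0 n21549 = n30673 := (sb E29328 F186559)
theorem F203668 : act 0 n10449 = n14480 := (sb E29329 F90729)
theorem E29879 : n28925 = n15192 := (((D15192).symm.trans (sb E29329 (iv F122782)))).symm
theorem E29880 : n30659 = n15193 := (((D15193).symm.trans (sb E29329 D30659))).symm
theorem F203669 : act 0 n10455 = n13694 := (sb E29330 F85821)
theorem E29881 : n28924 = n15200 := (((D15200).symm.trans (sb E29330 (iv F122778)))).symm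
theorem E29882 : n28926 = n15201 := (((D15201).symm.trans (sb E29330 D28926))).symm
theorem F203670 : act 0 n10456 = n14481 := (sb E29331 F90733)
theorem F203671 : act 8 n10456 = n14510 := (sb E29331 F90737)
theorem F203672 : act 0 n21556 = n28933 := (sb E29332 F176036)
theorem F203673 : act 0 n21557 = n28935 := (sb E29333 F176043)
theorem F203674 : act 8 n21557 = n28979 := (sb E29333 F176048)
theorem F203675 : act 0 n10458 = n13696 := (sb E29334 F85831)
theorem E29883 : n28927 = n15203 := (((D15203).symm.trans (sb E29334 (iv F122795)))).symm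
theorem E29884 : n28928 = n15204 := (((D15204).symm.trans (sb E29334 D28928))).symm
theorem F203676 : act 0 n10459 = n13697 := (sb E29335 F85835)
theorem F203677 : act 8 n10459 = n13716 := (sb E29335 F85840)
theorem F203678 : act 0 n21559 = n28936 := (sb E29336 F176049)
theorem F203679 : act 0 n21560 = n28938 := (sb E29337 F176057)
theorem F203680 : act 8 n21560 = n28982 := (sb E29337 F176060)
theorem F203681 : act 0 n21994 = n28843 := (sb E29338 F175541)
theorem F203682 : act 0 n21995 = n28844 := (sb E29339 F175546)
theorem F203683 : act 8 n21995 = n28873 := (sb E29339 F175551)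
theorem E29885 : n16845 = n13537 := ((((iv F59487)).symm.trans (sb E29340 D16845))).symm
theorem E29886 : n13687 = n8002 := (((iv F60147)).symm.trans (sb E29340 (iv D11600)))
theorem E29887 : n16846 = n13534 := ((((iv F59469)).symm.trans (sb E29341 D16846))).symm
theorem F203684 : act 0 n5531 = n6523 := (sb E29342 F42312)
theorem F203685 : act 9 n5531 = n6532 := (sb E29342 F42317)
theorem E29888 : n15328 = n13531 := ((((iv F59453)).symm.trans (sb E29343 F192548))).symm
theorem E29892 : n28923 = n16666 := (((iv F122774)).symm.trans (sb E29345 (iv D24247)))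
theorem F203686 : act 0 n11473 = n13693 := (sb E29347 F85816)
theorem F203687 : act 9 n11473 = n13712 := (sb E29347 F85820)
theorem E29895 : n32366 = n28993 := (((D28993).symm.trans (sb E29348 (iv F192923)))).symm
theorem F203688 : act 0 n11476 = n13695 := (sb E29351 F85826)
theorem F203689 : act 9 n11476 = n13714 := (sb E29351 F85830)
theorem E29900 : n32405 = n28581 := ((((iv F121310)).symm.trans (sb E29352 (iv F192545)))).symm
theorem E29903 : n28574 = n15296 := (((iv F121275)).symm.trans (sb E29354 F95436))
theorem E29904 : n28579 = n15295 := (((iv F121301)).symm.trans (sb E29354 (iv D22252)))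
theorem E29912 : n32462 = n13539 := ((((iv F59495)).symm.trans (sb E29363 (iv F192552)))).symm
theorem E29914 : n15326 = n13538 := (((D13538).symm.trans (sb E29364 (iv D22294)))).symm
theorem E29921 : n28598 = n15294 := ((D28598).symm.trans (sb E29372 (iv D22250)))
theorem E29924 : n32161 = n30693 := ((((iv F130115)).symm.trans (sb E29373 (iv F135714)))).symm
theorem E29925 : n30615 = n15158 := (((iv F129798)).symm.trans (sb E29373 F94696))
theorem E29927 : n32158 = n30692 := (((D30692).symm.trans (sb E29374 (iv F135701)))).symm
theorem E29928 : n30614 = n15156 := (((iv F129792)).symm.trans (sb E29374 (iv D22066)))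
theorem F203690 : act 1 n10425 = n14452 := (sb E29375 F90597)
theorem F203691 : act 4 n10425 = n14480 := (sb E29375 F90598)
theorem F203692 : act 1 n10426 = n14453 := (sb E29376 F90602)
theorem F203693 : act 0 n23818 = n28929 := (sb E29380 F176017)
theorem F203694 : act 9 n23818 = n28973 := (sb E29380 F176021)
theorem F203695 : act 0 n23805 = n28930 := (sb E29381 F176022)
theorem F203696 : act 0 n23827 = n28932 := (sb E29382 F176031)
theorem F203697 : act 9 n23827 = n28976 := (sb E29382 F176035)
theorem F203698 : act 8 n42217 = n31422 := (sb E29383 (iv D45854))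
theorem F203699 : act 2 n42219 = n31767 := (sb E29384 (iv D46340))
theorem F203700 : act 8 n42222 = n31425 := (sb E29386 (iv D45857))
theorem F203701 : act 1 n21828 = n28582 := (sb E29388 F173882)
theorem F203702 : act 5 n21828 = n28575 := (sb E29388 F173883)
theorem E29932 : n31798 = n28603 := (((iv F134194)).symm.trans (sb E29389 F173950))
theorem F203703 : act 2 n21827 = n28983 := (sb E29389 F173951)
theorem F203704 : act 4 n21827 = n28582 := (sb E29389 (iv D41627))
theorem F203705 : act 1 n41628 = n31471 := (sb E29390 F192533)
theorem F203706 : act 4 n41628 = n31470 := (sb E29390 F192534)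
theorem F203707 : act 2 n42201 = n31636 := (sb E29391 (iv D46160))
theorem F203708 : act 2 n42226 = n31470 := (sb E29392 F192531)
theorem F203709 : act 3 n42227 = n29555 := (sb E29393 (iv D43079))
theorem F203710 : act 5 n41616 = n31471 := (sb E29394 F192572)
theorem F203711 : act 0 n23806 = n30665 := (sb E29396 F186529)
theorem F203712 : act 8 n23806 = n30732 := (sb E29396 F186533)
theorem F203713 : act 3 n44840 = n31414 := (sb E29398 (iv D45845))
theorem F203714 : act 0 n42144 = n31388 := (sb E29399 F190244)
theorem F203715 : act 0 n42148 = n31421 := (sb E29400 F190359)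
theorem F203716 : act 0 n42149 = n31412 := (sb E29401 F190324)
theorem F203717 : act 0 n42150 = n31422 := (sb E29402 F190364)
theorem F203718 : act 0 n42153 = n31413 := (sb E29403 F190326)
theorem F203719 : act 0 n42151 = n31409 := (sb E29404 F190312)
theorem F203720 : act 0 n42152 = n29542 := (sb E29405 F179591)
theorem F203721 : act 5 n42152 = n29498 := (sb E29405 (iv D42997))
theorem F203722 : act 0 n42154 = n29553 := (sb E29406 F179637)
theorem F203723 : act 0 n42155 = n31425 := (sb E29407 F190377)
theorem F203724 : act 0 n42157 = n29554 := (sb E29408 F179642)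
theorem F203725 : act 0 n42156 = n29550 := (sb E29409 F179623)
theorem F203726 : act 0 n42159 = n29551 := (sb E29410 F179627)
theorem F203727 : act 5 n42159 = n29505 := (sb E29410 F179630)
theorem F203728 : act 0 n42160 = n29555 := (sb E29411 F179646)
theorem F203729 : act 0 n44722 = n31386 := (sb E29412 F190235)
theorem E29933 : n44722 = n43694 := (((D43694).symm.trans (iv (sb E29412 (tr (iv D45717) E29868))))).symm
theorem F203730 : act 0 n44724 = n31389 := (sb E29413 F190248)
theorem F203731 : act 4 n44724 = n31332 := (sb E29413 F190250)
theorem F203732 : act 0 n44736 = n31410 := (sb E29414 F190316)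
theorem F203733 : act 4 n44736 = n31344 := (sb E29414 F190319)
theorem F203734 : act 0 n44739 = n31414 := (sb E29415 F190330)
theorem F203735 : act 4 n44739 = n31347 := (sb E29415 F190331)
theorem F203736 : act 4 n44734 = n31342 := (sb E29416 (iv D45738))
theorem E29942 : n29386 = n16447 := (((D16447).symm.trans (sb E29422 (iv F124716)))).symm
theorem F203737 : act 0 n11576 = n13590 := (sb E29424 F85212)
theorem E29943 : n28702 = n16816 := (((D16816).symm.trans (sb E29424 D28702))).symm
theorem F203738 : act 9 n11576 = n13599 := (sb E29424 F85218)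
theorem F203739 : act 0 n11579 = n13649 := (sb E29425 F85583)
theorem F203740 : act 9 n11579 = n13662 := (sb E29425 F85588)
theorem F203745 : act 0 n42785 = n29845 := (sb E29434 F181693)
theorem F203746 : act 5 n42785 = n31635 := (sb E29434 F181695)
theorem F203747 : act 8 n42785 = n29844 := (sb E29434 (iv D43501))
theorem F203748 : act 6 n23889 = n29358 := (sb E29435 F178757)
theorem E29948 : n6725 = n1661 := (((D1661).symm.trans (sb E29438 (iv D9748)))).symm
theorem E29949 : n6723 = n3455 := (((D3455).symm.trans (sb E29439 (iv D9747)))).symm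
theorem F203751 : act 1 n4637 = n3376 := (sb E29440 F22774)
theorem F203752 : act 3 n4637 = n3718 := (sb E29440 F22776)
theorem F203753 : act 3 n2573 = n3212 := (sb E29441 F21637)
theorem F203754 : act 9 n2573 = n3200 := (sb E29441 (iv D4620))
theorem F203755 : act 1 n2340 = n3212 := (sb E29442 F21690)
theorem E29951 : n3377 = n3223 := ((D3377).symm.trans (sb E29442 F21694))
theorem F203756 : act 9 n2340 = n3207 := (sb E29442 (iv D4631))
theorem F203757 : act 0 n4655 = n3385 := (sb E29443 F22791)
theorem F203758 : act 2 n4655 = n3380 := (sb E29443 F22792)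
theorem F203759 : act 8 n4655 = n3376 := (sb E29443 (iv D4886))
theorem E29952 : n3386 = n3216 := (((D3216).symm.trans (sb E29444 F22719))).symm
theorem E29953 : n3381 = n3219 := ((D3381).symm.trans (sb E29445 (iv D4650)))
theorem F203760 : act 0 n4648 = n3391 := (sb E29446 F22818)
theorem F203761 : act 9 n4648 = n3380 := (sb E29446 (iv D4892))
theorem E29954 : n7095 = n6716 := ((D7095).symm.trans (sb E29447 (iv D9735)))
theorem F203762 : act 8 n4905 = n6709 := (sb E29449 (iv D9725))
theorem E29958 : n41799 = n24459 := (((iv F174734)).symm.trans (sb E29457 (iv D35621)))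
theorem F203764 : act 0 n16813 = n19740 := (sb E29459 F121851)
theorem E29959 : n41800 = n24447 := ((((iv F104398)).symm.trans (sb E29459 D41800))).symm
theorem F203765 : act 9 n16813 = n19753 := (sb E29459 F121855)
theorem E29960 : n41801 = n24448 := (((iv F174744)).symm.trans (sb E29461 (iv D35607)))
theorem F203766 : act 0 n16804 = n19741 := (sb E29462 F121856)
theorem F203768 : act 8 n16805 = n19755 := (sb E29465 F121865)
theorem E29962 : n14874 = n14062 := ((D14874).symm.trans (sb E29472 (iv D20450)))
theorem F203771 : act 2 n9689 = n7060 := (sb E29473 F45643)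
theorem F203772 : act 8 n9689 = n7049 := (sb E29473 (iv D10235))
theorem F203773 : act 3 n9662 = n7779 := (sb E29474 (iv D11294))
theorem F203774 : act 2 n9687 = n7057 := (sb E29481 F45632)
theorem F203775 : act 8 n9687 = n7047 := (sb E29481 (iv D10232))
theorem E29967 : n29750 = n14889 := (((D14889).symm.trans (sb E29483 (iv D43369)))).symm
theorem E29968 : n14891 = n14113 := ((D14891).symm.trans (sb E29484 F88159))
theorem E29969 : n29746 = n14892 := (((D14892).symm.trans (sb E29485 (iv F126227)))).symm
theorem E29970 : n14893 = n14114 := ((D14893).symm.trans (sb E29485 F88164))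
theorem F203776 : act 0 n10245 = n14068 := (sb E29486 F88147)
theorem F203777 : act 1 n9722 = n7066 := (sb E29487 F45691)
theorem F203778 : act 9 n9722 = n7057 := (sb E29487 (iv D10246))
theorem F203779 : act 0 n21455 = n29422 := (sb E29491 F179024)
theorem E29971 : n31269 = n29877 := ((D31269).symm.trans (sb E29494 F181171))
theorem F203780 : act 1 n9724 = n7069 := (sb E29497 F45701)
theorem F203781 : act 9 n9724 = n7060 := (sb E29497 (iv D10249))
theorem F203783 : act 8 n2349 = n3214 := (sb E29504 (iv D4640))
theorem F203784 : act 2 n4643 = n3391 := (sb E29505 F22844)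
theorem F203785 : act 9 n4643 = n3385 := (sb E29505 (iv D4898))
theorem E29994 : n29834 = n29832 := ((((iv F126572)).symm.trans (sb E29538 F180935))).symm
theorem F203786 : act 5 n23941 = n29382 := (sb E29540 F178884)
theorem F203787 : act 1 n9652 = n8786 := (sb E29541 F55956)
theorem F203788 : act 8 n9652 = n8775 := (sb E29541 (iv D12743))
theorem E29996 : n31553 = n29414 := ((D31553).symm.trans (sb E29543 (iv D42868)))
theorem F203789 : act 4 n20169 = n16418 := (sb E29544 (iv D23907))
theorem E29998 : n34821 = n29351 := (((D29351).symm.trans (sb E29544 (iv F146375)))).symm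
theorem F203790 : act 0 n9649 = n8806 := (sb E29546 F56041)
theorem F203791 : act 3 n9649 = n8786 := (sb E29546 (iv D12760))
theorem E29999 : n29835 = n29831 := (((iv F126583)).symm.trans (sb E29547 F180925))
theorem E30000 : n34876 = n29377 := ((D34876).symm.trans (sb E29548 (iv D42809)))
theorem F203792 : act 1 n20188 = n16419 := (sb E29550 (iv D23908))
theorem F203793 : act 6 n20188 = n16421 := (sb E29550 F102181)
theorem E30003 : n34823 = n29377 := (((D29377).symm.trans (sb E29550 (iv F146383)))).symm
theorem F203794 : act 1 n20496 = n16449 := (sb E29551 F102316)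
theorem F203795 : act 4 n20496 = n16444 := (sb E29551 (iv D23938))
theorem E30004 : n31643 = n29830 := ((((iv F126565)).symm.trans (sb E29551 (iv F133618)))).symm
theorem E30005 : n34881 = n29460 := ((((iv F124996)).symm.trans (sb E29551 D34881))).symm
theorem F203796 : act 7 n23940 = n29382 := (sb E29552 F178899)
theorem F203797 : act 4 n20163 = n16419 := (sb E29553 (iv D23909))
theorem E30007 : n34824 = n29341 := (((D29341).symm.trans (sb E29553 (iv F146386)))).symm
theorem F203798 : act 0 n23894 = n29357 := (sb E29554 F178628)
theorem E30008 : n31537 = n29779 := ((((iv F126372)).symm.trans (sb E29557 F181312))).symm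
theorem E30009 : n31534 = n29780 := (((D29780).symm.trans (sb E29558 (iv F133212)))).symm
theorem F203799 : act 3 n20212 = n14869 := (sb E29560 (iv D21650))
theorem E30010 : n31557 = n29416 := (((D29416).symm.trans (sb E29560 D31557))).symm
theorem F203800 : act 4 n20170 = n16410 := (sb E29562 (iv D23895))
theorem E30011 : n34827 = n29352 := (((D29352).symm.trans (sb E29562 D34827))).symm
theorem E30012 : n34818 = n29360 := ((D34818).symm.trans (sb E29563 F199399))
theorem F203801 : act 4 n20175 = n16417 := (sb E29565 (iv D23905))
theorem F203802 : act 3 n20214 = n14871 := (sb E29577 F93004)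
theorem E30016 : n34829 = n29334 := ((((iv F124467)).symm.trans (sb E29578 (iv F146400)))).symm
theorem F203803 : act 4 n20164 = n16412 := (sb E29578 (iv D23898))
theorem E30017 : n34833 = n29343 := (((D29343).symm.trans (sb E29578 D34833))).symm
theorem F203804 : act 4 n20171 = n16414 := (sb E29579 F102148)
theorem F203805 : act 0 n20460 = n14741 := (sb E29580 F92146)
theorem F203806 : act 3 n20460 = n14717 := (sb E29580 F92148)
theorem F203807 : act 0 n21684 = n29421 := (sb E29581 F179018)
theorem F203808 : act 3 n21684 = n29400 := (sb E29581 F179020)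
theorem F203809 : act 0 n21436 = n29423 := (sb E29582 F179028)
theorem F203810 : act 8 n21436 = n29402 := (sb E29582 F179031)
theorem F203811 : act 0 n21458 = n29424 := (sb E29583 F179032)
theorem F203812 : act 2 n42849 = n31227 := (sb E29585 (iv D45560))
theorem F203813 : act 8 n42849 = n31238 := (sb E29585 F189705)
theorem F203814 : act 2 n42852 = n31230 := (sb E29587 F189714)
theorem F203815 : act 8 n42852 = n31242 := (sb E29587 F189716)
theorem F203816 : act 2 n42853 = n31231 := (sb E29588 F189717)
theorem F203817 : act 0 n20238 = n14871 := (sb E29589 F92852)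
theorem F203818 : act 4 n20238 = n16389 := (sb E29589 F92853)
theorem F203819 : act 0 n42895 = n31231 := (sb E29590 F189505)
theorem F203820 : act 0 n42879 = n31238 := (sb E29592 F189531)
theorem F203821 : act 2 n42879 = n31197 := (sb E29592 (iv D45517))
theorem F203822 : act 0 n42883 = n31243 := (sb E29593 F189546)
theorem F203823 : act 2 n42883 = n31201 := (sb E29593 F189547)
theorem F203824 : act 1 n20194 = n16389 := (sb E29595 F101881)
theorem F203825 : act 0 n20185 = n16414 := (sb E29596 F101989)
theorem F203826 : act 3 n20185 = n16389 := (sb E29596 F101990)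
theorem F203827 : act 1 n20524 = n14753 := (sb E29602 F92266)
theorem F203828 : act 8 n20524 = n14741 := (sb E29602 (iv D21459))
theorem F203829 : act 0 n42875 = n31601 := (sb E29608 F191353)
theorem F203830 : act 0 n42876 = n31597 := (sb E29609 F191338)
theorem F203831 : act 0 n42877 = n31262 := (sb E29610 F189626)
theorem F203832 : act 0 n42878 = n31265 := (sb E29611 F189637)
theorem F203833 : act 0 n42880 = n31268 := (sb E29612 F189652)
theorem F203834 : act 1 n42905 = n29505 := (sb E29615 F179476)
theorem F203835 : act 1 n42908 = n29503 := (sb E29616 F179460)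
theorem F203836 : act 3 n42908 = n29478 := (sb E29616 F179461)
theorem F203837 : act 1 n42909 = n29506 := (sb E29617 F179479)
theorem F203838 : act 5 n42958 = n31245 := (sb E29618 F189784)
theorem F203839 : act 1 n42896 = n29498 := (sb E29623 F179438)
theorem F203840 : act 4 n42896 = n29474 := (sb E29623 (iv D42957))
theorem F203841 : act 1 n42904 = n29502 := (sb E29624 F179457)
theorem F203842 : act 1 n42907 = n29500 := (sb E29625 F179445)
theorem F203843 : act 3 n42907 = n29476 := (sb E29625 (iv D42959))
theorem F203844 : act 5 n42956 = n31242 := (sb E29626 (iv D45587))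
theorem F203845 : act 5 n42949 = n31230 := (sb E29628 (iv D45566))
theorem F203846 : act 0 n23899 = n29359 := (sb E29631 F178635)
theorem E30021 : n31641 = n29846 := (((D29846).symm.trans (sb E29633 D31641))).symm
theorem F203847 : act 4 n20503 = n16443 := (sb E29633 F93229)
theorem E30022 : n31642 = n29467 := ((((iv F125021)).symm.trans (sb E29633 D31642))).symm
theorem F203848 : act 2 n21706 = n29469 := (sb E29634 F179391)
theorem F203849 : act 2 n21709 = n29470 := (sb E29635 F179395)
theorem F203850 : act 2 n42942 = n31298 := (sb E29638 F190020)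
theorem F203851 : act 2 n42946 = n31624 := (sb E29639 F191696)
theorem F203852 : act 9 n42946 = n31600 := (sb E29639 (iv D46116))
theorem F203853 : act 2 n42947 = n31630 := (sb E29640 F191713)
theorem F203854 : act 9 n42947 = n31605 := (sb E29640 (iv D46122))
theorem F203855 : act 2 n42948 = n31633 := (sb E29641 F191726)
theorem F203856 : act 2 n42950 = n31290 := (sb E29642 F189903)
theorem F203857 : act 8 n42950 = n31271 := (sb E29642 (iv D45624))
theorem F203858 : act 1 n45567 = n31332 := (sb E29644 F190046)
theorem F203859 : act 3 n45567 = n31298 := (sb E29644 F190047)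
theorem F203860 : act 2 n45585 = n31342 := (sb E29645 F190077)
theorem F203861 : act 1 n45592 = n31347 := (sb E29647 F190092)
theorem F203862 : act 3 n23897 = n16443 := (sb E29648 (iv D23936))
theorem E30023 : n34878 = n29334 := (((E30016).symm.trans ((D34829).symm.trans (sb E29648 D34878)))).symm
theorem E30024 : n34879 = n34830 := (((D34830).symm.trans (sb E29648 D34879))).symm
theorem F203863 : act 8 n23937 = n29385 := (sb E29649 (iv D42821))
theorem E30034 : n31648 = n29464 := (((D29464).symm.trans (sb E29672 F190964))).symm
theorem F203864 : act 4 n20160 = n16421 := (sb E29682 (iv D23912))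
theorem F203865 : act 9 n2692 = n2143 := (sb E29685 (iv D3079))
theorem E30040 : n16852 = n9196 := (((D9196).symm.trans (sb E29691 (iv F73263)))).symm
theorem E30041 : n9197 = n8006 := ((D9197).symm.trans (sb E29691 (iv D11606)))
theorem F203866 : act 9 n5534 = n4401 := (sb E29692 (iv D6355))
theorem F203867 : act 1 n6352 = n8019 := (sb E29693 F51482)
theorem E30043 : n9198 = n8009 := ((D9198).symm.trans (sb E29693 (iv D11611)))
theorem F203868 : act 9 n5535 = n4399 := (sb E29694 (iv D6353))
theorem F203869 : act 0 n16663 = n19897 := (sb E29699 F122764)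
theorem E30047 : n42133 = n24243 := (((D24243).symm.trans (sb E29699 D42133))).symm
theorem E30048 : n42134 = n22124 := ((((iv F94920)).symm.trans (sb E29699 D42134))).symm
theorem F203870 : act 9 n16663 = n19926 := (sb E29699 F122768)
theorem F203871 : act 0 n15197 = n21067 := (sb E29700 F129971)
theorem E30049 : n44707 = n22109 := ((((iv F94858)).symm.trans (sb E29700 D44707))).symm
theorem E30050 : n44708 = n22125 := (((D22125).symm.trans (sb E29700 D44708))).symm
theorem E30051 : n29903 = n14956 := (((D14956).symm.trans (sb E29701 F181305))).symm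
theorem E30052 : n29908 = n14959 := (((D14959).symm.trans (sb E29702 (iv F126908)))).symm
theorem E30053 : n14960 = n14126 := ((D14960).symm.trans (sb E29702 (iv D20544)))
theorem F203872 : act 9 n9734 = n7094 := (sb E29703 (iv D10296))
theorem E30054 : n31638 = n29831 := (E29810).trans E29999
theorem F203873 : act 4 n21727 = n29833 := (sb E29705 (iv D43489))
theorem E30055 : n31664 = n31623 := ((D31664).symm.trans (sb E29705 F181651))
theorem F203874 : act 7 n21726 = n29833 := (sb E29707 F181629)
theorem F203875 : act 0 n42930 = n31709 := (sb E29708 F192029)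
theorem F203876 : act 4 n42930 = n31665 := (sb E29708 F192030)
theorem F203877 : act 7 n42930 = n31663 := (sb E29708 F192032)
theorem F203878 : act 7 n23945 = n29462 := (sb E29709 F179357)
theorem F203879 : act 3 n29357 = n23889 := (sb E29711 (iv D34815))
theorem F203880 : act 5 n29357 = n23892 := (sb E29711 F146351)
theorem F203881 : act 7 n29357 = n23890 := (sb E29711 F146352)
theorem E30056 : n46114 = n45779 := (((iv F191690)).symm.trans (sb E29712 (iv F190477)))
theorem E30057 : n46143 = n21761 := ((D46143).symm.trans (sb E29712 F133879))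
theorem F203882 : act 6 n31622 = n21759 := (sb E29712 (iv D31708))
theorem E30058 : n46136 = n43607 := (((iv F191766)).symm.trans (sb E29712 (iv F182167)))
theorem E30059 : n46261 = n45634 := ((((iv F189944)).symm.trans (sb E29712 D46261))).symm
theorem E30060 : n46144 = n46034 := ((D46144).symm.trans (sb E29712 (iv F191410)))
theorem F203883 : act 0 n15187 = n21069 := (sb E29713 F129979)
theorem E30061 : n44711 = n22107 := ((((iv F94851)).symm.trans (sb E29713 D44711))).symm
theorem E30063 : n44712 = n22110 := (((D22110).symm.trans (sb E29713 D44712))).symm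
theorem F203884 : act 0 n15198 = n21070 := (sb E29714 F129983)
theorem F203885 : act 8 n15198 = n21114 := (sb E29714 F129987)
theorem E30066 : n44644 = n22062 := (((iv F186333)).symm.trans (sb E29721 (iv D32152)))
theorem F203886 : act 1 n15154 = n21025 := (sb E29722 F129784)
theorem F203887 : act 4 n15154 = n21069 := (sb E29722 F129785)
theorem E30067 : n44640 = n22058 := ((((iv F94647)).symm.trans (sb E29722 (iv F186316)))).symm
theorem E30068 : n44645 = n22064 := (((D22064).symm.trans (sb E29722 D44645))).symm
theorem E30069 : n43657 = n10438 := (((D10438).symm.trans (sb E29724 (iv F194165)))).symm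
theorem F203888 : act 1 n15152 = n21023 := (sb E29726 F129777)
theorem E30072 : n44641 = n22059 := (((D22059).symm.trans (sb E29726 D44641))).symm
theorem F203889 : act 1 n15155 = n21026 := (sb E29727 F129788)
theorem E30073 : n43655 = n21522 := (((D21522).symm.trans (sb E29736 (iv F182344)))).symm
theorem E30074 : n43643 = n21518 := ((((iv F92488)).symm.trans (sb E29736 (iv F182301)))).symm
theorem E30076 : n20567 = n10279 := (((F64677).symm.trans (sb E29736 (iv D29945)))).symm
theorem E30077 : n43625 = n21523 := (((D21523).symm.trans (sb E29736 (iv F182231)))).symm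
theorem F203890 : act 1 n7075 = n9712 := (sb E29737 F61857)
theorem E30078 : n20482 = n10269 := (((D10269).symm.trans (sb E29737 (iv F88361)))).symm
theorem E30079 : n10271 = n9753 := ((D10271).symm.trans (sb E29737 F61860))
theorem F203891 : act 9 n7075 = n9703 := (sb E29737 (iv D14087))
theorem E30080 : n21658 = n9729 := ((((iv F43587)).symm.trans (sb E29738 F126421))).symm
theorem E30081 : n20562 = n10277 := (((D10277).symm.trans (sb E29738 F126422))).symm
theorem E30082 : n10280 = n9740 := ((D10280).symm.trans (sb E29739 (iv D14141)))
theorem F203892 : act 1 n14098 = n10267 := (sb E29741 F65195)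
theorem F203893 : act 4 n14098 = n11312 := (sb E29741 F65197)
theorem E30085 : n21713 = n20495 := ((((iv F88410)).symm.trans (sb E29741 D21713))).symm
theorem E30086 : n21715 = n20500 := (((D20500).symm.trans (sb E29741 D21715))).symm
theorem E30087 : n43469 = n21726 := (((D21726).symm.trans (sb E29742 (iv F181579)))).symm
theorem E30088 : n21683 = n20520 := ((((iv F88527)).symm.trans (sb E29742 F126528))).symm
theorem E30089 : n43470 = n21728 := (((D21728).symm.trans (sb E29742 D43470))).symm
theorem F203894 : act 9 n14923 = n20481 := (sb E29742 (iv D29819))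
theorem E30090 : n21730 = n20589 := ((D21730).symm.trans (sb E29743 F126540))
theorem E30091 : n42921 = n21731 := (((D21731).symm.trans (sb E29743 (iv F179303)))).symm
theorem E30092 : n46118 = n42976 := (((D42976).symm.trans (sb E29744 (iv F191701)))).symm
theorem E30093 : n46111 = n42977 := (((D42977).symm.trans (sb E29744 (iv F191680)))).symm
theorem F203895 : act 9 n29487 = n21681 := (sb E29744 (iv D31602))
theorem F203896 : act 2 n29370 = n23890 := (sb E29752 (iv D34817))
theorem F203897 : act 5 n29370 = n23894 := (sb E29752 F146358)
theorem E30097 : n42818 = n23942 := (((D23942).symm.trans (sb E29755 (iv F178919)))).symm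
theorem E30098 : n43569 = n10301 := (((D10301).symm.trans (sb E29756 (iv F182001)))).symm
theorem E30099 : n43563 = n10298 := ((((iv F45909)).symm.trans (sb E29756 (iv F181979)))).symm
theorem E30100 : n20527 = n10302 := (((D10302).symm.trans (sb E29756 (iv D29886)))).symm
theorem F203898 : act 0 n7103 = n9743 := (sb E29758 F61995)
theorem F203899 : act 2 n7103 = n9734 := (sb E29758 F61996)
theorem F203900 : act 8 n7103 = n9724 := (sb E29758 (iv D14118))
theorem F203901 : act 1 n14096 = n10270 := (sb E29759 F65207)
theorem E30103 : n21718 = n20492 := ((((iv F88398)).symm.trans (sb E29759 (iv F93256)))).symm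
theorem F203902 : act 1 n6705 = n4885 := (sb E29760 F32220)
theorem F203903 : act 3 n6705 = n5380 := (sb E29760 F32222)
theorem E30107 : n43462 = n21734 := (((D21734).symm.trans (sb E29763 (iv F181557)))).symm
theorem E30108 : n21735 = n20581 := ((D21735).symm.trans (sb E29763 F126519))
theorem E30109 : n21619 = n20480 := (((iv F92860)).symm.trans (sb E29763 (iv D29816)))
theorem F203904 : act 0 n14156 = n10291 := (sb E29764 F65262)
theorem F203905 : act 2 n14156 = n10278 := (sb E29764 F65263)
theorem E30110 : n21738 = n20586 := ((((iv F88799)).symm.trans (sb E29764 D21738))).symm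
theorem F203906 : act 8 n14156 = n10270 := (sb E29764 (iv D14930))
theorem F203907 : act 0 n14085 = n10231 := (sb E29765 F64917)
theorem F203908 : act 2 n14085 = n10222 := (sb E29765 F64918)
theorem F203909 : act 9 n14085 = n10270 := (sb E29765 F64921)
theorem F203910 : act 0 n6732 = n4897 := (sb E29766 F32251)
theorem F203911 : act 2 n6732 = n4891 := (sb E29766 F32252)
theorem F203912 : act 8 n6732 = n4885 := (sb E29766 (iv D7078))
theorem E30114 : n43637 = n21746 := (((D21746).symm.trans (sb E29769 (iv F182279)))).symm
theorem E30115 : n43634 = n21745 := ((((iv F93367)).symm.trans (sb E29769 (iv F182270)))).symm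
theorem E30116 : n21747 = n20560 := ((D21747).symm.trans (sb E29769 (iv D29933)))
theorem E30117 : n43425 = n21635 := (((D21635).symm.trans (sb E29770 (iv F181418)))).symm
theorem E30118 : n21636 = n20461 := ((D21636).symm.trans (sb E29770 (iv D29789)))
theorem E30119 : n43646 = n21751 := (((D21751).symm.trans (sb E29771 (iv F182311)))).symm
theorem E30120 : n43648 = n10490 := (((F65306).symm.trans (sb E29771 (iv F182320)))).symm
theorem E30121 : n21752 = n20563 := ((D21752).symm.trans (sb E29771 (iv D29939)))
theorem F203913 : act 9 n14139 = n10278 := (sb E29772 (iv D14941))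
theorem F203914 : act 0 n14071 = n10244 := (sb E29773 F64977)
theorem F203915 : act 8 n14071 = n10222 := (sb E29773 (iv D14861))
theorem E30123 : n9744 = n4996 := (((D4996).symm.trans (sb E29774 (iv D14148)))).symm
theorem F203916 : act 0 n6722 = n4905 := (sb E29775 F32286)
theorem F203917 : act 9 n6722 = n4891 := (sb E29775 (iv D7086))
theorem F203918 : act 3 n7235 = n9743 := (sb E29777 (iv D14145))
theorem F203919 : act 0 n29782 = n21453 := (sb E29779 F132049)
theorem F203920 : act 3 n29782 = n21420 := (sb E29779 (iv D31216))
theorem E30126 : n45539 = n43411 := ((((iv F181362)).symm.trans (sb E29779 (iv F189618)))).symm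
theorem E30127 : n45545 = n43415 := (((D43415).symm.trans (sb E29779 D45545))).symm
theorem F203921 : act 2 n29716 = n20497 := (sb E29781 F126597)
theorem E30128 : n43485 = n20494 := (((F126082).symm.trans (sb E29781 (iv F181636)))).symm
theorem F203922 : act 7 n29716 = n20499 := (sb E29781 F126600)
theorem E30129 : n43497 = n42812 := ((((iv F178890)).symm.trans (sb E29781 D43497))).symm
theorem F203923 : act 9 n29716 = n20496 := (sb E29781 (iv D29839))
theorem F203924 : act 1 n29716 = n23857 := (sb E29782 F199266)
theorem F203925 : act 1 n29832 = n21727 := (sb E29783 F133620)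
theorem E30132 : n46174 = n43482 := ((((iv F181625)).symm.trans (sb E29783 D46174))).symm
theorem E30133 : n46175 = n43487 := (((D43487).symm.trans (sb E29783 D46175))).symm
theorem F203926 : act 1 n29840 = n21729 := (sb E29784 F133627)
theorem F203927 : act 4 n29840 = n23941 := (sb E29784 F133628)
theorem E30136 : n46179 = n42937 := ((((iv F179367)).symm.trans (sb E29784 D46179))).symm
theorem F203928 : act 1 n29380 = n23860 := (sb E29786 F146028)
theorem F203929 : act 2 n29380 = n23940 := (sb E29786 F198953)
theorem F203930 : act 5 n29380 = n23935 := (sb E29786 F198954)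
theorem F203931 : act 0 n29815 = n21647 := (sb E29787 F133081)
theorem E30137 : n45969 = n43461 := ((((iv F181552)).symm.trans (sb E29787 D45969))).symm
theorem E30138 : n45970 = n42912 := ((((iv F179273)).symm.trans (sb E29787 D45970))).symm
theorem F203932 : act 9 n29815 = n21727 := (sb E29787 F133084)
theorem E30139 : n43600 = n21765 := (((iv F182133)).symm.trans (sb E29788 F133719))
theorem E30140 : n46209 = n43688 := ((((iv F182477)).symm.trans (sb E29788 D46209))).symm
theorem F203933 : act 3 n29970 = n21729 := (sb E29788 (iv D31668))
theorem E30141 : n46204 = n43678 := ((((iv F182441)).symm.trans (sb E29788 (iv F192043)))).symm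
theorem E30142 : n46210 = n43093 := ((((iv F179948)).symm.trans (sb E29788 D46210))).symm
theorem F203934 : act 0 n29447 = n21649 := (sb E29789 F133087)
theorem F203935 : act 4 n29447 = n23860 := (sb E29789 F133088)
theorem E30143 : n45974 = n42918 := (((D42918).symm.trans (sb E29789 D45974))).symm
theorem F203936 : act 0 n29370 = n23892 := (sb E29790 F146183)
theorem F203937 : act 3 n29370 = n23860 := (sb E29790 (iv D34777))
theorem F203938 : act 0 n14084 = n10230 := (sb E29792 F64913)
theorem F203939 : act 2 n14084 = n10221 := (sb E29792 F64914)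
theorem F203940 : act 2 n14061 = n10243 := (sb E29793 F65030)
theorem E30144 : n21656 = n20448 := (((D20448).symm.trans (sb E29793 (iv F93015)))).symm
theorem F203941 : act 8 n14061 = n10230 := (sb E29793 (iv D14873))
theorem F203942 : act 0 n14070 = n10243 := (sb E29794 F64973)
theorem F203943 : act 8 n14070 = n10221 := (sb E29794 (iv D14860))
theorem E30147 : n46039 = n42865 := (((D42865).symm.trans (sb E29796 (iv F191428)))).symm
theorem F203944 : act 3 n29413 = n21648 := (sb E29797 (iv D31551))
theorem E30148 : n46043 = n42867 := (((D42867).symm.trans (sb E29797 D46043))).symm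
theorem F203945 : act 0 n29781 = n21451 := (sb E29798 F132041)
theorem F203946 : act 3 n29781 = n21419 := (sb E29798 (iv D31214))
theorem E30149 : n45542 = n43409 := ((((iv F181353)).symm.trans (sb E29798 D45542))).symm
theorem E30150 : n45543 = n43413 := (((D43413).symm.trans (sb E29798 D45543))).symm
theorem F203947 : act 0 n29784 = n21456 := (sb E29799 F132065)
theorem F203948 : act 3 n29784 = n21422 := (sb E29799 F132067)
theorem F203949 : act 0 n29818 = n21646 := (sb E29801 F133077)
theorem F203950 : act 5 n29818 = n23857 := (sb E29801 F133079)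
theorem E30152 : n43359 = n21682 := (((F126524).symm.trans (sb E29801 (iv F181152)))).symm
theorem E30153 : n45968 = n42915 := ((((iv F179283)).symm.trans (sb E29801 D45968))).symm
theorem F203951 : act 0 n14890 = n20456 := (sb E29802 F126222)
theorem E30154 : n43360 = n21679 := ((((iv F93106)).symm.trans (sb E29802 D43360))).symm
theorem F203952 : act 0 n29445 = n21648 := (sb E29803 F133085)
theorem E30155 : n45972 = n42916 := (((D42916).symm.trans (sb E29803 D45972))).symm
theorem F203953 : act 0 n29450 = n21651 := (sb E29804 F133094)
theorem F203954 : act 4 n29450 = n23862 := (sb E29804 F133095)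
theorem F203955 : act 1 n29378 = n23859 := (sb E29805 F146024)
theorem F203956 : act 2 n29378 = n23941 := (sb E29805 F199278)
theorem F203957 : act 7 n29378 = n23935 := (sb E29805 F199280)
theorem F203958 : act 1 n29383 = n23862 := (sb E29807 F146036)
theorem F203959 : act 0 n29369 = n23890 := (sb E29808 F146175)
theorem F203960 : act 3 n29369 = n23859 := (sb E29808 (iv D34775))
theorem F203961 : act 0 n29372 = n23896 := (sb E29809 F146197)
theorem F203962 : act 3 n29372 = n23862 := (sb E29809 F146198)
theorem E30156 : n43484 = n20495 := (((iv F181631)).symm.trans (sb E30054 (tr F133597 E30085)))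
theorem E30158 : n46165 = n42928 := ((((iv F179332)).symm.trans (sb E30054 D46165))).symm
theorem F203963 : act 4 n29843 = n23935 := (sb E29811 F133606)
theorem E30160 : n43493 = n42928 := (((iv F181666)).symm.trans (sb E29811 (tr (iv F191880) E30158)))
theorem E30161 : n46168 = n42940 := ((((iv F179376)).symm.trans (sb E29811 D46168))).symm
theorem F203964 : act 0 n43464 = n31547 := (sb E29812 F203620)
theorem F203965 : act 2 n43464 = n31294 := (sb E29812 F203621)
theorem F203966 : act 5 n43464 = n29842 := (sb E29812 F181654)
theorem F203967 : act 6 n43464 = n31624 := (sb E29812 F181655)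
theorem F203968 : act 9 n43464 = n29833 := (sb E29812 (iv D43490))
theorem F203969 : act 2 n29369 = n23892 := (sb E29816 (iv D34820))
theorem F203970 : act 7 n29369 = n23894 := (sb E29816 F146370)
theorem E30162 : n43492 = n20491 := ((((iv D29830)).symm.trans (sb E29820 (iv F181661)))).symm
theorem E30163 : n43480 = n21700 := (((iv F181616)).symm.trans (sb E29820 F126588))
theorem E30164 : n43486 = n20493 := (((F126566).symm.trans (sb E29820 (iv F181641)))).symm
theorem E30165 : n43494 = n42927 := ((((iv F179329)).symm.trans (sb E29820 D43494))).symm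
theorem E30168 : n10293 = n9731 := (((D9731).symm.trans (sb E29823 F65044))).symm
theorem F203971 : act 2 n6714 = n4903 := (sb E29824 F32312)
theorem E30169 : n10295 = n9732 := (((D9732).symm.trans (sb E29824 (iv F45895)))).symm
theorem F203972 : act 9 n6714 = n4895 := (sb E29824 (iv D7093))
theorem E30170 : n46079 = n20278 := (((D20278).symm.trans (sb E29825 D46079))).symm
theorem E30171 : n21782 = n20279 := (((D20279).symm.trans (sb E29826 F133370))).symm
theorem E30173 : n21785 = n20281 := (((D20281).symm.trans (sb E29827 (iv F93515)))).symm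
theorem E30174 : n21771 = n20282 := (((D20282).symm.trans (sb E29827 (iv F93464)))).symm
theorem F203973 : act 0 n6730 = n4895 := (sb E29829 F32242)
theorem F203974 : act 2 n6730 = n4889 := (sb E29829 F32243)
theorem E30175 : n10272 = n9755 := ((((iv F43695)).symm.trans (sb E29829 D10272))).symm
theorem F203975 : act 8 n6730 = n4884 := (sb E29829 (iv D7076))
theorem E30176 : n20570 = n10281 := (((D10281).symm.trans (sb E29830 (iv F88730)))).symm
theorem E30177 : n20571 = n4993 := (((F32274).symm.trans (sb E29830 (iv F88736)))).symm
theorem E30178 : n10282 = n9741 := ((D10282).symm.trans (sb E29830 (iv D14144)))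
theorem F203976 : act 0 n6720 = n4903 := (sb E29831 F32276)
theorem F203977 : act 9 n6720 = n4889 := (sb E29831 (iv D7084))
theorem E30180 : n43663 = n21503 := ((((iv F92427)).symm.trans (sb E29832 D43663))).symm
theorem E30182 : n43631 = n21525 := (((D21525).symm.trans (sb E29832 (iv F182256)))).symm
theorem E30183 : n43632 = n10441 := (((D10441).symm.trans (sb E29833 (iv F182261)))).symm
theorem E30184 : n21526 = n20558 := ((D21526).symm.trans (sb E29834 (iv D29930)))
theorem E30195 : n46216 = n20316 := (((D20316).symm.trans (sb E29844 (iv F192090)))).symm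
theorem E30196 : n21733 = n20317 := (((D20317).symm.trans (sb E29845 (iv D31674)))).symm
theorem E30201 : n20526 = n10300 := (((D10300).symm.trans (sb E29849 (iv D29884)))).symm
theorem E30202 : n43572 = n10303 := (((D10303).symm.trans (sb E29850 (iv F182011)))).symm
theorem E30204 : n20528 = n10304 := (((D10304).symm.trans (sb E29850 (iv D29889)))).symm
theorem F203978 : act 8 n7100 = n9722 := (sb E29851 (iv D14115))
theorem E30207 : n20530 = n10306 := (((D10306).symm.trans (sb E29852 (iv D29892)))).symm
theorem E30209 : n20523 = n10307 := (((D10307).symm.trans (sb E29854 (iv F88538)))).symm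
theorem F203979 : act 3 n14820 = n20524 := (sb E29855 F126784)
theorem E30212 : n43555 = n21573 := ((((iv F92658)).symm.trans (sb E29855 (iv F181945)))).symm
theorem F203980 : act 1 n14111 = n10257 := (sb E29858 F65119)
theorem E30215 : n21685 = n20521 := (((D20521).symm.trans (sb E29858 (iv F93126)))).symm
theorem E30216 : n21688 = n20522 := (((D20522).symm.trans (sb E29858 D21688))).symm
theorem F203981 : act 9 n14111 = n10245 := (sb E29858 (iv D14895))
theorem F203982 : act 9 n29488 = n21684 := (sb E29859 (iv D31606))
theorem E30218 : n46126 = n42980 := (((D42980).symm.trans (sb E29860 D46126))).symm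
theorem E30219 : n45622 = n42981 := (((D42981).symm.trans (sb E29860 (iv F189897)))).symm
theorem F203983 : act 1 n14112 = n10260 := (sb E29861 F65129)
theorem E30220 : n42982 = n21804 := ((D42982).symm.trans (sb E29862 F133501))
theorem E30221 : n46129 = n42983 := (((D42983).symm.trans (sb E29862 D46129))).symm
theorem E30222 : n45625 = n42984 := (((D42984).symm.trans (sb E29862 (iv F189909)))).symm
theorem F203984 : act 8 n29491 = n21458 := (sb E29863 (iv D31272))
theorem E30223 : n46308 = n42994 := (((D42994).symm.trans (sb E29864 (iv F192428)))).symm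
theorem E30224 : n46309 = n42995 := (((D42995).symm.trans (sb E29864 D46309))).symm
theorem E30225 : n46306 = n42991 := ((((iv F179572)).symm.trans (sb E29864 (iv F192422)))).symm
theorem F203985 : act 1 n14101 = n10268 := (sb E29865 F65199)
theorem F203986 : act 4 n14101 = n11313 := (sb E29865 F65200)
theorem F203987 : act 0 n14161 = n10287 := (sb E29866 F65247)
theorem E30228 : n21732 = n20592 := ((((iv F88821)).symm.trans (sb E29866 D21732))).symm
theorem F203988 : act 3 n14161 = n10268 := (sb E29866 (iv D14926))
theorem F203989 : act 1 n14927 = n20250 := (sb E29867 F124965)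
theorem F203990 : act 8 n14927 = n20238 := (sb E29867 (iv D29453))
theorem E30229 : n43606 = n21533 := (((iv F182161)).symm.trans (sb E29868 F132448))
theorem E30230 : n45716 = n43693 := ((((iv F182495)).symm.trans (sb E29868 D45716))).symm
theorem F203991 : act 2 n29976 = n21496 := (sb E29868 (iv D31330))
theorem E30231 : n45713 = n43691 := ((((iv F182489)).symm.trans (sb E29868 (iv F190223)))).symm
theorem E30232 : n45718 = n43099 := ((((iv F179974)).symm.trans (sb E29868 D45718))).symm
theorem E30235 : n46024 = n20552 := (((D20552).symm.trans (sb E29869 D46024))).symm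
theorem E30237 : n21755 = n20554 := (((D20554).symm.trans (sb E29871 F133248))).symm
theorem E30238 : n21758 = n20556 := (((D20556).symm.trans (sb E29872 (iv F93417)))).symm
theorem E30239 : n20557 = n10496 := ((D20557).symm.trans (sb E29872 F65331))
theorem E30241 : n46259 = n43038 := (((D43038).symm.trans (sb E29874 D46259))).symm
theorem E30242 : n46256 = n43034 := ((((iv F179752)).symm.trans (sb E29874 (iv F192244)))).symm
theorem E30243 : n45778 = n43039 := (((D43039).symm.trans (sb E29874 (iv F190476)))).symm
theorem F203992 : act 0 n15190 = n21071 := (sb E29878 F129988)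
theorem E30250 : n42138 = n22115 := (((D22115).symm.trans (sb E29878 (iv F176111)))).symm
theorem E30251 : n44714 = n22116 := (((D22116).symm.trans (sb E29878 D44714))).symm
theorem F203993 : act 0 n15192 = n19900 := (sb E29879 F122779)
theorem E30252 : n42136 = n22118 := (((D22118).symm.trans (sb E29879 (iv F176102)))).symm
theorem E30253 : n42139 = n22119 := (((D22119).symm.trans (sb E29879 D42139))).symm
theorem F203994 : act 0 n15193 = n21072 := (sb E29880 F129991)
theorem E30254 : n44715 = n22120 := (((D22120).symm.trans (sb E29880 D44715))).symm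
theorem F203995 : act 0 n15200 = n19899 := (sb E29881 F122775)
theorem E30255 : n42135 = n22127 := (((D22127).symm.trans (sb E29881 (iv F176098)))).symm
theorem E30256 : n42137 = n22128 := (((D22128).symm.trans (sb E29881 D42137))).symm
theorem F203996 : act 0 n15201 = n19901 := (sb E29882 F122785)
theorem F203997 : act 8 n15201 = n19930 := (sb E29882 F122790)
theorem F203998 : act 0 n15203 = n19902 := (sb E29883 F122791)
theorem E30257 : n42140 = n22131 := (((D22131).symm.trans (sb E29883 D42140))).symm
theorem F203999 : act 0 n15204 = n19903 := (sb E29884 F122796)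
theorem F204000 : act 8 n15204 = n19932 := (sb E29884 F122800)
theorem E30258 : n24499 = n19661 := ((((iv F84864)).symm.trans (sb E29885 D24499))).symm
theorem F204001 : act 0 n8002 = n9445 := (sb E29886 F60141)
theorem F204002 : act 9 n8002 = n9458 := (sb E29886 F60147)
theorem E30259 : n22291 = n19655 := ((((iv F84836)).symm.trans (sb E29887 F192565))).symm
theorem E30261 : n19652 = n10553 := (((iv F84820)).symm.trans (sb E29888 F66946))
theorem E30262 : n19654 = n10552 := ((D19654).symm.trans (sb E29888 (iv D15328)))
theorem F204003 : act 0 n16666 = n19898 := (sb E29892 F122769)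
theorem F204004 : act 9 n16666 = n19927 := (sb E29892 F122774)
theorem E30263 : n42239 = n22220 := ((D42239).symm.trans (sb E29895 F136561))
theorem E30264 : n41637 = n22219 := (((iv F173999)).symm.trans (sb E29895 (iv D32366)))
theorem E30266 : n41621 = n22248 := (((iv F173927)).symm.trans (sb E29900 (iv D32405)))
theorem F204005 : act 1 n15296 = n19656 := (sb E29903 F121275)
theorem F204006 : act 5 n15296 = n19653 := (sb E29903 F121277)
theorem E30268 : n41613 = n22177 := ((((iv F95135)).symm.trans (sb E29903 D41613))).symm
theorem F204008 : act 2 n15295 = n19660 := (sb E29904 F121300)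
theorem F204009 : act 4 n15295 = n19656 := (sb E29904 F121301)
theorem E30271 : n22289 = n19665 := ((((iv F84885)).symm.trans (sb E29912 (iv D32462)))).symm
theorem E30272 : n19664 = n10551 := ((D19664).symm.trans (sb E29914 (iv D15326)))
theorem F204010 : act 3 n15294 = n19666 := (sb E29921 (iv D28598))
theorem E30274 : n41651 = n21826 := ((((iv F93659)).symm.trans (sb E29921 D41651))).symm
theorem E30275 : n41648 = n22247 := ((((iv F95419)).symm.trans (sb E29921 (iv F174054)))).symm
theorem E30277 : n41652 = n22175 := ((((iv F95125)).symm.trans (sb E29921 D41652))).symm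
theorem E30278 : n44647 = n22067 := (((iv F186346)).symm.trans (sb E29924 F135715))
theorem F204011 : act 1 n15158 = n21028 := (sb E29925 F129796)
theorem F204012 : act 4 n15158 = n21072 := (sb E29925 F129798)
theorem E30279 : n44648 = n22070 := (((D22070).symm.trans (sb E29925 D44648))).symm
theorem E30280 : n44646 = n22065 := (((iv F186341)).symm.trans (sb E29927 (iv D32158)))
theorem F204013 : act 4 n15156 = n21071 := (sb E29928 F129792)
theorem F204014 : act 0 n28603 = n21827 := (sb E29932 F134194)
theorem E30281 : n43724 = n41657 := (((D41657).symm.trans (sb E29932 (iv F182628)))).symm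
theorem E30282 : n45915 = n41658 := (((D41658).symm.trans (sb E29932 (iv F190905)))).symm
theorem F204015 : act 0 n43694 = n31386 := (sb E29933 F203729)
theorem F204016 : act 2 n43694 = n30664 := (sb E29933 (iv D44722))
theorem F204017 : act 8 n43694 = n30671 := (sb E29933 F186671)
theorem F204018 : act 4 n16447 = n20250 := (sb E29942 F124713)
theorem F204019 : act 8 n16447 = n20194 := (sb E29942 (iv D29386))
theorem F204021 : act 9 n16816 = n19756 := (sb E29943 F121872)
theorem E30285 : n4649 = n2393 := (((D2393).symm.trans (sb E29948 (iv D6725)))).symm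
theorem F204022 : act 3 n3455 = n4648 := (sb E29949 (iv D6723))
theorem F204023 : act 0 n3223 = n2345 := (sb E29951 F16144)
theorem F204024 : act 2 n3223 = n2342 := (sb E29951 F16145)
theorem F204025 : act 8 n3223 = n2340 := (sb E29951 (iv D3377))
theorem F204026 : act 2 n3216 = n2349 := (sb E29952 F16185)
theorem F204027 : act 9 n3216 = n2345 := (sb E29952 (iv D3386))
theorem F204028 : act 0 n3219 = n2349 := (sb E29953 F16161)
theorem F204029 : act 9 n3219 = n2342 := (sb E29953 (iv D3381))
theorem F204030 : act 2 n6716 = n4905 := (sb E29954 F32322)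
theorem F204031 : act 9 n6716 = n4897 := (sb E29954 (iv D7095))
theorem F204033 : act 9 n24459 = n28729 := (sb E29958 F174734)
theorem F204034 : act 0 n24447 = n28711 := (sb E29959 F174735)
theorem F204036 : act 8 n24448 = n28731 := (sb E29960 F174744)
theorem F204037 : act 2 n14062 = n10244 := (sb E29962 F65034)
theorem F204038 : act 8 n14062 = n10231 := (sb E29962 (iv D14874))
theorem E30291 : n21680 = n20525 := ((D21680).symm.trans (sb E29967 F126247))
theorem F204039 : act 1 n14113 = n10253 := (sb E29968 F65104)
theorem F204040 : act 9 n14113 = n10243 := (sb E29968 (iv D14891))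
theorem F204041 : act 0 n14892 = n20457 := (sb E29969 F126226)
theorem F204042 : act 1 n14114 = n10255 := (sb E29970 F65112)
theorem F204043 : act 9 n14114 = n10244 := (sb E29970 (iv D14893))
theorem F204044 : act 1 n29877 = n21470 := (sb E29971 F132224)
theorem E30292 : n45616 = n43550 := ((((iv F181926)).symm.trans (sb E29971 (iv F189869)))).symm
theorem E30293 : n45619 = n43552 := ((((iv F181935)).symm.trans (sb E29971 (iv F189884)))).symm
theorem F204045 : act 8 n29877 = n21456 := (sb E29971 (iv D31269))
theorem E30318 : n43482 = n21698 := (((iv F181625)).symm.trans (sb E29994 F126579))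
theorem E30319 : n43487 = n42931 := ((D43487).symm.trans (sb E29994 (iv F179343)))
theorem F204046 : act 3 n29414 = n21649 := (sb E29996 (iv D31553))
theorem E30321 : n46046 = n42869 := (((D42869).symm.trans (sb E29996 D46046))).symm
theorem F204047 : act 4 n29351 = n23892 := (sb E29998 (iv D34821))
theorem F204048 : act 5 n29831 = n20499 := (sb E29999 F126583)
theorem E30322 : n43481 = n21699 := (((iv F181620)).symm.trans (sb E29999 F126584))
theorem F204049 : act 3 n29377 = n23935 := (sb E30000 (iv D34876))
theorem F204050 : act 1 n29377 = n23894 := (sb E30003 (iv D34823))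
theorem F204051 : act 6 n29377 = n23897 := (sb E30003 F146382)
theorem F204052 : act 1 n29830 = n21726 := (sb E30004 F133616)
theorem E30324 : n46173 = n42927 := ((((iv F179329)).symm.trans (sb E30004 D46173))).symm
theorem F204053 : act 1 n29460 = n23945 := (sb E30005 F146629)
theorem F204054 : act 4 n29460 = n23940 := (sb E30005 F146630)
theorem F204055 : act 4 n29341 = n23894 := (sb E30007 (iv D34824))
theorem E30325 : n46018 = n43408 := (((D43408).symm.trans (sb E30008 (iv F191345)))).symm
theorem E30326 : n46015 = n43410 := (((D43410).symm.trans (sb E30009 (iv F191331)))).symm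
theorem F204056 : act 3 n29416 = n21651 := (sb E30010 F133300)
theorem F204057 : act 4 n29352 = n23896 := (sb E30011 F146393)
theorem F204058 : act 4 n29360 = n23890 := (sb E30012 (iv D34818))
theorem F204059 : act 4 n29334 = n23897 := (sb E30016 (iv D34829))
theorem F204060 : act 4 n29343 = n23899 := (sb E30017 F146416)
theorem E30332 : n46170 = n43503 := (((D43503).symm.trans (sb E30021 D46170))).symm
theorem F204061 : act 4 n29467 = n23937 := (sb E30022 F133613)
theorem E30334 : n43503 = n42746 := (((D42746).symm.trans (sb E30023 (tr (iv F191898) E30332)))).symm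
theorem F204062 : act 0 n34830 = n34830 := (sb E30024 (tr F146619 E30024))
theorem F204063 : act 3 n34830 = n23937 := (sb E30024 F146621)
theorem E30341 : n46177 = n42934 := ((((iv F179353)).symm.trans (sb E30034 (iv F191927)))).symm
theorem E30345 : n24505 = n13333 := (((D13333).symm.trans (sb E30040 (iv F104644)))).symm
theorem E30346 : n13334 = n11604 := ((D13334).symm.trans (sb E30040 (iv D16852)))
theorem F204064 : act 9 n8006 = n6351 := (sb E30041 (iv D9197))
theorem F204065 : act 9 n8009 = n6352 := (sb E30043 (iv D9198))
theorem F204066 : act 0 n24243 = n28944 := (sb E30047 F176085)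
theorem F204067 : act 9 n24243 = n28988 := (sb E30047 F176089)
theorem F204068 : act 0 n22124 = n28945 := (sb E30048 F176090)
theorem F204069 : act 0 n22109 = n30686 := (sb E30049 F186607)
theorem F204070 : act 0 n22125 = n30687 := (sb E30050 F186611)
theorem F204071 : act 8 n22125 = n30754 := (sb E30050 F186614)
theorem E30352 : n43592 = n21773 := (((D21773).symm.trans (sb E30051 (iv F182100)))).symm
theorem E30354 : n21774 = n20540 := ((D21774).symm.trans (sb E30051 (iv D29903)))
theorem E30355 : n43599 = n21778 := (((D21778).symm.trans (sb E30052 (iv F182129)))).symm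
theorem E30356 : n21779 = n20543 := ((D21779).symm.trans (sb E30052 (iv D29908)))
theorem F204072 : act 9 n14126 = n10291 := (sb E30053 (iv D14960))
theorem E30357 : n46174 = n21698 := (E30132).trans E30318
theorem E30358 : n46115 = n45707 := (((iv F191693)).symm.trans (sb E30055 (iv F190199)))
theorem E30359 : n46145 = n21734 := ((D46145).symm.trans (sb E30055 F133709))
theorem F204073 : act 6 n31623 = n21727 := (sb E30055 (iv D31664))
theorem E30360 : n46137 = n43547 := (((iv F191769)).symm.trans (sb E30055 (iv F181917)))
theorem E30361 : n46203 = n45635 := ((((iv F189947)).symm.trans (sb E30055 D46203))).symm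
theorem E30362 : n46146 = n43461 := ((D46146).symm.trans (sb E30055 (tr (iv F191157) E30137)))
theorem F204074 : act 0 n45779 = n31600 := (sb E30056 (iv D46114))
theorem F204075 : act 2 n45779 = n31622 := (sb E30056 F191690)
theorem F204076 : act 5 n45779 = n31608 := (sb E30056 F191691)
theorem F204077 : act 0 n21761 = n31623 := (sb E30057 F191792)
theorem F204078 : act 4 n21761 = n31622 := (sb E30057 (iv D46143))
theorem F204079 : act 0 n43607 = n31617 := (sb E30058 (iv D46136))
theorem F204080 : act 5 n43607 = n31629 := (sb E30058 F191765)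
theorem F204081 : act 7 n43607 = n31622 := (sb E30058 F191766)
theorem F204082 : act 4 n45634 = n31712 := (sb E30059 F192260)
theorem F204083 : act 6 n45634 = n31709 := (sb E30059 F192261)
theorem F204084 : act 0 n46034 = n31624 := (sb E30060 F191795)
theorem F204085 : act 5 n46034 = n31632 := (sb E30060 F191798)
theorem F204086 : act 9 n46034 = n31622 := (sb E30060 (iv D46144))
theorem F204087 : act 0 n22107 = n30690 := (sb E30061 F186626)
theorem F204088 : act 0 n22110 = n30691 := (sb E30063 F186629)
theorem F204089 : act 4 n22062 = n30690 := (sb E30066 F186333)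
theorem F204090 : act 1 n22058 = n30619 := (sb E30067 F186315)
theorem F204091 : act 1 n22064 = n30624 := (sb E30068 F186336)
theorem F204092 : act 4 n22064 = n30691 := (sb E30068 F186338)
theorem E30363 : n29944 = n7231 := (((F46512).symm.trans (sb E30069 (iv D43657)))).symm
theorem F204093 : act 1 n22059 = n30620 := (sb E30072 F186319)
theorem E30364 : n29942 = n14942 := (((F92507).symm.trans (sb E30073 (iv D43655)))).symm
theorem E30365 : n31735 = n29512 := ((((iv F125202)).symm.trans (sb E30074 F182302))).symm
theorem E30366 : n29936 = n14938 := (((F92489).symm.trans (sb E30074 (iv D43643)))).symm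
theorem E30367 : n14943 = n14140 := ((D14943).symm.trans (sb E30076 (iv D20567)))
theorem E30368 : n31370 = n29925 := ((D31370).symm.trans (sb E30077 (iv D43625)))
theorem F204094 : act 1 n10269 = n14094 := (sb E30078 F88359)
theorem E30369 : n14929 = n14154 := ((D14929).symm.trans (sb E30078 F88363))
theorem F204095 : act 9 n10269 = n14084 := (sb E30078 (iv D20482))
theorem F204096 : act 0 n9753 = n7091 := (sb E30079 F45798)
theorem F204097 : act 2 n9753 = n7082 := (sb E30079 F45799)
theorem E30370 : n14931 = n14158 := ((((iv F62168)).symm.trans (sb E30079 D14931))).symm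
theorem F204098 : act 8 n9753 = n7075 := (sb E30079 (iv D10271))
theorem E30372 : n14958 = n14125 := (((D14125).symm.trans (sb E30080 F93022))).symm
theorem E30373 : n14939 = n14138 := ((D14939).symm.trans (sb E30081 (iv D20562)))
theorem F204099 : act 0 n9740 = n7100 := (sb E30082 F45837)
theorem F204100 : act 9 n9740 = n7082 := (sb E30082 (iv D10280))
theorem F204101 : act 1 n20495 = n14923 := (sb E30085 F93232)
theorem E30374 : n31645 = n29837 := (((D29837).symm.trans (sb E30085 D31645))).symm
theorem F204102 : act 1 n20500 = n14925 := (sb E30086 F93240)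
theorem F204103 : act 4 n20500 = n16446 := (sb E30086 F93241)
theorem E30376 : n31603 = n29872 := ((((iv F126757)).symm.trans (sb E30087 F181580))).symm
theorem F204104 : act 9 n21726 = n29818 := (sb E30087 (iv D43469))
theorem F204105 : act 1 n20520 = n14904 := (sb E30088 F93116)
theorem E30377 : n31599 = n29873 := (((D29873).symm.trans (sb E30088 (iv F133456)))).symm
theorem E30378 : n31604 = n29874 := (((D29874).symm.trans (sb E30088 D31604))).symm
theorem F204106 : act 9 n20520 = n14890 := (sb E30088 (iv D21683))
theorem E30379 : n31666 = n29967 := ((D31666).symm.trans (sb E30089 F181582))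
theorem F204107 : act 0 n20589 = n14951 := (sb E30090 F93305)
theorem E30380 : n31670 = n29973 := ((((iv F127161)).symm.trans (sb E30090 D31670))).symm
theorem F204108 : act 3 n20589 = n14925 := (sb E30090 (iv D21730))
theorem E30381 : n31671 = n29567 := ((((iv F125395)).symm.trans (sb E30090 D31671))).symm
theorem F204109 : act 1 n21731 = n29464 := (sb E30091 F179300)
theorem F204110 : act 8 n21731 = n29450 := (sb E30091 (iv D42921))
theorem F204111 : act 9 n42976 = n31601 := (sb E30092 (iv D46118))
theorem F204112 : act 9 n42977 = n31597 := (sb E30093 (iv D46111))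
theorem F204113 : act 4 n23942 = n29464 := (sb E30097 F178917)
theorem F204114 : act 8 n23942 = n29383 := (sb E30097 (iv D42818))
theorem E30384 : n29885 = n14973 := (((D14973).symm.trans (sb E30098 (iv D43569)))).symm
theorem E30385 : n29882 = n14968 := (((D14968).symm.trans (sb E30099 (iv D43563)))).symm
theorem F204115 : act 0 n10302 = n14139 := (sb E30100 F88552)
theorem F204116 : act 2 n10302 = n14126 := (sb E30100 F88553)
theorem F204117 : act 8 n10302 = n14114 := (sb E30100 (iv D20527))
theorem F204118 : act 1 n20492 = n14928 := (sb E30103 F93253)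
theorem E30387 : n31651 = n29829 := ((((iv F126560)).symm.trans (sb E30103 D31651))).symm
theorem E30390 : n31596 = n29881 := ((((iv F126791)).symm.trans (sb E30107 F181558))).symm
theorem E30391 : n31675 = n29959 := ((D31675).symm.trans (sb E30107 F181559))
theorem E30392 : n31510 = n29814 := (((iv F133112)).symm.trans (sb E30107 (iv D43462)))
theorem F204119 : act 0 n20581 = n14956 := (sb E30108 F93324)
theorem F204120 : act 2 n20581 = n14937 := (sb E30108 F93325)
theorem E30393 : n31676 = n29962 := ((((iv F127122)).symm.trans (sb E30108 D31676))).symm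
theorem F204121 : act 8 n20581 = n14928 := (sb E30108 (iv D21735))
theorem F204122 : act 0 n20480 = n14872 := (sb E30109 F92856)
theorem F204123 : act 2 n20480 = n14859 := (sb E30109 F92857)
theorem F204124 : act 9 n20480 = n14928 := (sb E30109 F92860)
theorem F204125 : act 0 n20586 = n14959 := (sb E30110 F93335)
theorem E30395 : n31681 = n29969 := ((((iv F127146)).symm.trans (sb E30110 D31681))).symm
theorem E30397 : n31693 = n29932 := ((D31693).symm.trans (sb E30114 (iv D43637)))
theorem E30398 : n31727 = n29901 := ((((iv F126879)).symm.trans (sb E30115 F182271))).symm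
theorem E30399 : n31690 = n29931 := ((D31690).symm.trans (sb E30115 (iv D43634)))
theorem F204126 : act 9 n20560 = n14937 := (sb E30116 (iv D21747))
theorem E30401 : n31564 = n29768 := ((((iv F126324)).symm.trans (sb E30117 F181419))).symm
theorem E30402 : n31533 = n29788 := ((D31533).symm.trans (sb E30117 (iv D43425)))
theorem F204127 : act 0 n20461 = n14889 := (sb E30118 F92932)
theorem F204128 : act 8 n20461 = n14859 := (sb E30118 (iv D21636))
theorem E30403 : n31700 = n29937 := ((D31700).symm.trans (sb E30119 (iv D43646)))
theorem E30404 : n29938 = n15247 := (((D15247).symm.trans (sb E30120 (iv D43648)))).symm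
theorem F204129 : act 9 n20563 = n14940 := (sb E30121 (iv D21752))
theorem F204130 : act 3 n4996 = n6722 := (sb E30123 (iv D9744))
theorem F204131 : act 0 n43411 = n31260 := (sb E30126 F189616)
theorem F204132 : act 3 n43411 = n31213 := (sb E30126 (iv D45539))
theorem F204133 : act 0 n43415 = n31266 := (sb E30127 F189642)
theorem F204134 : act 3 n43415 = n31217 := (sb E30127 F189644)
theorem F204135 : act 2 n20494 = n29832 := (sb E30128 F181634)
theorem F204136 : act 9 n20494 = n29830 := (sb E30128 (iv D43485))
theorem F204137 : act 2 n42812 = n29840 := (sb E30129 F181680)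
theorem F204138 : act 7 n42812 = n29843 := (sb E30129 F181682)
theorem E30407 : n31625 = n29829 := ((D31625).symm.trans (sb E30357 (tr F191915 E30387)))
theorem E30408 : n46175 = n42931 := (E30133).trans E30319
theorem F204139 : act 1 n42931 = n31665 := (sb E30408 F191918)
theorem F204140 : act 1 n42937 = n31669 := (sb E30136 F191935)
theorem F204141 : act 4 n42937 = n34885 := (sb E30136 F191936)
theorem F204142 : act 0 n43461 = n31549 := (sb E30137 F191154)
theorem F204143 : act 0 n42912 = n31550 := (sb E30138 F191158)
theorem F204144 : act 0 n21765 = n29970 := (sb E30139 F182133)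
theorem F204145 : act 0 n43688 = n31718 := (sb E30140 F192058)
theorem F204146 : act 0 n43678 = n31713 := (sb E30141 F192042)
theorem F204147 : act 3 n43678 = n31665 := (sb E30141 (iv D46204))
theorem F204148 : act 0 n43093 = n31719 := (sb E30142 F192063)
theorem F204149 : act 3 n43093 = n31669 := (sb E30142 F192064)
theorem F204150 : act 0 n42918 = n31554 := (sb E30143 F191171)
theorem F204151 : act 4 n42918 = n34778 := (sb E30143 F191172)
theorem F204152 : act 8 n42918 = n31669 := (sb E30143 F191175)
theorem F204153 : act 2 n20448 = n14889 := (sb E30144 F93012)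
theorem F204154 : act 8 n20448 = n14872 := (sb E30144 (iv D21656))
theorem F204155 : act 3 n42865 = n31550 := (sb E30147 (iv D46039))
theorem F204156 : act 3 n42867 = n31552 := (sb E30148 F191438)
theorem F204157 : act 0 n43409 = n31263 := (sb E30149 F189629)
theorem F204158 : act 0 n43413 = n31264 := (sb E30150 F189633)
theorem F204159 : act 3 n43413 = n31215 := (sb E30150 F189635)
theorem F204160 : act 0 n21682 = n29779 := (sb E30152 F181149)
theorem F204161 : act 0 n42915 = n31548 := (sb E30153 F191151)
theorem F204162 : act 5 n42915 = n34772 := (sb E30153 F191153)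
theorem F204163 : act 0 n21679 = n29780 := (sb E30154 F181154)
theorem F204164 : act 0 n42916 = n31552 := (sb E30155 F191164)
theorem F204165 : act 8 n42916 = n31667 := (sb E30155 F191166)
theorem F204166 : act 2 n20495 = n29831 := (sb E30156 F181631)
theorem F204167 : act 4 n20495 = n29830 := (sb E30156 (iv D43484))
theorem F204168 : act 2 n42928 = n29837 := (sb E30160 F181665)
theorem F204169 : act 5 n42928 = n29843 := (sb E30160 F181666)
theorem F204170 : act 6 n42928 = n31627 := (sb E30160 F181667)
theorem F204171 : act 4 n42940 = n34877 := (sb E30161 F191891)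
theorem E30409 : n31626 = n29828 := ((((iv F126554)).symm.trans (sb E30162 F181663))).symm
theorem F204172 : act 6 n21700 = n29830 := (sb E30163 F181616)
theorem E30410 : n31620 = n31614 := (((iv F133530)).symm.trans (sb E30163 F181617))
theorem F204173 : act 4 n20493 = n29832 := (sb E30164 F181640)
theorem F204174 : act 9 n20493 = n29831 := (sb E30164 (iv D43486))
theorem F204175 : act 4 n42927 = n29837 := (sb E30165 F181669)
theorem F204176 : act 6 n42927 = n31628 := (sb E30165 F181670)
theorem F204177 : act 2 n9731 = n7100 := (sb E30168 F45888)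
theorem E30411 : n14962 = n14127 := (((D14127).symm.trans (sb E30168 (iv F65387)))).symm
theorem F204178 : act 9 n9731 = n7091 := (sb E30168 (iv D10293))
theorem E30412 : n14964 = n14129 := (((D14129).symm.trans (sb E30169 (iv F65394)))).symm
theorem F204179 : act 9 n9732 = n7092 := (sb E30169 (iv D10295))
theorem E30413 : n31738 = n29514 := (((D29514).symm.trans (sb E30170 F191561))).symm
theorem E30414 : n31741 = n29516 := (((D29516).symm.trans (sb E30171 (iv F133996)))).symm
theorem E30415 : n31722 = n29517 := (((D29517).symm.trans (sb E30171 (iv F133927)))).symm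
theorem E30416 : n31743 = n29518 := (((D29518).symm.trans (sb E30173 (iv F134004)))).symm
theorem E30417 : n31725 = n29519 := (((D29519).symm.trans (sb E30173 (iv F133939)))).symm
theorem F204180 : act 8 n20282 = n14954 := (sb E30174 (iv D21771))
theorem F204181 : act 0 n9755 = n7092 := (sb E30175 F45802)
theorem E30418 : n14933 = n14160 := ((((iv F62175)).symm.trans (sb E30175 D14933))).symm
theorem E30419 : n29948 = n14944 := (((D14944).symm.trans (sb E30176 (iv F127059)))).symm
theorem E30420 : n29949 = n7233 := (((F45842).symm.trans (sb E30176 (iv F127066)))).symm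
theorem E30421 : n14945 = n14142 := ((D14945).symm.trans (sb E30176 (iv D20570)))
theorem E30422 : n14143 = n7234 := (((D7234).symm.trans (sb E30177 (iv D20571)))).symm
theorem F204182 : act 0 n9741 = n7102 := (sb E30178 F45844)
theorem F204183 : act 9 n9741 = n7083 := (sb E30178 (iv D10282))
theorem F204184 : act 8 n21503 = n29976 := (sb E30180 F182379)
theorem E30423 : n31373 = n29928 := ((D31373).symm.trans (sb E30182 (iv D43631)))
theorem E30424 : n29929 = n15179 := (((D15179).symm.trans (sb E30183 (iv D43632)))).symm
theorem F204185 : act 0 n20558 = n14820 := (sb E30184 F92521)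
theorem F204186 : act 8 n20558 = n14785 := (sb E30184 (iv D21526))
theorem E30428 : n31673 = n29570 := (((D29570).symm.trans (sb E30195 (iv D46216)))).symm
theorem F204187 : act 0 n20317 = n14954 := (sb E30196 F93316)
theorem F204188 : act 3 n20317 = n14927 := (sb E30196 F93317)
theorem F204189 : act 8 n10300 = n14113 := (sb E30201 (iv D20526))
theorem E30433 : n29887 = n14975 := (((D14975).symm.trans (sb E30202 (iv D43572)))).symm
theorem E30435 : n29876 = n14976 := (((D14976).symm.trans (sb E30204 (iv F126770)))).symm
theorem E30438 : n29878 = n14979 := (((D14979).symm.trans (sb E30207 (iv F126777)))).symm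
theorem F204190 : act 0 n10307 = n14135 := (sb E30209 F88535)
theorem F204191 : act 3 n10307 = n14112 := (sb E30209 (iv D20523))
theorem F204192 : act 3 n21573 = n29877 := (sb E30212 F181944)
theorem F204193 : act 1 n20521 = n14906 := (sb E30215 F93122)
theorem E30440 : n31607 = n29875 := (((D29875).symm.trans (sb E30215 D31607))).symm
theorem F204194 : act 9 n20521 = n14892 := (sb E30215 (iv D21685))
theorem F204195 : act 1 n20522 = n14909 := (sb E30216 F93133)

end Cfsg.Agent.Helper17.Fi23TC
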