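import Cfsg.Agent.Helper17.Fi23TC.Final

set_option autoImplicit false
set_option linter.all false
set_option maxRecDepth 100000

noncomputable section

namespace Cfsg.Agent.Helper17.Fi23TC

theorem N1 : nd 1 = n1 := ndS (p := 0) (l := 7) rfl N0 D1
theorem N2 : nd 2 = n2 := ndS (p := 1) (l := 6) rfl N1 D2
theorem N3 : nd 3 = n3 := ndS (p := 2) (l := 5) rfl N2 D3
theorem N4 : nd 4 = n4 := ndS (p := 3) (l := 4) rfl N3 D4
theorem N5 : nd 5 = n5 := ndS (p := 4) (l := 3) rfl N4 D5
theorem N6 : nd 6 = n6 := ndS (p := 5) (l := 2) rfl N5 D6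
theorem N7 : nd 7 = n7 := ndS (p := 5) (l := 8) rfl N5 D7
theorem N8 : nd 8 = n8 := ndS (p := 6) (l := 1) rfl N6 D8
theorem N9 : nd 9 = n9 := ndS (p := 6) (l := 8) rfl N6 D9
theorem N10 : nd 10 = n10 := ndS (p := 7) (l := 9) rfl N7 D10
theorem N11 : nd 11 = n11 := ndS (p := 8) (l := 0) rfl N8 D11
theorem N12 : nd 12 = n12 := ndS (p := 8) (l := 8) rfl N8 D12
theorem N13 : nd 13 = n13 := ndS (p := 9) (l := 3) rfl N9 D13
theorem N14 : nd 14 = n14 := ndS (p := 9) (l := 9) rfl N9 D14
theorem N15 : nd 15 = n15 := ndS (p := 11) (l := 8) rfl N11 D15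
theorem N16 : nd 16 = n16 := ndS (p := 12) (l := 3) rfl N12 D16
theorem N17 : nd 17 = n17 := ndS (p := 12) (l := 9) rfl N12 D17
theorem N18 : nd 18 = n18 := ndS (p := 13) (l := 4) rfl N13 D18
theorem N19 : nd 19 = n19 := ndS (p := 13) (l := 9) rfl N13 D19
theorem N20 : nd 20 = n20 := ndS (p := 15) (l := 3) rfl N15 D20
theorem N21 : nd 21 = n21 := ndS (p := 15) (l := 9) rfl N15 D21
theorem N22 : nd 22 = n22 := ndS (p := 16) (l := 2) rfl N16 D22
theorem N23 : nd 23 = n23 := ndS (p := 16) (l := 4) rfl N16 D23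
theorem N24 : nd 24 = n24 := ndS (p := 16) (l := 9) rfl N16 D24
theorem N25 : nd 25 = n25 := ndS (p := 18) (l := 5) rfl N18 D25
theorem N26 : nd 26 = n26 := ndS (p := 18) (l := 9) rfl N18 D26
theorem N27 : nd 27 = n27 := ndS (p := 19) (l := 8) rfl N19 D27
theorem N28 : nd 28 = n28 := ndS (p := 20) (l := 2) rfl N20 D28
theorem N29 : nd 29 = n29 := ndS (p := 20) (l := 4) rfl N20 D29
theorem N30 : nd 30 = n30 := ndS (p := 20) (l := 9) rfl N20 D30
theorem N31 : nd 31 = n31 := ndS (p := 22) (l := 4) rfl N22 D31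
theorem N32 : nd 32 = n32 := ndS (p := 22) (l := 9) rfl N22 D32
theorem N33 : nd 33 = n33 := ndS (p := 23) (l := 5) rfl N23 D33
theorem N34 : nd 34 = n34 := ndS (p := 23) (l := 9) rfl N23 D34
theorem N35 : nd 35 = n35 := ndS (p := 24) (l := 8) rfl N24 D35
theorem N36 : nd 36 = n36 := ndS (p := 25) (l := 6) rfl N25 D36
theorem N37 : nd 37 = n37 := ndS (p := 25) (l := 9) rfl N25 D37
theorem N38 : nd 38 = n38 := ndS (p := 26) (l := 8) rfl N26 D38
theorem N39 : nd 39 = n39 := ndS (p := 28) (l := 1) rfl N28 D39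
theorem N40 : nd 40 = n40 := ndS (p := 28) (l := 4) rfl N28 D40
theorem N41 : nd 41 = n41 := ndS (p := 28) (l := 9) rfl N28 D41
theorem N42 : nd 42 = n42 := ndS (p := 29) (l := 5) rfl N29 D42
theorem N43 : nd 43 = n43 := ndS (p := 29) (l := 9) rfl N29 D43
theorem N44 : nd 44 = n44 := ndS (p := 30) (l := 8) rfl N30 D44
theorem N45 : nd 45 = n45 := ndS (p := 31) (l := 3) rfl N31 D45
theorem N46 : nd 46 = n46 := ndS (p := 31) (l := 5) rfl N31 D46
theorem N47 : nd 47 = n47 := ndS (p := 31) (l := 9) rfl N31 D47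
theorem N48 : nd 48 = n48 := ndS (p := 32) (l := 8) rfl N32 D48
theorem N49 : nd 49 = n49 := ndS (p := 33) (l := 6) rfl N33 D49
theorem N50 : nd 50 = n50 := ndS (p := 33) (l := 9) rfl N33 D50
theorem N51 : nd 51 = n51 := ndS (p := 34) (l := 8) rfl N34 D51
theorem N52 : nd 52 = n52 := ndS (p := 36) (l := 7) rfl N36 D52
theorem N53 : nd 53 = n53 := ndS (p := 36) (l := 9) rfl N36 D53
theorem N54 : nd 54 = n54 := ndS (p := 37) (l := 8) rfl N37 D54
theorem N55 : nd 55 = n55 := ndS (p := 38) (l := 3) rfl N38 D55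
theorem N56 : nd 56 = n56 := ndS (p := 39) (l := 4) rfl N39 D56
theorem N57 : nd 57 = n57 := ndS (p := 39) (l := 9) rfl N39 D57
theorem N58 : nd 58 = n58 := ndS (p := 40) (l := 3) rfl N40 D58
theorem N59 : nd 59 = n59 := ndS (p := 40) (l := 5) rfl N40 D59
theorem N60 : nd 60 = n60 := ndS (p := 40) (l := 9) rfl N40 D60
theorem N61 : nd 61 = n61 := ndS (p := 41) (l := 8) rfl N41 D61
theorem N62 : nd 62 = n62 := ndS (p := 42) (l := 6) rfl N42 D62
theorem N63 : nd 63 = n63 := ndS (p := 42) (l := 9) rfl N42 D63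
theorem N64 : nd 64 = n64 := ndS (p := 43) (l := 8) rfl N43 D64
theorem N65 : nd 65 = n65 := ndS (p := 45) (l := 5) rfl N45 D65
theorem N66 : nd 66 = n66 := ndS (p := 45) (l := 8) rfl N45 D66
theorem N67 : nd 67 = n67 := ndS (p := 45) (l := 9) rfl N45 D67
theorem N68 : nd 68 = n68 := ndS (p := 46) (l := 6) rfl N46 D68
theorem N69 : nd 69 = n69 := ndS (p := 46) (l := 9) rfl N46 D69
theorem N70 : nd 70 = n70 := ndS (p := 47) (l := 8) rfl N47 D70
theorem N71 : nd 71 = n71 := ndS (p := 48) (l := 3) rfl N48 D71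
theorem N72 : nd 72 = n72 := ndS (p := 49) (l := 7) rfl N49 D72
theorem N73 : nd 73 = n73 := ndS (p := 49) (l := 9) rfl N49 D73
theorem N74 : nd 74 = n74 := ndS (p := 50) (l := 8) rfl N50 D74
theorem N75 : nd 75 = n75 := ndS (p := 51) (l := 3) rfl N51 D75
theorem N76 : nd 76 = n76 := ndS (p := 52) (l := 9) rfl N52 D76
theorem N77 : nd 77 = n77 := ndS (p := 53) (l := 8) rfl N53 D77
theorem N78 : nd 78 = n78 := ndS (p := 54) (l := 3) rfl N54 D78
theorem N79 : nd 79 = n79 := ndS (p := 55) (l := 2) rfl N55 D79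
theorem N80 : nd 80 = n80 := ndS (p := 56) (l := 3) rfl N56 D80
theorem N81 : nd 81 = n81 := ndS (p := 56) (l := 5) rfl N56 D81
theorem N82 : nd 82 = n82 := ndS (p := 56) (l := 9) rfl N56 D82
theorem N83 : nd 83 = n83 := ndS (p := 57) (l := 8) rfl N57 D83
theorem N84 : nd 84 = n84 := ndS (p := 58) (l := 5) rfl N58 D84
theorem N85 : nd 85 = n85 := ndS (p := 58) (l := 8) rfl N58 D85
theorem N86 : nd 86 = n86 := ndS (p := 58) (l := 9) rfl N58 D86
theorem N87 : nd 87 = n87 := ndS (p := 59) (l := 6) rfl N59 D87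
theorem N88 : nd 88 = n88 := ndS (p := 59) (l := 9) rfl N59 D88
theorem N89 : nd 89 = n89 := ndS (p := 60) (l := 8) rfl N60 D89
theorem N90 : nd 90 = n90 := ndS (p := 61) (l := 3) rfl N61 D90
theorem N91 : nd 91 = n91 := ndS (p := 62) (l := 7) rfl N62 D91
theorem N92 : nd 92 = n92 := ndS (p := 62) (l := 9) rfl N62 D92
theorem N93 : nd 93 = n93 := ndS (p := 63) (l := 8) rfl N63 D93
theorem N94 : nd 94 = n94 := ndS (p := 64) (l := 3) rfl N64 D94
theorem N95 : nd 95 = n95 := ndS (p := 65) (l := 4) rfl N65 D95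
theorem N96 : nd 96 = n96 := ndS (p := 65) (l := 6) rfl N65 D96
theorem N97 : nd 97 = n97 := ndS (p := 65) (l := 8) rfl N65 D97
theorem N98 : nd 98 = n98 := ndS (p := 65) (l := 9) rfl N65 D98
theorem N99 : nd 99 = n99 := ndS (p := 66) (l := 9) rfl N66 D99
theorem N100 : nd 100 = n100 := ndS (p := 67) (l := 8) rfl N67 D100
theorem N101 : nd 101 = n101 := ndS (p := 68) (l := 7) rfl N68 D101
theorem N102 : nd 102 = n102 := ndS (p := 68) (l := 9) rfl N68 D102
theorem N103 : nd 103 = n103 := ndS (p := 69) (l := 8) rfl N69 D103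
theorem N104 : nd 104 = n104 := ndS (p := 70) (l := 3) rfl N70 D104
theorem N105 : nd 105 = n105 := ndS (p := 71) (l := 4) rfl N71 D105
theorem N106 : nd 106 = n106 := ndS (p := 72) (l := 9) rfl N72 D106
theorem N107 : nd 107 = n107 := ndS (p := 73) (l := 8) rfl N73 D107
theorem N108 : nd 108 = n108 := ndS (p := 74) (l := 3) rfl N74 D108
theorem N109 : nd 109 = n109 := ndS (p := 75) (l := 2) rfl N75 D109
theorem N110 : nd 110 = n110 := ndS (p := 76) (l := 8) rfl N76 D110
theorem N111 : nd 111 = n111 := ndS (p := 77) (l := 3) rfl N77 D111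
theorem N112 : nd 112 = n112 := ndS (p := 78) (l := 2) rfl N78 D112
theorem N113 : nd 113 = n113 := ndS (p := 78) (l := 4) rfl N78 D113
theorem N114 : nd 114 = n114 := ndS (p := 79) (l := 1) rfl N79 D114
theorem N115 : nd 115 = n115 := ndS (p := 80) (l := 2) rfl N80 D115
theorem N116 : nd 116 = n116 := ndS (p := 80) (l := 5) rfl N80 D116
theorem N117 : nd 117 = n117 := ndS (p := 80) (l := 8) rfl N80 D117
theorem N118 : nd 118 = n118 := ndS (p := 80) (l := 9) rfl N80 D118
theorem N119 : nd 119 = n119 := ndS (p := 81) (l := 6) rfl N81 D119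
theorem N120 : nd 120 = n120 := ndS (p := 81) (l := 9) rfl N81 D120
theorem N121 : nd 121 = n121 := ndS (p := 82) (l := 8) rfl N82 D121
theorem N122 : nd 122 = n122 := ndS (p := 83) (l := 3) rfl N83 D122
theorem N123 : nd 123 = n123 := ndS (p := 84) (l := 4) rfl N84 D123
theorem N124 : nd 124 = n124 := ndS (p := 84) (l := 6) rfl N84 D124
theorem N125 : nd 125 = n125 := ndS (p := 84) (l := 8) rfl N84 D125
theorem N126 : nd 126 = n126 := ndS (p := 84) (l := 9) rfl N84 D126
theorem N127 : nd 127 = n127 := ndS (p := 85) (l := 9) rfl N85 D127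
theorem N128 : nd 128 = n128 := ndS (p := 86) (l := 8) rfl N86 D128
theorem N129 : nd 129 = n129 := ndS (p := 87) (l := 7) rfl N87 D129
theorem N130 : nd 130 = n130 := ndS (p := 87) (l := 9) rfl N87 D130
theorem N131 : nd 131 = n131 := ndS (p := 88) (l := 8) rfl N88 D131
theorem N132 : nd 132 = n132 := ndS (p := 89) (l := 3) rfl N89 D132
theorem N133 : nd 133 = n133 := ndS (p := 90) (l := 4) rfl N90 D133
theorem N134 : nd 134 = n134 := ndS (p := 91) (l := 9) rfl N91 D134
theorem N135 : nd 135 = n135 := ndS (p := 92) (l := 8) rfl N92 D135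
theorem N136 : nd 136 = n136 := ndS (p := 93) (l := 3) rfl N93 D136
theorem N137 : nd 137 = n137 := ndS (p := 94) (l := 2) rfl N94 D137
theorem N138 : nd 138 = n138 := ndS (p := 95) (l := 6) rfl N95 D138
theorem N139 : nd 139 = n139 := ndS (p := 95) (l := 8) rfl N95 D139
theorem N140 : nd 140 = n140 := ndS (p := 95) (l := 9) rfl N95 D140
theorem N141 : nd 141 = n141 := ndS (p := 96) (l := 7) rfl N96 D141
theorem N142 : nd 142 = n142 := ndS (p := 96) (l := 8) rfl N96 D142
theorem N143 : nd 143 = n143 := ndS (p := 96) (l := 9) rfl N96 D143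
theorem N144 : nd 144 = n144 := ndS (p := 97) (l := 9) rfl N97 D144
theorem N145 : nd 145 = n145 := ndS (p := 98) (l := 8) rfl N98 D145
theorem N146 : nd 146 = n146 := ndS (p := 99) (l := 8) rfl N99 D146
theorem N147 : nd 147 = n147 := ndS (p := 100) (l := 3) rfl N100 D147
theorem N148 : nd 148 = n148 := ndS (p := 101) (l := 9) rfl N101 D148
theorem N149 : nd 149 = n149 := ndS (p := 102) (l := 8) rfl N102 D149
theorem N150 : nd 150 = n150 := ndS (p := 103) (l := 3) rfl N103 D150
theorem N151 : nd 151 = n151 := ndS (p := 104) (l := 2) rfl N104 D151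
theorem N152 : nd 152 = n152 := ndS (p := 104) (l := 4) rfl N104 D152
theorem N153 : nd 153 = n153 := ndS (p := 105) (l := 5) rfl N105 D153
theorem N154 : nd 154 = n154 := ndS (p := 106) (l := 8) rfl N106 D154
theorem N155 : nd 155 = n155 := ndS (p := 107) (l := 3) rfl N107 D155
theorem N156 : nd 156 = n156 := ndS (p := 108) (l := 2) rfl N108 D156
theorem N157 : nd 157 = n157 := ndS (p := 108) (l := 4) rfl N108 D157
theorem N158 : nd 158 = n158 := ndS (p := 109) (l := 1) rfl N109 D158
theorem N159 : nd 159 = n159 := ndS (p := 110) (l := 3) rfl N110 D159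
theorem N160 : nd 160 = n160 := ndS (p := 111) (l := 2) rfl N111 D160
theorem N161 : nd 161 = n161 := ndS (p := 111) (l := 4) rfl N111 D161
theorem N162 : nd 162 = n162 := ndS (p := 112) (l := 1) rfl N112 D162
theorem N163 : nd 163 = n163 := ndS (p := 112) (l := 4) rfl N112 D163
theorem N164 : nd 164 = n164 := ndS (p := 114) (l := 0) rfl N114 D164
theorem N165 : nd 165 = n165 := ndS (p := 115) (l := 5) rfl N115 D165
theorem N166 : nd 166 = n166 := ndS (p := 115) (l := 8) rfl N115 D166
theorem N167 : nd 167 = n167 := ndS (p := 115) (l := 9) rfl N115 D167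
theorem N168 : nd 168 = n168 := ndS (p := 116) (l := 4) rfl N116 D168
theorem N169 : nd 169 = n169 := ndS (p := 116) (l := 6) rfl N116 D169
theorem N170 : nd 170 = n170 := ndS (p := 116) (l := 8) rfl N116 D170
theorem N171 : nd 171 = n171 := ndS (p := 116) (l := 9) rfl N116 D171
theorem N172 : nd 172 = n172 := ndS (p := 117) (l := 9) rfl N117 D172
theorem N173 : nd 173 = n173 := ndS (p := 118) (l := 8) rfl N118 D173
theorem N174 : nd 174 = n174 := ndS (p := 119) (l := 7) rfl N119 D174
theorem N175 : nd 175 = n175 := ndS (p := 119) (l := 9) rfl N119 D175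
theorem N176 : nd 176 = n176 := ndS (p := 120) (l := 8) rfl N120 D176
theorem N177 : nd 177 = n177 := ndS (p := 121) (l := 3) rfl N121 D177
theorem N178 : nd 178 = n178 := ndS (p := 122) (l := 2) rfl N122 D178
theorem N179 : nd 179 = n179 := ndS (p := 122) (l := 4) rfl N122 D179
theorem N180 : nd 180 = n180 := ndS (p := 123) (l := 6) rfl N123 D180
theorem N181 : nd 181 = n181 := ndS (p := 123) (l := 8) rfl N123 D181
theorem N182 : nd 182 = n182 := ndS (p := 123) (l := 9) rfl N123 D182
theorem N183 : nd 183 = n183 := ndS (p := 124) (l := 7) rfl N124 D183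
theorem N184 : nd 184 = n184 := ndS (p := 124) (l := 8) rfl N124 D184
theorem N185 : nd 185 = n185 := ndS (p := 124) (l := 9) rfl N124 D185
theorem N186 : nd 186 = n186 := ndS (p := 125) (l := 9) rfl N125 D186
theorem N187 : nd 187 = n187 := ndS (p := 126) (l := 8) rfl N126 D187
theorem N188 : nd 188 = n188 := ndS (p := 127) (l := 8) rfl N127 D188
theorem N189 : nd 189 = n189 := ndS (p := 128) (l := 3) rfl N128 D189
theorem N190 : nd 190 = n190 := ndS (p := 129) (l := 9) rfl N129 D190
theorem N191 : nd 191 = n191 := ndS (p := 130) (l := 8) rfl N130 D191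
theorem N192 : nd 192 = n192 := ndS (p := 131) (l := 3) rfl N131 D192
theorem N193 : nd 193 = n193 := ndS (p := 132) (l := 2) rfl N132 D193
theorem N194 : nd 194 = n194 := ndS (p := 132) (l := 4) rfl N132 D194
theorem N195 : nd 195 = n195 := ndS (p := 133) (l := 5) rfl N133 D195
theorem N196 : nd 196 = n196 := ndS (p := 134) (l := 8) rfl N134 D196
theorem N197 : nd 197 = n197 := ndS (p := 135) (l := 3) rfl N135 D197
theorem N198 : nd 198 = n198 := ndS (p := 136) (l := 2) rfl N136 D198
theorem N199 : nd 199 = n199 := ndS (p := 136) (l := 4) rfl N136 D199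
theorem N200 : nd 200 = n200 := ndS (p := 137) (l := 1) rfl N137 D200
theorem N201 : nd 201 = n201 := ndS (p := 138) (l := 5) rfl N138 D201
theorem N202 : nd 202 = n202 := ndS (p := 138) (l := 7) rfl N138 D202
theorem N203 : nd 203 = n203 := ndS (p := 138) (l := 8) rfl N138 D203
theorem N204 : nd 204 = n204 := ndS (p := 138) (l := 9) rfl N138 D204
theorem N205 : nd 205 = n205 := ndS (p := 139) (l := 3) rfl N139 D205
theorem N206 : nd 206 = n206 := ndS (p := 139) (l := 9) rfl N139 D206
theorem N207 : nd 207 = n207 := ndS (p := 140) (l := 8) rfl N140 D207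
theorem N208 : nd 208 = n208 := ndS (p := 141) (l := 8) rfl N141 D208
theorem N209 : nd 209 = n209 := ndS (p := 141) (l := 9) rfl N141 D209
theorem N210 : nd 210 = n210 := ndS (p := 142) (l := 9) rfl N142 D210
theorem N211 : nd 211 = n211 := ndS (p := 143) (l := 8) rfl N143 D211
theorem N212 : nd 212 = n212 := ndS (p := 144) (l := 8) rfl N144 D212
theorem N213 : nd 213 = n213 := ndS (p := 145) (l := 3) rfl N145 D213
theorem N214 : nd 214 = n214 := ndS (p := 146) (l := 3) rfl N146 D214
theorem N215 : nd 215 = n215 := ndS (p := 147) (l := 2) rfl N147 D215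
theorem N216 : nd 216 = n216 := ndS (p := 147) (l := 4) rfl N147 D216
theorem N217 : nd 217 = n217 := ndS (p := 148) (l := 8) rfl N148 D217
theorem N218 : nd 218 = n218 := ndS (p := 149) (l := 3) rfl N149 D218
theorem N219 : nd 219 = n219 := ndS (p := 150) (l := 2) rfl N150 D219
theorem N220 : nd 220 = n220 := ndS (p := 150) (l := 4) rfl N150 D220
theorem N221 : nd 221 = n221 := ndS (p := 151) (l := 1) rfl N151 D221
theorem N222 : nd 222 = n222 := ndS (p := 151) (l := 4) rfl N151 D222
theorem N223 : nd 223 = n223 := ndS (p := 152) (l := 5) rfl N152 D223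
theorem N224 : nd 224 = n224 := ndS (p := 153) (l := 6) rfl N153 D224
theorem N225 : nd 225 = n225 := ndS (p := 154) (l := 3) rfl N154 D225
theorem N226 : nd 226 = n226 := ndS (p := 155) (l := 2) rfl N155 D226
theorem N227 : nd 227 = n227 := ndS (p := 155) (l := 4) rfl N155 D227
theorem N228 : nd 228 = n228 := ndS (p := 156) (l := 1) rfl N156 D228
theorem N229 : nd 229 = n229 := ndS (p := 156) (l := 4) rfl N156 D229
theorem N230 : nd 230 = n230 := ndS (p := 158) (l := 0) rfl N158 D230
theorem N231 : nd 231 = n231 := ndS (p := 159) (l := 2) rfl N159 D231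
theorem N232 : nd 232 = n232 := ndS (p := 159) (l := 4) rfl N159 D232
theorem N233 : nd 233 = n233 := ndS (p := 160) (l := 1) rfl N160 D233
theorem N234 : nd 234 = n234 := ndS (p := 160) (l := 4) rfl N160 D234
theorem N235 : nd 235 = n235 := ndS (p := 161) (l := 5) rfl N161 D235
theorem N236 : nd 236 = n236 := ndS (p := 162) (l := 0) rfl N162 D236
theorem N237 : nd 237 = n237 := ndS (p := 162) (l := 4) rfl N162 D237
theorem N238 : nd 238 = n238 := ndS (p := 163) (l := 3) rfl N163 D238
theorem N239 : nd 239 = n239 := ndS (p := 165) (l := 4) rfl N165 D239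
theorem N240 : nd 240 = n240 := ndS (p := 165) (l := 6) rfl N165 D240
theorem N241 : nd 241 = n241 := ndS (p := 165) (l := 8) rfl N165 D241
theorem N242 : nd 242 = n242 := ndS (p := 165) (l := 9) rfl N165 D242
theorem N243 : nd 243 = n243 := ndS (p := 166) (l := 3) rfl N166 D243
theorem N244 : nd 244 = n244 := ndS (p := 166) (l := 9) rfl N166 D244
theorem N245 : nd 245 = n245 := ndS (p := 167) (l := 8) rfl N167 D245
theorem N246 : nd 246 = n246 := ndS (p := 168) (l := 6) rfl N168 D246
theorem N247 : nd 247 = n247 := ndS (p := 168) (l := 8) rfl N168 D247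
theorem N248 : nd 248 = n248 := ndS (p := 168) (l := 9) rfl N168 D248
theorem N249 : nd 249 = n249 := ndS (p := 169) (l := 7) rfl N169 D249
theorem N250 : nd 250 = n250 := ndS (p := 169) (l := 8) rfl N169 D250
theorem N251 : nd 251 = n251 := ndS (p := 169) (l := 9) rfl N169 D251
theorem N252 : nd 252 = n252 := ndS (p := 170) (l := 9) rfl N170 D252
theorem N253 : nd 253 = n253 := ndS (p := 171) (l := 8) rfl N171 D253
theorem N254 : nd 254 = n254 := ndS (p := 172) (l := 8) rfl N172 D254
theorem N255 : nd 255 = n255 := ndS (p := 173) (l := 3) rfl N173 D255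
theorem N256 : nd 256 = n256 := ndS (p := 174) (l := 9) rfl N174 D256
theorem N257 : nd 257 = n257 := ndS (p := 175) (l := 8) rfl N175 D257
theorem N258 : nd 258 = n258 := ndS (p := 176) (l := 3) rfl N176 D258
theorem N259 : nd 259 = n259 := ndS (p := 177) (l := 2) rfl N177 D259
theorem N260 : nd 260 = n260 := ndS (p := 177) (l := 4) rfl N177 D260
theorem N261 : nd 261 = n261 := ndS (p := 178) (l := 4) rfl N178 D261
theorem N262 : nd 262 = n262 := ndS (p := 179) (l := 5) rfl N179 D262
theorem N263 : nd 263 = n263 := ndS (p := 180) (l := 5) rfl N180 D263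
theorem N264 : nd 264 = n264 := ndS (p := 180) (l := 7) rfl N180 D264
theorem N265 : nd 265 = n265 := ndS (p := 180) (l := 8) rfl N180 D265
theorem N266 : nd 266 = n266 := ndS (p := 180) (l := 9) rfl N180 D266
theorem N267 : nd 267 = n267 := ndS (p := 181) (l := 3) rfl N181 D267
theorem N268 : nd 268 = n268 := ndS (p := 181) (l := 9) rfl N181 D268
theorem N269 : nd 269 = n269 := ndS (p := 182) (l := 8) rfl N182 D269
theorem N270 : nd 270 = n270 := ndS (p := 183) (l := 8) rfl N183 D270
theorem N271 : nd 271 = n271 := ndS (p := 183) (l := 9) rfl N183 D271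
theorem N272 : nd 272 = n272 := ndS (p := 184) (l := 9) rfl N184 D272
theorem N273 : nd 273 = n273 := ndS (p := 185) (l := 8) rfl N185 D273
theorem N274 : nd 274 = n274 := ndS (p := 186) (l := 8) rfl N186 D274
theorem N275 : nd 275 = n275 := ndS (p := 187) (l := 3) rfl N187 D275
theorem N276 : nd 276 = n276 := ndS (p := 188) (l := 3) rfl N188 D276
theorem N277 : nd 277 = n277 := ndS (p := 189) (l := 2) rfl N189 D277
theorem N278 : nd 278 = n278 := ndS (p := 189) (l := 4) rfl N189 D278
theorem N279 : nd 279 = n279 := ndS (p := 190) (l := 8) rfl N190 D279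
theorem N280 : nd 280 = n280 := ndS (p := 191) (l := 3) rfl N191 D280
theorem N281 : nd 281 = n281 := ndS (p := 192) (l := 2) rfl N192 D281
theorem N282 : nd 282 = n282 := ndS (p := 192) (l := 4) rfl N192 D282
theorem N283 : nd 283 = n283 := ndS (p := 193) (l := 1) rfl N193 D283
theorem N284 : nd 284 = n284 := ndS (p := 193) (l := 4) rfl N193 D284
theorem N285 : nd 285 = n285 := ndS (p := 194) (l := 5) rfl N194 D285
theorem N286 : nd 286 = n286 := ndS (p := 195) (l := 6) rfl N195 D286
theorem N287 : nd 287 = n287 := ndS (p := 196) (l := 3) rfl N196 D287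
theorem N288 : nd 288 = n288 := ndS (p := 197) (l := 2) rfl N197 D288
theorem N289 : nd 289 = n289 := ndS (p := 197) (l := 4) rfl N197 D289
theorem N290 : nd 290 = n290 := ndS (p := 198) (l := 1) rfl N198 D290
theorem N291 : nd 291 = n291 := ndS (p := 198) (l := 4) rfl N198 D291
theorem N292 : nd 292 = n292 := ndS (p := 200) (l := 0) rfl N200 D292
theorem N293 : nd 293 = n293 := ndS (p := 201) (l := 7) rfl N201 D293
theorem N294 : nd 294 = n294 := ndS (p := 201) (l := 8) rfl N201 D294
theorem N295 : nd 295 = n295 := ndS (p := 201) (l := 9) rfl N201 D295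
theorem N296 : nd 296 = n296 := ndS (p := 202) (l := 8) rfl N202 D296
theorem N297 : nd 297 = n297 := ndS (p := 202) (l := 9) rfl N202 D297
theorem N298 : nd 298 = n298 := ndS (p := 203) (l := 3) rfl N203 D298
theorem N299 : nd 299 = n299 := ndS (p := 203) (l := 9) rfl N203 D299
theorem N300 : nd 300 = n300 := ndS (p := 204) (l := 8) rfl N204 D300
theorem N301 : nd 301 = n301 := ndS (p := 205) (l := 2) rfl N205 D301
theorem N302 : nd 302 = n302 := ndS (p := 205) (l := 9) rfl N205 D302
theorem N303 : nd 303 = n303 := ndS (p := 206) (l := 8) rfl N206 D303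
theorem N304 : nd 304 = n304 := ndS (p := 207) (l := 3) rfl N207 D304
theorem N305 : nd 305 = n305 := ndS (p := 208) (l := 9) rfl N208 D305
theorem N306 : nd 306 = n306 := ndS (p := 209) (l := 8) rfl N209 D306
theorem N307 : nd 307 = n307 := ndS (p := 210) (l := 8) rfl N210 D307
theorem N308 : nd 308 = n308 := ndS (p := 211) (l := 3) rfl N211 D308
theorem N309 : nd 309 = n309 := ndS (p := 212) (l := 3) rfl N212 D309
theorem N310 : nd 310 = n310 := ndS (p := 213) (l := 2) rfl N213 D310
theorem N311 : nd 311 = n311 := ndS (p := 213) (l := 4) rfl N213 D311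
theorem N312 : nd 312 = n312 := ndS (p := 214) (l := 2) rfl N214 D312
theorem N313 : nd 313 = n313 := ndS (p := 214) (l := 4) rfl N214 D313
theorem N314 : nd 314 = n314 := ndS (p := 215) (l := 1) rfl N215 D314
theorem N315 : nd 315 = n315 := ndS (p := 215) (l := 4) rfl N215 D315
theorem N316 : nd 316 = n316 := ndS (p := 216) (l := 5) rfl N216 D316
theorem N317 : nd 317 = n317 := ndS (p := 217) (l := 3) rfl N217 D317
theorem N318 : nd 318 = n318 := ndS (p := 218) (l := 2) rfl N218 D318
theorem N319 : nd 319 = n319 := ndS (p := 218) (l := 4) rfl N218 D319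
theorem N320 : nd 320 = n320 := ndS (p := 219) (l := 1) rfl N219 D320
theorem N321 : nd 321 = n321 := ndS (p := 219) (l := 4) rfl N219 D321
theorem N322 : nd 322 = n322 := ndS (p := 220) (l := 5) rfl N220 D322
theorem N323 : nd 323 = n323 := ndS (p := 221) (l := 0) rfl N221 D323
theorem N324 : nd 324 = n324 := ndS (p := 221) (l := 4) rfl N221 D324
theorem N325 : nd 325 = n325 := ndS (p := 222) (l := 5) rfl N222 D325
theorem N326 : nd 326 = n326 := ndS (p := 223) (l := 6) rfl N223 D326
theorem N327 : nd 327 = n327 := ndS (p := 224) (l := 7) rfl N224 D327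
theorem N328 : nd 328 = n328 := ndS (p := 225) (l := 2) rfl N225 D328
theorem N329 : nd 329 = n329 := ndS (p := 225) (l := 4) rfl N225 D329
theorem N330 : nd 330 = n330 := ndS (p := 226) (l := 1) rfl N226 D330
theorem N331 : nd 331 = n331 := ndS (p := 226) (l := 4) rfl N226 D331
theorem N332 : nd 332 = n332 := ndS (p := 227) (l := 5) rfl N227 D332
theorem N333 : nd 333 = n333 := ndS (p := 228) (l := 0) rfl N228 D333
theorem N334 : nd 334 = n334 := ndS (p := 228) (l := 4) rfl N228 D334
theorem N335 : nd 335 = n335 := ndS (p := 229) (l := 3) rfl N229 D335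
theorem N336 : nd 336 = n336 := ndS (p := 231) (l := 1) rfl N231 D336
theorem N337 : nd 337 = n337 := ndS (p := 231) (l := 4) rfl N231 D337
theorem N338 : nd 338 = n338 := ndS (p := 232) (l := 5) rfl N232 D338
theorem N339 : nd 339 = n339 := ndS (p := 233) (l := 0) rfl N233 D339
theorem N340 : nd 340 = n340 := ndS (p := 233) (l := 4) rfl N233 D340
theorem N341 : nd 341 = n341 := ndS (p := 234) (l := 3) rfl N234 D341
theorem N342 : nd 342 = n342 := ndS (p := 234) (l := 5) rfl N234 D342
theorem N343 : nd 343 = n343 := ndS (p := 236) (l := 4) rfl N236 D343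
theorem N344 : nd 344 = n344 := ndS (p := 237) (l := 3) rfl N237 D344
theorem N345 : nd 345 = n345 := ndS (p := 238) (l := 8) rfl N238 D345
theorem N346 : nd 346 = n346 := ndS (p := 239) (l := 3) rfl N239 D346
theorem N347 : nd 347 = n347 := ndS (p := 239) (l := 6) rfl N239 D347
theorem N348 : nd 348 = n348 := ndS (p := 239) (l := 8) rfl N239 D348
theorem N349 : nd 349 = n349 := ndS (p := 239) (l := 9) rfl N239 D349
theorem N350 : nd 350 = n350 := ndS (p := 240) (l := 7) rfl N240 D350
theorem N351 : nd 351 = n351 := ndS (p := 240) (l := 8) rfl N240 D351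
theorem N352 : nd 352 = n352 := ndS (p := 240) (l := 9) rfl N240 D352
theorem N353 : nd 353 = n353 := ndS (p := 241) (l := 3) rfl N241 D353
theorem N354 : nd 354 = n354 := ndS (p := 241) (l := 9) rfl N241 D354
theorem N355 : nd 355 = n355 := ndS (p := 242) (l := 8) rfl N242 D355
theorem N356 : nd 356 = n356 := ndS (p := 243) (l := 4) rfl N243 D356
theorem N357 : nd 357 = n357 := ndS (p := 243) (l := 9) rfl N243 D357
theorem N358 : nd 358 = n358 := ndS (p := 244) (l := 8) rfl N244 D358
theorem N359 : nd 359 = n359 := ndS (p := 245) (l := 3) rfl N245 D359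
theorem N360 : nd 360 = n360 := ndS (p := 246) (l := 5) rfl N246 D360
theorem N361 : nd 361 = n361 := ndS (p := 246) (l := 7) rfl N246 D361
theorem N362 : nd 362 = n362 := ndS (p := 246) (l := 8) rfl N246 D362
theorem N363 : nd 363 = n363 := ndS (p := 246) (l := 9) rfl N246 D363
theorem N364 : nd 364 = n364 := ndS (p := 247) (l := 3) rfl N247 D364
theorem N365 : nd 365 = n365 := ndS (p := 247) (l := 9) rfl N247 D365
theorem N366 : nd 366 = n366 := ndS (p := 248) (l := 8) rfl N248 D366
theorem N367 : nd 367 = n367 := ndS (p := 249) (l := 8) rfl N249 D367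
theorem N368 : nd 368 = n368 := ndS (p := 249) (l := 9) rfl N249 D368
theorem N369 : nd 369 = n369 := ndS (p := 250) (l := 9) rfl N250 D369
theorem N370 : nd 370 = n370 := ndS (p := 251) (l := 8) rfl N251 D370
theorem N371 : nd 371 = n371 := ndS (p := 252) (l := 8) rfl N252 D371
theorem N372 : nd 372 = n372 := ndS (p := 253) (l := 3) rfl N253 D372
theorem N373 : nd 373 = n373 := ndS (p := 254) (l := 3) rfl N254 D373
theorem N374 : nd 374 = n374 := ndS (p := 255) (l := 2) rfl N255 D374
theorem N375 : nd 375 = n375 := ndS (p := 255) (l := 4) rfl N255 D375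
theorem N376 : nd 376 = n376 := ndS (p := 256) (l := 8) rfl N256 D376
theorem N377 : nd 377 = n377 := ndS (p := 257) (l := 3) rfl N257 D377
theorem N378 : nd 378 = n378 := ndS (p := 258) (l := 2) rfl N258 D378
theorem N379 : nd 379 = n379 := ndS (p := 258) (l := 4) rfl N258 D379
theorem N380 : nd 380 = n380 := ndS (p := 259) (l := 1) rfl N259 D380
theorem N381 : nd 381 = n381 := ndS (p := 259) (l := 4) rfl N259 D381
theorem N382 : nd 382 = n382 := ndS (p := 260) (l := 5) rfl N260 D382
theorem N383 : nd 383 = n383 := ndS (p := 261) (l := 3) rfl N261 D383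
theorem N384 : nd 384 = n384 := ndS (p := 261) (l := 5) rfl N261 D384
theorem N385 : nd 385 = n385 := ndS (p := 262) (l := 6) rfl N262 D385
theorem N386 : nd 386 = n386 := ndS (p := 263) (l := 7) rfl N263 D386
theorem N387 : nd 387 = n387 := ndS (p := 263) (l := 8) rfl N263 D387
theorem N388 : nd 388 = n388 := ndS (p := 263) (l := 9) rfl N263 D388
theorem N389 : nd 389 = n389 := ndS (p := 264) (l := 8) rfl N264 D389
theorem N390 : nd 390 = n390 := ndS (p := 264) (l := 9) rfl N264 D390
theorem N391 : nd 391 = n391 := ndS (p := 265) (l := 3) rfl N265 D391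
theorem N392 : nd 392 = n392 := ndS (p := 265) (l := 9) rfl N265 D392
theorem N393 : nd 393 = n393 := ndS (p := 266) (l := 8) rfl N266 D393
theorem N394 : nd 394 = n394 := ndS (p := 267) (l := 2) rfl N267 D394
theorem N395 : nd 395 = n395 := ndS (p := 267) (l := 9) rfl N267 D395
theorem N396 : nd 396 = n396 := ndS (p := 268) (l := 8) rfl N268 D396
theorem N397 : nd 397 = n397 := ndS (p := 269) (l := 3) rfl N269 D397
theorem N398 : nd 398 = n398 := ndS (p := 270) (l := 9) rfl N270 D398
theorem N399 : nd 399 = n399 := ndS (p := 271) (l := 8) rfl N271 D399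
theorem N400 : nd 400 = n400 := ndS (p := 272) (l := 8) rfl N272 D400
theorem N401 : nd 401 = n401 := ndS (p := 273) (l := 3) rfl N273 D401
theorem N402 : nd 402 = n402 := ndS (p := 274) (l := 3) rfl N274 D402
theorem N403 : nd 403 = n403 := ndS (p := 275) (l := 2) rfl N275 D403
theorem N404 : nd 404 = n404 := ndS (p := 275) (l := 4) rfl N275 D404
theorem N405 : nd 405 = n405 := ndS (p := 276) (l := 2) rfl N276 D405
theorem N406 : nd 406 = n406 := ndS (p := 276) (l := 4) rfl N276 D406
theorem N407 : nd 407 = n407 := ndS (p := 277) (l := 1) rfl N277 D407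
theorem N408 : nd 408 = n408 := ndS (p := 277) (l := 4) rfl N277 D408
theorem N409 : nd 409 = n409 := ndS (p := 278) (l := 5) rfl N278 D409
theorem N410 : nd 410 = n410 := ndS (p := 279) (l := 3) rfl N279 D410
theorem N411 : nd 411 = n411 := ndS (p := 280) (l := 2) rfl N280 D411
theorem N412 : nd 412 = n412 := ndS (p := 280) (l := 4) rfl N280 D412
theorem N413 : nd 413 = n413 := ndS (p := 281) (l := 1) rfl N281 D413
theorem N414 : nd 414 = n414 := ndS (p := 281) (l := 4) rfl N281 D414
theorem N415 : nd 415 = n415 := ndS (p := 282) (l := 5) rfl N282 D415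
theorem N416 : nd 416 = n416 := ndS (p := 283) (l := 0) rfl N283 D416
theorem N417 : nd 417 = n417 := ndS (p := 283) (l := 4) rfl N283 D417
theorem N418 : nd 418 = n418 := ndS (p := 284) (l := 5) rfl N284 D418
theorem N419 : nd 419 = n419 := ndS (p := 285) (l := 6) rfl N285 D419
theorem N420 : nd 420 = n420 := ndS (p := 286) (l := 7) rfl N286 D420
theorem N421 : nd 421 = n421 := ndS (p := 287) (l := 2) rfl N287 D421
theorem N422 : nd 422 = n422 := ndS (p := 287) (l := 4) rfl N287 D422
theorem N423 : nd 423 = n423 := ndS (p := 288) (l := 1) rfl N288 D423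
theorem N424 : nd 424 = n424 := ndS (p := 288) (l := 4) rfl N288 D424
theorem N425 : nd 425 = n425 := ndS (p := 289) (l := 5) rfl N289 D425
theorem N426 : nd 426 = n426 := ndS (p := 290) (l := 0) rfl N290 D426
theorem N427 : nd 427 = n427 := ndS (p := 290) (l := 4) rfl N290 D427
theorem N428 : nd 428 = n428 := ndS (p := 291) (l := 3) rfl N291 D428
theorem N429 : nd 429 = n429 := ndS (p := 293) (l := 6) rfl N293 D429
theorem N430 : nd 430 = n430 := ndS (p := 293) (l := 8) rfl N293 D430
theorem N431 : nd 431 = n431 := ndS (p := 293) (l := 9) rfl N293 D431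
theorem N432 : nd 432 = n432 := ndS (p := 294) (l := 3) rfl N294 D432
theorem N433 : nd 433 = n433 := ndS (p := 294) (l := 9) rfl N294 D433
theorem N434 : nd 434 = n434 := ndS (p := 295) (l := 8) rfl N295 D434
theorem N435 : nd 435 = n435 := ndS (p := 296) (l := 3) rfl N296 D435
theorem N436 : nd 436 = n436 := ndS (p := 296) (l := 9) rfl N296 D436
theorem N437 : nd 437 = n437 := ndS (p := 297) (l := 8) rfl N297 D437
theorem N438 : nd 438 = n438 := ndS (p := 298) (l := 2) rfl N298 D438
theorem N439 : nd 439 = n439 := ndS (p := 298) (l := 9) rfl N298 D439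
theorem N440 : nd 440 = n440 := ndS (p := 299) (l := 8) rfl N299 D440
theorem N441 : nd 441 = n441 := ndS (p := 300) (l := 3) rfl N300 D441
theorem N442 : nd 442 = n442 := ndS (p := 301) (l := 1) rfl N301 D442
theorem N443 : nd 443 = n443 := ndS (p := 301) (l := 9) rfl N301 D443
theorem N444 : nd 444 = n444 := ndS (p := 302) (l := 8) rfl N302 D444
theorem N445 : nd 445 = n445 := ndS (p := 303) (l := 3) rfl N303 D445
theorem N446 : nd 446 = n446 := ndS (p := 304) (l := 2) rfl N304 D446
theorem N447 : nd 447 = n447 := ndS (p := 304) (l := 4) rfl N304 D447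
theorem N448 : nd 448 = n448 := ndS (p := 305) (l := 8) rfl N305 D448
theorem N449 : nd 449 = n449 := ndS (p := 306) (l := 3) rfl N306 D449
theorem N450 : nd 450 = n450 := ndS (p := 307) (l := 3) rfl N307 D450
theorem N451 : nd 451 = n451 := ndS (p := 308) (l := 2) rfl N308 D451
theorem N452 : nd 452 = n452 := ndS (p := 308) (l := 4) rfl N308 D452
theorem N453 : nd 453 = n453 := ndS (p := 309) (l := 2) rfl N309 D453
theorem N454 : nd 454 = n454 := ndS (p := 309) (l := 4) rfl N309 D454
theorem N455 : nd 455 = n455 := ndS (p := 310) (l := 1) rfl N310 D455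
theorem N456 : nd 456 = n456 := ndS (p := 310) (l := 4) rfl N310 D456
theorem N457 : nd 457 = n457 := ndS (p := 311) (l := 5) rfl N311 D457
theorem N458 : nd 458 = n458 := ndS (p := 312) (l := 1) rfl N312 D458
theorem N459 : nd 459 = n459 := ndS (p := 312) (l := 4) rfl N312 D459
theorem N460 : nd 460 = n460 := ndS (p := 313) (l := 5) rfl N313 D460
theorem N461 : nd 461 = n461 := ndS (p := 314) (l := 0) rfl N314 D461
theorem N462 : nd 462 = n462 := ndS (p := 314) (l := 4) rfl N314 D462
theorem N463 : nd 463 = n463 := ndS (p := 315) (l := 3) rfl N315 D463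
theorem N464 : nd 464 = n464 := ndS (p := 315) (l := 5) rfl N315 D464
theorem N465 : nd 465 = n465 := ndS (p := 316) (l := 6) rfl N316 D465
theorem N466 : nd 466 = n466 := ndS (p := 317) (l := 2) rfl N317 D466
theorem N467 : nd 467 = n467 := ndS (p := 317) (l := 4) rfl N317 D467
theorem N468 : nd 468 = n468 := ndS (p := 318) (l := 1) rfl N318 D468
theorem N469 : nd 469 = n469 := ndS (p := 318) (l := 4) rfl N318 D469
theorem N470 : nd 470 = n470 := ndS (p := 319) (l := 5) rfl N319 D470
theorem N471 : nd 471 = n471 := ndS (p := 320) (l := 0) rfl N320 D471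
theorem N472 : nd 472 = n472 := ndS (p := 320) (l := 4) rfl N320 D472
theorem N473 : nd 473 = n473 := ndS (p := 321) (l := 3) rfl N321 D473
theorem N474 : nd 474 = n474 := ndS (p := 321) (l := 5) rfl N321 D474
theorem N475 : nd 475 = n475 := ndS (p := 322) (l := 6) rfl N322 D475
theorem N476 : nd 476 = n476 := ndS (p := 323) (l := 4) rfl N323 D476
theorem N477 : nd 477 = n477 := ndS (p := 324) (l := 5) rfl N324 D477
theorem N478 : nd 478 = n478 := ndS (p := 325) (l := 6) rfl N325 D478
theorem N479 : nd 479 = n479 := ndS (p := 326) (l := 7) rfl N326 D479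
theorem N480 : nd 480 = n480 := ndS (p := 328) (l := 1) rfl N328 D480
theorem N481 : nd 481 = n481 := ndS (p := 328) (l := 4) rfl N328 D481
theorem N482 : nd 482 = n482 := ndS (p := 329) (l := 5) rfl N329 D482
theorem N483 : nd 483 = n483 := ndS (p := 330) (l := 0) rfl N330 D483
theorem N484 : nd 484 = n484 := ndS (p := 330) (l := 4) rfl N330 D484
theorem N485 : nd 485 = n485 := ndS (p := 331) (l := 3) rfl N331 D485
theorem N486 : nd 486 = n486 := ndS (p := 331) (l := 5) rfl N331 D486
theorem N487 : nd 487 = n487 := ndS (p := 333) (l := 4) rfl N333 D487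
theorem N488 : nd 488 = n488 := ndS (p := 334) (l := 3) rfl N334 D488
theorem N489 : nd 489 = n489 := ndS (p := 335) (l := 8) rfl N335 D489
theorem N490 : nd 490 = n490 := ndS (p := 336) (l := 0) rfl N336 D490
theorem N491 : nd 491 = n491 := ndS (p := 336) (l := 4) rfl N336 D491
theorem N492 : nd 492 = n492 := ndS (p := 337) (l := 3) rfl N337 D492
theorem N493 : nd 493 = n493 := ndS (p := 337) (l := 5) rfl N337 D493
theorem N494 : nd 494 = n494 := ndS (p := 338) (l := 6) rfl N338 D494
theorem N495 : nd 495 = n495 := ndS (p := 339) (l := 4) rfl N339 D495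
theorem N496 : nd 496 = n496 := ndS (p := 340) (l := 3) rfl N340 D496
theorem N497 : nd 497 = n497 := ndS (p := 340) (l := 5) rfl N340 D497
theorem N498 : nd 498 = n498 := ndS (p := 341) (l := 5) rfl N341 D498
theorem N499 : nd 499 = n499 := ndS (p := 341) (l := 8) rfl N341 D499
theorem N500 : nd 500 = n500 := ndS (p := 343) (l := 3) rfl N343 D500
theorem N501 : nd 501 = n504 := ndS (p := 346) (l := 6) rfl N346 D504
theorem N502 : nd 502 = n505 := ndS (p := 346) (l := 9) rfl N346 D505
theorem N503 : nd 503 = n506 := ndS (p := 347) (l := 5) rfl N347 D506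
theorem N504 : nd 504 = n507 := ndS (p := 347) (l := 7) rfl N347 D507
theorem N505 : nd 505 = n508 := ndS (p := 347) (l := 8) rfl N347 D508
theorem N506 : nd 506 = n509 := ndS (p := 347) (l := 9) rfl N347 D509
theorem N507 : nd 507 = n510 := ndS (p := 348) (l := 9) rfl N348 D510
theorem N508 : nd 508 = n511 := ndS (p := 349) (l := 8) rfl N349 D511
theorem N509 : nd 509 = n512 := ndS (p := 350) (l := 8) rfl N350 D512
theorem N510 : nd 510 = n513 := ndS (p := 350) (l := 9) rfl N350 D513
theorem N511 : nd 511 = n514 := ndS (p := 351) (l := 3) rfl N351 D514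
theorem N512 : nd 512 = n515 := ndS (p := 351) (l := 9) rfl N351 D515
theorem N513 : nd 513 = n516 := ndS (p := 352) (l := 8) rfl N352 D516
theorem N514 : nd 514 = n517 := ndS (p := 353) (l := 9) rfl N353 D517
theorem N515 : nd 515 = n518 := ndS (p := 354) (l := 8) rfl N354 D518
theorem N516 : nd 516 = n519 := ndS (p := 355) (l := 3) rfl N355 D519
theorem N517 : nd 517 = n520 := ndS (p := 356) (l := 9) rfl N356 D520
theorem N518 : nd 518 = n521 := ndS (p := 357) (l := 8) rfl N357 D521
theorem N519 : nd 519 = n522 := ndS (p := 358) (l := 3) rfl N358 D522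
theorem N520 : nd 520 = n523 := ndS (p := 359) (l := 2) rfl N359 D523
theorem N521 : nd 521 = n524 := ndS (p := 359) (l := 4) rfl N359 D524
theorem N522 : nd 522 = n525 := ndS (p := 360) (l := 7) rfl N360 D525
theorem N523 : nd 523 = n526 := ndS (p := 360) (l := 8) rfl N360 D526
theorem N524 : nd 524 = n527 := ndS (p := 360) (l := 9) rfl N360 D527
theorem N525 : nd 525 = n528 := ndS (p := 361) (l := 8) rfl N361 D528
theorem N526 : nd 526 = n529 := ndS (p := 361) (l := 9) rfl N361 D529
theorem N527 : nd 527 = n530 := ndS (p := 362) (l := 3) rfl N362 D530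
theorem N528 : nd 528 = n531 := ndS (p := 362) (l := 9) rfl N362 D531
theorem N529 : nd 529 = n532 := ndS (p := 363) (l := 8) rfl N363 D532
theorem N530 : nd 530 = n533 := ndS (p := 364) (l := 9) rfl N364 D533
theorem N531 : nd 531 = n534 := ndS (p := 365) (l := 8) rfl N365 D534
theorem N532 : nd 532 = n535 := ndS (p := 366) (l := 3) rfl N366 D535
theorem N533 : nd 533 = n536 := ndS (p := 367) (l := 9) rfl N367 D536
theorem N534 : nd 534 = n537 := ndS (p := 368) (l := 8) rfl N368 D537
theorem N535 : nd 535 = n538 := ndS (p := 369) (l := 8) rfl N369 D538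
theorem N536 : nd 536 = n539 := ndS (p := 370) (l := 3) rfl N370 D539
theorem N537 : nd 537 = n540 := ndS (p := 371) (l := 3) rfl N371 D540
theorem N538 : nd 538 = n541 := ndS (p := 372) (l := 2) rfl N372 D541
theorem N539 : nd 539 = n542 := ndS (p := 372) (l := 4) rfl N372 D542
theorem N540 : nd 540 = n543 := ndS (p := 373) (l := 2) rfl N373 D543
theorem N541 : nd 541 = n544 := ndS (p := 373) (l := 4) rfl N373 D544
theorem N542 : nd 542 = n545 := ndS (p := 374) (l := 1) rfl N374 D545
theorem N543 : nd 543 = n546 := ndS (p := 374) (l := 4) rfl N374 D546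
theorem N544 : nd 544 = n547 := ndS (p := 375) (l := 5) rfl N375 D547
theorem N545 : nd 545 = n548 := ndS (p := 376) (l := 3) rfl N376 D548
theorem N546 : nd 546 = n549 := ndS (p := 377) (l := 2) rfl N377 D549
theorem N547 : nd 547 = n550 := ndS (p := 377) (l := 4) rfl N377 D550
theorem N548 : nd 548 = n551 := ndS (p := 378) (l := 1) rfl N378 D551
theorem N549 : nd 549 = n552 := ndS (p := 378) (l := 4) rfl N378 D552
theorem N550 : nd 550 = n553 := ndS (p := 379) (l := 5) rfl N379 D553
theorem N551 : nd 551 = n554 := ndS (p := 380) (l := 0) rfl N380 D554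
theorem N552 : nd 552 = n555 := ndS (p := 380) (l := 4) rfl N380 D555
theorem N553 : nd 553 = n556 := ndS (p := 381) (l := 3) rfl N381 D556
theorem N554 : nd 554 = n557 := ndS (p := 381) (l := 5) rfl N381 D557
theorem N555 : nd 555 = n558 := ndS (p := 382) (l := 6) rfl N382 D558
theorem N556 : nd 556 = n559 := ndS (p := 383) (l := 5) rfl N383 D559
theorem N557 : nd 557 = n560 := ndS (p := 383) (l := 8) rfl N383 D560
theorem N558 : nd 558 = n561 := ndS (p := 384) (l := 6) rfl N384 D561
theorem N559 : nd 559 = n562 := ndS (p := 385) (l := 7) rfl N385 D562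
theorem N560 : nd 560 = n563 := ndS (p := 386) (l := 6) rfl N386 D563
theorem N561 : nd 561 = n564 := ndS (p := 386) (l := 8) rfl N386 D564
theorem N562 : nd 562 = n565 := ndS (p := 386) (l := 9) rfl N386 D565
theorem N563 : nd 563 = n566 := ndS (p := 387) (l := 3) rfl N387 D566
theorem N564 : nd 564 = n567 := ndS (p := 387) (l := 9) rfl N387 D567
theorem N565 : nd 565 = n568 := ndS (p := 388) (l := 8) rfl N388 D568
theorem N566 : nd 566 = n569 := ndS (p := 389) (l := 3) rfl N389 D569
theorem N567 : nd 567 = n570 := ndS (p := 389) (l := 9) rfl N389 D570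
theorem N568 : nd 568 = n571 := ndS (p := 390) (l := 8) rfl N390 D571
theorem N569 : nd 569 = n572 := ndS (p := 391) (l := 2) rfl N391 D572
theorem N570 : nd 570 = n573 := ndS (p := 391) (l := 9) rfl N391 D573
theorem N571 : nd 571 = n574 := ndS (p := 392) (l := 8) rfl N392 D574
theorem N572 : nd 572 = n575 := ndS (p := 393) (l := 3) rfl N393 D575
theorem N573 : nd 573 = n576 := ndS (p := 394) (l := 9) rfl N394 D576
theorem N574 : nd 574 = n577 := ndS (p := 395) (l := 8) rfl N395 D577
theorem N575 : nd 575 = n578 := ndS (p := 396) (l := 3) rfl N396 D578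
theorem N576 : nd 576 = n579 := ndS (p := 397) (l := 2) rfl N397 D579
theorem N577 : nd 577 = n580 := ndS (p := 397) (l := 4) rfl N397 D580
theorem N578 : nd 578 = n581 := ndS (p := 398) (l := 8) rfl N398 D581
theorem N579 : nd 579 = n582 := ndS (p := 399) (l := 3) rfl N399 D582
theorem N580 : nd 580 = n583 := ndS (p := 400) (l := 3) rfl N400 D583
theorem N581 : nd 581 = n584 := ndS (p := 401) (l := 2) rfl N401 D584
theorem N582 : nd 582 = n585 := ndS (p := 401) (l := 4) rfl N401 D585
theorem N583 : nd 583 = n586 := ndS (p := 402) (l := 2) rfl N402 D586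
theorem N584 : nd 584 = n587 := ndS (p := 402) (l := 4) rfl N402 D587
theorem N585 : nd 585 = n588 := ndS (p := 403) (l := 1) rfl N403 D588
theorem N586 : nd 586 = n589 := ndS (p := 403) (l := 4) rfl N403 D589
theorem N587 : nd 587 = n590 := ndS (p := 404) (l := 5) rfl N404 D590
theorem N588 : nd 588 = n591 := ndS (p := 405) (l := 1) rfl N405 D591
theorem N589 : nd 589 = n592 := ndS (p := 405) (l := 4) rfl N405 D592
theorem N590 : nd 590 = n593 := ndS (p := 406) (l := 5) rfl N406 D593
theorem N591 : nd 591 = n594 := ndS (p := 407) (l := 0) rfl N407 D594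
theorem N592 : nd 592 = n595 := ndS (p := 407) (l := 4) rfl N407 D595
theorem N593 : nd 593 = n596 := ndS (p := 408) (l := 3) rfl N408 D596
theorem N594 : nd 594 = n597 := ndS (p := 408) (l := 5) rfl N408 D597
theorem N595 : nd 595 = n598 := ndS (p := 409) (l := 6) rfl N409 D598
theorem N596 : nd 596 = n599 := ndS (p := 410) (l := 2) rfl N410 D599
theorem N597 : nd 597 = n600 := ndS (p := 410) (l := 4) rfl N410 D600
theorem N598 : nd 598 = n601 := ndS (p := 411) (l := 1) rfl N411 D601
theorem N599 : nd 599 = n602 := ndS (p := 411) (l := 4) rfl N411 D602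
theorem N600 : nd 600 = n603 := ndS (p := 412) (l := 5) rfl N412 D603
theorem N601 : nd 601 = n604 := ndS (p := 413) (l := 0) rfl N413 D604
theorem N602 : nd 602 = n605 := ndS (p := 413) (l := 4) rfl N413 D605
theorem N603 : nd 603 = n606 := ndS (p := 414) (l := 3) rfl N414 D606
theorem N604 : nd 604 = n607 := ndS (p := 414) (l := 5) rfl N414 D607
theorem N605 : nd 605 = n608 := ndS (p := 415) (l := 6) rfl N415 D608
theorem N606 : nd 606 = n609 := ndS (p := 416) (l := 4) rfl N416 D609
theorem N607 : nd 607 = n610 := ndS (p := 417) (l := 5) rfl N417 D610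
theorem N608 : nd 608 = n611 := ndS (p := 418) (l := 6) rfl N418 D611
theorem N609 : nd 609 = n612 := ndS (p := 419) (l := 7) rfl N419 D612
theorem N610 : nd 610 = n613 := ndS (p := 421) (l := 1) rfl N421 D613
theorem N611 : nd 611 = n614 := ndS (p := 421) (l := 4) rfl N421 D614
theorem N612 : nd 612 = n615 := ndS (p := 422) (l := 5) rfl N422 D615
theorem N613 : nd 613 = n616 := ndS (p := 423) (l := 0) rfl N423 D616
theorem N614 : nd 614 = n617 := ndS (p := 423) (l := 4) rfl N423 D617
theorem N615 : nd 615 = n618 := ndS (p := 424) (l := 3) rfl N424 D618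
theorem N616 : nd 616 = n619 := ndS (p := 424) (l := 5) rfl N424 D619
theorem N617 : nd 617 = n620 := ndS (p := 426) (l := 4) rfl N426 D620
theorem N618 : nd 618 = n621 := ndS (p := 427) (l := 3) rfl N427 D621
theorem N619 : nd 619 = n622 := ndS (p := 428) (l := 8) rfl N428 D622
theorem N620 : nd 620 = n623 := ndS (p := 429) (l := 8) rfl N429 D623
theorem N621 : nd 621 = n624 := ndS (p := 429) (l := 9) rfl N429 D624
theorem N622 : nd 622 = n625 := ndS (p := 430) (l := 3) rfl N430 D625
theorem N623 : nd 623 = n626 := ndS (p := 430) (l := 9) rfl N430 D626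
theorem N624 : nd 624 = n627 := ndS (p := 431) (l := 8) rfl N431 D627
theorem N625 : nd 625 = n628 := ndS (p := 432) (l := 2) rfl N432 D628
theorem N626 : nd 626 = n629 := ndS (p := 432) (l := 4) rfl N432 D629
theorem N627 : nd 627 = n630 := ndS (p := 432) (l := 9) rfl N432 D630
theorem N628 : nd 628 = n631 := ndS (p := 433) (l := 8) rfl N433 D631
theorem N629 : nd 629 = n632 := ndS (p := 434) (l := 3) rfl N434 D632
theorem N630 : nd 630 = n633 := ndS (p := 435) (l := 2) rfl N435 D633
theorem N631 : nd 631 = n634 := ndS (p := 435) (l := 9) rfl N435 D634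
theorem N632 : nd 632 = n635 := ndS (p := 436) (l := 8) rfl N436 D635
theorem N633 : nd 633 = n636 := ndS (p := 437) (l := 3) rfl N437 D636
theorem N634 : nd 634 = n637 := ndS (p := 438) (l := 1) rfl N438 D637
theorem N635 : nd 635 = n638 := ndS (p := 438) (l := 9) rfl N438 D638
theorem N636 : nd 636 = n639 := ndS (p := 439) (l := 8) rfl N439 D639
theorem N637 : nd 637 = n640 := ndS (p := 440) (l := 3) rfl N440 D640
theorem N638 : nd 638 = n641 := ndS (p := 441) (l := 2) rfl N441 D641
theorem N639 : nd 639 = n642 := ndS (p := 441) (l := 4) rfl N441 D642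
theorem N640 : nd 640 = n645 := ndS (p := 444) (l := 3) rfl N444 D645
theorem N641 : nd 641 = n646 := ndS (p := 445) (l := 2) rfl N445 D646
theorem N642 : nd 642 = n647 := ndS (p := 445) (l := 4) rfl N445 D647
theorem N643 : nd 643 = n648 := ndS (p := 446) (l := 1) rfl N446 D648
theorem N644 : nd 644 = n649 := ndS (p := 446) (l := 4) rfl N446 D649
theorem N645 : nd 645 = n650 := ndS (p := 447) (l := 5) rfl N447 D650
theorem N646 : nd 646 = n651 := ndS (p := 448) (l := 3) rfl N448 D651
theorem N647 : nd 647 = n652 := ndS (p := 449) (l := 2) rfl N449 D652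
theorem N648 : nd 648 = n653 := ndS (p := 449) (l := 4) rfl N449 D653
theorem N649 : nd 649 = n654 := ndS (p := 450) (l := 2) rfl N450 D654
theorem N650 : nd 650 = n655 := ndS (p := 450) (l := 4) rfl N450 D655
theorem N651 : nd 651 = n656 := ndS (p := 451) (l := 1) rfl N451 D656
theorem N652 : nd 652 = n657 := ndS (p := 451) (l := 4) rfl N451 D657
theorem N653 : nd 653 = n658 := ndS (p := 452) (l := 5) rfl N452 D658
theorem N654 : nd 654 = n659 := ndS (p := 453) (l := 1) rfl N453 D659
theorem N655 : nd 655 = n660 := ndS (p := 453) (l := 4) rfl N453 D660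
theorem N656 : nd 656 = n661 := ndS (p := 454) (l := 5) rfl N454 D661
theorem N657 : nd 657 = n662 := ndS (p := 455) (l := 0) rfl N455 D662
theorem N658 : nd 658 = n663 := ndS (p := 455) (l := 4) rfl N455 D663
theorem N659 : nd 659 = n664 := ndS (p := 456) (l := 3) rfl N456 D664
theorem N660 : nd 660 = n665 := ndS (p := 456) (l := 5) rfl N456 D665
theorem N661 : nd 661 = n666 := ndS (p := 457) (l := 6) rfl N457 D666
theorem N662 : nd 662 = n667 := ndS (p := 458) (l := 0) rfl N458 D667
theorem N663 : nd 663 = n668 := ndS (p := 458) (l := 4) rfl N458 D668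
theorem N664 : nd 664 = n669 := ndS (p := 459) (l := 3) rfl N459 D669
theorem N665 : nd 665 = n670 := ndS (p := 459) (l := 5) rfl N459 D670
theorem N666 : nd 666 = n671 := ndS (p := 460) (l := 6) rfl N460 D671
theorem N667 : nd 667 = n672 := ndS (p := 461) (l := 4) rfl N461 D672
theorem N668 : nd 668 = n673 := ndS (p := 462) (l := 3) rfl N462 D673
theorem N669 : nd 669 = n674 := ndS (p := 462) (l := 5) rfl N462 D674
theorem N670 : nd 670 = n675 := ndS (p := 463) (l := 5) rfl N463 D675
theorem N671 : nd 671 = n676 := ndS (p := 464) (l := 6) rfl N464 D676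
theorem N672 : nd 672 = n677 := ndS (p := 465) (l := 7) rfl N465 D677
theorem N673 : nd 673 = n678 := ndS (p := 466) (l := 1) rfl N466 D678
theorem N674 : nd 674 = n679 := ndS (p := 466) (l := 4) rfl N466 D679
theorem N675 : nd 675 = n680 := ndS (p := 467) (l := 5) rfl N467 D680
theorem N676 : nd 676 = n681 := ndS (p := 468) (l := 0) rfl N468 D681
theorem N677 : nd 677 = n682 := ndS (p := 468) (l := 4) rfl N468 D682
theorem N678 : nd 678 = n683 := ndS (p := 469) (l := 3) rfl N469 D683
theorem N679 : nd 679 = n684 := ndS (p := 469) (l := 5) rfl N469 D684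
theorem N680 : nd 680 = n685 := ndS (p := 470) (l := 6) rfl N470 D685
theorem N681 : nd 681 = n686 := ndS (p := 471) (l := 4) rfl N471 D686
theorem N682 : nd 682 = n687 := ndS (p := 472) (l := 3) rfl N472 D687
theorem N683 : nd 683 = n688 := ndS (p := 472) (l := 5) rfl N472 D688
theorem N684 : nd 684 = n689 := ndS (p := 473) (l := 5) rfl N473 D689
theorem N685 : nd 685 = n690 := ndS (p := 473) (l := 8) rfl N473 D690
theorem N686 : nd 686 = n691 := ndS (p := 474) (l := 6) rfl N474 D691
theorem N687 : nd 687 = n692 := ndS (p := 475) (l := 7) rfl N475 D692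
theorem N688 : nd 688 = n693 := ndS (p := 476) (l := 5) rfl N476 D693
theorem N689 : nd 689 = n694 := ndS (p := 477) (l := 6) rfl N477 D694
theorem N690 : nd 690 = n695 := ndS (p := 478) (l := 7) rfl N478 D695
theorem N691 : nd 691 = n696 := ndS (p := 480) (l := 0) rfl N480 D696
theorem N692 : nd 692 = n697 := ndS (p := 480) (l := 4) rfl N480 D697
theorem N693 : nd 693 = n698 := ndS (p := 481) (l := 3) rfl N481 D698
theorem N694 : nd 694 = n699 := ndS (p := 481) (l := 5) rfl N481 D699
theorem N695 : nd 695 = n700 := ndS (p := 482) (l := 6) rfl N482 D700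
theorem N696 : nd 696 = n701 := ndS (p := 483) (l := 4) rfl N483 D701
theorem N697 : nd 697 = n702 := ndS (p := 484) (l := 3) rfl N484 D702
theorem N698 : nd 698 = n703 := ndS (p := 484) (l := 5) rfl N484 D703
theorem N699 : nd 699 = n704 := ndS (p := 485) (l := 5) rfl N485 D704
theorem N700 : nd 700 = n705 := ndS (p := 485) (l := 8) rfl N485 D705
theorem N701 : nd 701 = n706 := ndS (p := 487) (l := 3) rfl N487 D706
theorem N702 : nd 702 = n710 := ndS (p := 490) (l := 4) rfl N490 D710
theorem N703 : nd 703 = n711 := ndS (p := 491) (l := 3) rfl N491 D711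
theorem N704 : nd 704 = n712 := ndS (p := 491) (l := 5) rfl N491 D712
theorem N705 : nd 705 = n713 := ndS (p := 492) (l := 5) rfl N492 D713
theorem N706 : nd 706 = n714 := ndS (p := 492) (l := 8) rfl N492 D714
theorem N707 : nd 707 = n715 := ndS (p := 493) (l := 6) rfl N493 D715
theorem N708 : nd 708 = n716 := ndS (p := 495) (l := 3) rfl N495 D716
theorem N709 : nd 709 = n717 := ndS (p := 495) (l := 5) rfl N495 D717
theorem N710 : nd 710 = n719 := ndS (p := 496) (l := 5) rfl N496 D719
theorem N711 : nd 711 = n721 := ndS (p := 498) (l := 4) rfl N498 D721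
theorem N712 : nd 712 = n722 := ndS (p := 498) (l := 8) rfl N498 D722
theorem N713 : nd 713 = n728 := ndS (p := 501) (l := 5) rfl N501 D728
theorem N714 : nd 714 = n729 := ndS (p := 501) (l := 7) rfl N501 D729
theorem N715 : nd 715 = n730 := ndS (p := 501) (l := 9) rfl N501 D730
theorem N716 : nd 716 = n731 := ndS (p := 502) (l := 8) rfl N502 D731
theorem N717 : nd 717 = n732 := ndS (p := 503) (l := 7) rfl N503 D732
theorem N718 : nd 718 = n733 := ndS (p := 503) (l := 8) rfl N503 D733
theorem N719 : nd 719 = n734 := ndS (p := 503) (l := 9) rfl N503 D734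
theorem N720 : nd 720 = n735 := ndS (p := 504) (l := 8) rfl N504 D735
theorem N721 : nd 721 = n736 := ndS (p := 504) (l := 9) rfl N504 D736
theorem N722 : nd 722 = n737 := ndS (p := 505) (l := 9) rfl N505 D737
theorem N723 : nd 723 = n738 := ndS (p := 506) (l := 8) rfl N506 D738
theorem N724 : nd 724 = n739 := ndS (p := 507) (l := 8) rfl N507 D739
theorem N725 : nd 725 = n740 := ndS (p := 508) (l := 3) rfl N508 D740
theorem N726 : nd 726 = n741 := ndS (p := 509) (l := 3) rfl N509 D741
theorem N727 : nd 727 = n742 := ndS (p := 509) (l := 9) rfl N509 D742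
theorem N728 : nd 728 = n743 := ndS (p := 510) (l := 8) rfl N510 D743
theorem N729 : nd 729 = n744 := ndS (p := 511) (l := 9) rfl N511 D744
theorem N730 : nd 730 = n745 := ndS (p := 512) (l := 8) rfl N512 D745
theorem N731 : nd 731 = n746 := ndS (p := 513) (l := 3) rfl N513 D746
theorem N732 : nd 732 = n747 := ndS (p := 514) (l := 8) rfl N514 D747
theorem N733 : nd 733 = n748 := ndS (p := 515) (l := 3) rfl N515 D748
theorem N734 : nd 734 = n749 := ndS (p := 516) (l := 2) rfl N516 D749
theorem N735 : nd 735 = n750 := ndS (p := 516) (l := 4) rfl N516 D750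
theorem N736 : nd 736 = n751 := ndS (p := 517) (l := 8) rfl N517 D751
theorem N737 : nd 737 = n752 := ndS (p := 518) (l := 3) rfl N518 D752
theorem N738 : nd 738 = n753 := ndS (p := 519) (l := 2) rfl N519 D753
theorem N739 : nd 739 = n754 := ndS (p := 519) (l := 4) rfl N519 D754
theorem N740 : nd 740 = n755 := ndS (p := 520) (l := 1) rfl N520 D755
theorem N741 : nd 741 = n756 := ndS (p := 520) (l := 4) rfl N520 D756
theorem N742 : nd 742 = n757 := ndS (p := 521) (l := 5) rfl N521 D757
theorem N743 : nd 743 = n758 := ndS (p := 522) (l := 6) rfl N522 D758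
theorem N744 : nd 744 = n759 := ndS (p := 522) (l := 8) rfl N522 D759
theorem N745 : nd 745 = n760 := ndS (p := 522) (l := 9) rfl N522 D760
theorem N746 : nd 746 = n761 := ndS (p := 523) (l := 3) rfl N523 D761
theorem N747 : nd 747 = n762 := ndS (p := 523) (l := 9) rfl N523 D762
theorem N748 : nd 748 = n763 := ndS (p := 524) (l := 8) rfl N524 D763
theorem N749 : nd 749 = n764 := ndS (p := 525) (l := 3) rfl N525 D764
theorem N750 : nd 750 = n765 := ndS (p := 525) (l := 9) rfl N525 D765
theorem N751 : nd 751 = n766 := ndS (p := 526) (l := 8) rfl N526 D766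
theorem N752 : nd 752 = n767 := ndS (p := 527) (l := 9) rfl N527 D767
theorem N753 : nd 753 = n768 := ndS (p := 528) (l := 8) rfl N528 D768
theorem N754 : nd 754 = n769 := ndS (p := 529) (l := 3) rfl N529 D769
theorem N755 : nd 755 = n770 := ndS (p := 530) (l := 8) rfl N530 D770
theorem N756 : nd 756 = n771 := ndS (p := 531) (l := 3) rfl N531 D771
theorem N757 : nd 757 = n772 := ndS (p := 532) (l := 2) rfl N532 D772
theorem N758 : nd 758 = n773 := ndS (p := 532) (l := 4) rfl N532 D773
theorem N759 : nd 759 = n774 := ndS (p := 533) (l := 8) rfl N533 D774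
theorem N760 : nd 760 = n775 := ndS (p := 534) (l := 3) rfl N534 D775
theorem N761 : nd 761 = n776 := ndS (p := 535) (l := 3) rfl N535 D776
theorem N762 : nd 762 = n777 := ndS (p := 536) (l := 2) rfl N536 D777
theorem N763 : nd 763 = n778 := ndS (p := 536) (l := 4) rfl N536 D778
theorem N764 : nd 764 = n779 := ndS (p := 537) (l := 2) rfl N537 D779
theorem N765 : nd 765 = n780 := ndS (p := 537) (l := 4) rfl N537 D780
theorem N766 : nd 766 = n781 := ndS (p := 538) (l := 1) rfl N538 D781
theorem N767 : nd 767 = n782 := ndS (p := 538) (l := 4) rfl N538 D782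
theorem N768 : nd 768 = n783 := ndS (p := 539) (l := 5) rfl N539 D783
theorem N769 : nd 769 = n784 := ndS (p := 540) (l := 1) rfl N540 D784
theorem N770 : nd 770 = n785 := ndS (p := 540) (l := 4) rfl N540 D785
theorem N771 : nd 771 = n786 := ndS (p := 541) (l := 5) rfl N541 D786
theorem N772 : nd 772 = n787 := ndS (p := 542) (l := 0) rfl N542 D787
theorem N773 : nd 773 = n788 := ndS (p := 542) (l := 4) rfl N542 D788
theorem N774 : nd 774 = n789 := ndS (p := 543) (l := 3) rfl N543 D789
theorem N775 : nd 775 = n790 := ndS (p := 543) (l := 5) rfl N543 D790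
theorem N776 : nd 776 = n791 := ndS (p := 544) (l := 6) rfl N544 D791
theorem N777 : nd 777 = n792 := ndS (p := 545) (l := 2) rfl N545 D792
theorem N778 : nd 778 = n793 := ndS (p := 545) (l := 4) rfl N545 D793
theorem N779 : nd 779 = n794 := ndS (p := 546) (l := 1) rfl N546 D794
theorem N780 : nd 780 = n795 := ndS (p := 546) (l := 4) rfl N546 D795
theorem N781 : nd 781 = n796 := ndS (p := 547) (l := 5) rfl N547 D796
theorem N782 : nd 782 = n797 := ndS (p := 548) (l := 0) rfl N548 D797
theorem N783 : nd 783 = n798 := ndS (p := 548) (l := 4) rfl N548 D798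
theorem N784 : nd 784 = n799 := ndS (p := 549) (l := 3) rfl N549 D799
theorem N785 : nd 785 = n800 := ndS (p := 549) (l := 5) rfl N549 D800
theorem N786 : nd 786 = n801 := ndS (p := 550) (l := 6) rfl N550 D801
theorem N787 : nd 787 = n802 := ndS (p := 551) (l := 4) rfl N551 D802
theorem N788 : nd 788 = n803 := ndS (p := 552) (l := 3) rfl N552 D803
theorem N789 : nd 789 = n804 := ndS (p := 552) (l := 5) rfl N552 D804
theorem N790 : nd 790 = n805 := ndS (p := 553) (l := 5) rfl N553 D805
theorem N791 : nd 791 = n806 := ndS (p := 553) (l := 8) rfl N553 D806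
theorem N792 : nd 792 = n807 := ndS (p := 554) (l := 6) rfl N554 D807
theorem N793 : nd 793 = n808 := ndS (p := 555) (l := 7) rfl N555 D808
theorem N794 : nd 794 = n809 := ndS (p := 556) (l := 4) rfl N556 D809
theorem N795 : nd 795 = n810 := ndS (p := 556) (l := 6) rfl N556 D810
theorem N796 : nd 796 = n811 := ndS (p := 556) (l := 8) rfl N556 D811
theorem N797 : nd 797 = n812 := ndS (p := 557) (l := 9) rfl N557 D812
theorem N798 : nd 798 = n813 := ndS (p := 558) (l := 7) rfl N558 D813
theorem N799 : nd 799 = n814 := ndS (p := 560) (l := 8) rfl N560 D814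
theorem N800 : nd 800 = n815 := ndS (p := 560) (l := 9) rfl N560 D815
theorem N801 : nd 801 = n816 := ndS (p := 561) (l := 3) rfl N561 D816
theorem N802 : nd 802 = n817 := ndS (p := 561) (l := 9) rfl N561 D817
theorem N803 : nd 803 = n818 := ndS (p := 562) (l := 8) rfl N562 D818
theorem N804 : nd 804 = n819 := ndS (p := 563) (l := 2) rfl N563 D819
theorem N805 : nd 805 = n820 := ndS (p := 563) (l := 4) rfl N563 D820
theorem N806 : nd 806 = n821 := ndS (p := 563) (l := 9) rfl N563 D821
theorem N807 : nd 807 = n822 := ndS (p := 564) (l := 8) rfl N564 D822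
theorem N808 : nd 808 = n823 := ndS (p := 565) (l := 3) rfl N565 D823
theorem N809 : nd 809 = n824 := ndS (p := 566) (l := 2) rfl N566 D824
theorem N810 : nd 810 = n825 := ndS (p := 566) (l := 9) rfl N566 D825
theorem N811 : nd 811 = n826 := ndS (p := 567) (l := 8) rfl N567 D826
theorem N812 : nd 812 = n827 := ndS (p := 568) (l := 3) rfl N568 D827
theorem N813 : nd 813 = n828 := ndS (p := 569) (l := 9) rfl N569 D828
theorem N814 : nd 814 = n829 := ndS (p := 570) (l := 8) rfl N570 D829
theorem N815 : nd 815 = n830 := ndS (p := 571) (l := 3) rfl N571 D830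
theorem N816 : nd 816 = n831 := ndS (p := 572) (l := 2) rfl N572 D831
theorem N817 : nd 817 = n832 := ndS (p := 572) (l := 4) rfl N572 D832
theorem N818 : nd 818 = n834 := ndS (p := 574) (l := 3) rfl N574 D834
theorem N819 : nd 819 = n835 := ndS (p := 575) (l := 2) rfl N575 D835
theorem N820 : nd 820 = n836 := ndS (p := 575) (l := 4) rfl N575 D836
theorem N821 : nd 821 = n837 := ndS (p := 576) (l := 1) rfl N576 D837
theorem N822 : nd 822 = n838 := ndS (p := 576) (l := 4) rfl N576 D838
theorem N823 : nd 823 = n839 := ndS (p := 577) (l := 5) rfl N577 D839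
theorem N824 : nd 824 = n840 := ndS (p := 578) (l := 3) rfl N578 D840
theorem N825 : nd 825 = n841 := ndS (p := 579) (l := 2) rfl N579 D841
theorem N826 : nd 826 = n842 := ndS (p := 579) (l := 4) rfl N579 D842
theorem N827 : nd 827 = n843 := ndS (p := 580) (l := 2) rfl N580 D843
theorem N828 : nd 828 = n844 := ndS (p := 580) (l := 4) rfl N580 D844
theorem N829 : nd 829 = n845 := ndS (p := 581) (l := 1) rfl N581 D845
theorem N830 : nd 830 = n846 := ndS (p := 581) (l := 4) rfl N581 D846
theorem N831 : nd 831 = n847 := ndS (p := 582) (l := 5) rfl N582 D847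
theorem N832 : nd 832 = n848 := ndS (p := 583) (l := 1) rfl N583 D848
theorem N833 : nd 833 = n849 := ndS (p := 583) (l := 4) rfl N583 D849
theorem N834 : nd 834 = n850 := ndS (p := 584) (l := 5) rfl N584 D850
theorem N835 : nd 835 = n851 := ndS (p := 585) (l := 0) rfl N585 D851
theorem N836 : nd 836 = n852 := ndS (p := 585) (l := 4) rfl N585 D852
theorem N837 : nd 837 = n853 := ndS (p := 586) (l := 3) rfl N586 D853
theorem N838 : nd 838 = n854 := ndS (p := 586) (l := 5) rfl N586 D854
theorem N839 : nd 839 = n855 := ndS (p := 587) (l := 6) rfl N587 D855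
theorem N840 : nd 840 = n856 := ndS (p := 588) (l := 0) rfl N588 D856
theorem N841 : nd 841 = n857 := ndS (p := 588) (l := 4) rfl N588 D857
theorem N842 : nd 842 = n858 := ndS (p := 589) (l := 3) rfl N589 D858
theorem N843 : nd 843 = n859 := ndS (p := 589) (l := 5) rfl N589 D859
theorem N844 : nd 844 = n860 := ndS (p := 590) (l := 6) rfl N590 D860
theorem N845 : nd 845 = n861 := ndS (p := 591) (l := 4) rfl N591 D861
theorem N846 : nd 846 = n862 := ndS (p := 592) (l := 3) rfl N592 D862
theorem N847 : nd 847 = n863 := ndS (p := 592) (l := 5) rfl N592 D863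
theorem N848 : nd 848 = n864 := ndS (p := 593) (l := 5) rfl N593 D864
theorem N849 : nd 849 = n865 := ndS (p := 594) (l := 6) rfl N594 D865
theorem N850 : nd 850 = n866 := ndS (p := 595) (l := 7) rfl N595 D866
theorem N851 : nd 851 = n867 := ndS (p := 596) (l := 1) rfl N596 D867
theorem N852 : nd 852 = n868 := ndS (p := 596) (l := 4) rfl N596 D868
theorem N853 : nd 853 = n869 := ndS (p := 597) (l := 5) rfl N597 D869
theorem N854 : nd 854 = n870 := ndS (p := 598) (l := 0) rfl N598 D870
theorem N855 : nd 855 = n871 := ndS (p := 598) (l := 4) rfl N598 D871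
theorem N856 : nd 856 = n872 := ndS (p := 599) (l := 3) rfl N599 D872
theorem N857 : nd 857 = n873 := ndS (p := 599) (l := 5) rfl N599 D873
theorem N858 : nd 858 = n874 := ndS (p := 600) (l := 6) rfl N600 D874
theorem N859 : nd 859 = n875 := ndS (p := 601) (l := 4) rfl N601 D875
theorem N860 : nd 860 = n876 := ndS (p := 602) (l := 3) rfl N602 D876
theorem N861 : nd 861 = n877 := ndS (p := 602) (l := 5) rfl N602 D877
theorem N862 : nd 862 = n878 := ndS (p := 603) (l := 5) rfl N603 D878
theorem N863 : nd 863 = n879 := ndS (p := 603) (l := 8) rfl N603 D879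
theorem N864 : nd 864 = n880 := ndS (p := 604) (l := 6) rfl N604 D880
theorem N865 : nd 865 = n881 := ndS (p := 605) (l := 7) rfl N605 D881
theorem N866 : nd 866 = n882 := ndS (p := 606) (l := 5) rfl N606 D882
theorem N867 : nd 867 = n883 := ndS (p := 607) (l := 6) rfl N607 D883
theorem N868 : nd 868 = n884 := ndS (p := 608) (l := 7) rfl N608 D884
theorem N869 : nd 869 = n885 := ndS (p := 610) (l := 0) rfl N610 D885
theorem N870 : nd 870 = n886 := ndS (p := 610) (l := 4) rfl N610 D886
theorem N871 : nd 871 = n887 := ndS (p := 611) (l := 3) rfl N611 D887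
theorem N872 : nd 872 = n888 := ndS (p := 611) (l := 5) rfl N611 D888
theorem N873 : nd 873 = n889 := ndS (p := 612) (l := 6) rfl N612 D889
theorem N874 : nd 874 = n890 := ndS (p := 613) (l := 4) rfl N613 D890
theorem N875 : nd 875 = n891 := ndS (p := 614) (l := 3) rfl N614 D891
theorem N876 : nd 876 = n892 := ndS (p := 614) (l := 5) rfl N614 D892
theorem N877 : nd 877 = n893 := ndS (p := 615) (l := 5) rfl N615 D893
theorem N878 : nd 878 = n894 := ndS (p := 615) (l := 8) rfl N615 D894
theorem N879 : nd 879 = n895 := ndS (p := 617) (l := 3) rfl N617 D895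
theorem N880 : nd 880 = n896 := ndS (p := 618) (l := 2) rfl N618 D896
theorem N881 : nd 881 = n897 := ndS (p := 618) (l := 8) rfl N618 D897
theorem N882 : nd 882 = n898 := ndS (p := 619) (l := 9) rfl N619 D898
theorem N883 : nd 883 = n899 := ndS (p := 620) (l := 3) rfl N620 D899
theorem N884 : nd 884 = n900 := ndS (p := 620) (l := 9) rfl N620 D900
theorem N885 : nd 885 = n901 := ndS (p := 621) (l := 8) rfl N621 D901
theorem N886 : nd 886 = n902 := ndS (p := 622) (l := 2) rfl N622 D902
theorem N887 : nd 887 = n903 := ndS (p := 622) (l := 4) rfl N622 D903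
theorem N888 : nd 888 = n904 := ndS (p := 622) (l := 9) rfl N622 D904
theorem N889 : nd 889 = n905 := ndS (p := 623) (l := 8) rfl N623 D905
theorem N890 : nd 890 = n906 := ndS (p := 624) (l := 3) rfl N624 D906
theorem N891 : nd 891 = n907 := ndS (p := 625) (l := 1) rfl N625 D907
theorem N892 : nd 892 = n908 := ndS (p := 625) (l := 4) rfl N625 D908
theorem N893 : nd 893 = n909 := ndS (p := 625) (l := 9) rfl N625 D909
theorem N894 : nd 894 = n910 := ndS (p := 626) (l := 9) rfl N626 D910
theorem N895 : nd 895 = n911 := ndS (p := 627) (l := 8) rfl N627 D911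
theorem N896 : nd 896 = n912 := ndS (p := 628) (l := 3) rfl N628 D912
theorem N897 : nd 897 = n913 := ndS (p := 629) (l := 2) rfl N629 D913
theorem N898 : nd 898 = n914 := ndS (p := 629) (l := 4) rfl N629 D914
theorem N899 : nd 899 = n915 := ndS (p := 630) (l := 1) rfl N630 D915
theorem N900 : nd 900 = n916 := ndS (p := 630) (l := 9) rfl N630 D916
theorem N901 : nd 901 = n917 := ndS (p := 631) (l := 8) rfl N631 D917
theorem N902 : nd 902 = n918 := ndS (p := 632) (l := 3) rfl N632 D918
theorem N903 : nd 903 = n919 := ndS (p := 633) (l := 2) rfl N633 D919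
theorem N904 : nd 904 = n920 := ndS (p := 633) (l := 4) rfl N633 D920
theorem N905 : nd 905 = n923 := ndS (p := 636) (l := 3) rfl N636 D923
theorem N906 : nd 906 = n924 := ndS (p := 637) (l := 2) rfl N637 D924
theorem N907 : nd 907 = n925 := ndS (p := 637) (l := 4) rfl N637 D925
theorem N908 : nd 908 = n926 := ndS (p := 638) (l := 1) rfl N638 D926
theorem N909 : nd 909 = n927 := ndS (p := 638) (l := 4) rfl N638 D927
theorem N910 : nd 910 = n928 := ndS (p := 639) (l := 5) rfl N639 D928
theorem N911 : nd 911 = n932 := ndS (p := 640) (l := 4) rfl N640 D932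
theorem N912 : nd 912 = n934 := ndS (p := 641) (l := 4) rfl N641 D934
theorem N913 : nd 913 = n935 := ndS (p := 642) (l := 5) rfl N642 D935
theorem N914 : nd 914 = n937 := ndS (p := 643) (l := 4) rfl N643 D937
theorem N915 : nd 915 = n938 := ndS (p := 644) (l := 3) rfl N644 D938
theorem N916 : nd 916 = n939 := ndS (p := 644) (l := 5) rfl N644 D939
theorem N917 : nd 917 = n940 := ndS (p := 645) (l := 6) rfl N645 D940
theorem N918 : nd 918 = n941 := ndS (p := 646) (l := 2) rfl N646 D941
theorem N919 : nd 919 = n942 := ndS (p := 646) (l := 4) rfl N646 D942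
theorem N920 : nd 920 = n943 := ndS (p := 647) (l := 1) rfl N647 D943
theorem N921 : nd 921 = n944 := ndS (p := 647) (l := 4) rfl N647 D944
theorem N922 : nd 922 = n945 := ndS (p := 648) (l := 5) rfl N648 D945
theorem N923 : nd 923 = n946 := ndS (p := 649) (l := 1) rfl N649 D946
theorem N924 : nd 924 = n947 := ndS (p := 649) (l := 4) rfl N649 D947
theorem N925 : nd 925 = n948 := ndS (p := 650) (l := 5) rfl N650 D948
theorem N926 : nd 926 = n949 := ndS (p := 651) (l := 0) rfl N651 D949
theorem N927 : nd 927 = n950 := ndS (p := 651) (l := 4) rfl N651 D950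
theorem N928 : nd 928 = n951 := ndS (p := 652) (l := 3) rfl N652 D951
theorem N929 : nd 929 = n952 := ndS (p := 652) (l := 5) rfl N652 D952
theorem N930 : nd 930 = n953 := ndS (p := 653) (l := 6) rfl N653 D953
theorem N931 : nd 931 = n954 := ndS (p := 654) (l := 0) rfl N654 D954
theorem N932 : nd 932 = n955 := ndS (p := 654) (l := 4) rfl N654 D955
theorem N933 : nd 933 = n956 := ndS (p := 655) (l := 3) rfl N655 D956
theorem N934 : nd 934 = n957 := ndS (p := 655) (l := 5) rfl N655 D957
theorem N935 : nd 935 = n958 := ndS (p := 656) (l := 6) rfl N656 D958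
theorem N936 : nd 936 = n959 := ndS (p := 657) (l := 4) rfl N657 D959
theorem N937 : nd 937 = n960 := ndS (p := 658) (l := 3) rfl N658 D960
theorem N938 : nd 938 = n961 := ndS (p := 658) (l := 5) rfl N658 D961
theorem N939 : nd 939 = n962 := ndS (p := 659) (l := 5) rfl N659 D962
theorem N940 : nd 940 = n963 := ndS (p := 659) (l := 8) rfl N659 D963
theorem N941 : nd 941 = n964 := ndS (p := 660) (l := 6) rfl N660 D964
theorem N942 : nd 942 = n965 := ndS (p := 661) (l := 7) rfl N661 D965
theorem N943 : nd 943 = n966 := ndS (p := 662) (l := 4) rfl N662 D966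
theorem N944 : nd 944 = n967 := ndS (p := 663) (l := 3) rfl N663 D967
theorem N945 : nd 945 = n968 := ndS (p := 663) (l := 5) rfl N663 D968
theorem N946 : nd 946 = n969 := ndS (p := 664) (l := 5) rfl N664 D969
theorem N947 : nd 947 = n970 := ndS (p := 664) (l := 8) rfl N664 D970
theorem N948 : nd 948 = n971 := ndS (p := 665) (l := 6) rfl N665 D971
theorem N949 : nd 949 = n972 := ndS (p := 666) (l := 7) rfl N666 D972
theorem N950 : nd 950 = n973 := ndS (p := 667) (l := 3) rfl N667 D973
theorem N951 : nd 951 = n974 := ndS (p := 667) (l := 5) rfl N667 D974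
theorem N952 : nd 952 = n975 := ndS (p := 668) (l := 2) rfl N668 D975
theorem N953 : nd 953 = n976 := ndS (p := 668) (l := 5) rfl N668 D976
theorem N954 : nd 954 = n977 := ndS (p := 669) (l := 6) rfl N669 D977
theorem N955 : nd 955 = n978 := ndS (p := 670) (l := 4) rfl N670 D978
theorem N956 : nd 956 = n979 := ndS (p := 670) (l := 6) rfl N670 D979
theorem N957 : nd 957 = n980 := ndS (p := 671) (l := 7) rfl N671 D980
theorem N958 : nd 958 = n981 := ndS (p := 673) (l := 0) rfl N673 D981
theorem N959 : nd 959 = n982 := ndS (p := 673) (l := 4) rfl N673 D982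
theorem N960 : nd 960 = n983 := ndS (p := 674) (l := 3) rfl N674 D983
theorem N961 : nd 961 = n984 := ndS (p := 674) (l := 5) rfl N674 D984
theorem N962 : nd 962 = n985 := ndS (p := 675) (l := 6) rfl N675 D985
theorem N963 : nd 963 = n986 := ndS (p := 676) (l := 4) rfl N676 D986
theorem N964 : nd 964 = n987 := ndS (p := 677) (l := 3) rfl N677 D987
theorem N965 : nd 965 = n988 := ndS (p := 677) (l := 5) rfl N677 D988
theorem N966 : nd 966 = n989 := ndS (p := 678) (l := 5) rfl N678 D989
theorem N967 : nd 967 = n990 := ndS (p := 678) (l := 8) rfl N678 D990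
theorem N968 : nd 968 = n991 := ndS (p := 679) (l := 6) rfl N679 D991
theorem N969 : nd 969 = n992 := ndS (p := 680) (l := 7) rfl N680 D992
theorem N970 : nd 970 = n993 := ndS (p := 681) (l := 3) rfl N681 D993
theorem N971 : nd 971 = n994 := ndS (p := 681) (l := 5) rfl N681 D994
theorem N972 : nd 972 = n996 := ndS (p := 682) (l := 5) rfl N682 D996
theorem N973 : nd 973 = n998 := ndS (p := 683) (l := 6) rfl N683 D998
theorem N974 : nd 974 = n999 := ndS (p := 684) (l := 6) rfl N684 D999
theorem N975 : nd 975 = n1000 := ndS (p := 684) (l := 8) rfl N684 D1000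
theorem N976 : nd 976 = n1002 := ndS (p := 686) (l := 7) rfl N686 D1002
theorem N977 : nd 977 = n1003 := ndS (p := 688) (l := 6) rfl N688 D1003
theorem N978 : nd 978 = n1004 := ndS (p := 689) (l := 7) rfl N689 D1004
theorem N979 : nd 979 = n1005 := ndS (p := 691) (l := 4) rfl N691 D1005
theorem N980 : nd 980 = n1006 := ndS (p := 692) (l := 3) rfl N692 D1006
theorem N981 : nd 981 = n1007 := ndS (p := 692) (l := 5) rfl N692 D1007
theorem N982 : nd 982 = n1008 := ndS (p := 693) (l := 5) rfl N693 D1008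
theorem N983 : nd 983 = n1009 := ndS (p := 693) (l := 8) rfl N693 D1009
theorem N984 : nd 984 = n1010 := ndS (p := 694) (l := 6) rfl N694 D1010
theorem N985 : nd 985 = n1011 := ndS (p := 696) (l := 3) rfl N696 D1011
theorem N986 : nd 986 = n1012 := ndS (p := 696) (l := 5) rfl N696 D1012
theorem N987 : nd 987 = n1014 := ndS (p := 697) (l := 5) rfl N697 D1014
theorem N988 : nd 988 = n1016 := ndS (p := 699) (l := 4) rfl N699 D1016
theorem N989 : nd 989 = n1017 := ndS (p := 699) (l := 8) rfl N699 D1017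
theorem N990 : nd 990 = n1023 := ndS (p := 702) (l := 3) rfl N702 D1023
theorem N991 : nd 991 = n1024 := ndS (p := 702) (l := 5) rfl N702 D1024
theorem N992 : nd 992 = n1026 := ndS (p := 703) (l := 5) rfl N703 D1026
theorem N993 : nd 993 = n1028 := ndS (p := 704) (l := 6) rfl N704 D1028
theorem N994 : nd 994 = n1029 := ndS (p := 705) (l := 4) rfl N705 D1029
theorem N995 : nd 995 = n1030 := ndS (p := 705) (l := 6) rfl N705 D1030
theorem N996 : nd 996 = n1031 := ndS (p := 705) (l := 8) rfl N705 D1031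
theorem N997 : nd 997 = n1034 := ndS (p := 708) (l := 5) rfl N708 D1034
theorem N998 : nd 998 = n1038 := ndS (p := 710) (l := 4) rfl N710 D1038
theorem N999 : nd 999 = n1041 := ndS (p := 711) (l := 8) rfl N711 D1041
theorem N1000 : nd 1000 = n1048 := ndS (p := 713) (l := 4) rfl N713 D1048
theorem N1001 : nd 1001 = n1049 := ndS (p := 713) (l := 7) rfl N713 D1049
theorem N1002 : nd 1002 = n1050 := ndS (p := 713) (l := 9) rfl N713 D1050
theorem N1003 : nd 1003 = n1051 := ndS (p := 714) (l := 9) rfl N714 D1051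
theorem N1004 : nd 1004 = n1052 := ndS (p := 715) (l := 8) rfl N715 D1052
theorem N1005 : nd 1005 = n1053 := ndS (p := 716) (l := 3) rfl N716 D1053
theorem N1006 : nd 1006 = n1054 := ndS (p := 717) (l := 6) rfl N717 D1054
theorem N1007 : nd 1007 = n1055 := ndS (p := 717) (l := 8) rfl N717 D1055
theorem N1008 : nd 1008 = n1056 := ndS (p := 717) (l := 9) rfl N717 D1056
theorem N1009 : nd 1009 = n1057 := ndS (p := 718) (l := 9) rfl N718 D1057
theorem N1010 : nd 1010 = n1058 := ndS (p := 719) (l := 8) rfl N719 D1058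
theorem N1011 : nd 1011 = n1059 := ndS (p := 720) (l := 9) rfl N720 D1059
theorem N1012 : nd 1012 = n1060 := ndS (p := 721) (l := 8) rfl N721 D1060
theorem N1013 : nd 1013 = n1061 := ndS (p := 722) (l := 8) rfl N722 D1061
theorem N1014 : nd 1014 = n1062 := ndS (p := 723) (l := 3) rfl N723 D1062
theorem N1015 : nd 1015 = n1063 := ndS (p := 724) (l := 3) rfl N724 D1063
theorem N1016 : nd 1016 = n1064 := ndS (p := 725) (l := 2) rfl N725 D1064
theorem N1017 : nd 1017 = n1065 := ndS (p := 725) (l := 4) rfl N725 D1065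
theorem N1018 : nd 1018 = n1066 := ndS (p := 726) (l := 9) rfl N726 D1066
theorem N1019 : nd 1019 = n1067 := ndS (p := 727) (l := 8) rfl N727 D1067
theorem N1020 : nd 1020 = n1068 := ndS (p := 728) (l := 3) rfl N728 D1068
theorem N1021 : nd 1021 = n1069 := ndS (p := 729) (l := 8) rfl N729 D1069
theorem N1022 : nd 1022 = n1070 := ndS (p := 730) (l := 3) rfl N730 D1070
theorem N1023 : nd 1023 = n1071 := ndS (p := 731) (l := 2) rfl N731 D1071
theorem N1024 : nd 1024 = n1072 := ndS (p := 731) (l := 4) rfl N731 D1072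
theorem N1025 : nd 1025 = n1073 := ndS (p := 732) (l := 3) rfl N732 D1073
theorem N1026 : nd 1026 = n1074 := ndS (p := 733) (l := 2) rfl N733 D1074
theorem N1027 : nd 1027 = n1075 := ndS (p := 733) (l := 4) rfl N733 D1075
theorem N1028 : nd 1028 = n1076 := ndS (p := 734) (l := 1) rfl N734 D1076
theorem N1029 : nd 1029 = n1077 := ndS (p := 734) (l := 4) rfl N734 D1077
theorem N1030 : nd 1030 = n1078 := ndS (p := 735) (l := 5) rfl N735 D1078
theorem N1031 : nd 1031 = n1079 := ndS (p := 736) (l := 3) rfl N736 D1079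
theorem N1032 : nd 1032 = n1080 := ndS (p := 737) (l := 2) rfl N737 D1080
theorem N1033 : nd 1033 = n1081 := ndS (p := 737) (l := 4) rfl N737 D1081
theorem N1034 : nd 1034 = n1082 := ndS (p := 738) (l := 1) rfl N738 D1082
theorem N1035 : nd 1035 = n1083 := ndS (p := 738) (l := 4) rfl N738 D1083
theorem N1036 : nd 1036 = n1084 := ndS (p := 739) (l := 5) rfl N739 D1084
theorem N1037 : nd 1037 = n1085 := ndS (p := 740) (l := 0) rfl N740 D1085
theorem N1038 : nd 1038 = n1086 := ndS (p := 740) (l := 4) rfl N740 D1086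
theorem N1039 : nd 1039 = n1087 := ndS (p := 741) (l := 3) rfl N741 D1087
theorem N1040 : nd 1040 = n1088 := ndS (p := 741) (l := 5) rfl N741 D1088
theorem N1041 : nd 1041 = n1089 := ndS (p := 742) (l := 6) rfl N742 D1089
theorem N1042 : nd 1042 = n1090 := ndS (p := 743) (l := 8) rfl N743 D1090
theorem N1043 : nd 1043 = n1091 := ndS (p := 743) (l := 9) rfl N743 D1091
theorem N1044 : nd 1044 = n1092 := ndS (p := 744) (l := 3) rfl N744 D1092
theorem N1045 : nd 1045 = n1093 := ndS (p := 744) (l := 9) rfl N744 D1093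
theorem N1046 : nd 1046 = n1094 := ndS (p := 745) (l := 8) rfl N745 D1094
theorem N1047 : nd 1047 = n1095 := ndS (p := 746) (l := 4) rfl N746 D1095
theorem N1048 : nd 1048 = n1096 := ndS (p := 746) (l := 9) rfl N746 D1096
theorem N1049 : nd 1049 = n1097 := ndS (p := 747) (l := 8) rfl N747 D1097
theorem N1050 : nd 1050 = n1098 := ndS (p := 748) (l := 3) rfl N748 D1098
theorem N1051 : nd 1051 = n1099 := ndS (p := 749) (l := 9) rfl N749 D1099
theorem N1052 : nd 1052 = n1100 := ndS (p := 750) (l := 8) rfl N750 D1100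
theorem N1053 : nd 1053 = n1101 := ndS (p := 751) (l := 3) rfl N751 D1101
theorem N1054 : nd 1054 = n1102 := ndS (p := 752) (l := 8) rfl N752 D1102
theorem N1055 : nd 1055 = n1103 := ndS (p := 753) (l := 3) rfl N753 D1103
theorem N1056 : nd 1056 = n1104 := ndS (p := 754) (l := 2) rfl N754 D1104
theorem N1057 : nd 1057 = n1105 := ndS (p := 754) (l := 4) rfl N754 D1105
theorem N1058 : nd 1058 = n1106 := ndS (p := 755) (l := 3) rfl N755 D1106
theorem N1059 : nd 1059 = n1107 := ndS (p := 756) (l := 2) rfl N756 D1107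
theorem N1060 : nd 1060 = n1108 := ndS (p := 756) (l := 4) rfl N756 D1108
theorem N1061 : nd 1061 = n1109 := ndS (p := 757) (l := 1) rfl N757 D1109
theorem N1062 : nd 1062 = n1110 := ndS (p := 757) (l := 4) rfl N757 D1110
theorem N1063 : nd 1063 = n1111 := ndS (p := 758) (l := 5) rfl N758 D1111
theorem N1064 : nd 1064 = n1112 := ndS (p := 759) (l := 3) rfl N759 D1112
theorem N1065 : nd 1065 = n1113 := ndS (p := 760) (l := 2) rfl N760 D1113
theorem N1066 : nd 1066 = n1114 := ndS (p := 760) (l := 4) rfl N760 D1114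
theorem N1067 : nd 1067 = n1115 := ndS (p := 761) (l := 2) rfl N761 D1115
theorem N1068 : nd 1068 = n1116 := ndS (p := 761) (l := 4) rfl N761 D1116
theorem N1069 : nd 1069 = n1117 := ndS (p := 762) (l := 1) rfl N762 D1117
theorem N1070 : nd 1070 = n1118 := ndS (p := 762) (l := 4) rfl N762 D1118
theorem N1071 : nd 1071 = n1119 := ndS (p := 763) (l := 5) rfl N763 D1119
theorem N1072 : nd 1072 = n1120 := ndS (p := 764) (l := 1) rfl N764 D1120
theorem N1073 : nd 1073 = n1121 := ndS (p := 764) (l := 4) rfl N764 D1121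
theorem N1074 : nd 1074 = n1122 := ndS (p := 765) (l := 5) rfl N765 D1122
theorem N1075 : nd 1075 = n1123 := ndS (p := 766) (l := 0) rfl N766 D1123
theorem N1076 : nd 1076 = n1124 := ndS (p := 766) (l := 4) rfl N766 D1124
theorem N1077 : nd 1077 = n1125 := ndS (p := 767) (l := 3) rfl N767 D1125
theorem N1078 : nd 1078 = n1126 := ndS (p := 767) (l := 5) rfl N767 D1126
theorem N1079 : nd 1079 = n1127 := ndS (p := 768) (l := 6) rfl N768 D1127
theorem N1080 : nd 1080 = n1128 := ndS (p := 769) (l := 0) rfl N769 D1128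
theorem N1081 : nd 1081 = n1129 := ndS (p := 769) (l := 4) rfl N769 D1129
theorem N1082 : nd 1082 = n1130 := ndS (p := 770) (l := 3) rfl N770 D1130
theorem N1083 : nd 1083 = n1131 := ndS (p := 770) (l := 5) rfl N770 D1131
theorem N1084 : nd 1084 = n1132 := ndS (p := 771) (l := 6) rfl N771 D1132
theorem N1085 : nd 1085 = n1133 := ndS (p := 772) (l := 4) rfl N772 D1133
theorem N1086 : nd 1086 = n1134 := ndS (p := 773) (l := 3) rfl N773 D1134
theorem N1087 : nd 1087 = n1135 := ndS (p := 773) (l := 5) rfl N773 D1135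
theorem N1088 : nd 1088 = n1136 := ndS (p := 774) (l := 5) rfl N774 D1136
theorem N1089 : nd 1089 = n1137 := ndS (p := 774) (l := 8) rfl N774 D1137
theorem N1090 : nd 1090 = n1138 := ndS (p := 775) (l := 6) rfl N775 D1138
theorem N1091 : nd 1091 = n1139 := ndS (p := 776) (l := 7) rfl N776 D1139
theorem N1092 : nd 1092 = n1140 := ndS (p := 777) (l := 1) rfl N777 D1140
theorem N1093 : nd 1093 = n1141 := ndS (p := 777) (l := 4) rfl N777 D1141
theorem N1094 : nd 1094 = n1142 := ndS (p := 778) (l := 5) rfl N778 D1142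
theorem N1095 : nd 1095 = n1143 := ndS (p := 779) (l := 0) rfl N779 D1143
theorem N1096 : nd 1096 = n1144 := ndS (p := 779) (l := 4) rfl N779 D1144
theorem N1097 : nd 1097 = n1145 := ndS (p := 780) (l := 3) rfl N780 D1145
theorem N1098 : nd 1098 = n1146 := ndS (p := 780) (l := 5) rfl N780 D1146
theorem N1099 : nd 1099 = n1147 := ndS (p := 781) (l := 6) rfl N781 D1147
theorem N1100 : nd 1100 = n1148 := ndS (p := 782) (l := 4) rfl N782 D1148
theorem N1101 : nd 1101 = n1149 := ndS (p := 783) (l := 3) rfl N783 D1149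
theorem N1102 : nd 1102 = n1150 := ndS (p := 783) (l := 5) rfl N783 D1150
theorem N1103 : nd 1103 = n1151 := ndS (p := 784) (l := 5) rfl N784 D1151
theorem N1104 : nd 1104 = n1152 := ndS (p := 784) (l := 8) rfl N784 D1152
theorem N1105 : nd 1105 = n1153 := ndS (p := 785) (l := 6) rfl N785 D1153
theorem N1106 : nd 1106 = n1154 := ndS (p := 786) (l := 7) rfl N786 D1154
theorem N1107 : nd 1107 = n1155 := ndS (p := 787) (l := 3) rfl N787 D1155
theorem N1108 : nd 1108 = n1156 := ndS (p := 787) (l := 5) rfl N787 D1156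
theorem N1109 : nd 1109 = n1157 := ndS (p := 788) (l := 5) rfl N788 D1157
theorem N1110 : nd 1110 = n1158 := ndS (p := 788) (l := 8) rfl N788 D1158
theorem N1111 : nd 1111 = n1159 := ndS (p := 789) (l := 6) rfl N789 D1159
theorem N1112 : nd 1112 = n1160 := ndS (p := 790) (l := 4) rfl N790 D1160
theorem N1113 : nd 1113 = n1161 := ndS (p := 790) (l := 6) rfl N790 D1161
theorem N1114 : nd 1114 = n1162 := ndS (p := 790) (l := 8) rfl N790 D1162
theorem N1115 : nd 1115 = n1163 := ndS (p := 791) (l := 9) rfl N791 D1163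
theorem N1116 : nd 1116 = n1164 := ndS (p := 792) (l := 7) rfl N792 D1164
theorem N1117 : nd 1117 = n1165 := ndS (p := 794) (l := 6) rfl N794 D1165
theorem N1118 : nd 1118 = n1166 := ndS (p := 794) (l := 8) rfl N794 D1166
theorem N1119 : nd 1119 = n1167 := ndS (p := 795) (l := 7) rfl N795 D1167
theorem N1120 : nd 1120 = n1168 := ndS (p := 795) (l := 8) rfl N795 D1168
theorem N1121 : nd 1121 = n1169 := ndS (p := 796) (l := 9) rfl N796 D1169
theorem N1122 : nd 1122 = n1170 := ndS (p := 799) (l := 3) rfl N799 D1170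
theorem N1123 : nd 1123 = n1171 := ndS (p := 799) (l := 9) rfl N799 D1171
theorem N1124 : nd 1124 = n1172 := ndS (p := 800) (l := 8) rfl N800 D1172
theorem N1125 : nd 1125 = n1173 := ndS (p := 801) (l := 2) rfl N801 D1173
theorem N1126 : nd 1126 = n1174 := ndS (p := 801) (l := 4) rfl N801 D1174
theorem N1127 : nd 1127 = n1175 := ndS (p := 801) (l := 9) rfl N801 D1175
theorem N1128 : nd 1128 = n1176 := ndS (p := 802) (l := 8) rfl N802 D1176
theorem N1129 : nd 1129 = n1177 := ndS (p := 803) (l := 3) rfl N803 D1177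
theorem N1130 : nd 1130 = n1178 := ndS (p := 804) (l := 4) rfl N804 D1178
theorem N1131 : nd 1131 = n1179 := ndS (p := 804) (l := 9) rfl N804 D1179
theorem N1132 : nd 1132 = n1180 := ndS (p := 805) (l := 9) rfl N805 D1180
theorem N1133 : nd 1133 = n1181 := ndS (p := 806) (l := 8) rfl N806 D1181
theorem N1134 : nd 1134 = n1182 := ndS (p := 807) (l := 3) rfl N807 D1182
theorem N1135 : nd 1135 = n1183 := ndS (p := 808) (l := 2) rfl N808 D1183
theorem N1136 : nd 1136 = n1184 := ndS (p := 808) (l := 4) rfl N808 D1184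
theorem N1137 : nd 1137 = n1185 := ndS (p := 809) (l := 9) rfl N809 D1185
theorem N1138 : nd 1138 = n1186 := ndS (p := 810) (l := 8) rfl N810 D1186
theorem N1139 : nd 1139 = n1187 := ndS (p := 811) (l := 3) rfl N811 D1187
theorem N1140 : nd 1140 = n1188 := ndS (p := 812) (l := 2) rfl N812 D1188
theorem N1141 : nd 1141 = n1189 := ndS (p := 812) (l := 4) rfl N812 D1189
theorem N1142 : nd 1142 = n1191 := ndS (p := 814) (l := 3) rfl N814 D1191
theorem N1143 : nd 1143 = n1192 := ndS (p := 815) (l := 2) rfl N815 D1192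
theorem N1144 : nd 1144 = n1193 := ndS (p := 815) (l := 4) rfl N815 D1193
theorem N1145 : nd 1145 = n1194 := ndS (p := 816) (l := 1) rfl N816 D1194
theorem N1146 : nd 1146 = n1195 := ndS (p := 816) (l := 4) rfl N816 D1195
theorem N1147 : nd 1147 = n1196 := ndS (p := 817) (l := 5) rfl N817 D1196
theorem N1148 : nd 1148 = n1199 := ndS (p := 818) (l := 4) rfl N818 D1199
theorem N1149 : nd 1149 = n1200 := ndS (p := 819) (l := 1) rfl N819 D1200
theorem N1150 : nd 1150 = n1201 := ndS (p := 819) (l := 4) rfl N819 D1201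
theorem N1151 : nd 1151 = n1202 := ndS (p := 820) (l := 5) rfl N820 D1202
theorem N1152 : nd 1152 = n1203 := ndS (p := 821) (l := 0) rfl N821 D1203
theorem N1153 : nd 1153 = n1204 := ndS (p := 821) (l := 4) rfl N821 D1204
theorem N1154 : nd 1154 = n1205 := ndS (p := 822) (l := 3) rfl N822 D1205
theorem N1155 : nd 1155 = n1206 := ndS (p := 822) (l := 5) rfl N822 D1206
theorem N1156 : nd 1156 = n1207 := ndS (p := 823) (l := 6) rfl N823 D1207
theorem N1157 : nd 1157 = n1208 := ndS (p := 824) (l := 2) rfl N824 D1208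
theorem N1158 : nd 1158 = n1209 := ndS (p := 824) (l := 4) rfl N824 D1209
theorem N1159 : nd 1159 = n1210 := ndS (p := 825) (l := 1) rfl N825 D1210
theorem N1160 : nd 1160 = n1211 := ndS (p := 825) (l := 4) rfl N825 D1211
theorem N1161 : nd 1161 = n1212 := ndS (p := 826) (l := 5) rfl N826 D1212
theorem N1162 : nd 1162 = n1213 := ndS (p := 827) (l := 1) rfl N827 D1213
theorem N1163 : nd 1163 = n1214 := ndS (p := 827) (l := 4) rfl N827 D1214
theorem N1164 : nd 1164 = n1215 := ndS (p := 828) (l := 5) rfl N828 D1215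
theorem N1165 : nd 1165 = n1216 := ndS (p := 829) (l := 0) rfl N829 D1216
theorem N1166 : nd 1166 = n1217 := ndS (p := 829) (l := 4) rfl N829 D1217
theorem N1167 : nd 1167 = n1218 := ndS (p := 830) (l := 3) rfl N830 D1218
theorem N1168 : nd 1168 = n1219 := ndS (p := 830) (l := 5) rfl N830 D1219
theorem N1169 : nd 1169 = n1220 := ndS (p := 831) (l := 6) rfl N831 D1220
theorem N1170 : nd 1170 = n1221 := ndS (p := 832) (l := 0) rfl N832 D1221
theorem N1171 : nd 1171 = n1222 := ndS (p := 832) (l := 4) rfl N832 D1222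
theorem N1172 : nd 1172 = n1223 := ndS (p := 833) (l := 3) rfl N833 D1223
theorem N1173 : nd 1173 = n1224 := ndS (p := 833) (l := 5) rfl N833 D1224
theorem N1174 : nd 1174 = n1225 := ndS (p := 834) (l := 6) rfl N834 D1225
theorem N1175 : nd 1175 = n1226 := ndS (p := 835) (l := 4) rfl N835 D1226
theorem N1176 : nd 1176 = n1227 := ndS (p := 836) (l := 3) rfl N836 D1227
theorem N1177 : nd 1177 = n1228 := ndS (p := 836) (l := 5) rfl N836 D1228
theorem N1178 : nd 1178 = n1229 := ndS (p := 837) (l := 5) rfl N837 D1229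
theorem N1179 : nd 1179 = n1230 := ndS (p := 837) (l := 8) rfl N837 D1230
theorem N1180 : nd 1180 = n1231 := ndS (p := 838) (l := 6) rfl N838 D1231
theorem N1181 : nd 1181 = n1232 := ndS (p := 839) (l := 7) rfl N839 D1232
theorem N1182 : nd 1182 = n1233 := ndS (p := 840) (l := 4) rfl N840 D1233
theorem N1183 : nd 1183 = n1234 := ndS (p := 841) (l := 3) rfl N841 D1234
theorem N1184 : nd 1184 = n1235 := ndS (p := 841) (l := 5) rfl N841 D1235
theorem N1185 : nd 1185 = n1236 := ndS (p := 842) (l := 5) rfl N842 D1236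
theorem N1186 : nd 1186 = n1237 := ndS (p := 842) (l := 8) rfl N842 D1237
theorem N1187 : nd 1187 = n1238 := ndS (p := 843) (l := 6) rfl N843 D1238
theorem N1188 : nd 1188 = n1239 := ndS (p := 844) (l := 7) rfl N844 D1239
theorem N1189 : nd 1189 = n1240 := ndS (p := 845) (l := 3) rfl N845 D1240
theorem N1190 : nd 1190 = n1241 := ndS (p := 845) (l := 5) rfl N845 D1241
theorem N1191 : nd 1191 = n1242 := ndS (p := 846) (l := 2) rfl N846 D1242
theorem N1192 : nd 1192 = n1243 := ndS (p := 846) (l := 5) rfl N846 D1243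
theorem N1193 : nd 1193 = n1244 := ndS (p := 847) (l := 6) rfl N847 D1244
theorem N1194 : nd 1194 = n1245 := ndS (p := 848) (l := 4) rfl N848 D1245
theorem N1195 : nd 1195 = n1246 := ndS (p := 848) (l := 6) rfl N848 D1246
theorem N1196 : nd 1196 = n1247 := ndS (p := 849) (l := 7) rfl N849 D1247
theorem N1197 : nd 1197 = n1248 := ndS (p := 851) (l := 0) rfl N851 D1248
theorem N1198 : nd 1198 = n1249 := ndS (p := 851) (l := 4) rfl N851 D1249
theorem N1199 : nd 1199 = n1250 := ndS (p := 852) (l := 3) rfl N852 D1250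
theorem N1200 : nd 1200 = n1251 := ndS (p := 852) (l := 5) rfl N852 D1251
theorem N1201 : nd 1201 = n1252 := ndS (p := 853) (l := 6) rfl N853 D1252
theorem N1202 : nd 1202 = n1253 := ndS (p := 854) (l := 4) rfl N854 D1253
theorem N1203 : nd 1203 = n1254 := ndS (p := 855) (l := 3) rfl N855 D1254
theorem N1204 : nd 1204 = n1255 := ndS (p := 855) (l := 5) rfl N855 D1255
theorem N1205 : nd 1205 = n1256 := ndS (p := 856) (l := 5) rfl N856 D1256
theorem N1206 : nd 1206 = n1257 := ndS (p := 856) (l := 8) rfl N856 D1257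
theorem N1207 : nd 1207 = n1258 := ndS (p := 857) (l := 6) rfl N857 D1258
theorem N1208 : nd 1208 = n1259 := ndS (p := 858) (l := 7) rfl N858 D1259
theorem N1209 : nd 1209 = n1260 := ndS (p := 859) (l := 3) rfl N859 D1260
theorem N1210 : nd 1210 = n1261 := ndS (p := 859) (l := 5) rfl N859 D1261
theorem N1211 : nd 1211 = n1262 := ndS (p := 860) (l := 2) rfl N860 D1262
theorem N1212 : nd 1212 = n1263 := ndS (p := 860) (l := 5) rfl N860 D1263
theorem N1213 : nd 1213 = n1264 := ndS (p := 860) (l := 8) rfl N860 D1264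
theorem N1214 : nd 1214 = n1265 := ndS (p := 861) (l := 6) rfl N861 D1265
theorem N1215 : nd 1215 = n1266 := ndS (p := 862) (l := 6) rfl N862 D1266
theorem N1216 : nd 1216 = n1267 := ndS (p := 862) (l := 8) rfl N862 D1267
theorem N1217 : nd 1217 = n1268 := ndS (p := 863) (l := 9) rfl N863 D1268
theorem N1218 : nd 1218 = n1269 := ndS (p := 864) (l := 7) rfl N864 D1269
theorem N1219 : nd 1219 = n1270 := ndS (p := 866) (l := 6) rfl N866 D1270
theorem N1220 : nd 1220 = n1271 := ndS (p := 867) (l := 7) rfl N867 D1271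
theorem N1221 : nd 1221 = n1272 := ndS (p := 869) (l := 4) rfl N869 D1272
theorem N1222 : nd 1222 = n1273 := ndS (p := 870) (l := 3) rfl N870 D1273
theorem N1223 : nd 1223 = n1274 := ndS (p := 870) (l := 5) rfl N870 D1274
theorem N1224 : nd 1224 = n1275 := ndS (p := 871) (l := 5) rfl N871 D1275
theorem N1225 : nd 1225 = n1276 := ndS (p := 871) (l := 8) rfl N871 D1276
theorem N1226 : nd 1226 = n1277 := ndS (p := 872) (l := 6) rfl N872 D1277
theorem N1227 : nd 1227 = n1278 := ndS (p := 874) (l := 3) rfl N874 D1278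
theorem N1228 : nd 1228 = n1279 := ndS (p := 874) (l := 5) rfl N874 D1279
theorem N1229 : nd 1229 = n1280 := ndS (p := 875) (l := 2) rfl N875 D1280
theorem N1230 : nd 1230 = n1281 := ndS (p := 875) (l := 5) rfl N875 D1281
theorem N1231 : nd 1231 = n1282 := ndS (p := 875) (l := 8) rfl N875 D1282
theorem N1232 : nd 1232 = n1283 := ndS (p := 877) (l := 4) rfl N877 D1283
theorem N1233 : nd 1233 = n1284 := ndS (p := 877) (l := 8) rfl N877 D1284
theorem N1234 : nd 1234 = n1285 := ndS (p := 878) (l := 9) rfl N878 D1285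
theorem N1235 : nd 1235 = n1286 := ndS (p := 879) (l := 2) rfl N879 D1286
theorem N1236 : nd 1236 = n1288 := ndS (p := 880) (l := 8) rfl N880 D1288
theorem N1237 : nd 1237 = n1290 := ndS (p := 883) (l := 2) rfl N883 D1290
theorem N1238 : nd 1238 = n1291 := ndS (p := 883) (l := 4) rfl N883 D1291
theorem N1239 : nd 1239 = n1292 := ndS (p := 883) (l := 9) rfl N883 D1292
theorem N1240 : nd 1240 = n1293 := ndS (p := 884) (l := 8) rfl N884 D1293
theorem N1241 : nd 1241 = n1294 := ndS (p := 885) (l := 3) rfl N885 D1294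
theorem N1242 : nd 1242 = n1295 := ndS (p := 886) (l := 1) rfl N886 D1295
theorem N1243 : nd 1243 = n1296 := ndS (p := 886) (l := 4) rfl N886 D1296
theorem N1244 : nd 1244 = n1297 := ndS (p := 886) (l := 9) rfl N886 D1297
theorem N1245 : nd 1245 = n1298 := ndS (p := 887) (l := 9) rfl N887 D1298
theorem N1246 : nd 1246 = n1299 := ndS (p := 888) (l := 8) rfl N888 D1299
theorem N1247 : nd 1247 = n1300 := ndS (p := 889) (l := 3) rfl N889 D1300
theorem N1248 : nd 1248 = n1301 := ndS (p := 890) (l := 2) rfl N890 D1301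
theorem N1249 : nd 1249 = n1302 := ndS (p := 890) (l := 4) rfl N890 D1302
theorem N1250 : nd 1250 = n1303 := ndS (p := 891) (l := 4) rfl N891 D1303
theorem N1251 : nd 1251 = n1305 := ndS (p := 892) (l := 3) rfl N892 D1305
theorem N1252 : nd 1252 = n1306 := ndS (p := 892) (l := 9) rfl N892 D1306
theorem N1253 : nd 1253 = n1308 := ndS (p := 894) (l := 8) rfl N894 D1308
theorem N1254 : nd 1254 = n1309 := ndS (p := 895) (l := 3) rfl N895 D1309
theorem N1255 : nd 1255 = n1310 := ndS (p := 896) (l := 2) rfl N896 D1310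
theorem N1256 : nd 1256 = n1311 := ndS (p := 896) (l := 4) rfl N896 D1311
theorem N1257 : nd 1257 = n1312 := ndS (p := 897) (l := 1) rfl N897 D1312
theorem N1258 : nd 1258 = n1313 := ndS (p := 897) (l := 4) rfl N897 D1313
theorem N1259 : nd 1259 = n1314 := ndS (p := 898) (l := 5) rfl N898 D1314
theorem N1260 : nd 1260 = n1317 := ndS (p := 901) (l := 3) rfl N901 D1317
theorem N1261 : nd 1261 = n1318 := ndS (p := 902) (l := 2) rfl N902 D1318
theorem N1262 : nd 1262 = n1319 := ndS (p := 902) (l := 4) rfl N902 D1319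
theorem N1263 : nd 1263 = n1320 := ndS (p := 903) (l := 1) rfl N903 D1320
theorem N1264 : nd 1264 = n1321 := ndS (p := 903) (l := 4) rfl N903 D1321
theorem N1265 : nd 1265 = n1322 := ndS (p := 904) (l := 5) rfl N904 D1322
theorem N1266 : nd 1266 = n1326 := ndS (p := 905) (l := 4) rfl N905 D1326
theorem N1267 : nd 1267 = n1328 := ndS (p := 906) (l := 4) rfl N906 D1328
theorem N1268 : nd 1268 = n1329 := ndS (p := 907) (l := 5) rfl N907 D1329
theorem N1269 : nd 1269 = n1331 := ndS (p := 908) (l := 4) rfl N908 D1331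
theorem N1270 : nd 1270 = n1332 := ndS (p := 909) (l := 3) rfl N909 D1332
theorem N1271 : nd 1271 = n1333 := ndS (p := 909) (l := 5) rfl N909 D1333
theorem N1272 : nd 1272 = n1334 := ndS (p := 910) (l := 6) rfl N910 D1334
theorem N1273 : nd 1273 = n1340 := ndS (p := 911) (l := 5) rfl N911 D1340
theorem N1274 : nd 1274 = n1343 := ndS (p := 912) (l := 3) rfl N912 D1343
theorem N1275 : nd 1275 = n1344 := ndS (p := 912) (l := 5) rfl N912 D1344
theorem N1276 : nd 1276 = n1345 := ndS (p := 913) (l := 6) rfl N913 D1345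
theorem N1277 : nd 1277 = n1347 := ndS (p := 914) (l := 3) rfl N914 D1347
theorem N1278 : nd 1278 = n1348 := ndS (p := 914) (l := 5) rfl N914 D1348
theorem N1279 : nd 1279 = n1349 := ndS (p := 915) (l := 5) rfl N915 D1349
theorem N1280 : nd 1280 = n1350 := ndS (p := 915) (l := 8) rfl N915 D1350
theorem N1281 : nd 1281 = n1351 := ndS (p := 916) (l := 6) rfl N916 D1351
theorem N1282 : nd 1282 = n1352 := ndS (p := 917) (l := 7) rfl N917 D1352
theorem N1283 : nd 1283 = n1353 := ndS (p := 918) (l := 1) rfl N918 D1353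
theorem N1284 : nd 1284 = n1354 := ndS (p := 918) (l := 4) rfl N918 D1354
theorem N1285 : nd 1285 = n1355 := ndS (p := 919) (l := 5) rfl N919 D1355
theorem N1286 : nd 1286 = n1356 := ndS (p := 920) (l := 0) rfl N920 D1356
theorem N1287 : nd 1287 = n1357 := ndS (p := 920) (l := 4) rfl N920 D1357
theorem N1288 : nd 1288 = n1358 := ndS (p := 921) (l := 3) rfl N921 D1358
theorem N1289 : nd 1289 = n1359 := ndS (p := 921) (l := 5) rfl N921 D1359
theorem N1290 : nd 1290 = n1360 := ndS (p := 922) (l := 6) rfl N922 D1360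
theorem N1291 : nd 1291 = n1361 := ndS (p := 923) (l := 0) rfl N923 D1361
theorem N1292 : nd 1292 = n1362 := ndS (p := 923) (l := 4) rfl N923 D1362
theorem N1293 : nd 1293 = n1363 := ndS (p := 924) (l := 3) rfl N924 D1363
theorem N1294 : nd 1294 = n1364 := ndS (p := 924) (l := 5) rfl N924 D1364
theorem N1295 : nd 1295 = n1365 := ndS (p := 925) (l := 6) rfl N925 D1365
theorem N1296 : nd 1296 = n1366 := ndS (p := 926) (l := 4) rfl N926 D1366
theorem N1297 : nd 1297 = n1367 := ndS (p := 927) (l := 3) rfl N927 D1367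
theorem N1298 : nd 1298 = n1368 := ndS (p := 927) (l := 5) rfl N927 D1368
theorem N1299 : nd 1299 = n1369 := ndS (p := 928) (l := 5) rfl N928 D1369
theorem N1300 : nd 1300 = n1370 := ndS (p := 928) (l := 8) rfl N928 D1370
theorem N1301 : nd 1301 = n1371 := ndS (p := 929) (l := 6) rfl N929 D1371
theorem N1302 : nd 1302 = n1372 := ndS (p := 930) (l := 7) rfl N930 D1372
theorem N1303 : nd 1303 = n1373 := ndS (p := 931) (l := 4) rfl N931 D1373
theorem N1304 : nd 1304 = n1374 := ndS (p := 932) (l := 3) rfl N932 D1374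
theorem N1305 : nd 1305 = n1375 := ndS (p := 932) (l := 5) rfl N932 D1375
theorem N1306 : nd 1306 = n1376 := ndS (p := 933) (l := 5) rfl N933 D1376
theorem N1307 : nd 1307 = n1377 := ndS (p := 933) (l := 8) rfl N933 D1377
theorem N1308 : nd 1308 = n1378 := ndS (p := 934) (l := 6) rfl N934 D1378
theorem N1309 : nd 1309 = n1379 := ndS (p := 935) (l := 7) rfl N935 D1379
theorem N1310 : nd 1310 = n1380 := ndS (p := 936) (l := 3) rfl N936 D1380
theorem N1311 : nd 1311 = n1381 := ndS (p := 936) (l := 5) rfl N936 D1381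
theorem N1312 : nd 1312 = n1383 := ndS (p := 937) (l := 5) rfl N937 D1383
theorem N1313 : nd 1313 = n1385 := ndS (p := 938) (l := 6) rfl N938 D1385
theorem N1314 : nd 1314 = n1386 := ndS (p := 939) (l := 4) rfl N939 D1386
theorem N1315 : nd 1315 = n1387 := ndS (p := 939) (l := 6) rfl N939 D1387
theorem N1316 : nd 1316 = n1388 := ndS (p := 939) (l := 8) rfl N939 D1388
theorem N1317 : nd 1317 = n1390 := ndS (p := 941) (l := 7) rfl N941 D1390
theorem N1318 : nd 1318 = n1391 := ndS (p := 943) (l := 3) rfl N943 D1391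
theorem N1319 : nd 1319 = n1392 := ndS (p := 943) (l := 5) rfl N943 D1392
theorem N1320 : nd 1320 = n1393 := ndS (p := 944) (l := 2) rfl N944 D1393
theorem N1321 : nd 1321 = n1394 := ndS (p := 944) (l := 5) rfl N944 D1394
theorem N1322 : nd 1322 = n1395 := ndS (p := 944) (l := 8) rfl N944 D1395
theorem N1323 : nd 1323 = n1396 := ndS (p := 945) (l := 6) rfl N945 D1396
theorem N1324 : nd 1324 = n1397 := ndS (p := 946) (l := 4) rfl N946 D1397
theorem N1325 : nd 1325 = n1398 := ndS (p := 946) (l := 6) rfl N946 D1398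
theorem N1326 : nd 1326 = n1399 := ndS (p := 946) (l := 8) rfl N946 D1399
theorem N1327 : nd 1327 = n1400 := ndS (p := 948) (l := 7) rfl N948 D1400
theorem N1328 : nd 1328 = n1401 := ndS (p := 950) (l := 2) rfl N950 D1401
theorem N1329 : nd 1329 = n1402 := ndS (p := 950) (l := 5) rfl N950 D1402
theorem N1330 : nd 1330 = n1403 := ndS (p := 951) (l := 6) rfl N951 D1403
theorem N1331 : nd 1331 = n1404 := ndS (p := 952) (l := 5) rfl N952 D1404
theorem N1332 : nd 1332 = n1405 := ndS (p := 953) (l := 4) rfl N953 D1405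
theorem N1333 : nd 1333 = n1406 := ndS (p := 953) (l := 6) rfl N953 D1406
theorem N1334 : nd 1334 = n1407 := ndS (p := 954) (l := 7) rfl N954 D1407
theorem N1335 : nd 1335 = n1408 := ndS (p := 955) (l := 6) rfl N955 D1408
theorem N1336 : nd 1336 = n1409 := ndS (p := 956) (l := 7) rfl N956 D1409
theorem N1337 : nd 1337 = n1410 := ndS (p := 958) (l := 4) rfl N958 D1410
theorem N1338 : nd 1338 = n1411 := ndS (p := 959) (l := 3) rfl N959 D1411
theorem N1339 : nd 1339 = n1412 := ndS (p := 959) (l := 5) rfl N959 D1412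
theorem N1340 : nd 1340 = n1413 := ndS (p := 960) (l := 5) rfl N960 D1413
theorem N1341 : nd 1341 = n1414 := ndS (p := 960) (l := 8) rfl N960 D1414
theorem N1342 : nd 1342 = n1415 := ndS (p := 961) (l := 6) rfl N961 D1415
theorem N1343 : nd 1343 = n1416 := ndS (p := 962) (l := 7) rfl N962 D1416
theorem N1344 : nd 1344 = n1417 := ndS (p := 963) (l := 3) rfl N963 D1417
theorem N1345 : nd 1345 = n1418 := ndS (p := 963) (l := 5) rfl N963 D1418
theorem N1346 : nd 1346 = n1420 := ndS (p := 964) (l := 5) rfl N964 D1420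
theorem N1347 : nd 1347 = n1422 := ndS (p := 965) (l := 6) rfl N965 D1422
theorem N1348 : nd 1348 = n1423 := ndS (p := 966) (l := 4) rfl N966 D1423
theorem N1349 : nd 1349 = n1424 := ndS (p := 966) (l := 6) rfl N966 D1424
theorem N1350 : nd 1350 = n1425 := ndS (p := 966) (l := 8) rfl N966 D1425
theorem N1351 : nd 1351 = n1427 := ndS (p := 968) (l := 7) rfl N968 D1427
theorem N1352 : nd 1352 = n1429 := ndS (p := 970) (l := 5) rfl N970 D1429
theorem N1353 : nd 1353 = n1431 := ndS (p := 971) (l := 6) rfl N971 D1431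
theorem N1354 : nd 1354 = n1434 := ndS (p := 972) (l := 6) rfl N972 D1434
theorem N1355 : nd 1355 = n1437 := ndS (p := 973) (l := 7) rfl N973 D1437
theorem N1356 : nd 1356 = n1438 := ndS (p := 974) (l := 7) rfl N974 D1438
theorem N1357 : nd 1357 = n1439 := ndS (p := 974) (l := 8) rfl N974 D1439
theorem N1358 : nd 1358 = n1441 := ndS (p := 977) (l := 7) rfl N977 D1441
theorem N1359 : nd 1359 = n1442 := ndS (p := 979) (l := 3) rfl N979 D1442
theorem N1360 : nd 1360 = n1443 := ndS (p := 979) (l := 5) rfl N979 D1443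
theorem N1361 : nd 1361 = n1445 := ndS (p := 980) (l := 5) rfl N980 D1445
theorem N1362 : nd 1362 = n1447 := ndS (p := 981) (l := 6) rfl N981 D1447
theorem N1363 : nd 1363 = n1448 := ndS (p := 982) (l := 4) rfl N982 D1448
theorem N1364 : nd 1364 = n1449 := ndS (p := 982) (l := 6) rfl N982 D1449
theorem N1365 : nd 1365 = n1450 := ndS (p := 982) (l := 8) rfl N982 D1450
theorem N1366 : nd 1366 = n1453 := ndS (p := 985) (l := 5) rfl N985 D1453
theorem N1367 : nd 1367 = n1457 := ndS (p := 987) (l := 4) rfl N987 D1457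
theorem N1368 : nd 1368 = n1460 := ndS (p := 988) (l := 8) rfl N988 D1460
theorem N1369 : nd 1369 = n1468 := ndS (p := 990) (l := 5) rfl N990 D1468
theorem N1370 : nd 1370 = n1470 := ndS (p := 991) (l := 6) rfl N991 D1470
theorem N1371 : nd 1371 = n1473 := ndS (p := 992) (l := 4) rfl N992 D1473
theorem N1372 : nd 1372 = n1474 := ndS (p := 992) (l := 6) rfl N992 D1474
theorem N1373 : nd 1373 = n1477 := ndS (p := 994) (l := 6) rfl N994 D1477
theorem N1374 : nd 1374 = n1478 := ndS (p := 994) (l := 8) rfl N994 D1478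
theorem N1375 : nd 1375 = n1479 := ndS (p := 995) (l := 8) rfl N995 D1479
theorem N1376 : nd 1376 = n1484 := ndS (p := 997) (l := 4) rfl N997 D1484
theorem N1377 : nd 1377 = n1493 := ndS (p := 999) (l := 3) rfl N999 D1493
theorem N1378 : nd 1378 = n1500 := ndS (p := 1000) (l := 7) rfl N1000 D1500
theorem N1379 : nd 1379 = n1501 := ndS (p := 1000) (l := 9) rfl N1000 D1501
theorem N1380 : nd 1380 = n1502 := ndS (p := 1001) (l := 6) rfl N1001 D1502
theorem N1381 : nd 1381 = n1503 := ndS (p := 1001) (l := 9) rfl N1001 D1503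
theorem N1382 : nd 1382 = n1504 := ndS (p := 1002) (l := 8) rfl N1002 D1504
theorem N1383 : nd 1383 = n1505 := ndS (p := 1003) (l := 8) rfl N1003 D1505
theorem N1384 : nd 1384 = n1506 := ndS (p := 1004) (l := 3) rfl N1004 D1506
theorem N1385 : nd 1385 = n1507 := ndS (p := 1005) (l := 2) rfl N1005 D1507
theorem N1386 : nd 1386 = n1508 := ndS (p := 1005) (l := 4) rfl N1005 D1508
theorem N1387 : nd 1387 = n1509 := ndS (p := 1006) (l := 8) rfl N1006 D1509
theorem N1388 : nd 1388 = n1510 := ndS (p := 1006) (l := 9) rfl N1006 D1510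
theorem N1389 : nd 1389 = n1511 := ndS (p := 1007) (l := 9) rfl N1007 D1511
theorem N1390 : nd 1390 = n1512 := ndS (p := 1008) (l := 8) rfl N1008 D1512
theorem N1391 : nd 1391 = n1513 := ndS (p := 1009) (l := 8) rfl N1009 D1513
theorem N1392 : nd 1392 = n1514 := ndS (p := 1010) (l := 3) rfl N1010 D1514
theorem N1393 : nd 1393 = n1515 := ndS (p := 1011) (l := 8) rfl N1011 D1515
theorem N1394 : nd 1394 = n1516 := ndS (p := 1012) (l := 3) rfl N1012 D1516
theorem N1395 : nd 1395 = n1517 := ndS (p := 1013) (l := 3) rfl N1013 D1517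
theorem N1396 : nd 1396 = n1518 := ndS (p := 1014) (l := 2) rfl N1014 D1518
theorem N1397 : nd 1397 = n1519 := ndS (p := 1014) (l := 4) rfl N1014 D1519
theorem N1398 : nd 1398 = n1520 := ndS (p := 1015) (l := 2) rfl N1015 D1520
theorem N1399 : nd 1399 = n1521 := ndS (p := 1015) (l := 4) rfl N1015 D1521
theorem N1400 : nd 1400 = n1522 := ndS (p := 1016) (l := 1) rfl N1016 D1522
theorem N1401 : nd 1401 = n1523 := ndS (p := 1016) (l := 4) rfl N1016 D1523
theorem N1402 : nd 1402 = n1524 := ndS (p := 1017) (l := 5) rfl N1017 D1524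
theorem N1403 : nd 1403 = n1525 := ndS (p := 1018) (l := 8) rfl N1018 D1525
theorem N1404 : nd 1404 = n1526 := ndS (p := 1019) (l := 3) rfl N1019 D1526
theorem N1405 : nd 1405 = n1527 := ndS (p := 1020) (l := 2) rfl N1020 D1527
theorem N1406 : nd 1406 = n1528 := ndS (p := 1020) (l := 4) rfl N1020 D1528
theorem N1407 : nd 1407 = n1529 := ndS (p := 1021) (l := 3) rfl N1021 D1529
theorem N1408 : nd 1408 = n1530 := ndS (p := 1022) (l := 2) rfl N1022 D1530
theorem N1409 : nd 1409 = n1531 := ndS (p := 1022) (l := 4) rfl N1022 D1531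
theorem N1410 : nd 1410 = n1532 := ndS (p := 1023) (l := 1) rfl N1023 D1532
theorem N1411 : nd 1411 = n1533 := ndS (p := 1023) (l := 4) rfl N1023 D1533
theorem N1412 : nd 1412 = n1534 := ndS (p := 1024) (l := 5) rfl N1024 D1534
theorem N1413 : nd 1413 = n1535 := ndS (p := 1025) (l := 2) rfl N1025 D1535
theorem N1414 : nd 1414 = n1536 := ndS (p := 1025) (l := 4) rfl N1025 D1536
theorem N1415 : nd 1415 = n1537 := ndS (p := 1026) (l := 1) rfl N1026 D1537
theorem N1416 : nd 1416 = n1538 := ndS (p := 1026) (l := 4) rfl N1026 D1538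
theorem N1417 : nd 1417 = n1539 := ndS (p := 1027) (l := 5) rfl N1027 D1539
theorem N1418 : nd 1418 = n1540 := ndS (p := 1028) (l := 0) rfl N1028 D1540
theorem N1419 : nd 1419 = n1541 := ndS (p := 1028) (l := 4) rfl N1028 D1541
theorem N1420 : nd 1420 = n1542 := ndS (p := 1029) (l := 3) rfl N1029 D1542
theorem N1421 : nd 1421 = n1543 := ndS (p := 1029) (l := 5) rfl N1029 D1543
theorem N1422 : nd 1422 = n1544 := ndS (p := 1030) (l := 6) rfl N1030 D1544
theorem N1423 : nd 1423 = n1545 := ndS (p := 1031) (l := 2) rfl N1031 D1545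
theorem N1424 : nd 1424 = n1546 := ndS (p := 1031) (l := 4) rfl N1031 D1546
theorem N1425 : nd 1425 = n1547 := ndS (p := 1032) (l := 1) rfl N1032 D1547
theorem N1426 : nd 1426 = n1548 := ndS (p := 1032) (l := 4) rfl N1032 D1548
theorem N1427 : nd 1427 = n1549 := ndS (p := 1033) (l := 5) rfl N1033 D1549
theorem N1428 : nd 1428 = n1550 := ndS (p := 1034) (l := 0) rfl N1034 D1550
theorem N1429 : nd 1429 = n1551 := ndS (p := 1034) (l := 4) rfl N1034 D1551
theorem N1430 : nd 1430 = n1552 := ndS (p := 1035) (l := 3) rfl N1035 D1552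
theorem N1431 : nd 1431 = n1553 := ndS (p := 1035) (l := 5) rfl N1035 D1553
theorem N1432 : nd 1432 = n1554 := ndS (p := 1036) (l := 6) rfl N1036 D1554
theorem N1433 : nd 1433 = n1555 := ndS (p := 1037) (l := 4) rfl N1037 D1555
theorem N1434 : nd 1434 = n1556 := ndS (p := 1038) (l := 3) rfl N1038 D1556
theorem N1435 : nd 1435 = n1557 := ndS (p := 1038) (l := 5) rfl N1038 D1557
theorem N1436 : nd 1436 = n1558 := ndS (p := 1039) (l := 5) rfl N1039 D1558
theorem N1437 : nd 1437 = n1559 := ndS (p := 1039) (l := 8) rfl N1039 D1559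
theorem N1438 : nd 1438 = n1560 := ndS (p := 1040) (l := 6) rfl N1040 D1560
theorem N1439 : nd 1439 = n1561 := ndS (p := 1041) (l := 7) rfl N1041 D1561
theorem N1440 : nd 1440 = n1562 := ndS (p := 1042) (l := 3) rfl N1042 D1562
theorem N1441 : nd 1441 = n1563 := ndS (p := 1042) (l := 9) rfl N1042 D1563
theorem N1442 : nd 1442 = n1564 := ndS (p := 1043) (l := 8) rfl N1043 D1564
theorem N1443 : nd 1443 = n1565 := ndS (p := 1044) (l := 4) rfl N1044 D1565
theorem N1444 : nd 1444 = n1566 := ndS (p := 1044) (l := 9) rfl N1044 D1566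
theorem N1445 : nd 1445 = n1567 := ndS (p := 1045) (l := 8) rfl N1045 D1567
theorem N1446 : nd 1446 = n1568 := ndS (p := 1046) (l := 3) rfl N1046 D1568
theorem N1447 : nd 1447 = n1569 := ndS (p := 1047) (l := 9) rfl N1047 D1569
theorem N1448 : nd 1448 = n1570 := ndS (p := 1048) (l := 8) rfl N1048 D1570
theorem N1449 : nd 1449 = n1571 := ndS (p := 1049) (l := 3) rfl N1049 D1571
theorem N1450 : nd 1450 = n1572 := ndS (p := 1050) (l := 2) rfl N1050 D1572
theorem N1451 : nd 1451 = n1573 := ndS (p := 1050) (l := 4) rfl N1050 D1573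
theorem N1452 : nd 1452 = n1574 := ndS (p := 1051) (l := 8) rfl N1051 D1574
theorem N1453 : nd 1453 = n1575 := ndS (p := 1052) (l := 3) rfl N1052 D1575
theorem N1454 : nd 1454 = n1576 := ndS (p := 1053) (l := 2) rfl N1053 D1576
theorem N1455 : nd 1455 = n1577 := ndS (p := 1053) (l := 4) rfl N1053 D1577
theorem N1456 : nd 1456 = n1578 := ndS (p := 1054) (l := 3) rfl N1054 D1578
theorem N1457 : nd 1457 = n1579 := ndS (p := 1055) (l := 2) rfl N1055 D1579
theorem N1458 : nd 1458 = n1580 := ndS (p := 1055) (l := 4) rfl N1055 D1580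
theorem N1459 : nd 1459 = n1581 := ndS (p := 1056) (l := 1) rfl N1056 D1581
theorem N1460 : nd 1460 = n1582 := ndS (p := 1056) (l := 4) rfl N1056 D1582
theorem N1461 : nd 1461 = n1583 := ndS (p := 1057) (l := 5) rfl N1057 D1583
theorem N1462 : nd 1462 = n1584 := ndS (p := 1058) (l := 2) rfl N1058 D1584
theorem N1463 : nd 1463 = n1585 := ndS (p := 1058) (l := 4) rfl N1058 D1585
theorem N1464 : nd 1464 = n1586 := ndS (p := 1059) (l := 1) rfl N1059 D1586
theorem N1465 : nd 1465 = n1587 := ndS (p := 1059) (l := 4) rfl N1059 D1587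
theorem N1466 : nd 1466 = n1588 := ndS (p := 1060) (l := 5) rfl N1060 D1588
theorem N1467 : nd 1467 = n1589 := ndS (p := 1061) (l := 0) rfl N1061 D1589
theorem N1468 : nd 1468 = n1590 := ndS (p := 1061) (l := 4) rfl N1061 D1590
theorem N1469 : nd 1469 = n1591 := ndS (p := 1062) (l := 3) rfl N1062 D1591
theorem N1470 : nd 1470 = n1592 := ndS (p := 1062) (l := 5) rfl N1062 D1592
theorem N1471 : nd 1471 = n1593 := ndS (p := 1063) (l := 6) rfl N1063 D1593
theorem N1472 : nd 1472 = n1594 := ndS (p := 1064) (l := 2) rfl N1064 D1594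
theorem N1473 : nd 1473 = n1595 := ndS (p := 1064) (l := 4) rfl N1064 D1595
theorem N1474 : nd 1474 = n1596 := ndS (p := 1065) (l := 1) rfl N1065 D1596
theorem N1475 : nd 1475 = n1597 := ndS (p := 1065) (l := 4) rfl N1065 D1597
theorem N1476 : nd 1476 = n1598 := ndS (p := 1066) (l := 5) rfl N1066 D1598
theorem N1477 : nd 1477 = n1599 := ndS (p := 1067) (l := 1) rfl N1067 D1599
theorem N1478 : nd 1478 = n1600 := ndS (p := 1067) (l := 4) rfl N1067 D1600
theorem N1479 : nd 1479 = n1601 := ndS (p := 1068) (l := 5) rfl N1068 D1601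
theorem N1480 : nd 1480 = n1602 := ndS (p := 1069) (l := 0) rfl N1069 D1602
theorem N1481 : nd 1481 = n1603 := ndS (p := 1069) (l := 4) rfl N1069 D1603
theorem N1482 : nd 1482 = n1604 := ndS (p := 1070) (l := 3) rfl N1070 D1604
theorem N1483 : nd 1483 = n1605 := ndS (p := 1070) (l := 5) rfl N1070 D1605
theorem N1484 : nd 1484 = n1606 := ndS (p := 1071) (l := 6) rfl N1071 D1606
theorem N1485 : nd 1485 = n1607 := ndS (p := 1072) (l := 0) rfl N1072 D1607
theorem N1486 : nd 1486 = n1608 := ndS (p := 1072) (l := 4) rfl N1072 D1608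
theorem N1487 : nd 1487 = n1609 := ndS (p := 1073) (l := 3) rfl N1073 D1609
theorem N1488 : nd 1488 = n1610 := ndS (p := 1073) (l := 5) rfl N1073 D1610
theorem N1489 : nd 1489 = n1611 := ndS (p := 1074) (l := 6) rfl N1074 D1611
theorem N1490 : nd 1490 = n1612 := ndS (p := 1075) (l := 4) rfl N1075 D1612
theorem N1491 : nd 1491 = n1613 := ndS (p := 1076) (l := 3) rfl N1076 D1613
theorem N1492 : nd 1492 = n1614 := ndS (p := 1076) (l := 5) rfl N1076 D1614
theorem N1493 : nd 1493 = n1615 := ndS (p := 1077) (l := 5) rfl N1077 D1615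
theorem N1494 : nd 1494 = n1616 := ndS (p := 1077) (l := 8) rfl N1077 D1616
theorem N1495 : nd 1495 = n1617 := ndS (p := 1078) (l := 6) rfl N1078 D1617
theorem N1496 : nd 1496 = n1618 := ndS (p := 1079) (l := 7) rfl N1079 D1618
theorem N1497 : nd 1497 = n1619 := ndS (p := 1080) (l := 4) rfl N1080 D1619
theorem N1498 : nd 1498 = n1620 := ndS (p := 1081) (l := 3) rfl N1081 D1620
theorem N1499 : nd 1499 = n1621 := ndS (p := 1081) (l := 5) rfl N1081 D1621
theorem N1500 : nd 1500 = n1622 := ndS (p := 1082) (l := 5) rfl N1082 D1622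
theorem N1501 : nd 1501 = n1623 := ndS (p := 1082) (l := 8) rfl N1082 D1623
theorem N1502 : nd 1502 = n1624 := ndS (p := 1083) (l := 6) rfl N1083 D1624
theorem N1503 : nd 1503 = n1625 := ndS (p := 1084) (l := 7) rfl N1084 D1625
theorem N1504 : nd 1504 = n1626 := ndS (p := 1085) (l := 3) rfl N1085 D1626
theorem N1505 : nd 1505 = n1627 := ndS (p := 1085) (l := 5) rfl N1085 D1627
theorem N1506 : nd 1506 = n1628 := ndS (p := 1086) (l := 2) rfl N1086 D1628
theorem N1507 : nd 1507 = n1629 := ndS (p := 1086) (l := 5) rfl N1086 D1629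
theorem N1508 : nd 1508 = n1630 := ndS (p := 1086) (l := 8) rfl N1086 D1630
theorem N1509 : nd 1509 = n1631 := ndS (p := 1087) (l := 6) rfl N1087 D1631
theorem N1510 : nd 1510 = n1632 := ndS (p := 1088) (l := 4) rfl N1088 D1632
theorem N1511 : nd 1511 = n1633 := ndS (p := 1088) (l := 6) rfl N1088 D1633
theorem N1512 : nd 1512 = n1634 := ndS (p := 1088) (l := 8) rfl N1088 D1634
theorem N1513 : nd 1513 = n1635 := ndS (p := 1089) (l := 9) rfl N1089 D1635
theorem N1514 : nd 1514 = n1636 := ndS (p := 1090) (l := 7) rfl N1090 D1636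
theorem N1515 : nd 1515 = n1637 := ndS (p := 1092) (l := 0) rfl N1092 D1637
theorem N1516 : nd 1516 = n1638 := ndS (p := 1092) (l := 4) rfl N1092 D1638
theorem N1517 : nd 1517 = n1639 := ndS (p := 1093) (l := 3) rfl N1093 D1639
theorem N1518 : nd 1518 = n1640 := ndS (p := 1093) (l := 5) rfl N1093 D1640
theorem N1519 : nd 1519 = n1641 := ndS (p := 1094) (l := 6) rfl N1094 D1641
theorem N1520 : nd 1520 = n1642 := ndS (p := 1095) (l := 4) rfl N1095 D1642
theorem N1521 : nd 1521 = n1643 := ndS (p := 1096) (l := 3) rfl N1096 D1643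
theorem N1522 : nd 1522 = n1644 := ndS (p := 1096) (l := 5) rfl N1096 D1644
theorem N1523 : nd 1523 = n1645 := ndS (p := 1097) (l := 5) rfl N1097 D1645
theorem N1524 : nd 1524 = n1646 := ndS (p := 1097) (l := 8) rfl N1097 D1646
theorem N1525 : nd 1525 = n1647 := ndS (p := 1098) (l := 6) rfl N1098 D1647
theorem N1526 : nd 1526 = n1648 := ndS (p := 1099) (l := 7) rfl N1099 D1648
theorem N1527 : nd 1527 = n1649 := ndS (p := 1100) (l := 3) rfl N1100 D1649
theorem N1528 : nd 1528 = n1650 := ndS (p := 1100) (l := 5) rfl N1100 D1650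
theorem N1529 : nd 1529 = n1651 := ndS (p := 1101) (l := 2) rfl N1101 D1651
theorem N1530 : nd 1530 = n1652 := ndS (p := 1101) (l := 5) rfl N1101 D1652
theorem N1531 : nd 1531 = n1653 := ndS (p := 1101) (l := 8) rfl N1101 D1653
theorem N1532 : nd 1532 = n1654 := ndS (p := 1102) (l := 6) rfl N1102 D1654
theorem N1533 : nd 1533 = n1655 := ndS (p := 1103) (l := 4) rfl N1103 D1655
theorem N1534 : nd 1534 = n1656 := ndS (p := 1103) (l := 6) rfl N1103 D1656
theorem N1535 : nd 1535 = n1657 := ndS (p := 1103) (l := 8) rfl N1103 D1657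
theorem N1536 : nd 1536 = n1658 := ndS (p := 1104) (l := 9) rfl N1104 D1658
theorem N1537 : nd 1537 = n1659 := ndS (p := 1105) (l := 7) rfl N1105 D1659
theorem N1538 : nd 1538 = n1660 := ndS (p := 1107) (l := 5) rfl N1107 D1660
theorem N1539 : nd 1539 = n1661 := ndS (p := 1107) (l := 8) rfl N1107 D1661
theorem N1540 : nd 1540 = n1662 := ndS (p := 1108) (l := 6) rfl N1108 D1662
theorem N1541 : nd 1541 = n1663 := ndS (p := 1109) (l := 4) rfl N1109 D1663
theorem N1542 : nd 1542 = n1664 := ndS (p := 1109) (l := 6) rfl N1109 D1664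
theorem N1543 : nd 1543 = n1665 := ndS (p := 1109) (l := 8) rfl N1109 D1665
theorem N1544 : nd 1544 = n1666 := ndS (p := 1110) (l := 9) rfl N1110 D1666
theorem N1545 : nd 1545 = n1667 := ndS (p := 1111) (l := 7) rfl N1111 D1667
theorem N1546 : nd 1546 = n1668 := ndS (p := 1112) (l := 6) rfl N1112 D1668
theorem N1547 : nd 1547 = n1669 := ndS (p := 1112) (l := 8) rfl N1112 D1669
theorem N1548 : nd 1548 = n1670 := ndS (p := 1113) (l := 7) rfl N1113 D1670
theorem N1549 : nd 1549 = n1671 := ndS (p := 1113) (l := 8) rfl N1113 D1671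
theorem N1550 : nd 1550 = n1672 := ndS (p := 1114) (l := 9) rfl N1114 D1672
theorem N1551 : nd 1551 = n1673 := ndS (p := 1117) (l := 5) rfl N1117 D1673
theorem N1552 : nd 1552 = n1674 := ndS (p := 1117) (l := 7) rfl N1117 D1674
theorem N1553 : nd 1553 = n1675 := ndS (p := 1117) (l := 8) rfl N1117 D1675
theorem N1554 : nd 1554 = n1676 := ndS (p := 1118) (l := 3) rfl N1118 D1676
theorem N1555 : nd 1555 = n1677 := ndS (p := 1118) (l := 9) rfl N1118 D1677
theorem N1556 : nd 1556 = n1678 := ndS (p := 1119) (l := 8) rfl N1119 D1678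
theorem N1557 : nd 1557 = n1679 := ndS (p := 1120) (l := 9) rfl N1120 D1679
theorem N1558 : nd 1558 = n1680 := ndS (p := 1122) (l := 2) rfl N1122 D1680
theorem N1559 : nd 1559 = n1681 := ndS (p := 1122) (l := 4) rfl N1122 D1681
theorem N1560 : nd 1560 = n1682 := ndS (p := 1122) (l := 9) rfl N1122 D1682
theorem N1561 : nd 1561 = n1683 := ndS (p := 1123) (l := 8) rfl N1123 D1683
theorem N1562 : nd 1562 = n1684 := ndS (p := 1124) (l := 3) rfl N1124 D1684
theorem N1563 : nd 1563 = n1685 := ndS (p := 1125) (l := 4) rfl N1125 D1685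
theorem N1564 : nd 1564 = n1686 := ndS (p := 1125) (l := 9) rfl N1125 D1686
theorem N1565 : nd 1565 = n1687 := ndS (p := 1126) (l := 9) rfl N1126 D1687
theorem N1566 : nd 1566 = n1688 := ndS (p := 1127) (l := 8) rfl N1127 D1688
theorem N1567 : nd 1567 = n1689 := ndS (p := 1128) (l := 3) rfl N1128 D1689
theorem N1568 : nd 1568 = n1690 := ndS (p := 1129) (l := 2) rfl N1129 D1690
theorem N1569 : nd 1569 = n1691 := ndS (p := 1129) (l := 4) rfl N1129 D1691
theorem N1570 : nd 1570 = n1692 := ndS (p := 1130) (l := 3) rfl N1130 D1692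
theorem N1571 : nd 1571 = n1693 := ndS (p := 1130) (l := 9) rfl N1130 D1693
theorem N1572 : nd 1572 = n1695 := ndS (p := 1132) (l := 8) rfl N1132 D1695
theorem N1573 : nd 1573 = n1696 := ndS (p := 1133) (l := 3) rfl N1133 D1696
theorem N1574 : nd 1574 = n1697 := ndS (p := 1134) (l := 2) rfl N1134 D1697
theorem N1575 : nd 1575 = n1698 := ndS (p := 1134) (l := 4) rfl N1134 D1698
theorem N1576 : nd 1576 = n1699 := ndS (p := 1135) (l := 1) rfl N1135 D1699
theorem N1577 : nd 1577 = n1700 := ndS (p := 1135) (l := 4) rfl N1135 D1700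
theorem N1578 : nd 1578 = n1701 := ndS (p := 1136) (l := 5) rfl N1136 D1701
theorem N1579 : nd 1579 = n1703 := ndS (p := 1138) (l := 3) rfl N1138 D1703
theorem N1580 : nd 1580 = n1704 := ndS (p := 1139) (l := 2) rfl N1139 D1704
theorem N1581 : nd 1581 = n1705 := ndS (p := 1139) (l := 4) rfl N1139 D1705
theorem N1582 : nd 1582 = n1706 := ndS (p := 1140) (l := 1) rfl N1140 D1706
theorem N1583 : nd 1583 = n1707 := ndS (p := 1140) (l := 4) rfl N1140 D1707
theorem N1584 : nd 1584 = n1708 := ndS (p := 1141) (l := 5) rfl N1141 D1708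
theorem N1585 : nd 1585 = n1711 := ndS (p := 1142) (l := 4) rfl N1142 D1711
theorem N1586 : nd 1586 = n1712 := ndS (p := 1143) (l := 1) rfl N1143 D1712
theorem N1587 : nd 1587 = n1713 := ndS (p := 1143) (l := 4) rfl N1143 D1713
theorem N1588 : nd 1588 = n1714 := ndS (p := 1144) (l := 5) rfl N1144 D1714
theorem N1589 : nd 1589 = n1715 := ndS (p := 1145) (l := 0) rfl N1145 D1715
theorem N1590 : nd 1590 = n1716 := ndS (p := 1145) (l := 4) rfl N1145 D1716
theorem N1591 : nd 1591 = n1717 := ndS (p := 1146) (l := 3) rfl N1146 D1717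
theorem N1592 : nd 1592 = n1718 := ndS (p := 1146) (l := 5) rfl N1146 D1718
theorem N1593 : nd 1593 = n1719 := ndS (p := 1147) (l := 6) rfl N1147 D1719
theorem N1594 : nd 1594 = n1724 := ndS (p := 1148) (l := 5) rfl N1148 D1724
theorem N1595 : nd 1595 = n1726 := ndS (p := 1149) (l := 4) rfl N1149 D1726
theorem N1596 : nd 1596 = n1727 := ndS (p := 1150) (l := 3) rfl N1150 D1727
theorem N1597 : nd 1597 = n1728 := ndS (p := 1150) (l := 5) rfl N1150 D1728
theorem N1598 : nd 1598 = n1729 := ndS (p := 1151) (l := 6) rfl N1151 D1729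
theorem N1599 : nd 1599 = n1730 := ndS (p := 1152) (l := 4) rfl N1152 D1730
theorem N1600 : nd 1600 = n1731 := ndS (p := 1153) (l := 3) rfl N1153 D1731
theorem N1601 : nd 1601 = n1732 := ndS (p := 1153) (l := 5) rfl N1153 D1732
theorem N1602 : nd 1602 = n1733 := ndS (p := 1154) (l := 5) rfl N1154 D1733
theorem N1603 : nd 1603 = n1734 := ndS (p := 1154) (l := 8) rfl N1154 D1734
theorem N1604 : nd 1604 = n1735 := ndS (p := 1155) (l := 6) rfl N1155 D1735
theorem N1605 : nd 1605 = n1736 := ndS (p := 1156) (l := 7) rfl N1156 D1736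
theorem N1606 : nd 1606 = n1737 := ndS (p := 1157) (l := 1) rfl N1157 D1737
theorem N1607 : nd 1607 = n1738 := ndS (p := 1157) (l := 4) rfl N1157 D1738
theorem N1608 : nd 1608 = n1739 := ndS (p := 1158) (l := 5) rfl N1158 D1739
theorem N1609 : nd 1609 = n1740 := ndS (p := 1159) (l := 0) rfl N1159 D1740
theorem N1610 : nd 1610 = n1741 := ndS (p := 1159) (l := 4) rfl N1159 D1741
theorem N1611 : nd 1611 = n1742 := ndS (p := 1160) (l := 3) rfl N1160 D1742
theorem N1612 : nd 1612 = n1743 := ndS (p := 1160) (l := 5) rfl N1160 D1743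
theorem N1613 : nd 1613 = n1744 := ndS (p := 1161) (l := 6) rfl N1161 D1744
theorem N1614 : nd 1614 = n1745 := ndS (p := 1162) (l := 0) rfl N1162 D1745
theorem N1615 : nd 1615 = n1746 := ndS (p := 1162) (l := 4) rfl N1162 D1746
theorem N1616 : nd 1616 = n1747 := ndS (p := 1163) (l := 3) rfl N1163 D1747
theorem N1617 : nd 1617 = n1748 := ndS (p := 1163) (l := 5) rfl N1163 D1748
theorem N1618 : nd 1618 = n1749 := ndS (p := 1164) (l := 6) rfl N1164 D1749
theorem N1619 : nd 1619 = n1750 := ndS (p := 1165) (l := 4) rfl N1165 D1750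
theorem N1620 : nd 1620 = n1751 := ndS (p := 1166) (l := 3) rfl N1166 D1751
theorem N1621 : nd 1621 = n1752 := ndS (p := 1166) (l := 5) rfl N1166 D1752
theorem N1622 : nd 1622 = n1753 := ndS (p := 1167) (l := 5) rfl N1167 D1753
theorem N1623 : nd 1623 = n1754 := ndS (p := 1167) (l := 8) rfl N1167 D1754
theorem N1624 : nd 1624 = n1755 := ndS (p := 1168) (l := 6) rfl N1168 D1755
theorem N1625 : nd 1625 = n1756 := ndS (p := 1169) (l := 7) rfl N1169 D1756
theorem N1626 : nd 1626 = n1757 := ndS (p := 1170) (l := 4) rfl N1170 D1757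
theorem N1627 : nd 1627 = n1758 := ndS (p := 1171) (l := 3) rfl N1171 D1758
theorem N1628 : nd 1628 = n1759 := ndS (p := 1171) (l := 5) rfl N1171 D1759
theorem N1629 : nd 1629 = n1760 := ndS (p := 1172) (l := 5) rfl N1172 D1760
theorem N1630 : nd 1630 = n1761 := ndS (p := 1172) (l := 8) rfl N1172 D1761
theorem N1631 : nd 1631 = n1762 := ndS (p := 1173) (l := 6) rfl N1173 D1762
theorem N1632 : nd 1632 = n1763 := ndS (p := 1174) (l := 7) rfl N1174 D1763
theorem N1633 : nd 1633 = n1764 := ndS (p := 1175) (l := 3) rfl N1175 D1764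
theorem N1634 : nd 1634 = n1765 := ndS (p := 1175) (l := 5) rfl N1175 D1765
theorem N1635 : nd 1635 = n1766 := ndS (p := 1176) (l := 2) rfl N1176 D1766
theorem N1636 : nd 1636 = n1767 := ndS (p := 1176) (l := 5) rfl N1176 D1767
theorem N1637 : nd 1637 = n1768 := ndS (p := 1176) (l := 8) rfl N1176 D1768
theorem N1638 : nd 1638 = n1769 := ndS (p := 1177) (l := 6) rfl N1177 D1769
theorem N1639 : nd 1639 = n1770 := ndS (p := 1178) (l := 4) rfl N1178 D1770
theorem N1640 : nd 1640 = n1771 := ndS (p := 1178) (l := 6) rfl N1178 D1771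
theorem N1641 : nd 1641 = n1772 := ndS (p := 1178) (l := 8) rfl N1178 D1772
theorem N1642 : nd 1642 = n1773 := ndS (p := 1179) (l := 9) rfl N1179 D1773
theorem N1643 : nd 1643 = n1774 := ndS (p := 1180) (l := 7) rfl N1180 D1774
theorem N1644 : nd 1644 = n1775 := ndS (p := 1182) (l := 3) rfl N1182 D1775
theorem N1645 : nd 1645 = n1776 := ndS (p := 1182) (l := 5) rfl N1182 D1776
theorem N1646 : nd 1646 = n1777 := ndS (p := 1183) (l := 2) rfl N1183 D1777
theorem N1647 : nd 1647 = n1778 := ndS (p := 1183) (l := 5) rfl N1183 D1778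
theorem N1648 : nd 1648 = n1779 := ndS (p := 1183) (l := 8) rfl N1183 D1779
theorem N1649 : nd 1649 = n1780 := ndS (p := 1184) (l := 6) rfl N1184 D1780
theorem N1650 : nd 1650 = n1781 := ndS (p := 1185) (l := 4) rfl N1185 D1781
theorem N1651 : nd 1651 = n1782 := ndS (p := 1185) (l := 6) rfl N1185 D1782
theorem N1652 : nd 1652 = n1783 := ndS (p := 1185) (l := 8) rfl N1185 D1783
theorem N1653 : nd 1653 = n1784 := ndS (p := 1187) (l := 7) rfl N1187 D1784
theorem N1654 : nd 1654 = n1785 := ndS (p := 1189) (l := 2) rfl N1189 D1785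
theorem N1655 : nd 1655 = n1786 := ndS (p := 1189) (l := 5) rfl N1189 D1786
theorem N1656 : nd 1656 = n1787 := ndS (p := 1190) (l := 6) rfl N1190 D1787
theorem N1657 : nd 1657 = n1788 := ndS (p := 1191) (l := 5) rfl N1191 D1788
theorem N1658 : nd 1658 = n1789 := ndS (p := 1192) (l := 4) rfl N1192 D1789
theorem N1659 : nd 1659 = n1790 := ndS (p := 1192) (l := 6) rfl N1192 D1790
theorem N1660 : nd 1660 = n1791 := ndS (p := 1193) (l := 7) rfl N1193 D1791
theorem N1661 : nd 1661 = n1792 := ndS (p := 1194) (l := 6) rfl N1194 D1792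
theorem N1662 : nd 1662 = n1793 := ndS (p := 1195) (l := 7) rfl N1195 D1793
theorem N1663 : nd 1663 = n1794 := ndS (p := 1197) (l := 4) rfl N1197 D1794
theorem N1664 : nd 1664 = n1795 := ndS (p := 1198) (l := 3) rfl N1198 D1795
theorem N1665 : nd 1665 = n1796 := ndS (p := 1198) (l := 5) rfl N1198 D1796
theorem N1666 : nd 1666 = n1797 := ndS (p := 1199) (l := 5) rfl N1199 D1797
theorem N1667 : nd 1667 = n1798 := ndS (p := 1199) (l := 8) rfl N1199 D1798
theorem N1668 : nd 1668 = n1799 := ndS (p := 1200) (l := 6) rfl N1200 D1799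
theorem N1669 : nd 1669 = n1800 := ndS (p := 1201) (l := 7) rfl N1201 D1800
theorem N1670 : nd 1670 = n1801 := ndS (p := 1202) (l := 3) rfl N1202 D1801
theorem N1671 : nd 1671 = n1802 := ndS (p := 1202) (l := 5) rfl N1202 D1802
theorem N1672 : nd 1672 = n1803 := ndS (p := 1203) (l := 2) rfl N1203 D1803
theorem N1673 : nd 1673 = n1804 := ndS (p := 1203) (l := 5) rfl N1203 D1804
theorem N1674 : nd 1674 = n1805 := ndS (p := 1203) (l := 8) rfl N1203 D1805
theorem N1675 : nd 1675 = n1806 := ndS (p := 1204) (l := 6) rfl N1204 D1806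
theorem N1676 : nd 1676 = n1807 := ndS (p := 1205) (l := 4) rfl N1205 D1807
theorem N1677 : nd 1677 = n1808 := ndS (p := 1205) (l := 6) rfl N1205 D1808
theorem N1678 : nd 1678 = n1809 := ndS (p := 1205) (l := 8) rfl N1205 D1809
theorem N1679 : nd 1679 = n1810 := ndS (p := 1206) (l := 9) rfl N1206 D1810
theorem N1680 : nd 1680 = n1811 := ndS (p := 1207) (l := 7) rfl N1207 D1811
theorem N1681 : nd 1681 = n1812 := ndS (p := 1209) (l := 2) rfl N1209 D1812
theorem N1682 : nd 1682 = n1813 := ndS (p := 1209) (l := 5) rfl N1209 D1813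
theorem N1683 : nd 1683 = n1815 := ndS (p := 1210) (l := 6) rfl N1210 D1815
theorem N1684 : nd 1684 = n1816 := ndS (p := 1211) (l := 5) rfl N1211 D1816
theorem N1685 : nd 1685 = n1817 := ndS (p := 1211) (l := 8) rfl N1211 D1817
theorem N1686 : nd 1686 = n1818 := ndS (p := 1212) (l := 6) rfl N1212 D1818
theorem N1687 : nd 1687 = n1819 := ndS (p := 1212) (l := 8) rfl N1212 D1819
theorem N1688 : nd 1688 = n1821 := ndS (p := 1214) (l := 7) rfl N1214 D1821
theorem N1689 : nd 1689 = n1822 := ndS (p := 1215) (l := 7) rfl N1215 D1822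
theorem N1690 : nd 1690 = n1823 := ndS (p := 1215) (l := 8) rfl N1215 D1823
theorem N1691 : nd 1691 = n1824 := ndS (p := 1216) (l := 9) rfl N1216 D1824
theorem N1692 : nd 1692 = n1825 := ndS (p := 1219) (l := 7) rfl N1219 D1825
theorem N1693 : nd 1693 = n1826 := ndS (p := 1221) (l := 3) rfl N1221 D1826
theorem N1694 : nd 1694 = n1827 := ndS (p := 1221) (l := 5) rfl N1221 D1827
theorem N1695 : nd 1695 = n1828 := ndS (p := 1222) (l := 2) rfl N1222 D1828
theorem N1696 : nd 1696 = n1829 := ndS (p := 1222) (l := 5) rfl N1222 D1829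
theorem N1697 : nd 1697 = n1830 := ndS (p := 1222) (l := 8) rfl N1222 D1830
theorem N1698 : nd 1698 = n1831 := ndS (p := 1223) (l := 6) rfl N1223 D1831
theorem N1699 : nd 1699 = n1832 := ndS (p := 1224) (l := 4) rfl N1224 D1832
theorem N1700 : nd 1700 = n1833 := ndS (p := 1224) (l := 6) rfl N1224 D1833
theorem N1701 : nd 1701 = n1834 := ndS (p := 1224) (l := 8) rfl N1224 D1834
theorem N1702 : nd 1702 = n1835 := ndS (p := 1225) (l := 9) rfl N1225 D1835
theorem N1703 : nd 1703 = n1836 := ndS (p := 1227) (l := 2) rfl N1227 D1836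
theorem N1704 : nd 1704 = n1837 := ndS (p := 1227) (l := 5) rfl N1227 D1837
theorem N1705 : nd 1705 = n1839 := ndS (p := 1229) (l := 5) rfl N1229 D1839
theorem N1706 : nd 1706 = n1840 := ndS (p := 1229) (l := 8) rfl N1229 D1840
theorem N1707 : nd 1707 = n1841 := ndS (p := 1230) (l := 4) rfl N1230 D1841
theorem N1708 : nd 1708 = n1842 := ndS (p := 1230) (l := 8) rfl N1230 D1842
theorem N1709 : nd 1709 = n1844 := ndS (p := 1232) (l := 8) rfl N1232 D1844
theorem N1710 : nd 1710 = n1845 := ndS (p := 1233) (l := 9) rfl N1233 D1845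
theorem N1711 : nd 1711 = n1849 := ndS (p := 1236) (l := 3) rfl N1236 D1849
theorem N1712 : nd 1712 = n1851 := ndS (p := 1237) (l := 1) rfl N1237 D1851
theorem N1713 : nd 1713 = n1852 := ndS (p := 1237) (l := 4) rfl N1237 D1852
theorem N1714 : nd 1714 = n1853 := ndS (p := 1237) (l := 9) rfl N1237 D1853
theorem N1715 : nd 1715 = n1854 := ndS (p := 1238) (l := 5) rfl N1238 D1854
theorem N1716 : nd 1716 = n1855 := ndS (p := 1238) (l := 9) rfl N1238 D1855
theorem N1717 : nd 1717 = n1856 := ndS (p := 1239) (l := 8) rfl N1239 D1856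
theorem N1718 : nd 1718 = n1857 := ndS (p := 1240) (l := 3) rfl N1240 D1857
theorem N1719 : nd 1719 = n1858 := ndS (p := 1241) (l := 2) rfl N1241 D1858
theorem N1720 : nd 1720 = n1859 := ndS (p := 1241) (l := 4) rfl N1241 D1859
theorem N1721 : nd 1721 = n1860 := ndS (p := 1242) (l := 4) rfl N1242 D1860
theorem N1722 : nd 1722 = n1862 := ndS (p := 1243) (l := 3) rfl N1243 D1862
theorem N1723 : nd 1723 = n1863 := ndS (p := 1243) (l := 9) rfl N1243 D1863
theorem N1724 : nd 1724 = n1865 := ndS (p := 1245) (l := 8) rfl N1245 D1865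
theorem N1725 : nd 1725 = n1866 := ndS (p := 1246) (l := 3) rfl N1246 D1866
theorem N1726 : nd 1726 = n1867 := ndS (p := 1247) (l := 2) rfl N1247 D1867
theorem N1727 : nd 1727 = n1868 := ndS (p := 1247) (l := 4) rfl N1247 D1868
theorem N1728 : nd 1728 = n1869 := ndS (p := 1248) (l := 1) rfl N1248 D1869
theorem N1729 : nd 1729 = n1870 := ndS (p := 1248) (l := 4) rfl N1248 D1870
theorem N1730 : nd 1730 = n1871 := ndS (p := 1249) (l := 5) rfl N1249 D1871
theorem N1731 : nd 1731 = n1872 := ndS (p := 1250) (l := 3) rfl N1250 D1872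
theorem N1732 : nd 1732 = n1875 := ndS (p := 1251) (l := 8) rfl N1251 D1875
theorem N1733 : nd 1733 = n1876 := ndS (p := 1251) (l := 9) rfl N1251 D1876
theorem N1734 : nd 1734 = n1879 := ndS (p := 1253) (l := 3) rfl N1253 D1879
theorem N1735 : nd 1735 = n1881 := ndS (p := 1254) (l := 4) rfl N1254 D1881
theorem N1736 : nd 1736 = n1883 := ndS (p := 1255) (l := 4) rfl N1255 D1883
theorem N1737 : nd 1737 = n1884 := ndS (p := 1256) (l := 5) rfl N1256 D1884
theorem N1738 : nd 1738 = n1886 := ndS (p := 1257) (l := 4) rfl N1257 D1886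
theorem N1739 : nd 1739 = n1887 := ndS (p := 1258) (l := 3) rfl N1258 D1887
theorem N1740 : nd 1740 = n1888 := ndS (p := 1258) (l := 5) rfl N1258 D1888
theorem N1741 : nd 1741 = n1889 := ndS (p := 1259) (l := 6) rfl N1259 D1889
theorem N1742 : nd 1742 = n1893 := ndS (p := 1260) (l := 4) rfl N1260 D1893
theorem N1743 : nd 1743 = n1895 := ndS (p := 1261) (l := 4) rfl N1261 D1895
theorem N1744 : nd 1744 = n1896 := ndS (p := 1262) (l := 5) rfl N1262 D1896
theorem N1745 : nd 1745 = n1898 := ndS (p := 1263) (l := 4) rfl N1263 D1898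
theorem N1746 : nd 1746 = n1899 := ndS (p := 1264) (l := 3) rfl N1264 D1899
theorem N1747 : nd 1747 = n1900 := ndS (p := 1264) (l := 5) rfl N1264 D1900
theorem N1748 : nd 1748 = n1901 := ndS (p := 1265) (l := 6) rfl N1265 D1901
theorem N1749 : nd 1749 = n1907 := ndS (p := 1266) (l := 5) rfl N1266 D1907
theorem N1750 : nd 1750 = n1910 := ndS (p := 1267) (l := 3) rfl N1267 D1910
theorem N1751 : nd 1751 = n1911 := ndS (p := 1267) (l := 5) rfl N1267 D1911
theorem N1752 : nd 1752 = n1912 := ndS (p := 1268) (l := 6) rfl N1268 D1912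
theorem N1753 : nd 1753 = n1914 := ndS (p := 1269) (l := 3) rfl N1269 D1914
theorem N1754 : nd 1754 = n1915 := ndS (p := 1269) (l := 5) rfl N1269 D1915
theorem N1755 : nd 1755 = n1916 := ndS (p := 1270) (l := 5) rfl N1270 D1916
theorem N1756 : nd 1756 = n1917 := ndS (p := 1270) (l := 8) rfl N1270 D1917
theorem N1757 : nd 1757 = n1918 := ndS (p := 1271) (l := 6) rfl N1271 D1918
theorem N1758 : nd 1758 = n1919 := ndS (p := 1272) (l := 7) rfl N1272 D1919
theorem N1759 : nd 1759 = n1929 := ndS (p := 1273) (l := 6) rfl N1273 D1929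
theorem N1760 : nd 1760 = n1933 := ndS (p := 1274) (l := 5) rfl N1274 D1933
theorem N1761 : nd 1761 = n1935 := ndS (p := 1275) (l := 6) rfl N1275 D1935
theorem N1762 : nd 1762 = n1936 := ndS (p := 1276) (l := 7) rfl N1276 D1936
theorem N1763 : nd 1763 = n1939 := ndS (p := 1277) (l := 2) rfl N1277 D1939
theorem N1764 : nd 1764 = n1940 := ndS (p := 1277) (l := 5) rfl N1277 D1940
theorem N1765 : nd 1765 = n1941 := ndS (p := 1277) (l := 8) rfl N1277 D1941
theorem N1766 : nd 1766 = n1942 := ndS (p := 1278) (l := 6) rfl N1278 D1942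
theorem N1767 : nd 1767 = n1943 := ndS (p := 1279) (l := 4) rfl N1279 D1943
theorem N1768 : nd 1768 = n1944 := ndS (p := 1279) (l := 6) rfl N1279 D1944
theorem N1769 : nd 1769 = n1945 := ndS (p := 1279) (l := 8) rfl N1279 D1945
theorem N1770 : nd 1770 = n1947 := ndS (p := 1281) (l := 7) rfl N1281 D1947
theorem N1771 : nd 1771 = n1948 := ndS (p := 1283) (l := 0) rfl N1283 D1948
theorem N1772 : nd 1772 = n1949 := ndS (p := 1283) (l := 4) rfl N1283 D1949
theorem N1773 : nd 1773 = n1950 := ndS (p := 1284) (l := 3) rfl N1284 D1950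
theorem N1774 : nd 1774 = n1951 := ndS (p := 1284) (l := 5) rfl N1284 D1951
theorem N1775 : nd 1775 = n1952 := ndS (p := 1285) (l := 6) rfl N1285 D1952
theorem N1776 : nd 1776 = n1953 := ndS (p := 1286) (l := 4) rfl N1286 D1953
theorem N1777 : nd 1777 = n1954 := ndS (p := 1287) (l := 3) rfl N1287 D1954
theorem N1778 : nd 1778 = n1955 := ndS (p := 1287) (l := 5) rfl N1287 D1955
theorem N1779 : nd 1779 = n1956 := ndS (p := 1288) (l := 5) rfl N1288 D1956
theorem N1780 : nd 1780 = n1957 := ndS (p := 1288) (l := 8) rfl N1288 D1957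
theorem N1781 : nd 1781 = n1958 := ndS (p := 1289) (l := 6) rfl N1289 D1958
theorem N1782 : nd 1782 = n1959 := ndS (p := 1290) (l := 7) rfl N1290 D1959
theorem N1783 : nd 1783 = n1960 := ndS (p := 1291) (l := 4) rfl N1291 D1960
theorem N1784 : nd 1784 = n1961 := ndS (p := 1292) (l := 3) rfl N1292 D1961
theorem N1785 : nd 1785 = n1962 := ndS (p := 1292) (l := 5) rfl N1292 D1962
theorem N1786 : nd 1786 = n1963 := ndS (p := 1293) (l := 5) rfl N1293 D1963
theorem N1787 : nd 1787 = n1964 := ndS (p := 1293) (l := 8) rfl N1293 D1964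
theorem N1788 : nd 1788 = n1965 := ndS (p := 1294) (l := 6) rfl N1294 D1965
theorem N1789 : nd 1789 = n1966 := ndS (p := 1295) (l := 7) rfl N1295 D1966
theorem N1790 : nd 1790 = n1967 := ndS (p := 1296) (l := 3) rfl N1296 D1967
theorem N1791 : nd 1791 = n1968 := ndS (p := 1296) (l := 5) rfl N1296 D1968
theorem N1792 : nd 1792 = n1970 := ndS (p := 1297) (l := 5) rfl N1297 D1970
theorem N1793 : nd 1793 = n1972 := ndS (p := 1298) (l := 6) rfl N1298 D1972
theorem N1794 : nd 1794 = n1973 := ndS (p := 1299) (l := 4) rfl N1299 D1973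
theorem N1795 : nd 1795 = n1974 := ndS (p := 1299) (l := 6) rfl N1299 D1974
theorem N1796 : nd 1796 = n1975 := ndS (p := 1299) (l := 8) rfl N1299 D1975
theorem N1797 : nd 1797 = n1977 := ndS (p := 1301) (l := 7) rfl N1301 D1977
theorem N1798 : nd 1798 = n1978 := ndS (p := 1303) (l := 3) rfl N1303 D1978
theorem N1799 : nd 1799 = n1979 := ndS (p := 1303) (l := 5) rfl N1303 D1979
theorem N1800 : nd 1800 = n1981 := ndS (p := 1304) (l := 5) rfl N1304 D1981
theorem N1801 : nd 1801 = n1983 := ndS (p := 1305) (l := 6) rfl N1305 D1983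
theorem N1802 : nd 1802 = n1984 := ndS (p := 1306) (l := 4) rfl N1306 D1984
theorem N1803 : nd 1803 = n1985 := ndS (p := 1306) (l := 6) rfl N1306 D1985
theorem N1804 : nd 1804 = n1986 := ndS (p := 1306) (l := 8) rfl N1306 D1986
theorem N1805 : nd 1805 = n1988 := ndS (p := 1308) (l := 7) rfl N1308 D1988
theorem N1806 : nd 1806 = n1990 := ndS (p := 1310) (l := 5) rfl N1310 D1990
theorem N1807 : nd 1807 = n1992 := ndS (p := 1311) (l := 6) rfl N1311 D1992
theorem N1808 : nd 1808 = n1995 := ndS (p := 1312) (l := 4) rfl N1312 D1995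
theorem N1809 : nd 1809 = n1996 := ndS (p := 1312) (l := 6) rfl N1312 D1996
theorem N1810 : nd 1810 = n1999 := ndS (p := 1313) (l := 7) rfl N1313 D1999
theorem N1811 : nd 1811 = n2000 := ndS (p := 1314) (l := 6) rfl N1314 D2000
theorem N1812 : nd 1812 = n2001 := ndS (p := 1314) (l := 8) rfl N1314 D2001
theorem N1813 : nd 1813 = n2002 := ndS (p := 1315) (l := 7) rfl N1315 D2002
theorem N1814 : nd 1814 = n2003 := ndS (p := 1315) (l := 8) rfl N1315 D2003
theorem N1815 : nd 1815 = n2005 := ndS (p := 1318) (l := 2) rfl N1318 D2005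
theorem N1816 : nd 1816 = n2006 := ndS (p := 1318) (l := 5) rfl N1318 D2006
theorem N1817 : nd 1817 = n2007 := ndS (p := 1318) (l := 8) rfl N1318 D2007
theorem N1818 : nd 1818 = n2008 := ndS (p := 1319) (l := 6) rfl N1319 D2008
theorem N1819 : nd 1819 = n2009 := ndS (p := 1320) (l := 5) rfl N1320 D2009
theorem N1820 : nd 1820 = n2010 := ndS (p := 1320) (l := 8) rfl N1320 D2010
theorem N1821 : nd 1821 = n2011 := ndS (p := 1321) (l := 4) rfl N1321 D2011
theorem N1822 : nd 1822 = n2012 := ndS (p := 1321) (l := 6) rfl N1321 D2012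
theorem N1823 : nd 1823 = n2013 := ndS (p := 1321) (l := 8) rfl N1321 D2013
theorem N1824 : nd 1824 = n2014 := ndS (p := 1323) (l := 7) rfl N1323 D2014
theorem N1825 : nd 1825 = n2015 := ndS (p := 1324) (l := 6) rfl N1324 D2015
theorem N1826 : nd 1826 = n2016 := ndS (p := 1324) (l := 8) rfl N1324 D2016
theorem N1827 : nd 1827 = n2017 := ndS (p := 1325) (l := 7) rfl N1325 D2017
theorem N1828 : nd 1828 = n2018 := ndS (p := 1325) (l := 8) rfl N1325 D2018
theorem N1829 : nd 1829 = n2019 := ndS (p := 1328) (l := 1) rfl N1328 D2019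
theorem N1830 : nd 1830 = n2020 := ndS (p := 1328) (l := 5) rfl N1328 D2020
theorem N1831 : nd 1831 = n2021 := ndS (p := 1329) (l := 4) rfl N1329 D2021
theorem N1832 : nd 1832 = n2022 := ndS (p := 1329) (l := 6) rfl N1329 D2022
theorem N1833 : nd 1833 = n2023 := ndS (p := 1330) (l := 7) rfl N1330 D2023
theorem N1834 : nd 1834 = n2024 := ndS (p := 1331) (l := 4) rfl N1331 D2024
theorem N1835 : nd 1835 = n2025 := ndS (p := 1331) (l := 6) rfl N1331 D2025
theorem N1836 : nd 1836 = n2026 := ndS (p := 1332) (l := 6) rfl N1332 D2026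
theorem N1837 : nd 1837 = n2027 := ndS (p := 1333) (l := 7) rfl N1333 D2027
theorem N1838 : nd 1838 = n2028 := ndS (p := 1335) (l := 5) rfl N1335 D2028
theorem N1839 : nd 1839 = n2029 := ndS (p := 1335) (l := 7) rfl N1335 D2029
theorem N1840 : nd 1840 = n2030 := ndS (p := 1337) (l := 3) rfl N1337 D2030
theorem N1841 : nd 1841 = n2031 := ndS (p := 1337) (l := 5) rfl N1337 D2031
theorem N1842 : nd 1842 = n2033 := ndS (p := 1338) (l := 5) rfl N1338 D2033
theorem N1843 : nd 1843 = n2035 := ndS (p := 1339) (l := 6) rfl N1339 D2035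
theorem N1844 : nd 1844 = n2036 := ndS (p := 1340) (l := 4) rfl N1340 D2036
theorem N1845 : nd 1845 = n2037 := ndS (p := 1340) (l := 6) rfl N1340 D2037
theorem N1846 : nd 1846 = n2038 := ndS (p := 1340) (l := 8) rfl N1340 D2038
theorem N1847 : nd 1847 = n2040 := ndS (p := 1342) (l := 7) rfl N1342 D2040
theorem N1848 : nd 1848 = n2042 := ndS (p := 1344) (l := 5) rfl N1344 D2042
theorem N1849 : nd 1849 = n2044 := ndS (p := 1345) (l := 6) rfl N1345 D2044
theorem N1850 : nd 1850 = n2047 := ndS (p := 1346) (l := 4) rfl N1346 D2047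
theorem N1851 : nd 1851 = n2048 := ndS (p := 1346) (l := 6) rfl N1346 D2048
theorem N1852 : nd 1852 = n2051 := ndS (p := 1347) (l := 7) rfl N1347 D2051
theorem N1853 : nd 1853 = n2052 := ndS (p := 1348) (l := 6) rfl N1348 D2052
theorem N1854 : nd 1854 = n2053 := ndS (p := 1348) (l := 8) rfl N1348 D2053
theorem N1855 : nd 1855 = n2054 := ndS (p := 1349) (l := 7) rfl N1349 D2054
theorem N1856 : nd 1856 = n2055 := ndS (p := 1349) (l := 8) rfl N1349 D2055
theorem N1857 : nd 1857 = n2060 := ndS (p := 1352) (l := 6) rfl N1352 D2060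
theorem N1858 : nd 1858 = n2063 := ndS (p := 1353) (l := 7) rfl N1353 D2063
theorem N1859 : nd 1859 = n2068 := ndS (p := 1354) (l := 7) rfl N1354 D2068
theorem N1860 : nd 1860 = n2071 := ndS (p := 1356) (l := 8) rfl N1356 D2071
theorem N1861 : nd 1861 = n2074 := ndS (p := 1359) (l := 5) rfl N1359 D2074
theorem N1862 : nd 1862 = n2076 := ndS (p := 1360) (l := 6) rfl N1360 D2076
theorem N1863 : nd 1863 = n2079 := ndS (p := 1361) (l := 4) rfl N1361 D2079
theorem N1864 : nd 1864 = n2080 := ndS (p := 1361) (l := 6) rfl N1361 D2080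
theorem N1865 : nd 1865 = n2083 := ndS (p := 1363) (l := 6) rfl N1363 D2083
theorem N1866 : nd 1866 = n2084 := ndS (p := 1363) (l := 8) rfl N1363 D2084
theorem N1867 : nd 1867 = n2085 := ndS (p := 1364) (l := 8) rfl N1364 D2085
theorem N1868 : nd 1868 = n2090 := ndS (p := 1366) (l := 4) rfl N1366 D2090
theorem N1869 : nd 1869 = n2099 := ndS (p := 1368) (l := 3) rfl N1368 D2099
theorem N1870 : nd 1870 = n2109 := ndS (p := 1369) (l := 4) rfl N1369 D2109
theorem N1871 : nd 1871 = n2110 := ndS (p := 1369) (l := 6) rfl N1369 D2110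
theorem N1872 : nd 1872 = n2118 := ndS (p := 1371) (l := 6) rfl N1371 D2118
theorem N1873 : nd 1873 = n2122 := ndS (p := 1373) (l := 5) rfl N1373 D2122
theorem N1874 : nd 1874 = n2123 := ndS (p := 1373) (l := 8) rfl N1373 D2123
theorem N1875 : nd 1875 = n2124 := ndS (p := 1374) (l := 3) rfl N1374 D2124
theorem N1876 : nd 1876 = n2143 := ndS (p := 1377) (l := 2) rfl N1377 D2143
theorem N1877 : nd 1877 = n2152 := ndS (p := 1378) (l := 6) rfl N1378 D2152
theorem N1878 : nd 1878 = n2153 := ndS (p := 1378) (l := 9) rfl N1378 D2153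
theorem N1879 : nd 1879 = n2154 := ndS (p := 1379) (l := 8) rfl N1379 D2154
theorem N1880 : nd 1880 = n2155 := ndS (p := 1380) (l := 9) rfl N1380 D2155
theorem N1881 : nd 1881 = n2156 := ndS (p := 1381) (l := 8) rfl N1381 D2156
theorem N1882 : nd 1882 = n2157 := ndS (p := 1382) (l := 3) rfl N1382 D2157
theorem N1883 : nd 1883 = n2158 := ndS (p := 1383) (l := 3) rfl N1383 D2158
theorem N1884 : nd 1884 = n2159 := ndS (p := 1384) (l := 2) rfl N1384 D2159
theorem N1885 : nd 1885 = n2160 := ndS (p := 1384) (l := 4) rfl N1384 D2160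
theorem N1886 : nd 1886 = n2161 := ndS (p := 1385) (l := 1) rfl N1385 D2161
theorem N1887 : nd 1887 = n2162 := ndS (p := 1385) (l := 4) rfl N1385 D2162
theorem N1888 : nd 1888 = n2163 := ndS (p := 1386) (l := 5) rfl N1386 D2163
theorem N1889 : nd 1889 = n2164 := ndS (p := 1387) (l := 9) rfl N1387 D2164
theorem N1890 : nd 1890 = n2165 := ndS (p := 1388) (l := 8) rfl N1388 D2165
theorem N1891 : nd 1891 = n2166 := ndS (p := 1389) (l := 8) rfl N1389 D2166
theorem N1892 : nd 1892 = n2167 := ndS (p := 1390) (l := 3) rfl N1390 D2167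
theorem N1893 : nd 1893 = n2168 := ndS (p := 1391) (l := 3) rfl N1391 D2168
theorem N1894 : nd 1894 = n2169 := ndS (p := 1392) (l := 2) rfl N1392 D2169
theorem N1895 : nd 1895 = n2170 := ndS (p := 1392) (l := 4) rfl N1392 D2170
theorem N1896 : nd 1896 = n2171 := ndS (p := 1393) (l := 3) rfl N1393 D2171
theorem N1897 : nd 1897 = n2172 := ndS (p := 1394) (l := 2) rfl N1394 D2172
theorem N1898 : nd 1898 = n2173 := ndS (p := 1394) (l := 4) rfl N1394 D2173
theorem N1899 : nd 1899 = n2174 := ndS (p := 1395) (l := 2) rfl N1395 D2174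
theorem N1900 : nd 1900 = n2175 := ndS (p := 1395) (l := 4) rfl N1395 D2175
theorem N1901 : nd 1901 = n2176 := ndS (p := 1396) (l := 1) rfl N1396 D2176
theorem N1902 : nd 1902 = n2177 := ndS (p := 1396) (l := 4) rfl N1396 D2177
theorem N1903 : nd 1903 = n2178 := ndS (p := 1397) (l := 5) rfl N1397 D2178
theorem N1904 : nd 1904 = n2179 := ndS (p := 1398) (l := 1) rfl N1398 D2179
theorem N1905 : nd 1905 = n2180 := ndS (p := 1398) (l := 4) rfl N1398 D2180
theorem N1906 : nd 1906 = n2181 := ndS (p := 1399) (l := 5) rfl N1399 D2181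
theorem N1907 : nd 1907 = n2182 := ndS (p := 1400) (l := 0) rfl N1400 D2182
theorem N1908 : nd 1908 = n2183 := ndS (p := 1400) (l := 4) rfl N1400 D2183
theorem N1909 : nd 1909 = n2184 := ndS (p := 1401) (l := 3) rfl N1401 D2184
theorem N1910 : nd 1910 = n2185 := ndS (p := 1401) (l := 5) rfl N1401 D2185
theorem N1911 : nd 1911 = n2186 := ndS (p := 1402) (l := 6) rfl N1402 D2186
theorem N1912 : nd 1912 = n2187 := ndS (p := 1403) (l := 3) rfl N1403 D2187
theorem N1913 : nd 1913 = n2188 := ndS (p := 1404) (l := 2) rfl N1404 D2188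
theorem N1914 : nd 1914 = n2189 := ndS (p := 1404) (l := 4) rfl N1404 D2189
theorem N1915 : nd 1915 = n2190 := ndS (p := 1405) (l := 1) rfl N1405 D2190
theorem N1916 : nd 1916 = n2191 := ndS (p := 1405) (l := 4) rfl N1405 D2191
theorem N1917 : nd 1917 = n2192 := ndS (p := 1406) (l := 5) rfl N1406 D2192
theorem N1918 : nd 1918 = n2193 := ndS (p := 1407) (l := 2) rfl N1407 D2193
theorem N1919 : nd 1919 = n2194 := ndS (p := 1407) (l := 4) rfl N1407 D2194
theorem N1920 : nd 1920 = n2195 := ndS (p := 1408) (l := 1) rfl N1408 D2195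
theorem N1921 : nd 1921 = n2196 := ndS (p := 1408) (l := 4) rfl N1408 D2196
theorem N1922 : nd 1922 = n2197 := ndS (p := 1409) (l := 5) rfl N1409 D2197
theorem N1923 : nd 1923 = n2198 := ndS (p := 1410) (l := 0) rfl N1410 D2198
theorem N1924 : nd 1924 = n2199 := ndS (p := 1410) (l := 4) rfl N1410 D2199
theorem N1925 : nd 1925 = n2200 := ndS (p := 1411) (l := 3) rfl N1411 D2200
theorem N1926 : nd 1926 = n2201 := ndS (p := 1411) (l := 5) rfl N1411 D2201
theorem N1927 : nd 1927 = n2202 := ndS (p := 1412) (l := 6) rfl N1412 D2202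
theorem N1928 : nd 1928 = n2203 := ndS (p := 1413) (l := 1) rfl N1413 D2203
theorem N1929 : nd 1929 = n2204 := ndS (p := 1413) (l := 4) rfl N1413 D2204
theorem N1930 : nd 1930 = n2205 := ndS (p := 1414) (l := 5) rfl N1414 D2205
theorem N1931 : nd 1931 = n2206 := ndS (p := 1415) (l := 0) rfl N1415 D2206
theorem N1932 : nd 1932 = n2207 := ndS (p := 1415) (l := 4) rfl N1415 D2207
theorem N1933 : nd 1933 = n2208 := ndS (p := 1416) (l := 3) rfl N1416 D2208
theorem N1934 : nd 1934 = n2209 := ndS (p := 1416) (l := 5) rfl N1416 D2209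
theorem N1935 : nd 1935 = n2210 := ndS (p := 1417) (l := 6) rfl N1417 D2210
theorem N1936 : nd 1936 = n2211 := ndS (p := 1418) (l := 4) rfl N1418 D2211
theorem N1937 : nd 1937 = n2212 := ndS (p := 1419) (l := 3) rfl N1419 D2212
theorem N1938 : nd 1938 = n2213 := ndS (p := 1419) (l := 5) rfl N1419 D2213
theorem N1939 : nd 1939 = n2214 := ndS (p := 1420) (l := 5) rfl N1420 D2214
theorem N1940 : nd 1940 = n2215 := ndS (p := 1420) (l := 8) rfl N1420 D2215
theorem N1941 : nd 1941 = n2216 := ndS (p := 1421) (l := 6) rfl N1421 D2216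
theorem N1942 : nd 1942 = n2217 := ndS (p := 1422) (l := 7) rfl N1422 D2217
theorem N1943 : nd 1943 = n2218 := ndS (p := 1423) (l := 1) rfl N1423 D2218
theorem N1944 : nd 1944 = n2219 := ndS (p := 1423) (l := 4) rfl N1423 D2219
theorem N1945 : nd 1945 = n2220 := ndS (p := 1424) (l := 5) rfl N1424 D2220
theorem N1946 : nd 1946 = n2221 := ndS (p := 1425) (l := 0) rfl N1425 D2221
theorem N1947 : nd 1947 = n2222 := ndS (p := 1425) (l := 4) rfl N1425 D2222
theorem N1948 : nd 1948 = n2223 := ndS (p := 1426) (l := 3) rfl N1426 D2223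
theorem N1949 : nd 1949 = n2224 := ndS (p := 1426) (l := 5) rfl N1426 D2224
theorem N1950 : nd 1950 = n2225 := ndS (p := 1427) (l := 6) rfl N1427 D2225
theorem N1951 : nd 1951 = n2226 := ndS (p := 1428) (l := 4) rfl N1428 D2226
theorem N1952 : nd 1952 = n2227 := ndS (p := 1429) (l := 3) rfl N1429 D2227
theorem N1953 : nd 1953 = n2228 := ndS (p := 1429) (l := 5) rfl N1429 D2228
theorem N1954 : nd 1954 = n2229 := ndS (p := 1430) (l := 5) rfl N1430 D2229
theorem N1955 : nd 1955 = n2230 := ndS (p := 1430) (l := 8) rfl N1430 D2230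
theorem N1956 : nd 1956 = n2231 := ndS (p := 1431) (l := 6) rfl N1431 D2231
theorem N1957 : nd 1957 = n2232 := ndS (p := 1432) (l := 7) rfl N1432 D2232
theorem N1958 : nd 1958 = n2233 := ndS (p := 1433) (l := 3) rfl N1433 D2233
theorem N1959 : nd 1959 = n2234 := ndS (p := 1433) (l := 5) rfl N1433 D2234
theorem N1960 : nd 1960 = n2235 := ndS (p := 1434) (l := 2) rfl N1434 D2235
theorem N1961 : nd 1961 = n2236 := ndS (p := 1434) (l := 5) rfl N1434 D2236
theorem N1962 : nd 1962 = n2237 := ndS (p := 1434) (l := 8) rfl N1434 D2237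
theorem N1963 : nd 1963 = n2238 := ndS (p := 1435) (l := 6) rfl N1435 D2238
theorem N1964 : nd 1964 = n2239 := ndS (p := 1436) (l := 4) rfl N1436 D2239
theorem N1965 : nd 1965 = n2240 := ndS (p := 1436) (l := 6) rfl N1436 D2240
theorem N1966 : nd 1966 = n2241 := ndS (p := 1436) (l := 8) rfl N1436 D2241
theorem N1967 : nd 1967 = n2242 := ndS (p := 1437) (l := 9) rfl N1437 D2242
theorem N1968 : nd 1968 = n2243 := ndS (p := 1438) (l := 7) rfl N1438 D2243
theorem N1969 : nd 1969 = n2244 := ndS (p := 1440) (l := 4) rfl N1440 D2244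
theorem N1970 : nd 1970 = n2245 := ndS (p := 1440) (l := 9) rfl N1440 D2245
theorem N1971 : nd 1971 = n2246 := ndS (p := 1441) (l := 8) rfl N1441 D2246
theorem N1972 : nd 1972 = n2247 := ndS (p := 1442) (l := 3) rfl N1442 D2247
theorem N1973 : nd 1973 = n2248 := ndS (p := 1443) (l := 9) rfl N1443 D2248
theorem N1974 : nd 1974 = n2249 := ndS (p := 1444) (l := 8) rfl N1444 D2249
theorem N1975 : nd 1975 = n2250 := ndS (p := 1445) (l := 3) rfl N1445 D2250
theorem N1976 : nd 1976 = n2251 := ndS (p := 1446) (l := 2) rfl N1446 D2251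
theorem N1977 : nd 1977 = n2252 := ndS (p := 1446) (l := 4) rfl N1446 D2252
theorem N1978 : nd 1978 = n2253 := ndS (p := 1447) (l := 8) rfl N1447 D2253
theorem N1979 : nd 1979 = n2254 := ndS (p := 1448) (l := 3) rfl N1448 D2254
theorem N1980 : nd 1980 = n2255 := ndS (p := 1449) (l := 2) rfl N1449 D2255
theorem N1981 : nd 1981 = n2256 := ndS (p := 1449) (l := 4) rfl N1449 D2256
theorem N1982 : nd 1982 = n2257 := ndS (p := 1450) (l := 1) rfl N1450 D2257
theorem N1983 : nd 1983 = n2258 := ndS (p := 1450) (l := 4) rfl N1450 D2258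
theorem N1984 : nd 1984 = n2259 := ndS (p := 1451) (l := 5) rfl N1451 D2259
theorem N1985 : nd 1985 = n2260 := ndS (p := 1452) (l := 3) rfl N1452 D2260
theorem N1986 : nd 1986 = n2261 := ndS (p := 1453) (l := 2) rfl N1453 D2261
theorem N1987 : nd 1987 = n2262 := ndS (p := 1453) (l := 4) rfl N1453 D2262
theorem N1988 : nd 1988 = n2263 := ndS (p := 1454) (l := 1) rfl N1454 D2263
theorem N1989 : nd 1989 = n2264 := ndS (p := 1454) (l := 4) rfl N1454 D2264
theorem N1990 : nd 1990 = n2265 := ndS (p := 1455) (l := 5) rfl N1455 D2265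
theorem N1991 : nd 1991 = n2266 := ndS (p := 1456) (l := 2) rfl N1456 D2266
theorem N1992 : nd 1992 = n2267 := ndS (p := 1456) (l := 4) rfl N1456 D2267
theorem N1993 : nd 1993 = n2268 := ndS (p := 1457) (l := 1) rfl N1457 D2268
theorem N1994 : nd 1994 = n2269 := ndS (p := 1457) (l := 4) rfl N1457 D2269
theorem N1995 : nd 1995 = n2270 := ndS (p := 1458) (l := 5) rfl N1458 D2270
theorem N1996 : nd 1996 = n2271 := ndS (p := 1459) (l := 0) rfl N1459 D2271
theorem N1997 : nd 1997 = n2272 := ndS (p := 1459) (l := 4) rfl N1459 D2272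
theorem N1998 : nd 1998 = n2273 := ndS (p := 1460) (l := 3) rfl N1460 D2273
theorem N1999 : nd 1999 = n2274 := ndS (p := 1460) (l := 5) rfl N1460 D2274
theorem N2000 : nd 2000 = n2275 := ndS (p := 1461) (l := 6) rfl N1461 D2275
theorem N2001 : nd 2001 = n2277 := ndS (p := 1462) (l := 4) rfl N1462 D2277
theorem N2002 : nd 2002 = n2278 := ndS (p := 1463) (l := 5) rfl N1463 D2278
theorem N2003 : nd 2003 = n2280 := ndS (p := 1464) (l := 4) rfl N1464 D2280
theorem N2004 : nd 2004 = n2281 := ndS (p := 1465) (l := 3) rfl N1465 D2281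
theorem N2005 : nd 2005 = n2282 := ndS (p := 1465) (l := 5) rfl N1465 D2282
theorem N2006 : nd 2006 = n2283 := ndS (p := 1466) (l := 6) rfl N1466 D2283
theorem N2007 : nd 2007 = n2284 := ndS (p := 1467) (l := 4) rfl N1467 D2284
theorem N2008 : nd 2008 = n2285 := ndS (p := 1468) (l := 3) rfl N1468 D2285
theorem N2009 : nd 2009 = n2286 := ndS (p := 1468) (l := 5) rfl N1468 D2286
theorem N2010 : nd 2010 = n2287 := ndS (p := 1469) (l := 5) rfl N1469 D2287
theorem N2011 : nd 2011 = n2288 := ndS (p := 1469) (l := 8) rfl N1469 D2288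
theorem N2012 : nd 2012 = n2289 := ndS (p := 1470) (l := 6) rfl N1470 D2289
theorem N2013 : nd 2013 = n2290 := ndS (p := 1471) (l := 7) rfl N1471 D2290
theorem N2014 : nd 2014 = n2291 := ndS (p := 1472) (l := 1) rfl N1472 D2291
theorem N2015 : nd 2015 = n2292 := ndS (p := 1472) (l := 4) rfl N1472 D2292
theorem N2016 : nd 2016 = n2293 := ndS (p := 1473) (l := 5) rfl N1473 D2293
theorem N2017 : nd 2017 = n2294 := ndS (p := 1474) (l := 0) rfl N1474 D2294
theorem N2018 : nd 2018 = n2295 := ndS (p := 1474) (l := 4) rfl N1474 D2295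
theorem N2019 : nd 2019 = n2296 := ndS (p := 1475) (l := 3) rfl N1475 D2296
theorem N2020 : nd 2020 = n2297 := ndS (p := 1475) (l := 5) rfl N1475 D2297
theorem N2021 : nd 2021 = n2298 := ndS (p := 1476) (l := 6) rfl N1476 D2298
theorem N2022 : nd 2022 = n2299 := ndS (p := 1477) (l := 0) rfl N1477 D2299
theorem N2023 : nd 2023 = n2300 := ndS (p := 1477) (l := 4) rfl N1477 D2300
theorem N2024 : nd 2024 = n2301 := ndS (p := 1478) (l := 3) rfl N1478 D2301
theorem N2025 : nd 2025 = n2302 := ndS (p := 1478) (l := 5) rfl N1478 D2302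
theorem N2026 : nd 2026 = n2303 := ndS (p := 1479) (l := 6) rfl N1479 D2303
theorem N2027 : nd 2027 = n2304 := ndS (p := 1480) (l := 4) rfl N1480 D2304
theorem N2028 : nd 2028 = n2305 := ndS (p := 1481) (l := 3) rfl N1481 D2305
theorem N2029 : nd 2029 = n2306 := ndS (p := 1481) (l := 5) rfl N1481 D2306
theorem N2030 : nd 2030 = n2307 := ndS (p := 1482) (l := 5) rfl N1482 D2307
theorem N2031 : nd 2031 = n2308 := ndS (p := 1482) (l := 8) rfl N1482 D2308
theorem N2032 : nd 2032 = n2309 := ndS (p := 1483) (l := 6) rfl N1483 D2309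
theorem N2033 : nd 2033 = n2310 := ndS (p := 1484) (l := 7) rfl N1484 D2310
theorem N2034 : nd 2034 = n2311 := ndS (p := 1485) (l := 4) rfl N1485 D2311
theorem N2035 : nd 2035 = n2312 := ndS (p := 1486) (l := 3) rfl N1486 D2312
theorem N2036 : nd 2036 = n2313 := ndS (p := 1486) (l := 5) rfl N1486 D2313
theorem N2037 : nd 2037 = n2314 := ndS (p := 1487) (l := 5) rfl N1487 D2314
theorem N2038 : nd 2038 = n2315 := ndS (p := 1487) (l := 8) rfl N1487 D2315
theorem N2039 : nd 2039 = n2316 := ndS (p := 1488) (l := 6) rfl N1488 D2316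
theorem N2040 : nd 2040 = n2317 := ndS (p := 1489) (l := 7) rfl N1489 D2317
theorem N2041 : nd 2041 = n2318 := ndS (p := 1490) (l := 3) rfl N1490 D2318
theorem N2042 : nd 2042 = n2319 := ndS (p := 1490) (l := 5) rfl N1490 D2319
theorem N2043 : nd 2043 = n2320 := ndS (p := 1491) (l := 2) rfl N1491 D2320
theorem N2044 : nd 2044 = n2321 := ndS (p := 1491) (l := 5) rfl N1491 D2321
theorem N2045 : nd 2045 = n2322 := ndS (p := 1491) (l := 8) rfl N1491 D2322
theorem N2046 : nd 2046 = n2323 := ndS (p := 1492) (l := 6) rfl N1492 D2323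
theorem N2047 : nd 2047 = n2324 := ndS (p := 1493) (l := 4) rfl N1493 D2324
theorem N2048 : nd 2048 = n2325 := ndS (p := 1493) (l := 6) rfl N1493 D2325
theorem N2049 : nd 2049 = n2326 := ndS (p := 1493) (l := 8) rfl N1493 D2326
theorem N2050 : nd 2050 = n2327 := ndS (p := 1494) (l := 9) rfl N1494 D2327
theorem N2051 : nd 2051 = n2328 := ndS (p := 1495) (l := 7) rfl N1495 D2328
theorem N2052 : nd 2052 = n2329 := ndS (p := 1497) (l := 3) rfl N1497 D2329
theorem N2053 : nd 2053 = n2330 := ndS (p := 1497) (l := 5) rfl N1497 D2330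
theorem N2054 : nd 2054 = n2331 := ndS (p := 1498) (l := 2) rfl N1498 D2331
theorem N2055 : nd 2055 = n2332 := ndS (p := 1498) (l := 5) rfl N1498 D2332
theorem N2056 : nd 2056 = n2333 := ndS (p := 1498) (l := 8) rfl N1498 D2333
theorem N2057 : nd 2057 = n2334 := ndS (p := 1499) (l := 6) rfl N1499 D2334
theorem N2058 : nd 2058 = n2335 := ndS (p := 1500) (l := 4) rfl N1500 D2335
theorem N2059 : nd 2059 = n2336 := ndS (p := 1500) (l := 6) rfl N1500 D2336
theorem N2060 : nd 2060 = n2337 := ndS (p := 1500) (l := 8) rfl N1500 D2337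
theorem N2061 : nd 2061 = n2338 := ndS (p := 1501) (l := 9) rfl N1501 D2338
theorem N2062 : nd 2062 = n2339 := ndS (p := 1502) (l := 7) rfl N1502 D2339
theorem N2063 : nd 2063 = n2340 := ndS (p := 1504) (l := 2) rfl N1504 D2340
theorem N2064 : nd 2064 = n2341 := ndS (p := 1504) (l := 5) rfl N1504 D2341
theorem N2065 : nd 2065 = n2342 := ndS (p := 1504) (l := 8) rfl N1504 D2342
theorem N2066 : nd 2066 = n2343 := ndS (p := 1505) (l := 6) rfl N1505 D2343
theorem N2067 : nd 2067 = n2344 := ndS (p := 1506) (l := 5) rfl N1506 D2344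
theorem N2068 : nd 2068 = n2345 := ndS (p := 1506) (l := 8) rfl N1506 D2345
theorem N2069 : nd 2069 = n2346 := ndS (p := 1507) (l := 4) rfl N1507 D2346
theorem N2070 : nd 2070 = n2347 := ndS (p := 1507) (l := 6) rfl N1507 D2347
theorem N2071 : nd 2071 = n2348 := ndS (p := 1507) (l := 8) rfl N1507 D2348
theorem N2072 : nd 2072 = n2349 := ndS (p := 1508) (l := 9) rfl N1508 D2349
theorem N2073 : nd 2073 = n2350 := ndS (p := 1509) (l := 7) rfl N1509 D2350
theorem N2074 : nd 2074 = n2351 := ndS (p := 1510) (l := 6) rfl N1510 D2351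
theorem N2075 : nd 2075 = n2352 := ndS (p := 1510) (l := 8) rfl N1510 D2352
theorem N2076 : nd 2076 = n2353 := ndS (p := 1511) (l := 7) rfl N1511 D2353
theorem N2077 : nd 2077 = n2354 := ndS (p := 1511) (l := 8) rfl N1511 D2354
theorem N2078 : nd 2078 = n2355 := ndS (p := 1512) (l := 9) rfl N1512 D2355
theorem N2079 : nd 2079 = n2356 := ndS (p := 1515) (l := 4) rfl N1515 D2356
theorem N2080 : nd 2080 = n2357 := ndS (p := 1516) (l := 3) rfl N1516 D2357
theorem N2081 : nd 2081 = n2358 := ndS (p := 1516) (l := 5) rfl N1516 D2358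
theorem N2082 : nd 2082 = n2359 := ndS (p := 1517) (l := 5) rfl N1517 D2359
theorem N2083 : nd 2083 = n2360 := ndS (p := 1517) (l := 8) rfl N1517 D2360
theorem N2084 : nd 2084 = n2361 := ndS (p := 1518) (l := 6) rfl N1518 D2361
theorem N2085 : nd 2085 = n2362 := ndS (p := 1519) (l := 7) rfl N1519 D2362
theorem N2086 : nd 2086 = n2363 := ndS (p := 1520) (l := 3) rfl N1520 D2363
theorem N2087 : nd 2087 = n2364 := ndS (p := 1520) (l := 5) rfl N1520 D2364
theorem N2088 : nd 2088 = n2365 := ndS (p := 1521) (l := 2) rfl N1521 D2365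
theorem N2089 : nd 2089 = n2366 := ndS (p := 1521) (l := 5) rfl N1521 D2366
theorem N2090 : nd 2090 = n2367 := ndS (p := 1521) (l := 8) rfl N1521 D2367
theorem N2091 : nd 2091 = n2368 := ndS (p := 1522) (l := 6) rfl N1522 D2368
theorem N2092 : nd 2092 = n2369 := ndS (p := 1523) (l := 4) rfl N1523 D2369
theorem N2093 : nd 2093 = n2370 := ndS (p := 1523) (l := 6) rfl N1523 D2370
theorem N2094 : nd 2094 = n2371 := ndS (p := 1523) (l := 8) rfl N1523 D2371
theorem N2095 : nd 2095 = n2372 := ndS (p := 1524) (l := 9) rfl N1524 D2372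
theorem N2096 : nd 2096 = n2373 := ndS (p := 1525) (l := 7) rfl N1525 D2373
theorem N2097 : nd 2097 = n2374 := ndS (p := 1527) (l := 2) rfl N1527 D2374
theorem N2098 : nd 2098 = n2375 := ndS (p := 1527) (l := 5) rfl N1527 D2375
theorem N2099 : nd 2099 = n2376 := ndS (p := 1527) (l := 8) rfl N1527 D2376
theorem N2100 : nd 2100 = n2377 := ndS (p := 1528) (l := 6) rfl N1528 D2377
theorem N2101 : nd 2101 = n2378 := ndS (p := 1529) (l := 5) rfl N1529 D2378
theorem N2102 : nd 2102 = n2379 := ndS (p := 1529) (l := 8) rfl N1529 D2379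
theorem N2103 : nd 2103 = n2380 := ndS (p := 1530) (l := 4) rfl N1530 D2380
theorem N2104 : nd 2104 = n2381 := ndS (p := 1530) (l := 6) rfl N1530 D2381
theorem N2105 : nd 2105 = n2382 := ndS (p := 1530) (l := 8) rfl N1530 D2382
theorem N2106 : nd 2106 = n2383 := ndS (p := 1531) (l := 9) rfl N1531 D2383
theorem N2107 : nd 2107 = n2384 := ndS (p := 1532) (l := 7) rfl N1532 D2384
theorem N2108 : nd 2108 = n2385 := ndS (p := 1533) (l := 6) rfl N1533 D2385
theorem N2109 : nd 2109 = n2386 := ndS (p := 1533) (l := 8) rfl N1533 D2386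
theorem N2110 : nd 2110 = n2387 := ndS (p := 1534) (l := 7) rfl N1534 D2387
theorem N2111 : nd 2111 = n2388 := ndS (p := 1534) (l := 8) rfl N1534 D2388
theorem N2112 : nd 2112 = n2389 := ndS (p := 1535) (l := 9) rfl N1535 D2389
theorem N2113 : nd 2113 = n2390 := ndS (p := 1538) (l := 4) rfl N1538 D2390
theorem N2114 : nd 2114 = n2391 := ndS (p := 1538) (l := 6) rfl N1538 D2391
theorem N2115 : nd 2115 = n2392 := ndS (p := 1538) (l := 8) rfl N1538 D2392
theorem N2116 : nd 2116 = n2393 := ndS (p := 1539) (l := 9) rfl N1539 D2393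
theorem N2117 : nd 2117 = n2394 := ndS (p := 1540) (l := 7) rfl N1540 D2394
theorem N2118 : nd 2118 = n2395 := ndS (p := 1541) (l := 6) rfl N1541 D2395
theorem N2119 : nd 2119 = n2396 := ndS (p := 1541) (l := 8) rfl N1541 D2396
theorem N2120 : nd 2120 = n2397 := ndS (p := 1542) (l := 7) rfl N1542 D2397
theorem N2121 : nd 2121 = n2398 := ndS (p := 1542) (l := 8) rfl N1542 D2398
theorem N2122 : nd 2122 = n2399 := ndS (p := 1543) (l := 9) rfl N1543 D2399
theorem N2123 : nd 2123 = n2400 := ndS (p := 1546) (l := 5) rfl N1546 D2400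
theorem N2124 : nd 2124 = n2401 := ndS (p := 1546) (l := 7) rfl N1546 D2401
theorem N2125 : nd 2125 = n2402 := ndS (p := 1546) (l := 8) rfl N1546 D2402
theorem N2126 : nd 2126 = n2403 := ndS (p := 1547) (l := 3) rfl N1547 D2403
theorem N2127 : nd 2127 = n2404 := ndS (p := 1547) (l := 9) rfl N1547 D2404
theorem N2128 : nd 2128 = n2405 := ndS (p := 1548) (l := 8) rfl N1548 D2405
theorem N2129 : nd 2129 = n2406 := ndS (p := 1549) (l := 9) rfl N1549 D2406
theorem N2130 : nd 2130 = n2407 := ndS (p := 1551) (l := 7) rfl N1551 D2407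
theorem N2131 : nd 2131 = n2408 := ndS (p := 1551) (l := 8) rfl N1551 D2408
theorem N2132 : nd 2132 = n2409 := ndS (p := 1552) (l := 8) rfl N1552 D2409
theorem N2133 : nd 2133 = n2410 := ndS (p := 1553) (l := 3) rfl N1553 D2410
theorem N2134 : nd 2134 = n2411 := ndS (p := 1553) (l := 9) rfl N1553 D2411
theorem N2135 : nd 2135 = n2412 := ndS (p := 1554) (l := 2) rfl N1554 D2412
theorem N2136 : nd 2136 = n2413 := ndS (p := 1554) (l := 9) rfl N1554 D2413
theorem N2137 : nd 2137 = n2414 := ndS (p := 1556) (l := 9) rfl N1556 D2414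
theorem N2138 : nd 2138 = n2415 := ndS (p := 1558) (l := 4) rfl N1558 D2415
theorem N2139 : nd 2139 = n2416 := ndS (p := 1558) (l := 9) rfl N1558 D2416
theorem N2140 : nd 2140 = n2417 := ndS (p := 1559) (l := 5) rfl N1559 D2417
theorem N2141 : nd 2141 = n2418 := ndS (p := 1559) (l := 9) rfl N1559 D2418
theorem N2142 : nd 2142 = n2419 := ndS (p := 1560) (l := 8) rfl N1560 D2419
theorem N2143 : nd 2143 = n2420 := ndS (p := 1561) (l := 3) rfl N1561 D2420
theorem N2144 : nd 2144 = n2421 := ndS (p := 1562) (l := 2) rfl N1562 D2421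
theorem N2145 : nd 2145 = n2422 := ndS (p := 1562) (l := 4) rfl N1562 D2422
theorem N2146 : nd 2146 = n2423 := ndS (p := 1563) (l := 3) rfl N1563 D2423
theorem N2147 : nd 2147 = n2424 := ndS (p := 1563) (l := 9) rfl N1563 D2424
theorem N2148 : nd 2148 = n2426 := ndS (p := 1565) (l := 8) rfl N1565 D2426
theorem N2149 : nd 2149 = n2427 := ndS (p := 1566) (l := 3) rfl N1566 D2427
theorem N2150 : nd 2150 = n2428 := ndS (p := 1567) (l := 2) rfl N1567 D2428
theorem N2151 : nd 2151 = n2429 := ndS (p := 1567) (l := 4) rfl N1567 D2429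
theorem N2152 : nd 2152 = n2430 := ndS (p := 1568) (l := 1) rfl N1568 D2430
theorem N2153 : nd 2153 = n2431 := ndS (p := 1568) (l := 4) rfl N1568 D2431
theorem N2154 : nd 2154 = n2432 := ndS (p := 1569) (l := 5) rfl N1569 D2432
theorem N2155 : nd 2155 = n2433 := ndS (p := 1570) (l := 8) rfl N1570 D2433
theorem N2156 : nd 2156 = n2434 := ndS (p := 1570) (l := 9) rfl N1570 D2434
theorem N2157 : nd 2157 = n2437 := ndS (p := 1572) (l := 3) rfl N1572 D2437
theorem N2158 : nd 2158 = n2439 := ndS (p := 1573) (l := 4) rfl N1573 D2439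
theorem N2159 : nd 2159 = n2440 := ndS (p := 1574) (l := 1) rfl N1574 D2440
theorem N2160 : nd 2160 = n2441 := ndS (p := 1574) (l := 4) rfl N1574 D2441
theorem N2161 : nd 2161 = n2442 := ndS (p := 1575) (l := 5) rfl N1575 D2442
theorem N2162 : nd 2162 = n2443 := ndS (p := 1576) (l := 0) rfl N1576 D2443
theorem N2163 : nd 2163 = n2444 := ndS (p := 1576) (l := 4) rfl N1576 D2444
theorem N2164 : nd 2164 = n2445 := ndS (p := 1577) (l := 3) rfl N1577 D2445
theorem N2165 : nd 2165 = n2446 := ndS (p := 1577) (l := 5) rfl N1577 D2446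
theorem N2166 : nd 2166 = n2447 := ndS (p := 1578) (l := 6) rfl N1578 D2447
theorem N2167 : nd 2167 = n2450 := ndS (p := 1579) (l := 4) rfl N1579 D2450
theorem N2168 : nd 2168 = n2451 := ndS (p := 1580) (l := 1) rfl N1580 D2451
theorem N2169 : nd 2169 = n2452 := ndS (p := 1580) (l := 4) rfl N1580 D2452
theorem N2170 : nd 2170 = n2453 := ndS (p := 1581) (l := 5) rfl N1581 D2453
theorem N2171 : nd 2171 = n2454 := ndS (p := 1582) (l := 0) rfl N1582 D2454
theorem N2172 : nd 2172 = n2455 := ndS (p := 1582) (l := 4) rfl N1582 D2455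
theorem N2173 : nd 2173 = n2456 := ndS (p := 1583) (l := 3) rfl N1583 D2456
theorem N2174 : nd 2174 = n2457 := ndS (p := 1583) (l := 5) rfl N1583 D2457
theorem N2175 : nd 2175 = n2458 := ndS (p := 1584) (l := 6) rfl N1584 D2458
theorem N2176 : nd 2176 = n2463 := ndS (p := 1585) (l := 5) rfl N1585 D2463
theorem N2177 : nd 2177 = n2465 := ndS (p := 1586) (l := 4) rfl N1586 D2465
theorem N2178 : nd 2178 = n2466 := ndS (p := 1587) (l := 3) rfl N1587 D2466
theorem N2179 : nd 2179 = n2467 := ndS (p := 1587) (l := 5) rfl N1587 D2467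
theorem N2180 : nd 2180 = n2468 := ndS (p := 1588) (l := 6) rfl N1588 D2468
theorem N2181 : nd 2181 = n2469 := ndS (p := 1589) (l := 4) rfl N1589 D2469
theorem N2182 : nd 2182 = n2470 := ndS (p := 1590) (l := 3) rfl N1590 D2470
theorem N2183 : nd 2183 = n2471 := ndS (p := 1590) (l := 5) rfl N1590 D2471
theorem N2184 : nd 2184 = n2472 := ndS (p := 1591) (l := 5) rfl N1591 D2472
theorem N2185 : nd 2185 = n2473 := ndS (p := 1591) (l := 8) rfl N1591 D2473
theorem N2186 : nd 2186 = n2474 := ndS (p := 1592) (l := 6) rfl N1592 D2474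
theorem N2187 : nd 2187 = n2475 := ndS (p := 1593) (l := 7) rfl N1593 D2475
theorem N2188 : nd 2188 = n2483 := ndS (p := 1594) (l := 6) rfl N1594 D2483
theorem N2189 : nd 2189 = n2485 := ndS (p := 1595) (l := 3) rfl N1595 D2485
theorem N2190 : nd 2190 = n2486 := ndS (p := 1595) (l := 5) rfl N1595 D2486
theorem N2191 : nd 2191 = n2487 := ndS (p := 1596) (l := 5) rfl N1596 D2487
theorem N2192 : nd 2192 = n2489 := ndS (p := 1597) (l := 6) rfl N1597 D2489
theorem N2193 : nd 2193 = n2490 := ndS (p := 1598) (l := 7) rfl N1598 D2490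
theorem N2194 : nd 2194 = n2491 := ndS (p := 1599) (l := 3) rfl N1599 D2491
theorem N2195 : nd 2195 = n2492 := ndS (p := 1599) (l := 5) rfl N1599 D2492
theorem N2196 : nd 2196 = n2493 := ndS (p := 1600) (l := 2) rfl N1600 D2493
theorem N2197 : nd 2197 = n2494 := ndS (p := 1600) (l := 5) rfl N1600 D2494
theorem N2198 : nd 2198 = n2495 := ndS (p := 1600) (l := 8) rfl N1600 D2495
theorem N2199 : nd 2199 = n2496 := ndS (p := 1601) (l := 6) rfl N1601 D2496
theorem N2200 : nd 2200 = n2497 := ndS (p := 1602) (l := 4) rfl N1602 D2497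
theorem N2201 : nd 2201 = n2498 := ndS (p := 1602) (l := 6) rfl N1602 D2498
theorem N2202 : nd 2202 = n2499 := ndS (p := 1602) (l := 8) rfl N1602 D2499
theorem N2203 : nd 2203 = n2500 := ndS (p := 1603) (l := 9) rfl N1603 D2500
theorem N2204 : nd 2204 = n2501 := ndS (p := 1604) (l := 7) rfl N1604 D2501
theorem N2205 : nd 2205 = n2502 := ndS (p := 1606) (l := 0) rfl N1606 D2502
theorem N2206 : nd 2206 = n2503 := ndS (p := 1606) (l := 4) rfl N1606 D2503
theorem N2207 : nd 2207 = n2504 := ndS (p := 1607) (l := 3) rfl N1607 D2504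
theorem N2208 : nd 2208 = n2505 := ndS (p := 1607) (l := 5) rfl N1607 D2505
theorem N2209 : nd 2209 = n2506 := ndS (p := 1608) (l := 6) rfl N1608 D2506
theorem N2210 : nd 2210 = n2507 := ndS (p := 1609) (l := 4) rfl N1609 D2507
theorem N2211 : nd 2211 = n2508 := ndS (p := 1610) (l := 3) rfl N1610 D2508
theorem N2212 : nd 2212 = n2509 := ndS (p := 1610) (l := 5) rfl N1610 D2509
theorem N2213 : nd 2213 = n2510 := ndS (p := 1611) (l := 5) rfl N1611 D2510
theorem N2214 : nd 2214 = n2511 := ndS (p := 1611) (l := 8) rfl N1611 D2511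
theorem N2215 : nd 2215 = n2512 := ndS (p := 1612) (l := 6) rfl N1612 D2512
theorem N2216 : nd 2216 = n2513 := ndS (p := 1613) (l := 7) rfl N1613 D2513
theorem N2217 : nd 2217 = n2514 := ndS (p := 1614) (l := 4) rfl N1614 D2514
theorem N2218 : nd 2218 = n2515 := ndS (p := 1615) (l := 3) rfl N1615 D2515
theorem N2219 : nd 2219 = n2516 := ndS (p := 1615) (l := 5) rfl N1615 D2516
theorem N2220 : nd 2220 = n2517 := ndS (p := 1616) (l := 5) rfl N1616 D2517
theorem N2221 : nd 2221 = n2518 := ndS (p := 1616) (l := 8) rfl N1616 D2518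
theorem N2222 : nd 2222 = n2519 := ndS (p := 1617) (l := 6) rfl N1617 D2519
theorem N2223 : nd 2223 = n2520 := ndS (p := 1618) (l := 7) rfl N1618 D2520
theorem N2224 : nd 2224 = n2521 := ndS (p := 1619) (l := 3) rfl N1619 D2521
theorem N2225 : nd 2225 = n2522 := ndS (p := 1619) (l := 5) rfl N1619 D2522
theorem N2226 : nd 2226 = n2523 := ndS (p := 1620) (l := 2) rfl N1620 D2523
theorem N2227 : nd 2227 = n2524 := ndS (p := 1620) (l := 5) rfl N1620 D2524
theorem N2228 : nd 2228 = n2525 := ndS (p := 1620) (l := 8) rfl N1620 D2525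
theorem N2229 : nd 2229 = n2526 := ndS (p := 1621) (l := 6) rfl N1621 D2526
theorem N2230 : nd 2230 = n2527 := ndS (p := 1622) (l := 4) rfl N1622 D2527
theorem N2231 : nd 2231 = n2528 := ndS (p := 1622) (l := 6) rfl N1622 D2528
theorem N2232 : nd 2232 = n2529 := ndS (p := 1622) (l := 8) rfl N1622 D2529
theorem N2233 : nd 2233 = n2530 := ndS (p := 1623) (l := 9) rfl N1623 D2530
theorem N2234 : nd 2234 = n2531 := ndS (p := 1624) (l := 7) rfl N1624 D2531
theorem N2235 : nd 2235 = n2532 := ndS (p := 1626) (l := 3) rfl N1626 D2532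
theorem N2236 : nd 2236 = n2533 := ndS (p := 1626) (l := 5) rfl N1626 D2533
theorem N2237 : nd 2237 = n2534 := ndS (p := 1627) (l := 2) rfl N1627 D2534
theorem N2238 : nd 2238 = n2535 := ndS (p := 1627) (l := 5) rfl N1627 D2535
theorem N2239 : nd 2239 = n2536 := ndS (p := 1627) (l := 8) rfl N1627 D2536
theorem N2240 : nd 2240 = n2537 := ndS (p := 1628) (l := 6) rfl N1628 D2537
theorem N2241 : nd 2241 = n2538 := ndS (p := 1629) (l := 4) rfl N1629 D2538
theorem N2242 : nd 2242 = n2539 := ndS (p := 1629) (l := 6) rfl N1629 D2539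
theorem N2243 : nd 2243 = n2540 := ndS (p := 1629) (l := 8) rfl N1629 D2540
theorem N2244 : nd 2244 = n2541 := ndS (p := 1630) (l := 9) rfl N1630 D2541
theorem N2245 : nd 2245 = n2542 := ndS (p := 1631) (l := 7) rfl N1631 D2542
theorem N2246 : nd 2246 = n2543 := ndS (p := 1633) (l := 2) rfl N1633 D2543
theorem N2247 : nd 2247 = n2544 := ndS (p := 1633) (l := 5) rfl N1633 D2544
theorem N2248 : nd 2248 = n2546 := ndS (p := 1634) (l := 6) rfl N1634 D2546
theorem N2249 : nd 2249 = n2547 := ndS (p := 1635) (l := 5) rfl N1635 D2547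
theorem N2250 : nd 2250 = n2548 := ndS (p := 1635) (l := 8) rfl N1635 D2548
theorem N2251 : nd 2251 = n2549 := ndS (p := 1636) (l := 4) rfl N1636 D2549
theorem N2252 : nd 2252 = n2550 := ndS (p := 1636) (l := 6) rfl N1636 D2550
theorem N2253 : nd 2253 = n2551 := ndS (p := 1636) (l := 8) rfl N1636 D2551
theorem N2254 : nd 2254 = n2553 := ndS (p := 1638) (l := 7) rfl N1638 D2553
theorem N2255 : nd 2255 = n2554 := ndS (p := 1639) (l := 6) rfl N1639 D2554
theorem N2256 : nd 2256 = n2555 := ndS (p := 1639) (l := 8) rfl N1639 D2555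
theorem N2257 : nd 2257 = n2556 := ndS (p := 1640) (l := 7) rfl N1640 D2556
theorem N2258 : nd 2258 = n2557 := ndS (p := 1640) (l := 8) rfl N1640 D2557
theorem N2259 : nd 2259 = n2558 := ndS (p := 1641) (l := 9) rfl N1641 D2558
theorem N2260 : nd 2260 = n2559 := ndS (p := 1644) (l := 2) rfl N1644 D2559
theorem N2261 : nd 2261 = n2560 := ndS (p := 1644) (l := 5) rfl N1644 D2560
theorem N2262 : nd 2262 = n2561 := ndS (p := 1644) (l := 8) rfl N1644 D2561
theorem N2263 : nd 2263 = n2562 := ndS (p := 1645) (l := 6) rfl N1645 D2562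
theorem N2264 : nd 2264 = n2563 := ndS (p := 1646) (l := 5) rfl N1646 D2563
theorem N2265 : nd 2265 = n2564 := ndS (p := 1646) (l := 8) rfl N1646 D2564
theorem N2266 : nd 2266 = n2565 := ndS (p := 1647) (l := 4) rfl N1647 D2565
theorem N2267 : nd 2267 = n2566 := ndS (p := 1647) (l := 6) rfl N1647 D2566
theorem N2268 : nd 2268 = n2567 := ndS (p := 1647) (l := 8) rfl N1647 D2567
theorem N2269 : nd 2269 = n2568 := ndS (p := 1649) (l := 7) rfl N1649 D2568
theorem N2270 : nd 2270 = n2569 := ndS (p := 1650) (l := 6) rfl N1650 D2569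
theorem N2271 : nd 2271 = n2570 := ndS (p := 1650) (l := 8) rfl N1650 D2570
theorem N2272 : nd 2272 = n2571 := ndS (p := 1651) (l := 7) rfl N1651 D2571
theorem N2273 : nd 2273 = n2572 := ndS (p := 1651) (l := 8) rfl N1651 D2572
theorem N2274 : nd 2274 = n2573 := ndS (p := 1654) (l := 1) rfl N1654 D2573
theorem N2275 : nd 2275 = n2574 := ndS (p := 1654) (l := 5) rfl N1654 D2574
theorem N2276 : nd 2276 = n2575 := ndS (p := 1655) (l := 4) rfl N1655 D2575
theorem N2277 : nd 2277 = n2576 := ndS (p := 1655) (l := 6) rfl N1655 D2576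
theorem N2278 : nd 2278 = n2577 := ndS (p := 1656) (l := 7) rfl N1656 D2577
theorem N2279 : nd 2279 = n2578 := ndS (p := 1657) (l := 4) rfl N1657 D2578
theorem N2280 : nd 2280 = n2579 := ndS (p := 1657) (l := 6) rfl N1657 D2579
theorem N2281 : nd 2281 = n2580 := ndS (p := 1658) (l := 6) rfl N1658 D2580
theorem N2282 : nd 2282 = n2581 := ndS (p := 1659) (l := 7) rfl N1659 D2581
theorem N2283 : nd 2283 = n2582 := ndS (p := 1661) (l := 5) rfl N1661 D2582
theorem N2284 : nd 2284 = n2583 := ndS (p := 1661) (l := 7) rfl N1661 D2583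
theorem N2285 : nd 2285 = n2584 := ndS (p := 1663) (l := 3) rfl N1663 D2584
theorem N2286 : nd 2286 = n2585 := ndS (p := 1663) (l := 5) rfl N1663 D2585
theorem N2287 : nd 2287 = n2586 := ndS (p := 1664) (l := 2) rfl N1664 D2586
theorem N2288 : nd 2288 = n2587 := ndS (p := 1664) (l := 5) rfl N1664 D2587
theorem N2289 : nd 2289 = n2588 := ndS (p := 1664) (l := 8) rfl N1664 D2588
theorem N2290 : nd 2290 = n2589 := ndS (p := 1665) (l := 6) rfl N1665 D2589
theorem N2291 : nd 2291 = n2590 := ndS (p := 1666) (l := 4) rfl N1666 D2590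
theorem N2292 : nd 2292 = n2591 := ndS (p := 1666) (l := 6) rfl N1666 D2591
theorem N2293 : nd 2293 = n2592 := ndS (p := 1666) (l := 8) rfl N1666 D2592
theorem N2294 : nd 2294 = n2593 := ndS (p := 1667) (l := 9) rfl N1667 D2593
theorem N2295 : nd 2295 = n2594 := ndS (p := 1668) (l := 7) rfl N1668 D2594
theorem N2296 : nd 2296 = n2595 := ndS (p := 1670) (l := 2) rfl N1670 D2595
theorem N2297 : nd 2297 = n2596 := ndS (p := 1670) (l := 5) rfl N1670 D2596
theorem N2298 : nd 2298 = n2598 := ndS (p := 1671) (l := 6) rfl N1671 D2598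
theorem N2299 : nd 2299 = n2599 := ndS (p := 1672) (l := 5) rfl N1672 D2599
theorem N2300 : nd 2300 = n2600 := ndS (p := 1672) (l := 8) rfl N1672 D2600
theorem N2301 : nd 2301 = n2601 := ndS (p := 1673) (l := 4) rfl N1673 D2601
theorem N2302 : nd 2302 = n2602 := ndS (p := 1673) (l := 6) rfl N1673 D2602
theorem N2303 : nd 2303 = n2603 := ndS (p := 1673) (l := 8) rfl N1673 D2603
theorem N2304 : nd 2304 = n2605 := ndS (p := 1675) (l := 7) rfl N1675 D2605
theorem N2305 : nd 2305 = n2606 := ndS (p := 1676) (l := 6) rfl N1676 D2606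
theorem N2306 : nd 2306 = n2607 := ndS (p := 1676) (l := 8) rfl N1676 D2607
theorem N2307 : nd 2307 = n2608 := ndS (p := 1677) (l := 7) rfl N1677 D2608
theorem N2308 : nd 2308 = n2609 := ndS (p := 1677) (l := 8) rfl N1677 D2609
theorem N2309 : nd 2309 = n2610 := ndS (p := 1678) (l := 9) rfl N1678 D2610
theorem N2310 : nd 2310 = n2612 := ndS (p := 1681) (l := 5) rfl N1681 D2612
theorem N2311 : nd 2311 = n2614 := ndS (p := 1682) (l := 6) rfl N1682 D2614
theorem N2312 : nd 2312 = n2617 := ndS (p := 1683) (l := 7) rfl N1683 D2617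
theorem N2313 : nd 2313 = n2618 := ndS (p := 1684) (l := 6) rfl N1684 D2618
theorem N2314 : nd 2314 = n2619 := ndS (p := 1684) (l := 8) rfl N1684 D2619
theorem N2315 : nd 2315 = n2620 := ndS (p := 1685) (l := 3) rfl N1685 D2620
theorem N2316 : nd 2316 = n2622 := ndS (p := 1686) (l := 7) rfl N1686 D2622
theorem N2317 : nd 2317 = n2623 := ndS (p := 1686) (l := 8) rfl N1686 D2623
theorem N2318 : nd 2318 = n2625 := ndS (p := 1689) (l := 8) rfl N1689 D2625
theorem N2319 : nd 2319 = n2626 := ndS (p := 1690) (l := 9) rfl N1690 D2626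
theorem N2320 : nd 2320 = n2627 := ndS (p := 1693) (l := 2) rfl N1693 D2627
theorem N2321 : nd 2321 = n2628 := ndS (p := 1693) (l := 5) rfl N1693 D2628
theorem N2322 : nd 2322 = n2630 := ndS (p := 1694) (l := 6) rfl N1694 D2630
theorem N2323 : nd 2323 = n2631 := ndS (p := 1695) (l := 5) rfl N1695 D2631
theorem N2324 : nd 2324 = n2632 := ndS (p := 1695) (l := 8) rfl N1695 D2632
theorem N2325 : nd 2325 = n2633 := ndS (p := 1696) (l := 4) rfl N1696 D2633
theorem N2326 : nd 2326 = n2634 := ndS (p := 1696) (l := 6) rfl N1696 D2634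
theorem N2327 : nd 2327 = n2635 := ndS (p := 1696) (l := 8) rfl N1696 D2635
theorem N2328 : nd 2328 = n2637 := ndS (p := 1699) (l := 6) rfl N1699 D2637
theorem N2329 : nd 2329 = n2638 := ndS (p := 1699) (l := 8) rfl N1699 D2638
theorem N2330 : nd 2330 = n2639 := ndS (p := 1700) (l := 8) rfl N1700 D2639
theorem N2331 : nd 2331 = n2640 := ndS (p := 1701) (l := 9) rfl N1701 D2640
theorem N2332 : nd 2332 = n2642 := ndS (p := 1703) (l := 5) rfl N1703 D2642
theorem N2333 : nd 2333 = n2644 := ndS (p := 1704) (l := 4) rfl N1704 D2644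
theorem N2334 : nd 2334 = n2647 := ndS (p := 1705) (l := 4) rfl N1705 D2647
theorem N2335 : nd 2335 = n2648 := ndS (p := 1705) (l := 8) rfl N1705 D2648
theorem N2336 : nd 2336 = n2649 := ndS (p := 1706) (l := 3) rfl N1706 D2649
theorem N2337 : nd 2337 = n2651 := ndS (p := 1707) (l := 8) rfl N1707 D2651
theorem N2338 : nd 2338 = n2653 := ndS (p := 1709) (l := 3) rfl N1709 D2653
theorem N2339 : nd 2339 = n2654 := ndS (p := 1709) (l := 9) rfl N1709 D2654
theorem N2340 : nd 2340 = n2658 := ndS (p := 1711) (l := 4) rfl N1711 D2658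
theorem N2341 : nd 2341 = n2660 := ndS (p := 1712) (l := 4) rfl N1712 D2660
theorem N2342 : nd 2342 = n2662 := ndS (p := 1713) (l := 3) rfl N1713 D2662
theorem N2343 : nd 2343 = n2663 := ndS (p := 1713) (l := 5) rfl N1713 D2663
theorem N2344 : nd 2344 = n2664 := ndS (p := 1713) (l := 9) rfl N1713 D2664
theorem N2345 : nd 2345 = n2666 := ndS (p := 1715) (l := 9) rfl N1715 D2666
theorem N2346 : nd 2346 = n2667 := ndS (p := 1716) (l := 8) rfl N1716 D2667
theorem N2347 : nd 2347 = n2668 := ndS (p := 1717) (l := 3) rfl N1717 D2668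
theorem N2348 : nd 2348 = n2669 := ndS (p := 1718) (l := 2) rfl N1718 D2669
theorem N2349 : nd 2349 = n2670 := ndS (p := 1718) (l := 4) rfl N1718 D2670
theorem N2350 : nd 2350 = n2671 := ndS (p := 1719) (l := 1) rfl N1719 D2671
theorem N2351 : nd 2351 = n2672 := ndS (p := 1719) (l := 4) rfl N1719 D2672
theorem N2352 : nd 2352 = n2673 := ndS (p := 1720) (l := 5) rfl N1720 D2673
theorem N2353 : nd 2353 = n2674 := ndS (p := 1721) (l := 3) rfl N1721 D2674
theorem N2354 : nd 2354 = n2677 := ndS (p := 1722) (l := 8) rfl N1722 D2677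
theorem N2355 : nd 2355 = n2678 := ndS (p := 1722) (l := 9) rfl N1722 D2678
theorem N2356 : nd 2356 = n2681 := ndS (p := 1724) (l := 3) rfl N1724 D2681
theorem N2357 : nd 2357 = n2683 := ndS (p := 1725) (l := 4) rfl N1725 D2683
theorem N2358 : nd 2358 = n2685 := ndS (p := 1726) (l := 4) rfl N1726 D2685
theorem N2359 : nd 2359 = n2686 := ndS (p := 1727) (l := 5) rfl N1727 D2686
theorem N2360 : nd 2360 = n2688 := ndS (p := 1728) (l := 4) rfl N1728 D2688
theorem N2361 : nd 2361 = n2689 := ndS (p := 1729) (l := 3) rfl N1729 D2689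
theorem N2362 : nd 2362 = n2690 := ndS (p := 1729) (l := 5) rfl N1729 D2690
theorem N2363 : nd 2363 = n2691 := ndS (p := 1730) (l := 6) rfl N1730 D2691
theorem N2364 : nd 2364 = n2692 := ndS (p := 1731) (l := 2) rfl N1731 D2692
theorem N2365 : nd 2365 = n2693 := ndS (p := 1731) (l := 8) rfl N1731 D2693
theorem N2366 : nd 2366 = n2703 := ndS (p := 1734) (l := 4) rfl N1734 D2703
theorem N2367 : nd 2367 = n2706 := ndS (p := 1735) (l := 5) rfl N1735 D2706
theorem N2368 : nd 2368 = n2709 := ndS (p := 1736) (l := 3) rfl N1736 D2709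
theorem N2369 : nd 2369 = n2710 := ndS (p := 1736) (l := 5) rfl N1736 D2710
theorem N2370 : nd 2370 = n2711 := ndS (p := 1737) (l := 6) rfl N1737 D2711
theorem N2371 : nd 2371 = n2713 := ndS (p := 1738) (l := 3) rfl N1738 D2713
theorem N2372 : nd 2372 = n2714 := ndS (p := 1738) (l := 5) rfl N1738 D2714
theorem N2373 : nd 2373 = n2715 := ndS (p := 1739) (l := 5) rfl N1739 D2715
theorem N2374 : nd 2374 = n2716 := ndS (p := 1739) (l := 8) rfl N1739 D2716
theorem N2375 : nd 2375 = n2717 := ndS (p := 1740) (l := 6) rfl N1740 D2717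
theorem N2376 : nd 2376 = n2718 := ndS (p := 1741) (l := 7) rfl N1741 D2718
theorem N2377 : nd 2377 = n2724 := ndS (p := 1742) (l := 5) rfl N1742 D2724
theorem N2378 : nd 2378 = n2727 := ndS (p := 1743) (l := 3) rfl N1743 D2727
theorem N2379 : nd 2379 = n2728 := ndS (p := 1743) (l := 5) rfl N1743 D2728
theorem N2380 : nd 2380 = n2729 := ndS (p := 1744) (l := 6) rfl N1744 D2729
theorem N2381 : nd 2381 = n2731 := ndS (p := 1745) (l := 3) rfl N1745 D2731
theorem N2382 : nd 2382 = n2732 := ndS (p := 1745) (l := 5) rfl N1745 D2732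
theorem N2383 : nd 2383 = n2733 := ndS (p := 1746) (l := 5) rfl N1746 D2733
theorem N2384 : nd 2384 = n2734 := ndS (p := 1746) (l := 8) rfl N1746 D2734
theorem N2385 : nd 2385 = n2735 := ndS (p := 1747) (l := 6) rfl N1747 D2735
theorem N2386 : nd 2386 = n2736 := ndS (p := 1748) (l := 7) rfl N1748 D2736
theorem N2387 : nd 2387 = n2746 := ndS (p := 1749) (l := 6) rfl N1749 D2746
theorem N2388 : nd 2388 = n2750 := ndS (p := 1750) (l := 5) rfl N1750 D2750
theorem N2389 : nd 2389 = n2752 := ndS (p := 1751) (l := 6) rfl N1751 D2752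
theorem N2390 : nd 2390 = n2753 := ndS (p := 1752) (l := 7) rfl N1752 D2753
theorem N2391 : nd 2391 = n2756 := ndS (p := 1753) (l := 2) rfl N1753 D2756
theorem N2392 : nd 2392 = n2757 := ndS (p := 1753) (l := 5) rfl N1753 D2757
theorem N2393 : nd 2393 = n2758 := ndS (p := 1753) (l := 8) rfl N1753 D2758
theorem N2394 : nd 2394 = n2759 := ndS (p := 1754) (l := 6) rfl N1754 D2759
theorem N2395 : nd 2395 = n2760 := ndS (p := 1755) (l := 4) rfl N1755 D2760
theorem N2396 : nd 2396 = n2761 := ndS (p := 1755) (l := 6) rfl N1755 D2761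
theorem N2397 : nd 2397 = n2762 := ndS (p := 1755) (l := 8) rfl N1755 D2762
theorem N2398 : nd 2398 = n2764 := ndS (p := 1757) (l := 7) rfl N1757 D2764
theorem N2399 : nd 2399 = n2779 := ndS (p := 1759) (l := 7) rfl N1759 D2779
theorem N2400 : nd 2400 = n2786 := ndS (p := 1760) (l := 4) rfl N1760 D2786
theorem N2401 : nd 2401 = n2787 := ndS (p := 1760) (l := 6) rfl N1760 D2787
theorem N2402 : nd 2402 = n2790 := ndS (p := 1761) (l := 7) rfl N1761 D2790
theorem N2403 : nd 2403 = n2795 := ndS (p := 1763) (l := 5) rfl N1763 D2795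
theorem N2404 : nd 2404 = n2797 := ndS (p := 1764) (l := 4) rfl N1764 D2797
theorem N2405 : nd 2405 = n2798 := ndS (p := 1764) (l := 6) rfl N1764 D2798
theorem N2406 : nd 2406 = n2799 := ndS (p := 1764) (l := 8) rfl N1764 D2799
theorem N2407 : nd 2407 = n2801 := ndS (p := 1766) (l := 7) rfl N1766 D2801
theorem N2408 : nd 2408 = n2802 := ndS (p := 1767) (l := 6) rfl N1767 D2802
theorem N2409 : nd 2409 = n2803 := ndS (p := 1767) (l := 8) rfl N1767 D2803
theorem N2410 : nd 2410 = n2804 := ndS (p := 1768) (l := 7) rfl N1768 D2804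
theorem N2411 : nd 2411 = n2805 := ndS (p := 1768) (l := 8) rfl N1768 D2805
theorem N2412 : nd 2412 = n2807 := ndS (p := 1771) (l := 4) rfl N1771 D2807
theorem N2413 : nd 2413 = n2808 := ndS (p := 1772) (l := 3) rfl N1772 D2808
theorem N2414 : nd 2414 = n2809 := ndS (p := 1772) (l := 5) rfl N1772 D2809
theorem N2415 : nd 2415 = n2810 := ndS (p := 1773) (l := 5) rfl N1773 D2810
theorem N2416 : nd 2416 = n2811 := ndS (p := 1773) (l := 8) rfl N1773 D2811
theorem N2417 : nd 2417 = n2812 := ndS (p := 1774) (l := 6) rfl N1774 D2812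
theorem N2418 : nd 2418 = n2813 := ndS (p := 1775) (l := 7) rfl N1775 D2813
theorem N2419 : nd 2419 = n2814 := ndS (p := 1776) (l := 3) rfl N1776 D2814
theorem N2420 : nd 2420 = n2815 := ndS (p := 1776) (l := 5) rfl N1776 D2815
theorem N2421 : nd 2421 = n2817 := ndS (p := 1777) (l := 5) rfl N1777 D2817
theorem N2422 : nd 2422 = n2819 := ndS (p := 1778) (l := 6) rfl N1778 D2819
theorem N2423 : nd 2423 = n2820 := ndS (p := 1779) (l := 4) rfl N1779 D2820
theorem N2424 : nd 2424 = n2821 := ndS (p := 1779) (l := 6) rfl N1779 D2821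
theorem N2425 : nd 2425 = n2822 := ndS (p := 1779) (l := 8) rfl N1779 D2822
theorem N2426 : nd 2426 = n2824 := ndS (p := 1781) (l := 7) rfl N1781 D2824
theorem N2427 : nd 2427 = n2825 := ndS (p := 1783) (l := 3) rfl N1783 D2825
theorem N2428 : nd 2428 = n2826 := ndS (p := 1783) (l := 5) rfl N1783 D2826
theorem N2429 : nd 2429 = n2828 := ndS (p := 1784) (l := 5) rfl N1784 D2828
theorem N2430 : nd 2430 = n2830 := ndS (p := 1785) (l := 6) rfl N1785 D2830
theorem N2431 : nd 2431 = n2831 := ndS (p := 1786) (l := 4) rfl N1786 D2831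
theorem N2432 : nd 2432 = n2832 := ndS (p := 1786) (l := 6) rfl N1786 D2832
theorem N2433 : nd 2433 = n2833 := ndS (p := 1786) (l := 8) rfl N1786 D2833
theorem N2434 : nd 2434 = n2835 := ndS (p := 1788) (l := 7) rfl N1788 D2835
theorem N2435 : nd 2435 = n2837 := ndS (p := 1790) (l := 5) rfl N1790 D2837
theorem N2436 : nd 2436 = n2839 := ndS (p := 1791) (l := 6) rfl N1791 D2839
theorem N2437 : nd 2437 = n2842 := ndS (p := 1792) (l := 4) rfl N1792 D2842
theorem N2438 : nd 2438 = n2843 := ndS (p := 1792) (l := 6) rfl N1792 D2843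
theorem N2439 : nd 2439 = n2846 := ndS (p := 1793) (l := 7) rfl N1793 D2846
theorem N2440 : nd 2440 = n2847 := ndS (p := 1794) (l := 6) rfl N1794 D2847
theorem N2441 : nd 2441 = n2848 := ndS (p := 1794) (l := 8) rfl N1794 D2848
theorem N2442 : nd 2442 = n2849 := ndS (p := 1795) (l := 7) rfl N1795 D2849
theorem N2443 : nd 2443 = n2850 := ndS (p := 1795) (l := 8) rfl N1795 D2850
theorem N2444 : nd 2444 = n2853 := ndS (p := 1798) (l := 5) rfl N1798 D2853
theorem N2445 : nd 2445 = n2855 := ndS (p := 1799) (l := 6) rfl N1799 D2855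
theorem N2446 : nd 2446 = n2858 := ndS (p := 1800) (l := 4) rfl N1800 D2858
theorem N2447 : nd 2447 = n2859 := ndS (p := 1800) (l := 6) rfl N1800 D2859
theorem N2448 : nd 2448 = n2862 := ndS (p := 1801) (l := 7) rfl N1801 D2862
theorem N2449 : nd 2449 = n2863 := ndS (p := 1802) (l := 6) rfl N1802 D2863
theorem N2450 : nd 2450 = n2864 := ndS (p := 1802) (l := 8) rfl N1802 D2864
theorem N2451 : nd 2451 = n2865 := ndS (p := 1803) (l := 7) rfl N1803 D2865
theorem N2452 : nd 2452 = n2866 := ndS (p := 1803) (l := 8) rfl N1803 D2866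
theorem N2453 : nd 2453 = n2871 := ndS (p := 1806) (l := 4) rfl N1806 D2871
theorem N2454 : nd 2454 = n2872 := ndS (p := 1806) (l := 6) rfl N1806 D2872
theorem N2455 : nd 2455 = n2875 := ndS (p := 1807) (l := 7) rfl N1807 D2875
theorem N2456 : nd 2456 = n2881 := ndS (p := 1808) (l := 6) rfl N1808 D2881
theorem N2457 : nd 2457 = n2883 := ndS (p := 1809) (l := 7) rfl N1809 D2883
theorem N2458 : nd 2458 = n2886 := ndS (p := 1811) (l := 5) rfl N1811 D2886
theorem N2459 : nd 2459 = n2887 := ndS (p := 1811) (l := 7) rfl N1811 D2887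
theorem N2460 : nd 2460 = n2888 := ndS (p := 1811) (l := 8) rfl N1811 D2888
theorem N2461 : nd 2461 = n2890 := ndS (p := 1813) (l := 8) rfl N1813 D2890
theorem N2462 : nd 2462 = n2892 := ndS (p := 1815) (l := 1) rfl N1815 D2892
theorem N2463 : nd 2463 = n2893 := ndS (p := 1815) (l := 5) rfl N1815 D2893
theorem N2464 : nd 2464 = n2894 := ndS (p := 1815) (l := 8) rfl N1815 D2894
theorem N2465 : nd 2465 = n2895 := ndS (p := 1816) (l := 4) rfl N1816 D2895
theorem N2466 : nd 2466 = n2896 := ndS (p := 1816) (l := 6) rfl N1816 D2896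
theorem N2467 : nd 2467 = n2897 := ndS (p := 1816) (l := 8) rfl N1816 D2897
theorem N2468 : nd 2468 = n2898 := ndS (p := 1818) (l := 7) rfl N1818 D2898
theorem N2469 : nd 2469 = n2899 := ndS (p := 1819) (l := 4) rfl N1819 D2899
theorem N2470 : nd 2470 = n2900 := ndS (p := 1819) (l := 6) rfl N1819 D2900
theorem N2471 : nd 2471 = n2901 := ndS (p := 1819) (l := 8) rfl N1819 D2901
theorem N2472 : nd 2472 = n2902 := ndS (p := 1820) (l := 3) rfl N1820 D2902
theorem N2473 : nd 2473 = n2903 := ndS (p := 1821) (l := 6) rfl N1821 D2903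
theorem N2474 : nd 2474 = n2904 := ndS (p := 1821) (l := 8) rfl N1821 D2904
theorem N2475 : nd 2475 = n2905 := ndS (p := 1822) (l := 7) rfl N1822 D2905
theorem N2476 : nd 2476 = n2906 := ndS (p := 1822) (l := 8) rfl N1822 D2906
theorem N2477 : nd 2477 = n2907 := ndS (p := 1825) (l := 5) rfl N1825 D2907
theorem N2478 : nd 2478 = n2908 := ndS (p := 1825) (l := 7) rfl N1825 D2908
theorem N2479 : nd 2479 = n2909 := ndS (p := 1825) (l := 8) rfl N1825 D2909
theorem N2480 : nd 2480 = n2910 := ndS (p := 1826) (l := 3) rfl N1826 D2910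
theorem N2481 : nd 2481 = n2911 := ndS (p := 1827) (l := 8) rfl N1827 D2911
theorem N2482 : nd 2482 = n2912 := ndS (p := 1829) (l := 5) rfl N1829 D2912
theorem N2483 : nd 2483 = n2913 := ndS (p := 1830) (l := 4) rfl N1830 D2913
theorem N2484 : nd 2484 = n2914 := ndS (p := 1830) (l := 6) rfl N1830 D2914
theorem N2485 : nd 2485 = n2915 := ndS (p := 1831) (l := 6) rfl N1831 D2915
theorem N2486 : nd 2486 = n2916 := ndS (p := 1832) (l := 7) rfl N1832 D2916
theorem N2487 : nd 2487 = n2917 := ndS (p := 1834) (l := 3) rfl N1834 D2917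
theorem N2488 : nd 2488 = n2918 := ndS (p := 1834) (l := 6) rfl N1834 D2918
theorem N2489 : nd 2489 = n2919 := ndS (p := 1835) (l := 7) rfl N1835 D2919
theorem N2490 : nd 2490 = n2920 := ndS (p := 1836) (l := 5) rfl N1836 D2920
theorem N2491 : nd 2491 = n2921 := ndS (p := 1836) (l := 7) rfl N1836 D2921
theorem N2492 : nd 2492 = n2922 := ndS (p := 1838) (l := 7) rfl N1838 D2922
theorem N2493 : nd 2493 = n2924 := ndS (p := 1840) (l := 5) rfl N1840 D2924
theorem N2494 : nd 2494 = n2926 := ndS (p := 1841) (l := 6) rfl N1841 D2926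
theorem N2495 : nd 2495 = n2929 := ndS (p := 1842) (l := 4) rfl N1842 D2929
theorem N2496 : nd 2496 = n2930 := ndS (p := 1842) (l := 6) rfl N1842 D2930
theorem N2497 : nd 2497 = n2933 := ndS (p := 1843) (l := 7) rfl N1843 D2933
theorem N2498 : nd 2498 = n2934 := ndS (p := 1844) (l := 6) rfl N1844 D2934
theorem N2499 : nd 2499 = n2935 := ndS (p := 1844) (l := 8) rfl N1844 D2935
theorem N2500 : nd 2500 = n2936 := ndS (p := 1845) (l := 7) rfl N1845 D2936
theorem N2501 : nd 2501 = n2937 := ndS (p := 1845) (l := 8) rfl N1845 D2937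
theorem N2502 : nd 2502 = n2942 := ndS (p := 1848) (l := 4) rfl N1848 D2942
theorem N2503 : nd 2503 = n2943 := ndS (p := 1848) (l := 6) rfl N1848 D2943
theorem N2504 : nd 2504 = n2946 := ndS (p := 1849) (l := 7) rfl N1849 D2946
theorem N2505 : nd 2505 = n2952 := ndS (p := 1850) (l := 6) rfl N1850 D2952
theorem N2506 : nd 2506 = n2954 := ndS (p := 1851) (l := 7) rfl N1851 D2954
theorem N2507 : nd 2507 = n2957 := ndS (p := 1853) (l := 7) rfl N1853 D2957
theorem N2508 : nd 2508 = n2958 := ndS (p := 1853) (l := 8) rfl N1853 D2958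
theorem N2509 : nd 2509 = n2959 := ndS (p := 1854) (l := 3) rfl N1854 D2959
theorem N2510 : nd 2510 = n2961 := ndS (p := 1855) (l := 8) rfl N1855 D2961
theorem N2511 : nd 2511 = n2969 := ndS (p := 1857) (l := 7) rfl N1857 D2969
theorem N2512 : nd 2512 = n2984 := ndS (p := 1861) (l := 4) rfl N1861 D2984
theorem N2513 : nd 2513 = n2985 := ndS (p := 1861) (l := 6) rfl N1861 D2985
theorem N2514 : nd 2514 = n2993 := ndS (p := 1863) (l := 6) rfl N1863 D2993
theorem N2515 : nd 2515 = n2997 := ndS (p := 1865) (l := 5) rfl N1865 D2997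
theorem N2516 : nd 2516 = n2998 := ndS (p := 1865) (l := 8) rfl N1865 D2998
theorem N2517 : nd 2517 = n2999 := ndS (p := 1866) (l := 3) rfl N1866 D2999
theorem N2518 : nd 2518 = n3018 := ndS (p := 1869) (l := 2) rfl N1869 D3018
theorem N2519 : nd 2519 = n3034 := ndS (p := 1870) (l := 6) rfl N1870 D3034
theorem N2520 : nd 2520 = n3046 := ndS (p := 1872) (l := 5) rfl N1872 D3046
theorem N2521 : nd 2521 = n3051 := ndS (p := 1873) (l := 8) rfl N1873 D3051
theorem N2522 : nd 2522 = n3052 := ndS (p := 1874) (l := 3) rfl N1874 D3052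
theorem N2523 : nd 2523 = n3054 := ndS (p := 1875) (l := 2) rfl N1875 D3054
theorem N2524 : nd 2524 = n3090 := ndS (p := 1877) (l := 5) rfl N1877 D3090
theorem N2525 : nd 2525 = n3091 := ndS (p := 1877) (l := 9) rfl N1877 D3091
theorem N2526 : nd 2526 = n3092 := ndS (p := 1878) (l := 8) rfl N1878 D3092
theorem N2527 : nd 2527 = n3093 := ndS (p := 1879) (l := 3) rfl N1879 D3093
theorem N2528 : nd 2528 = n3094 := ndS (p := 1880) (l := 8) rfl N1880 D3094
theorem N2529 : nd 2529 = n3095 := ndS (p := 1881) (l := 3) rfl N1881 D3095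
theorem N2530 : nd 2530 = n3096 := ndS (p := 1882) (l := 2) rfl N1882 D3096
theorem N2531 : nd 2531 = n3097 := ndS (p := 1882) (l := 4) rfl N1882 D3097
theorem N2532 : nd 2532 = n3098 := ndS (p := 1883) (l := 2) rfl N1883 D3098
theorem N2533 : nd 2533 = n3099 := ndS (p := 1883) (l := 4) rfl N1883 D3099
theorem N2534 : nd 2534 = n3100 := ndS (p := 1884) (l := 1) rfl N1884 D3100
theorem N2535 : nd 2535 = n3101 := ndS (p := 1884) (l := 4) rfl N1884 D3101
theorem N2536 : nd 2536 = n3102 := ndS (p := 1885) (l := 5) rfl N1885 D3102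
theorem N2537 : nd 2537 = n3103 := ndS (p := 1886) (l := 0) rfl N1886 D3103
theorem N2538 : nd 2538 = n3104 := ndS (p := 1886) (l := 4) rfl N1886 D3104
theorem N2539 : nd 2539 = n3105 := ndS (p := 1887) (l := 3) rfl N1887 D3105
theorem N2540 : nd 2540 = n3106 := ndS (p := 1887) (l := 5) rfl N1887 D3106
theorem N2541 : nd 2541 = n3107 := ndS (p := 1888) (l := 6) rfl N1888 D3107
theorem N2542 : nd 2542 = n3108 := ndS (p := 1889) (l := 8) rfl N1889 D3108
theorem N2543 : nd 2543 = n3109 := ndS (p := 1890) (l := 3) rfl N1890 D3109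
theorem N2544 : nd 2544 = n3110 := ndS (p := 1891) (l := 3) rfl N1891 D3110
theorem N2545 : nd 2545 = n3111 := ndS (p := 1892) (l := 2) rfl N1892 D3111
theorem N2546 : nd 2546 = n3112 := ndS (p := 1892) (l := 4) rfl N1892 D3112
theorem N2547 : nd 2547 = n3113 := ndS (p := 1893) (l := 2) rfl N1893 D3113
theorem N2548 : nd 2548 = n3114 := ndS (p := 1893) (l := 4) rfl N1893 D3114
theorem N2549 : nd 2549 = n3115 := ndS (p := 1894) (l := 1) rfl N1894 D3115
theorem N2550 : nd 2550 = n3116 := ndS (p := 1894) (l := 4) rfl N1894 D3116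
theorem N2551 : nd 2551 = n3117 := ndS (p := 1895) (l := 5) rfl N1895 D3117
theorem N2552 : nd 2552 = n3118 := ndS (p := 1896) (l := 2) rfl N1896 D3118
theorem N2553 : nd 2553 = n3119 := ndS (p := 1896) (l := 4) rfl N1896 D3119
theorem N2554 : nd 2554 = n3120 := ndS (p := 1897) (l := 1) rfl N1897 D3120
theorem N2555 : nd 2555 = n3121 := ndS (p := 1897) (l := 4) rfl N1897 D3121
theorem N2556 : nd 2556 = n3122 := ndS (p := 1898) (l := 5) rfl N1898 D3122
theorem N2557 : nd 2557 = n3123 := ndS (p := 1899) (l := 1) rfl N1899 D3123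
theorem N2558 : nd 2558 = n3124 := ndS (p := 1899) (l := 4) rfl N1899 D3124
theorem N2559 : nd 2559 = n3125 := ndS (p := 1900) (l := 5) rfl N1900 D3125
theorem N2560 : nd 2560 = n3126 := ndS (p := 1901) (l := 0) rfl N1901 D3126
theorem N2561 : nd 2561 = n3127 := ndS (p := 1901) (l := 4) rfl N1901 D3127
theorem N2562 : nd 2562 = n3128 := ndS (p := 1902) (l := 3) rfl N1902 D3128
theorem N2563 : nd 2563 = n3129 := ndS (p := 1902) (l := 5) rfl N1902 D3129
theorem N2564 : nd 2564 = n3130 := ndS (p := 1903) (l := 6) rfl N1903 D3130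
theorem N2565 : nd 2565 = n3132 := ndS (p := 1904) (l := 4) rfl N1904 D3132
theorem N2566 : nd 2566 = n3133 := ndS (p := 1905) (l := 3) rfl N1905 D3133
theorem N2567 : nd 2567 = n3134 := ndS (p := 1905) (l := 5) rfl N1905 D3134
theorem N2568 : nd 2568 = n3135 := ndS (p := 1906) (l := 6) rfl N1906 D3135
theorem N2569 : nd 2569 = n3136 := ndS (p := 1907) (l := 4) rfl N1907 D3136
theorem N2570 : nd 2570 = n3137 := ndS (p := 1908) (l := 3) rfl N1908 D3137
theorem N2571 : nd 2571 = n3138 := ndS (p := 1908) (l := 5) rfl N1908 D3138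
theorem N2572 : nd 2572 = n3139 := ndS (p := 1909) (l := 5) rfl N1909 D3139
theorem N2573 : nd 2573 = n3140 := ndS (p := 1909) (l := 8) rfl N1909 D3140
theorem N2574 : nd 2574 = n3141 := ndS (p := 1910) (l := 6) rfl N1910 D3141
theorem N2575 : nd 2575 = n3142 := ndS (p := 1911) (l := 7) rfl N1911 D3142
theorem N2576 : nd 2576 = n3143 := ndS (p := 1912) (l := 2) rfl N1912 D3143
theorem N2577 : nd 2577 = n3144 := ndS (p := 1912) (l := 4) rfl N1912 D3144
theorem N2578 : nd 2578 = n3145 := ndS (p := 1913) (l := 1) rfl N1913 D3145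
theorem N2579 : nd 2579 = n3146 := ndS (p := 1913) (l := 4) rfl N1913 D3146
theorem N2580 : nd 2580 = n3147 := ndS (p := 1914) (l := 5) rfl N1914 D3147
theorem N2581 : nd 2581 = n3148 := ndS (p := 1915) (l := 0) rfl N1915 D3148
theorem N2582 : nd 2582 = n3149 := ndS (p := 1915) (l := 4) rfl N1915 D3149
theorem N2583 : nd 2583 = n3150 := ndS (p := 1916) (l := 3) rfl N1916 D3150
theorem N2584 : nd 2584 = n3151 := ndS (p := 1916) (l := 5) rfl N1916 D3151
theorem N2585 : nd 2585 = n3152 := ndS (p := 1917) (l := 6) rfl N1917 D3152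
theorem N2586 : nd 2586 = n3153 := ndS (p := 1918) (l := 1) rfl N1918 D3153
theorem N2587 : nd 2587 = n3154 := ndS (p := 1918) (l := 4) rfl N1918 D3154
theorem N2588 : nd 2588 = n3155 := ndS (p := 1919) (l := 5) rfl N1919 D3155
theorem N2589 : nd 2589 = n3156 := ndS (p := 1920) (l := 0) rfl N1920 D3156
theorem N2590 : nd 2590 = n3157 := ndS (p := 1920) (l := 4) rfl N1920 D3157
theorem N2591 : nd 2591 = n3158 := ndS (p := 1921) (l := 3) rfl N1921 D3158
theorem N2592 : nd 2592 = n3159 := ndS (p := 1921) (l := 5) rfl N1921 D3159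
theorem N2593 : nd 2593 = n3160 := ndS (p := 1922) (l := 6) rfl N1922 D3160
theorem N2594 : nd 2594 = n3161 := ndS (p := 1923) (l := 4) rfl N1923 D3161
theorem N2595 : nd 2595 = n3162 := ndS (p := 1924) (l := 3) rfl N1924 D3162
theorem N2596 : nd 2596 = n3163 := ndS (p := 1924) (l := 5) rfl N1924 D3163
theorem N2597 : nd 2597 = n3164 := ndS (p := 1925) (l := 5) rfl N1925 D3164
theorem N2598 : nd 2598 = n3165 := ndS (p := 1925) (l := 8) rfl N1925 D3165
theorem N2599 : nd 2599 = n3166 := ndS (p := 1926) (l := 6) rfl N1926 D3166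
theorem N2600 : nd 2600 = n3167 := ndS (p := 1927) (l := 7) rfl N1927 D3167
theorem N2601 : nd 2601 = n3168 := ndS (p := 1928) (l := 0) rfl N1928 D3168
theorem N2602 : nd 2602 = n3169 := ndS (p := 1928) (l := 4) rfl N1928 D3169
theorem N2603 : nd 2603 = n3170 := ndS (p := 1929) (l := 3) rfl N1929 D3170
theorem N2604 : nd 2604 = n3171 := ndS (p := 1929) (l := 5) rfl N1929 D3171
theorem N2605 : nd 2605 = n3172 := ndS (p := 1930) (l := 6) rfl N1930 D3172
theorem N2606 : nd 2606 = n3173 := ndS (p := 1931) (l := 4) rfl N1931 D3173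
theorem N2607 : nd 2607 = n3174 := ndS (p := 1932) (l := 3) rfl N1932 D3174
theorem N2608 : nd 2608 = n3175 := ndS (p := 1932) (l := 5) rfl N1932 D3175
theorem N2609 : nd 2609 = n3176 := ndS (p := 1933) (l := 5) rfl N1933 D3176
theorem N2610 : nd 2610 = n3177 := ndS (p := 1933) (l := 8) rfl N1933 D3177
theorem N2611 : nd 2611 = n3178 := ndS (p := 1934) (l := 6) rfl N1934 D3178
theorem N2612 : nd 2612 = n3179 := ndS (p := 1935) (l := 7) rfl N1935 D3179
theorem N2613 : nd 2613 = n3180 := ndS (p := 1936) (l := 3) rfl N1936 D3180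
theorem N2614 : nd 2614 = n3181 := ndS (p := 1936) (l := 5) rfl N1936 D3181
theorem N2615 : nd 2615 = n3182 := ndS (p := 1937) (l := 2) rfl N1937 D3182
theorem N2616 : nd 2616 = n3183 := ndS (p := 1937) (l := 5) rfl N1937 D3183
theorem N2617 : nd 2617 = n3184 := ndS (p := 1937) (l := 8) rfl N1937 D3184
theorem N2618 : nd 2618 = n3185 := ndS (p := 1938) (l := 6) rfl N1938 D3185
theorem N2619 : nd 2619 = n3186 := ndS (p := 1939) (l := 4) rfl N1939 D3186
theorem N2620 : nd 2620 = n3187 := ndS (p := 1939) (l := 6) rfl N1939 D3187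
theorem N2621 : nd 2621 = n3188 := ndS (p := 1939) (l := 8) rfl N1939 D3188
theorem N2622 : nd 2622 = n3189 := ndS (p := 1940) (l := 9) rfl N1940 D3189
theorem N2623 : nd 2623 = n3190 := ndS (p := 1941) (l := 7) rfl N1941 D3190
theorem N2624 : nd 2624 = n3191 := ndS (p := 1943) (l := 0) rfl N1943 D3191
theorem N2625 : nd 2625 = n3192 := ndS (p := 1943) (l := 4) rfl N1943 D3192
theorem N2626 : nd 2626 = n3193 := ndS (p := 1944) (l := 3) rfl N1944 D3193
theorem N2627 : nd 2627 = n3194 := ndS (p := 1944) (l := 5) rfl N1944 D3194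
theorem N2628 : nd 2628 = n3195 := ndS (p := 1945) (l := 6) rfl N1945 D3195
theorem N2629 : nd 2629 = n3196 := ndS (p := 1946) (l := 4) rfl N1946 D3196
theorem N2630 : nd 2630 = n3197 := ndS (p := 1947) (l := 3) rfl N1947 D3197
theorem N2631 : nd 2631 = n3198 := ndS (p := 1947) (l := 5) rfl N1947 D3198
theorem N2632 : nd 2632 = n3199 := ndS (p := 1948) (l := 5) rfl N1948 D3199
theorem N2633 : nd 2633 = n3200 := ndS (p := 1948) (l := 8) rfl N1948 D3200
theorem N2634 : nd 2634 = n3201 := ndS (p := 1949) (l := 6) rfl N1949 D3201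
theorem N2635 : nd 2635 = n3202 := ndS (p := 1950) (l := 7) rfl N1950 D3202
theorem N2636 : nd 2636 = n3203 := ndS (p := 1951) (l := 3) rfl N1951 D3203
theorem N2637 : nd 2637 = n3204 := ndS (p := 1951) (l := 5) rfl N1951 D3204
theorem N2638 : nd 2638 = n3205 := ndS (p := 1952) (l := 2) rfl N1952 D3205
theorem N2639 : nd 2639 = n3206 := ndS (p := 1952) (l := 5) rfl N1952 D3206
theorem N2640 : nd 2640 = n3207 := ndS (p := 1952) (l := 8) rfl N1952 D3207
theorem N2641 : nd 2641 = n3208 := ndS (p := 1953) (l := 6) rfl N1953 D3208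
theorem N2642 : nd 2642 = n3209 := ndS (p := 1954) (l := 4) rfl N1954 D3209
theorem N2643 : nd 2643 = n3210 := ndS (p := 1954) (l := 6) rfl N1954 D3210
theorem N2644 : nd 2644 = n3211 := ndS (p := 1954) (l := 8) rfl N1954 D3211
theorem N2645 : nd 2645 = n3212 := ndS (p := 1955) (l := 9) rfl N1955 D3212
theorem N2646 : nd 2646 = n3213 := ndS (p := 1956) (l := 7) rfl N1956 D3213
theorem N2647 : nd 2647 = n3214 := ndS (p := 1958) (l := 2) rfl N1958 D3214
theorem N2648 : nd 2648 = n3215 := ndS (p := 1958) (l := 5) rfl N1958 D3215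
theorem N2649 : nd 2649 = n3216 := ndS (p := 1958) (l := 8) rfl N1958 D3216
theorem N2650 : nd 2650 = n3217 := ndS (p := 1959) (l := 6) rfl N1959 D3217
theorem N2651 : nd 2651 = n3218 := ndS (p := 1960) (l := 5) rfl N1960 D3218
theorem N2652 : nd 2652 = n3219 := ndS (p := 1960) (l := 8) rfl N1960 D3219
theorem N2653 : nd 2653 = n3220 := ndS (p := 1961) (l := 4) rfl N1961 D3220
theorem N2654 : nd 2654 = n3221 := ndS (p := 1961) (l := 6) rfl N1961 D3221
theorem N2655 : nd 2655 = n3222 := ndS (p := 1961) (l := 8) rfl N1961 D3222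
theorem N2656 : nd 2656 = n3223 := ndS (p := 1962) (l := 9) rfl N1962 D3223
theorem N2657 : nd 2657 = n3224 := ndS (p := 1963) (l := 7) rfl N1963 D3224
theorem N2658 : nd 2658 = n3225 := ndS (p := 1964) (l := 6) rfl N1964 D3225
theorem N2659 : nd 2659 = n3226 := ndS (p := 1964) (l := 8) rfl N1964 D3226
theorem N2660 : nd 2660 = n3227 := ndS (p := 1965) (l := 7) rfl N1965 D3227
theorem N2661 : nd 2661 = n3228 := ndS (p := 1965) (l := 8) rfl N1965 D3228
theorem N2662 : nd 2662 = n3229 := ndS (p := 1966) (l := 9) rfl N1966 D3229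
theorem N2663 : nd 2663 = n3230 := ndS (p := 1969) (l := 5) rfl N1969 D3230
theorem N2664 : nd 2664 = n3231 := ndS (p := 1969) (l := 9) rfl N1969 D3231
theorem N2665 : nd 2665 = n3232 := ndS (p := 1970) (l := 8) rfl N1970 D3232
theorem N2666 : nd 2666 = n3233 := ndS (p := 1971) (l := 3) rfl N1971 D3233
theorem N2667 : nd 2667 = n3234 := ndS (p := 1972) (l := 2) rfl N1972 D3234
theorem N2668 : nd 2668 = n3235 := ndS (p := 1972) (l := 4) rfl N1972 D3235
theorem N2669 : nd 2669 = n3236 := ndS (p := 1973) (l := 8) rfl N1973 D3236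
theorem N2670 : nd 2670 = n3237 := ndS (p := 1974) (l := 3) rfl N1974 D3237
theorem N2671 : nd 2671 = n3238 := ndS (p := 1975) (l := 2) rfl N1975 D3238
theorem N2672 : nd 2672 = n3239 := ndS (p := 1975) (l := 4) rfl N1975 D3239
theorem N2673 : nd 2673 = n3240 := ndS (p := 1976) (l := 1) rfl N1976 D3240
theorem N2674 : nd 2674 = n3241 := ndS (p := 1976) (l := 4) rfl N1976 D3241
theorem N2675 : nd 2675 = n3242 := ndS (p := 1977) (l := 5) rfl N1977 D3242
theorem N2676 : nd 2676 = n3243 := ndS (p := 1978) (l := 3) rfl N1978 D3243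
theorem N2677 : nd 2677 = n3244 := ndS (p := 1979) (l := 2) rfl N1979 D3244
theorem N2678 : nd 2678 = n3245 := ndS (p := 1979) (l := 4) rfl N1979 D3245
theorem N2679 : nd 2679 = n3246 := ndS (p := 1980) (l := 1) rfl N1980 D3246
theorem N2680 : nd 2680 = n3247 := ndS (p := 1980) (l := 4) rfl N1980 D3247
theorem N2681 : nd 2681 = n3248 := ndS (p := 1981) (l := 5) rfl N1981 D3248
theorem N2682 : nd 2682 = n3249 := ndS (p := 1982) (l := 0) rfl N1982 D3249
theorem N2683 : nd 2683 = n3250 := ndS (p := 1982) (l := 4) rfl N1982 D3250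
theorem N2684 : nd 2684 = n3251 := ndS (p := 1983) (l := 3) rfl N1983 D3251
theorem N2685 : nd 2685 = n3252 := ndS (p := 1983) (l := 5) rfl N1983 D3252
theorem N2686 : nd 2686 = n3253 := ndS (p := 1984) (l := 6) rfl N1984 D3253
theorem N2687 : nd 2687 = n3254 := ndS (p := 1985) (l := 2) rfl N1985 D3254
theorem N2688 : nd 2688 = n3255 := ndS (p := 1985) (l := 4) rfl N1985 D3255
theorem N2689 : nd 2689 = n3256 := ndS (p := 1986) (l := 1) rfl N1986 D3256
theorem N2690 : nd 2690 = n3257 := ndS (p := 1986) (l := 4) rfl N1986 D3257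
theorem N2691 : nd 2691 = n3258 := ndS (p := 1987) (l := 5) rfl N1987 D3258
theorem N2692 : nd 2692 = n3259 := ndS (p := 1988) (l := 0) rfl N1988 D3259
theorem N2693 : nd 2693 = n3260 := ndS (p := 1988) (l := 4) rfl N1988 D3260
theorem N2694 : nd 2694 = n3261 := ndS (p := 1989) (l := 3) rfl N1989 D3261
theorem N2695 : nd 2695 = n3262 := ndS (p := 1989) (l := 5) rfl N1989 D3262
theorem N2696 : nd 2696 = n3263 := ndS (p := 1990) (l := 6) rfl N1990 D3263
theorem N2697 : nd 2697 = n3265 := ndS (p := 1991) (l := 4) rfl N1991 D3265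
theorem N2698 : nd 2698 = n3266 := ndS (p := 1992) (l := 5) rfl N1992 D3266
theorem N2699 : nd 2699 = n3268 := ndS (p := 1993) (l := 4) rfl N1993 D3268
theorem N2700 : nd 2700 = n3269 := ndS (p := 1994) (l := 3) rfl N1994 D3269
theorem N2701 : nd 2701 = n3270 := ndS (p := 1994) (l := 5) rfl N1994 D3270
theorem N2702 : nd 2702 = n3271 := ndS (p := 1995) (l := 6) rfl N1995 D3271
theorem N2703 : nd 2703 = n3272 := ndS (p := 1996) (l := 4) rfl N1996 D3272
theorem N2704 : nd 2704 = n3273 := ndS (p := 1997) (l := 3) rfl N1997 D3273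
theorem N2705 : nd 2705 = n3274 := ndS (p := 1997) (l := 5) rfl N1997 D3274
theorem N2706 : nd 2706 = n3275 := ndS (p := 1998) (l := 5) rfl N1998 D3275
theorem N2707 : nd 2707 = n3276 := ndS (p := 1998) (l := 8) rfl N1998 D3276
theorem N2708 : nd 2708 = n3277 := ndS (p := 1999) (l := 6) rfl N1999 D3277
theorem N2709 : nd 2709 = n3278 := ndS (p := 2000) (l := 7) rfl N2000 D3278
theorem N2710 : nd 2710 = n3281 := ndS (p := 2001) (l := 3) rfl N2001 D3281
theorem N2711 : nd 2711 = n3282 := ndS (p := 2001) (l := 5) rfl N2001 D3282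
theorem N2712 : nd 2712 = n3283 := ndS (p := 2002) (l := 6) rfl N2002 D3283
theorem N2713 : nd 2713 = n3285 := ndS (p := 2003) (l := 3) rfl N2003 D3285
theorem N2714 : nd 2714 = n3286 := ndS (p := 2003) (l := 5) rfl N2003 D3286
theorem N2715 : nd 2715 = n3287 := ndS (p := 2004) (l := 5) rfl N2004 D3287
theorem N2716 : nd 2716 = n3288 := ndS (p := 2004) (l := 8) rfl N2004 D3288
theorem N2717 : nd 2717 = n3289 := ndS (p := 2005) (l := 6) rfl N2005 D3289
theorem N2718 : nd 2718 = n3290 := ndS (p := 2006) (l := 7) rfl N2006 D3290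
theorem N2719 : nd 2719 = n3291 := ndS (p := 2007) (l := 3) rfl N2007 D3291
theorem N2720 : nd 2720 = n3292 := ndS (p := 2007) (l := 5) rfl N2007 D3292
theorem N2721 : nd 2721 = n3293 := ndS (p := 2008) (l := 2) rfl N2008 D3293
theorem N2722 : nd 2722 = n3294 := ndS (p := 2008) (l := 5) rfl N2008 D3294
theorem N2723 : nd 2723 = n3295 := ndS (p := 2008) (l := 8) rfl N2008 D3295
theorem N2724 : nd 2724 = n3296 := ndS (p := 2009) (l := 6) rfl N2009 D3296
theorem N2725 : nd 2725 = n3297 := ndS (p := 2010) (l := 4) rfl N2010 D3297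
theorem N2726 : nd 2726 = n3298 := ndS (p := 2010) (l := 6) rfl N2010 D3298
theorem N2727 : nd 2727 = n3299 := ndS (p := 2010) (l := 8) rfl N2010 D3299
theorem N2728 : nd 2728 = n3300 := ndS (p := 2011) (l := 9) rfl N2011 D3300
theorem N2729 : nd 2729 = n3301 := ndS (p := 2012) (l := 7) rfl N2012 D3301
theorem N2730 : nd 2730 = n3302 := ndS (p := 2014) (l := 0) rfl N2014 D3302
theorem N2731 : nd 2731 = n3303 := ndS (p := 2014) (l := 4) rfl N2014 D3303
theorem N2732 : nd 2732 = n3304 := ndS (p := 2015) (l := 3) rfl N2015 D3304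
theorem N2733 : nd 2733 = n3305 := ndS (p := 2015) (l := 5) rfl N2015 D3305
theorem N2734 : nd 2734 = n3306 := ndS (p := 2016) (l := 6) rfl N2016 D3306
theorem N2735 : nd 2735 = n3307 := ndS (p := 2017) (l := 4) rfl N2017 D3307
theorem N2736 : nd 2736 = n3308 := ndS (p := 2018) (l := 3) rfl N2018 D3308
theorem N2737 : nd 2737 = n3309 := ndS (p := 2018) (l := 5) rfl N2018 D3309
theorem N2738 : nd 2738 = n3310 := ndS (p := 2019) (l := 5) rfl N2019 D3310
theorem N2739 : nd 2739 = n3311 := ndS (p := 2019) (l := 8) rfl N2019 D3311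
theorem N2740 : nd 2740 = n3312 := ndS (p := 2020) (l := 6) rfl N2020 D3312
theorem N2741 : nd 2741 = n3313 := ndS (p := 2021) (l := 7) rfl N2021 D3313
theorem N2742 : nd 2742 = n3314 := ndS (p := 2022) (l := 4) rfl N2022 D3314
theorem N2743 : nd 2743 = n3315 := ndS (p := 2023) (l := 3) rfl N2023 D3315
theorem N2744 : nd 2744 = n3316 := ndS (p := 2023) (l := 5) rfl N2023 D3316
theorem N2745 : nd 2745 = n3317 := ndS (p := 2024) (l := 5) rfl N2024 D3317
theorem N2746 : nd 2746 = n3318 := ndS (p := 2024) (l := 8) rfl N2024 D3318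
theorem N2747 : nd 2747 = n3319 := ndS (p := 2025) (l := 6) rfl N2025 D3319
theorem N2748 : nd 2748 = n3320 := ndS (p := 2026) (l := 7) rfl N2026 D3320
theorem N2749 : nd 2749 = n3321 := ndS (p := 2027) (l := 3) rfl N2027 D3321
theorem N2750 : nd 2750 = n3322 := ndS (p := 2027) (l := 5) rfl N2027 D3322
theorem N2751 : nd 2751 = n3323 := ndS (p := 2028) (l := 2) rfl N2028 D3323
theorem N2752 : nd 2752 = n3324 := ndS (p := 2028) (l := 5) rfl N2028 D3324
theorem N2753 : nd 2753 = n3325 := ndS (p := 2028) (l := 8) rfl N2028 D3325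
theorem N2754 : nd 2754 = n3326 := ndS (p := 2029) (l := 6) rfl N2029 D3326
theorem N2755 : nd 2755 = n3327 := ndS (p := 2030) (l := 4) rfl N2030 D3327
theorem N2756 : nd 2756 = n3328 := ndS (p := 2030) (l := 6) rfl N2030 D3328
theorem N2757 : nd 2757 = n3329 := ndS (p := 2030) (l := 8) rfl N2030 D3329
theorem N2758 : nd 2758 = n3330 := ndS (p := 2031) (l := 9) rfl N2031 D3330
theorem N2759 : nd 2759 = n3331 := ndS (p := 2032) (l := 7) rfl N2032 D3331
theorem N2760 : nd 2760 = n3332 := ndS (p := 2034) (l := 3) rfl N2034 D3332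
theorem N2761 : nd 2761 = n3333 := ndS (p := 2034) (l := 5) rfl N2034 D3333
theorem N2762 : nd 2762 = n3334 := ndS (p := 2035) (l := 2) rfl N2035 D3334
theorem N2763 : nd 2763 = n3335 := ndS (p := 2035) (l := 5) rfl N2035 D3335
theorem N2764 : nd 2764 = n3336 := ndS (p := 2035) (l := 8) rfl N2035 D3336
theorem N2765 : nd 2765 = n3337 := ndS (p := 2036) (l := 6) rfl N2036 D3337
theorem N2766 : nd 2766 = n3338 := ndS (p := 2037) (l := 4) rfl N2037 D3338
theorem N2767 : nd 2767 = n3339 := ndS (p := 2037) (l := 6) rfl N2037 D3339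
theorem N2768 : nd 2768 = n3340 := ndS (p := 2037) (l := 8) rfl N2037 D3340
theorem N2769 : nd 2769 = n3341 := ndS (p := 2038) (l := 9) rfl N2038 D3341
theorem N2770 : nd 2770 = n3342 := ndS (p := 2039) (l := 7) rfl N2039 D3342
theorem N2771 : nd 2771 = n3343 := ndS (p := 2041) (l := 2) rfl N2041 D3343
theorem N2772 : nd 2772 = n3344 := ndS (p := 2041) (l := 5) rfl N2041 D3344
theorem N2773 : nd 2773 = n3345 := ndS (p := 2041) (l := 8) rfl N2041 D3345
theorem N2774 : nd 2774 = n3346 := ndS (p := 2042) (l := 6) rfl N2042 D3346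
theorem N2775 : nd 2775 = n3347 := ndS (p := 2043) (l := 5) rfl N2043 D3347
theorem N2776 : nd 2776 = n3348 := ndS (p := 2043) (l := 8) rfl N2043 D3348
theorem N2777 : nd 2777 = n3349 := ndS (p := 2044) (l := 4) rfl N2044 D3349
theorem N2778 : nd 2778 = n3350 := ndS (p := 2044) (l := 6) rfl N2044 D3350
theorem N2779 : nd 2779 = n3351 := ndS (p := 2044) (l := 8) rfl N2044 D3351
theorem N2780 : nd 2780 = n3352 := ndS (p := 2045) (l := 9) rfl N2045 D3352
theorem N2781 : nd 2781 = n3353 := ndS (p := 2046) (l := 7) rfl N2046 D3353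
theorem N2782 : nd 2782 = n3354 := ndS (p := 2047) (l := 6) rfl N2047 D3354
theorem N2783 : nd 2783 = n3355 := ndS (p := 2047) (l := 8) rfl N2047 D3355
theorem N2784 : nd 2784 = n3356 := ndS (p := 2048) (l := 7) rfl N2048 D3356
theorem N2785 : nd 2785 = n3357 := ndS (p := 2048) (l := 8) rfl N2048 D3357
theorem N2786 : nd 2786 = n3358 := ndS (p := 2049) (l := 9) rfl N2049 D3358
theorem N2787 : nd 2787 = n3360 := ndS (p := 2052) (l := 5) rfl N2052 D3360
theorem N2788 : nd 2788 = n3362 := ndS (p := 2053) (l := 6) rfl N2053 D3362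
theorem N2789 : nd 2789 = n3363 := ndS (p := 2054) (l := 5) rfl N2054 D3363
theorem N2790 : nd 2790 = n3365 := ndS (p := 2055) (l := 4) rfl N2055 D3365
theorem N2791 : nd 2791 = n3366 := ndS (p := 2055) (l := 6) rfl N2055 D3366
theorem N2792 : nd 2792 = n3367 := ndS (p := 2055) (l := 8) rfl N2055 D3367
theorem N2793 : nd 2793 = n3369 := ndS (p := 2057) (l := 7) rfl N2057 D3369
theorem N2794 : nd 2794 = n3370 := ndS (p := 2058) (l := 6) rfl N2058 D3370
theorem N2795 : nd 2795 = n3371 := ndS (p := 2058) (l := 8) rfl N2058 D3371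
theorem N2796 : nd 2796 = n3372 := ndS (p := 2059) (l := 7) rfl N2059 D3372
theorem N2797 : nd 2797 = n3373 := ndS (p := 2059) (l := 8) rfl N2059 D3373
theorem N2798 : nd 2798 = n3374 := ndS (p := 2060) (l := 9) rfl N2060 D3374
theorem N2799 : nd 2799 = n3376 := ndS (p := 2063) (l := 5) rfl N2063 D3376
theorem N2800 : nd 2800 = n3378 := ndS (p := 2064) (l := 4) rfl N2064 D3378
theorem N2801 : nd 2801 = n3379 := ndS (p := 2064) (l := 6) rfl N2064 D3379
theorem N2802 : nd 2802 = n3380 := ndS (p := 2064) (l := 8) rfl N2064 D3380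
theorem N2803 : nd 2803 = n3382 := ndS (p := 2066) (l := 7) rfl N2066 D3382
theorem N2804 : nd 2804 = n3383 := ndS (p := 2067) (l := 4) rfl N2067 D3383
theorem N2805 : nd 2805 = n3384 := ndS (p := 2067) (l := 6) rfl N2067 D3384
theorem N2806 : nd 2806 = n3385 := ndS (p := 2067) (l := 8) rfl N2067 D3385
theorem N2807 : nd 2807 = n3387 := ndS (p := 2069) (l := 6) rfl N2069 D3387
theorem N2808 : nd 2808 = n3388 := ndS (p := 2069) (l := 8) rfl N2069 D3388
theorem N2809 : nd 2809 = n3389 := ndS (p := 2070) (l := 7) rfl N2070 D3389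
theorem N2810 : nd 2810 = n3390 := ndS (p := 2070) (l := 8) rfl N2070 D3390
theorem N2811 : nd 2811 = n3391 := ndS (p := 2071) (l := 9) rfl N2071 D3391
theorem N2812 : nd 2812 = n3392 := ndS (p := 2074) (l := 5) rfl N2074 D3392
theorem N2813 : nd 2813 = n3393 := ndS (p := 2074) (l := 7) rfl N2074 D3393
theorem N2814 : nd 2814 = n3394 := ndS (p := 2074) (l := 8) rfl N2074 D3394
theorem N2815 : nd 2815 = n3395 := ndS (p := 2075) (l := 3) rfl N2075 D3395
theorem N2816 : nd 2816 = n3396 := ndS (p := 2075) (l := 9) rfl N2075 D3396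
theorem N2817 : nd 2817 = n3397 := ndS (p := 2076) (l := 8) rfl N2076 D3397
theorem N2818 : nd 2818 = n3398 := ndS (p := 2077) (l := 9) rfl N2077 D3398
theorem N2819 : nd 2819 = n3399 := ndS (p := 2079) (l := 3) rfl N2079 D3399
theorem N2820 : nd 2820 = n3400 := ndS (p := 2079) (l := 5) rfl N2079 D3400
theorem N2821 : nd 2821 = n3401 := ndS (p := 2080) (l := 2) rfl N2080 D3401
theorem N2822 : nd 2822 = n3402 := ndS (p := 2080) (l := 5) rfl N2080 D3402
theorem N2823 : nd 2823 = n3403 := ndS (p := 2080) (l := 8) rfl N2080 D3403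
theorem N2824 : nd 2824 = n3404 := ndS (p := 2081) (l := 6) rfl N2081 D3404
theorem N2825 : nd 2825 = n3405 := ndS (p := 2082) (l := 4) rfl N2082 D3405
theorem N2826 : nd 2826 = n3406 := ndS (p := 2082) (l := 6) rfl N2082 D3406
theorem N2827 : nd 2827 = n3407 := ndS (p := 2082) (l := 8) rfl N2082 D3407
theorem N2828 : nd 2828 = n3408 := ndS (p := 2083) (l := 9) rfl N2083 D3408
theorem N2829 : nd 2829 = n3409 := ndS (p := 2084) (l := 7) rfl N2084 D3409
theorem N2830 : nd 2830 = n3410 := ndS (p := 2086) (l := 2) rfl N2086 D3410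
theorem N2831 : nd 2831 = n3411 := ndS (p := 2086) (l := 5) rfl N2086 D3411
theorem N2832 : nd 2832 = n3412 := ndS (p := 2086) (l := 8) rfl N2086 D3412
theorem N2833 : nd 2833 = n3413 := ndS (p := 2087) (l := 6) rfl N2087 D3413
theorem N2834 : nd 2834 = n3414 := ndS (p := 2088) (l := 5) rfl N2088 D3414
theorem N2835 : nd 2835 = n3415 := ndS (p := 2088) (l := 8) rfl N2088 D3415
theorem N2836 : nd 2836 = n3416 := ndS (p := 2089) (l := 4) rfl N2089 D3416
theorem N2837 : nd 2837 = n3417 := ndS (p := 2089) (l := 6) rfl N2089 D3417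
theorem N2838 : nd 2838 = n3418 := ndS (p := 2089) (l := 8) rfl N2089 D3418
theorem N2839 : nd 2839 = n3419 := ndS (p := 2090) (l := 9) rfl N2090 D3419
theorem N2840 : nd 2840 = n3420 := ndS (p := 2091) (l := 7) rfl N2091 D3420
theorem N2841 : nd 2841 = n3421 := ndS (p := 2092) (l := 6) rfl N2092 D3421
theorem N2842 : nd 2842 = n3422 := ndS (p := 2092) (l := 8) rfl N2092 D3422
theorem N2843 : nd 2843 = n3423 := ndS (p := 2093) (l := 7) rfl N2093 D3423
theorem N2844 : nd 2844 = n3424 := ndS (p := 2093) (l := 8) rfl N2093 D3424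
theorem N2845 : nd 2845 = n3425 := ndS (p := 2094) (l := 9) rfl N2094 D3425
theorem N2846 : nd 2846 = n3427 := ndS (p := 2097) (l := 5) rfl N2097 D3427
theorem N2847 : nd 2847 = n3428 := ndS (p := 2097) (l := 8) rfl N2097 D3428
theorem N2848 : nd 2848 = n3429 := ndS (p := 2098) (l := 4) rfl N2098 D3429
theorem N2849 : nd 2849 = n3430 := ndS (p := 2098) (l := 6) rfl N2098 D3430
theorem N2850 : nd 2850 = n3431 := ndS (p := 2098) (l := 8) rfl N2098 D3431
theorem N2851 : nd 2851 = n3432 := ndS (p := 2099) (l := 9) rfl N2099 D3432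
theorem N2852 : nd 2852 = n3433 := ndS (p := 2100) (l := 7) rfl N2100 D3433
theorem N2853 : nd 2853 = n3434 := ndS (p := 2101) (l := 4) rfl N2101 D3434
theorem N2854 : nd 2854 = n3435 := ndS (p := 2101) (l := 6) rfl N2101 D3435
theorem N2855 : nd 2855 = n3436 := ndS (p := 2101) (l := 8) rfl N2101 D3436
theorem N2856 : nd 2856 = n3437 := ndS (p := 2102) (l := 3) rfl N2102 D3437
theorem N2857 : nd 2857 = n3438 := ndS (p := 2102) (l := 9) rfl N2102 D3438
theorem N2858 : nd 2858 = n3439 := ndS (p := 2103) (l := 6) rfl N2103 D3439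
theorem N2859 : nd 2859 = n3440 := ndS (p := 2103) (l := 8) rfl N2103 D3440
theorem N2860 : nd 2860 = n3441 := ndS (p := 2104) (l := 7) rfl N2104 D3441
theorem N2861 : nd 2861 = n3442 := ndS (p := 2104) (l := 8) rfl N2104 D3442
theorem N2862 : nd 2862 = n3443 := ndS (p := 2105) (l := 9) rfl N2105 D3443
theorem N2863 : nd 2863 = n3444 := ndS (p := 2108) (l := 5) rfl N2108 D3444
theorem N2864 : nd 2864 = n3445 := ndS (p := 2108) (l := 7) rfl N2108 D3445
theorem N2865 : nd 2865 = n3446 := ndS (p := 2108) (l := 8) rfl N2108 D3446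
theorem N2866 : nd 2866 = n3447 := ndS (p := 2109) (l := 3) rfl N2109 D3447
theorem N2867 : nd 2867 = n3448 := ndS (p := 2109) (l := 9) rfl N2109 D3448
theorem N2868 : nd 2868 = n3449 := ndS (p := 2110) (l := 8) rfl N2110 D3449
theorem N2869 : nd 2869 = n3450 := ndS (p := 2111) (l := 9) rfl N2111 D3450
theorem N2870 : nd 2870 = n3451 := ndS (p := 2113) (l := 6) rfl N2113 D3451
theorem N2871 : nd 2871 = n3452 := ndS (p := 2113) (l := 8) rfl N2113 D3452
theorem N2872 : nd 2872 = n3453 := ndS (p := 2114) (l := 7) rfl N2114 D3453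
theorem N2873 : nd 2873 = n3454 := ndS (p := 2114) (l := 8) rfl N2114 D3454
theorem N2874 : nd 2874 = n3455 := ndS (p := 2115) (l := 9) rfl N2115 D3455
theorem N2875 : nd 2875 = n3456 := ndS (p := 2118) (l := 5) rfl N2118 D3456
theorem N2876 : nd 2876 = n3457 := ndS (p := 2118) (l := 7) rfl N2118 D3457
theorem N2877 : nd 2877 = n3458 := ndS (p := 2118) (l := 8) rfl N2118 D3458
theorem N2878 : nd 2878 = n3459 := ndS (p := 2119) (l := 3) rfl N2119 D3459
theorem N2879 : nd 2879 = n3460 := ndS (p := 2119) (l := 9) rfl N2119 D3460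
theorem N2880 : nd 2880 = n3461 := ndS (p := 2120) (l := 8) rfl N2120 D3461
theorem N2881 : nd 2881 = n3462 := ndS (p := 2121) (l := 9) rfl N2121 D3462
theorem N2882 : nd 2882 = n3463 := ndS (p := 2123) (l := 7) rfl N2123 D3463
theorem N2883 : nd 2883 = n3464 := ndS (p := 2123) (l := 8) rfl N2123 D3464
theorem N2884 : nd 2884 = n3465 := ndS (p := 2124) (l := 8) rfl N2124 D3465
theorem N2885 : nd 2885 = n3466 := ndS (p := 2125) (l := 3) rfl N2125 D3466
theorem N2886 : nd 2886 = n3467 := ndS (p := 2125) (l := 9) rfl N2125 D3467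
theorem N2887 : nd 2887 = n3468 := ndS (p := 2126) (l := 2) rfl N2126 D3468
theorem N2888 : nd 2888 = n3469 := ndS (p := 2126) (l := 9) rfl N2126 D3469
theorem N2889 : nd 2889 = n3470 := ndS (p := 2128) (l := 9) rfl N2128 D3470
theorem N2890 : nd 2890 = n3471 := ndS (p := 2130) (l := 6) rfl N2130 D3471
theorem N2891 : nd 2891 = n3472 := ndS (p := 2130) (l := 8) rfl N2130 D3472
theorem N2892 : nd 2892 = n3473 := ndS (p := 2131) (l := 3) rfl N2131 D3473
theorem N2893 : nd 2893 = n3474 := ndS (p := 2131) (l := 9) rfl N2131 D3474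
theorem N2894 : nd 2894 = n3477 := ndS (p := 2133) (l := 2) rfl N2133 D3477
theorem N2895 : nd 2895 = n3479 := ndS (p := 2135) (l := 1) rfl N2135 D3479
theorem N2896 : nd 2896 = n3480 := ndS (p := 2135) (l := 9) rfl N2135 D3480
theorem N2897 : nd 2897 = n3482 := ndS (p := 2138) (l := 3) rfl N2138 D3482
theorem N2898 : nd 2898 = n3483 := ndS (p := 2138) (l := 5) rfl N2138 D3483
theorem N2899 : nd 2899 = n3484 := ndS (p := 2138) (l := 9) rfl N2138 D3484
theorem N2900 : nd 2900 = n3486 := ndS (p := 2140) (l := 9) rfl N2140 D3486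
theorem N2901 : nd 2901 = n3487 := ndS (p := 2141) (l := 8) rfl N2141 D3487
theorem N2902 : nd 2902 = n3488 := ndS (p := 2142) (l := 3) rfl N2142 D3488
theorem N2903 : nd 2903 = n3489 := ndS (p := 2143) (l := 2) rfl N2143 D3489
theorem N2904 : nd 2904 = n3490 := ndS (p := 2143) (l := 4) rfl N2143 D3490
theorem N2905 : nd 2905 = n3491 := ndS (p := 2144) (l := 1) rfl N2144 D3491
theorem N2906 : nd 2906 = n3492 := ndS (p := 2144) (l := 4) rfl N2144 D3492
theorem N2907 : nd 2907 = n3493 := ndS (p := 2145) (l := 5) rfl N2145 D3493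
theorem N2908 : nd 2908 = n3494 := ndS (p := 2146) (l := 8) rfl N2146 D3494
theorem N2909 : nd 2909 = n3495 := ndS (p := 2146) (l := 9) rfl N2146 D3495
theorem N2910 : nd 2910 = n3498 := ndS (p := 2148) (l := 3) rfl N2148 D3498
theorem N2911 : nd 2911 = n3500 := ndS (p := 2149) (l := 4) rfl N2149 D3500
theorem N2912 : nd 2912 = n3501 := ndS (p := 2150) (l := 1) rfl N2150 D3501
theorem N2913 : nd 2913 = n3502 := ndS (p := 2150) (l := 4) rfl N2150 D3502
theorem N2914 : nd 2914 = n3503 := ndS (p := 2151) (l := 5) rfl N2151 D3503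
theorem N2915 : nd 2915 = n3504 := ndS (p := 2152) (l := 0) rfl N2152 D3504
theorem N2916 : nd 2916 = n3505 := ndS (p := 2152) (l := 4) rfl N2152 D3505
theorem N2917 : nd 2917 = n3506 := ndS (p := 2153) (l := 3) rfl N2153 D3506
theorem N2918 : nd 2918 = n3507 := ndS (p := 2153) (l := 5) rfl N2153 D3507
theorem N2919 : nd 2919 = n3508 := ndS (p := 2154) (l := 6) rfl N2154 D3508
theorem N2920 : nd 2920 = n3515 := ndS (p := 2157) (l := 4) rfl N2157 D3515
theorem N2921 : nd 2921 = n3518 := ndS (p := 2158) (l := 5) rfl N2158 D3518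
theorem N2922 : nd 2922 = n3520 := ndS (p := 2159) (l := 4) rfl N2159 D3520
theorem N2923 : nd 2923 = n3521 := ndS (p := 2160) (l := 3) rfl N2160 D3521
theorem N2924 : nd 2924 = n3522 := ndS (p := 2160) (l := 5) rfl N2160 D3522
theorem N2925 : nd 2925 = n3523 := ndS (p := 2161) (l := 6) rfl N2161 D3523
theorem N2926 : nd 2926 = n3524 := ndS (p := 2162) (l := 4) rfl N2162 D3524
theorem N2927 : nd 2927 = n3525 := ndS (p := 2163) (l := 3) rfl N2163 D3525
theorem N2928 : nd 2928 = n3526 := ndS (p := 2163) (l := 5) rfl N2163 D3526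
theorem N2929 : nd 2929 = n3527 := ndS (p := 2164) (l := 5) rfl N2164 D3527
theorem N2930 : nd 2930 = n3528 := ndS (p := 2164) (l := 8) rfl N2164 D3528
theorem N2931 : nd 2931 = n3529 := ndS (p := 2165) (l := 6) rfl N2165 D3529
theorem N2932 : nd 2932 = n3530 := ndS (p := 2166) (l := 7) rfl N2166 D3530
theorem N2933 : nd 2933 = n3535 := ndS (p := 2167) (l := 5) rfl N2167 D3535
theorem N2934 : nd 2934 = n3537 := ndS (p := 2168) (l := 4) rfl N2168 D3537
theorem N2935 : nd 2935 = n3538 := ndS (p := 2169) (l := 3) rfl N2169 D3538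
theorem N2936 : nd 2936 = n3539 := ndS (p := 2169) (l := 5) rfl N2169 D3539
theorem N2937 : nd 2937 = n3540 := ndS (p := 2170) (l := 6) rfl N2170 D3540
theorem N2938 : nd 2938 = n3541 := ndS (p := 2171) (l := 4) rfl N2171 D3541
theorem N2939 : nd 2939 = n3542 := ndS (p := 2172) (l := 3) rfl N2172 D3542
theorem N2940 : nd 2940 = n3543 := ndS (p := 2172) (l := 5) rfl N2172 D3543
theorem N2941 : nd 2941 = n3544 := ndS (p := 2173) (l := 5) rfl N2173 D3544
theorem N2942 : nd 2942 = n3545 := ndS (p := 2173) (l := 8) rfl N2173 D3545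
theorem N2943 : nd 2943 = n3546 := ndS (p := 2174) (l := 6) rfl N2174 D3546
theorem N2944 : nd 2944 = n3547 := ndS (p := 2175) (l := 7) rfl N2175 D3547
theorem N2945 : nd 2945 = n3555 := ndS (p := 2176) (l := 6) rfl N2176 D3555
theorem N2946 : nd 2946 = n3557 := ndS (p := 2177) (l := 3) rfl N2177 D3557
theorem N2947 : nd 2947 = n3558 := ndS (p := 2177) (l := 5) rfl N2177 D3558
theorem N2948 : nd 2948 = n3559 := ndS (p := 2178) (l := 5) rfl N2178 D3559
theorem N2949 : nd 2949 = n3561 := ndS (p := 2179) (l := 6) rfl N2179 D3561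
theorem N2950 : nd 2950 = n3562 := ndS (p := 2180) (l := 7) rfl N2180 D3562
theorem N2951 : nd 2951 = n3563 := ndS (p := 2181) (l := 3) rfl N2181 D3563
theorem N2952 : nd 2952 = n3564 := ndS (p := 2181) (l := 5) rfl N2181 D3564
theorem N2953 : nd 2953 = n3565 := ndS (p := 2182) (l := 2) rfl N2182 D3565
theorem N2954 : nd 2954 = n3566 := ndS (p := 2182) (l := 5) rfl N2182 D3566
theorem N2955 : nd 2955 = n3567 := ndS (p := 2182) (l := 8) rfl N2182 D3567
theorem N2956 : nd 2956 = n3568 := ndS (p := 2183) (l := 6) rfl N2183 D3568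
theorem N2957 : nd 2957 = n3569 := ndS (p := 2184) (l := 4) rfl N2184 D3569
theorem N2958 : nd 2958 = n3570 := ndS (p := 2184) (l := 6) rfl N2184 D3570
theorem N2959 : nd 2959 = n3571 := ndS (p := 2184) (l := 8) rfl N2184 D3571
theorem N2960 : nd 2960 = n3572 := ndS (p := 2185) (l := 9) rfl N2185 D3572
theorem N2961 : nd 2961 = n3573 := ndS (p := 2186) (l := 7) rfl N2186 D3573
theorem N2962 : nd 2962 = n3585 := ndS (p := 2188) (l := 7) rfl N2188 D3585
theorem N2963 : nd 2963 = n3588 := ndS (p := 2189) (l := 2) rfl N2189 D3588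
theorem N2964 : nd 2964 = n3589 := ndS (p := 2189) (l := 5) rfl N2189 D3589
theorem N2965 : nd 2965 = n3591 := ndS (p := 2190) (l := 6) rfl N2190 D3591
theorem N2966 : nd 2966 = n3592 := ndS (p := 2191) (l := 4) rfl N2191 D3592
theorem N2967 : nd 2967 = n3593 := ndS (p := 2191) (l := 6) rfl N2191 D3593
theorem N2968 : nd 2968 = n3596 := ndS (p := 2192) (l := 7) rfl N2192 D3596
theorem N2969 : nd 2969 = n3597 := ndS (p := 2194) (l := 2) rfl N2194 D3597
theorem N2970 : nd 2970 = n3598 := ndS (p := 2194) (l := 5) rfl N2194 D3598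
theorem N2971 : nd 2971 = n3599 := ndS (p := 2194) (l := 8) rfl N2194 D3599
theorem N2972 : nd 2972 = n3600 := ndS (p := 2195) (l := 6) rfl N2195 D3600
theorem N2973 : nd 2973 = n3601 := ndS (p := 2196) (l := 5) rfl N2196 D3601
theorem N2974 : nd 2974 = n3602 := ndS (p := 2196) (l := 8) rfl N2196 D3602
theorem N2975 : nd 2975 = n3603 := ndS (p := 2197) (l := 4) rfl N2197 D3603
theorem N2976 : nd 2976 = n3604 := ndS (p := 2197) (l := 6) rfl N2197 D3604
theorem N2977 : nd 2977 = n3605 := ndS (p := 2197) (l := 8) rfl N2197 D3605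
theorem N2978 : nd 2978 = n3606 := ndS (p := 2198) (l := 9) rfl N2198 D3606
theorem N2979 : nd 2979 = n3607 := ndS (p := 2199) (l := 7) rfl N2199 D3607
theorem N2980 : nd 2980 = n3608 := ndS (p := 2200) (l := 6) rfl N2200 D3608
theorem N2981 : nd 2981 = n3609 := ndS (p := 2200) (l := 8) rfl N2200 D3609
theorem N2982 : nd 2982 = n3610 := ndS (p := 2201) (l := 7) rfl N2201 D3610
theorem N2983 : nd 2983 = n3611 := ndS (p := 2201) (l := 8) rfl N2201 D3611
theorem N2984 : nd 2984 = n3612 := ndS (p := 2202) (l := 9) rfl N2202 D3612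
theorem N2985 : nd 2985 = n3613 := ndS (p := 2205) (l := 4) rfl N2205 D3613
theorem N2986 : nd 2986 = n3614 := ndS (p := 2206) (l := 3) rfl N2206 D3614
theorem N2987 : nd 2987 = n3615 := ndS (p := 2206) (l := 5) rfl N2206 D3615
theorem N2988 : nd 2988 = n3616 := ndS (p := 2207) (l := 5) rfl N2207 D3616
theorem N2989 : nd 2989 = n3617 := ndS (p := 2207) (l := 8) rfl N2207 D3617
theorem N2990 : nd 2990 = n3618 := ndS (p := 2208) (l := 6) rfl N2208 D3618
theorem N2991 : nd 2991 = n3619 := ndS (p := 2209) (l := 7) rfl N2209 D3619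
theorem N2992 : nd 2992 = n3620 := ndS (p := 2210) (l := 3) rfl N2210 D3620
theorem N2993 : nd 2993 = n3621 := ndS (p := 2210) (l := 5) rfl N2210 D3621
theorem N2994 : nd 2994 = n3622 := ndS (p := 2211) (l := 2) rfl N2211 D3622
theorem N2995 : nd 2995 = n3623 := ndS (p := 2211) (l := 5) rfl N2211 D3623
theorem N2996 : nd 2996 = n3624 := ndS (p := 2211) (l := 8) rfl N2211 D3624
theorem N2997 : nd 2997 = n3625 := ndS (p := 2212) (l := 6) rfl N2212 D3625
theorem N2998 : nd 2998 = n3626 := ndS (p := 2213) (l := 4) rfl N2213 D3626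
theorem N2999 : nd 2999 = n3627 := ndS (p := 2213) (l := 6) rfl N2213 D3627
theorem N3000 : nd 3000 = n3628 := ndS (p := 2213) (l := 8) rfl N2213 D3628
theorem N3001 : nd 3001 = n3629 := ndS (p := 2214) (l := 9) rfl N2214 D3629
theorem N3002 : nd 3002 = n3630 := ndS (p := 2215) (l := 7) rfl N2215 D3630
theorem N3003 : nd 3003 = n3631 := ndS (p := 2217) (l := 3) rfl N2217 D3631
theorem N3004 : nd 3004 = n3632 := ndS (p := 2217) (l := 5) rfl N2217 D3632
theorem N3005 : nd 3005 = n3633 := ndS (p := 2218) (l := 2) rfl N2218 D3633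
theorem N3006 : nd 3006 = n3634 := ndS (p := 2218) (l := 5) rfl N2218 D3634
theorem N3007 : nd 3007 = n3635 := ndS (p := 2218) (l := 8) rfl N2218 D3635
theorem N3008 : nd 3008 = n3636 := ndS (p := 2219) (l := 6) rfl N2219 D3636
theorem N3009 : nd 3009 = n3637 := ndS (p := 2220) (l := 4) rfl N2220 D3637
theorem N3010 : nd 3010 = n3638 := ndS (p := 2220) (l := 6) rfl N2220 D3638
theorem N3011 : nd 3011 = n3639 := ndS (p := 2220) (l := 8) rfl N2220 D3639
theorem N3012 : nd 3012 = n3640 := ndS (p := 2221) (l := 9) rfl N2221 D3640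
theorem N3013 : nd 3013 = n3641 := ndS (p := 2222) (l := 7) rfl N2222 D3641
theorem N3014 : nd 3014 = n3642 := ndS (p := 2224) (l := 2) rfl N2224 D3642
theorem N3015 : nd 3015 = n3643 := ndS (p := 2224) (l := 5) rfl N2224 D3643
theorem N3016 : nd 3016 = n3645 := ndS (p := 2225) (l := 6) rfl N2225 D3645
theorem N3017 : nd 3017 = n3646 := ndS (p := 2226) (l := 5) rfl N2226 D3646
theorem N3018 : nd 3018 = n3647 := ndS (p := 2226) (l := 8) rfl N2226 D3647
theorem N3019 : nd 3019 = n3648 := ndS (p := 2227) (l := 4) rfl N2227 D3648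
theorem N3020 : nd 3020 = n3649 := ndS (p := 2227) (l := 6) rfl N2227 D3649
theorem N3021 : nd 3021 = n3650 := ndS (p := 2227) (l := 8) rfl N2227 D3650
theorem N3022 : nd 3022 = n3652 := ndS (p := 2229) (l := 7) rfl N2229 D3652
theorem N3023 : nd 3023 = n3653 := ndS (p := 2230) (l := 6) rfl N2230 D3653
theorem N3024 : nd 3024 = n3654 := ndS (p := 2230) (l := 8) rfl N2230 D3654
theorem N3025 : nd 3025 = n3655 := ndS (p := 2231) (l := 7) rfl N2231 D3655
theorem N3026 : nd 3026 = n3656 := ndS (p := 2231) (l := 8) rfl N2231 D3656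
theorem N3027 : nd 3027 = n3657 := ndS (p := 2232) (l := 9) rfl N2232 D3657
theorem N3028 : nd 3028 = n3658 := ndS (p := 2235) (l := 2) rfl N2235 D3658
theorem N3029 : nd 3029 = n3659 := ndS (p := 2235) (l := 5) rfl N2235 D3659
theorem N3030 : nd 3030 = n3661 := ndS (p := 2236) (l := 6) rfl N2236 D3661
theorem N3031 : nd 3031 = n3662 := ndS (p := 2237) (l := 5) rfl N2237 D3662
theorem N3032 : nd 3032 = n3663 := ndS (p := 2237) (l := 8) rfl N2237 D3663
theorem N3033 : nd 3033 = n3664 := ndS (p := 2238) (l := 4) rfl N2238 D3664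
theorem N3034 : nd 3034 = n3665 := ndS (p := 2238) (l := 6) rfl N2238 D3665
theorem N3035 : nd 3035 = n3666 := ndS (p := 2238) (l := 8) rfl N2238 D3666
theorem N3036 : nd 3036 = n3668 := ndS (p := 2240) (l := 7) rfl N2240 D3668
theorem N3037 : nd 3037 = n3669 := ndS (p := 2241) (l := 6) rfl N2241 D3669
theorem N3038 : nd 3038 = n3670 := ndS (p := 2241) (l := 8) rfl N2241 D3670
theorem N3039 : nd 3039 = n3671 := ndS (p := 2242) (l := 7) rfl N2242 D3671
theorem N3040 : nd 3040 = n3672 := ndS (p := 2242) (l := 8) rfl N2242 D3672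
theorem N3041 : nd 3041 = n3673 := ndS (p := 2243) (l := 9) rfl N2243 D3673
theorem N3042 : nd 3042 = n3675 := ndS (p := 2246) (l := 5) rfl N2246 D3675
theorem N3043 : nd 3043 = n3677 := ndS (p := 2247) (l := 4) rfl N2247 D3677
theorem N3044 : nd 3044 = n3678 := ndS (p := 2247) (l := 6) rfl N2247 D3678
theorem N3045 : nd 3045 = n3681 := ndS (p := 2248) (l := 7) rfl N2248 D3681
theorem N3046 : nd 3046 = n3682 := ndS (p := 2249) (l := 4) rfl N2249 D3682
theorem N3047 : nd 3047 = n3683 := ndS (p := 2249) (l := 6) rfl N2249 D3683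
theorem N3048 : nd 3048 = n3684 := ndS (p := 2249) (l := 8) rfl N2249 D3684
theorem N3049 : nd 3049 = n3685 := ndS (p := 2250) (l := 3) rfl N2250 D3685
theorem N3050 : nd 3050 = n3687 := ndS (p := 2251) (l := 6) rfl N2251 D3687
theorem N3051 : nd 3051 = n3688 := ndS (p := 2251) (l := 8) rfl N2251 D3688
theorem N3052 : nd 3052 = n3689 := ndS (p := 2252) (l := 7) rfl N2252 D3689
theorem N3053 : nd 3053 = n3690 := ndS (p := 2252) (l := 8) rfl N2252 D3690
theorem N3054 : nd 3054 = n3692 := ndS (p := 2255) (l := 5) rfl N2255 D3692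
theorem N3055 : nd 3055 = n3693 := ndS (p := 2255) (l := 7) rfl N2255 D3693
theorem N3056 : nd 3056 = n3694 := ndS (p := 2255) (l := 8) rfl N2255 D3694
theorem N3057 : nd 3057 = n3695 := ndS (p := 2256) (l := 9) rfl N2256 D3695
theorem N3058 : nd 3058 = n3696 := ndS (p := 2257) (l := 8) rfl N2257 D3696
theorem N3059 : nd 3059 = n3697 := ndS (p := 2258) (l := 9) rfl N2258 D3697
theorem N3060 : nd 3060 = n3699 := ndS (p := 2260) (l := 5) rfl N2260 D3699
theorem N3061 : nd 3061 = n3701 := ndS (p := 2261) (l := 4) rfl N2261 D3701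
theorem N3062 : nd 3062 = n3702 := ndS (p := 2261) (l := 6) rfl N2261 D3702
theorem N3063 : nd 3063 = n3703 := ndS (p := 2261) (l := 8) rfl N2261 D3703
theorem N3064 : nd 3064 = n3704 := ndS (p := 2263) (l := 7) rfl N2263 D3704
theorem N3065 : nd 3065 = n3705 := ndS (p := 2264) (l := 4) rfl N2264 D3705
theorem N3066 : nd 3066 = n3706 := ndS (p := 2264) (l := 6) rfl N2264 D3706
theorem N3067 : nd 3067 = n3707 := ndS (p := 2264) (l := 8) rfl N2264 D3707
theorem N3068 : nd 3068 = n3709 := ndS (p := 2266) (l := 6) rfl N2266 D3709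
theorem N3069 : nd 3069 = n3710 := ndS (p := 2266) (l := 8) rfl N2266 D3710
theorem N3070 : nd 3070 = n3711 := ndS (p := 2267) (l := 7) rfl N2267 D3711
theorem N3071 : nd 3071 = n3712 := ndS (p := 2267) (l := 8) rfl N2267 D3712
theorem N3072 : nd 3072 = n3713 := ndS (p := 2270) (l := 5) rfl N2270 D3713
theorem N3073 : nd 3073 = n3714 := ndS (p := 2270) (l := 7) rfl N2270 D3714
theorem N3074 : nd 3074 = n3715 := ndS (p := 2270) (l := 8) rfl N2270 D3715
theorem N3075 : nd 3075 = n3716 := ndS (p := 2271) (l := 3) rfl N2271 D3716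
theorem N3076 : nd 3076 = n3717 := ndS (p := 2272) (l := 8) rfl N2272 D3717
theorem N3077 : nd 3077 = n3718 := ndS (p := 2274) (l := 5) rfl N2274 D3718
theorem N3078 : nd 3078 = n3719 := ndS (p := 2275) (l := 4) rfl N2275 D3719
theorem N3079 : nd 3079 = n3720 := ndS (p := 2275) (l := 6) rfl N2275 D3720
theorem N3080 : nd 3080 = n3721 := ndS (p := 2276) (l := 6) rfl N2276 D3721
theorem N3081 : nd 3081 = n3722 := ndS (p := 2277) (l := 7) rfl N2277 D3722
theorem N3082 : nd 3082 = n3723 := ndS (p := 2279) (l := 3) rfl N2279 D3723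
theorem N3083 : nd 3083 = n3724 := ndS (p := 2279) (l := 6) rfl N2279 D3724
theorem N3084 : nd 3084 = n3725 := ndS (p := 2280) (l := 7) rfl N2280 D3725
theorem N3085 : nd 3085 = n3726 := ndS (p := 2281) (l := 5) rfl N2281 D3726
theorem N3086 : nd 3086 = n3727 := ndS (p := 2281) (l := 7) rfl N2281 D3727
theorem N3087 : nd 3087 = n3728 := ndS (p := 2283) (l := 7) rfl N2283 D3728
theorem N3088 : nd 3088 = n3729 := ndS (p := 2285) (l := 2) rfl N2285 D3729
theorem N3089 : nd 3089 = n3730 := ndS (p := 2285) (l := 5) rfl N2285 D3730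
theorem N3090 : nd 3090 = n3732 := ndS (p := 2286) (l := 6) rfl N2286 D3732
theorem N3091 : nd 3091 = n3733 := ndS (p := 2287) (l := 5) rfl N2287 D3733
theorem N3092 : nd 3092 = n3734 := ndS (p := 2287) (l := 8) rfl N2287 D3734
theorem N3093 : nd 3093 = n3735 := ndS (p := 2288) (l := 4) rfl N2288 D3735
theorem N3094 : nd 3094 = n3736 := ndS (p := 2288) (l := 6) rfl N2288 D3736
theorem N3095 : nd 3095 = n3737 := ndS (p := 2288) (l := 8) rfl N2288 D3737
theorem N3096 : nd 3096 = n3739 := ndS (p := 2290) (l := 7) rfl N2290 D3739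
theorem N3097 : nd 3097 = n3740 := ndS (p := 2291) (l := 6) rfl N2291 D3740
theorem N3098 : nd 3098 = n3741 := ndS (p := 2291) (l := 8) rfl N2291 D3741
theorem N3099 : nd 3099 = n3742 := ndS (p := 2292) (l := 7) rfl N2292 D3742
theorem N3100 : nd 3100 = n3743 := ndS (p := 2292) (l := 8) rfl N2292 D3743
theorem N3101 : nd 3101 = n3744 := ndS (p := 2293) (l := 9) rfl N2293 D3744
theorem N3102 : nd 3102 = n3746 := ndS (p := 2296) (l := 5) rfl N2296 D3746
theorem N3103 : nd 3103 = n3748 := ndS (p := 2297) (l := 4) rfl N2297 D3748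
theorem N3104 : nd 3104 = n3749 := ndS (p := 2297) (l := 6) rfl N2297 D3749
theorem N3105 : nd 3105 = n3752 := ndS (p := 2298) (l := 7) rfl N2298 D3752
theorem N3106 : nd 3106 = n3753 := ndS (p := 2299) (l := 4) rfl N2299 D3753
theorem N3107 : nd 3107 = n3754 := ndS (p := 2299) (l := 6) rfl N2299 D3754
theorem N3108 : nd 3108 = n3755 := ndS (p := 2299) (l := 8) rfl N2299 D3755
theorem N3109 : nd 3109 = n3756 := ndS (p := 2300) (l := 3) rfl N2300 D3756
theorem N3110 : nd 3110 = n3758 := ndS (p := 2301) (l := 6) rfl N2301 D3758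
theorem N3111 : nd 3111 = n3759 := ndS (p := 2301) (l := 8) rfl N2301 D3759
theorem N3112 : nd 3112 = n3760 := ndS (p := 2302) (l := 7) rfl N2302 D3760
theorem N3113 : nd 3113 = n3761 := ndS (p := 2302) (l := 8) rfl N2302 D3761
theorem N3114 : nd 3114 = n3763 := ndS (p := 2305) (l := 7) rfl N2305 D3763
theorem N3115 : nd 3115 = n3764 := ndS (p := 2305) (l := 8) rfl N2305 D3764
theorem N3116 : nd 3116 = n3765 := ndS (p := 2306) (l := 3) rfl N2306 D3765
theorem N3117 : nd 3117 = n3766 := ndS (p := 2306) (l := 9) rfl N2306 D3766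
theorem N3118 : nd 3118 = n3767 := ndS (p := 2307) (l := 8) rfl N2307 D3767
theorem N3119 : nd 3119 = n3768 := ndS (p := 2308) (l := 9) rfl N2308 D3768
theorem N3120 : nd 3120 = n3771 := ndS (p := 2310) (l := 6) rfl N2310 D3771
theorem N3121 : nd 3121 = n3775 := ndS (p := 2311) (l := 7) rfl N2311 D3775
theorem N3122 : nd 3122 = n3778 := ndS (p := 2313) (l := 7) rfl N2313 D3778
theorem N3123 : nd 3123 = n3779 := ndS (p := 2313) (l := 8) rfl N2313 D3779
theorem N3124 : nd 3124 = n3780 := ndS (p := 2314) (l := 3) rfl N2314 D3780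
theorem N3125 : nd 3125 = n3782 := ndS (p := 2315) (l := 4) rfl N2315 D3782
theorem N3126 : nd 3126 = n3784 := ndS (p := 2316) (l := 8) rfl N2316 D3784
theorem N3127 : nd 3127 = n3786 := ndS (p := 2318) (l := 9) rfl N2318 D3786
theorem N3128 : nd 3128 = n3788 := ndS (p := 2320) (l := 5) rfl N2320 D3788
theorem N3129 : nd 3129 = n3790 := ndS (p := 2321) (l := 4) rfl N2321 D3790
theorem N3130 : nd 3130 = n3791 := ndS (p := 2321) (l := 6) rfl N2321 D3791
theorem N3131 : nd 3131 = n3794 := ndS (p := 2323) (l := 4) rfl N2323 D3794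
theorem N3132 : nd 3132 = n3795 := ndS (p := 2323) (l := 6) rfl N2323 D3795
theorem N3133 : nd 3133 = n3796 := ndS (p := 2323) (l := 8) rfl N2323 D3796
theorem N3134 : nd 3134 = n3797 := ndS (p := 2324) (l := 3) rfl N2324 D3797
theorem N3135 : nd 3135 = n3799 := ndS (p := 2325) (l := 6) rfl N2325 D3799
theorem N3136 : nd 3136 = n3800 := ndS (p := 2325) (l := 8) rfl N2325 D3800
theorem N3137 : nd 3137 = n3801 := ndS (p := 2326) (l := 8) rfl N2326 D3801
theorem N3138 : nd 3138 = n3803 := ndS (p := 2328) (l := 5) rfl N2328 D3803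
theorem N3139 : nd 3139 = n3804 := ndS (p := 2328) (l := 8) rfl N2328 D3804
theorem N3140 : nd 3140 = n3805 := ndS (p := 2329) (l := 3) rfl N2329 D3805
theorem N3141 : nd 3141 = n3806 := ndS (p := 2329) (l := 9) rfl N2329 D3806
theorem N3142 : nd 3142 = n3807 := ndS (p := 2330) (l := 9) rfl N2330 D3807
theorem N3143 : nd 3143 = n3810 := ndS (p := 2332) (l := 4) rfl N2332 D3810
theorem N3144 : nd 3144 = n3816 := ndS (p := 2334) (l := 3) rfl N2334 D3816
theorem N3145 : nd 3145 = n3817 := ndS (p := 2334) (l := 8) rfl N2334 D3817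
theorem N3146 : nd 3146 = n3818 := ndS (p := 2335) (l := 3) rfl N2335 D3818
theorem N3147 : nd 3147 = n3820 := ndS (p := 2336) (l := 4) rfl N2336 D3820
theorem N3148 : nd 3148 = n3822 := ndS (p := 2337) (l := 3) rfl N2337 D3822
theorem N3149 : nd 3149 = n3824 := ndS (p := 2338) (l := 2) rfl N2338 D3824
theorem N3150 : nd 3150 = n3825 := ndS (p := 2338) (l := 9) rfl N2338 D3825
theorem N3151 : nd 3151 = n3830 := ndS (p := 2340) (l := 5) rfl N2340 D3830
theorem N3152 : nd 3152 = n3833 := ndS (p := 2341) (l := 3) rfl N2341 D3833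
theorem N3153 : nd 3153 = n3834 := ndS (p := 2341) (l := 5) rfl N2341 D3834
theorem N3154 : nd 3154 = n3837 := ndS (p := 2342) (l := 5) rfl N2342 D3837
theorem N3155 : nd 3155 = n3838 := ndS (p := 2342) (l := 8) rfl N2342 D3838
theorem N3156 : nd 3156 = n3839 := ndS (p := 2342) (l := 9) rfl N2342 D3839
theorem N3157 : nd 3157 = n3840 := ndS (p := 2343) (l := 9) rfl N2343 D3840
theorem N3158 : nd 3158 = n3843 := ndS (p := 2345) (l := 8) rfl N2345 D3843
theorem N3159 : nd 3159 = n3844 := ndS (p := 2346) (l := 3) rfl N2346 D3844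
theorem N3160 : nd 3160 = n3846 := ndS (p := 2347) (l := 4) rfl N2347 D3846
theorem N3161 : nd 3161 = n3848 := ndS (p := 2348) (l := 4) rfl N2348 D3848
theorem N3162 : nd 3162 = n3849 := ndS (p := 2349) (l := 5) rfl N2349 D3849
theorem N3163 : nd 3163 = n3851 := ndS (p := 2350) (l := 4) rfl N2350 D3851
theorem N3164 : nd 3164 = n3852 := ndS (p := 2351) (l := 3) rfl N2351 D3852
theorem N3165 : nd 3165 = n3853 := ndS (p := 2351) (l := 5) rfl N2351 D3853
theorem N3166 : nd 3166 = n3854 := ndS (p := 2352) (l := 6) rfl N2352 D3854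
theorem N3167 : nd 3167 = n3855 := ndS (p := 2353) (l := 2) rfl N2353 D3855
theorem N3168 : nd 3168 = n3856 := ndS (p := 2353) (l := 8) rfl N2353 D3856
theorem N3169 : nd 3169 = n3866 := ndS (p := 2356) (l := 4) rfl N2356 D3866
theorem N3170 : nd 3170 = n3869 := ndS (p := 2357) (l := 5) rfl N2357 D3869
theorem N3171 : nd 3171 = n3872 := ndS (p := 2358) (l := 3) rfl N2358 D3872
theorem N3172 : nd 3172 = n3873 := ndS (p := 2358) (l := 5) rfl N2358 D3873
theorem N3173 : nd 3173 = n3874 := ndS (p := 2359) (l := 6) rfl N2359 D3874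
theorem N3174 : nd 3174 = n3876 := ndS (p := 2360) (l := 3) rfl N2360 D3876
theorem N3175 : nd 3175 = n3877 := ndS (p := 2360) (l := 5) rfl N2360 D3877
theorem N3176 : nd 3176 = n3878 := ndS (p := 2361) (l := 5) rfl N2361 D3878
theorem N3177 : nd 3177 = n3879 := ndS (p := 2361) (l := 8) rfl N2361 D3879
theorem N3178 : nd 3178 = n3880 := ndS (p := 2362) (l := 6) rfl N2362 D3880
theorem N3179 : nd 3179 = n3881 := ndS (p := 2363) (l := 7) rfl N2363 D3881
theorem N3180 : nd 3180 = n3882 := ndS (p := 2364) (l := 8) rfl N2364 D3882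
theorem N3181 : nd 3181 = n3898 := ndS (p := 2366) (l := 5) rfl N2366 D3898
theorem N3182 : nd 3182 = n3903 := ndS (p := 2367) (l := 6) rfl N2367 D3903
theorem N3183 : nd 3183 = n3907 := ndS (p := 2368) (l := 5) rfl N2368 D3907
theorem N3184 : nd 3184 = n3909 := ndS (p := 2369) (l := 6) rfl N2369 D3909
theorem N3185 : nd 3185 = n3910 := ndS (p := 2370) (l := 7) rfl N2370 D3910
theorem N3186 : nd 3186 = n3913 := ndS (p := 2371) (l := 2) rfl N2371 D3913
theorem N3187 : nd 3187 = n3914 := ndS (p := 2371) (l := 5) rfl N2371 D3914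
theorem N3188 : nd 3188 = n3915 := ndS (p := 2371) (l := 8) rfl N2371 D3915
theorem N3189 : nd 3189 = n3916 := ndS (p := 2372) (l := 6) rfl N2372 D3916
theorem N3190 : nd 3190 = n3917 := ndS (p := 2373) (l := 4) rfl N2373 D3917
theorem N3191 : nd 3191 = n3918 := ndS (p := 2373) (l := 6) rfl N2373 D3918
theorem N3192 : nd 3192 = n3919 := ndS (p := 2373) (l := 8) rfl N2373 D3919
theorem N3193 : nd 3193 = n3921 := ndS (p := 2375) (l := 7) rfl N2375 D3921
theorem N3194 : nd 3194 = n3931 := ndS (p := 2377) (l := 6) rfl N2377 D3931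
theorem N3195 : nd 3195 = n3935 := ndS (p := 2378) (l := 5) rfl N2378 D3935
theorem N3196 : nd 3196 = n3937 := ndS (p := 2379) (l := 6) rfl N2379 D3937
theorem N3197 : nd 3197 = n3938 := ndS (p := 2380) (l := 7) rfl N2380 D3938
theorem N3198 : nd 3198 = n3941 := ndS (p := 2381) (l := 2) rfl N2381 D3941
theorem N3199 : nd 3199 = n3942 := ndS (p := 2381) (l := 5) rfl N2381 D3942
theorem N3200 : nd 3200 = n3943 := ndS (p := 2381) (l := 8) rfl N2381 D3943
theorem N3201 : nd 3201 = n3944 := ndS (p := 2382) (l := 6) rfl N2382 D3944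
theorem N3202 : nd 3202 = n3945 := ndS (p := 2383) (l := 4) rfl N2383 D3945
theorem N3203 : nd 3203 = n3946 := ndS (p := 2383) (l := 6) rfl N2383 D3946
theorem N3204 : nd 3204 = n3947 := ndS (p := 2383) (l := 8) rfl N2383 D3947
theorem N3205 : nd 3205 = n3949 := ndS (p := 2385) (l := 7) rfl N2385 D3949
theorem N3206 : nd 3206 = n3964 := ndS (p := 2387) (l := 7) rfl N2387 D3964
theorem N3207 : nd 3207 = n3971 := ndS (p := 2388) (l := 4) rfl N2388 D3971
theorem N3208 : nd 3208 = n3972 := ndS (p := 2388) (l := 6) rfl N2388 D3972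
theorem N3209 : nd 3209 = n3975 := ndS (p := 2389) (l := 7) rfl N2389 D3975
theorem N3210 : nd 3210 = n3980 := ndS (p := 2391) (l := 5) rfl N2391 D3980
theorem N3211 : nd 3211 = n3982 := ndS (p := 2392) (l := 4) rfl N2392 D3982
theorem N3212 : nd 3212 = n3983 := ndS (p := 2392) (l := 6) rfl N2392 D3983
theorem N3213 : nd 3213 = n3984 := ndS (p := 2392) (l := 8) rfl N2392 D3984
theorem N3214 : nd 3214 = n3986 := ndS (p := 2394) (l := 7) rfl N2394 D3986
theorem N3215 : nd 3215 = n3987 := ndS (p := 2395) (l := 6) rfl N2395 D3987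
theorem N3216 : nd 3216 = n3988 := ndS (p := 2395) (l := 8) rfl N2395 D3988
theorem N3217 : nd 3217 = n3989 := ndS (p := 2396) (l := 7) rfl N2396 D3989
theorem N3218 : nd 3218 = n3990 := ndS (p := 2396) (l := 8) rfl N2396 D3990
theorem N3219 : nd 3219 = n4026 := ndS (p := 2400) (l := 6) rfl N2400 D4026
theorem N3220 : nd 3220 = n4028 := ndS (p := 2401) (l := 7) rfl N2401 D4028
theorem N3221 : nd 3221 = n4039 := ndS (p := 2403) (l := 4) rfl N2403 D4039
theorem N3222 : nd 3222 = n4040 := ndS (p := 2403) (l := 6) rfl N2403 D4040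
theorem N3223 : nd 3223 = n4044 := ndS (p := 2404) (l := 6) rfl N2404 D4044
theorem N3224 : nd 3224 = n4045 := ndS (p := 2404) (l := 8) rfl N2404 D4045
theorem N3225 : nd 3225 = n4046 := ndS (p := 2405) (l := 7) rfl N2405 D4046
theorem N3226 : nd 3226 = n4047 := ndS (p := 2405) (l := 8) rfl N2405 D4047
theorem N3227 : nd 3227 = n4049 := ndS (p := 2408) (l := 5) rfl N2408 D4049
theorem N3228 : nd 3228 = n4050 := ndS (p := 2408) (l := 7) rfl N2408 D4050
theorem N3229 : nd 3229 = n4051 := ndS (p := 2408) (l := 8) rfl N2408 D4051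
theorem N3230 : nd 3230 = n4052 := ndS (p := 2409) (l := 3) rfl N2409 D4052
theorem N3231 : nd 3231 = n4054 := ndS (p := 2410) (l := 8) rfl N2410 D4054
theorem N3232 : nd 3232 = n4056 := ndS (p := 2412) (l := 3) rfl N2412 D4056
theorem N3233 : nd 3233 = n4057 := ndS (p := 2412) (l := 5) rfl N2412 D4057
theorem N3234 : nd 3234 = n4059 := ndS (p := 2413) (l := 5) rfl N2413 D4059
theorem N3235 : nd 3235 = n4061 := ndS (p := 2414) (l := 6) rfl N2414 D4061
theorem N3236 : nd 3236 = n4062 := ndS (p := 2415) (l := 4) rfl N2415 D4062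
theorem N3237 : nd 3237 = n4063 := ndS (p := 2415) (l := 6) rfl N2415 D4063
theorem N3238 : nd 3238 = n4064 := ndS (p := 2415) (l := 8) rfl N2415 D4064
theorem N3239 : nd 3239 = n4066 := ndS (p := 2417) (l := 7) rfl N2417 D4066
theorem N3240 : nd 3240 = n4068 := ndS (p := 2419) (l := 5) rfl N2419 D4068
theorem N3241 : nd 3241 = n4070 := ndS (p := 2420) (l := 6) rfl N2420 D4070
theorem N3242 : nd 3242 = n4073 := ndS (p := 2421) (l := 4) rfl N2421 D4073
theorem N3243 : nd 3243 = n4074 := ndS (p := 2421) (l := 6) rfl N2421 D4074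
theorem N3244 : nd 3244 = n4077 := ndS (p := 2422) (l := 7) rfl N2422 D4077
theorem N3245 : nd 3245 = n4084 := ndS (p := 2427) (l := 5) rfl N2427 D4084
theorem N3246 : nd 3246 = n4086 := ndS (p := 2428) (l := 6) rfl N2428 D4086
theorem N3247 : nd 3247 = n4089 := ndS (p := 2429) (l := 4) rfl N2429 D4089
theorem N3248 : nd 3248 = n4090 := ndS (p := 2429) (l := 6) rfl N2429 D4090
theorem N3249 : nd 3249 = n4093 := ndS (p := 2430) (l := 7) rfl N2430 D4093
theorem N3250 : nd 3250 = n4094 := ndS (p := 2431) (l := 6) rfl N2431 D4094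
theorem N3251 : nd 3251 = n4095 := ndS (p := 2431) (l := 8) rfl N2431 D4095
theorem N3252 : nd 3252 = n4096 := ndS (p := 2432) (l := 7) rfl N2432 D4096
theorem N3253 : nd 3253 = n4097 := ndS (p := 2432) (l := 8) rfl N2432 D4097
theorem N3254 : nd 3254 = n4102 := ndS (p := 2435) (l := 4) rfl N2435 D4102
theorem N3255 : nd 3255 = n4103 := ndS (p := 2435) (l := 6) rfl N2435 D4103
theorem N3256 : nd 3256 = n4106 := ndS (p := 2436) (l := 7) rfl N2436 D4106
theorem N3257 : nd 3257 = n4112 := ndS (p := 2437) (l := 6) rfl N2437 D4112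
theorem N3258 : nd 3258 = n4114 := ndS (p := 2438) (l := 7) rfl N2438 D4114
theorem N3259 : nd 3259 = n4127 := ndS (p := 2444) (l := 4) rfl N2444 D4127
theorem N3260 : nd 3260 = n4128 := ndS (p := 2444) (l := 6) rfl N2444 D4128
theorem N3261 : nd 3261 = n4131 := ndS (p := 2445) (l := 7) rfl N2445 D4131
theorem N3262 : nd 3262 = n4137 := ndS (p := 2446) (l := 6) rfl N2446 D4137
theorem N3263 : nd 3263 = n4139 := ndS (p := 2447) (l := 7) rfl N2447 D4139
theorem N3264 : nd 3264 = n4142 := ndS (p := 2449) (l := 5) rfl N2449 D4142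
theorem N3265 : nd 3265 = n4143 := ndS (p := 2449) (l := 7) rfl N2449 D4143
theorem N3266 : nd 3266 = n4144 := ndS (p := 2449) (l := 8) rfl N2449 D4144
theorem N3267 : nd 3267 = n4145 := ndS (p := 2450) (l := 3) rfl N2450 D4145
theorem N3268 : nd 3268 = n4147 := ndS (p := 2451) (l := 8) rfl N2451 D4147
theorem N3269 : nd 3269 = n4156 := ndS (p := 2453) (l := 6) rfl N2453 D4156
theorem N3270 : nd 3270 = n4158 := ndS (p := 2454) (l := 7) rfl N2454 D4158
theorem N3271 : nd 3271 = n4170 := ndS (p := 2456) (l := 5) rfl N2456 D4170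
theorem N3272 : nd 3272 = n4171 := ndS (p := 2456) (l := 7) rfl N2456 D4171
theorem N3273 : nd 3273 = n4181 := ndS (p := 2462) (l := 5) rfl N2462 D4181
theorem N3274 : nd 3274 = n4183 := ndS (p := 2463) (l := 4) rfl N2463 D4183
theorem N3275 : nd 3275 = n4184 := ndS (p := 2463) (l := 6) rfl N2463 D4184
theorem N3276 : nd 3276 = n4185 := ndS (p := 2463) (l := 8) rfl N2463 D4185
theorem N3277 : nd 3277 = n4187 := ndS (p := 2465) (l := 6) rfl N2465 D4187
theorem N3278 : nd 3278 = n4188 := ndS (p := 2465) (l := 8) rfl N2465 D4188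
theorem N3279 : nd 3279 = n4189 := ndS (p := 2466) (l := 7) rfl N2466 D4189
theorem N3280 : nd 3280 = n4190 := ndS (p := 2466) (l := 8) rfl N2466 D4190
theorem N3281 : nd 3281 = n4191 := ndS (p := 2469) (l := 3) rfl N2469 D4191
theorem N3282 : nd 3282 = n4192 := ndS (p := 2469) (l := 6) rfl N2469 D4192
theorem N3283 : nd 3283 = n4193 := ndS (p := 2469) (l := 8) rfl N2469 D4193
theorem N3284 : nd 3284 = n4194 := ndS (p := 2470) (l := 7) rfl N2470 D4194
theorem N3285 : nd 3285 = n4195 := ndS (p := 2470) (l := 8) rfl N2470 D4195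
theorem N3286 : nd 3286 = n4196 := ndS (p := 2471) (l := 3) rfl N2471 D4196
theorem N3287 : nd 3287 = n4198 := ndS (p := 2473) (l := 5) rfl N2473 D4198
theorem N3288 : nd 3288 = n4199 := ndS (p := 2473) (l := 7) rfl N2473 D4199
theorem N3289 : nd 3289 = n4200 := ndS (p := 2473) (l := 8) rfl N2473 D4200
theorem N3290 : nd 3290 = n4201 := ndS (p := 2474) (l := 3) rfl N2474 D4201
theorem N3291 : nd 3291 = n4202 := ndS (p := 2475) (l := 8) rfl N2475 D4202
theorem N3292 : nd 3292 = n4203 := ndS (p := 2477) (l := 7) rfl N2477 D4203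
theorem N3293 : nd 3293 = n4204 := ndS (p := 2477) (l := 8) rfl N2477 D4204
theorem N3294 : nd 3294 = n4205 := ndS (p := 2478) (l := 8) rfl N2478 D4205
theorem N3295 : nd 3295 = n4206 := ndS (p := 2479) (l := 3) rfl N2479 D4206
theorem N3296 : nd 3296 = n4207 := ndS (p := 2480) (l := 2) rfl N2480 D4207
theorem N3297 : nd 3297 = n4208 := ndS (p := 2482) (l := 4) rfl N2482 D4208
theorem N3298 : nd 3298 = n4209 := ndS (p := 2482) (l := 6) rfl N2482 D4209
theorem N3299 : nd 3299 = n4210 := ndS (p := 2483) (l := 3) rfl N2483 D4210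
theorem N3300 : nd 3300 = n4211 := ndS (p := 2483) (l := 6) rfl N2483 D4211
theorem N3301 : nd 3301 = n4212 := ndS (p := 2484) (l := 7) rfl N2484 D4212
theorem N3302 : nd 3302 = n4213 := ndS (p := 2485) (l := 5) rfl N2485 D4213
theorem N3303 : nd 3303 = n4214 := ndS (p := 2485) (l := 7) rfl N2485 D4214
theorem N3304 : nd 3304 = n4215 := ndS (p := 2487) (l := 6) rfl N2487 D4215
theorem N3305 : nd 3305 = n4217 := ndS (p := 2488) (l := 5) rfl N2488 D4217
theorem N3306 : nd 3306 = n4218 := ndS (p := 2488) (l := 7) rfl N2488 D4218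
theorem N3307 : nd 3307 = n4219 := ndS (p := 2490) (l := 7) rfl N2490 D4219
theorem N3308 : nd 3308 = n4224 := ndS (p := 2493) (l := 4) rfl N2493 D4224
theorem N3309 : nd 3309 = n4225 := ndS (p := 2493) (l := 6) rfl N2493 D4225
theorem N3310 : nd 3310 = n4228 := ndS (p := 2494) (l := 7) rfl N2494 D4228
theorem N3311 : nd 3311 = n4234 := ndS (p := 2495) (l := 6) rfl N2495 D4234
theorem N3312 : nd 3312 = n4236 := ndS (p := 2496) (l := 7) rfl N2496 D4236
theorem N3313 : nd 3313 = n4253 := ndS (p := 2502) (l := 6) rfl N2502 D4253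
theorem N3314 : nd 3314 = n4255 := ndS (p := 2503) (l := 7) rfl N2503 D4255
theorem N3315 : nd 3315 = n4267 := ndS (p := 2505) (l := 7) rfl N2505 D4267
theorem N3316 : nd 3316 = n4307 := ndS (p := 2512) (l := 6) rfl N2512 D4307
theorem N3317 : nd 3317 = n4319 := ndS (p := 2514) (l := 5) rfl N2514 D4319
theorem N3318 : nd 3318 = n4376 := ndS (p := 2519) (l := 5) rfl N2519 D4376
theorem N3319 : nd 3319 = n4399 := ndS (p := 2521) (l := 3) rfl N2521 D4399
theorem N3320 : nd 3320 = n4401 := ndS (p := 2522) (l := 2) rfl N2522 D4401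
theorem N3321 : nd 3321 = n4452 := ndS (p := 2524) (l := 9) rfl N2524 D4452
theorem N3322 : nd 3322 = n4453 := ndS (p := 2525) (l := 8) rfl N2525 D4453
theorem N3323 : nd 3323 = n4454 := ndS (p := 2526) (l := 3) rfl N2526 D4454
theorem N3324 : nd 3324 = n4455 := ndS (p := 2527) (l := 2) rfl N2527 D4455
theorem N3325 : nd 3325 = n4456 := ndS (p := 2527) (l := 4) rfl N2527 D4456
theorem N3326 : nd 3326 = n4457 := ndS (p := 2528) (l := 3) rfl N2528 D4457
theorem N3327 : nd 3327 = n4458 := ndS (p := 2529) (l := 2) rfl N2529 D4458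
theorem N3328 : nd 3328 = n4459 := ndS (p := 2529) (l := 4) rfl N2529 D4459
theorem N3329 : nd 3329 = n4460 := ndS (p := 2530) (l := 1) rfl N2530 D4460
theorem N3330 : nd 3330 = n4461 := ndS (p := 2530) (l := 4) rfl N2530 D4461
theorem N3331 : nd 3331 = n4462 := ndS (p := 2531) (l := 5) rfl N2531 D4462
theorem N3332 : nd 3332 = n4463 := ndS (p := 2532) (l := 1) rfl N2532 D4463
theorem N3333 : nd 3333 = n4464 := ndS (p := 2532) (l := 4) rfl N2532 D4464
theorem N3334 : nd 3334 = n4465 := ndS (p := 2533) (l := 5) rfl N2533 D4465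
theorem N3335 : nd 3335 = n4466 := ndS (p := 2534) (l := 0) rfl N2534 D4466
theorem N3336 : nd 3336 = n4467 := ndS (p := 2534) (l := 4) rfl N2534 D4467
theorem N3337 : nd 3337 = n4468 := ndS (p := 2535) (l := 3) rfl N2535 D4468
theorem N3338 : nd 3338 = n4469 := ndS (p := 2535) (l := 5) rfl N2535 D4469
theorem N3339 : nd 3339 = n4470 := ndS (p := 2536) (l := 6) rfl N2536 D4470
theorem N3340 : nd 3340 = n4471 := ndS (p := 2537) (l := 4) rfl N2537 D4471
theorem N3341 : nd 3341 = n4472 := ndS (p := 2538) (l := 3) rfl N2538 D4472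
theorem N3342 : nd 3342 = n4473 := ndS (p := 2538) (l := 5) rfl N2538 D4473
theorem N3343 : nd 3343 = n4474 := ndS (p := 2539) (l := 5) rfl N2539 D4474
theorem N3344 : nd 3344 = n4475 := ndS (p := 2539) (l := 8) rfl N2539 D4475
theorem N3345 : nd 3345 = n4476 := ndS (p := 2540) (l := 6) rfl N2540 D4476
theorem N3346 : nd 3346 = n4477 := ndS (p := 2541) (l := 7) rfl N2541 D4477
theorem N3347 : nd 3347 = n4478 := ndS (p := 2542) (l := 3) rfl N2542 D4478
theorem N3348 : nd 3348 = n4479 := ndS (p := 2543) (l := 2) rfl N2543 D4479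
theorem N3349 : nd 3349 = n4480 := ndS (p := 2543) (l := 4) rfl N2543 D4480
theorem N3350 : nd 3350 = n4481 := ndS (p := 2544) (l := 2) rfl N2544 D4481
theorem N3351 : nd 3351 = n4482 := ndS (p := 2544) (l := 4) rfl N2544 D4482
theorem N3352 : nd 3352 = n4483 := ndS (p := 2545) (l := 1) rfl N2545 D4483
theorem N3353 : nd 3353 = n4484 := ndS (p := 2545) (l := 4) rfl N2545 D4484
theorem N3354 : nd 3354 = n4485 := ndS (p := 2546) (l := 5) rfl N2546 D4485
theorem N3355 : nd 3355 = n4486 := ndS (p := 2547) (l := 1) rfl N2547 D4486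
theorem N3356 : nd 3356 = n4487 := ndS (p := 2547) (l := 4) rfl N2547 D4487
theorem N3357 : nd 3357 = n4488 := ndS (p := 2548) (l := 5) rfl N2548 D4488
theorem N3358 : nd 3358 = n4489 := ndS (p := 2549) (l := 0) rfl N2549 D4489
theorem N3359 : nd 3359 = n4490 := ndS (p := 2549) (l := 4) rfl N2549 D4490
theorem N3360 : nd 3360 = n4491 := ndS (p := 2550) (l := 3) rfl N2550 D4491
theorem N3361 : nd 3361 = n4492 := ndS (p := 2550) (l := 5) rfl N2550 D4492
theorem N3362 : nd 3362 = n4493 := ndS (p := 2551) (l := 6) rfl N2551 D4493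
theorem N3363 : nd 3363 = n4494 := ndS (p := 2552) (l := 1) rfl N2552 D4494
theorem N3364 : nd 3364 = n4495 := ndS (p := 2552) (l := 4) rfl N2552 D4495
theorem N3365 : nd 3365 = n4496 := ndS (p := 2553) (l := 5) rfl N2553 D4496
theorem N3366 : nd 3366 = n4497 := ndS (p := 2554) (l := 0) rfl N2554 D4497
theorem N3367 : nd 3367 = n4498 := ndS (p := 2554) (l := 4) rfl N2554 D4498
theorem N3368 : nd 3368 = n4499 := ndS (p := 2555) (l := 3) rfl N2555 D4499
theorem N3369 : nd 3369 = n4500 := ndS (p := 2555) (l := 5) rfl N2555 D4500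
theorem N3370 : nd 3370 = n4501 := ndS (p := 2556) (l := 6) rfl N2556 D4501
theorem N3371 : nd 3371 = n4503 := ndS (p := 2557) (l := 4) rfl N2557 D4503
theorem N3372 : nd 3372 = n4504 := ndS (p := 2558) (l := 3) rfl N2558 D4504
theorem N3373 : nd 3373 = n4505 := ndS (p := 2558) (l := 5) rfl N2558 D4505
theorem N3374 : nd 3374 = n4506 := ndS (p := 2559) (l := 6) rfl N2559 D4506
theorem N3375 : nd 3375 = n4507 := ndS (p := 2560) (l := 4) rfl N2560 D4507
theorem N3376 : nd 3376 = n4508 := ndS (p := 2561) (l := 3) rfl N2561 D4508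
theorem N3377 : nd 3377 = n4509 := ndS (p := 2561) (l := 5) rfl N2561 D4509
theorem N3378 : nd 3378 = n4510 := ndS (p := 2562) (l := 5) rfl N2562 D4510
theorem N3379 : nd 3379 = n4511 := ndS (p := 2562) (l := 8) rfl N2562 D4511
theorem N3380 : nd 3380 = n4512 := ndS (p := 2563) (l := 6) rfl N2563 D4512
theorem N3381 : nd 3381 = n4513 := ndS (p := 2564) (l := 7) rfl N2564 D4513
theorem N3382 : nd 3382 = n4515 := ndS (p := 2565) (l := 3) rfl N2565 D4515
theorem N3383 : nd 3383 = n4516 := ndS (p := 2565) (l := 5) rfl N2565 D4516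
theorem N3384 : nd 3384 = n4517 := ndS (p := 2566) (l := 5) rfl N2566 D4517
theorem N3385 : nd 3385 = n4518 := ndS (p := 2566) (l := 8) rfl N2566 D4518
theorem N3386 : nd 3386 = n4519 := ndS (p := 2567) (l := 6) rfl N2567 D4519
theorem N3387 : nd 3387 = n4520 := ndS (p := 2568) (l := 7) rfl N2568 D4520
theorem N3388 : nd 3388 = n4521 := ndS (p := 2569) (l := 3) rfl N2569 D4521
theorem N3389 : nd 3389 = n4522 := ndS (p := 2569) (l := 5) rfl N2569 D4522
theorem N3390 : nd 3390 = n4523 := ndS (p := 2570) (l := 2) rfl N2570 D4523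
theorem N3391 : nd 3391 = n4524 := ndS (p := 2570) (l := 5) rfl N2570 D4524
theorem N3392 : nd 3392 = n4525 := ndS (p := 2570) (l := 8) rfl N2570 D4525
theorem N3393 : nd 3393 = n4526 := ndS (p := 2571) (l := 6) rfl N2571 D4526
theorem N3394 : nd 3394 = n4527 := ndS (p := 2572) (l := 4) rfl N2572 D4527
theorem N3395 : nd 3395 = n4528 := ndS (p := 2572) (l := 6) rfl N2572 D4528
theorem N3396 : nd 3396 = n4529 := ndS (p := 2572) (l := 8) rfl N2572 D4529
theorem N3397 : nd 3397 = n4530 := ndS (p := 2573) (l := 9) rfl N2573 D4530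
theorem N3398 : nd 3398 = n4531 := ndS (p := 2574) (l := 7) rfl N2574 D4531
theorem N3399 : nd 3399 = n4532 := ndS (p := 2576) (l := 1) rfl N2576 D4532
theorem N3400 : nd 3400 = n4533 := ndS (p := 2576) (l := 4) rfl N2576 D4533
theorem N3401 : nd 3401 = n4534 := ndS (p := 2577) (l := 5) rfl N2577 D4534
theorem N3402 : nd 3402 = n4535 := ndS (p := 2578) (l := 0) rfl N2578 D4535
theorem N3403 : nd 3403 = n4536 := ndS (p := 2578) (l := 4) rfl N2578 D4536
theorem N3404 : nd 3404 = n4537 := ndS (p := 2579) (l := 3) rfl N2579 D4537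
theorem N3405 : nd 3405 = n4538 := ndS (p := 2579) (l := 5) rfl N2579 D4538
theorem N3406 : nd 3406 = n4539 := ndS (p := 2580) (l := 6) rfl N2580 D4539
theorem N3407 : nd 3407 = n4540 := ndS (p := 2581) (l := 4) rfl N2581 D4540
theorem N3408 : nd 3408 = n4541 := ndS (p := 2582) (l := 3) rfl N2582 D4541
theorem N3409 : nd 3409 = n4542 := ndS (p := 2582) (l := 5) rfl N2582 D4542
theorem N3410 : nd 3410 = n4543 := ndS (p := 2583) (l := 5) rfl N2583 D4543
theorem N3411 : nd 3411 = n4544 := ndS (p := 2583) (l := 8) rfl N2583 D4544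
theorem N3412 : nd 3412 = n4545 := ndS (p := 2584) (l := 6) rfl N2584 D4545
theorem N3413 : nd 3413 = n4546 := ndS (p := 2585) (l := 7) rfl N2585 D4546
theorem N3414 : nd 3414 = n4547 := ndS (p := 2586) (l := 0) rfl N2586 D4547
theorem N3415 : nd 3415 = n4548 := ndS (p := 2586) (l := 4) rfl N2586 D4548
theorem N3416 : nd 3416 = n4549 := ndS (p := 2587) (l := 3) rfl N2587 D4549
theorem N3417 : nd 3417 = n4550 := ndS (p := 2587) (l := 5) rfl N2587 D4550
theorem N3418 : nd 3418 = n4551 := ndS (p := 2588) (l := 6) rfl N2588 D4551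
theorem N3419 : nd 3419 = n4552 := ndS (p := 2589) (l := 4) rfl N2589 D4552
theorem N3420 : nd 3420 = n4553 := ndS (p := 2590) (l := 3) rfl N2590 D4553
theorem N3421 : nd 3421 = n4554 := ndS (p := 2590) (l := 5) rfl N2590 D4554
theorem N3422 : nd 3422 = n4555 := ndS (p := 2591) (l := 5) rfl N2591 D4555
theorem N3423 : nd 3423 = n4556 := ndS (p := 2591) (l := 8) rfl N2591 D4556
theorem N3424 : nd 3424 = n4557 := ndS (p := 2592) (l := 6) rfl N2592 D4557
theorem N3425 : nd 3425 = n4558 := ndS (p := 2593) (l := 7) rfl N2593 D4558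
theorem N3426 : nd 3426 = n4559 := ndS (p := 2594) (l := 3) rfl N2594 D4559
theorem N3427 : nd 3427 = n4560 := ndS (p := 2594) (l := 5) rfl N2594 D4560
theorem N3428 : nd 3428 = n4561 := ndS (p := 2595) (l := 2) rfl N2595 D4561
theorem N3429 : nd 3429 = n4562 := ndS (p := 2595) (l := 5) rfl N2595 D4562
theorem N3430 : nd 3430 = n4563 := ndS (p := 2595) (l := 8) rfl N2595 D4563
theorem N3431 : nd 3431 = n4564 := ndS (p := 2596) (l := 6) rfl N2596 D4564
theorem N3432 : nd 3432 = n4565 := ndS (p := 2597) (l := 4) rfl N2597 D4565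
theorem N3433 : nd 3433 = n4566 := ndS (p := 2597) (l := 6) rfl N2597 D4566
theorem N3434 : nd 3434 = n4567 := ndS (p := 2597) (l := 8) rfl N2597 D4567
theorem N3435 : nd 3435 = n4568 := ndS (p := 2598) (l := 9) rfl N2598 D4568
theorem N3436 : nd 3436 = n4569 := ndS (p := 2599) (l := 7) rfl N2599 D4569
theorem N3437 : nd 3437 = n4570 := ndS (p := 2601) (l := 4) rfl N2601 D4570
theorem N3438 : nd 3438 = n4571 := ndS (p := 2602) (l := 3) rfl N2602 D4571
theorem N3439 : nd 3439 = n4572 := ndS (p := 2602) (l := 5) rfl N2602 D4572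
theorem N3440 : nd 3440 = n4573 := ndS (p := 2603) (l := 5) rfl N2603 D4573
theorem N3441 : nd 3441 = n4574 := ndS (p := 2603) (l := 8) rfl N2603 D4574
theorem N3442 : nd 3442 = n4575 := ndS (p := 2604) (l := 6) rfl N2604 D4575
theorem N3443 : nd 3443 = n4576 := ndS (p := 2605) (l := 7) rfl N2605 D4576
theorem N3444 : nd 3444 = n4577 := ndS (p := 2606) (l := 3) rfl N2606 D4577
theorem N3445 : nd 3445 = n4578 := ndS (p := 2606) (l := 5) rfl N2606 D4578
theorem N3446 : nd 3446 = n4579 := ndS (p := 2607) (l := 2) rfl N2607 D4579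
theorem N3447 : nd 3447 = n4580 := ndS (p := 2607) (l := 5) rfl N2607 D4580
theorem N3448 : nd 3448 = n4581 := ndS (p := 2607) (l := 8) rfl N2607 D4581
theorem N3449 : nd 3449 = n4582 := ndS (p := 2608) (l := 6) rfl N2608 D4582
theorem N3450 : nd 3450 = n4583 := ndS (p := 2609) (l := 4) rfl N2609 D4583
theorem N3451 : nd 3451 = n4584 := ndS (p := 2609) (l := 6) rfl N2609 D4584
theorem N3452 : nd 3452 = n4585 := ndS (p := 2609) (l := 8) rfl N2609 D4585
theorem N3453 : nd 3453 = n4586 := ndS (p := 2610) (l := 9) rfl N2610 D4586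
theorem N3454 : nd 3454 = n4587 := ndS (p := 2611) (l := 7) rfl N2611 D4587
theorem N3455 : nd 3455 = n4588 := ndS (p := 2613) (l := 2) rfl N2613 D4588
theorem N3456 : nd 3456 = n4589 := ndS (p := 2613) (l := 5) rfl N2613 D4589
theorem N3457 : nd 3457 = n4590 := ndS (p := 2613) (l := 8) rfl N2613 D4590
theorem N3458 : nd 3458 = n4591 := ndS (p := 2614) (l := 6) rfl N2614 D4591
theorem N3459 : nd 3459 = n4592 := ndS (p := 2615) (l := 5) rfl N2615 D4592
theorem N3460 : nd 3460 = n4593 := ndS (p := 2615) (l := 8) rfl N2615 D4593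
theorem N3461 : nd 3461 = n4594 := ndS (p := 2616) (l := 4) rfl N2616 D4594
theorem N3462 : nd 3462 = n4595 := ndS (p := 2616) (l := 6) rfl N2616 D4595
theorem N3463 : nd 3463 = n4596 := ndS (p := 2616) (l := 8) rfl N2616 D4596
theorem N3464 : nd 3464 = n4597 := ndS (p := 2617) (l := 9) rfl N2617 D4597
theorem N3465 : nd 3465 = n4598 := ndS (p := 2618) (l := 7) rfl N2618 D4598
theorem N3466 : nd 3466 = n4599 := ndS (p := 2619) (l := 6) rfl N2619 D4599
theorem N3467 : nd 3467 = n4600 := ndS (p := 2619) (l := 8) rfl N2619 D4600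
theorem N3468 : nd 3468 = n4601 := ndS (p := 2620) (l := 7) rfl N2620 D4601
theorem N3469 : nd 3469 = n4602 := ndS (p := 2620) (l := 8) rfl N2620 D4602
theorem N3470 : nd 3470 = n4603 := ndS (p := 2621) (l := 9) rfl N2621 D4603
theorem N3471 : nd 3471 = n4606 := ndS (p := 2625) (l := 5) rfl N2625 D4606
theorem N3472 : nd 3472 = n4607 := ndS (p := 2626) (l := 5) rfl N2626 D4607
theorem N3473 : nd 3473 = n4609 := ndS (p := 2627) (l := 6) rfl N2627 D4609
theorem N3474 : nd 3474 = n4610 := ndS (p := 2628) (l := 7) rfl N2628 D4610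
theorem N3475 : nd 3475 = n4612 := ndS (p := 2629) (l := 5) rfl N2629 D4612
theorem N3476 : nd 3476 = n4614 := ndS (p := 2630) (l := 5) rfl N2630 D4614
theorem N3477 : nd 3477 = n4616 := ndS (p := 2631) (l := 6) rfl N2631 D4616
theorem N3478 : nd 3478 = n4617 := ndS (p := 2632) (l := 4) rfl N2632 D4617
theorem N3479 : nd 3479 = n4618 := ndS (p := 2632) (l := 6) rfl N2632 D4618
theorem N3480 : nd 3480 = n4619 := ndS (p := 2632) (l := 8) rfl N2632 D4619
theorem N3481 : nd 3481 = n4621 := ndS (p := 2634) (l := 7) rfl N2634 D4621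
theorem N3482 : nd 3482 = n4623 := ndS (p := 2636) (l := 5) rfl N2636 D4623
theorem N3483 : nd 3483 = n4625 := ndS (p := 2637) (l := 6) rfl N2637 D4625
theorem N3484 : nd 3484 = n4626 := ndS (p := 2638) (l := 5) rfl N2638 D4626
theorem N3485 : nd 3485 = n4628 := ndS (p := 2639) (l := 4) rfl N2639 D4628
theorem N3486 : nd 3486 = n4629 := ndS (p := 2639) (l := 6) rfl N2639 D4629
theorem N3487 : nd 3487 = n4630 := ndS (p := 2639) (l := 8) rfl N2639 D4630
theorem N3488 : nd 3488 = n4632 := ndS (p := 2641) (l := 7) rfl N2641 D4632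
theorem N3489 : nd 3489 = n4633 := ndS (p := 2642) (l := 6) rfl N2642 D4633
theorem N3490 : nd 3490 = n4634 := ndS (p := 2642) (l := 8) rfl N2642 D4634
theorem N3491 : nd 3491 = n4635 := ndS (p := 2643) (l := 7) rfl N2643 D4635
theorem N3492 : nd 3492 = n4636 := ndS (p := 2643) (l := 8) rfl N2643 D4636
theorem N3493 : nd 3493 = n4637 := ndS (p := 2644) (l := 9) rfl N2644 D4637
theorem N3494 : nd 3494 = n4639 := ndS (p := 2647) (l := 5) rfl N2647 D4639
theorem N3495 : nd 3495 = n4641 := ndS (p := 2648) (l := 4) rfl N2648 D4641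
theorem N3496 : nd 3496 = n4642 := ndS (p := 2648) (l := 6) rfl N2648 D4642
theorem N3497 : nd 3497 = n4643 := ndS (p := 2648) (l := 8) rfl N2648 D4643
theorem N3498 : nd 3498 = n4645 := ndS (p := 2650) (l := 7) rfl N2650 D4645
theorem N3499 : nd 3499 = n4646 := ndS (p := 2651) (l := 4) rfl N2651 D4646
theorem N3500 : nd 3500 = n4647 := ndS (p := 2651) (l := 6) rfl N2651 D4647
theorem N3501 : nd 3501 = n4648 := ndS (p := 2651) (l := 8) rfl N2651 D4648
theorem N3502 : nd 3502 = n4651 := ndS (p := 2653) (l := 6) rfl N2653 D4651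
theorem N3503 : nd 3503 = n4652 := ndS (p := 2653) (l := 8) rfl N2653 D4652
theorem N3504 : nd 3504 = n4653 := ndS (p := 2654) (l := 7) rfl N2654 D4653
theorem N3505 : nd 3505 = n4654 := ndS (p := 2654) (l := 8) rfl N2654 D4654
theorem N3506 : nd 3506 = n4655 := ndS (p := 2655) (l := 9) rfl N2655 D4655
theorem N3507 : nd 3507 = n4656 := ndS (p := 2658) (l := 5) rfl N2658 D4656
theorem N3508 : nd 3508 = n4657 := ndS (p := 2658) (l := 7) rfl N2658 D4657
theorem N3509 : nd 3509 = n4658 := ndS (p := 2658) (l := 8) rfl N2658 D4658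
theorem N3510 : nd 3510 = n4659 := ndS (p := 2659) (l := 3) rfl N2659 D4659
theorem N3511 : nd 3511 = n4660 := ndS (p := 2659) (l := 9) rfl N2659 D4660
theorem N3512 : nd 3512 = n4661 := ndS (p := 2660) (l := 8) rfl N2660 D4661
theorem N3513 : nd 3513 = n4662 := ndS (p := 2661) (l := 9) rfl N2661 D4662
theorem N3514 : nd 3514 = n4663 := ndS (p := 2663) (l := 9) rfl N2663 D4663
theorem N3515 : nd 3515 = n4664 := ndS (p := 2664) (l := 8) rfl N2664 D4664
theorem N3516 : nd 3516 = n4665 := ndS (p := 2665) (l := 3) rfl N2665 D4665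
theorem N3517 : nd 3517 = n4666 := ndS (p := 2666) (l := 2) rfl N2666 D4666
theorem N3518 : nd 3518 = n4667 := ndS (p := 2666) (l := 4) rfl N2666 D4667
theorem N3519 : nd 3519 = n4668 := ndS (p := 2667) (l := 1) rfl N2667 D4668
theorem N3520 : nd 3520 = n4669 := ndS (p := 2667) (l := 4) rfl N2667 D4669
theorem N3521 : nd 3521 = n4670 := ndS (p := 2668) (l := 5) rfl N2668 D4670
theorem N3522 : nd 3522 = n4671 := ndS (p := 2669) (l := 3) rfl N2669 D4671
theorem N3523 : nd 3523 = n4672 := ndS (p := 2670) (l := 2) rfl N2670 D4672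
theorem N3524 : nd 3524 = n4673 := ndS (p := 2670) (l := 4) rfl N2670 D4673
theorem N3525 : nd 3525 = n4674 := ndS (p := 2671) (l := 1) rfl N2671 D4674
theorem N3526 : nd 3526 = n4675 := ndS (p := 2671) (l := 4) rfl N2671 D4675
theorem N3527 : nd 3527 = n4676 := ndS (p := 2672) (l := 5) rfl N2672 D4676
theorem N3528 : nd 3528 = n4677 := ndS (p := 2673) (l := 0) rfl N2673 D4677
theorem N3529 : nd 3529 = n4678 := ndS (p := 2673) (l := 4) rfl N2673 D4678
theorem N3530 : nd 3530 = n4679 := ndS (p := 2674) (l := 3) rfl N2674 D4679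
theorem N3531 : nd 3531 = n4680 := ndS (p := 2674) (l := 5) rfl N2674 D4680
theorem N3532 : nd 3532 = n4681 := ndS (p := 2675) (l := 6) rfl N2675 D4681
theorem N3533 : nd 3533 = n4682 := ndS (p := 2676) (l := 2) rfl N2676 D4682
theorem N3534 : nd 3534 = n4683 := ndS (p := 2676) (l := 4) rfl N2676 D4683
theorem N3535 : nd 3535 = n4685 := ndS (p := 2677) (l := 4) rfl N2677 D4685
theorem N3536 : nd 3536 = n4686 := ndS (p := 2678) (l := 5) rfl N2678 D4686
theorem N3537 : nd 3537 = n4688 := ndS (p := 2679) (l := 4) rfl N2679 D4688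
theorem N3538 : nd 3538 = n4689 := ndS (p := 2680) (l := 3) rfl N2680 D4689
theorem N3539 : nd 3539 = n4690 := ndS (p := 2680) (l := 5) rfl N2680 D4690
theorem N3540 : nd 3540 = n4691 := ndS (p := 2681) (l := 6) rfl N2681 D4691
theorem N3541 : nd 3541 = n4692 := ndS (p := 2682) (l := 4) rfl N2682 D4692
theorem N3542 : nd 3542 = n4693 := ndS (p := 2683) (l := 3) rfl N2683 D4693
theorem N3543 : nd 3543 = n4694 := ndS (p := 2683) (l := 5) rfl N2683 D4694
theorem N3544 : nd 3544 = n4695 := ndS (p := 2684) (l := 5) rfl N2684 D4695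
theorem N3545 : nd 3545 = n4696 := ndS (p := 2684) (l := 8) rfl N2684 D4696
theorem N3546 : nd 3546 = n4697 := ndS (p := 2685) (l := 6) rfl N2685 D4697
theorem N3547 : nd 3547 = n4698 := ndS (p := 2686) (l := 7) rfl N2686 D4698
theorem N3548 : nd 3548 = n4700 := ndS (p := 2687) (l := 4) rfl N2687 D4700
theorem N3549 : nd 3549 = n4701 := ndS (p := 2688) (l := 5) rfl N2688 D4701
theorem N3550 : nd 3550 = n4703 := ndS (p := 2689) (l := 4) rfl N2689 D4703
theorem N3551 : nd 3551 = n4704 := ndS (p := 2690) (l := 3) rfl N2690 D4704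
theorem N3552 : nd 3552 = n4705 := ndS (p := 2690) (l := 5) rfl N2690 D4705
theorem N3553 : nd 3553 = n4706 := ndS (p := 2691) (l := 6) rfl N2691 D4706
theorem N3554 : nd 3554 = n4707 := ndS (p := 2692) (l := 4) rfl N2692 D4707
theorem N3555 : nd 3555 = n4708 := ndS (p := 2693) (l := 3) rfl N2693 D4708
theorem N3556 : nd 3556 = n4709 := ndS (p := 2693) (l := 5) rfl N2693 D4709
theorem N3557 : nd 3557 = n4710 := ndS (p := 2694) (l := 5) rfl N2694 D4710
theorem N3558 : nd 3558 = n4711 := ndS (p := 2694) (l := 8) rfl N2694 D4711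
theorem N3559 : nd 3559 = n4712 := ndS (p := 2695) (l := 6) rfl N2695 D4712
theorem N3560 : nd 3560 = n4713 := ndS (p := 2696) (l := 7) rfl N2696 D4713
theorem N3561 : nd 3561 = n4716 := ndS (p := 2697) (l := 3) rfl N2697 D4716
theorem N3562 : nd 3562 = n4717 := ndS (p := 2697) (l := 5) rfl N2697 D4717
theorem N3563 : nd 3563 = n4718 := ndS (p := 2698) (l := 6) rfl N2698 D4718
theorem N3564 : nd 3564 = n4720 := ndS (p := 2699) (l := 3) rfl N2699 D4720
theorem N3565 : nd 3565 = n4721 := ndS (p := 2699) (l := 5) rfl N2699 D4721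
theorem N3566 : nd 3566 = n4722 := ndS (p := 2700) (l := 5) rfl N2700 D4722
theorem N3567 : nd 3567 = n4723 := ndS (p := 2700) (l := 8) rfl N2700 D4723
theorem N3568 : nd 3568 = n4724 := ndS (p := 2701) (l := 6) rfl N2701 D4724
theorem N3569 : nd 3569 = n4725 := ndS (p := 2702) (l := 7) rfl N2702 D4725
theorem N3570 : nd 3570 = n4726 := ndS (p := 2703) (l := 3) rfl N2703 D4726
theorem N3571 : nd 3571 = n4727 := ndS (p := 2703) (l := 5) rfl N2703 D4727
theorem N3572 : nd 3572 = n4728 := ndS (p := 2704) (l := 2) rfl N2704 D4728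
theorem N3573 : nd 3573 = n4729 := ndS (p := 2704) (l := 5) rfl N2704 D4729
theorem N3574 : nd 3574 = n4730 := ndS (p := 2704) (l := 8) rfl N2704 D4730
theorem N3575 : nd 3575 = n4731 := ndS (p := 2705) (l := 6) rfl N2705 D4731
theorem N3576 : nd 3576 = n4732 := ndS (p := 2706) (l := 4) rfl N2706 D4732
theorem N3577 : nd 3577 = n4733 := ndS (p := 2706) (l := 6) rfl N2706 D4733
theorem N3578 : nd 3578 = n4734 := ndS (p := 2706) (l := 8) rfl N2706 D4734
theorem N3579 : nd 3579 = n4735 := ndS (p := 2707) (l := 9) rfl N2707 D4735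
theorem N3580 : nd 3580 = n4736 := ndS (p := 2708) (l := 7) rfl N2708 D4736
theorem N3581 : nd 3581 = n4740 := ndS (p := 2710) (l := 5) rfl N2710 D4740
theorem N3582 : nd 3582 = n4741 := ndS (p := 2710) (l := 8) rfl N2710 D4741
theorem N3583 : nd 3583 = n4742 := ndS (p := 2711) (l := 6) rfl N2711 D4742
theorem N3584 : nd 3584 = n4743 := ndS (p := 2712) (l := 7) rfl N2712 D4743
theorem N3585 : nd 3585 = n4746 := ndS (p := 2713) (l := 2) rfl N2713 D4746
theorem N3586 : nd 3586 = n4747 := ndS (p := 2713) (l := 5) rfl N2713 D4747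
theorem N3587 : nd 3587 = n4748 := ndS (p := 2713) (l := 8) rfl N2713 D4748
theorem N3588 : nd 3588 = n4749 := ndS (p := 2714) (l := 6) rfl N2714 D4749
theorem N3589 : nd 3589 = n4750 := ndS (p := 2715) (l := 4) rfl N2715 D4750
theorem N3590 : nd 3590 = n4751 := ndS (p := 2715) (l := 6) rfl N2715 D4751
theorem N3591 : nd 3591 = n4752 := ndS (p := 2715) (l := 8) rfl N2715 D4752
theorem N3592 : nd 3592 = n4753 := ndS (p := 2716) (l := 9) rfl N2716 D4753
theorem N3593 : nd 3593 = n4754 := ndS (p := 2717) (l := 7) rfl N2717 D4754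
theorem N3594 : nd 3594 = n4755 := ndS (p := 2719) (l := 2) rfl N2719 D4755
theorem N3595 : nd 3595 = n4756 := ndS (p := 2719) (l := 5) rfl N2719 D4756
theorem N3596 : nd 3596 = n4757 := ndS (p := 2719) (l := 8) rfl N2719 D4757
theorem N3597 : nd 3597 = n4758 := ndS (p := 2720) (l := 6) rfl N2720 D4758
theorem N3598 : nd 3598 = n4759 := ndS (p := 2721) (l := 5) rfl N2721 D4759
theorem N3599 : nd 3599 = n4760 := ndS (p := 2721) (l := 8) rfl N2721 D4760
theorem N3600 : nd 3600 = n4761 := ndS (p := 2722) (l := 4) rfl N2722 D4761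
theorem N3601 : nd 3601 = n4762 := ndS (p := 2722) (l := 6) rfl N2722 D4762
theorem N3602 : nd 3602 = n4763 := ndS (p := 2722) (l := 8) rfl N2722 D4763
theorem N3603 : nd 3603 = n4764 := ndS (p := 2723) (l := 9) rfl N2723 D4764
theorem N3604 : nd 3604 = n4765 := ndS (p := 2724) (l := 7) rfl N2724 D4765
theorem N3605 : nd 3605 = n4766 := ndS (p := 2725) (l := 6) rfl N2725 D4766
theorem N3606 : nd 3606 = n4767 := ndS (p := 2725) (l := 8) rfl N2725 D4767
theorem N3607 : nd 3607 = n4768 := ndS (p := 2726) (l := 7) rfl N2726 D4768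
theorem N3608 : nd 3608 = n4769 := ndS (p := 2726) (l := 8) rfl N2726 D4769
theorem N3609 : nd 3609 = n4770 := ndS (p := 2727) (l := 9) rfl N2727 D4770
theorem N3610 : nd 3610 = n4771 := ndS (p := 2730) (l := 4) rfl N2730 D4771
theorem N3611 : nd 3611 = n4772 := ndS (p := 2731) (l := 3) rfl N2731 D4772
theorem N3612 : nd 3612 = n4773 := ndS (p := 2731) (l := 5) rfl N2731 D4773
theorem N3613 : nd 3613 = n4774 := ndS (p := 2732) (l := 5) rfl N2732 D4774
theorem N3614 : nd 3614 = n4775 := ndS (p := 2732) (l := 8) rfl N2732 D4775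
theorem N3615 : nd 3615 = n4776 := ndS (p := 2733) (l := 6) rfl N2733 D4776
theorem N3616 : nd 3616 = n4777 := ndS (p := 2734) (l := 7) rfl N2734 D4777
theorem N3617 : nd 3617 = n4778 := ndS (p := 2735) (l := 3) rfl N2735 D4778
theorem N3618 : nd 3618 = n4779 := ndS (p := 2735) (l := 5) rfl N2735 D4779
theorem N3619 : nd 3619 = n4780 := ndS (p := 2736) (l := 2) rfl N2736 D4780
theorem N3620 : nd 3620 = n4781 := ndS (p := 2736) (l := 5) rfl N2736 D4781
theorem N3621 : nd 3621 = n4782 := ndS (p := 2736) (l := 8) rfl N2736 D4782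
theorem N3622 : nd 3622 = n4783 := ndS (p := 2737) (l := 6) rfl N2737 D4783
theorem N3623 : nd 3623 = n4784 := ndS (p := 2738) (l := 4) rfl N2738 D4784
theorem N3624 : nd 3624 = n4785 := ndS (p := 2738) (l := 6) rfl N2738 D4785
theorem N3625 : nd 3625 = n4786 := ndS (p := 2738) (l := 8) rfl N2738 D4786
theorem N3626 : nd 3626 = n4787 := ndS (p := 2739) (l := 9) rfl N2739 D4787
theorem N3627 : nd 3627 = n4788 := ndS (p := 2740) (l := 7) rfl N2740 D4788
theorem N3628 : nd 3628 = n4789 := ndS (p := 2742) (l := 3) rfl N2742 D4789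
theorem N3629 : nd 3629 = n4790 := ndS (p := 2742) (l := 5) rfl N2742 D4790
theorem N3630 : nd 3630 = n4791 := ndS (p := 2743) (l := 2) rfl N2743 D4791
theorem N3631 : nd 3631 = n4792 := ndS (p := 2743) (l := 5) rfl N2743 D4792
theorem N3632 : nd 3632 = n4793 := ndS (p := 2743) (l := 8) rfl N2743 D4793
theorem N3633 : nd 3633 = n4794 := ndS (p := 2744) (l := 6) rfl N2744 D4794
theorem N3634 : nd 3634 = n4795 := ndS (p := 2745) (l := 4) rfl N2745 D4795
theorem N3635 : nd 3635 = n4796 := ndS (p := 2745) (l := 6) rfl N2745 D4796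
theorem N3636 : nd 3636 = n4797 := ndS (p := 2745) (l := 8) rfl N2745 D4797
theorem N3637 : nd 3637 = n4798 := ndS (p := 2746) (l := 9) rfl N2746 D4798
theorem N3638 : nd 3638 = n4799 := ndS (p := 2747) (l := 7) rfl N2747 D4799
theorem N3639 : nd 3639 = n4800 := ndS (p := 2749) (l := 2) rfl N2749 D4800
theorem N3640 : nd 3640 = n4801 := ndS (p := 2749) (l := 5) rfl N2749 D4801
theorem N3641 : nd 3641 = n4802 := ndS (p := 2749) (l := 8) rfl N2749 D4802
theorem N3642 : nd 3642 = n4803 := ndS (p := 2750) (l := 6) rfl N2750 D4803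
theorem N3643 : nd 3643 = n4804 := ndS (p := 2751) (l := 5) rfl N2751 D4804
theorem N3644 : nd 3644 = n4805 := ndS (p := 2751) (l := 8) rfl N2751 D4805
theorem N3645 : nd 3645 = n4806 := ndS (p := 2752) (l := 4) rfl N2752 D4806
theorem N3646 : nd 3646 = n4807 := ndS (p := 2752) (l := 6) rfl N2752 D4807
theorem N3647 : nd 3647 = n4808 := ndS (p := 2752) (l := 8) rfl N2752 D4808
theorem N3648 : nd 3648 = n4809 := ndS (p := 2753) (l := 9) rfl N2753 D4809
theorem N3649 : nd 3649 = n4810 := ndS (p := 2754) (l := 7) rfl N2754 D4810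
theorem N3650 : nd 3650 = n4811 := ndS (p := 2755) (l := 6) rfl N2755 D4811
theorem N3651 : nd 3651 = n4812 := ndS (p := 2755) (l := 8) rfl N2755 D4812
theorem N3652 : nd 3652 = n4813 := ndS (p := 2756) (l := 7) rfl N2756 D4813
theorem N3653 : nd 3653 = n4814 := ndS (p := 2756) (l := 8) rfl N2756 D4814
theorem N3654 : nd 3654 = n4815 := ndS (p := 2757) (l := 9) rfl N2757 D4815
theorem N3655 : nd 3655 = n4816 := ndS (p := 2760) (l := 2) rfl N2760 D4816
theorem N3656 : nd 3656 = n4817 := ndS (p := 2760) (l := 5) rfl N2760 D4817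
theorem N3657 : nd 3657 = n4818 := ndS (p := 2760) (l := 8) rfl N2760 D4818
theorem N3658 : nd 3658 = n4819 := ndS (p := 2761) (l := 6) rfl N2761 D4819
theorem N3659 : nd 3659 = n4820 := ndS (p := 2762) (l := 5) rfl N2762 D4820
theorem N3660 : nd 3660 = n4821 := ndS (p := 2762) (l := 8) rfl N2762 D4821
theorem N3661 : nd 3661 = n4822 := ndS (p := 2763) (l := 4) rfl N2763 D4822
theorem N3662 : nd 3662 = n4823 := ndS (p := 2763) (l := 6) rfl N2763 D4823
theorem N3663 : nd 3663 = n4824 := ndS (p := 2763) (l := 8) rfl N2763 D4824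
theorem N3664 : nd 3664 = n4825 := ndS (p := 2764) (l := 9) rfl N2764 D4825
theorem N3665 : nd 3665 = n4826 := ndS (p := 2765) (l := 7) rfl N2765 D4826
theorem N3666 : nd 3666 = n4827 := ndS (p := 2766) (l := 6) rfl N2766 D4827
theorem N3667 : nd 3667 = n4828 := ndS (p := 2766) (l := 8) rfl N2766 D4828
theorem N3668 : nd 3668 = n4829 := ndS (p := 2767) (l := 7) rfl N2767 D4829
theorem N3669 : nd 3669 = n4830 := ndS (p := 2767) (l := 8) rfl N2767 D4830
theorem N3670 : nd 3670 = n4831 := ndS (p := 2768) (l := 9) rfl N2768 D4831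
theorem N3671 : nd 3671 = n4832 := ndS (p := 2771) (l := 1) rfl N2771 D4832
theorem N3672 : nd 3672 = n4833 := ndS (p := 2771) (l := 5) rfl N2771 D4833
theorem N3673 : nd 3673 = n4834 := ndS (p := 2771) (l := 8) rfl N2771 D4834
theorem N3674 : nd 3674 = n4835 := ndS (p := 2772) (l := 4) rfl N2772 D4835
theorem N3675 : nd 3675 = n4836 := ndS (p := 2772) (l := 6) rfl N2772 D4836
theorem N3676 : nd 3676 = n4837 := ndS (p := 2772) (l := 8) rfl N2772 D4837
theorem N3677 : nd 3677 = n4838 := ndS (p := 2773) (l := 9) rfl N2773 D4838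
theorem N3678 : nd 3678 = n4839 := ndS (p := 2774) (l := 7) rfl N2774 D4839
theorem N3679 : nd 3679 = n4840 := ndS (p := 2775) (l := 4) rfl N2775 D4840
theorem N3680 : nd 3680 = n4841 := ndS (p := 2775) (l := 6) rfl N2775 D4841
theorem N3681 : nd 3681 = n4842 := ndS (p := 2775) (l := 8) rfl N2775 D4842
theorem N3682 : nd 3682 = n4843 := ndS (p := 2776) (l := 3) rfl N2776 D4843
theorem N3683 : nd 3683 = n4844 := ndS (p := 2776) (l := 9) rfl N2776 D4844
theorem N3684 : nd 3684 = n4845 := ndS (p := 2777) (l := 6) rfl N2777 D4845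
theorem N3685 : nd 3685 = n4846 := ndS (p := 2777) (l := 8) rfl N2777 D4846
theorem N3686 : nd 3686 = n4847 := ndS (p := 2778) (l := 7) rfl N2778 D4847
theorem N3687 : nd 3687 = n4848 := ndS (p := 2778) (l := 8) rfl N2778 D4848
theorem N3688 : nd 3688 = n4849 := ndS (p := 2779) (l := 9) rfl N2779 D4849
theorem N3689 : nd 3689 = n4850 := ndS (p := 2782) (l := 5) rfl N2782 D4850
theorem N3690 : nd 3690 = n4851 := ndS (p := 2782) (l := 7) rfl N2782 D4851
theorem N3691 : nd 3691 = n4852 := ndS (p := 2782) (l := 8) rfl N2782 D4852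
theorem N3692 : nd 3692 = n4853 := ndS (p := 2783) (l := 3) rfl N2783 D4853
theorem N3693 : nd 3693 = n4854 := ndS (p := 2783) (l := 9) rfl N2783 D4854
theorem N3694 : nd 3694 = n4855 := ndS (p := 2784) (l := 8) rfl N2784 D4855
theorem N3695 : nd 3695 = n4856 := ndS (p := 2785) (l := 9) rfl N2785 D4856
theorem N3696 : nd 3696 = n4860 := ndS (p := 2787) (l := 4) rfl N2787 D4860
theorem N3697 : nd 3697 = n4861 := ndS (p := 2787) (l := 6) rfl N2787 D4861
theorem N3698 : nd 3698 = n4864 := ndS (p := 2788) (l := 7) rfl N2788 D4864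
theorem N3699 : nd 3699 = n4865 := ndS (p := 2789) (l := 4) rfl N2789 D4865
theorem N3700 : nd 3700 = n4866 := ndS (p := 2789) (l := 6) rfl N2789 D4866
theorem N3701 : nd 3701 = n4870 := ndS (p := 2790) (l := 6) rfl N2790 D4870
theorem N3702 : nd 3702 = n4871 := ndS (p := 2790) (l := 8) rfl N2790 D4871
theorem N3703 : nd 3703 = n4872 := ndS (p := 2791) (l := 7) rfl N2791 D4872
theorem N3704 : nd 3704 = n4873 := ndS (p := 2791) (l := 8) rfl N2791 D4873
theorem N3705 : nd 3705 = n4875 := ndS (p := 2794) (l := 5) rfl N2794 D4875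
theorem N3706 : nd 3706 = n4876 := ndS (p := 2794) (l := 7) rfl N2794 D4876
theorem N3707 : nd 3707 = n4877 := ndS (p := 2794) (l := 8) rfl N2794 D4877
theorem N3708 : nd 3708 = n4878 := ndS (p := 2795) (l := 3) rfl N2795 D4878
theorem N3709 : nd 3709 = n4879 := ndS (p := 2795) (l := 9) rfl N2795 D4879
theorem N3710 : nd 3710 = n4880 := ndS (p := 2796) (l := 8) rfl N2796 D4880
theorem N3711 : nd 3711 = n4881 := ndS (p := 2797) (l := 9) rfl N2797 D4881
theorem N3712 : nd 3712 = n4884 := ndS (p := 2799) (l := 4) rfl N2799 D4884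
theorem N3713 : nd 3713 = n4885 := ndS (p := 2799) (l := 6) rfl N2799 D4885
theorem N3714 : nd 3714 = n4888 := ndS (p := 2800) (l := 6) rfl N2800 D4888
theorem N3715 : nd 3715 = n4889 := ndS (p := 2800) (l := 8) rfl N2800 D4889
theorem N3716 : nd 3716 = n4890 := ndS (p := 2801) (l := 7) rfl N2801 D4890
theorem N3717 : nd 3717 = n4891 := ndS (p := 2801) (l := 8) rfl N2801 D4891
theorem N3718 : nd 3718 = n4893 := ndS (p := 2804) (l := 3) rfl N2804 D4893
theorem N3719 : nd 3719 = n4894 := ndS (p := 2804) (l := 6) rfl N2804 D4894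
theorem N3720 : nd 3720 = n4895 := ndS (p := 2804) (l := 8) rfl N2804 D4895
theorem N3721 : nd 3721 = n4896 := ndS (p := 2805) (l := 7) rfl N2805 D4896
theorem N3722 : nd 3722 = n4897 := ndS (p := 2805) (l := 8) rfl N2805 D4897
theorem N3723 : nd 3723 = n4899 := ndS (p := 2807) (l := 5) rfl N2807 D4899
theorem N3724 : nd 3724 = n4900 := ndS (p := 2807) (l := 7) rfl N2807 D4900
theorem N3725 : nd 3725 = n4901 := ndS (p := 2807) (l := 8) rfl N2807 D4901
theorem N3726 : nd 3726 = n4902 := ndS (p := 2808) (l := 3) rfl N2808 D4902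
theorem N3727 : nd 3727 = n4903 := ndS (p := 2808) (l := 9) rfl N2808 D4903
theorem N3728 : nd 3728 = n4904 := ndS (p := 2809) (l := 8) rfl N2809 D4904
theorem N3729 : nd 3729 = n4905 := ndS (p := 2810) (l := 9) rfl N2810 D4905
theorem N3730 : nd 3730 = n4906 := ndS (p := 2812) (l := 7) rfl N2812 D4906
theorem N3731 : nd 3731 = n4907 := ndS (p := 2812) (l := 8) rfl N2812 D4907
theorem N3732 : nd 3732 = n4908 := ndS (p := 2813) (l := 8) rfl N2813 D4908
theorem N3733 : nd 3733 = n4909 := ndS (p := 2814) (l := 3) rfl N2814 D4909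
theorem N3734 : nd 3734 = n4910 := ndS (p := 2814) (l := 9) rfl N2814 D4910
theorem N3735 : nd 3735 = n4911 := ndS (p := 2815) (l := 2) rfl N2815 D4911
theorem N3736 : nd 3736 = n4912 := ndS (p := 2815) (l := 9) rfl N2815 D4912
theorem N3737 : nd 3737 = n4913 := ndS (p := 2817) (l := 9) rfl N2817 D4913
theorem N3738 : nd 3738 = n4914 := ndS (p := 2819) (l := 2) rfl N2819 D4914
theorem N3739 : nd 3739 = n4915 := ndS (p := 2819) (l := 5) rfl N2819 D4915
theorem N3740 : nd 3740 = n4916 := ndS (p := 2819) (l := 8) rfl N2819 D4916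
theorem N3741 : nd 3741 = n4917 := ndS (p := 2820) (l := 6) rfl N2820 D4917
theorem N3742 : nd 3742 = n4918 := ndS (p := 2821) (l := 5) rfl N2821 D4918
theorem N3743 : nd 3743 = n4919 := ndS (p := 2821) (l := 8) rfl N2821 D4919
theorem N3744 : nd 3744 = n4920 := ndS (p := 2822) (l := 4) rfl N2822 D4920
theorem N3745 : nd 3745 = n4921 := ndS (p := 2822) (l := 6) rfl N2822 D4921
theorem N3746 : nd 3746 = n4922 := ndS (p := 2822) (l := 8) rfl N2822 D4922
theorem N3747 : nd 3747 = n4923 := ndS (p := 2823) (l := 9) rfl N2823 D4923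
theorem N3748 : nd 3748 = n4924 := ndS (p := 2824) (l := 7) rfl N2824 D4924
theorem N3749 : nd 3749 = n4925 := ndS (p := 2825) (l := 6) rfl N2825 D4925
theorem N3750 : nd 3750 = n4926 := ndS (p := 2825) (l := 8) rfl N2825 D4926
theorem N3751 : nd 3751 = n4927 := ndS (p := 2826) (l := 7) rfl N2826 D4927
theorem N3752 : nd 3752 = n4928 := ndS (p := 2826) (l := 8) rfl N2826 D4928
theorem N3753 : nd 3753 = n4929 := ndS (p := 2827) (l := 9) rfl N2827 D4929
theorem N3754 : nd 3754 = n4931 := ndS (p := 2830) (l := 5) rfl N2830 D4931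
theorem N3755 : nd 3755 = n4932 := ndS (p := 2830) (l := 8) rfl N2830 D4932
theorem N3756 : nd 3756 = n4933 := ndS (p := 2831) (l := 4) rfl N2831 D4933
theorem N3757 : nd 3757 = n4934 := ndS (p := 2831) (l := 6) rfl N2831 D4934
theorem N3758 : nd 3758 = n4935 := ndS (p := 2831) (l := 8) rfl N2831 D4935
theorem N3759 : nd 3759 = n4936 := ndS (p := 2832) (l := 9) rfl N2832 D4936
theorem N3760 : nd 3760 = n4937 := ndS (p := 2833) (l := 7) rfl N2833 D4937
theorem N3761 : nd 3761 = n4938 := ndS (p := 2834) (l := 4) rfl N2834 D4938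
theorem N3762 : nd 3762 = n4939 := ndS (p := 2834) (l := 6) rfl N2834 D4939
theorem N3763 : nd 3763 = n4940 := ndS (p := 2834) (l := 8) rfl N2834 D4940
theorem N3764 : nd 3764 = n4941 := ndS (p := 2835) (l := 3) rfl N2835 D4941
theorem N3765 : nd 3765 = n4942 := ndS (p := 2835) (l := 9) rfl N2835 D4942
theorem N3766 : nd 3766 = n4943 := ndS (p := 2836) (l := 6) rfl N2836 D4943
theorem N3767 : nd 3767 = n4944 := ndS (p := 2836) (l := 8) rfl N2836 D4944
theorem N3768 : nd 3768 = n4945 := ndS (p := 2837) (l := 7) rfl N2837 D4945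
theorem N3769 : nd 3769 = n4946 := ndS (p := 2837) (l := 8) rfl N2837 D4946
theorem N3770 : nd 3770 = n4947 := ndS (p := 2838) (l := 9) rfl N2838 D4947
theorem N3771 : nd 3771 = n4948 := ndS (p := 2841) (l := 5) rfl N2841 D4948
theorem N3772 : nd 3772 = n4949 := ndS (p := 2841) (l := 7) rfl N2841 D4949
theorem N3773 : nd 3773 = n4950 := ndS (p := 2841) (l := 8) rfl N2841 D4950
theorem N3774 : nd 3774 = n4951 := ndS (p := 2842) (l := 3) rfl N2842 D4951
theorem N3775 : nd 3775 = n4952 := ndS (p := 2842) (l := 9) rfl N2842 D4952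
theorem N3776 : nd 3776 = n4953 := ndS (p := 2843) (l := 8) rfl N2843 D4953
theorem N3777 : nd 3777 = n4954 := ndS (p := 2844) (l := 9) rfl N2844 D4954
theorem N3778 : nd 3778 = n4957 := ndS (p := 2846) (l := 4) rfl N2846 D4957
theorem N3779 : nd 3779 = n4958 := ndS (p := 2846) (l := 6) rfl N2846 D4958
theorem N3780 : nd 3780 = n4959 := ndS (p := 2846) (l := 8) rfl N2846 D4959
theorem N3781 : nd 3781 = n4961 := ndS (p := 2847) (l := 9) rfl N2847 D4961
theorem N3782 : nd 3782 = n4962 := ndS (p := 2848) (l := 6) rfl N2848 D4962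
theorem N3783 : nd 3783 = n4963 := ndS (p := 2848) (l := 8) rfl N2848 D4963
theorem N3784 : nd 3784 = n4964 := ndS (p := 2849) (l := 7) rfl N2849 D4964
theorem N3785 : nd 3785 = n4965 := ndS (p := 2849) (l := 8) rfl N2849 D4965
theorem N3786 : nd 3786 = n4966 := ndS (p := 2850) (l := 9) rfl N2850 D4966
theorem N3787 : nd 3787 = n4967 := ndS (p := 2853) (l := 6) rfl N2853 D4967
theorem N3788 : nd 3788 = n4968 := ndS (p := 2853) (l := 8) rfl N2853 D4968
theorem N3789 : nd 3789 = n4969 := ndS (p := 2854) (l := 7) rfl N2854 D4969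
theorem N3790 : nd 3790 = n4970 := ndS (p := 2854) (l := 8) rfl N2854 D4970
theorem N3791 : nd 3791 = n4971 := ndS (p := 2855) (l := 3) rfl N2855 D4971
theorem N3792 : nd 3792 = n4972 := ndS (p := 2855) (l := 9) rfl N2855 D4972
theorem N3793 : nd 3793 = n4973 := ndS (p := 2856) (l := 4) rfl N2856 D4973
theorem N3794 : nd 3794 = n4974 := ndS (p := 2856) (l := 9) rfl N2856 D4974
theorem N3795 : nd 3795 = n4975 := ndS (p := 2858) (l := 5) rfl N2858 D4975
theorem N3796 : nd 3796 = n4976 := ndS (p := 2858) (l := 7) rfl N2858 D4976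
theorem N3797 : nd 3797 = n4977 := ndS (p := 2858) (l := 8) rfl N2858 D4977
theorem N3798 : nd 3798 = n4978 := ndS (p := 2859) (l := 3) rfl N2859 D4978
theorem N3799 : nd 3799 = n4979 := ndS (p := 2859) (l := 9) rfl N2859 D4979
theorem N3800 : nd 3800 = n4980 := ndS (p := 2860) (l := 8) rfl N2860 D4980
theorem N3801 : nd 3801 = n4981 := ndS (p := 2861) (l := 9) rfl N2861 D4981
theorem N3802 : nd 3802 = n4982 := ndS (p := 2863) (l := 7) rfl N2863 D4982
theorem N3803 : nd 3803 = n4983 := ndS (p := 2863) (l := 8) rfl N2863 D4983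
theorem N3804 : nd 3804 = n4984 := ndS (p := 2864) (l := 8) rfl N2864 D4984
theorem N3805 : nd 3805 = n4985 := ndS (p := 2865) (l := 3) rfl N2865 D4985
theorem N3806 : nd 3806 = n4986 := ndS (p := 2865) (l := 9) rfl N2865 D4986
theorem N3807 : nd 3807 = n4987 := ndS (p := 2866) (l := 2) rfl N2866 D4987
theorem N3808 : nd 3808 = n4988 := ndS (p := 2866) (l := 9) rfl N2866 D4988
theorem N3809 : nd 3809 = n4989 := ndS (p := 2868) (l := 9) rfl N2868 D4989
theorem N3810 : nd 3810 = n4990 := ndS (p := 2870) (l := 5) rfl N2870 D4990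
theorem N3811 : nd 3811 = n4991 := ndS (p := 2870) (l := 7) rfl N2870 D4991
theorem N3812 : nd 3812 = n4992 := ndS (p := 2870) (l := 8) rfl N2870 D4992
theorem N3813 : nd 3813 = n4993 := ndS (p := 2871) (l := 3) rfl N2871 D4993
theorem N3814 : nd 3814 = n4994 := ndS (p := 2871) (l := 9) rfl N2871 D4994
theorem N3815 : nd 3815 = n4995 := ndS (p := 2872) (l := 8) rfl N2872 D4995
theorem N3816 : nd 3816 = n4996 := ndS (p := 2873) (l := 9) rfl N2873 D4996
theorem N3817 : nd 3817 = n4997 := ndS (p := 2875) (l := 7) rfl N2875 D4997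
theorem N3818 : nd 3818 = n4998 := ndS (p := 2875) (l := 8) rfl N2875 D4998
theorem N3819 : nd 3819 = n4999 := ndS (p := 2876) (l := 8) rfl N2876 D4999
theorem N3820 : nd 3820 = n5000 := ndS (p := 2877) (l := 3) rfl N2877 D5000
theorem N3821 : nd 3821 = n5001 := ndS (p := 2877) (l := 9) rfl N2877 D5001
theorem N3822 : nd 3822 = n5002 := ndS (p := 2878) (l := 2) rfl N2878 D5002
theorem N3823 : nd 3823 = n5003 := ndS (p := 2878) (l := 9) rfl N2878 D5003
theorem N3824 : nd 3824 = n5004 := ndS (p := 2880) (l := 9) rfl N2880 D5004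
theorem N3825 : nd 3825 = n5005 := ndS (p := 2882) (l := 6) rfl N2882 D5005
theorem N3826 : nd 3826 = n5006 := ndS (p := 2882) (l := 8) rfl N2882 D5006
theorem N3827 : nd 3827 = n5007 := ndS (p := 2883) (l := 3) rfl N2883 D5007
theorem N3828 : nd 3828 = n5008 := ndS (p := 2883) (l := 9) rfl N2883 D5008
theorem N3829 : nd 3829 = n5009 := ndS (p := 2884) (l := 3) rfl N2884 D5009
theorem N3830 : nd 3830 = n5010 := ndS (p := 2884) (l := 9) rfl N2884 D5010
theorem N3831 : nd 3831 = n5011 := ndS (p := 2885) (l := 2) rfl N2885 D5011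
theorem N3832 : nd 3832 = n5012 := ndS (p := 2885) (l := 9) rfl N2885 D5012
theorem N3833 : nd 3833 = n5013 := ndS (p := 2887) (l := 1) rfl N2887 D5013
theorem N3834 : nd 3834 = n5014 := ndS (p := 2887) (l := 9) rfl N2887 D5014
theorem N3835 : nd 3835 = n5015 := ndS (p := 2888) (l := 8) rfl N2888 D5015
theorem N3836 : nd 3836 = n5024 := ndS (p := 2894) (l := 1) rfl N2894 D5024
theorem N3837 : nd 3837 = n5027 := ndS (p := 2895) (l := 0) rfl N2895 D5027
theorem N3838 : nd 3838 = n5028 := ndS (p := 2895) (l := 9) rfl N2895 D5028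
theorem N3839 : nd 3839 = n5030 := ndS (p := 2897) (l := 5) rfl N2897 D5030
theorem N3840 : nd 3840 = n5031 := ndS (p := 2897) (l := 8) rfl N2897 D5031
theorem N3841 : nd 3841 = n5032 := ndS (p := 2897) (l := 9) rfl N2897 D5032
theorem N3842 : nd 3842 = n5033 := ndS (p := 2898) (l := 9) rfl N2898 D5033
theorem N3843 : nd 3843 = n5036 := ndS (p := 2900) (l := 8) rfl N2900 D5036
theorem N3844 : nd 3844 = n5037 := ndS (p := 2901) (l := 3) rfl N2901 D5037
theorem N3845 : nd 3845 = n5039 := ndS (p := 2902) (l := 4) rfl N2902 D5039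
theorem N3846 : nd 3846 = n5040 := ndS (p := 2903) (l := 1) rfl N2903 D5040
theorem N3847 : nd 3847 = n5041 := ndS (p := 2903) (l := 4) rfl N2903 D5041
theorem N3848 : nd 3848 = n5042 := ndS (p := 2904) (l := 5) rfl N2904 D5042
theorem N3849 : nd 3849 = n5043 := ndS (p := 2905) (l := 0) rfl N2905 D5043
theorem N3850 : nd 3850 = n5044 := ndS (p := 2905) (l := 4) rfl N2905 D5044
theorem N3851 : nd 3851 = n5045 := ndS (p := 2906) (l := 3) rfl N2906 D5045
theorem N3852 : nd 3852 = n5046 := ndS (p := 2906) (l := 5) rfl N2906 D5046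
theorem N3853 : nd 3853 = n5047 := ndS (p := 2907) (l := 6) rfl N2907 D5047
theorem N3854 : nd 3854 = n5054 := ndS (p := 2910) (l := 4) rfl N2910 D5054
theorem N3855 : nd 3855 = n5057 := ndS (p := 2911) (l := 5) rfl N2911 D5057
theorem N3856 : nd 3856 = n5059 := ndS (p := 2912) (l := 4) rfl N2912 D5059
theorem N3857 : nd 3857 = n5060 := ndS (p := 2913) (l := 3) rfl N2913 D5060
theorem N3858 : nd 3858 = n5061 := ndS (p := 2913) (l := 5) rfl N2913 D5061
theorem N3859 : nd 3859 = n5062 := ndS (p := 2914) (l := 6) rfl N2914 D5062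
theorem N3860 : nd 3860 = n5063 := ndS (p := 2915) (l := 4) rfl N2915 D5063
theorem N3861 : nd 3861 = n5064 := ndS (p := 2916) (l := 3) rfl N2916 D5064
theorem N3862 : nd 3862 = n5065 := ndS (p := 2916) (l := 5) rfl N2916 D5065
theorem N3863 : nd 3863 = n5066 := ndS (p := 2917) (l := 5) rfl N2917 D5066
theorem N3864 : nd 3864 = n5067 := ndS (p := 2917) (l := 8) rfl N2917 D5067
theorem N3865 : nd 3865 = n5068 := ndS (p := 2918) (l := 6) rfl N2918 D5068
theorem N3866 : nd 3866 = n5069 := ndS (p := 2919) (l := 7) rfl N2919 D5069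
theorem N3867 : nd 3867 = n5079 := ndS (p := 2920) (l := 5) rfl N2920 D5079
theorem N3868 : nd 3868 = n5084 := ndS (p := 2921) (l := 6) rfl N2921 D5084
theorem N3869 : nd 3869 = n5086 := ndS (p := 2922) (l := 3) rfl N2922 D5086
theorem N3870 : nd 3870 = n5087 := ndS (p := 2922) (l := 5) rfl N2922 D5087
theorem N3871 : nd 3871 = n5088 := ndS (p := 2923) (l := 5) rfl N2923 D5088
theorem N3872 : nd 3872 = n5090 := ndS (p := 2924) (l := 6) rfl N2924 D5090
theorem N3873 : nd 3873 = n5091 := ndS (p := 2925) (l := 7) rfl N2925 D5091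
theorem N3874 : nd 3874 = n5092 := ndS (p := 2926) (l := 3) rfl N2926 D5092
theorem N3875 : nd 3875 = n5093 := ndS (p := 2926) (l := 5) rfl N2926 D5093
theorem N3876 : nd 3876 = n5094 := ndS (p := 2927) (l := 2) rfl N2927 D5094
theorem N3877 : nd 3877 = n5095 := ndS (p := 2927) (l := 5) rfl N2927 D5095
theorem N3878 : nd 3878 = n5096 := ndS (p := 2927) (l := 8) rfl N2927 D5096
theorem N3879 : nd 3879 = n5097 := ndS (p := 2928) (l := 6) rfl N2928 D5097
theorem N3880 : nd 3880 = n5098 := ndS (p := 2929) (l := 4) rfl N2929 D5098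
theorem N3881 : nd 3881 = n5099 := ndS (p := 2929) (l := 6) rfl N2929 D5099
theorem N3882 : nd 3882 = n5100 := ndS (p := 2929) (l := 8) rfl N2929 D5100
theorem N3883 : nd 3883 = n5102 := ndS (p := 2931) (l := 7) rfl N2931 D5102
theorem N3884 : nd 3884 = n5110 := ndS (p := 2933) (l := 6) rfl N2933 D5110
theorem N3885 : nd 3885 = n5112 := ndS (p := 2934) (l := 3) rfl N2934 D5112
theorem N3886 : nd 3886 = n5113 := ndS (p := 2934) (l := 5) rfl N2934 D5113
theorem N3887 : nd 3887 = n5114 := ndS (p := 2935) (l := 5) rfl N2935 D5114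
theorem N3888 : nd 3888 = n5116 := ndS (p := 2936) (l := 6) rfl N2936 D5116
theorem N3889 : nd 3889 = n5117 := ndS (p := 2937) (l := 7) rfl N2937 D5117
theorem N3890 : nd 3890 = n5118 := ndS (p := 2938) (l := 3) rfl N2938 D5118
theorem N3891 : nd 3891 = n5119 := ndS (p := 2938) (l := 5) rfl N2938 D5119
theorem N3892 : nd 3892 = n5120 := ndS (p := 2939) (l := 2) rfl N2939 D5120
theorem N3893 : nd 3893 = n5121 := ndS (p := 2939) (l := 5) rfl N2939 D5121
theorem N3894 : nd 3894 = n5122 := ndS (p := 2939) (l := 8) rfl N2939 D5122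
theorem N3895 : nd 3895 = n5123 := ndS (p := 2940) (l := 6) rfl N2940 D5123
theorem N3896 : nd 3896 = n5124 := ndS (p := 2941) (l := 4) rfl N2941 D5124
theorem N3897 : nd 3897 = n5125 := ndS (p := 2941) (l := 6) rfl N2941 D5125
theorem N3898 : nd 3898 = n5126 := ndS (p := 2941) (l := 8) rfl N2941 D5126
theorem N3899 : nd 3899 = n5127 := ndS (p := 2942) (l := 9) rfl N2942 D5127
theorem N3900 : nd 3900 = n5128 := ndS (p := 2943) (l := 7) rfl N2943 D5128
theorem N3901 : nd 3901 = n5140 := ndS (p := 2945) (l := 7) rfl N2945 D5140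
theorem N3902 : nd 3902 = n5143 := ndS (p := 2946) (l := 2) rfl N2946 D5143
theorem N3903 : nd 3903 = n5144 := ndS (p := 2946) (l := 5) rfl N2946 D5144
theorem N3904 : nd 3904 = n5146 := ndS (p := 2947) (l := 6) rfl N2947 D5146
theorem N3905 : nd 3905 = n5147 := ndS (p := 2948) (l := 4) rfl N2948 D5147
theorem N3906 : nd 3906 = n5148 := ndS (p := 2948) (l := 6) rfl N2948 D5148
theorem N3907 : nd 3907 = n5151 := ndS (p := 2949) (l := 7) rfl N2949 D5151
theorem N3908 : nd 3908 = n5152 := ndS (p := 2951) (l := 2) rfl N2951 D5152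
theorem N3909 : nd 3909 = n5153 := ndS (p := 2951) (l := 5) rfl N2951 D5153
theorem N3910 : nd 3910 = n5154 := ndS (p := 2951) (l := 8) rfl N2951 D5154
theorem N3911 : nd 3911 = n5155 := ndS (p := 2952) (l := 6) rfl N2952 D5155
theorem N3912 : nd 3912 = n5156 := ndS (p := 2953) (l := 5) rfl N2953 D5156
theorem N3913 : nd 3913 = n5157 := ndS (p := 2953) (l := 8) rfl N2953 D5157
theorem N3914 : nd 3914 = n5158 := ndS (p := 2954) (l := 4) rfl N2954 D5158
theorem N3915 : nd 3915 = n5159 := ndS (p := 2954) (l := 6) rfl N2954 D5159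
theorem N3916 : nd 3916 = n5160 := ndS (p := 2954) (l := 8) rfl N2954 D5160
theorem N3917 : nd 3917 = n5161 := ndS (p := 2955) (l := 9) rfl N2955 D5161
theorem N3918 : nd 3918 = n5162 := ndS (p := 2956) (l := 7) rfl N2956 D5162
theorem N3919 : nd 3919 = n5163 := ndS (p := 2957) (l := 6) rfl N2957 D5163
theorem N3920 : nd 3920 = n5164 := ndS (p := 2957) (l := 8) rfl N2957 D5164
theorem N3921 : nd 3921 = n5165 := ndS (p := 2958) (l := 7) rfl N2958 D5165
theorem N3922 : nd 3922 = n5166 := ndS (p := 2958) (l := 8) rfl N2958 D5166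
theorem N3923 : nd 3923 = n5167 := ndS (p := 2959) (l := 9) rfl N2959 D5167
theorem N3924 : nd 3924 = n5190 := ndS (p := 2963) (l := 5) rfl N2963 D5190
theorem N3925 : nd 3925 = n5192 := ndS (p := 2964) (l := 4) rfl N2964 D5192
theorem N3926 : nd 3926 = n5193 := ndS (p := 2964) (l := 6) rfl N2964 D5193
theorem N3927 : nd 3927 = n5196 := ndS (p := 2965) (l := 7) rfl N2965 D5196
theorem N3928 : nd 3928 = n5197 := ndS (p := 2966) (l := 6) rfl N2966 D5197
theorem N3929 : nd 3929 = n5199 := ndS (p := 2967) (l := 7) rfl N2967 D5199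
theorem N3930 : nd 3930 = n5202 := ndS (p := 2969) (l := 1) rfl N2969 D5202
theorem N3931 : nd 3931 = n5203 := ndS (p := 2969) (l := 5) rfl N2969 D5203
theorem N3932 : nd 3932 = n5204 := ndS (p := 2969) (l := 8) rfl N2969 D5204
theorem N3933 : nd 3933 = n5205 := ndS (p := 2970) (l := 4) rfl N2970 D5205
theorem N3934 : nd 3934 = n5206 := ndS (p := 2970) (l := 6) rfl N2970 D5206
theorem N3935 : nd 3935 = n5207 := ndS (p := 2970) (l := 8) rfl N2970 D5207
theorem N3936 : nd 3936 = n5209 := ndS (p := 2972) (l := 7) rfl N2972 D5209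
theorem N3937 : nd 3937 = n5210 := ndS (p := 2973) (l := 4) rfl N2973 D5210
theorem N3938 : nd 3938 = n5211 := ndS (p := 2973) (l := 6) rfl N2973 D5211
theorem N3939 : nd 3939 = n5212 := ndS (p := 2973) (l := 8) rfl N2973 D5212
theorem N3940 : nd 3940 = n5213 := ndS (p := 2974) (l := 3) rfl N2974 D5213
theorem N3941 : nd 3941 = n5215 := ndS (p := 2975) (l := 6) rfl N2975 D5215
theorem N3942 : nd 3942 = n5216 := ndS (p := 2975) (l := 8) rfl N2975 D5216
theorem N3943 : nd 3943 = n5217 := ndS (p := 2976) (l := 7) rfl N2976 D5217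
theorem N3944 : nd 3944 = n5218 := ndS (p := 2976) (l := 8) rfl N2976 D5218
theorem N3945 : nd 3945 = n5219 := ndS (p := 2977) (l := 9) rfl N2977 D5219
theorem N3946 : nd 3946 = n5220 := ndS (p := 2980) (l := 5) rfl N2980 D5220
theorem N3947 : nd 3947 = n5221 := ndS (p := 2980) (l := 7) rfl N2980 D5221
theorem N3948 : nd 3948 = n5222 := ndS (p := 2980) (l := 8) rfl N2980 D5222
theorem N3949 : nd 3949 = n5223 := ndS (p := 2981) (l := 3) rfl N2981 D5223
theorem N3950 : nd 3950 = n5224 := ndS (p := 2981) (l := 9) rfl N2981 D5224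
theorem N3951 : nd 3951 = n5225 := ndS (p := 2982) (l := 8) rfl N2982 D5225
theorem N3952 : nd 3952 = n5226 := ndS (p := 2983) (l := 9) rfl N2983 D5226
theorem N3953 : nd 3953 = n5227 := ndS (p := 2985) (l := 3) rfl N2985 D5227
theorem N3954 : nd 3954 = n5228 := ndS (p := 2985) (l := 5) rfl N2985 D5228
theorem N3955 : nd 3955 = n5229 := ndS (p := 2986) (l := 2) rfl N2986 D5229
theorem N3956 : nd 3956 = n5230 := ndS (p := 2986) (l := 5) rfl N2986 D5230
theorem N3957 : nd 3957 = n5231 := ndS (p := 2986) (l := 8) rfl N2986 D5231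
theorem N3958 : nd 3958 = n5232 := ndS (p := 2987) (l := 6) rfl N2987 D5232
theorem N3959 : nd 3959 = n5233 := ndS (p := 2988) (l := 4) rfl N2988 D5233
theorem N3960 : nd 3960 = n5234 := ndS (p := 2988) (l := 6) rfl N2988 D5234
theorem N3961 : nd 3961 = n5235 := ndS (p := 2988) (l := 8) rfl N2988 D5235
theorem N3962 : nd 3962 = n5236 := ndS (p := 2989) (l := 9) rfl N2989 D5236
theorem N3963 : nd 3963 = n5237 := ndS (p := 2990) (l := 7) rfl N2990 D5237
theorem N3964 : nd 3964 = n5238 := ndS (p := 2992) (l := 2) rfl N2992 D5238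
theorem N3965 : nd 3965 = n5239 := ndS (p := 2992) (l := 5) rfl N2992 D5239
theorem N3966 : nd 3966 = n5241 := ndS (p := 2993) (l := 6) rfl N2993 D5241
theorem N3967 : nd 3967 = n5242 := ndS (p := 2994) (l := 5) rfl N2994 D5242
theorem N3968 : nd 3968 = n5243 := ndS (p := 2994) (l := 8) rfl N2994 D5243
theorem N3969 : nd 3969 = n5244 := ndS (p := 2995) (l := 4) rfl N2995 D5244
theorem N3970 : nd 3970 = n5245 := ndS (p := 2995) (l := 6) rfl N2995 D5245
theorem N3971 : nd 3971 = n5246 := ndS (p := 2995) (l := 8) rfl N2995 D5246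
theorem N3972 : nd 3972 = n5248 := ndS (p := 2997) (l := 7) rfl N2997 D5248
theorem N3973 : nd 3973 = n5253 := ndS (p := 3000) (l := 9) rfl N3000 D5253
theorem N3974 : nd 3974 = n5254 := ndS (p := 3003) (l := 2) rfl N3003 D5254
theorem N3975 : nd 3975 = n5255 := ndS (p := 3003) (l := 5) rfl N3003 D5255
theorem N3976 : nd 3976 = n5257 := ndS (p := 3004) (l := 6) rfl N3004 D5257
theorem N3977 : nd 3977 = n5258 := ndS (p := 3005) (l := 5) rfl N3005 D5258
theorem N3978 : nd 3978 = n5259 := ndS (p := 3005) (l := 8) rfl N3005 D5259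
theorem N3979 : nd 3979 = n5260 := ndS (p := 3006) (l := 4) rfl N3006 D5260
theorem N3980 : nd 3980 = n5261 := ndS (p := 3006) (l := 6) rfl N3006 D5261
theorem N3981 : nd 3981 = n5262 := ndS (p := 3006) (l := 8) rfl N3006 D5262
theorem N3982 : nd 3982 = n5264 := ndS (p := 3008) (l := 7) rfl N3008 D5264
theorem N3983 : nd 3983 = n5265 := ndS (p := 3009) (l := 6) rfl N3009 D5265
theorem N3984 : nd 3984 = n5266 := ndS (p := 3009) (l := 8) rfl N3009 D5266
theorem N3985 : nd 3985 = n5267 := ndS (p := 3010) (l := 7) rfl N3010 D5267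
theorem N3986 : nd 3986 = n5268 := ndS (p := 3010) (l := 8) rfl N3010 D5268
theorem N3987 : nd 3987 = n5269 := ndS (p := 3011) (l := 9) rfl N3011 D5269
theorem N3988 : nd 3988 = n5271 := ndS (p := 3014) (l := 5) rfl N3014 D5271
theorem N3989 : nd 3989 = n5273 := ndS (p := 3015) (l := 4) rfl N3015 D5273
theorem N3990 : nd 3990 = n5274 := ndS (p := 3015) (l := 6) rfl N3015 D5274
theorem N3991 : nd 3991 = n5277 := ndS (p := 3016) (l := 7) rfl N3016 D5277
theorem N3992 : nd 3992 = n5278 := ndS (p := 3017) (l := 4) rfl N3017 D5278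
theorem N3993 : nd 3993 = n5279 := ndS (p := 3017) (l := 6) rfl N3017 D5279
theorem N3994 : nd 3994 = n5280 := ndS (p := 3017) (l := 8) rfl N3017 D5280
theorem N3995 : nd 3995 = n5281 := ndS (p := 3018) (l := 3) rfl N3018 D5281
theorem N3996 : nd 3996 = n5283 := ndS (p := 3019) (l := 6) rfl N3019 D5283
theorem N3997 : nd 3997 = n5284 := ndS (p := 3019) (l := 8) rfl N3019 D5284
theorem N3998 : nd 3998 = n5285 := ndS (p := 3020) (l := 7) rfl N3020 D5285
theorem N3999 : nd 3999 = n5286 := ndS (p := 3020) (l := 8) rfl N3020 D5286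
theorem N4000 : nd 4000 = n5292 := ndS (p := 3024) (l := 9) rfl N3024 D5292
theorem N4001 : nd 4001 = n5294 := ndS (p := 3026) (l := 9) rfl N3026 D5294
theorem N4002 : nd 4002 = n5296 := ndS (p := 3028) (l := 5) rfl N3028 D5296
theorem N4003 : nd 4003 = n5298 := ndS (p := 3029) (l := 4) rfl N3029 D5298
theorem N4004 : nd 4004 = n5299 := ndS (p := 3029) (l := 6) rfl N3029 D5299
theorem N4005 : nd 4005 = n5302 := ndS (p := 3030) (l := 7) rfl N3030 D5302
theorem N4006 : nd 4006 = n5303 := ndS (p := 3031) (l := 4) rfl N3031 D5303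
theorem N4007 : nd 4007 = n5304 := ndS (p := 3031) (l := 6) rfl N3031 D5304
theorem N4008 : nd 4008 = n5305 := ndS (p := 3031) (l := 8) rfl N3031 D5305
theorem N4009 : nd 4009 = n5308 := ndS (p := 3033) (l := 6) rfl N3033 D5308
theorem N4010 : nd 4010 = n5309 := ndS (p := 3033) (l := 8) rfl N3033 D5309
theorem N4011 : nd 4011 = n5310 := ndS (p := 3034) (l := 7) rfl N3034 D5310
theorem N4012 : nd 4012 = n5311 := ndS (p := 3034) (l := 8) rfl N3034 D5311
theorem N4013 : nd 4013 = n5313 := ndS (p := 3037) (l := 5) rfl N3037 D5313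
theorem N4014 : nd 4014 = n5314 := ndS (p := 3037) (l := 7) rfl N3037 D5314
theorem N4015 : nd 4015 = n5315 := ndS (p := 3037) (l := 8) rfl N3037 D5315
theorem N4016 : nd 4016 = n5316 := ndS (p := 3038) (l := 3) rfl N3038 D5316
theorem N4017 : nd 4017 = n5317 := ndS (p := 3038) (l := 9) rfl N3038 D5317
theorem N4018 : nd 4018 = n5318 := ndS (p := 3039) (l := 8) rfl N3039 D5318
theorem N4019 : nd 4019 = n5319 := ndS (p := 3040) (l := 9) rfl N3040 D5319
theorem N4020 : nd 4020 = n5322 := ndS (p := 3042) (l := 4) rfl N3042 D5322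
theorem N4021 : nd 4021 = n5323 := ndS (p := 3042) (l := 6) rfl N3042 D5323
theorem N4022 : nd 4022 = n5327 := ndS (p := 3043) (l := 6) rfl N3043 D5327
theorem N4023 : nd 4023 = n5329 := ndS (p := 3044) (l := 7) rfl N3044 D5329
theorem N4024 : nd 4024 = n5332 := ndS (p := 3046) (l := 3) rfl N3046 D5332
theorem N4025 : nd 4025 = n5333 := ndS (p := 3046) (l := 6) rfl N3046 D5333
theorem N4026 : nd 4026 = n5334 := ndS (p := 3046) (l := 8) rfl N3046 D5334
theorem N4027 : nd 4027 = n5335 := ndS (p := 3047) (l := 7) rfl N3047 D5335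
theorem N4028 : nd 4028 = n5336 := ndS (p := 3047) (l := 8) rfl N3047 D5336
theorem N4029 : nd 4029 = n5337 := ndS (p := 3048) (l := 3) rfl N3048 D5337
theorem N4030 : nd 4030 = n5339 := ndS (p := 3049) (l := 4) rfl N3049 D5339
theorem N4031 : nd 4031 = n5341 := ndS (p := 3050) (l := 5) rfl N3050 D5341
theorem N4032 : nd 4032 = n5342 := ndS (p := 3050) (l := 7) rfl N3050 D5342
theorem N4033 : nd 4033 = n5343 := ndS (p := 3050) (l := 8) rfl N3050 D5343
theorem N4034 : nd 4034 = n5345 := ndS (p := 3052) (l := 8) rfl N3052 D5345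
theorem N4035 : nd 4035 = n5350 := ndS (p := 3056) (l := 9) rfl N3056 D5350
theorem N4036 : nd 4036 = n5351 := ndS (p := 3058) (l := 9) rfl N3058 D5351
theorem N4037 : nd 4037 = n5354 := ndS (p := 3060) (l := 4) rfl N3060 D5354
theorem N4038 : nd 4038 = n5355 := ndS (p := 3060) (l := 6) rfl N3060 D5355
theorem N4039 : nd 4039 = n5358 := ndS (p := 3061) (l := 6) rfl N3061 D5358
theorem N4040 : nd 4040 = n5359 := ndS (p := 3061) (l := 8) rfl N3061 D5359
theorem N4041 : nd 4041 = n5360 := ndS (p := 3062) (l := 7) rfl N3062 D5360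
theorem N4042 : nd 4042 = n5361 := ndS (p := 3062) (l := 8) rfl N3062 D5361
theorem N4043 : nd 4043 = n5362 := ndS (p := 3065) (l := 3) rfl N3065 D5362
theorem N4044 : nd 4044 = n5363 := ndS (p := 3065) (l := 6) rfl N3065 D5363
theorem N4045 : nd 4045 = n5364 := ndS (p := 3065) (l := 8) rfl N3065 D5364
theorem N4046 : nd 4046 = n5365 := ndS (p := 3066) (l := 7) rfl N3066 D5365
theorem N4047 : nd 4047 = n5366 := ndS (p := 3066) (l := 8) rfl N3066 D5366
theorem N4048 : nd 4048 = n5369 := ndS (p := 3068) (l := 5) rfl N3068 D5369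
theorem N4049 : nd 4049 = n5370 := ndS (p := 3068) (l := 7) rfl N3068 D5370
theorem N4050 : nd 4050 = n5371 := ndS (p := 3068) (l := 8) rfl N3068 D5371
theorem N4051 : nd 4051 = n5372 := ndS (p := 3069) (l := 3) rfl N3069 D5372
theorem N4052 : nd 4052 = n5373 := ndS (p := 3070) (l := 8) rfl N3070 D5373
theorem N4053 : nd 4053 = n5374 := ndS (p := 3072) (l := 7) rfl N3072 D5374
theorem N4054 : nd 4054 = n5375 := ndS (p := 3072) (l := 8) rfl N3072 D5375
theorem N4055 : nd 4055 = n5376 := ndS (p := 3073) (l := 8) rfl N3073 D5376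
theorem N4056 : nd 4056 = n5377 := ndS (p := 3074) (l := 3) rfl N3074 D5377
theorem N4057 : nd 4057 = n5378 := ndS (p := 3075) (l := 2) rfl N3075 D5378
theorem N4058 : nd 4058 = n5379 := ndS (p := 3077) (l := 4) rfl N3077 D5379
theorem N4059 : nd 4059 = n5380 := ndS (p := 3077) (l := 6) rfl N3077 D5380
theorem N4060 : nd 4060 = n5381 := ndS (p := 3078) (l := 3) rfl N3078 D5381
theorem N4061 : nd 4061 = n5382 := ndS (p := 3078) (l := 6) rfl N3078 D5382
theorem N4062 : nd 4062 = n5383 := ndS (p := 3079) (l := 7) rfl N3079 D5383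
theorem N4063 : nd 4063 = n5384 := ndS (p := 3080) (l := 5) rfl N3080 D5384
theorem N4064 : nd 4064 = n5385 := ndS (p := 3080) (l := 7) rfl N3080 D5385
theorem N4065 : nd 4065 = n5386 := ndS (p := 3082) (l := 6) rfl N3082 D5386
theorem N4066 : nd 4066 = n5387 := ndS (p := 3082) (l := 8) rfl N3082 D5387
theorem N4067 : nd 4067 = n5388 := ndS (p := 3083) (l := 5) rfl N3083 D5388
theorem N4068 : nd 4068 = n5389 := ndS (p := 3083) (l := 7) rfl N3083 D5389
theorem N4069 : nd 4069 = n5390 := ndS (p := 3085) (l := 7) rfl N3085 D5390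
theorem N4070 : nd 4070 = n5393 := ndS (p := 3088) (l := 5) rfl N3088 D5393
theorem N4071 : nd 4071 = n5395 := ndS (p := 3089) (l := 4) rfl N3089 D5395
theorem N4072 : nd 4072 = n5396 := ndS (p := 3089) (l := 6) rfl N3089 D5396
theorem N4073 : nd 4073 = n5399 := ndS (p := 3090) (l := 7) rfl N3090 D5399
theorem N4074 : nd 4074 = n5400 := ndS (p := 3091) (l := 4) rfl N3091 D5400
theorem N4075 : nd 4075 = n5401 := ndS (p := 3091) (l := 6) rfl N3091 D5401
theorem N4076 : nd 4076 = n5402 := ndS (p := 3091) (l := 8) rfl N3091 D5402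
theorem N4077 : nd 4077 = n5403 := ndS (p := 3092) (l := 3) rfl N3092 D5403
theorem N4078 : nd 4078 = n5405 := ndS (p := 3093) (l := 6) rfl N3093 D5405
theorem N4079 : nd 4079 = n5406 := ndS (p := 3093) (l := 8) rfl N3093 D5406
theorem N4080 : nd 4080 = n5407 := ndS (p := 3094) (l := 7) rfl N3094 D5407
theorem N4081 : nd 4081 = n5408 := ndS (p := 3094) (l := 8) rfl N3094 D5408
theorem N4082 : nd 4082 = n5414 := ndS (p := 3098) (l := 9) rfl N3098 D5414
theorem N4083 : nd 4083 = n5416 := ndS (p := 3100) (l := 9) rfl N3100 D5416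
theorem N4084 : nd 4084 = n5419 := ndS (p := 3102) (l := 4) rfl N3102 D5419
theorem N4085 : nd 4085 = n5420 := ndS (p := 3102) (l := 6) rfl N3102 D5420
theorem N4086 : nd 4086 = n5424 := ndS (p := 3103) (l := 6) rfl N3103 D5424
theorem N4087 : nd 4087 = n5426 := ndS (p := 3104) (l := 7) rfl N3104 D5426
theorem N4088 : nd 4088 = n5429 := ndS (p := 3106) (l := 3) rfl N3106 D5429
theorem N4089 : nd 4089 = n5430 := ndS (p := 3106) (l := 6) rfl N3106 D5430
theorem N4090 : nd 4090 = n5431 := ndS (p := 3106) (l := 8) rfl N3106 D5431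
theorem N4091 : nd 4091 = n5432 := ndS (p := 3107) (l := 7) rfl N3107 D5432
theorem N4092 : nd 4092 = n5433 := ndS (p := 3107) (l := 8) rfl N3107 D5433
theorem N4093 : nd 4093 = n5434 := ndS (p := 3108) (l := 3) rfl N3108 D5434
theorem N4094 : nd 4094 = n5436 := ndS (p := 3109) (l := 4) rfl N3109 D5436
theorem N4095 : nd 4095 = n5438 := ndS (p := 3110) (l := 7) rfl N3110 D5438
theorem N4096 : nd 4096 = n5439 := ndS (p := 3110) (l := 8) rfl N3110 D5439
theorem N4097 : nd 4097 = n5440 := ndS (p := 3111) (l := 3) rfl N3111 D5440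
theorem N4098 : nd 4098 = n5442 := ndS (p := 3112) (l := 8) rfl N3112 D5442
theorem N4099 : nd 4099 = n5446 := ndS (p := 3115) (l := 9) rfl N3115 D5446
theorem N4100 : nd 4100 = n5448 := ndS (p := 3116) (l := 9) rfl N3116 D5448
theorem N4101 : nd 4101 = n5449 := ndS (p := 3118) (l := 9) rfl N3118 D5449
theorem N4102 : nd 4102 = n5454 := ndS (p := 3120) (l := 7) rfl N3120 D5454
theorem N4103 : nd 4103 = n5462 := ndS (p := 3122) (l := 8) rfl N3122 D5462
theorem N4104 : nd 4104 = n5463 := ndS (p := 3123) (l := 3) rfl N3123 D5463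
theorem N4105 : nd 4105 = n5465 := ndS (p := 3124) (l := 4) rfl N3124 D5465
theorem N4106 : nd 4106 = n5467 := ndS (p := 3125) (l := 5) rfl N3125 D5467
theorem N4107 : nd 4107 = n5473 := ndS (p := 3128) (l := 4) rfl N3128 D5473
theorem N4108 : nd 4108 = n5474 := ndS (p := 3128) (l := 6) rfl N3128 D5474
theorem N4109 : nd 4109 = n5478 := ndS (p := 3129) (l := 6) rfl N3129 D5478
theorem N4110 : nd 4110 = n5482 := ndS (p := 3131) (l := 3) rfl N3131 D5482
theorem N4111 : nd 4111 = n5483 := ndS (p := 3131) (l := 6) rfl N3131 D5483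
theorem N4112 : nd 4112 = n5484 := ndS (p := 3131) (l := 8) rfl N3131 D5484
theorem N4113 : nd 4113 = n5485 := ndS (p := 3132) (l := 8) rfl N3132 D5485
theorem N4114 : nd 4114 = n5486 := ndS (p := 3133) (l := 3) rfl N3133 D5486
theorem N4115 : nd 4115 = n5488 := ndS (p := 3134) (l := 4) rfl N3134 D5488
theorem N4116 : nd 4116 = n5490 := ndS (p := 3135) (l := 5) rfl N3135 D5490
theorem N4117 : nd 4117 = n5491 := ndS (p := 3135) (l := 8) rfl N3135 D5491
theorem N4118 : nd 4118 = n5492 := ndS (p := 3136) (l := 3) rfl N3136 D5492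
theorem N4119 : nd 4119 = n5497 := ndS (p := 3139) (l := 9) rfl N3139 D5497
theorem N4120 : nd 4120 = n5499 := ndS (p := 3140) (l := 9) rfl N3140 D5499
theorem N4121 : nd 4121 = n5504 := ndS (p := 3143) (l := 3) rfl N3143 D5504
theorem N4122 : nd 4122 = n5512 := ndS (p := 3144) (l := 8) rfl N3144 D5512
theorem N4123 : nd 4123 = n5513 := ndS (p := 3145) (l := 3) rfl N3145 D5513
theorem N4124 : nd 4124 = n5515 := ndS (p := 3146) (l := 4) rfl N3146 D5515
theorem N4125 : nd 4125 = n5517 := ndS (p := 3147) (l := 5) rfl N3147 D5517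
theorem N4126 : nd 4126 = n5520 := ndS (p := 3148) (l := 2) rfl N3148 D5520
theorem N4127 : nd 4127 = n5522 := ndS (p := 3149) (l := 1) rfl N3149 D5522
theorem N4128 : nd 4128 = n5523 := ndS (p := 3149) (l := 9) rfl N3149 D5523
theorem N4129 : nd 4129 = n5524 := ndS (p := 3150) (l := 8) rfl N3150 D5524
theorem N4130 : nd 4130 = n5531 := ndS (p := 3151) (l := 6) rfl N3151 D5531
theorem N4131 : nd 4131 = n5534 := ndS (p := 3152) (l := 2) rfl N3152 D5534
theorem N4132 : nd 4132 = n5535 := ndS (p := 3152) (l := 5) rfl N3152 D5535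
theorem N4133 : nd 4133 = n5536 := ndS (p := 3152) (l := 8) rfl N3152 D5536
theorem N4134 : nd 4134 = n5541 := ndS (p := 3154) (l := 4) rfl N3154 D5541
theorem N4135 : nd 4135 = n5542 := ndS (p := 3154) (l := 8) rfl N3154 D5542
theorem N4136 : nd 4136 = n5543 := ndS (p := 3154) (l := 9) rfl N3154 D5543
theorem N4137 : nd 4137 = n5550 := ndS (p := 3158) (l := 3) rfl N3158 D5550
theorem N4138 : nd 4138 = n5552 := ndS (p := 3159) (l := 4) rfl N3159 D5552
theorem N4139 : nd 4139 = n5555 := ndS (p := 3160) (l := 5) rfl N3160 D5555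
theorem N4140 : nd 4140 = n5558 := ndS (p := 3161) (l := 3) rfl N3161 D5558
theorem N4141 : nd 4141 = n5559 := ndS (p := 3161) (l := 5) rfl N3161 D5559
theorem N4142 : nd 4142 = n5560 := ndS (p := 3162) (l := 6) rfl N3162 D5560
theorem N4143 : nd 4143 = n5568 := ndS (p := 3167) (l := 8) rfl N3167 D5568
theorem N4144 : nd 4144 = n5584 := ndS (p := 3169) (l := 5) rfl N3169 D5584
theorem N4145 : nd 4145 = n5589 := ndS (p := 3170) (l := 6) rfl N3170 D5589
theorem N4146 : nd 4146 = n5593 := ndS (p := 3171) (l := 5) rfl N3171 D5593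
theorem N4147 : nd 4147 = n5595 := ndS (p := 3172) (l := 6) rfl N3172 D5595
theorem N4148 : nd 4148 = n5596 := ndS (p := 3173) (l := 7) rfl N3173 D5596
theorem N4149 : nd 4149 = n5601 := ndS (p := 3174) (l := 8) rfl N3174 D5601
theorem N4150 : nd 4150 = n5608 := ndS (p := 3180) (l := 3) rfl N3180 D5608
theorem N4151 : nd 4151 = n5633 := ndS (p := 3181) (l := 6) rfl N3181 D5633
theorem N4152 : nd 4152 = n5640 := ndS (p := 3182) (l := 7) rfl N3182 D5640
theorem N4153 : nd 4153 = n5647 := ndS (p := 3183) (l := 4) rfl N3183 D5647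
theorem N4154 : nd 4154 = n5648 := ndS (p := 3183) (l := 6) rfl N3183 D5648
theorem N4155 : nd 4155 = n5651 := ndS (p := 3184) (l := 7) rfl N3184 D5651
theorem N4156 : nd 4156 = n5657 := ndS (p := 3186) (l := 8) rfl N3186 D5657
theorem N4157 : nd 4157 = n5658 := ndS (p := 3187) (l := 4) rfl N3187 D5658
theorem N4158 : nd 4158 = n5660 := ndS (p := 3187) (l := 8) rfl N3187 D5660
theorem N4159 : nd 4159 = n5682 := ndS (p := 3194) (l := 7) rfl N3194 D5682
theorem N4160 : nd 4160 = n5689 := ndS (p := 3195) (l := 4) rfl N3195 D5689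
theorem N4161 : nd 4161 = n5690 := ndS (p := 3195) (l := 6) rfl N3195 D5690
theorem N4162 : nd 4162 = n5698 := ndS (p := 3198) (l := 5) rfl N3198 D5698
theorem N4163 : nd 4163 = n5702 := ndS (p := 3199) (l := 8) rfl N3199 D5702
theorem N4164 : nd 4164 = n5744 := ndS (p := 3207) (l := 6) rfl N3207 D5744
theorem N4165 : nd 4165 = n5746 := ndS (p := 3208) (l := 7) rfl N3208 D5746
theorem N4166 : nd 4166 = n5757 := ndS (p := 3210) (l := 4) rfl N3210 D5757
theorem N4167 : nd 4167 = n5758 := ndS (p := 3210) (l := 6) rfl N3210 D5758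
theorem N4168 : nd 4168 = n5763 := ndS (p := 3211) (l := 8) rfl N3211 D5763
theorem N4169 : nd 4169 = n5765 := ndS (p := 3212) (l := 8) rfl N3212 D5765
theorem N4170 : nd 4170 = n5826 := ndS (p := 3219) (l := 5) rfl N3219 D5826
theorem N4171 : nd 4171 = n5827 := ndS (p := 3219) (l := 7) rfl N3219 D5827
theorem N4172 : nd 4172 = n5845 := ndS (p := 3221) (l := 3) rfl N3221 D5845
theorem N4173 : nd 4173 = n5846 := ndS (p := 3221) (l := 6) rfl N3221 D5846
theorem N4174 : nd 4174 = n5848 := ndS (p := 3222) (l := 7) rfl N3222 D5848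
theorem N4175 : nd 4175 = n5856 := ndS (p := 3223) (l := 8) rfl N3223 D5856
theorem N4176 : nd 4176 = n5857 := ndS (p := 3224) (l := 3) rfl N3224 D5857
theorem N4177 : nd 4177 = n5859 := ndS (p := 3225) (l := 8) rfl N3225 D5859
theorem N4178 : nd 4178 = n5869 := ndS (p := 3232) (l := 5) rfl N3232 D5869
theorem N4179 : nd 4179 = n5871 := ndS (p := 3233) (l := 6) rfl N3233 D5871
theorem N4180 : nd 4180 = n5874 := ndS (p := 3234) (l := 4) rfl N3234 D5874
theorem N4181 : nd 4181 = n5875 := ndS (p := 3234) (l := 6) rfl N3234 D5875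
theorem N4182 : nd 4182 = n5878 := ndS (p := 3235) (l := 7) rfl N3235 D5878
theorem N4183 : nd 4183 = n5887 := ndS (p := 3240) (l := 4) rfl N3240 D5887
theorem N4184 : nd 4184 = n5888 := ndS (p := 3240) (l := 6) rfl N3240 D5888
theorem N4185 : nd 4185 = n5891 := ndS (p := 3241) (l := 7) rfl N3241 D5891
theorem N4186 : nd 4186 = n5912 := ndS (p := 3245) (l := 4) rfl N3245 D5912
theorem N4187 : nd 4187 = n5913 := ndS (p := 3245) (l := 6) rfl N3245 D5913
theorem N4188 : nd 4188 = n5916 := ndS (p := 3246) (l := 7) rfl N3246 D5916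
theorem N4189 : nd 4189 = n5922 := ndS (p := 3247) (l := 6) rfl N3247 D5922
theorem N4190 : nd 4190 = n5924 := ndS (p := 3248) (l := 7) rfl N3248 D5924
theorem N4191 : nd 4191 = n5941 := ndS (p := 3254) (l := 6) rfl N3254 D5941
theorem N4192 : nd 4192 = n5943 := ndS (p := 3255) (l := 7) rfl N3255 D5943
theorem N4193 : nd 4193 = n5977 := ndS (p := 3259) (l := 6) rfl N3259 D5977
theorem N4194 : nd 4194 = n5979 := ndS (p := 3260) (l := 7) rfl N3260 D5979
theorem N4195 : nd 4195 = n5991 := ndS (p := 3262) (l := 5) rfl N3262 D5991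
theorem N4196 : nd 4196 = n5992 := ndS (p := 3262) (l := 7) rfl N3262 D5992
theorem N4197 : nd 4197 = n6001 := ndS (p := 3266) (l := 3) rfl N3266 D6001
theorem N4198 : nd 4198 = n6020 := ndS (p := 3269) (l := 5) rfl N3269 D6020
theorem N4199 : nd 4199 = n6021 := ndS (p := 3269) (l := 7) rfl N3269 D6021
theorem N4200 : nd 4200 = n6050 := ndS (p := 3273) (l := 4) rfl N3273 D6050
theorem N4201 : nd 4201 = n6051 := ndS (p := 3273) (l := 6) rfl N3273 D6051
theorem N4202 : nd 4202 = n6054 := ndS (p := 3274) (l := 3) rfl N3274 D6054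
theorem N4203 : nd 4203 = n6055 := ndS (p := 3274) (l := 6) rfl N3274 D6055
theorem N4204 : nd 4204 = n6056 := ndS (p := 3274) (l := 8) rfl N3274 D6056
theorem N4205 : nd 4205 = n6057 := ndS (p := 3275) (l := 7) rfl N3275 D6057
theorem N4206 : nd 4206 = n6058 := ndS (p := 3275) (l := 8) rfl N3275 D6058
theorem N4207 : nd 4207 = n6061 := ndS (p := 3277) (l := 5) rfl N3277 D6061
theorem N4208 : nd 4208 = n6062 := ndS (p := 3277) (l := 7) rfl N3277 D6062
theorem N4209 : nd 4209 = n6063 := ndS (p := 3277) (l := 8) rfl N3277 D6063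
theorem N4210 : nd 4210 = n6064 := ndS (p := 3278) (l := 3) rfl N3278 D6064
theorem N4211 : nd 4211 = n6065 := ndS (p := 3279) (l := 8) rfl N3279 D6065
theorem N4212 : nd 4212 = n6066 := ndS (p := 3281) (l := 6) rfl N3281 D6066
theorem N4213 : nd 4213 = n6068 := ndS (p := 3282) (l := 5) rfl N3282 D6068
theorem N4214 : nd 4214 = n6069 := ndS (p := 3282) (l := 7) rfl N3282 D6069
theorem N4215 : nd 4215 = n6070 := ndS (p := 3282) (l := 8) rfl N3282 D6070
theorem N4216 : nd 4216 = n6072 := ndS (p := 3284) (l := 8) rfl N3284 D6072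
theorem N4217 : nd 4217 = n6073 := ndS (p := 3285) (l := 3) rfl N3285 D6073
theorem N4218 : nd 4218 = n6077 := ndS (p := 3287) (l := 8) rfl N3287 D6077
theorem N4219 : nd 4219 = n6078 := ndS (p := 3288) (l := 8) rfl N3288 D6078
theorem N4220 : nd 4220 = n6079 := ndS (p := 3289) (l := 3) rfl N3289 D6079
theorem N4221 : nd 4221 = n6085 := ndS (p := 3295) (l := 2) rfl N3295 D6085
theorem N4222 : nd 4222 = n6087 := ndS (p := 3297) (l := 3) rfl N3297 D6087
theorem N4223 : nd 4223 = n6088 := ndS (p := 3297) (l := 6) rfl N3297 D6088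
theorem N4224 : nd 4224 = n6089 := ndS (p := 3298) (l := 7) rfl N3298 D6089
theorem N4225 : nd 4225 = n6090 := ndS (p := 3299) (l := 6) rfl N3299 D6090
theorem N4226 : nd 4226 = n6092 := ndS (p := 3300) (l := 5) rfl N3300 D6092
theorem N4227 : nd 4227 = n6093 := ndS (p := 3300) (l := 7) rfl N3300 D6093
theorem N4228 : nd 4228 = n6094 := ndS (p := 3302) (l := 7) rfl N3302 D6094
theorem N4229 : nd 4229 = n6108 := ndS (p := 3308) (l := 6) rfl N3308 D6108
theorem N4230 : nd 4230 = n6110 := ndS (p := 3309) (l := 7) rfl N3309 D6110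
theorem N4231 : nd 4231 = n6151 := ndS (p := 3313) (l := 7) rfl N3313 D6151
theorem N4232 : nd 4232 = n6223 := ndS (p := 3316) (l := 5) rfl N3316 D6223
theorem N4233 : nd 4233 = n6351 := ndS (p := 3319) (l := 2) rfl N3319 D6351
theorem N4234 : nd 4234 = n6352 := ndS (p := 3319) (l := 4) rfl N3319 D6352
theorem N4235 : nd 4235 = n6423 := ndS (p := 3321) (l := 8) rfl N3321 D6423
theorem N4236 : nd 4236 = n6424 := ndS (p := 3322) (l := 3) rfl N3322 D6424
theorem N4237 : nd 4237 = n6425 := ndS (p := 3323) (l := 2) rfl N3323 D6425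
theorem N4238 : nd 4238 = n6426 := ndS (p := 3323) (l := 4) rfl N3323 D6426
theorem N4239 : nd 4239 = n6427 := ndS (p := 3324) (l := 1) rfl N3324 D6427
theorem N4240 : nd 4240 = n6428 := ndS (p := 3324) (l := 4) rfl N3324 D6428
theorem N4241 : nd 4241 = n6429 := ndS (p := 3325) (l := 5) rfl N3325 D6429
theorem N4242 : nd 4242 = n6430 := ndS (p := 3326) (l := 2) rfl N3326 D6430
theorem N4243 : nd 4243 = n6431 := ndS (p := 3326) (l := 4) rfl N3326 D6431
theorem N4244 : nd 4244 = n6432 := ndS (p := 3327) (l := 1) rfl N3327 D6432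
theorem N4245 : nd 4245 = n6433 := ndS (p := 3327) (l := 4) rfl N3327 D6433
theorem N4246 : nd 4246 = n6434 := ndS (p := 3328) (l := 5) rfl N3328 D6434
theorem N4247 : nd 4247 = n6435 := ndS (p := 3329) (l := 0) rfl N3329 D6435
theorem N4248 : nd 4248 = n6436 := ndS (p := 3329) (l := 4) rfl N3329 D6436
theorem N4249 : nd 4249 = n6437 := ndS (p := 3330) (l := 3) rfl N3330 D6437
theorem N4250 : nd 4250 = n6438 := ndS (p := 3330) (l := 5) rfl N3330 D6438
theorem N4251 : nd 4251 = n6439 := ndS (p := 3331) (l := 6) rfl N3331 D6439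
theorem N4252 : nd 4252 = n6440 := ndS (p := 3332) (l := 0) rfl N3332 D6440
theorem N4253 : nd 4253 = n6441 := ndS (p := 3332) (l := 4) rfl N3332 D6441
theorem N4254 : nd 4254 = n6442 := ndS (p := 3333) (l := 3) rfl N3333 D6442
theorem N4255 : nd 4255 = n6443 := ndS (p := 3333) (l := 5) rfl N3333 D6443
theorem N4256 : nd 4256 = n6444 := ndS (p := 3334) (l := 6) rfl N3334 D6444
theorem N4257 : nd 4257 = n6445 := ndS (p := 3335) (l := 4) rfl N3335 D6445
theorem N4258 : nd 4258 = n6446 := ndS (p := 3336) (l := 3) rfl N3336 D6446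
theorem N4259 : nd 4259 = n6447 := ndS (p := 3336) (l := 5) rfl N3336 D6447
theorem N4260 : nd 4260 = n6448 := ndS (p := 3337) (l := 5) rfl N3337 D6448
theorem N4261 : nd 4261 = n6449 := ndS (p := 3337) (l := 8) rfl N3337 D6449
theorem N4262 : nd 4262 = n6450 := ndS (p := 3338) (l := 6) rfl N3338 D6450
theorem N4263 : nd 4263 = n6451 := ndS (p := 3339) (l := 7) rfl N3339 D6451
theorem N4264 : nd 4264 = n6452 := ndS (p := 3340) (l := 3) rfl N3340 D6452
theorem N4265 : nd 4265 = n6453 := ndS (p := 3340) (l := 5) rfl N3340 D6453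
theorem N4266 : nd 4266 = n6454 := ndS (p := 3341) (l := 2) rfl N3341 D6454
theorem N4267 : nd 4267 = n6455 := ndS (p := 3341) (l := 5) rfl N3341 D6455
theorem N4268 : nd 4268 = n6456 := ndS (p := 3341) (l := 8) rfl N3341 D6456
theorem N4269 : nd 4269 = n6457 := ndS (p := 3342) (l := 6) rfl N3342 D6457
theorem N4270 : nd 4270 = n6458 := ndS (p := 3343) (l := 4) rfl N3343 D6458
theorem N4271 : nd 4271 = n6459 := ndS (p := 3343) (l := 6) rfl N3343 D6459
theorem N4272 : nd 4272 = n6460 := ndS (p := 3343) (l := 8) rfl N3343 D6460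
theorem N4273 : nd 4273 = n6461 := ndS (p := 3344) (l := 9) rfl N3344 D6461
theorem N4274 : nd 4274 = n6462 := ndS (p := 3345) (l := 7) rfl N3345 D6462
theorem N4275 : nd 4275 = n6463 := ndS (p := 3347) (l := 2) rfl N3347 D6463
theorem N4276 : nd 4276 = n6464 := ndS (p := 3347) (l := 4) rfl N3347 D6464
theorem N4277 : nd 4277 = n6465 := ndS (p := 3348) (l := 1) rfl N3348 D6465
theorem N4278 : nd 4278 = n6466 := ndS (p := 3348) (l := 4) rfl N3348 D6466
theorem N4279 : nd 4279 = n6467 := ndS (p := 3349) (l := 5) rfl N3349 D6467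
theorem N4280 : nd 4280 = n6468 := ndS (p := 3350) (l := 1) rfl N3350 D6468
theorem N4281 : nd 4281 = n6469 := ndS (p := 3350) (l := 4) rfl N3350 D6469
theorem N4282 : nd 4282 = n6470 := ndS (p := 3351) (l := 5) rfl N3351 D6470
theorem N4283 : nd 4283 = n6471 := ndS (p := 3352) (l := 0) rfl N3352 D6471
theorem N4284 : nd 4284 = n6472 := ndS (p := 3352) (l := 4) rfl N3352 D6472
theorem N4285 : nd 4285 = n6473 := ndS (p := 3353) (l := 3) rfl N3353 D6473
theorem N4286 : nd 4286 = n6474 := ndS (p := 3353) (l := 5) rfl N3353 D6474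
theorem N4287 : nd 4287 = n6475 := ndS (p := 3354) (l := 6) rfl N3354 D6475
theorem N4288 : nd 4288 = n6477 := ndS (p := 3355) (l := 4) rfl N3355 D6477
theorem N4289 : nd 4289 = n6478 := ndS (p := 3356) (l := 3) rfl N3356 D6478
theorem N4290 : nd 4290 = n6479 := ndS (p := 3356) (l := 5) rfl N3356 D6479
theorem N4291 : nd 4291 = n6480 := ndS (p := 3357) (l := 6) rfl N3357 D6480
theorem N4292 : nd 4292 = n6481 := ndS (p := 3358) (l := 4) rfl N3358 D6481
theorem N4293 : nd 4293 = n6482 := ndS (p := 3359) (l := 3) rfl N3359 D6482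
theorem N4294 : nd 4294 = n6483 := ndS (p := 3359) (l := 5) rfl N3359 D6483
theorem N4295 : nd 4295 = n6484 := ndS (p := 3360) (l := 5) rfl N3360 D6484
theorem N4296 : nd 4296 = n6485 := ndS (p := 3360) (l := 8) rfl N3360 D6485
theorem N4297 : nd 4297 = n6486 := ndS (p := 3361) (l := 6) rfl N3361 D6486
theorem N4298 : nd 4298 = n6487 := ndS (p := 3362) (l := 7) rfl N3362 D6487
theorem N4299 : nd 4299 = n6489 := ndS (p := 3363) (l := 4) rfl N3363 D6489
theorem N4300 : nd 4300 = n6490 := ndS (p := 3364) (l := 3) rfl N3364 D6490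
theorem N4301 : nd 4301 = n6491 := ndS (p := 3364) (l := 5) rfl N3364 D6491
theorem N4302 : nd 4302 = n6492 := ndS (p := 3365) (l := 6) rfl N3365 D6492
theorem N4303 : nd 4303 = n6493 := ndS (p := 3366) (l := 4) rfl N3366 D6493
theorem N4304 : nd 4304 = n6494 := ndS (p := 3367) (l := 3) rfl N3367 D6494
theorem N4305 : nd 4305 = n6495 := ndS (p := 3367) (l := 5) rfl N3367 D6495
theorem N4306 : nd 4306 = n6496 := ndS (p := 3368) (l := 5) rfl N3368 D6496
theorem N4307 : nd 4307 = n6497 := ndS (p := 3368) (l := 8) rfl N3368 D6497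
theorem N4308 : nd 4308 = n6498 := ndS (p := 3369) (l := 6) rfl N3369 D6498
theorem N4309 : nd 4309 = n6499 := ndS (p := 3370) (l := 7) rfl N3370 D6499
theorem N4310 : nd 4310 = n6501 := ndS (p := 3371) (l := 3) rfl N3371 D6501
theorem N4311 : nd 4311 = n6502 := ndS (p := 3371) (l := 5) rfl N3371 D6502
theorem N4312 : nd 4312 = n6503 := ndS (p := 3372) (l := 5) rfl N3372 D6503
theorem N4313 : nd 4313 = n6504 := ndS (p := 3372) (l := 8) rfl N3372 D6504
theorem N4314 : nd 4314 = n6505 := ndS (p := 3373) (l := 6) rfl N3373 D6505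
theorem N4315 : nd 4315 = n6506 := ndS (p := 3374) (l := 7) rfl N3374 D6506
theorem N4316 : nd 4316 = n6507 := ndS (p := 3375) (l := 3) rfl N3375 D6507
theorem N4317 : nd 4317 = n6508 := ndS (p := 3375) (l := 5) rfl N3375 D6508
theorem N4318 : nd 4318 = n6509 := ndS (p := 3376) (l := 2) rfl N3376 D6509
theorem N4319 : nd 4319 = n6510 := ndS (p := 3376) (l := 5) rfl N3376 D6510
theorem N4320 : nd 4320 = n6511 := ndS (p := 3376) (l := 8) rfl N3376 D6511
theorem N4321 : nd 4321 = n6512 := ndS (p := 3377) (l := 6) rfl N3377 D6512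
theorem N4322 : nd 4322 = n6513 := ndS (p := 3378) (l := 4) rfl N3378 D6513
theorem N4323 : nd 4323 = n6514 := ndS (p := 3378) (l := 6) rfl N3378 D6514
theorem N4324 : nd 4324 = n6515 := ndS (p := 3378) (l := 8) rfl N3378 D6515
theorem N4325 : nd 4325 = n6516 := ndS (p := 3379) (l := 9) rfl N3379 D6516
theorem N4326 : nd 4326 = n6517 := ndS (p := 3380) (l := 7) rfl N3380 D6517
theorem N4327 : nd 4327 = n6520 := ndS (p := 3382) (l := 2) rfl N3382 D6520
theorem N4328 : nd 4328 = n6521 := ndS (p := 3382) (l := 5) rfl N3382 D6521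
theorem N4329 : nd 4329 = n6522 := ndS (p := 3382) (l := 8) rfl N3382 D6522
theorem N4330 : nd 4330 = n6523 := ndS (p := 3383) (l := 6) rfl N3383 D6523
theorem N4331 : nd 4331 = n6524 := ndS (p := 3384) (l := 4) rfl N3384 D6524
theorem N4332 : nd 4332 = n6525 := ndS (p := 3384) (l := 6) rfl N3384 D6525
theorem N4333 : nd 4333 = n6526 := ndS (p := 3384) (l := 8) rfl N3384 D6526
theorem N4334 : nd 4334 = n6527 := ndS (p := 3385) (l := 9) rfl N3385 D6527
theorem N4335 : nd 4335 = n6528 := ndS (p := 3386) (l := 7) rfl N3386 D6528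
theorem N4336 : nd 4336 = n6529 := ndS (p := 3388) (l := 2) rfl N3388 D6529
theorem N4337 : nd 4337 = n6530 := ndS (p := 3388) (l := 5) rfl N3388 D6530
theorem N4338 : nd 4338 = n6531 := ndS (p := 3388) (l := 8) rfl N3388 D6531
theorem N4339 : nd 4339 = n6532 := ndS (p := 3389) (l := 6) rfl N3389 D6532
theorem N4340 : nd 4340 = n6533 := ndS (p := 3390) (l := 5) rfl N3390 D6533
theorem N4341 : nd 4341 = n6534 := ndS (p := 3390) (l := 8) rfl N3390 D6534
theorem N4342 : nd 4342 = n6535 := ndS (p := 3391) (l := 4) rfl N3391 D6535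
theorem N4343 : nd 4343 = n6536 := ndS (p := 3391) (l := 6) rfl N3391 D6536
theorem N4344 : nd 4344 = n6537 := ndS (p := 3391) (l := 8) rfl N3391 D6537
theorem N4345 : nd 4345 = n6538 := ndS (p := 3392) (l := 9) rfl N3392 D6538
theorem N4346 : nd 4346 = n6539 := ndS (p := 3393) (l := 7) rfl N3393 D6539
theorem N4347 : nd 4347 = n6540 := ndS (p := 3394) (l := 6) rfl N3394 D6540
theorem N4348 : nd 4348 = n6541 := ndS (p := 3394) (l := 8) rfl N3394 D6541
theorem N4349 : nd 4349 = n6542 := ndS (p := 3395) (l := 7) rfl N3395 D6542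
theorem N4350 : nd 4350 = n6543 := ndS (p := 3395) (l := 8) rfl N3395 D6543
theorem N4351 : nd 4351 = n6544 := ndS (p := 3396) (l := 9) rfl N3396 D6544
theorem N4352 : nd 4352 = n6545 := ndS (p := 3399) (l := 0) rfl N3399 D6545
theorem N4353 : nd 4353 = n6546 := ndS (p := 3399) (l := 4) rfl N3399 D6546
theorem N4354 : nd 4354 = n6547 := ndS (p := 3400) (l := 3) rfl N3400 D6547
theorem N4355 : nd 4355 = n6548 := ndS (p := 3400) (l := 5) rfl N3400 D6548
theorem N4356 : nd 4356 = n6549 := ndS (p := 3401) (l := 6) rfl N3401 D6549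
theorem N4357 : nd 4357 = n6550 := ndS (p := 3402) (l := 4) rfl N3402 D6550
theorem N4358 : nd 4358 = n6551 := ndS (p := 3403) (l := 3) rfl N3403 D6551
theorem N4359 : nd 4359 = n6552 := ndS (p := 3403) (l := 5) rfl N3403 D6552
theorem N4360 : nd 4360 = n6553 := ndS (p := 3404) (l := 5) rfl N3404 D6553
theorem N4361 : nd 4361 = n6554 := ndS (p := 3404) (l := 8) rfl N3404 D6554
theorem N4362 : nd 4362 = n6555 := ndS (p := 3405) (l := 6) rfl N3405 D6555
theorem N4363 : nd 4363 = n6556 := ndS (p := 3406) (l := 7) rfl N3406 D6556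
theorem N4364 : nd 4364 = n6557 := ndS (p := 3407) (l := 3) rfl N3407 D6557
theorem N4365 : nd 4365 = n6558 := ndS (p := 3407) (l := 5) rfl N3407 D6558
theorem N4366 : nd 4366 = n6559 := ndS (p := 3408) (l := 2) rfl N3408 D6559
theorem N4367 : nd 4367 = n6560 := ndS (p := 3408) (l := 5) rfl N3408 D6560
theorem N4368 : nd 4368 = n6561 := ndS (p := 3408) (l := 8) rfl N3408 D6561
theorem N4369 : nd 4369 = n6562 := ndS (p := 3409) (l := 6) rfl N3409 D6562
theorem N4370 : nd 4370 = n6563 := ndS (p := 3410) (l := 4) rfl N3410 D6563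
theorem N4371 : nd 4371 = n6564 := ndS (p := 3410) (l := 6) rfl N3410 D6564
theorem N4372 : nd 4372 = n6565 := ndS (p := 3410) (l := 8) rfl N3410 D6565
theorem N4373 : nd 4373 = n6566 := ndS (p := 3411) (l := 9) rfl N3411 D6566
theorem N4374 : nd 4374 = n6567 := ndS (p := 3412) (l := 7) rfl N3412 D6567
theorem N4375 : nd 4375 = n6568 := ndS (p := 3414) (l := 4) rfl N3414 D6568
theorem N4376 : nd 4376 = n6569 := ndS (p := 3415) (l := 3) rfl N3415 D6569
theorem N4377 : nd 4377 = n6570 := ndS (p := 3415) (l := 5) rfl N3415 D6570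
theorem N4378 : nd 4378 = n6571 := ndS (p := 3416) (l := 5) rfl N3416 D6571
theorem N4379 : nd 4379 = n6572 := ndS (p := 3416) (l := 8) rfl N3416 D6572
theorem N4380 : nd 4380 = n6573 := ndS (p := 3417) (l := 6) rfl N3417 D6573
theorem N4381 : nd 4381 = n6574 := ndS (p := 3418) (l := 7) rfl N3418 D6574
theorem N4382 : nd 4382 = n6575 := ndS (p := 3419) (l := 3) rfl N3419 D6575
theorem N4383 : nd 4383 = n6576 := ndS (p := 3419) (l := 5) rfl N3419 D6576
theorem N4384 : nd 4384 = n6577 := ndS (p := 3420) (l := 2) rfl N3420 D6577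
theorem N4385 : nd 4385 = n6578 := ndS (p := 3420) (l := 5) rfl N3420 D6578
theorem N4386 : nd 4386 = n6579 := ndS (p := 3420) (l := 8) rfl N3420 D6579
theorem N4387 : nd 4387 = n6580 := ndS (p := 3421) (l := 6) rfl N3421 D6580
theorem N4388 : nd 4388 = n6581 := ndS (p := 3422) (l := 4) rfl N3422 D6581
theorem N4389 : nd 4389 = n6582 := ndS (p := 3422) (l := 6) rfl N3422 D6582
theorem N4390 : nd 4390 = n6583 := ndS (p := 3422) (l := 8) rfl N3422 D6583
theorem N4391 : nd 4391 = n6584 := ndS (p := 3423) (l := 9) rfl N3423 D6584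
theorem N4392 : nd 4392 = n6585 := ndS (p := 3424) (l := 7) rfl N3424 D6585
theorem N4393 : nd 4393 = n6586 := ndS (p := 3426) (l := 2) rfl N3426 D6586
theorem N4394 : nd 4394 = n6587 := ndS (p := 3426) (l := 5) rfl N3426 D6587
theorem N4395 : nd 4395 = n6588 := ndS (p := 3426) (l := 8) rfl N3426 D6588
theorem N4396 : nd 4396 = n6589 := ndS (p := 3427) (l := 6) rfl N3427 D6589
theorem N4397 : nd 4397 = n6590 := ndS (p := 3428) (l := 5) rfl N3428 D6590
theorem N4398 : nd 4398 = n6591 := ndS (p := 3428) (l := 8) rfl N3428 D6591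
theorem N4399 : nd 4399 = n6592 := ndS (p := 3429) (l := 4) rfl N3429 D6592
theorem N4400 : nd 4400 = n6593 := ndS (p := 3429) (l := 6) rfl N3429 D6593
theorem N4401 : nd 4401 = n6594 := ndS (p := 3429) (l := 8) rfl N3429 D6594
theorem N4402 : nd 4402 = n6595 := ndS (p := 3430) (l := 9) rfl N3430 D6595
theorem N4403 : nd 4403 = n6596 := ndS (p := 3431) (l := 7) rfl N3431 D6596
theorem N4404 : nd 4404 = n6597 := ndS (p := 3432) (l := 6) rfl N3432 D6597
theorem N4405 : nd 4405 = n6598 := ndS (p := 3432) (l := 8) rfl N3432 D6598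
theorem N4406 : nd 4406 = n6599 := ndS (p := 3433) (l := 7) rfl N3433 D6599
theorem N4407 : nd 4407 = n6600 := ndS (p := 3433) (l := 8) rfl N3433 D6600
theorem N4408 : nd 4408 = n6601 := ndS (p := 3434) (l := 9) rfl N3434 D6601
theorem N4409 : nd 4409 = n6602 := ndS (p := 3437) (l := 3) rfl N3437 D6602
theorem N4410 : nd 4410 = n6603 := ndS (p := 3437) (l := 5) rfl N3437 D6603
theorem N4411 : nd 4411 = n6604 := ndS (p := 3438) (l := 2) rfl N3438 D6604
theorem N4412 : nd 4412 = n6605 := ndS (p := 3438) (l := 5) rfl N3438 D6605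
theorem N4413 : nd 4413 = n6606 := ndS (p := 3438) (l := 8) rfl N3438 D6606
theorem N4414 : nd 4414 = n6607 := ndS (p := 3439) (l := 6) rfl N3439 D6607
theorem N4415 : nd 4415 = n6608 := ndS (p := 3440) (l := 4) rfl N3440 D6608
theorem N4416 : nd 4416 = n6609 := ndS (p := 3440) (l := 6) rfl N3440 D6609
theorem N4417 : nd 4417 = n6610 := ndS (p := 3440) (l := 8) rfl N3440 D6610
theorem N4418 : nd 4418 = n6611 := ndS (p := 3441) (l := 9) rfl N3441 D6611
theorem N4419 : nd 4419 = n6612 := ndS (p := 3442) (l := 7) rfl N3442 D6612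
theorem N4420 : nd 4420 = n6613 := ndS (p := 3444) (l := 2) rfl N3444 D6613
theorem N4421 : nd 4421 = n6614 := ndS (p := 3444) (l := 5) rfl N3444 D6614
theorem N4422 : nd 4422 = n6615 := ndS (p := 3444) (l := 8) rfl N3444 D6615
theorem N4423 : nd 4423 = n6616 := ndS (p := 3445) (l := 6) rfl N3445 D6616
theorem N4424 : nd 4424 = n6617 := ndS (p := 3446) (l := 5) rfl N3446 D6617
theorem N4425 : nd 4425 = n6618 := ndS (p := 3446) (l := 8) rfl N3446 D6618
theorem N4426 : nd 4426 = n6619 := ndS (p := 3447) (l := 4) rfl N3447 D6619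
theorem N4427 : nd 4427 = n6620 := ndS (p := 3447) (l := 6) rfl N3447 D6620
theorem N4428 : nd 4428 = n6621 := ndS (p := 3447) (l := 8) rfl N3447 D6621
theorem N4429 : nd 4429 = n6622 := ndS (p := 3448) (l := 9) rfl N3448 D6622
theorem N4430 : nd 4430 = n6623 := ndS (p := 3449) (l := 7) rfl N3449 D6623
theorem N4431 : nd 4431 = n6624 := ndS (p := 3450) (l := 6) rfl N3450 D6624
theorem N4432 : nd 4432 = n6625 := ndS (p := 3450) (l := 8) rfl N3450 D6625
theorem N4433 : nd 4433 = n6626 := ndS (p := 3451) (l := 7) rfl N3451 D6626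
theorem N4434 : nd 4434 = n6627 := ndS (p := 3451) (l := 8) rfl N3451 D6627
theorem N4435 : nd 4435 = n6628 := ndS (p := 3452) (l := 9) rfl N3452 D6628
theorem N4436 : nd 4436 = n6629 := ndS (p := 3455) (l := 1) rfl N3455 D6629
theorem N4437 : nd 4437 = n6630 := ndS (p := 3455) (l := 5) rfl N3455 D6630
theorem N4438 : nd 4438 = n6631 := ndS (p := 3455) (l := 8) rfl N3455 D6631
theorem N4439 : nd 4439 = n6632 := ndS (p := 3456) (l := 4) rfl N3456 D6632
theorem N4440 : nd 4440 = n6633 := ndS (p := 3456) (l := 6) rfl N3456 D6633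
theorem N4441 : nd 4441 = n6634 := ndS (p := 3456) (l := 8) rfl N3456 D6634
theorem N4442 : nd 4442 = n6635 := ndS (p := 3457) (l := 9) rfl N3457 D6635
theorem N4443 : nd 4443 = n6636 := ndS (p := 3458) (l := 7) rfl N3458 D6636
theorem N4444 : nd 4444 = n6637 := ndS (p := 3459) (l := 4) rfl N3459 D6637
theorem N4445 : nd 4445 = n6638 := ndS (p := 3459) (l := 6) rfl N3459 D6638
theorem N4446 : nd 4446 = n6639 := ndS (p := 3459) (l := 8) rfl N3459 D6639
theorem N4447 : nd 4447 = n6640 := ndS (p := 3460) (l := 3) rfl N3460 D6640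
theorem N4448 : nd 4448 = n6641 := ndS (p := 3460) (l := 9) rfl N3460 D6641
theorem N4449 : nd 4449 = n6642 := ndS (p := 3461) (l := 6) rfl N3461 D6642
theorem N4450 : nd 4450 = n6643 := ndS (p := 3461) (l := 8) rfl N3461 D6643
theorem N4451 : nd 4451 = n6644 := ndS (p := 3462) (l := 7) rfl N3462 D6644
theorem N4452 : nd 4452 = n6645 := ndS (p := 3462) (l := 8) rfl N3462 D6645
theorem N4453 : nd 4453 = n6646 := ndS (p := 3463) (l := 9) rfl N3463 D6646
theorem N4454 : nd 4454 = n6647 := ndS (p := 3466) (l := 5) rfl N3466 D6647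
theorem N4455 : nd 4455 = n6648 := ndS (p := 3466) (l := 7) rfl N3466 D6648
theorem N4456 : nd 4456 = n6649 := ndS (p := 3466) (l := 8) rfl N3466 D6649
theorem N4457 : nd 4457 = n6650 := ndS (p := 3467) (l := 3) rfl N3467 D6650
theorem N4458 : nd 4458 = n6651 := ndS (p := 3467) (l := 9) rfl N3467 D6651
theorem N4459 : nd 4459 = n6652 := ndS (p := 3468) (l := 8) rfl N3468 D6652
theorem N4460 : nd 4460 = n6653 := ndS (p := 3469) (l := 9) rfl N3469 D6653
theorem N4461 : nd 4461 = n6659 := ndS (p := 3471) (l := 6) rfl N3471 D6659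
theorem N4462 : nd 4462 = n6660 := ndS (p := 3472) (l := 4) rfl N3472 D6660
theorem N4463 : nd 4463 = n6661 := ndS (p := 3472) (l := 6) rfl N3472 D6661
theorem N4464 : nd 4464 = n6664 := ndS (p := 3473) (l := 7) rfl N3473 D6664
theorem N4465 : nd 4465 = n6668 := ndS (p := 3475) (l := 6) rfl N3475 D6668
theorem N4466 : nd 4466 = n6671 := ndS (p := 3476) (l := 4) rfl N3476 D6671
theorem N4467 : nd 4467 = n6672 := ndS (p := 3476) (l := 6) rfl N3476 D6672
theorem N4468 : nd 4468 = n6675 := ndS (p := 3477) (l := 7) rfl N3477 D6675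
theorem N4469 : nd 4469 = n6676 := ndS (p := 3478) (l := 6) rfl N3478 D6676
theorem N4470 : nd 4470 = n6677 := ndS (p := 3478) (l := 8) rfl N3478 D6677
theorem N4471 : nd 4471 = n6678 := ndS (p := 3479) (l := 7) rfl N3479 D6678
theorem N4472 : nd 4472 = n6679 := ndS (p := 3479) (l := 8) rfl N3479 D6679
theorem N4473 : nd 4473 = n6684 := ndS (p := 3482) (l := 4) rfl N3482 D6684
theorem N4474 : nd 4474 = n6685 := ndS (p := 3482) (l := 6) rfl N3482 D6685
theorem N4475 : nd 4475 = n6688 := ndS (p := 3483) (l := 7) rfl N3483 D6688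
theorem N4476 : nd 4476 = n6689 := ndS (p := 3484) (l := 4) rfl N3484 D6689
theorem N4477 : nd 4477 = n6690 := ndS (p := 3484) (l := 6) rfl N3484 D6690
theorem N4478 : nd 4478 = n6694 := ndS (p := 3485) (l := 6) rfl N3485 D6694
theorem N4479 : nd 4479 = n6695 := ndS (p := 3485) (l := 8) rfl N3485 D6695
theorem N4480 : nd 4480 = n6696 := ndS (p := 3486) (l := 7) rfl N3486 D6696
theorem N4481 : nd 4481 = n6697 := ndS (p := 3486) (l := 8) rfl N3486 D6697
theorem N4482 : nd 4482 = n6699 := ndS (p := 3489) (l := 5) rfl N3489 D6699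
theorem N4483 : nd 4483 = n6700 := ndS (p := 3489) (l := 7) rfl N3489 D6700
theorem N4484 : nd 4484 = n6701 := ndS (p := 3489) (l := 8) rfl N3489 D6701
theorem N4485 : nd 4485 = n6702 := ndS (p := 3490) (l := 3) rfl N3490 D6702
theorem N4486 : nd 4486 = n6703 := ndS (p := 3490) (l := 9) rfl N3490 D6703
theorem N4487 : nd 4487 = n6704 := ndS (p := 3491) (l := 8) rfl N3491 D6704
theorem N4488 : nd 4488 = n6705 := ndS (p := 3492) (l := 9) rfl N3492 D6705
theorem N4489 : nd 4489 = n6708 := ndS (p := 3494) (l := 4) rfl N3494 D6708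
theorem N4490 : nd 4490 = n6709 := ndS (p := 3494) (l := 6) rfl N3494 D6709
theorem N4491 : nd 4491 = n6713 := ndS (p := 3495) (l := 6) rfl N3495 D6713
theorem N4492 : nd 4492 = n6714 := ndS (p := 3495) (l := 8) rfl N3495 D6714
theorem N4493 : nd 4493 = n6715 := ndS (p := 3496) (l := 7) rfl N3496 D6715
theorem N4494 : nd 4494 = n6716 := ndS (p := 3496) (l := 8) rfl N3496 D6716
theorem N4495 : nd 4495 = n6718 := ndS (p := 3499) (l := 3) rfl N3499 D6718
theorem N4496 : nd 4496 = n6719 := ndS (p := 3499) (l := 6) rfl N3499 D6719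
theorem N4497 : nd 4497 = n6720 := ndS (p := 3499) (l := 8) rfl N3499 D6720
theorem N4498 : nd 4498 = n6721 := ndS (p := 3500) (l := 7) rfl N3500 D6721
theorem N4499 : nd 4499 = n6722 := ndS (p := 3500) (l := 8) rfl N3500 D6722
theorem N4500 : nd 4500 = n6726 := ndS (p := 3502) (l := 5) rfl N3502 D6726
theorem N4501 : nd 4501 = n6727 := ndS (p := 3502) (l := 7) rfl N3502 D6727
theorem N4502 : nd 4502 = n6728 := ndS (p := 3502) (l := 8) rfl N3502 D6728
theorem N4503 : nd 4503 = n6729 := ndS (p := 3503) (l := 3) rfl N3503 D6729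
theorem N4504 : nd 4504 = n6730 := ndS (p := 3503) (l := 9) rfl N3503 D6730
theorem N4505 : nd 4505 = n6731 := ndS (p := 3504) (l := 8) rfl N3504 D6731
theorem N4506 : nd 4506 = n6732 := ndS (p := 3505) (l := 9) rfl N3505 D6732
theorem N4507 : nd 4507 = n6733 := ndS (p := 3507) (l := 7) rfl N3507 D6733
theorem N4508 : nd 4508 = n6734 := ndS (p := 3507) (l := 8) rfl N3507 D6734
theorem N4509 : nd 4509 = n6735 := ndS (p := 3508) (l := 8) rfl N3508 D6735
theorem N4510 : nd 4510 = n6736 := ndS (p := 3509) (l := 3) rfl N3509 D6736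
theorem N4511 : nd 4511 = n6737 := ndS (p := 3509) (l := 9) rfl N3509 D6737
theorem N4512 : nd 4512 = n6738 := ndS (p := 3510) (l := 2) rfl N3510 D6738
theorem N4513 : nd 4513 = n6739 := ndS (p := 3510) (l := 9) rfl N3510 D6739
theorem N4514 : nd 4514 = n6740 := ndS (p := 3512) (l := 9) rfl N3512 D6740
theorem N4515 : nd 4515 = n6741 := ndS (p := 3514) (l := 8) rfl N3514 D6741
theorem N4516 : nd 4516 = n6742 := ndS (p := 3515) (l := 3) rfl N3515 D6742
theorem N4517 : nd 4517 = n6743 := ndS (p := 3516) (l := 2) rfl N3516 D6743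
theorem N4518 : nd 4518 = n6744 := ndS (p := 3516) (l := 4) rfl N3516 D6744
theorem N4519 : nd 4519 = n6745 := ndS (p := 3517) (l := 1) rfl N3517 D6745
theorem N4520 : nd 4520 = n6746 := ndS (p := 3517) (l := 4) rfl N3517 D6746
theorem N4521 : nd 4521 = n6747 := ndS (p := 3518) (l := 5) rfl N3518 D6747
theorem N4522 : nd 4522 = n6748 := ndS (p := 3519) (l := 0) rfl N3519 D6748
theorem N4523 : nd 4523 = n6749 := ndS (p := 3519) (l := 4) rfl N3519 D6749
theorem N4524 : nd 4524 = n6750 := ndS (p := 3520) (l := 3) rfl N3520 D6750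
theorem N4525 : nd 4525 = n6751 := ndS (p := 3520) (l := 5) rfl N3520 D6751
theorem N4526 : nd 4526 = n6752 := ndS (p := 3521) (l := 6) rfl N3521 D6752
theorem N4527 : nd 4527 = n6753 := ndS (p := 3522) (l := 2) rfl N3522 D6753
theorem N4528 : nd 4528 = n6754 := ndS (p := 3522) (l := 4) rfl N3522 D6754
theorem N4529 : nd 4529 = n6756 := ndS (p := 3523) (l := 4) rfl N3523 D6756
theorem N4530 : nd 4530 = n6757 := ndS (p := 3524) (l := 5) rfl N3524 D6757
theorem N4531 : nd 4531 = n6759 := ndS (p := 3525) (l := 4) rfl N3525 D6759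
theorem N4532 : nd 4532 = n6760 := ndS (p := 3526) (l := 3) rfl N3526 D6760
theorem N4533 : nd 4533 = n6761 := ndS (p := 3526) (l := 5) rfl N3526 D6761
theorem N4534 : nd 4534 = n6762 := ndS (p := 3527) (l := 6) rfl N3527 D6762
theorem N4535 : nd 4535 = n6763 := ndS (p := 3528) (l := 4) rfl N3528 D6763
theorem N4536 : nd 4536 = n6764 := ndS (p := 3529) (l := 3) rfl N3529 D6764
theorem N4537 : nd 4537 = n6765 := ndS (p := 3529) (l := 5) rfl N3529 D6765
theorem N4538 : nd 4538 = n6766 := ndS (p := 3530) (l := 5) rfl N3530 D6766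
theorem N4539 : nd 4539 = n6767 := ndS (p := 3530) (l := 8) rfl N3530 D6767
theorem N4540 : nd 4540 = n6768 := ndS (p := 3531) (l := 6) rfl N3531 D6768
theorem N4541 : nd 4541 = n6769 := ndS (p := 3532) (l := 7) rfl N3532 D6769
theorem N4542 : nd 4542 = n6771 := ndS (p := 3533) (l := 4) rfl N3533 D6771
theorem N4543 : nd 4543 = n6772 := ndS (p := 3534) (l := 5) rfl N3534 D6772
theorem N4544 : nd 4544 = n6775 := ndS (p := 3535) (l := 3) rfl N3535 D6775
theorem N4545 : nd 4545 = n6776 := ndS (p := 3535) (l := 5) rfl N3535 D6776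
theorem N4546 : nd 4546 = n6777 := ndS (p := 3536) (l := 6) rfl N3536 D6777
theorem N4547 : nd 4547 = n6779 := ndS (p := 3537) (l := 3) rfl N3537 D6779
theorem N4548 : nd 4548 = n6780 := ndS (p := 3537) (l := 5) rfl N3537 D6780
theorem N4549 : nd 4549 = n6781 := ndS (p := 3538) (l := 5) rfl N3538 D6781
theorem N4550 : nd 4550 = n6782 := ndS (p := 3538) (l := 8) rfl N3538 D6782
theorem N4551 : nd 4551 = n6783 := ndS (p := 3539) (l := 6) rfl N3539 D6783
theorem N4552 : nd 4552 = n6784 := ndS (p := 3540) (l := 7) rfl N3540 D6784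
theorem N4553 : nd 4553 = n6785 := ndS (p := 3541) (l := 3) rfl N3541 D6785
theorem N4554 : nd 4554 = n6786 := ndS (p := 3541) (l := 5) rfl N3541 D6786
theorem N4555 : nd 4555 = n6787 := ndS (p := 3542) (l := 2) rfl N3542 D6787
theorem N4556 : nd 4556 = n6788 := ndS (p := 3542) (l := 5) rfl N3542 D6788
theorem N4557 : nd 4557 = n6789 := ndS (p := 3542) (l := 8) rfl N3542 D6789
theorem N4558 : nd 4558 = n6790 := ndS (p := 3543) (l := 6) rfl N3543 D6790
theorem N4559 : nd 4559 = n6791 := ndS (p := 3544) (l := 4) rfl N3544 D6791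
theorem N4560 : nd 4560 = n6792 := ndS (p := 3544) (l := 6) rfl N3544 D6792
theorem N4561 : nd 4561 = n6793 := ndS (p := 3544) (l := 8) rfl N3544 D6793
theorem N4562 : nd 4562 = n6794 := ndS (p := 3545) (l := 9) rfl N3545 D6794
theorem N4563 : nd 4563 = n6795 := ndS (p := 3546) (l := 7) rfl N3546 D6795
theorem N4564 : nd 4564 = n6798 := ndS (p := 3548) (l := 3) rfl N3548 D6798
theorem N4565 : nd 4565 = n6799 := ndS (p := 3548) (l := 5) rfl N3548 D6799
theorem N4566 : nd 4566 = n6800 := ndS (p := 3549) (l := 6) rfl N3549 D6800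
theorem N4567 : nd 4567 = n6802 := ndS (p := 3550) (l := 3) rfl N3550 D6802
theorem N4568 : nd 4568 = n6803 := ndS (p := 3550) (l := 5) rfl N3550 D6803
theorem N4569 : nd 4569 = n6804 := ndS (p := 3551) (l := 5) rfl N3551 D6804
theorem N4570 : nd 4570 = n6805 := ndS (p := 3551) (l := 8) rfl N3551 D6805
theorem N4571 : nd 4571 = n6806 := ndS (p := 3552) (l := 6) rfl N3552 D6806
theorem N4572 : nd 4572 = n6807 := ndS (p := 3553) (l := 7) rfl N3553 D6807
theorem N4573 : nd 4573 = n6808 := ndS (p := 3554) (l := 3) rfl N3554 D6808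
theorem N4574 : nd 4574 = n6809 := ndS (p := 3554) (l := 5) rfl N3554 D6809
theorem N4575 : nd 4575 = n6810 := ndS (p := 3555) (l := 2) rfl N3555 D6810
theorem N4576 : nd 4576 = n6811 := ndS (p := 3555) (l := 5) rfl N3555 D6811
theorem N4577 : nd 4577 = n6812 := ndS (p := 3555) (l := 8) rfl N3555 D6812
theorem N4578 : nd 4578 = n6813 := ndS (p := 3556) (l := 6) rfl N3556 D6813
theorem N4579 : nd 4579 = n6814 := ndS (p := 3557) (l := 4) rfl N3557 D6814
theorem N4580 : nd 4580 = n6815 := ndS (p := 3557) (l := 6) rfl N3557 D6815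
theorem N4581 : nd 4581 = n6816 := ndS (p := 3557) (l := 8) rfl N3557 D6816
theorem N4582 : nd 4582 = n6817 := ndS (p := 3558) (l := 9) rfl N3558 D6817
theorem N4583 : nd 4583 = n6818 := ndS (p := 3559) (l := 7) rfl N3559 D6818
theorem N4584 : nd 4584 = n6822 := ndS (p := 3561) (l := 5) rfl N3561 D6822
theorem N4585 : nd 4585 = n6823 := ndS (p := 3561) (l := 8) rfl N3561 D6823
theorem N4586 : nd 4586 = n6824 := ndS (p := 3562) (l := 6) rfl N3562 D6824
theorem N4587 : nd 4587 = n6825 := ndS (p := 3563) (l := 7) rfl N3563 D6825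
theorem N4588 : nd 4588 = n6828 := ndS (p := 3564) (l := 2) rfl N3564 D6828
theorem N4589 : nd 4589 = n6829 := ndS (p := 3564) (l := 5) rfl N3564 D6829
theorem N4590 : nd 4590 = n6830 := ndS (p := 3564) (l := 8) rfl N3564 D6830
theorem N4591 : nd 4591 = n6831 := ndS (p := 3565) (l := 6) rfl N3565 D6831
theorem N4592 : nd 4592 = n6832 := ndS (p := 3566) (l := 4) rfl N3566 D6832
theorem N4593 : nd 4593 = n6833 := ndS (p := 3566) (l := 6) rfl N3566 D6833
theorem N4594 : nd 4594 = n6834 := ndS (p := 3566) (l := 8) rfl N3566 D6834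
theorem N4595 : nd 4595 = n6835 := ndS (p := 3567) (l := 9) rfl N3567 D6835
theorem N4596 : nd 4596 = n6836 := ndS (p := 3568) (l := 7) rfl N3568 D6836
theorem N4597 : nd 4597 = n6837 := ndS (p := 3570) (l := 2) rfl N3570 D6837
theorem N4598 : nd 4598 = n6838 := ndS (p := 3570) (l := 5) rfl N3570 D6838
theorem N4599 : nd 4599 = n6839 := ndS (p := 3570) (l := 8) rfl N3570 D6839
theorem N4600 : nd 4600 = n6840 := ndS (p := 3571) (l := 6) rfl N3571 D6840
theorem N4601 : nd 4601 = n6841 := ndS (p := 3572) (l := 5) rfl N3572 D6841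
theorem N4602 : nd 4602 = n6842 := ndS (p := 3572) (l := 8) rfl N3572 D6842
theorem N4603 : nd 4603 = n6843 := ndS (p := 3573) (l := 4) rfl N3573 D6843
theorem N4604 : nd 4604 = n6844 := ndS (p := 3573) (l := 6) rfl N3573 D6844
theorem N4605 : nd 4605 = n6845 := ndS (p := 3573) (l := 8) rfl N3573 D6845
theorem N4606 : nd 4606 = n6846 := ndS (p := 3574) (l := 9) rfl N3574 D6846
theorem N4607 : nd 4607 = n6847 := ndS (p := 3575) (l := 7) rfl N3575 D6847
theorem N4608 : nd 4608 = n6848 := ndS (p := 3576) (l := 6) rfl N3576 D6848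
theorem N4609 : nd 4609 = n6849 := ndS (p := 3576) (l := 8) rfl N3576 D6849
theorem N4610 : nd 4610 = n6850 := ndS (p := 3577) (l := 7) rfl N3577 D6850
theorem N4611 : nd 4611 = n6851 := ndS (p := 3577) (l := 8) rfl N3577 D6851
theorem N4612 : nd 4612 = n6852 := ndS (p := 3578) (l := 9) rfl N3578 D6852
theorem N4613 : nd 4613 = n6859 := ndS (p := 3581) (l := 4) rfl N3581 D6859
theorem N4614 : nd 4614 = n6860 := ndS (p := 3581) (l := 6) rfl N3581 D6860
theorem N4615 : nd 4615 = n6861 := ndS (p := 3581) (l := 8) rfl N3581 D6861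
theorem N4616 : nd 4616 = n6862 := ndS (p := 3582) (l := 9) rfl N3582 D6862
theorem N4617 : nd 4617 = n6863 := ndS (p := 3583) (l := 7) rfl N3583 D6863
theorem N4618 : nd 4618 = n6868 := ndS (p := 3585) (l := 5) rfl N3585 D6868
theorem N4619 : nd 4619 = n6869 := ndS (p := 3585) (l := 8) rfl N3585 D6869
theorem N4620 : nd 4620 = n6870 := ndS (p := 3586) (l := 4) rfl N3586 D6870
theorem N4621 : nd 4621 = n6871 := ndS (p := 3586) (l := 6) rfl N3586 D6871
theorem N4622 : nd 4622 = n6872 := ndS (p := 3586) (l := 8) rfl N3586 D6872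
theorem N4623 : nd 4623 = n6873 := ndS (p := 3587) (l := 9) rfl N3587 D6873
theorem N4624 : nd 4624 = n6874 := ndS (p := 3588) (l := 7) rfl N3588 D6874
theorem N4625 : nd 4625 = n6875 := ndS (p := 3589) (l := 6) rfl N3589 D6875
theorem N4626 : nd 4626 = n6876 := ndS (p := 3589) (l := 8) rfl N3589 D6876
theorem N4627 : nd 4627 = n6877 := ndS (p := 3590) (l := 7) rfl N3590 D6877
theorem N4628 : nd 4628 = n6878 := ndS (p := 3590) (l := 8) rfl N3590 D6878
theorem N4629 : nd 4629 = n6879 := ndS (p := 3591) (l := 9) rfl N3591 D6879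
theorem N4630 : nd 4630 = n6880 := ndS (p := 3594) (l := 1) rfl N3594 D6880
theorem N4631 : nd 4631 = n6881 := ndS (p := 3594) (l := 5) rfl N3594 D6881
theorem N4632 : nd 4632 = n6882 := ndS (p := 3594) (l := 8) rfl N3594 D6882
theorem N4633 : nd 4633 = n6883 := ndS (p := 3595) (l := 4) rfl N3595 D6883
theorem N4634 : nd 4634 = n6884 := ndS (p := 3595) (l := 6) rfl N3595 D6884
theorem N4635 : nd 4635 = n6885 := ndS (p := 3595) (l := 8) rfl N3595 D6885
theorem N4636 : nd 4636 = n6886 := ndS (p := 3596) (l := 9) rfl N3596 D6886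
theorem N4637 : nd 4637 = n6887 := ndS (p := 3597) (l := 7) rfl N3597 D6887
theorem N4638 : nd 4638 = n6888 := ndS (p := 3598) (l := 4) rfl N3598 D6888
theorem N4639 : nd 4639 = n6889 := ndS (p := 3598) (l := 6) rfl N3598 D6889
theorem N4640 : nd 4640 = n6890 := ndS (p := 3598) (l := 8) rfl N3598 D6890
theorem N4641 : nd 4641 = n6891 := ndS (p := 3599) (l := 3) rfl N3599 D6891
theorem N4642 : nd 4642 = n6892 := ndS (p := 3599) (l := 9) rfl N3599 D6892
theorem N4643 : nd 4643 = n6893 := ndS (p := 3600) (l := 6) rfl N3600 D6893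
theorem N4644 : nd 4644 = n6894 := ndS (p := 3600) (l := 8) rfl N3600 D6894
theorem N4645 : nd 4645 = n6895 := ndS (p := 3601) (l := 7) rfl N3601 D6895
theorem N4646 : nd 4646 = n6896 := ndS (p := 3601) (l := 8) rfl N3601 D6896
theorem N4647 : nd 4647 = n6897 := ndS (p := 3602) (l := 9) rfl N3602 D6897
theorem N4648 : nd 4648 = n6898 := ndS (p := 3605) (l := 5) rfl N3605 D6898
theorem N4649 : nd 4649 = n6899 := ndS (p := 3605) (l := 7) rfl N3605 D6899
theorem N4650 : nd 4650 = n6900 := ndS (p := 3605) (l := 8) rfl N3605 D6900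
theorem N4651 : nd 4651 = n6901 := ndS (p := 3606) (l := 3) rfl N3606 D6901
theorem N4652 : nd 4652 = n6902 := ndS (p := 3606) (l := 9) rfl N3606 D6902
theorem N4653 : nd 4653 = n6903 := ndS (p := 3607) (l := 8) rfl N3607 D6903
theorem N4654 : nd 4654 = n6904 := ndS (p := 3608) (l := 9) rfl N3608 D6904
theorem N4655 : nd 4655 = n6905 := ndS (p := 3610) (l := 3) rfl N3610 D6905
theorem N4656 : nd 4656 = n6906 := ndS (p := 3610) (l := 5) rfl N3610 D6906
theorem N4657 : nd 4657 = n6907 := ndS (p := 3611) (l := 2) rfl N3611 D6907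
theorem N4658 : nd 4658 = n6908 := ndS (p := 3611) (l := 5) rfl N3611 D6908
theorem N4659 : nd 4659 = n6909 := ndS (p := 3611) (l := 8) rfl N3611 D6909
theorem N4660 : nd 4660 = n6910 := ndS (p := 3612) (l := 6) rfl N3612 D6910
theorem N4661 : nd 4661 = n6911 := ndS (p := 3613) (l := 4) rfl N3613 D6911
theorem N4662 : nd 4662 = n6912 := ndS (p := 3613) (l := 6) rfl N3613 D6912
theorem N4663 : nd 4663 = n6913 := ndS (p := 3613) (l := 8) rfl N3613 D6913
theorem N4664 : nd 4664 = n6914 := ndS (p := 3614) (l := 9) rfl N3614 D6914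
theorem N4665 : nd 4665 = n6915 := ndS (p := 3615) (l := 7) rfl N3615 D6915
theorem N4666 : nd 4666 = n6916 := ndS (p := 3617) (l := 2) rfl N3617 D6916
theorem N4667 : nd 4667 = n6917 := ndS (p := 3617) (l := 5) rfl N3617 D6917
theorem N4668 : nd 4668 = n6918 := ndS (p := 3617) (l := 8) rfl N3617 D6918
theorem N4669 : nd 4669 = n6919 := ndS (p := 3618) (l := 6) rfl N3618 D6919
theorem N4670 : nd 4670 = n6920 := ndS (p := 3619) (l := 5) rfl N3619 D6920
theorem N4671 : nd 4671 = n6921 := ndS (p := 3619) (l := 8) rfl N3619 D6921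
theorem N4672 : nd 4672 = n6922 := ndS (p := 3620) (l := 4) rfl N3620 D6922
theorem N4673 : nd 4673 = n6923 := ndS (p := 3620) (l := 6) rfl N3620 D6923
theorem N4674 : nd 4674 = n6924 := ndS (p := 3620) (l := 8) rfl N3620 D6924
theorem N4675 : nd 4675 = n6925 := ndS (p := 3621) (l := 9) rfl N3621 D6925
theorem N4676 : nd 4676 = n6926 := ndS (p := 3622) (l := 7) rfl N3622 D6926
theorem N4677 : nd 4677 = n6927 := ndS (p := 3623) (l := 6) rfl N3623 D6927
theorem N4678 : nd 4678 = n6928 := ndS (p := 3623) (l := 8) rfl N3623 D6928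
theorem N4679 : nd 4679 = n6929 := ndS (p := 3624) (l := 7) rfl N3624 D6929
theorem N4680 : nd 4680 = n6930 := ndS (p := 3624) (l := 8) rfl N3624 D6930
theorem N4681 : nd 4681 = n6931 := ndS (p := 3625) (l := 9) rfl N3625 D6931
theorem N4682 : nd 4682 = n6932 := ndS (p := 3628) (l := 2) rfl N3628 D6932
theorem N4683 : nd 4683 = n6933 := ndS (p := 3628) (l := 5) rfl N3628 D6933
theorem N4684 : nd 4684 = n6934 := ndS (p := 3628) (l := 8) rfl N3628 D6934
theorem N4685 : nd 4685 = n6935 := ndS (p := 3629) (l := 6) rfl N3629 D6935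
theorem N4686 : nd 4686 = n6936 := ndS (p := 3630) (l := 5) rfl N3630 D6936
theorem N4687 : nd 4687 = n6937 := ndS (p := 3630) (l := 8) rfl N3630 D6937
theorem N4688 : nd 4688 = n6938 := ndS (p := 3631) (l := 4) rfl N3631 D6938
theorem N4689 : nd 4689 = n6939 := ndS (p := 3631) (l := 6) rfl N3631 D6939
theorem N4690 : nd 4690 = n6940 := ndS (p := 3631) (l := 8) rfl N3631 D6940
theorem N4691 : nd 4691 = n6941 := ndS (p := 3632) (l := 9) rfl N3632 D6941
theorem N4692 : nd 4692 = n6942 := ndS (p := 3633) (l := 7) rfl N3633 D6942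
theorem N4693 : nd 4693 = n6943 := ndS (p := 3634) (l := 6) rfl N3634 D6943
theorem N4694 : nd 4694 = n6944 := ndS (p := 3634) (l := 8) rfl N3634 D6944
theorem N4695 : nd 4695 = n6945 := ndS (p := 3635) (l := 7) rfl N3635 D6945
theorem N4696 : nd 4696 = n6946 := ndS (p := 3635) (l := 8) rfl N3635 D6946
theorem N4697 : nd 4697 = n6947 := ndS (p := 3636) (l := 9) rfl N3636 D6947
theorem N4698 : nd 4698 = n6948 := ndS (p := 3639) (l := 1) rfl N3639 D6948
theorem N4699 : nd 4699 = n6949 := ndS (p := 3639) (l := 5) rfl N3639 D6949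
theorem N4700 : nd 4700 = n6950 := ndS (p := 3639) (l := 8) rfl N3639 D6950
theorem N4701 : nd 4701 = n6951 := ndS (p := 3640) (l := 4) rfl N3640 D6951
theorem N4702 : nd 4702 = n6952 := ndS (p := 3640) (l := 6) rfl N3640 D6952
theorem N4703 : nd 4703 = n6953 := ndS (p := 3640) (l := 8) rfl N3640 D6953
theorem N4704 : nd 4704 = n6954 := ndS (p := 3641) (l := 9) rfl N3641 D6954
theorem N4705 : nd 4705 = n6955 := ndS (p := 3642) (l := 7) rfl N3642 D6955
theorem N4706 : nd 4706 = n6956 := ndS (p := 3643) (l := 4) rfl N3643 D6956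
theorem N4707 : nd 4707 = n6957 := ndS (p := 3643) (l := 6) rfl N3643 D6957
theorem N4708 : nd 4708 = n6958 := ndS (p := 3643) (l := 8) rfl N3643 D6958
theorem N4709 : nd 4709 = n6959 := ndS (p := 3644) (l := 3) rfl N3644 D6959
theorem N4710 : nd 4710 = n6960 := ndS (p := 3644) (l := 9) rfl N3644 D6960
theorem N4711 : nd 4711 = n6961 := ndS (p := 3645) (l := 6) rfl N3645 D6961
theorem N4712 : nd 4712 = n6962 := ndS (p := 3645) (l := 8) rfl N3645 D6962
theorem N4713 : nd 4713 = n6963 := ndS (p := 3646) (l := 7) rfl N3646 D6963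
theorem N4714 : nd 4714 = n6964 := ndS (p := 3646) (l := 8) rfl N3646 D6964
theorem N4715 : nd 4715 = n6965 := ndS (p := 3647) (l := 9) rfl N3647 D6965
theorem N4716 : nd 4716 = n6966 := ndS (p := 3650) (l := 5) rfl N3650 D6966
theorem N4717 : nd 4717 = n6967 := ndS (p := 3650) (l := 7) rfl N3650 D6967
theorem N4718 : nd 4718 = n6968 := ndS (p := 3650) (l := 8) rfl N3650 D6968
theorem N4719 : nd 4719 = n6969 := ndS (p := 3651) (l := 3) rfl N3651 D6969
theorem N4720 : nd 4720 = n6970 := ndS (p := 3651) (l := 9) rfl N3651 D6970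
theorem N4721 : nd 4721 = n6971 := ndS (p := 3652) (l := 8) rfl N3652 D6971
theorem N4722 : nd 4722 = n6972 := ndS (p := 3653) (l := 9) rfl N3653 D6972
theorem N4723 : nd 4723 = n6973 := ndS (p := 3655) (l := 1) rfl N3655 D6973
theorem N4724 : nd 4724 = n6974 := ndS (p := 3655) (l := 5) rfl N3655 D6974
theorem N4725 : nd 4725 = n6975 := ndS (p := 3655) (l := 8) rfl N3655 D6975
theorem N4726 : nd 4726 = n6976 := ndS (p := 3656) (l := 4) rfl N3656 D6976
theorem N4727 : nd 4727 = n6977 := ndS (p := 3656) (l := 6) rfl N3656 D6977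
theorem N4728 : nd 4728 = n6978 := ndS (p := 3656) (l := 8) rfl N3656 D6978
theorem N4729 : nd 4729 = n6979 := ndS (p := 3657) (l := 9) rfl N3657 D6979
theorem N4730 : nd 4730 = n6980 := ndS (p := 3658) (l := 7) rfl N3658 D6980
theorem N4731 : nd 4731 = n6981 := ndS (p := 3659) (l := 4) rfl N3659 D6981
theorem N4732 : nd 4732 = n6982 := ndS (p := 3659) (l := 6) rfl N3659 D6982
theorem N4733 : nd 4733 = n6983 := ndS (p := 3659) (l := 8) rfl N3659 D6983
theorem N4734 : nd 4734 = n6984 := ndS (p := 3660) (l := 3) rfl N3660 D6984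
theorem N4735 : nd 4735 = n6985 := ndS (p := 3660) (l := 9) rfl N3660 D6985
theorem N4736 : nd 4736 = n6986 := ndS (p := 3661) (l := 6) rfl N3661 D6986
theorem N4737 : nd 4737 = n6987 := ndS (p := 3661) (l := 8) rfl N3661 D6987
theorem N4738 : nd 4738 = n6988 := ndS (p := 3662) (l := 7) rfl N3662 D6988
theorem N4739 : nd 4739 = n6989 := ndS (p := 3662) (l := 8) rfl N3662 D6989
theorem N4740 : nd 4740 = n6990 := ndS (p := 3663) (l := 9) rfl N3663 D6990
theorem N4741 : nd 4741 = n6991 := ndS (p := 3666) (l := 5) rfl N3666 D6991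
theorem N4742 : nd 4742 = n6992 := ndS (p := 3666) (l := 7) rfl N3666 D6992
theorem N4743 : nd 4743 = n6993 := ndS (p := 3666) (l := 8) rfl N3666 D6993
theorem N4744 : nd 4744 = n6994 := ndS (p := 3667) (l := 3) rfl N3667 D6994
theorem N4745 : nd 4745 = n6995 := ndS (p := 3667) (l := 9) rfl N3667 D6995
theorem N4746 : nd 4746 = n6996 := ndS (p := 3668) (l := 8) rfl N3668 D6996
theorem N4747 : nd 4747 = n6997 := ndS (p := 3669) (l := 9) rfl N3669 D6997
theorem N4748 : nd 4748 = n6998 := ndS (p := 3671) (l := 5) rfl N3671 D6998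
theorem N4749 : nd 4749 = n7000 := ndS (p := 3672) (l := 4) rfl N3672 D7000
theorem N4750 : nd 4750 = n7001 := ndS (p := 3672) (l := 6) rfl N3672 D7001
theorem N4751 : nd 4751 = n7002 := ndS (p := 3672) (l := 8) rfl N3672 D7002
theorem N4752 : nd 4752 = n7004 := ndS (p := 3673) (l := 9) rfl N3673 D7004
theorem N4753 : nd 4753 = n7005 := ndS (p := 3674) (l := 6) rfl N3674 D7005
theorem N4754 : nd 4754 = n7006 := ndS (p := 3674) (l := 8) rfl N3674 D7006
theorem N4755 : nd 4755 = n7007 := ndS (p := 3675) (l := 7) rfl N3675 D7007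
theorem N4756 : nd 4756 = n7008 := ndS (p := 3675) (l := 8) rfl N3675 D7008
theorem N4757 : nd 4757 = n7009 := ndS (p := 3676) (l := 9) rfl N3676 D7009
theorem N4758 : nd 4758 = n7010 := ndS (p := 3679) (l := 3) rfl N3679 D7010
theorem N4759 : nd 4759 = n7011 := ndS (p := 3679) (l := 6) rfl N3679 D7011
theorem N4760 : nd 4760 = n7012 := ndS (p := 3679) (l := 8) rfl N3679 D7012
theorem N4761 : nd 4761 = n7013 := ndS (p := 3680) (l := 7) rfl N3680 D7013
theorem N4762 : nd 4762 = n7014 := ndS (p := 3680) (l := 8) rfl N3680 D7014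
theorem N4763 : nd 4763 = n7015 := ndS (p := 3681) (l := 3) rfl N3681 D7015
theorem N4764 : nd 4764 = n7016 := ndS (p := 3681) (l := 9) rfl N3681 D7016
theorem N4765 : nd 4765 = n7017 := ndS (p := 3682) (l := 4) rfl N3682 D7017
theorem N4766 : nd 4766 = n7018 := ndS (p := 3682) (l := 9) rfl N3682 D7018
theorem N4767 : nd 4767 = n7019 := ndS (p := 3684) (l := 5) rfl N3684 D7019
theorem N4768 : nd 4768 = n7020 := ndS (p := 3684) (l := 7) rfl N3684 D7020
theorem N4769 : nd 4769 = n7021 := ndS (p := 3684) (l := 8) rfl N3684 D7021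
theorem N4770 : nd 4770 = n7022 := ndS (p := 3685) (l := 3) rfl N3685 D7022
theorem N4771 : nd 4771 = n7023 := ndS (p := 3685) (l := 9) rfl N3685 D7023
theorem N4772 : nd 4772 = n7024 := ndS (p := 3686) (l := 8) rfl N3686 D7024
theorem N4773 : nd 4773 = n7025 := ndS (p := 3687) (l := 9) rfl N3687 D7025
theorem N4774 : nd 4774 = n7026 := ndS (p := 3689) (l := 7) rfl N3689 D7026
theorem N4775 : nd 4775 = n7027 := ndS (p := 3689) (l := 8) rfl N3689 D7027
theorem N4776 : nd 4776 = n7028 := ndS (p := 3690) (l := 8) rfl N3690 D7028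
theorem N4777 : nd 4777 = n7029 := ndS (p := 3691) (l := 3) rfl N3691 D7029
theorem N4778 : nd 4778 = n7030 := ndS (p := 3691) (l := 9) rfl N3691 D7030
theorem N4779 : nd 4779 = n7031 := ndS (p := 3692) (l := 2) rfl N3692 D7031
theorem N4780 : nd 4780 = n7032 := ndS (p := 3692) (l := 9) rfl N3692 D7032
theorem N4781 : nd 4781 = n7033 := ndS (p := 3694) (l := 9) rfl N3694 D7033
theorem N4782 : nd 4782 = n7041 := ndS (p := 3696) (l := 6) rfl N3696 D7041
theorem N4783 : nd 4783 = n7043 := ndS (p := 3697) (l := 7) rfl N3697 D7043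
theorem N4784 : nd 4784 = n7046 := ndS (p := 3699) (l := 3) rfl N3699 D7046
theorem N4785 : nd 4785 = n7047 := ndS (p := 3699) (l := 6) rfl N3699 D7047
theorem N4786 : nd 4786 = n7049 := ndS (p := 3700) (l := 7) rfl N3700 D7049
theorem N4787 : nd 4787 = n7055 := ndS (p := 3701) (l := 5) rfl N3701 D7055
theorem N4788 : nd 4788 = n7056 := ndS (p := 3701) (l := 7) rfl N3701 D7056
theorem N4789 : nd 4789 = n7057 := ndS (p := 3701) (l := 8) rfl N3701 D7057
theorem N4790 : nd 4790 = n7058 := ndS (p := 3702) (l := 3) rfl N3702 D7058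
theorem N4791 : nd 4791 = n7060 := ndS (p := 3703) (l := 8) rfl N3703 D7060
theorem N4792 : nd 4792 = n7062 := ndS (p := 3705) (l := 7) rfl N3705 D7062
theorem N4793 : nd 4793 = n7063 := ndS (p := 3705) (l := 8) rfl N3705 D7063
theorem N4794 : nd 4794 = n7064 := ndS (p := 3706) (l := 8) rfl N3706 D7064
theorem N4795 : nd 4795 = n7065 := ndS (p := 3707) (l := 3) rfl N3707 D7065
theorem N4796 : nd 4796 = n7066 := ndS (p := 3707) (l := 9) rfl N3707 D7066
theorem N4797 : nd 4797 = n7067 := ndS (p := 3708) (l := 2) rfl N3708 D7067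
theorem N4798 : nd 4798 = n7068 := ndS (p := 3708) (l := 9) rfl N3708 D7068
theorem N4799 : nd 4799 = n7069 := ndS (p := 3710) (l := 9) rfl N3710 D7069
theorem N4800 : nd 4800 = n7074 := ndS (p := 3712) (l := 3) rfl N3712 D7074
theorem N4801 : nd 4801 = n7075 := ndS (p := 3712) (l := 6) rfl N3712 D7075
theorem N4802 : nd 4802 = n7077 := ndS (p := 3713) (l := 7) rfl N3713 D7077
theorem N4803 : nd 4803 = n7080 := ndS (p := 3714) (l := 5) rfl N3714 D7080
theorem N4804 : nd 4804 = n7081 := ndS (p := 3714) (l := 7) rfl N3714 D7081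
theorem N4805 : nd 4805 = n7082 := ndS (p := 3714) (l := 8) rfl N3714 D7082
theorem N4806 : nd 4806 = n7083 := ndS (p := 3715) (l := 3) rfl N3715 D7083
theorem N4807 : nd 4807 = n7085 := ndS (p := 3716) (l := 8) rfl N3716 D7085
theorem N4808 : nd 4808 = n7087 := ndS (p := 3718) (l := 6) rfl N3718 D7087
theorem N4809 : nd 4809 = n7088 := ndS (p := 3718) (l := 8) rfl N3718 D7088
theorem N4810 : nd 4810 = n7089 := ndS (p := 3719) (l := 5) rfl N3719 D7089
theorem N4811 : nd 4811 = n7090 := ndS (p := 3719) (l := 7) rfl N3719 D7090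
theorem N4812 : nd 4812 = n7091 := ndS (p := 3719) (l := 8) rfl N3719 D7091
theorem N4813 : nd 4813 = n7092 := ndS (p := 3720) (l := 3) rfl N3720 D7092
theorem N4814 : nd 4814 = n7094 := ndS (p := 3721) (l := 8) rfl N3721 D7094
theorem N4815 : nd 4815 = n7096 := ndS (p := 3723) (l := 7) rfl N3723 D7096
theorem N4816 : nd 4816 = n7097 := ndS (p := 3723) (l := 8) rfl N3723 D7097
theorem N4817 : nd 4817 = n7098 := ndS (p := 3724) (l := 8) rfl N3724 D7098
theorem N4818 : nd 4818 = n7099 := ndS (p := 3725) (l := 3) rfl N3725 D7099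
theorem N4819 : nd 4819 = n7100 := ndS (p := 3725) (l := 9) rfl N3725 D7100
theorem N4820 : nd 4820 = n7101 := ndS (p := 3726) (l := 2) rfl N3726 D7101
theorem N4821 : nd 4821 = n7102 := ndS (p := 3726) (l := 9) rfl N3726 D7102
theorem N4822 : nd 4822 = n7103 := ndS (p := 3728) (l := 9) rfl N3728 D7103
theorem N4823 : nd 4823 = n7104 := ndS (p := 3730) (l := 6) rfl N3730 D7104
theorem N4824 : nd 4824 = n7105 := ndS (p := 3730) (l := 8) rfl N3730 D7105
theorem N4825 : nd 4825 = n7106 := ndS (p := 3731) (l := 3) rfl N3731 D7106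
theorem N4826 : nd 4826 = n7107 := ndS (p := 3731) (l := 9) rfl N3731 D7107
theorem N4827 : nd 4827 = n7108 := ndS (p := 3732) (l := 3) rfl N3732 D7108
theorem N4828 : nd 4828 = n7109 := ndS (p := 3732) (l := 9) rfl N3732 D7109
theorem N4829 : nd 4829 = n7110 := ndS (p := 3733) (l := 2) rfl N3733 D7110
theorem N4830 : nd 4830 = n7111 := ndS (p := 3733) (l := 9) rfl N3733 D7111
theorem N4831 : nd 4831 = n7112 := ndS (p := 3735) (l := 1) rfl N3735 D7112
theorem N4832 : nd 4832 = n7113 := ndS (p := 3735) (l := 9) rfl N3735 D7113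
theorem N4833 : nd 4833 = n7114 := ndS (p := 3736) (l := 8) rfl N3736 D7114
theorem N4834 : nd 4834 = n7116 := ndS (p := 3738) (l := 5) rfl N3738 D7116
theorem N4835 : nd 4835 = n7117 := ndS (p := 3738) (l := 8) rfl N3738 D7117
theorem N4836 : nd 4836 = n7118 := ndS (p := 3739) (l := 4) rfl N3739 D7118
theorem N4837 : nd 4837 = n7119 := ndS (p := 3739) (l := 6) rfl N3739 D7119
theorem N4838 : nd 4838 = n7120 := ndS (p := 3739) (l := 8) rfl N3739 D7120
theorem N4839 : nd 4839 = n7121 := ndS (p := 3740) (l := 9) rfl N3740 D7121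
theorem N4840 : nd 4840 = n7122 := ndS (p := 3741) (l := 7) rfl N3741 D7122
theorem N4841 : nd 4841 = n7123 := ndS (p := 3742) (l := 4) rfl N3742 D7123
theorem N4842 : nd 4842 = n7124 := ndS (p := 3742) (l := 6) rfl N3742 D7124
theorem N4843 : nd 4843 = n7125 := ndS (p := 3742) (l := 8) rfl N3742 D7125
theorem N4844 : nd 4844 = n7126 := ndS (p := 3743) (l := 3) rfl N3743 D7126
theorem N4845 : nd 4845 = n7127 := ndS (p := 3743) (l := 9) rfl N3743 D7127
theorem N4846 : nd 4846 = n7128 := ndS (p := 3744) (l := 6) rfl N3744 D7128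
theorem N4847 : nd 4847 = n7129 := ndS (p := 3744) (l := 8) rfl N3744 D7129
theorem N4848 : nd 4848 = n7130 := ndS (p := 3745) (l := 7) rfl N3745 D7130
theorem N4849 : nd 4849 = n7131 := ndS (p := 3745) (l := 8) rfl N3745 D7131
theorem N4850 : nd 4850 = n7132 := ndS (p := 3746) (l := 9) rfl N3746 D7132
theorem N4851 : nd 4851 = n7133 := ndS (p := 3749) (l := 5) rfl N3749 D7133
theorem N4852 : nd 4852 = n7134 := ndS (p := 3749) (l := 7) rfl N3749 D7134
theorem N4853 : nd 4853 = n7135 := ndS (p := 3749) (l := 8) rfl N3749 D7135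
theorem N4854 : nd 4854 = n7136 := ndS (p := 3750) (l := 3) rfl N3750 D7136
theorem N4855 : nd 4855 = n7137 := ndS (p := 3750) (l := 9) rfl N3750 D7137
theorem N4856 : nd 4856 = n7138 := ndS (p := 3751) (l := 8) rfl N3751 D7138
theorem N4857 : nd 4857 = n7139 := ndS (p := 3752) (l := 9) rfl N3752 D7139
theorem N4858 : nd 4858 = n7142 := ndS (p := 3754) (l := 4) rfl N3754 D7142
theorem N4859 : nd 4859 = n7143 := ndS (p := 3754) (l := 6) rfl N3754 D7143
theorem N4860 : nd 4860 = n7144 := ndS (p := 3754) (l := 8) rfl N3754 D7144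
theorem N4861 : nd 4861 = n7146 := ndS (p := 3755) (l := 9) rfl N3755 D7146
theorem N4862 : nd 4862 = n7147 := ndS (p := 3756) (l := 6) rfl N3756 D7147
theorem N4863 : nd 4863 = n7148 := ndS (p := 3756) (l := 8) rfl N3756 D7148
theorem N4864 : nd 4864 = n7149 := ndS (p := 3757) (l := 7) rfl N3757 D7149
theorem N4865 : nd 4865 = n7150 := ndS (p := 3757) (l := 8) rfl N3757 D7150
theorem N4866 : nd 4866 = n7151 := ndS (p := 3758) (l := 9) rfl N3758 D7151
theorem N4867 : nd 4867 = n7152 := ndS (p := 3761) (l := 3) rfl N3761 D7152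
theorem N4868 : nd 4868 = n7153 := ndS (p := 3761) (l := 6) rfl N3761 D7153
theorem N4869 : nd 4869 = n7154 := ndS (p := 3761) (l := 8) rfl N3761 D7154
theorem N4870 : nd 4870 = n7155 := ndS (p := 3762) (l := 7) rfl N3762 D7155
theorem N4871 : nd 4871 = n7156 := ndS (p := 3762) (l := 8) rfl N3762 D7156
theorem N4872 : nd 4872 = n7157 := ndS (p := 3763) (l := 3) rfl N3763 D7157
theorem N4873 : nd 4873 = n7158 := ndS (p := 3763) (l := 9) rfl N3763 D7158
theorem N4874 : nd 4874 = n7159 := ndS (p := 3764) (l := 4) rfl N3764 D7159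
theorem N4875 : nd 4875 = n7160 := ndS (p := 3764) (l := 9) rfl N3764 D7160
theorem N4876 : nd 4876 = n7161 := ndS (p := 3766) (l := 5) rfl N3766 D7161
theorem N4877 : nd 4877 = n7162 := ndS (p := 3766) (l := 7) rfl N3766 D7162
theorem N4878 : nd 4878 = n7163 := ndS (p := 3766) (l := 8) rfl N3766 D7163
theorem N4879 : nd 4879 = n7164 := ndS (p := 3767) (l := 3) rfl N3767 D7164
theorem N4880 : nd 4880 = n7165 := ndS (p := 3767) (l := 9) rfl N3767 D7165
theorem N4881 : nd 4881 = n7166 := ndS (p := 3768) (l := 8) rfl N3768 D7166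
theorem N4882 : nd 4882 = n7167 := ndS (p := 3769) (l := 9) rfl N3769 D7167
theorem N4883 : nd 4883 = n7168 := ndS (p := 3771) (l := 7) rfl N3771 D7168
theorem N4884 : nd 4884 = n7169 := ndS (p := 3771) (l := 8) rfl N3771 D7169
theorem N4885 : nd 4885 = n7170 := ndS (p := 3772) (l := 8) rfl N3772 D7170
theorem N4886 : nd 4886 = n7171 := ndS (p := 3773) (l := 3) rfl N3773 D7171
theorem N4887 : nd 4887 = n7172 := ndS (p := 3773) (l := 9) rfl N3773 D7172
theorem N4888 : nd 4888 = n7173 := ndS (p := 3774) (l := 2) rfl N3774 D7173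
theorem N4889 : nd 4889 = n7174 := ndS (p := 3774) (l := 9) rfl N3774 D7174
theorem N4890 : nd 4890 = n7175 := ndS (p := 3776) (l := 9) rfl N3776 D7175
theorem N4891 : nd 4891 = n7181 := ndS (p := 3778) (l := 6) rfl N3778 D7181
theorem N4892 : nd 4892 = n7182 := ndS (p := 3778) (l := 8) rfl N3778 D7182
theorem N4893 : nd 4893 = n7183 := ndS (p := 3779) (l := 7) rfl N3779 D7183
theorem N4894 : nd 4894 = n7184 := ndS (p := 3779) (l := 8) rfl N3779 D7184
theorem N4895 : nd 4895 = n7186 := ndS (p := 3780) (l := 9) rfl N3780 D7186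
theorem N4896 : nd 4896 = n7189 := ndS (p := 3782) (l := 5) rfl N3782 D7189
theorem N4897 : nd 4897 = n7190 := ndS (p := 3782) (l := 7) rfl N3782 D7190
theorem N4898 : nd 4898 = n7191 := ndS (p := 3782) (l := 8) rfl N3782 D7191
theorem N4899 : nd 4899 = n7192 := ndS (p := 3783) (l := 3) rfl N3783 D7192
theorem N4900 : nd 4900 = n7193 := ndS (p := 3783) (l := 9) rfl N3783 D7193
theorem N4901 : nd 4901 = n7194 := ndS (p := 3784) (l := 8) rfl N3784 D7194
theorem N4902 : nd 4902 = n7195 := ndS (p := 3785) (l := 9) rfl N3785 D7195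
theorem N4903 : nd 4903 = n7196 := ndS (p := 3787) (l := 5) rfl N3787 D7196
theorem N4904 : nd 4904 = n7197 := ndS (p := 3787) (l := 7) rfl N3787 D7197
theorem N4905 : nd 4905 = n7198 := ndS (p := 3787) (l := 8) rfl N3787 D7198
theorem N4906 : nd 4906 = n7199 := ndS (p := 3788) (l := 3) rfl N3788 D7199
theorem N4907 : nd 4907 = n7200 := ndS (p := 3788) (l := 9) rfl N3788 D7200
theorem N4908 : nd 4908 = n7201 := ndS (p := 3789) (l := 8) rfl N3789 D7201
theorem N4909 : nd 4909 = n7202 := ndS (p := 3790) (l := 3) rfl N3790 D7202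
theorem N4910 : nd 4910 = n7203 := ndS (p := 3790) (l := 9) rfl N3790 D7203
theorem N4911 : nd 4911 = n7204 := ndS (p := 3791) (l := 4) rfl N3791 D7204
theorem N4912 : nd 4912 = n7205 := ndS (p := 3791) (l := 9) rfl N3791 D7205
theorem N4913 : nd 4913 = n7206 := ndS (p := 3793) (l := 5) rfl N3793 D7206
theorem N4914 : nd 4914 = n7207 := ndS (p := 3793) (l := 9) rfl N3793 D7207
theorem N4915 : nd 4915 = n7209 := ndS (p := 3795) (l := 7) rfl N3795 D7209
theorem N4916 : nd 4916 = n7210 := ndS (p := 3795) (l := 8) rfl N3795 D7210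
theorem N4917 : nd 4917 = n7211 := ndS (p := 3796) (l := 8) rfl N3796 D7211
theorem N4918 : nd 4918 = n7212 := ndS (p := 3797) (l := 3) rfl N3797 D7212
theorem N4919 : nd 4919 = n7213 := ndS (p := 3797) (l := 9) rfl N3797 D7213
theorem N4920 : nd 4920 = n7214 := ndS (p := 3798) (l := 2) rfl N3798 D7214
theorem N4921 : nd 4921 = n7215 := ndS (p := 3798) (l := 9) rfl N3798 D7215
theorem N4922 : nd 4922 = n7216 := ndS (p := 3800) (l := 9) rfl N3800 D7216
theorem N4923 : nd 4923 = n7217 := ndS (p := 3802) (l := 6) rfl N3802 D7217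
theorem N4924 : nd 4924 = n7218 := ndS (p := 3802) (l := 8) rfl N3802 D7218
theorem N4925 : nd 4925 = n7219 := ndS (p := 3803) (l := 3) rfl N3803 D7219
theorem N4926 : nd 4926 = n7220 := ndS (p := 3803) (l := 9) rfl N3803 D7220
theorem N4927 : nd 4927 = n7221 := ndS (p := 3804) (l := 3) rfl N3804 D7221
theorem N4928 : nd 4928 = n7222 := ndS (p := 3804) (l := 9) rfl N3804 D7222
theorem N4929 : nd 4929 = n7223 := ndS (p := 3805) (l := 2) rfl N3805 D7223
theorem N4930 : nd 4930 = n7224 := ndS (p := 3805) (l := 9) rfl N3805 D7224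
theorem N4931 : nd 4931 = n7225 := ndS (p := 3807) (l := 1) rfl N3807 D7225
theorem N4932 : nd 4932 = n7226 := ndS (p := 3807) (l := 9) rfl N3807 D7226
theorem N4933 : nd 4933 = n7227 := ndS (p := 3808) (l := 8) rfl N3808 D7227
theorem N4934 : nd 4934 = n7228 := ndS (p := 3810) (l := 7) rfl N3810 D7228
theorem N4935 : nd 4935 = n7229 := ndS (p := 3810) (l := 8) rfl N3810 D7229
theorem N4936 : nd 4936 = n7230 := ndS (p := 3811) (l := 8) rfl N3811 D7230
theorem N4937 : nd 4937 = n7231 := ndS (p := 3812) (l := 3) rfl N3812 D7231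
theorem N4938 : nd 4938 = n7232 := ndS (p := 3812) (l := 9) rfl N3812 D7232
theorem N4939 : nd 4939 = n7233 := ndS (p := 3813) (l := 2) rfl N3813 D7233
theorem N4940 : nd 4940 = n7234 := ndS (p := 3813) (l := 9) rfl N3813 D7234
theorem N4941 : nd 4941 = n7235 := ndS (p := 3815) (l := 9) rfl N3815 D7235
theorem N4942 : nd 4942 = n7236 := ndS (p := 3817) (l := 6) rfl N3817 D7236
theorem N4943 : nd 4943 = n7237 := ndS (p := 3817) (l := 8) rfl N3817 D7237
theorem N4944 : nd 4944 = n7238 := ndS (p := 3818) (l := 3) rfl N3818 D7238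
theorem N4945 : nd 4945 = n7239 := ndS (p := 3818) (l := 9) rfl N3818 D7239
theorem N4946 : nd 4946 = n7240 := ndS (p := 3819) (l := 3) rfl N3819 D7240
theorem N4947 : nd 4947 = n7241 := ndS (p := 3819) (l := 9) rfl N3819 D7241
theorem N4948 : nd 4948 = n7242 := ndS (p := 3820) (l := 2) rfl N3820 D7242
theorem N4949 : nd 4949 = n7243 := ndS (p := 3820) (l := 9) rfl N3820 D7243
theorem N4950 : nd 4950 = n7244 := ndS (p := 3822) (l := 1) rfl N3822 D7244
theorem N4951 : nd 4951 = n7245 := ndS (p := 3822) (l := 9) rfl N3822 D7245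
theorem N4952 : nd 4952 = n7246 := ndS (p := 3823) (l := 8) rfl N3823 D7246
theorem N4953 : nd 4953 = n7248 := ndS (p := 3826) (l := 3) rfl N3826 D7248
theorem N4954 : nd 4954 = n7250 := ndS (p := 3827) (l := 2) rfl N3827 D7250
theorem N4955 : nd 4955 = n7251 := ndS (p := 3827) (l := 4) rfl N3827 D7251
theorem N4956 : nd 4956 = n7252 := ndS (p := 3827) (l := 9) rfl N3827 D7252
theorem N4957 : nd 4957 = n7255 := ndS (p := 3831) (l := 1) rfl N3831 D7255
theorem N4958 : nd 4958 = n7257 := ndS (p := 3832) (l := 8) rfl N3832 D7257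
theorem N4959 : nd 4959 = n7258 := ndS (p := 3833) (l := 0) rfl N3833 D7258
theorem N4960 : nd 4960 = n7259 := ndS (p := 3833) (l := 9) rfl N3833 D7259
theorem N4961 : nd 4961 = n7260 := ndS (p := 3834) (l := 8) rfl N3834 D7260
theorem N4962 : nd 4962 = n7274 := ndS (p := 3836) (l := 0) rfl N3836 D7274
theorem N4963 : nd 4963 = n7277 := ndS (p := 3837) (l := 9) rfl N3837 D7277
theorem N4964 : nd 4964 = n7280 := ndS (p := 3839) (l := 4) rfl N3839 D7280
theorem N4965 : nd 4965 = n7281 := ndS (p := 3839) (l := 8) rfl N3839 D7281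
theorem N4966 : nd 4966 = n7282 := ndS (p := 3839) (l := 9) rfl N3839 D7282
theorem N4967 : nd 4967 = n7289 := ndS (p := 3843) (l := 3) rfl N3843 D7289
theorem N4968 : nd 4968 = n7291 := ndS (p := 3844) (l := 4) rfl N3844 D7291
theorem N4969 : nd 4969 = n7294 := ndS (p := 3845) (l := 5) rfl N3845 D7294
theorem N4970 : nd 4970 = n7296 := ndS (p := 3846) (l := 4) rfl N3846 D7296
theorem N4971 : nd 4971 = n7297 := ndS (p := 3847) (l := 3) rfl N3847 D7297
theorem N4972 : nd 4972 = n7298 := ndS (p := 3847) (l := 5) rfl N3847 D7298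
theorem N4973 : nd 4973 = n7299 := ndS (p := 3848) (l := 6) rfl N3848 D7299
theorem N4974 : nd 4974 = n7300 := ndS (p := 3849) (l := 4) rfl N3849 D7300
theorem N4975 : nd 4975 = n7301 := ndS (p := 3850) (l := 3) rfl N3850 D7301
theorem N4976 : nd 4976 = n7302 := ndS (p := 3850) (l := 5) rfl N3850 D7302
theorem N4977 : nd 4977 = n7316 := ndS (p := 3854) (l := 5) rfl N3854 D7316
theorem N4978 : nd 4978 = n7321 := ndS (p := 3855) (l := 6) rfl N3855 D7321
theorem N4979 : nd 4979 = n7323 := ndS (p := 3856) (l := 3) rfl N3856 D7323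
theorem N4980 : nd 4980 = n7324 := ndS (p := 3856) (l := 5) rfl N3856 D7324
theorem N4981 : nd 4981 = n7325 := ndS (p := 3857) (l := 5) rfl N3857 D7325
theorem N4982 : nd 4982 = n7327 := ndS (p := 3858) (l := 6) rfl N3858 D7327
theorem N4983 : nd 4983 = n7328 := ndS (p := 3859) (l := 7) rfl N3859 D7328
theorem N4984 : nd 4984 = n7329 := ndS (p := 3860) (l := 3) rfl N3860 D7329
theorem N4985 : nd 4985 = n7330 := ndS (p := 3860) (l := 5) rfl N3860 D7330
theorem N4986 : nd 4986 = n7331 := ndS (p := 3861) (l := 2) rfl N3861 D7331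
theorem N4987 : nd 4987 = n7332 := ndS (p := 3861) (l := 5) rfl N3861 D7332
theorem N4988 : nd 4988 = n7333 := ndS (p := 3861) (l := 8) rfl N3861 D7333
theorem N4989 : nd 4989 = n7334 := ndS (p := 3862) (l := 6) rfl N3862 D7334
theorem N4990 : nd 4990 = n7355 := ndS (p := 3867) (l := 6) rfl N3867 D7355
theorem N4991 : nd 4991 = n7362 := ndS (p := 3868) (l := 7) rfl N3868 D7362
theorem N4992 : nd 4992 = n7365 := ndS (p := 3869) (l := 2) rfl N3869 D7365
theorem N4993 : nd 4993 = n7366 := ndS (p := 3869) (l := 5) rfl N3869 D7366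
theorem N4994 : nd 4994 = n7368 := ndS (p := 3870) (l := 6) rfl N3870 D7368
theorem N4995 : nd 4995 = n7369 := ndS (p := 3871) (l := 4) rfl N3871 D7369
theorem N4996 : nd 4996 = n7370 := ndS (p := 3871) (l := 6) rfl N3871 D7370
theorem N4997 : nd 4997 = n7373 := ndS (p := 3872) (l := 7) rfl N3872 D7373
theorem N4998 : nd 4998 = n7374 := ndS (p := 3874) (l := 2) rfl N3874 D7374
theorem N4999 : nd 4999 = n7375 := ndS (p := 3874) (l := 5) rfl N3874 D7375
theorem N5000 : nd 5000 = n7376 := ndS (p := 3874) (l := 8) rfl N3874 D7376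
theorem N5001 : nd 5001 = n7377 := ndS (p := 3875) (l := 6) rfl N3875 D7377
theorem N5002 : nd 5002 = n7378 := ndS (p := 3876) (l := 5) rfl N3876 D7378
theorem N5003 : nd 5003 = n7379 := ndS (p := 3876) (l := 8) rfl N3876 D7379
theorem N5004 : nd 5004 = n7380 := ndS (p := 3877) (l := 4) rfl N3877 D7380
theorem N5005 : nd 5005 = n7381 := ndS (p := 3877) (l := 6) rfl N3877 D7381
theorem N5006 : nd 5006 = n7382 := ndS (p := 3877) (l := 8) rfl N3877 D7382
theorem N5007 : nd 5007 = n7384 := ndS (p := 3879) (l := 7) rfl N3879 D7384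
theorem N5008 : nd 5008 = n7401 := ndS (p := 3884) (l := 7) rfl N3884 D7401
theorem N5009 : nd 5009 = n7404 := ndS (p := 3885) (l := 2) rfl N3885 D7404
theorem N5010 : nd 5010 = n7405 := ndS (p := 3885) (l := 5) rfl N3885 D7405
theorem N5011 : nd 5011 = n7407 := ndS (p := 3886) (l := 6) rfl N3886 D7407
theorem N5012 : nd 5012 = n7408 := ndS (p := 3887) (l := 4) rfl N3887 D7408
theorem N5013 : nd 5013 = n7409 := ndS (p := 3887) (l := 6) rfl N3887 D7409
theorem N5014 : nd 5014 = n7412 := ndS (p := 3888) (l := 7) rfl N3888 D7412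
theorem N5015 : nd 5015 = n7413 := ndS (p := 3890) (l := 2) rfl N3890 D7413
theorem N5016 : nd 5016 = n7414 := ndS (p := 3890) (l := 5) rfl N3890 D7414
theorem N5017 : nd 5017 = n7415 := ndS (p := 3890) (l := 8) rfl N3890 D7415
theorem N5018 : nd 5018 = n7416 := ndS (p := 3891) (l := 6) rfl N3891 D7416
theorem N5019 : nd 5019 = n7417 := ndS (p := 3892) (l := 5) rfl N3892 D7417
theorem N5020 : nd 5020 = n7418 := ndS (p := 3892) (l := 8) rfl N3892 D7418
theorem N5021 : nd 5021 = n7419 := ndS (p := 3893) (l := 4) rfl N3893 D7419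
theorem N5022 : nd 5022 = n7420 := ndS (p := 3893) (l := 6) rfl N3893 D7420
theorem N5023 : nd 5023 = n7421 := ndS (p := 3893) (l := 8) rfl N3893 D7421
theorem N5024 : nd 5024 = n7422 := ndS (p := 3894) (l := 9) rfl N3894 D7422
theorem N5025 : nd 5025 = n7423 := ndS (p := 3895) (l := 7) rfl N3895 D7423
theorem N5026 : nd 5026 = n7428 := ndS (p := 3898) (l := 9) rfl N3898 D7428
theorem N5027 : nd 5027 = n7451 := ndS (p := 3902) (l := 5) rfl N3902 D7451
theorem N5028 : nd 5028 = n7453 := ndS (p := 3903) (l := 4) rfl N3903 D7453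
theorem N5029 : nd 5029 = n7454 := ndS (p := 3903) (l := 6) rfl N3903 D7454
theorem N5030 : nd 5030 = n7457 := ndS (p := 3904) (l := 7) rfl N3904 D7457
theorem N5031 : nd 5031 = n7458 := ndS (p := 3905) (l := 6) rfl N3905 D7458
theorem N5032 : nd 5032 = n7460 := ndS (p := 3906) (l := 7) rfl N3906 D7460
theorem N5033 : nd 5033 = n7463 := ndS (p := 3908) (l := 1) rfl N3908 D7463
theorem N5034 : nd 5034 = n7464 := ndS (p := 3908) (l := 5) rfl N3908 D7464
theorem N5035 : nd 5035 = n7465 := ndS (p := 3908) (l := 8) rfl N3908 D7465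
theorem N5036 : nd 5036 = n7466 := ndS (p := 3909) (l := 4) rfl N3909 D7466
theorem N5037 : nd 5037 = n7467 := ndS (p := 3909) (l := 6) rfl N3909 D7467
theorem N5038 : nd 5038 = n7468 := ndS (p := 3909) (l := 8) rfl N3909 D7468
theorem N5039 : nd 5039 = n7470 := ndS (p := 3911) (l := 7) rfl N3911 D7470
theorem N5040 : nd 5040 = n7471 := ndS (p := 3912) (l := 4) rfl N3912 D7471
theorem N5041 : nd 5041 = n7472 := ndS (p := 3912) (l := 6) rfl N3912 D7472
theorem N5042 : nd 5042 = n7473 := ndS (p := 3912) (l := 8) rfl N3912 D7473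
theorem N5043 : nd 5043 = n7474 := ndS (p := 3913) (l := 3) rfl N3913 D7474
theorem N5044 : nd 5044 = n7476 := ndS (p := 3914) (l := 6) rfl N3914 D7476
theorem N5045 : nd 5045 = n7477 := ndS (p := 3914) (l := 8) rfl N3914 D7477
theorem N5046 : nd 5046 = n7478 := ndS (p := 3915) (l := 7) rfl N3915 D7478
theorem N5047 : nd 5047 = n7479 := ndS (p := 3915) (l := 8) rfl N3915 D7479
theorem N5048 : nd 5048 = n7480 := ndS (p := 3916) (l := 9) rfl N3916 D7480
theorem N5049 : nd 5049 = n7485 := ndS (p := 3920) (l := 9) rfl N3920 D7485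
theorem N5050 : nd 5050 = n7487 := ndS (p := 3922) (l := 9) rfl N3922 D7487
theorem N5051 : nd 5051 = n7523 := ndS (p := 3924) (l := 4) rfl N3924 D7523
theorem N5052 : nd 5052 = n7524 := ndS (p := 3924) (l := 6) rfl N3924 D7524
theorem N5053 : nd 5053 = n7528 := ndS (p := 3925) (l := 6) rfl N3925 D7528
theorem N5054 : nd 5054 = n7530 := ndS (p := 3926) (l := 7) rfl N3926 D7530
theorem N5055 : nd 5055 = n7533 := ndS (p := 3928) (l := 5) rfl N3928 D7533
theorem N5056 : nd 5056 = n7534 := ndS (p := 3928) (l := 7) rfl N3928 D7534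
theorem N5057 : nd 5057 = n7540 := ndS (p := 3930) (l := 5) rfl N3930 D7540
theorem N5058 : nd 5058 = n7542 := ndS (p := 3931) (l := 4) rfl N3931 D7542
theorem N5059 : nd 5059 = n7543 := ndS (p := 3931) (l := 6) rfl N3931 D7543
theorem N5060 : nd 5060 = n7544 := ndS (p := 3931) (l := 8) rfl N3931 D7544
theorem N5061 : nd 5061 = n7547 := ndS (p := 3933) (l := 6) rfl N3933 D7547
theorem N5062 : nd 5062 = n7548 := ndS (p := 3933) (l := 8) rfl N3933 D7548
theorem N5063 : nd 5063 = n7549 := ndS (p := 3934) (l := 7) rfl N3934 D7549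
theorem N5064 : nd 5064 = n7550 := ndS (p := 3934) (l := 8) rfl N3934 D7550
theorem N5065 : nd 5065 = n7552 := ndS (p := 3937) (l := 3) rfl N3937 D7552
theorem N5066 : nd 5066 = n7553 := ndS (p := 3937) (l := 6) rfl N3937 D7553
theorem N5067 : nd 5067 = n7554 := ndS (p := 3937) (l := 8) rfl N3937 D7554
theorem N5068 : nd 5068 = n7555 := ndS (p := 3938) (l := 7) rfl N3938 D7555
theorem N5069 : nd 5069 = n7556 := ndS (p := 3938) (l := 8) rfl N3938 D7556
theorem N5070 : nd 5070 = n7557 := ndS (p := 3939) (l := 3) rfl N3939 D7557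
theorem N5071 : nd 5071 = n7559 := ndS (p := 3940) (l := 4) rfl N3940 D7559
theorem N5072 : nd 5072 = n7561 := ndS (p := 3941) (l := 5) rfl N3941 D7561
theorem N5073 : nd 5073 = n7562 := ndS (p := 3941) (l := 7) rfl N3941 D7562
theorem N5074 : nd 5074 = n7563 := ndS (p := 3941) (l := 8) rfl N3941 D7563
theorem N5075 : nd 5075 = n7564 := ndS (p := 3942) (l := 3) rfl N3942 D7564
theorem N5076 : nd 5076 = n7565 := ndS (p := 3942) (l := 9) rfl N3942 D7565
theorem N5077 : nd 5077 = n7566 := ndS (p := 3943) (l := 8) rfl N3943 D7566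
theorem N5078 : nd 5078 = n7567 := ndS (p := 3944) (l := 9) rfl N3944 D7567
theorem N5079 : nd 5079 = n7572 := ndS (p := 3948) (l := 9) rfl N3948 D7572
theorem N5080 : nd 5080 = n7573 := ndS (p := 3949) (l := 9) rfl N3949 D7573
theorem N5081 : nd 5081 = n7574 := ndS (p := 3951) (l := 9) rfl N3951 D7574
theorem N5082 : nd 5082 = n7575 := ndS (p := 3953) (l := 2) rfl N3953 D7575
theorem N5083 : nd 5083 = n7576 := ndS (p := 3953) (l := 5) rfl N3953 D7576
theorem N5084 : nd 5084 = n7578 := ndS (p := 3954) (l := 6) rfl N3954 D7578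
theorem N5085 : nd 5085 = n7579 := ndS (p := 3955) (l := 5) rfl N3955 D7579
theorem N5086 : nd 5086 = n7580 := ndS (p := 3955) (l := 8) rfl N3955 D7580
theorem N5087 : nd 5087 = n7581 := ndS (p := 3956) (l := 4) rfl N3956 D7581
theorem N5088 : nd 5088 = n7582 := ndS (p := 3956) (l := 6) rfl N3956 D7582
theorem N5089 : nd 5089 = n7583 := ndS (p := 3956) (l := 8) rfl N3956 D7583
theorem N5090 : nd 5090 = n7585 := ndS (p := 3958) (l := 7) rfl N3958 D7585
theorem N5091 : nd 5091 = n7587 := ndS (p := 3959) (l := 8) rfl N3959 D7587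
theorem N5092 : nd 5092 = n7589 := ndS (p := 3960) (l := 8) rfl N3960 D7589
theorem N5093 : nd 5093 = n7590 := ndS (p := 3961) (l := 9) rfl N3961 D7590
theorem N5094 : nd 5094 = n7592 := ndS (p := 3964) (l := 5) rfl N3964 D7592
theorem N5095 : nd 5095 = n7594 := ndS (p := 3965) (l := 4) rfl N3965 D7594
theorem N5096 : nd 5096 = n7595 := ndS (p := 3965) (l := 6) rfl N3965 D7595
theorem N5097 : nd 5097 = n7598 := ndS (p := 3966) (l := 7) rfl N3966 D7598
theorem N5098 : nd 5098 = n7599 := ndS (p := 3967) (l := 4) rfl N3967 D7599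
theorem N5099 : nd 5099 = n7600 := ndS (p := 3967) (l := 6) rfl N3967 D7600
theorem N5100 : nd 5100 = n7601 := ndS (p := 3967) (l := 8) rfl N3967 D7601
theorem N5101 : nd 5101 = n7602 := ndS (p := 3968) (l := 3) rfl N3968 D7602
theorem N5102 : nd 5102 = n7617 := ndS (p := 3974) (l := 5) rfl N3974 D7617
theorem N5103 : nd 5103 = n7619 := ndS (p := 3975) (l := 4) rfl N3975 D7619
theorem N5104 : nd 5104 = n7620 := ndS (p := 3975) (l := 6) rfl N3975 D7620
theorem N5105 : nd 5105 = n7623 := ndS (p := 3976) (l := 7) rfl N3976 D7623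
theorem N5106 : nd 5106 = n7624 := ndS (p := 3977) (l := 4) rfl N3977 D7624
theorem N5107 : nd 5107 = n7625 := ndS (p := 3977) (l := 6) rfl N3977 D7625
theorem N5108 : nd 5108 = n7626 := ndS (p := 3977) (l := 8) rfl N3977 D7626
theorem N5109 : nd 5109 = n7629 := ndS (p := 3979) (l := 6) rfl N3979 D7629
theorem N5110 : nd 5110 = n7630 := ndS (p := 3979) (l := 8) rfl N3979 D7630
theorem N5111 : nd 5111 = n7631 := ndS (p := 3980) (l := 7) rfl N3980 D7631
theorem N5112 : nd 5112 = n7632 := ndS (p := 3980) (l := 8) rfl N3980 D7632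
theorem N5113 : nd 5113 = n7636 := ndS (p := 3983) (l := 8) rfl N3983 D7636
theorem N5114 : nd 5114 = n7637 := ndS (p := 3984) (l := 3) rfl N3984 D7637
theorem N5115 : nd 5115 = n7638 := ndS (p := 3984) (l := 9) rfl N3984 D7638
theorem N5116 : nd 5116 = n7639 := ndS (p := 3985) (l := 8) rfl N3985 D7639
theorem N5117 : nd 5117 = n7640 := ndS (p := 3986) (l := 9) rfl N3986 D7640
theorem N5118 : nd 5118 = n7643 := ndS (p := 3988) (l := 4) rfl N3988 D7643
theorem N5119 : nd 5119 = n7644 := ndS (p := 3988) (l := 6) rfl N3988 D7644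
theorem N5120 : nd 5120 = n7648 := ndS (p := 3989) (l := 6) rfl N3989 D7648
theorem N5121 : nd 5121 = n7650 := ndS (p := 3990) (l := 7) rfl N3990 D7650
theorem N5122 : nd 5122 = n7653 := ndS (p := 3992) (l := 3) rfl N3992 D7653
theorem N5123 : nd 5123 = n7654 := ndS (p := 3992) (l := 6) rfl N3992 D7654
theorem N5124 : nd 5124 = n7655 := ndS (p := 3992) (l := 8) rfl N3992 D7655
theorem N5125 : nd 5125 = n7656 := ndS (p := 3993) (l := 7) rfl N3993 D7656
theorem N5126 : nd 5126 = n7657 := ndS (p := 3993) (l := 8) rfl N3993 D7657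
theorem N5127 : nd 5127 = n7658 := ndS (p := 3994) (l := 3) rfl N3994 D7658
theorem N5128 : nd 5128 = n7660 := ndS (p := 3995) (l := 4) rfl N3995 D7660
theorem N5129 : nd 5129 = n7679 := ndS (p := 4002) (l := 4) rfl N4002 D7679
theorem N5130 : nd 5130 = n7680 := ndS (p := 4002) (l := 6) rfl N4002 D7680
theorem N5131 : nd 5131 = n7684 := ndS (p := 4003) (l := 6) rfl N4003 D7684
theorem N5132 : nd 5132 = n7686 := ndS (p := 4004) (l := 7) rfl N4004 D7686
theorem N5133 : nd 5133 = n7689 := ndS (p := 4006) (l := 3) rfl N4006 D7689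
theorem N5134 : nd 5134 = n7690 := ndS (p := 4006) (l := 6) rfl N4006 D7690
theorem N5135 : nd 5135 = n7691 := ndS (p := 4006) (l := 8) rfl N4006 D7691
theorem N5136 : nd 5136 = n7692 := ndS (p := 4007) (l := 7) rfl N4007 D7692
theorem N5137 : nd 5137 = n7693 := ndS (p := 4007) (l := 8) rfl N4007 D7693
theorem N5138 : nd 5138 = n7698 := ndS (p := 4009) (l := 5) rfl N4009 D7698
theorem N5139 : nd 5139 = n7699 := ndS (p := 4009) (l := 7) rfl N4009 D7699
theorem N5140 : nd 5140 = n7700 := ndS (p := 4009) (l := 8) rfl N4009 D7700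
theorem N5141 : nd 5141 = n7701 := ndS (p := 4010) (l := 3) rfl N4010 D7701
theorem N5142 : nd 5142 = n7703 := ndS (p := 4011) (l := 8) rfl N4011 D7703
theorem N5143 : nd 5143 = n7706 := ndS (p := 4013) (l := 8) rfl N4013 D7706
theorem N5144 : nd 5144 = n7707 := ndS (p := 4014) (l := 8) rfl N4014 D7707
theorem N5145 : nd 5145 = n7708 := ndS (p := 4015) (l := 3) rfl N4015 D7708
theorem N5146 : nd 5146 = n7709 := ndS (p := 4015) (l := 9) rfl N4015 D7709
theorem N5147 : nd 5147 = n7711 := ndS (p := 4016) (l := 9) rfl N4016 D7711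
theorem N5148 : nd 5148 = n7712 := ndS (p := 4018) (l := 9) rfl N4018 D7712
theorem N5149 : nd 5149 = n7718 := ndS (p := 4020) (l := 3) rfl N4020 D7718
theorem N5150 : nd 5150 = n7719 := ndS (p := 4020) (l := 6) rfl N4020 D7719
theorem N5151 : nd 5151 = n7721 := ndS (p := 4021) (l := 7) rfl N4021 D7721
theorem N5152 : nd 5152 = n7727 := ndS (p := 4022) (l := 5) rfl N4022 D7727
theorem N5153 : nd 5153 = n7728 := ndS (p := 4022) (l := 7) rfl N4022 D7728
theorem N5154 : nd 5154 = n7733 := ndS (p := 4024) (l := 6) rfl N4024 D7733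
theorem N5155 : nd 5155 = n7734 := ndS (p := 4024) (l := 8) rfl N4024 D7734
theorem N5156 : nd 5156 = n7735 := ndS (p := 4025) (l := 5) rfl N4025 D7735
theorem N5157 : nd 5157 = n7736 := ndS (p := 4025) (l := 7) rfl N4025 D7736
theorem N5158 : nd 5158 = n7737 := ndS (p := 4025) (l := 8) rfl N4025 D7737
theorem N5159 : nd 5159 = n7738 := ndS (p := 4026) (l := 3) rfl N4026 D7738
theorem N5160 : nd 5160 = n7740 := ndS (p := 4027) (l := 8) rfl N4027 D7740
theorem N5161 : nd 5161 = n7741 := ndS (p := 4028) (l := 3) rfl N4028 D7741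
theorem N5162 : nd 5162 = n7743 := ndS (p := 4029) (l := 4) rfl N4029 D7743
theorem N5163 : nd 5163 = n7745 := ndS (p := 4030) (l := 5) rfl N4030 D7745
theorem N5164 : nd 5164 = n7761 := ndS (p := 4037) (l := 3) rfl N4037 D7761
theorem N5165 : nd 5165 = n7762 := ndS (p := 4037) (l := 6) rfl N4037 D7762
theorem N5166 : nd 5166 = n7764 := ndS (p := 4038) (l := 7) rfl N4038 D7764
theorem N5167 : nd 5167 = n7768 := ndS (p := 4039) (l := 5) rfl N4039 D7768
theorem N5168 : nd 5168 = n7769 := ndS (p := 4039) (l := 7) rfl N4039 D7769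
theorem N5169 : nd 5169 = n7770 := ndS (p := 4039) (l := 8) rfl N4039 D7770
theorem N5170 : nd 5170 = n7771 := ndS (p := 4040) (l := 3) rfl N4040 D7771
theorem N5171 : nd 5171 = n7772 := ndS (p := 4041) (l := 8) rfl N4041 D7772
theorem N5172 : nd 5172 = n7773 := ndS (p := 4043) (l := 6) rfl N4043 D7773
theorem N5173 : nd 5173 = n7774 := ndS (p := 4043) (l := 8) rfl N4043 D7774
theorem N5174 : nd 5174 = n7775 := ndS (p := 4044) (l := 5) rfl N4044 D7775
theorem N5175 : nd 5175 = n7776 := ndS (p := 4044) (l := 7) rfl N4044 D7776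
theorem N5176 : nd 5176 = n7777 := ndS (p := 4044) (l := 8) rfl N4044 D7777
theorem N5177 : nd 5177 = n7778 := ndS (p := 4045) (l := 3) rfl N4045 D7778
theorem N5178 : nd 5178 = n7779 := ndS (p := 4046) (l := 8) rfl N4046 D7779
theorem N5179 : nd 5179 = n7783 := ndS (p := 4048) (l := 7) rfl N4048 D7783
theorem N5180 : nd 5180 = n7784 := ndS (p := 4048) (l := 8) rfl N4048 D7784
theorem N5181 : nd 5181 = n7785 := ndS (p := 4049) (l := 8) rfl N4049 D7785
theorem N5182 : nd 5182 = n7786 := ndS (p := 4050) (l := 3) rfl N4050 D7786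
theorem N5183 : nd 5183 = n7787 := ndS (p := 4051) (l := 2) rfl N4051 D7787
theorem N5184 : nd 5184 = n7789 := ndS (p := 4053) (l := 8) rfl N4053 D7789
theorem N5185 : nd 5185 = n7790 := ndS (p := 4054) (l := 3) rfl N4054 D7790
theorem N5186 : nd 5186 = n7791 := ndS (p := 4055) (l := 3) rfl N4055 D7791
theorem N5187 : nd 5187 = n7792 := ndS (p := 4056) (l := 2) rfl N4056 D7792
theorem N5188 : nd 5188 = n7793 := ndS (p := 4057) (l := 1) rfl N4057 D7793
theorem N5189 : nd 5189 = n7794 := ndS (p := 4058) (l := 3) rfl N4058 D7794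
theorem N5190 : nd 5190 = n7795 := ndS (p := 4058) (l := 6) rfl N4058 D7795
theorem N5191 : nd 5191 = n7796 := ndS (p := 4059) (l := 7) rfl N4059 D7796
theorem N5192 : nd 5192 = n7797 := ndS (p := 4060) (l := 6) rfl N4060 D7797
theorem N5193 : nd 5193 = n7798 := ndS (p := 4060) (l := 8) rfl N4060 D7798
theorem N5194 : nd 5194 = n7799 := ndS (p := 4061) (l := 5) rfl N4061 D7799
theorem N5195 : nd 5195 = n7800 := ndS (p := 4061) (l := 7) rfl N4061 D7800
theorem N5196 : nd 5196 = n7801 := ndS (p := 4063) (l := 7) rfl N4063 D7801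
theorem N5197 : nd 5197 = n7802 := ndS (p := 4065) (l := 5) rfl N4065 D7802
theorem N5198 : nd 5198 = n7803 := ndS (p := 4065) (l := 7) rfl N4065 D7803
theorem N5199 : nd 5199 = n7804 := ndS (p := 4065) (l := 8) rfl N4065 D7804
theorem N5200 : nd 5200 = n7805 := ndS (p := 4066) (l := 9) rfl N4066 D7805
theorem N5201 : nd 5201 = n7806 := ndS (p := 4067) (l := 7) rfl N4067 D7806
theorem N5202 : nd 5202 = n7810 := ndS (p := 4070) (l := 4) rfl N4070 D7810
theorem N5203 : nd 5203 = n7811 := ndS (p := 4070) (l := 6) rfl N4070 D7811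
theorem N5204 : nd 5204 = n7815 := ndS (p := 4071) (l := 6) rfl N4071 D7815
theorem N5205 : nd 5205 = n7817 := ndS (p := 4072) (l := 7) rfl N4072 D7817
theorem N5206 : nd 5206 = n7820 := ndS (p := 4074) (l := 3) rfl N4074 D7820
theorem N5207 : nd 5207 = n7821 := ndS (p := 4074) (l := 6) rfl N4074 D7821
theorem N5208 : nd 5208 = n7822 := ndS (p := 4074) (l := 8) rfl N4074 D7822
theorem N5209 : nd 5209 = n7823 := ndS (p := 4075) (l := 7) rfl N4075 D7823
theorem N5210 : nd 5210 = n7824 := ndS (p := 4075) (l := 8) rfl N4075 D7824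
theorem N5211 : nd 5211 = n7825 := ndS (p := 4076) (l := 3) rfl N4076 D7825
theorem N5212 : nd 5212 = n7827 := ndS (p := 4077) (l := 4) rfl N4077 D7827
theorem N5213 : nd 5213 = n7849 := ndS (p := 4084) (l := 3) rfl N4084 D7849
theorem N5214 : nd 5214 = n7850 := ndS (p := 4084) (l := 6) rfl N4084 D7850
theorem N5215 : nd 5215 = n7852 := ndS (p := 4085) (l := 7) rfl N4085 D7852
theorem N5216 : nd 5216 = n7858 := ndS (p := 4086) (l := 7) rfl N4086 D7858
theorem N5217 : nd 5217 = n7864 := ndS (p := 4088) (l := 6) rfl N4088 D7864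
theorem N5218 : nd 5218 = n7865 := ndS (p := 4088) (l := 8) rfl N4088 D7865
theorem N5219 : nd 5219 = n7866 := ndS (p := 4089) (l := 7) rfl N4089 D7866
theorem N5220 : nd 5220 = n7867 := ndS (p := 4089) (l := 8) rfl N4089 D7867
theorem N5221 : nd 5221 = n7868 := ndS (p := 4090) (l := 3) rfl N4090 D7868
theorem N5222 : nd 5222 = n7870 := ndS (p := 4091) (l := 8) rfl N4091 D7870
theorem N5223 : nd 5223 = n7871 := ndS (p := 4092) (l := 3) rfl N4092 D7871
theorem N5224 : nd 5224 = n7873 := ndS (p := 4093) (l := 4) rfl N4093 D7873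
theorem N5225 : nd 5225 = n7875 := ndS (p := 4094) (l := 5) rfl N4094 D7875
theorem N5226 : nd 5226 = n7881 := ndS (p := 4097) (l := 2) rfl N4097 D7881
theorem N5227 : nd 5227 = n7890 := ndS (p := 4100) (l := 8) rfl N4100 D7890
theorem N5228 : nd 5228 = n7907 := ndS (p := 4103) (l := 3) rfl N4103 D7907
theorem N5229 : nd 5229 = n7909 := ndS (p := 4104) (l := 4) rfl N4104 D7909
theorem N5230 : nd 5230 = n7911 := ndS (p := 4105) (l := 5) rfl N4105 D7911
theorem N5231 : nd 5231 = n7914 := ndS (p := 4106) (l := 6) rfl N4106 D7914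
theorem N5232 : nd 5232 = n7922 := ndS (p := 4107) (l := 3) rfl N4107 D7922
theorem N5233 : nd 5233 = n7923 := ndS (p := 4107) (l := 6) rfl N4107 D7923
theorem N5234 : nd 5234 = n7930 := ndS (p := 4109) (l := 5) rfl N4109 D7930
theorem N5235 : nd 5235 = n7935 := ndS (p := 4110) (l := 6) rfl N4110 D7935
theorem N5236 : nd 5236 = n7936 := ndS (p := 4110) (l := 8) rfl N4110 D7936
theorem N5237 : nd 5237 = n7937 := ndS (p := 4111) (l := 5) rfl N4111 D7937
theorem N5238 : nd 5238 = n7938 := ndS (p := 4111) (l := 8) rfl N4111 D7938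
theorem N5239 : nd 5239 = n7939 := ndS (p := 4112) (l := 3) rfl N4112 D7939
theorem N5240 : nd 5240 = n7941 := ndS (p := 4113) (l := 3) rfl N4113 D7941
theorem N5241 : nd 5241 = n7943 := ndS (p := 4114) (l := 4) rfl N4114 D7943
theorem N5242 : nd 5242 = n7945 := ndS (p := 4115) (l := 5) rfl N4115 D7945
theorem N5243 : nd 5243 = n7951 := ndS (p := 4118) (l := 2) rfl N4118 D7951
theorem N5244 : nd 5244 = n7959 := ndS (p := 4120) (l := 8) rfl N4120 D7959
theorem N5245 : nd 5245 = n7967 := ndS (p := 4121) (l := 8) rfl N4121 D7967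
theorem N5246 : nd 5246 = n7977 := ndS (p := 4122) (l := 3) rfl N4122 D7977
theorem N5247 : nd 5247 = n7978 := ndS (p := 4122) (l := 9) rfl N4122 D7978
theorem N5248 : nd 5248 = n7979 := ndS (p := 4123) (l := 2) rfl N4123 D7979
theorem N5249 : nd 5249 = n7980 := ndS (p := 4123) (l := 4) rfl N4123 D7980
theorem N5250 : nd 5250 = n7982 := ndS (p := 4124) (l := 5) rfl N4124 D7982
theorem N5251 : nd 5251 = n7985 := ndS (p := 4125) (l := 6) rfl N4125 D7985
theorem N5252 : nd 5252 = n7988 := ndS (p := 4126) (l := 1) rfl N4126 D7988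
theorem N5253 : nd 5253 = n7992 := ndS (p := 4127) (l := 9) rfl N4127 D7992
theorem N5254 : nd 5254 = n7993 := ndS (p := 4128) (l := 8) rfl N4128 D7993
theorem N5255 : nd 5255 = n8002 := ndS (p := 4130) (l := 7) rfl N4130 D8002
theorem N5256 : nd 5256 = n8006 := ndS (p := 4131) (l := 5) rfl N4131 D8006
theorem N5257 : nd 5257 = n8007 := ndS (p := 4131) (l := 8) rfl N4131 D8007
theorem N5258 : nd 5258 = n8009 := ndS (p := 4132) (l := 4) rfl N4132 D8009
theorem N5259 : nd 5259 = n8010 := ndS (p := 4132) (l := 8) rfl N4132 D8010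
theorem N5260 : nd 5260 = n8018 := ndS (p := 4134) (l := 8) rfl N4134 D8018
theorem N5261 : nd 5261 = n8019 := ndS (p := 4134) (l := 9) rfl N4134 D8019
theorem N5262 : nd 5262 = n8031 := ndS (p := 4137) (l := 4) rfl N4137 D8031
theorem N5263 : nd 5263 = n8034 := ndS (p := 4138) (l := 5) rfl N4138 D8034
theorem N5264 : nd 5264 = n8039 := ndS (p := 4139) (l := 6) rfl N4139 D8039
theorem N5265 : nd 5265 = n8058 := ndS (p := 4143) (l := 3) rfl N4143 D8058
theorem N5266 : nd 5266 = n8083 := ndS (p := 4144) (l := 6) rfl N4144 D8083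
theorem N5267 : nd 5267 = n8090 := ndS (p := 4145) (l := 7) rfl N4145 D8090
theorem N5268 : nd 5268 = n8118 := ndS (p := 4150) (l := 4) rfl N4150 D8118
theorem N5269 : nd 5269 = n8156 := ndS (p := 4151) (l := 7) rfl N4151 D8156
theorem N5270 : nd 5270 = n8195 := ndS (p := 4156) (l := 3) rfl N4156 D8195
theorem N5271 : nd 5271 = n8772 := ndS (p := 4200) (l := 3) rfl N4200 D8772
theorem N5272 : nd 5272 = n8773 := ndS (p := 4200) (l := 6) rfl N4200 D8773
theorem N5273 : nd 5273 = n8775 := ndS (p := 4201) (l := 7) rfl N4201 D8775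
theorem N5274 : nd 5274 = n8780 := ndS (p := 4202) (l := 6) rfl N4202 D8780
theorem N5275 : nd 5275 = n8782 := ndS (p := 4203) (l := 5) rfl N4203 D8782
theorem N5276 : nd 5276 = n8783 := ndS (p := 4203) (l := 7) rfl N4203 D8783
theorem N5277 : nd 5277 = n8784 := ndS (p := 4203) (l := 8) rfl N4203 D8784
theorem N5278 : nd 5278 = n8786 := ndS (p := 4205) (l := 8) rfl N4205 D8786
theorem N5279 : nd 5279 = n8801 := ndS (p := 4213) (l := 8) rfl N4213 D8801
theorem N5280 : nd 5280 = n8802 := ndS (p := 4214) (l := 8) rfl N4214 D8802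
theorem N5281 : nd 5281 = n8806 := ndS (p := 4216) (l := 3) rfl N4216 D8806
theorem N5282 : nd 5282 = n8823 := ndS (p := 4222) (l := 2) rfl N4222 D8823
theorem N5283 : nd 5283 = n8824 := ndS (p := 4222) (l := 6) rfl N4222 D8824
theorem N5284 : nd 5284 = n8826 := ndS (p := 4223) (l := 5) rfl N4223 D8826
theorem N5285 : nd 5285 = n8827 := ndS (p := 4223) (l := 7) rfl N4223 D8827
theorem N5286 : nd 5286 = n9196 := ndS (p := 4233) (l := 4) rfl N4233 D9196
theorem N5287 : nd 5287 = n9292 := ndS (p := 4235) (l := 3) rfl N4235 D9292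
theorem N5288 : nd 5288 = n9293 := ndS (p := 4236) (l := 2) rfl N4236 D9293
theorem N5289 : nd 5289 = n9294 := ndS (p := 4236) (l := 4) rfl N4236 D9294
theorem N5290 : nd 5290 = n9295 := ndS (p := 4237) (l := 1) rfl N4237 D9295
theorem N5291 : nd 5291 = n9296 := ndS (p := 4237) (l := 4) rfl N4237 D9296
theorem N5292 : nd 5292 = n9297 := ndS (p := 4238) (l := 5) rfl N4238 D9297
theorem N5293 : nd 5293 = n9298 := ndS (p := 4239) (l := 0) rfl N4239 D9298
theorem N5294 : nd 5294 = n9299 := ndS (p := 4239) (l := 4) rfl N4239 D9299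
theorem N5295 : nd 5295 = n9300 := ndS (p := 4240) (l := 3) rfl N4240 D9300
theorem N5296 : nd 5296 = n9301 := ndS (p := 4240) (l := 5) rfl N4240 D9301
theorem N5297 : nd 5297 = n9302 := ndS (p := 4241) (l := 6) rfl N4241 D9302
theorem N5298 : nd 5298 = n9303 := ndS (p := 4242) (l := 1) rfl N4242 D9303
theorem N5299 : nd 5299 = n9304 := ndS (p := 4242) (l := 4) rfl N4242 D9304
theorem N5300 : nd 5300 = n9305 := ndS (p := 4243) (l := 5) rfl N4243 D9305
theorem N5301 : nd 5301 = n9306 := ndS (p := 4244) (l := 0) rfl N4244 D9306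
theorem N5302 : nd 5302 = n9307 := ndS (p := 4244) (l := 4) rfl N4244 D9307
theorem N5303 : nd 5303 = n9308 := ndS (p := 4245) (l := 3) rfl N4245 D9308
theorem N5304 : nd 5304 = n9309 := ndS (p := 4245) (l := 5) rfl N4245 D9309
theorem N5305 : nd 5305 = n9310 := ndS (p := 4246) (l := 6) rfl N4246 D9310
theorem N5306 : nd 5306 = n9311 := ndS (p := 4247) (l := 4) rfl N4247 D9311
theorem N5307 : nd 5307 = n9312 := ndS (p := 4248) (l := 3) rfl N4248 D9312
theorem N5308 : nd 5308 = n9313 := ndS (p := 4248) (l := 5) rfl N4248 D9313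
theorem N5309 : nd 5309 = n9314 := ndS (p := 4249) (l := 5) rfl N4249 D9314
theorem N5310 : nd 5310 = n9315 := ndS (p := 4249) (l := 8) rfl N4249 D9315
theorem N5311 : nd 5311 = n9316 := ndS (p := 4250) (l := 6) rfl N4250 D9316
theorem N5312 : nd 5312 = n9317 := ndS (p := 4251) (l := 7) rfl N4251 D9317
theorem N5313 : nd 5313 = n9318 := ndS (p := 4252) (l := 4) rfl N4252 D9318
theorem N5314 : nd 5314 = n9319 := ndS (p := 4253) (l := 3) rfl N4253 D9319
theorem N5315 : nd 5315 = n9320 := ndS (p := 4253) (l := 5) rfl N4253 D9320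
theorem N5316 : nd 5316 = n9321 := ndS (p := 4254) (l := 5) rfl N4254 D9321
theorem N5317 : nd 5317 = n9322 := ndS (p := 4254) (l := 8) rfl N4254 D9322
theorem N5318 : nd 5318 = n9323 := ndS (p := 4255) (l := 6) rfl N4255 D9323
theorem N5319 : nd 5319 = n9324 := ndS (p := 4256) (l := 7) rfl N4256 D9324
theorem N5320 : nd 5320 = n9325 := ndS (p := 4257) (l := 3) rfl N4257 D9325
theorem N5321 : nd 5321 = n9326 := ndS (p := 4257) (l := 5) rfl N4257 D9326
theorem N5322 : nd 5322 = n9327 := ndS (p := 4258) (l := 2) rfl N4258 D9327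
theorem N5323 : nd 5323 = n9328 := ndS (p := 4258) (l := 5) rfl N4258 D9328
theorem N5324 : nd 5324 = n9329 := ndS (p := 4258) (l := 8) rfl N4258 D9329
theorem N5325 : nd 5325 = n9330 := ndS (p := 4259) (l := 6) rfl N4259 D9330
theorem N5326 : nd 5326 = n9331 := ndS (p := 4260) (l := 4) rfl N4260 D9331
theorem N5327 : nd 5327 = n9332 := ndS (p := 4260) (l := 6) rfl N4260 D9332
theorem N5328 : nd 5328 = n9333 := ndS (p := 4260) (l := 8) rfl N4260 D9333
theorem N5329 : nd 5329 = n9334 := ndS (p := 4261) (l := 9) rfl N4261 D9334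
theorem N5330 : nd 5330 = n9335 := ndS (p := 4262) (l := 7) rfl N4262 D9335
theorem N5331 : nd 5331 = n9336 := ndS (p := 4264) (l := 2) rfl N4264 D9336
theorem N5332 : nd 5332 = n9337 := ndS (p := 4264) (l := 5) rfl N4264 D9337
theorem N5333 : nd 5333 = n9338 := ndS (p := 4264) (l := 8) rfl N4264 D9338
theorem N5334 : nd 5334 = n9339 := ndS (p := 4265) (l := 6) rfl N4265 D9339
theorem N5335 : nd 5335 = n9340 := ndS (p := 4266) (l := 5) rfl N4266 D9340
theorem N5336 : nd 5336 = n9341 := ndS (p := 4266) (l := 8) rfl N4266 D9341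
theorem N5337 : nd 5337 = n9342 := ndS (p := 4267) (l := 4) rfl N4267 D9342
theorem N5338 : nd 5338 = n9343 := ndS (p := 4267) (l := 6) rfl N4267 D9343
theorem N5339 : nd 5339 = n9344 := ndS (p := 4267) (l := 8) rfl N4267 D9344
theorem N5340 : nd 5340 = n9345 := ndS (p := 4268) (l := 9) rfl N4268 D9345
theorem N5341 : nd 5341 = n9346 := ndS (p := 4269) (l := 7) rfl N4269 D9346
theorem N5342 : nd 5342 = n9347 := ndS (p := 4270) (l := 6) rfl N4270 D9347
theorem N5343 : nd 5343 = n9348 := ndS (p := 4270) (l := 8) rfl N4270 D9348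
theorem N5344 : nd 5344 = n9349 := ndS (p := 4271) (l := 7) rfl N4271 D9349
theorem N5345 : nd 5345 = n9350 := ndS (p := 4271) (l := 8) rfl N4271 D9350
theorem N5346 : nd 5346 = n9351 := ndS (p := 4272) (l := 9) rfl N4272 D9351
theorem N5347 : nd 5347 = n9352 := ndS (p := 4275) (l := 1) rfl N4275 D9352
theorem N5348 : nd 5348 = n9353 := ndS (p := 4275) (l := 4) rfl N4275 D9353
theorem N5349 : nd 5349 = n9354 := ndS (p := 4276) (l := 5) rfl N4276 D9354
theorem N5350 : nd 5350 = n9355 := ndS (p := 4277) (l := 0) rfl N4277 D9355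
theorem N5351 : nd 5351 = n9356 := ndS (p := 4277) (l := 4) rfl N4277 D9356
theorem N5352 : nd 5352 = n9357 := ndS (p := 4278) (l := 3) rfl N4278 D9357
theorem N5353 : nd 5353 = n9358 := ndS (p := 4278) (l := 5) rfl N4278 D9358
theorem N5354 : nd 5354 = n9359 := ndS (p := 4279) (l := 6) rfl N4279 D9359
theorem N5355 : nd 5355 = n9361 := ndS (p := 4280) (l := 4) rfl N4280 D9361
theorem N5356 : nd 5356 = n9362 := ndS (p := 4281) (l := 3) rfl N4281 D9362
theorem N5357 : nd 5357 = n9363 := ndS (p := 4281) (l := 5) rfl N4281 D9363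
theorem N5358 : nd 5358 = n9364 := ndS (p := 4282) (l := 6) rfl N4282 D9364
theorem N5359 : nd 5359 = n9365 := ndS (p := 4283) (l := 4) rfl N4283 D9365
theorem N5360 : nd 5360 = n9366 := ndS (p := 4284) (l := 3) rfl N4284 D9366
theorem N5361 : nd 5361 = n9367 := ndS (p := 4284) (l := 5) rfl N4284 D9367
theorem N5362 : nd 5362 = n9368 := ndS (p := 4285) (l := 5) rfl N4285 D9368
theorem N5363 : nd 5363 = n9369 := ndS (p := 4285) (l := 8) rfl N4285 D9369
theorem N5364 : nd 5364 = n9370 := ndS (p := 4286) (l := 6) rfl N4286 D9370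
theorem N5365 : nd 5365 = n9371 := ndS (p := 4287) (l := 7) rfl N4287 D9371
theorem N5366 : nd 5366 = n9373 := ndS (p := 4288) (l := 3) rfl N4288 D9373
theorem N5367 : nd 5367 = n9374 := ndS (p := 4288) (l := 5) rfl N4288 D9374
theorem N5368 : nd 5368 = n9375 := ndS (p := 4289) (l := 5) rfl N4289 D9375
theorem N5369 : nd 5369 = n9376 := ndS (p := 4289) (l := 8) rfl N4289 D9376
theorem N5370 : nd 5370 = n9377 := ndS (p := 4290) (l := 6) rfl N4290 D9377
theorem N5371 : nd 5371 = n9378 := ndS (p := 4291) (l := 7) rfl N4291 D9378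
theorem N5372 : nd 5372 = n9379 := ndS (p := 4292) (l := 3) rfl N4292 D9379
theorem N5373 : nd 5373 = n9380 := ndS (p := 4292) (l := 5) rfl N4292 D9380
theorem N5374 : nd 5374 = n9381 := ndS (p := 4293) (l := 2) rfl N4293 D9381
theorem N5375 : nd 5375 = n9382 := ndS (p := 4293) (l := 5) rfl N4293 D9382
theorem N5376 : nd 5376 = n9383 := ndS (p := 4293) (l := 8) rfl N4293 D9383
theorem N5377 : nd 5377 = n9384 := ndS (p := 4294) (l := 6) rfl N4294 D9384
theorem N5378 : nd 5378 = n9385 := ndS (p := 4295) (l := 4) rfl N4295 D9385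
theorem N5379 : nd 5379 = n9386 := ndS (p := 4295) (l := 6) rfl N4295 D9386
theorem N5380 : nd 5380 = n9387 := ndS (p := 4295) (l := 8) rfl N4295 D9387
theorem N5381 : nd 5381 = n9388 := ndS (p := 4296) (l := 9) rfl N4296 D9388
theorem N5382 : nd 5382 = n9389 := ndS (p := 4297) (l := 7) rfl N4297 D9389
theorem N5383 : nd 5383 = n9391 := ndS (p := 4299) (l := 3) rfl N4299 D9391
theorem N5384 : nd 5384 = n9392 := ndS (p := 4299) (l := 5) rfl N4299 D9392
theorem N5385 : nd 5385 = n9393 := ndS (p := 4300) (l := 5) rfl N4300 D9393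
theorem N5386 : nd 5386 = n9394 := ndS (p := 4300) (l := 8) rfl N4300 D9394
theorem N5387 : nd 5387 = n9395 := ndS (p := 4301) (l := 6) rfl N4301 D9395
theorem N5388 : nd 5388 = n9396 := ndS (p := 4302) (l := 7) rfl N4302 D9396
theorem N5389 : nd 5389 = n9397 := ndS (p := 4303) (l := 3) rfl N4303 D9397
theorem N5390 : nd 5390 = n9398 := ndS (p := 4303) (l := 5) rfl N4303 D9398
theorem N5391 : nd 5391 = n9399 := ndS (p := 4304) (l := 2) rfl N4304 D9399
theorem N5392 : nd 5392 = n9400 := ndS (p := 4304) (l := 5) rfl N4304 D9400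
theorem N5393 : nd 5393 = n9401 := ndS (p := 4304) (l := 8) rfl N4304 D9401
theorem N5394 : nd 5394 = n9402 := ndS (p := 4305) (l := 6) rfl N4305 D9402
theorem N5395 : nd 5395 = n9403 := ndS (p := 4306) (l := 4) rfl N4306 D9403
theorem N5396 : nd 5396 = n9404 := ndS (p := 4306) (l := 6) rfl N4306 D9404
theorem N5397 : nd 5397 = n9405 := ndS (p := 4306) (l := 8) rfl N4306 D9405
theorem N5398 : nd 5398 = n9406 := ndS (p := 4307) (l := 9) rfl N4307 D9406
theorem N5399 : nd 5399 = n9407 := ndS (p := 4308) (l := 7) rfl N4308 D9407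
theorem N5400 : nd 5400 = n9410 := ndS (p := 4310) (l := 2) rfl N4310 D9410
theorem N5401 : nd 5401 = n9411 := ndS (p := 4310) (l := 5) rfl N4310 D9411
theorem N5402 : nd 5402 = n9412 := ndS (p := 4310) (l := 8) rfl N4310 D9412
theorem N5403 : nd 5403 = n9413 := ndS (p := 4311) (l := 6) rfl N4311 D9413
theorem N5404 : nd 5404 = n9414 := ndS (p := 4312) (l := 4) rfl N4312 D9414
theorem N5405 : nd 5405 = n9415 := ndS (p := 4312) (l := 6) rfl N4312 D9415
theorem N5406 : nd 5406 = n9416 := ndS (p := 4312) (l := 8) rfl N4312 D9416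
theorem N5407 : nd 5407 = n9417 := ndS (p := 4313) (l := 9) rfl N4313 D9417
theorem N5408 : nd 5408 = n9418 := ndS (p := 4314) (l := 7) rfl N4314 D9418
theorem N5409 : nd 5409 = n9419 := ndS (p := 4316) (l := 2) rfl N4316 D9419
theorem N5410 : nd 5410 = n9420 := ndS (p := 4316) (l := 5) rfl N4316 D9420
theorem N5411 : nd 5411 = n9421 := ndS (p := 4316) (l := 8) rfl N4316 D9421
theorem N5412 : nd 5412 = n9422 := ndS (p := 4317) (l := 6) rfl N4317 D9422
theorem N5413 : nd 5413 = n9423 := ndS (p := 4318) (l := 5) rfl N4318 D9423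
theorem N5414 : nd 5414 = n9424 := ndS (p := 4318) (l := 8) rfl N4318 D9424
theorem N5415 : nd 5415 = n9425 := ndS (p := 4319) (l := 4) rfl N4319 D9425
theorem N5416 : nd 5416 = n9426 := ndS (p := 4319) (l := 6) rfl N4319 D9426
theorem N5417 : nd 5417 = n9427 := ndS (p := 4319) (l := 8) rfl N4319 D9427
theorem N5418 : nd 5418 = n9428 := ndS (p := 4320) (l := 9) rfl N4320 D9428
theorem N5419 : nd 5419 = n9429 := ndS (p := 4321) (l := 7) rfl N4321 D9429
theorem N5420 : nd 5420 = n9430 := ndS (p := 4322) (l := 6) rfl N4322 D9430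
theorem N5421 : nd 5421 = n9431 := ndS (p := 4322) (l := 8) rfl N4322 D9431
theorem N5422 : nd 5422 = n9432 := ndS (p := 4323) (l := 7) rfl N4323 D9432
theorem N5423 : nd 5423 = n9433 := ndS (p := 4323) (l := 8) rfl N4323 D9433
theorem N5424 : nd 5424 = n9434 := ndS (p := 4324) (l := 9) rfl N4324 D9434
theorem N5425 : nd 5425 = n9439 := ndS (p := 4327) (l := 5) rfl N4327 D9439
theorem N5426 : nd 5426 = n9440 := ndS (p := 4327) (l := 8) rfl N4327 D9440
theorem N5427 : nd 5427 = n9441 := ndS (p := 4328) (l := 4) rfl N4328 D9441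
theorem N5428 : nd 5428 = n9442 := ndS (p := 4328) (l := 6) rfl N4328 D9442
theorem N5429 : nd 5429 = n9443 := ndS (p := 4328) (l := 8) rfl N4328 D9443
theorem N5430 : nd 5430 = n9444 := ndS (p := 4329) (l := 9) rfl N4329 D9444
theorem N5431 : nd 5431 = n9445 := ndS (p := 4330) (l := 7) rfl N4330 D9445
theorem N5432 : nd 5432 = n9446 := ndS (p := 4331) (l := 6) rfl N4331 D9446
theorem N5433 : nd 5433 = n9447 := ndS (p := 4331) (l := 8) rfl N4331 D9447
theorem N5434 : nd 5434 = n9448 := ndS (p := 4332) (l := 7) rfl N4332 D9448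
theorem N5435 : nd 5435 = n9449 := ndS (p := 4332) (l := 8) rfl N4332 D9449
theorem N5436 : nd 5436 = n9450 := ndS (p := 4333) (l := 9) rfl N4333 D9450
theorem N5437 : nd 5437 = n9451 := ndS (p := 4336) (l := 1) rfl N4336 D9451
theorem N5438 : nd 5438 = n9452 := ndS (p := 4336) (l := 5) rfl N4336 D9452
theorem N5439 : nd 5439 = n9453 := ndS (p := 4336) (l := 8) rfl N4336 D9453
theorem N5440 : nd 5440 = n9454 := ndS (p := 4337) (l := 4) rfl N4337 D9454
theorem N5441 : nd 5441 = n9455 := ndS (p := 4337) (l := 6) rfl N4337 D9455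
theorem N5442 : nd 5442 = n9456 := ndS (p := 4337) (l := 8) rfl N4337 D9456
theorem N5443 : nd 5443 = n9457 := ndS (p := 4338) (l := 9) rfl N4338 D9457
theorem N5444 : nd 5444 = n9458 := ndS (p := 4339) (l := 7) rfl N4339 D9458
theorem N5445 : nd 5445 = n9459 := ndS (p := 4340) (l := 4) rfl N4340 D9459
theorem N5446 : nd 5446 = n9460 := ndS (p := 4340) (l := 6) rfl N4340 D9460
theorem N5447 : nd 5447 = n9461 := ndS (p := 4340) (l := 8) rfl N4340 D9461
theorem N5448 : nd 5448 = n9462 := ndS (p := 4341) (l := 3) rfl N4341 D9462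
theorem N5449 : nd 5449 = n9463 := ndS (p := 4341) (l := 9) rfl N4341 D9463
theorem N5450 : nd 5450 = n9464 := ndS (p := 4342) (l := 6) rfl N4342 D9464
theorem N5451 : nd 5451 = n9465 := ndS (p := 4342) (l := 8) rfl N4342 D9465
theorem N5452 : nd 5452 = n9466 := ndS (p := 4343) (l := 7) rfl N4343 D9466
theorem N5453 : nd 5453 = n9467 := ndS (p := 4343) (l := 8) rfl N4343 D9467
theorem N5454 : nd 5454 = n9468 := ndS (p := 4344) (l := 9) rfl N4344 D9468
theorem N5455 : nd 5455 = n9469 := ndS (p := 4347) (l := 5) rfl N4347 D9469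
theorem N5456 : nd 5456 = n9470 := ndS (p := 4347) (l := 7) rfl N4347 D9470
theorem N5457 : nd 5457 = n9471 := ndS (p := 4347) (l := 8) rfl N4347 D9471
theorem N5458 : nd 5458 = n9472 := ndS (p := 4348) (l := 3) rfl N4348 D9472
theorem N5459 : nd 5459 = n9473 := ndS (p := 4348) (l := 9) rfl N4348 D9473
theorem N5460 : nd 5460 = n9474 := ndS (p := 4349) (l := 8) rfl N4349 D9474
theorem N5461 : nd 5461 = n9475 := ndS (p := 4350) (l := 9) rfl N4350 D9475
theorem N5462 : nd 5462 = n9476 := ndS (p := 4352) (l := 4) rfl N4352 D9476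
theorem N5463 : nd 5463 = n9477 := ndS (p := 4353) (l := 3) rfl N4353 D9477
theorem N5464 : nd 5464 = n9478 := ndS (p := 4353) (l := 5) rfl N4353 D9478
theorem N5465 : nd 5465 = n9479 := ndS (p := 4354) (l := 5) rfl N4354 D9479
theorem N5466 : nd 5466 = n9480 := ndS (p := 4354) (l := 8) rfl N4354 D9480
theorem N5467 : nd 5467 = n9481 := ndS (p := 4355) (l := 6) rfl N4355 D9481
theorem N5468 : nd 5468 = n9482 := ndS (p := 4356) (l := 7) rfl N4356 D9482
theorem N5469 : nd 5469 = n9483 := ndS (p := 4357) (l := 3) rfl N4357 D9483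
theorem N5470 : nd 5470 = n9484 := ndS (p := 4357) (l := 5) rfl N4357 D9484
theorem N5471 : nd 5471 = n9485 := ndS (p := 4358) (l := 2) rfl N4358 D9485
theorem N5472 : nd 5472 = n9486 := ndS (p := 4358) (l := 5) rfl N4358 D9486
theorem N5473 : nd 5473 = n9487 := ndS (p := 4358) (l := 8) rfl N4358 D9487
theorem N5474 : nd 5474 = n9488 := ndS (p := 4359) (l := 6) rfl N4359 D9488
theorem N5475 : nd 5475 = n9489 := ndS (p := 4360) (l := 4) rfl N4360 D9489
theorem N5476 : nd 5476 = n9490 := ndS (p := 4360) (l := 6) rfl N4360 D9490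
theorem N5477 : nd 5477 = n9491 := ndS (p := 4360) (l := 8) rfl N4360 D9491
theorem N5478 : nd 5478 = n9492 := ndS (p := 4361) (l := 9) rfl N4361 D9492
theorem N5479 : nd 5479 = n9493 := ndS (p := 4362) (l := 7) rfl N4362 D9493
theorem N5480 : nd 5480 = n9494 := ndS (p := 4364) (l := 2) rfl N4364 D9494
theorem N5481 : nd 5481 = n9495 := ndS (p := 4364) (l := 5) rfl N4364 D9495
theorem N5482 : nd 5482 = n9496 := ndS (p := 4364) (l := 8) rfl N4364 D9496
theorem N5483 : nd 5483 = n9497 := ndS (p := 4365) (l := 6) rfl N4365 D9497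
theorem N5484 : nd 5484 = n9498 := ndS (p := 4366) (l := 5) rfl N4366 D9498
theorem N5485 : nd 5485 = n9499 := ndS (p := 4366) (l := 8) rfl N4366 D9499
theorem N5486 : nd 5486 = n9500 := ndS (p := 4367) (l := 4) rfl N4367 D9500
theorem N5487 : nd 5487 = n9501 := ndS (p := 4367) (l := 6) rfl N4367 D9501
theorem N5488 : nd 5488 = n9502 := ndS (p := 4367) (l := 8) rfl N4367 D9502
theorem N5489 : nd 5489 = n9503 := ndS (p := 4368) (l := 9) rfl N4368 D9503
theorem N5490 : nd 5490 = n9504 := ndS (p := 4369) (l := 7) rfl N4369 D9504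
theorem N5491 : nd 5491 = n9505 := ndS (p := 4370) (l := 6) rfl N4370 D9505
theorem N5492 : nd 5492 = n9506 := ndS (p := 4370) (l := 8) rfl N4370 D9506
theorem N5493 : nd 5493 = n9507 := ndS (p := 4371) (l := 7) rfl N4371 D9507
theorem N5494 : nd 5494 = n9508 := ndS (p := 4371) (l := 8) rfl N4371 D9508
theorem N5495 : nd 5495 = n9509 := ndS (p := 4372) (l := 9) rfl N4372 D9509
theorem N5496 : nd 5496 = n9510 := ndS (p := 4375) (l := 3) rfl N4375 D9510
theorem N5497 : nd 5497 = n9511 := ndS (p := 4375) (l := 5) rfl N4375 D9511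
theorem N5498 : nd 5498 = n9512 := ndS (p := 4376) (l := 2) rfl N4376 D9512
theorem N5499 : nd 5499 = n9513 := ndS (p := 4376) (l := 5) rfl N4376 D9513
theorem N5500 : nd 5500 = n9514 := ndS (p := 4376) (l := 8) rfl N4376 D9514
theorem N5501 : nd 5501 = n9515 := ndS (p := 4377) (l := 6) rfl N4377 D9515
theorem N5502 : nd 5502 = n9516 := ndS (p := 4378) (l := 4) rfl N4378 D9516
theorem N5503 : nd 5503 = n9517 := ndS (p := 4378) (l := 6) rfl N4378 D9517
theorem N5504 : nd 5504 = n9518 := ndS (p := 4378) (l := 8) rfl N4378 D9518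
theorem N5505 : nd 5505 = n9519 := ndS (p := 4379) (l := 9) rfl N4379 D9519
theorem N5506 : nd 5506 = n9520 := ndS (p := 4380) (l := 7) rfl N4380 D9520
theorem N5507 : nd 5507 = n9521 := ndS (p := 4382) (l := 2) rfl N4382 D9521
theorem N5508 : nd 5508 = n9522 := ndS (p := 4382) (l := 5) rfl N4382 D9522
theorem N5509 : nd 5509 = n9523 := ndS (p := 4382) (l := 8) rfl N4382 D9523
theorem N5510 : nd 5510 = n9524 := ndS (p := 4383) (l := 6) rfl N4383 D9524
theorem N5511 : nd 5511 = n9525 := ndS (p := 4384) (l := 5) rfl N4384 D9525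
theorem N5512 : nd 5512 = n9526 := ndS (p := 4384) (l := 8) rfl N4384 D9526
theorem N5513 : nd 5513 = n9527 := ndS (p := 4385) (l := 4) rfl N4385 D9527
theorem N5514 : nd 5514 = n9528 := ndS (p := 4385) (l := 6) rfl N4385 D9528
theorem N5515 : nd 5515 = n9529 := ndS (p := 4385) (l := 8) rfl N4385 D9529
theorem N5516 : nd 5516 = n9530 := ndS (p := 4386) (l := 9) rfl N4386 D9530
theorem N5517 : nd 5517 = n9531 := ndS (p := 4387) (l := 7) rfl N4387 D9531
theorem N5518 : nd 5518 = n9532 := ndS (p := 4388) (l := 6) rfl N4388 D9532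
theorem N5519 : nd 5519 = n9533 := ndS (p := 4388) (l := 8) rfl N4388 D9533
theorem N5520 : nd 5520 = n9534 := ndS (p := 4389) (l := 7) rfl N4389 D9534
theorem N5521 : nd 5521 = n9535 := ndS (p := 4389) (l := 8) rfl N4389 D9535
theorem N5522 : nd 5522 = n9536 := ndS (p := 4390) (l := 9) rfl N4390 D9536
theorem N5523 : nd 5523 = n9537 := ndS (p := 4393) (l := 1) rfl N4393 D9537
theorem N5524 : nd 5524 = n9538 := ndS (p := 4393) (l := 5) rfl N4393 D9538
theorem N5525 : nd 5525 = n9539 := ndS (p := 4393) (l := 8) rfl N4393 D9539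
theorem N5526 : nd 5526 = n9540 := ndS (p := 4394) (l := 4) rfl N4394 D9540
theorem N5527 : nd 5527 = n9541 := ndS (p := 4394) (l := 6) rfl N4394 D9541
theorem N5528 : nd 5528 = n9542 := ndS (p := 4394) (l := 8) rfl N4394 D9542
theorem N5529 : nd 5529 = n9543 := ndS (p := 4395) (l := 9) rfl N4395 D9543
theorem N5530 : nd 5530 = n9544 := ndS (p := 4396) (l := 7) rfl N4396 D9544
theorem N5531 : nd 5531 = n9545 := ndS (p := 4397) (l := 4) rfl N4397 D9545
theorem N5532 : nd 5532 = n9546 := ndS (p := 4397) (l := 6) rfl N4397 D9546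
theorem N5533 : nd 5533 = n9547 := ndS (p := 4397) (l := 8) rfl N4397 D9547
theorem N5534 : nd 5534 = n9548 := ndS (p := 4398) (l := 3) rfl N4398 D9548
theorem N5535 : nd 5535 = n9549 := ndS (p := 4398) (l := 9) rfl N4398 D9549
theorem N5536 : nd 5536 = n9550 := ndS (p := 4399) (l := 6) rfl N4399 D9550
theorem N5537 : nd 5537 = n9551 := ndS (p := 4399) (l := 8) rfl N4399 D9551
theorem N5538 : nd 5538 = n9552 := ndS (p := 4400) (l := 7) rfl N4400 D9552
theorem N5539 : nd 5539 = n9553 := ndS (p := 4400) (l := 8) rfl N4400 D9553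
theorem N5540 : nd 5540 = n9554 := ndS (p := 4401) (l := 9) rfl N4401 D9554
theorem N5541 : nd 5541 = n9555 := ndS (p := 4404) (l := 5) rfl N4404 D9555
theorem N5542 : nd 5542 = n9556 := ndS (p := 4404) (l := 7) rfl N4404 D9556
theorem N5543 : nd 5543 = n9557 := ndS (p := 4404) (l := 8) rfl N4404 D9557
theorem N5544 : nd 5544 = n9558 := ndS (p := 4405) (l := 3) rfl N4405 D9558
theorem N5545 : nd 5545 = n9559 := ndS (p := 4405) (l := 9) rfl N4405 D9559
theorem N5546 : nd 5546 = n9560 := ndS (p := 4406) (l := 8) rfl N4406 D9560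
theorem N5547 : nd 5547 = n9561 := ndS (p := 4407) (l := 9) rfl N4407 D9561
theorem N5548 : nd 5548 = n9562 := ndS (p := 4409) (l := 2) rfl N4409 D9562
theorem N5549 : nd 5549 = n9563 := ndS (p := 4409) (l := 5) rfl N4409 D9563
theorem N5550 : nd 5550 = n9564 := ndS (p := 4409) (l := 8) rfl N4409 D9564
theorem N5551 : nd 5551 = n9565 := ndS (p := 4410) (l := 6) rfl N4410 D9565
theorem N5552 : nd 5552 = n9566 := ndS (p := 4411) (l := 5) rfl N4411 D9566
theorem N5553 : nd 5553 = n9567 := ndS (p := 4411) (l := 8) rfl N4411 D9567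
theorem N5554 : nd 5554 = n9568 := ndS (p := 4412) (l := 4) rfl N4412 D9568
theorem N5555 : nd 5555 = n9569 := ndS (p := 4412) (l := 6) rfl N4412 D9569
theorem N5556 : nd 5556 = n9570 := ndS (p := 4412) (l := 8) rfl N4412 D9570
theorem N5557 : nd 5557 = n9571 := ndS (p := 4413) (l := 9) rfl N4413 D9571
theorem N5558 : nd 5558 = n9572 := ndS (p := 4414) (l := 7) rfl N4414 D9572
theorem N5559 : nd 5559 = n9573 := ndS (p := 4415) (l := 6) rfl N4415 D9573
theorem N5560 : nd 5560 = n9574 := ndS (p := 4415) (l := 8) rfl N4415 D9574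
theorem N5561 : nd 5561 = n9575 := ndS (p := 4416) (l := 7) rfl N4416 D9575
theorem N5562 : nd 5562 = n9576 := ndS (p := 4416) (l := 8) rfl N4416 D9576
theorem N5563 : nd 5563 = n9577 := ndS (p := 4417) (l := 9) rfl N4417 D9577
theorem N5564 : nd 5564 = n9578 := ndS (p := 4420) (l := 1) rfl N4420 D9578
theorem N5565 : nd 5565 = n9579 := ndS (p := 4420) (l := 5) rfl N4420 D9579
theorem N5566 : nd 5566 = n9580 := ndS (p := 4420) (l := 8) rfl N4420 D9580
theorem N5567 : nd 5567 = n9581 := ndS (p := 4421) (l := 4) rfl N4421 D9581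
theorem N5568 : nd 5568 = n9582 := ndS (p := 4421) (l := 6) rfl N4421 D9582
theorem N5569 : nd 5569 = n9583 := ndS (p := 4421) (l := 8) rfl N4421 D9583
theorem N5570 : nd 5570 = n9584 := ndS (p := 4422) (l := 9) rfl N4422 D9584
theorem N5571 : nd 5571 = n9585 := ndS (p := 4423) (l := 7) rfl N4423 D9585
theorem N5572 : nd 5572 = n9586 := ndS (p := 4424) (l := 4) rfl N4424 D9586
theorem N5573 : nd 5573 = n9587 := ndS (p := 4424) (l := 6) rfl N4424 D9587
theorem N5574 : nd 5574 = n9588 := ndS (p := 4424) (l := 8) rfl N4424 D9588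
theorem N5575 : nd 5575 = n9589 := ndS (p := 4425) (l := 3) rfl N4425 D9589
theorem N5576 : nd 5576 = n9590 := ndS (p := 4425) (l := 9) rfl N4425 D9590
theorem N5577 : nd 5577 = n9591 := ndS (p := 4426) (l := 6) rfl N4426 D9591
theorem N5578 : nd 5578 = n9592 := ndS (p := 4426) (l := 8) rfl N4426 D9592
theorem N5579 : nd 5579 = n9593 := ndS (p := 4427) (l := 7) rfl N4427 D9593
theorem N5580 : nd 5580 = n9594 := ndS (p := 4427) (l := 8) rfl N4427 D9594
theorem N5581 : nd 5581 = n9595 := ndS (p := 4428) (l := 9) rfl N4428 D9595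
theorem N5582 : nd 5582 = n9596 := ndS (p := 4431) (l := 5) rfl N4431 D9596
theorem N5583 : nd 5583 = n9597 := ndS (p := 4431) (l := 7) rfl N4431 D9597
theorem N5584 : nd 5584 = n9598 := ndS (p := 4431) (l := 8) rfl N4431 D9598
theorem N5585 : nd 5585 = n9599 := ndS (p := 4432) (l := 3) rfl N4432 D9599
theorem N5586 : nd 5586 = n9600 := ndS (p := 4432) (l := 9) rfl N4432 D9600
theorem N5587 : nd 5587 = n9601 := ndS (p := 4433) (l := 8) rfl N4433 D9601
theorem N5588 : nd 5588 = n9602 := ndS (p := 4434) (l := 9) rfl N4434 D9602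
theorem N5589 : nd 5589 = n9603 := ndS (p := 4436) (l := 5) rfl N4436 D9603
theorem N5590 : nd 5590 = n9604 := ndS (p := 4436) (l := 8) rfl N4436 D9604
theorem N5591 : nd 5591 = n9605 := ndS (p := 4437) (l := 4) rfl N4437 D9605
theorem N5592 : nd 5592 = n9606 := ndS (p := 4437) (l := 6) rfl N4437 D9606
theorem N5593 : nd 5593 = n9607 := ndS (p := 4437) (l := 8) rfl N4437 D9607
theorem N5594 : nd 5594 = n9608 := ndS (p := 4438) (l := 3) rfl N4438 D9608
theorem N5595 : nd 5595 = n9609 := ndS (p := 4438) (l := 9) rfl N4438 D9609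
theorem N5596 : nd 5596 = n9610 := ndS (p := 4439) (l := 6) rfl N4439 D9610
theorem N5597 : nd 5597 = n9611 := ndS (p := 4439) (l := 8) rfl N4439 D9611
theorem N5598 : nd 5598 = n9612 := ndS (p := 4440) (l := 7) rfl N4440 D9612
theorem N5599 : nd 5599 = n9613 := ndS (p := 4440) (l := 8) rfl N4440 D9613
theorem N5600 : nd 5600 = n9614 := ndS (p := 4441) (l := 9) rfl N4441 D9614
theorem N5601 : nd 5601 = n9615 := ndS (p := 4444) (l := 3) rfl N4444 D9615
theorem N5602 : nd 5602 = n9616 := ndS (p := 4444) (l := 6) rfl N4444 D9616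
theorem N5603 : nd 5603 = n9617 := ndS (p := 4444) (l := 8) rfl N4444 D9617
theorem N5604 : nd 5604 = n9618 := ndS (p := 4445) (l := 7) rfl N4445 D9618
theorem N5605 : nd 5605 = n9619 := ndS (p := 4445) (l := 8) rfl N4445 D9619
theorem N5606 : nd 5606 = n9620 := ndS (p := 4446) (l := 3) rfl N4446 D9620
theorem N5607 : nd 5607 = n9621 := ndS (p := 4446) (l := 9) rfl N4446 D9621
theorem N5608 : nd 5608 = n9622 := ndS (p := 4447) (l := 4) rfl N4447 D9622
theorem N5609 : nd 5609 = n9623 := ndS (p := 4447) (l := 9) rfl N4447 D9623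
theorem N5610 : nd 5610 = n9624 := ndS (p := 4449) (l := 5) rfl N4449 D9624
theorem N5611 : nd 5611 = n9625 := ndS (p := 4449) (l := 7) rfl N4449 D9625
theorem N5612 : nd 5612 = n9626 := ndS (p := 4449) (l := 8) rfl N4449 D9626
theorem N5613 : nd 5613 = n9627 := ndS (p := 4450) (l := 3) rfl N4450 D9627
theorem N5614 : nd 5614 = n9628 := ndS (p := 4450) (l := 9) rfl N4450 D9628
theorem N5615 : nd 5615 = n9629 := ndS (p := 4451) (l := 8) rfl N4451 D9629
theorem N5616 : nd 5616 = n9630 := ndS (p := 4452) (l := 9) rfl N4452 D9630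
theorem N5617 : nd 5617 = n9631 := ndS (p := 4454) (l := 7) rfl N4454 D9631
theorem N5618 : nd 5618 = n9632 := ndS (p := 4454) (l := 8) rfl N4454 D9632
theorem N5619 : nd 5619 = n9633 := ndS (p := 4455) (l := 8) rfl N4455 D9633
theorem N5620 : nd 5620 = n9634 := ndS (p := 4456) (l := 3) rfl N4456 D9634
theorem N5621 : nd 5621 = n9635 := ndS (p := 4456) (l := 9) rfl N4456 D9635
theorem N5622 : nd 5622 = n9636 := ndS (p := 4457) (l := 2) rfl N4457 D9636
theorem N5623 : nd 5623 = n9637 := ndS (p := 4457) (l := 9) rfl N4457 D9637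
theorem N5624 : nd 5624 = n9638 := ndS (p := 4459) (l := 9) rfl N4459 D9638
theorem N5625 : nd 5625 = n9649 := ndS (p := 4461) (l := 7) rfl N4461 D9649
theorem N5626 : nd 5626 = n9650 := ndS (p := 4462) (l := 6) rfl N4462 D9650
theorem N5627 : nd 5627 = n9652 := ndS (p := 4463) (l := 7) rfl N4463 D9652
theorem N5628 : nd 5628 = n9662 := ndS (p := 4465) (l := 7) rfl N4465 D9662
theorem N5629 : nd 5629 = n9668 := ndS (p := 4466) (l := 6) rfl N4466 D9668
theorem N5630 : nd 5630 = n9670 := ndS (p := 4467) (l := 7) rfl N4467 D9670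
theorem N5631 : nd 5631 = n9673 := ndS (p := 4469) (l := 5) rfl N4469 D9673
theorem N5632 : nd 5632 = n9674 := ndS (p := 4469) (l := 7) rfl N4469 D9674
theorem N5633 : nd 5633 = n9675 := ndS (p := 4469) (l := 8) rfl N4469 D9675
theorem N5634 : nd 5634 = n9676 := ndS (p := 4470) (l := 3) rfl N4470 D9676
theorem N5635 : nd 5635 = n9678 := ndS (p := 4471) (l := 8) rfl N4471 D9678
theorem N5636 : nd 5636 = n9687 := ndS (p := 4473) (l := 6) rfl N4473 D9687
theorem N5637 : nd 5637 = n9689 := ndS (p := 4474) (l := 7) rfl N4474 D9689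
theorem N5638 : nd 5638 = n9692 := ndS (p := 4476) (l := 3) rfl N4476 D9692
theorem N5639 : nd 5639 = n9693 := ndS (p := 4476) (l := 6) rfl N4476 D9693
theorem N5640 : nd 5640 = n9695 := ndS (p := 4477) (l := 7) rfl N4477 D9695
theorem N5641 : nd 5641 = n9701 := ndS (p := 4478) (l := 5) rfl N4478 D9701
theorem N5642 : nd 5642 = n9702 := ndS (p := 4478) (l := 7) rfl N4478 D9702
theorem N5643 : nd 5643 = n9703 := ndS (p := 4478) (l := 8) rfl N4478 D9703
theorem N5644 : nd 5644 = n9704 := ndS (p := 4479) (l := 3) rfl N4479 D9704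
theorem N5645 : nd 5645 = n9706 := ndS (p := 4480) (l := 8) rfl N4480 D9706
theorem N5646 : nd 5646 = n9708 := ndS (p := 4482) (l := 7) rfl N4482 D9708
theorem N5647 : nd 5647 = n9709 := ndS (p := 4482) (l := 8) rfl N4482 D9709
theorem N5648 : nd 5648 = n9710 := ndS (p := 4483) (l := 8) rfl N4483 D9710
theorem N5649 : nd 5649 = n9711 := ndS (p := 4484) (l := 3) rfl N4484 D9711
theorem N5650 : nd 5650 = n9712 := ndS (p := 4484) (l := 9) rfl N4484 D9712
theorem N5651 : nd 5651 = n9713 := ndS (p := 4485) (l := 2) rfl N4485 D9713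
theorem N5652 : nd 5652 = n9714 := ndS (p := 4485) (l := 9) rfl N4485 D9714
theorem N5653 : nd 5653 = n9715 := ndS (p := 4487) (l := 9) rfl N4487 D9715
theorem N5654 : nd 5654 = n9721 := ndS (p := 4489) (l := 3) rfl N4489 D9721
theorem N5655 : nd 5655 = n9722 := ndS (p := 4489) (l := 6) rfl N4489 D9722
theorem N5656 : nd 5656 = n9724 := ndS (p := 4490) (l := 7) rfl N4490 D9724
theorem N5657 : nd 5657 = n9729 := ndS (p := 4491) (l := 5) rfl N4491 D9729
theorem N5658 : nd 5658 = n9730 := ndS (p := 4491) (l := 7) rfl N4491 D9730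
theorem N5659 : nd 5659 = n9731 := ndS (p := 4491) (l := 8) rfl N4491 D9731
theorem N5660 : nd 5660 = n9732 := ndS (p := 4492) (l := 3) rfl N4492 D9732
theorem N5661 : nd 5661 = n9734 := ndS (p := 4493) (l := 8) rfl N4493 D9734
theorem N5662 : nd 5662 = n9736 := ndS (p := 4495) (l := 6) rfl N4495 D9736
theorem N5663 : nd 5663 = n9737 := ndS (p := 4495) (l := 8) rfl N4495 D9737
theorem N5664 : nd 5664 = n9738 := ndS (p := 4496) (l := 5) rfl N4496 D9738
theorem N5665 : nd 5665 = n9739 := ndS (p := 4496) (l := 7) rfl N4496 D9739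
theorem N5666 : nd 5666 = n9740 := ndS (p := 4496) (l := 8) rfl N4496 D9740
theorem N5667 : nd 5667 = n9741 := ndS (p := 4497) (l := 3) rfl N4497 D9741
theorem N5668 : nd 5668 = n9743 := ndS (p := 4498) (l := 8) rfl N4498 D9743
theorem N5669 : nd 5669 = n9749 := ndS (p := 4500) (l := 7) rfl N4500 D9749
theorem N5670 : nd 5670 = n9750 := ndS (p := 4500) (l := 8) rfl N4500 D9750
theorem N5671 : nd 5671 = n9751 := ndS (p := 4501) (l := 8) rfl N4501 D9751
theorem N5672 : nd 5672 = n9752 := ndS (p := 4502) (l := 3) rfl N4502 D9752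
theorem N5673 : nd 5673 = n9753 := ndS (p := 4502) (l := 9) rfl N4502 D9753
theorem N5674 : nd 5674 = n9754 := ndS (p := 4503) (l := 2) rfl N4503 D9754
theorem N5675 : nd 5675 = n9755 := ndS (p := 4503) (l := 9) rfl N4503 D9755
theorem N5676 : nd 5676 = n9756 := ndS (p := 4505) (l := 9) rfl N4505 D9756
theorem N5677 : nd 5677 = n9757 := ndS (p := 4507) (l := 6) rfl N4507 D9757
theorem N5678 : nd 5678 = n9758 := ndS (p := 4507) (l := 8) rfl N4507 D9758
theorem N5679 : nd 5679 = n9759 := ndS (p := 4508) (l := 3) rfl N4508 D9759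
theorem N5680 : nd 5680 = n9760 := ndS (p := 4508) (l := 9) rfl N4508 D9760
theorem N5681 : nd 5681 = n9761 := ndS (p := 4509) (l := 3) rfl N4509 D9761
theorem N5682 : nd 5682 = n9762 := ndS (p := 4509) (l := 9) rfl N4509 D9762
theorem N5683 : nd 5683 = n9763 := ndS (p := 4510) (l := 2) rfl N4510 D9763
theorem N5684 : nd 5684 = n9764 := ndS (p := 4510) (l := 9) rfl N4510 D9764
theorem N5685 : nd 5685 = n9765 := ndS (p := 4512) (l := 1) rfl N4512 D9765
theorem N5686 : nd 5686 = n9766 := ndS (p := 4512) (l := 9) rfl N4512 D9766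
theorem N5687 : nd 5687 = n9767 := ndS (p := 4513) (l := 8) rfl N4513 D9767
theorem N5688 : nd 5688 = n9768 := ndS (p := 4515) (l := 3) rfl N4515 D9768
theorem N5689 : nd 5689 = n9769 := ndS (p := 4516) (l := 2) rfl N4516 D9769
theorem N5690 : nd 5690 = n9770 := ndS (p := 4516) (l := 4) rfl N4516 D9770
theorem N5691 : nd 5691 = n9772 := ndS (p := 4517) (l := 4) rfl N4517 D9772
theorem N5692 : nd 5692 = n9773 := ndS (p := 4518) (l := 5) rfl N4518 D9773
theorem N5693 : nd 5693 = n9775 := ndS (p := 4519) (l := 4) rfl N4519 D9775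
theorem N5694 : nd 5694 = n9776 := ndS (p := 4520) (l := 3) rfl N4520 D9776
theorem N5695 : nd 5695 = n9777 := ndS (p := 4520) (l := 5) rfl N4520 D9777
theorem N5696 : nd 5696 = n9778 := ndS (p := 4521) (l := 6) rfl N4521 D9778
theorem N5697 : nd 5697 = n9779 := ndS (p := 4522) (l := 4) rfl N4522 D9779
theorem N5698 : nd 5698 = n9780 := ndS (p := 4523) (l := 3) rfl N4523 D9780
theorem N5699 : nd 5699 = n9781 := ndS (p := 4523) (l := 5) rfl N4523 D9781
theorem N5700 : nd 5700 = n9782 := ndS (p := 4524) (l := 5) rfl N4524 D9782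
theorem N5701 : nd 5701 = n9783 := ndS (p := 4524) (l := 8) rfl N4524 D9783
theorem N5702 : nd 5702 = n9784 := ndS (p := 4525) (l := 6) rfl N4525 D9784
theorem N5703 : nd 5703 = n9787 := ndS (p := 4527) (l := 4) rfl N4527 D9787
theorem N5704 : nd 5704 = n9788 := ndS (p := 4528) (l := 5) rfl N4528 D9788
theorem N5705 : nd 5705 = n9791 := ndS (p := 4529) (l := 3) rfl N4529 D9791
theorem N5706 : nd 5706 = n9792 := ndS (p := 4529) (l := 5) rfl N4529 D9792
theorem N5707 : nd 5707 = n9793 := ndS (p := 4530) (l := 6) rfl N4530 D9793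
theorem N5708 : nd 5708 = n9795 := ndS (p := 4531) (l := 3) rfl N4531 D9795
theorem N5709 : nd 5709 = n9796 := ndS (p := 4531) (l := 5) rfl N4531 D9796
theorem N5710 : nd 5710 = n9797 := ndS (p := 4532) (l := 5) rfl N4532 D9797
theorem N5711 : nd 5711 = n9798 := ndS (p := 4532) (l := 8) rfl N4532 D9798
theorem N5712 : nd 5712 = n9799 := ndS (p := 4533) (l := 6) rfl N4533 D9799
theorem N5713 : nd 5713 = n9800 := ndS (p := 4534) (l := 7) rfl N4534 D9800
theorem N5714 : nd 5714 = n9801 := ndS (p := 4535) (l := 3) rfl N4535 D9801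
theorem N5715 : nd 5715 = n9802 := ndS (p := 4535) (l := 5) rfl N4535 D9802
theorem N5716 : nd 5716 = n9803 := ndS (p := 4536) (l := 2) rfl N4536 D9803
theorem N5717 : nd 5717 = n9804 := ndS (p := 4536) (l := 5) rfl N4536 D9804
theorem N5718 : nd 5718 = n9805 := ndS (p := 4536) (l := 8) rfl N4536 D9805
theorem N5719 : nd 5719 = n9806 := ndS (p := 4537) (l := 6) rfl N4537 D9806
theorem N5720 : nd 5720 = n9807 := ndS (p := 4538) (l := 4) rfl N4538 D9807
theorem N5721 : nd 5721 = n9808 := ndS (p := 4538) (l := 6) rfl N4538 D9808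
theorem N5722 : nd 5722 = n9809 := ndS (p := 4538) (l := 8) rfl N4538 D9809
theorem N5723 : nd 5723 = n9810 := ndS (p := 4539) (l := 9) rfl N4539 D9810
theorem N5724 : nd 5724 = n9811 := ndS (p := 4540) (l := 7) rfl N4540 D9811
theorem N5725 : nd 5725 = n9814 := ndS (p := 4542) (l := 3) rfl N4542 D9814
theorem N5726 : nd 5726 = n9815 := ndS (p := 4542) (l := 5) rfl N4542 D9815
theorem N5727 : nd 5727 = n9816 := ndS (p := 4543) (l := 6) rfl N4543 D9816
theorem N5728 : nd 5728 = n9820 := ndS (p := 4544) (l := 5) rfl N4544 D9820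
theorem N5729 : nd 5729 = n9821 := ndS (p := 4544) (l := 8) rfl N4544 D9821
theorem N5730 : nd 5730 = n9822 := ndS (p := 4545) (l := 6) rfl N4545 D9822
theorem N5731 : nd 5731 = n9823 := ndS (p := 4546) (l := 7) rfl N4546 D9823
theorem N5732 : nd 5732 = n9826 := ndS (p := 4547) (l := 2) rfl N4547 D9826
theorem N5733 : nd 5733 = n9827 := ndS (p := 4547) (l := 5) rfl N4547 D9827
theorem N5734 : nd 5734 = n9828 := ndS (p := 4547) (l := 8) rfl N4547 D9828
theorem N5735 : nd 5735 = n9829 := ndS (p := 4548) (l := 6) rfl N4548 D9829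
theorem N5736 : nd 5736 = n9830 := ndS (p := 4549) (l := 4) rfl N4549 D9830
theorem N5737 : nd 5737 = n9831 := ndS (p := 4549) (l := 6) rfl N4549 D9831
theorem N5738 : nd 5738 = n9832 := ndS (p := 4549) (l := 8) rfl N4549 D9832
theorem N5739 : nd 5739 = n9833 := ndS (p := 4550) (l := 9) rfl N4550 D9833
theorem N5740 : nd 5740 = n9834 := ndS (p := 4551) (l := 7) rfl N4551 D9834
theorem N5741 : nd 5741 = n9836 := ndS (p := 4553) (l := 5) rfl N4553 D9836
theorem N5742 : nd 5742 = n9838 := ndS (p := 4554) (l := 6) rfl N4554 D9838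
theorem N5743 : nd 5743 = n9839 := ndS (p := 4555) (l := 5) rfl N4555 D9839
theorem N5744 : nd 5744 = n9841 := ndS (p := 4556) (l := 4) rfl N4556 D9841
theorem N5745 : nd 5745 = n9842 := ndS (p := 4556) (l := 6) rfl N4556 D9842
theorem N5746 : nd 5746 = n9843 := ndS (p := 4556) (l := 8) rfl N4556 D9843
theorem N5747 : nd 5747 = n9844 := ndS (p := 4557) (l := 9) rfl N4557 D9844
theorem N5748 : nd 5748 = n9845 := ndS (p := 4558) (l := 7) rfl N4558 D9845
theorem N5749 : nd 5749 = n9846 := ndS (p := 4559) (l := 6) rfl N4559 D9846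
theorem N5750 : nd 5750 = n9847 := ndS (p := 4559) (l := 8) rfl N4559 D9847
theorem N5751 : nd 5751 = n9848 := ndS (p := 4560) (l := 7) rfl N4560 D9848
theorem N5752 : nd 5752 = n9849 := ndS (p := 4560) (l := 8) rfl N4560 D9849
theorem N5753 : nd 5753 = n9850 := ndS (p := 4561) (l := 9) rfl N4561 D9850
theorem N5754 : nd 5754 = n9854 := ndS (p := 4564) (l := 5) rfl N4564 D9854
theorem N5755 : nd 5755 = n9855 := ndS (p := 4564) (l := 8) rfl N4564 D9855
theorem N5756 : nd 5756 = n9856 := ndS (p := 4565) (l := 6) rfl N4565 D9856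
theorem N5757 : nd 5757 = n9857 := ndS (p := 4566) (l := 7) rfl N4566 D9857
theorem N5758 : nd 5758 = n9860 := ndS (p := 4567) (l := 2) rfl N4567 D9860
theorem N5759 : nd 5759 = n9861 := ndS (p := 4567) (l := 5) rfl N4567 D9861
theorem N5760 : nd 5760 = n9862 := ndS (p := 4567) (l := 8) rfl N4567 D9862
theorem N5761 : nd 5761 = n9863 := ndS (p := 4568) (l := 6) rfl N4568 D9863
theorem N5762 : nd 5762 = n9864 := ndS (p := 4569) (l := 4) rfl N4569 D9864
theorem N5763 : nd 5763 = n9865 := ndS (p := 4569) (l := 6) rfl N4569 D9865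
theorem N5764 : nd 5764 = n9866 := ndS (p := 4569) (l := 8) rfl N4569 D9866
theorem N5765 : nd 5765 = n9867 := ndS (p := 4570) (l := 9) rfl N4570 D9867
theorem N5766 : nd 5766 = n9868 := ndS (p := 4571) (l := 7) rfl N4571 D9868
theorem N5767 : nd 5767 = n9869 := ndS (p := 4573) (l := 2) rfl N4573 D9869
theorem N5768 : nd 5768 = n9870 := ndS (p := 4573) (l := 5) rfl N4573 D9870
theorem N5769 : nd 5769 = n9871 := ndS (p := 4573) (l := 8) rfl N4573 D9871
theorem N5770 : nd 5770 = n9872 := ndS (p := 4574) (l := 6) rfl N4574 D9872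
theorem N5771 : nd 5771 = n9873 := ndS (p := 4575) (l := 5) rfl N4575 D9873
theorem N5772 : nd 5772 = n9874 := ndS (p := 4575) (l := 8) rfl N4575 D9874
theorem N5773 : nd 5773 = n9875 := ndS (p := 4576) (l := 4) rfl N4576 D9875
theorem N5774 : nd 5774 = n9876 := ndS (p := 4576) (l := 6) rfl N4576 D9876
theorem N5775 : nd 5775 = n9877 := ndS (p := 4576) (l := 8) rfl N4576 D9877
theorem N5776 : nd 5776 = n9878 := ndS (p := 4577) (l := 9) rfl N4577 D9878
theorem N5777 : nd 5777 = n9879 := ndS (p := 4578) (l := 7) rfl N4578 D9879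
theorem N5778 : nd 5778 = n9880 := ndS (p := 4579) (l := 6) rfl N4579 D9880
theorem N5779 : nd 5779 = n9881 := ndS (p := 4579) (l := 8) rfl N4579 D9881
theorem N5780 : nd 5780 = n9882 := ndS (p := 4580) (l := 7) rfl N4580 D9882
theorem N5781 : nd 5781 = n9883 := ndS (p := 4580) (l := 8) rfl N4580 D9883
theorem N5782 : nd 5782 = n9884 := ndS (p := 4581) (l := 9) rfl N4581 D9884
theorem N5783 : nd 5783 = n9891 := ndS (p := 4584) (l := 4) rfl N4584 D9891
theorem N5784 : nd 5784 = n9892 := ndS (p := 4584) (l := 6) rfl N4584 D9892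
theorem N5785 : nd 5785 = n9893 := ndS (p := 4584) (l := 8) rfl N4584 D9893
theorem N5786 : nd 5786 = n9894 := ndS (p := 4585) (l := 9) rfl N4585 D9894
theorem N5787 : nd 5787 = n9895 := ndS (p := 4586) (l := 7) rfl N4586 D9895
theorem N5788 : nd 5788 = n9900 := ndS (p := 4588) (l := 5) rfl N4588 D9900
theorem N5789 : nd 5789 = n9901 := ndS (p := 4588) (l := 8) rfl N4588 D9901
theorem N5790 : nd 5790 = n9902 := ndS (p := 4589) (l := 4) rfl N4589 D9902
theorem N5791 : nd 5791 = n9903 := ndS (p := 4589) (l := 6) rfl N4589 D9903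
theorem N5792 : nd 5792 = n9904 := ndS (p := 4589) (l := 8) rfl N4589 D9904
theorem N5793 : nd 5793 = n9905 := ndS (p := 4590) (l := 9) rfl N4590 D9905
theorem N5794 : nd 5794 = n9906 := ndS (p := 4591) (l := 7) rfl N4591 D9906
theorem N5795 : nd 5795 = n9907 := ndS (p := 4592) (l := 6) rfl N4592 D9907
theorem N5796 : nd 5796 = n9908 := ndS (p := 4592) (l := 8) rfl N4592 D9908
theorem N5797 : nd 5797 = n9909 := ndS (p := 4593) (l := 7) rfl N4593 D9909
theorem N5798 : nd 5798 = n9910 := ndS (p := 4593) (l := 8) rfl N4593 D9910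
theorem N5799 : nd 5799 = n9911 := ndS (p := 4594) (l := 9) rfl N4594 D9911
theorem N5800 : nd 5800 = n9912 := ndS (p := 4597) (l := 1) rfl N4597 D9912
theorem N5801 : nd 5801 = n9913 := ndS (p := 4597) (l := 5) rfl N4597 D9913
theorem N5802 : nd 5802 = n9914 := ndS (p := 4597) (l := 8) rfl N4597 D9914
theorem N5803 : nd 5803 = n9915 := ndS (p := 4598) (l := 4) rfl N4598 D9915
theorem N5804 : nd 5804 = n9916 := ndS (p := 4598) (l := 6) rfl N4598 D9916
theorem N5805 : nd 5805 = n9917 := ndS (p := 4598) (l := 8) rfl N4598 D9917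
theorem N5806 : nd 5806 = n9918 := ndS (p := 4599) (l := 9) rfl N4599 D9918
theorem N5807 : nd 5807 = n9919 := ndS (p := 4600) (l := 7) rfl N4600 D9919
theorem N5808 : nd 5808 = n9920 := ndS (p := 4601) (l := 4) rfl N4601 D9920
theorem N5809 : nd 5809 = n9921 := ndS (p := 4601) (l := 6) rfl N4601 D9921
theorem N5810 : nd 5810 = n9922 := ndS (p := 4601) (l := 8) rfl N4601 D9922
theorem N5811 : nd 5811 = n9923 := ndS (p := 4602) (l := 3) rfl N4602 D9923
theorem N5812 : nd 5812 = n9924 := ndS (p := 4602) (l := 9) rfl N4602 D9924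
theorem N5813 : nd 5813 = n9925 := ndS (p := 4603) (l := 6) rfl N4603 D9925
theorem N5814 : nd 5814 = n9926 := ndS (p := 4603) (l := 8) rfl N4603 D9926
theorem N5815 : nd 5815 = n9927 := ndS (p := 4604) (l := 7) rfl N4604 D9927
theorem N5816 : nd 5816 = n9928 := ndS (p := 4604) (l := 8) rfl N4604 D9928
theorem N5817 : nd 5817 = n9929 := ndS (p := 4605) (l := 9) rfl N4605 D9929
theorem N5818 : nd 5818 = n9930 := ndS (p := 4608) (l := 5) rfl N4608 D9930
theorem N5819 : nd 5819 = n9931 := ndS (p := 4608) (l := 7) rfl N4608 D9931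
theorem N5820 : nd 5820 = n9932 := ndS (p := 4608) (l := 8) rfl N4608 D9932
theorem N5821 : nd 5821 = n9933 := ndS (p := 4609) (l := 3) rfl N4609 D9933
theorem N5822 : nd 5822 = n9934 := ndS (p := 4609) (l := 9) rfl N4609 D9934
theorem N5823 : nd 5823 = n9935 := ndS (p := 4610) (l := 8) rfl N4610 D9935
theorem N5824 : nd 5824 = n9936 := ndS (p := 4611) (l := 9) rfl N4611 D9936
theorem N5825 : nd 5825 = n9948 := ndS (p := 4613) (l := 6) rfl N4613 D9948
theorem N5826 : nd 5826 = n9949 := ndS (p := 4613) (l := 8) rfl N4613 D9949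
theorem N5827 : nd 5827 = n9950 := ndS (p := 4614) (l := 7) rfl N4614 D9950
theorem N5828 : nd 5828 = n9951 := ndS (p := 4614) (l := 8) rfl N4614 D9951
theorem N5829 : nd 5829 = n9952 := ndS (p := 4615) (l := 9) rfl N4615 D9952
theorem N5830 : nd 5830 = n9961 := ndS (p := 4618) (l := 4) rfl N4618 D9961
theorem N5831 : nd 5831 = n9962 := ndS (p := 4618) (l := 6) rfl N4618 D9962
theorem N5832 : nd 5832 = n9963 := ndS (p := 4618) (l := 8) rfl N4618 D9963
theorem N5833 : nd 5833 = n9965 := ndS (p := 4619) (l := 9) rfl N4619 D9965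
theorem N5834 : nd 5834 = n9966 := ndS (p := 4620) (l := 6) rfl N4620 D9966
theorem N5835 : nd 5835 = n9967 := ndS (p := 4620) (l := 8) rfl N4620 D9967
theorem N5836 : nd 5836 = n9968 := ndS (p := 4621) (l := 7) rfl N4621 D9968
theorem N5837 : nd 5837 = n9969 := ndS (p := 4621) (l := 8) rfl N4621 D9969
theorem N5838 : nd 5838 = n9970 := ndS (p := 4622) (l := 9) rfl N4622 D9970
theorem N5839 : nd 5839 = n9971 := ndS (p := 4625) (l := 5) rfl N4625 D9971
theorem N5840 : nd 5840 = n9972 := ndS (p := 4625) (l := 7) rfl N4625 D9972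
theorem N5841 : nd 5841 = n9973 := ndS (p := 4625) (l := 8) rfl N4625 D9973
theorem N5842 : nd 5842 = n9974 := ndS (p := 4626) (l := 3) rfl N4626 D9974
theorem N5843 : nd 5843 = n9975 := ndS (p := 4626) (l := 9) rfl N4626 D9975
theorem N5844 : nd 5844 = n9976 := ndS (p := 4627) (l := 8) rfl N4627 D9976
theorem N5845 : nd 5845 = n9977 := ndS (p := 4628) (l := 9) rfl N4628 D9977
theorem N5846 : nd 5846 = n9978 := ndS (p := 4630) (l := 5) rfl N4630 D9978
theorem N5847 : nd 5847 = n9979 := ndS (p := 4630) (l := 8) rfl N4630 D9979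
theorem N5848 : nd 5848 = n9980 := ndS (p := 4631) (l := 4) rfl N4631 D9980
theorem N5849 : nd 5849 = n9981 := ndS (p := 4631) (l := 6) rfl N4631 D9981
theorem N5850 : nd 5850 = n9982 := ndS (p := 4631) (l := 8) rfl N4631 D9982
theorem N5851 : nd 5851 = n9983 := ndS (p := 4632) (l := 3) rfl N4632 D9983
theorem N5852 : nd 5852 = n9984 := ndS (p := 4632) (l := 9) rfl N4632 D9984
theorem N5853 : nd 5853 = n9985 := ndS (p := 4633) (l := 6) rfl N4633 D9985
theorem N5854 : nd 5854 = n9986 := ndS (p := 4633) (l := 8) rfl N4633 D9986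
theorem N5855 : nd 5855 = n9987 := ndS (p := 4634) (l := 7) rfl N4634 D9987
theorem N5856 : nd 5856 = n9988 := ndS (p := 4634) (l := 8) rfl N4634 D9988
theorem N5857 : nd 5857 = n9989 := ndS (p := 4635) (l := 9) rfl N4635 D9989
theorem N5858 : nd 5858 = n9990 := ndS (p := 4638) (l := 3) rfl N4638 D9990
theorem N5859 : nd 5859 = n9991 := ndS (p := 4638) (l := 6) rfl N4638 D9991
theorem N5860 : nd 5860 = n9992 := ndS (p := 4638) (l := 8) rfl N4638 D9992
theorem N5861 : nd 5861 = n9993 := ndS (p := 4639) (l := 7) rfl N4639 D9993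
theorem N5862 : nd 5862 = n9994 := ndS (p := 4639) (l := 8) rfl N4639 D9994
theorem N5863 : nd 5863 = n9995 := ndS (p := 4640) (l := 3) rfl N4640 D9995
theorem N5864 : nd 5864 = n9996 := ndS (p := 4640) (l := 9) rfl N4640 D9996
theorem N5865 : nd 5865 = n9997 := ndS (p := 4641) (l := 4) rfl N4641 D9997
theorem N5866 : nd 5866 = n9998 := ndS (p := 4641) (l := 9) rfl N4641 D9998
theorem N5867 : nd 5867 = n9999 := ndS (p := 4643) (l := 5) rfl N4643 D9999
theorem N5868 : nd 5868 = n10000 := ndS (p := 4643) (l := 7) rfl N4643 D10000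
theorem N5869 : nd 5869 = n10001 := ndS (p := 4643) (l := 8) rfl N4643 D10001
theorem N5870 : nd 5870 = n10002 := ndS (p := 4644) (l := 3) rfl N4644 D10002
theorem N5871 : nd 5871 = n10003 := ndS (p := 4644) (l := 9) rfl N4644 D10003
theorem N5872 : nd 5872 = n10004 := ndS (p := 4645) (l := 8) rfl N4645 D10004
theorem N5873 : nd 5873 = n10005 := ndS (p := 4646) (l := 9) rfl N4646 D10005
theorem N5874 : nd 5874 = n10006 := ndS (p := 4648) (l := 7) rfl N4648 D10006
theorem N5875 : nd 5875 = n10007 := ndS (p := 4648) (l := 8) rfl N4648 D10007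
theorem N5876 : nd 5876 = n10008 := ndS (p := 4649) (l := 8) rfl N4649 D10008
theorem N5877 : nd 5877 = n10009 := ndS (p := 4650) (l := 3) rfl N4650 D10009
theorem N5878 : nd 5878 = n10010 := ndS (p := 4650) (l := 9) rfl N4650 D10010
theorem N5879 : nd 5879 = n10011 := ndS (p := 4651) (l := 2) rfl N4651 D10011
theorem N5880 : nd 5880 = n10012 := ndS (p := 4651) (l := 9) rfl N4651 D10012
theorem N5881 : nd 5881 = n10013 := ndS (p := 4653) (l := 9) rfl N4653 D10013
theorem N5882 : nd 5882 = n10014 := ndS (p := 4655) (l := 2) rfl N4655 D10014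
theorem N5883 : nd 5883 = n10015 := ndS (p := 4655) (l := 5) rfl N4655 D10015
theorem N5884 : nd 5884 = n10016 := ndS (p := 4655) (l := 8) rfl N4655 D10016
theorem N5885 : nd 5885 = n10017 := ndS (p := 4656) (l := 6) rfl N4656 D10017
theorem N5886 : nd 5886 = n10018 := ndS (p := 4657) (l := 5) rfl N4657 D10018
theorem N5887 : nd 5887 = n10019 := ndS (p := 4657) (l := 8) rfl N4657 D10019
theorem N5888 : nd 5888 = n10020 := ndS (p := 4658) (l := 4) rfl N4658 D10020
theorem N5889 : nd 5889 = n10021 := ndS (p := 4658) (l := 6) rfl N4658 D10021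
theorem N5890 : nd 5890 = n10022 := ndS (p := 4658) (l := 8) rfl N4658 D10022
theorem N5891 : nd 5891 = n10023 := ndS (p := 4659) (l := 9) rfl N4659 D10023
theorem N5892 : nd 5892 = n10024 := ndS (p := 4660) (l := 7) rfl N4660 D10024
theorem N5893 : nd 5893 = n10025 := ndS (p := 4661) (l := 6) rfl N4661 D10025
theorem N5894 : nd 5894 = n10026 := ndS (p := 4661) (l := 8) rfl N4661 D10026
theorem N5895 : nd 5895 = n10027 := ndS (p := 4662) (l := 7) rfl N4662 D10027
theorem N5896 : nd 5896 = n10028 := ndS (p := 4662) (l := 8) rfl N4662 D10028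
theorem N5897 : nd 5897 = n10029 := ndS (p := 4663) (l := 9) rfl N4663 D10029
theorem N5898 : nd 5898 = n10030 := ndS (p := 4666) (l := 1) rfl N4666 D10030
theorem N5899 : nd 5899 = n10031 := ndS (p := 4666) (l := 5) rfl N4666 D10031
theorem N5900 : nd 5900 = n10032 := ndS (p := 4666) (l := 8) rfl N4666 D10032
theorem N5901 : nd 5901 = n10033 := ndS (p := 4667) (l := 4) rfl N4667 D10033
theorem N5902 : nd 5902 = n10034 := ndS (p := 4667) (l := 6) rfl N4667 D10034
theorem N5903 : nd 5903 = n10035 := ndS (p := 4667) (l := 8) rfl N4667 D10035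
theorem N5904 : nd 5904 = n10036 := ndS (p := 4668) (l := 9) rfl N4668 D10036
theorem N5905 : nd 5905 = n10037 := ndS (p := 4669) (l := 7) rfl N4669 D10037
theorem N5906 : nd 5906 = n10038 := ndS (p := 4670) (l := 4) rfl N4670 D10038
theorem N5907 : nd 5907 = n10039 := ndS (p := 4670) (l := 6) rfl N4670 D10039
theorem N5908 : nd 5908 = n10040 := ndS (p := 4670) (l := 8) rfl N4670 D10040
theorem N5909 : nd 5909 = n10041 := ndS (p := 4671) (l := 3) rfl N4671 D10041
theorem N5910 : nd 5910 = n10042 := ndS (p := 4671) (l := 9) rfl N4671 D10042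
theorem N5911 : nd 5911 = n10043 := ndS (p := 4672) (l := 6) rfl N4672 D10043
theorem N5912 : nd 5912 = n10044 := ndS (p := 4672) (l := 8) rfl N4672 D10044
theorem N5913 : nd 5913 = n10045 := ndS (p := 4673) (l := 7) rfl N4673 D10045
theorem N5914 : nd 5914 = n10046 := ndS (p := 4673) (l := 8) rfl N4673 D10046
theorem N5915 : nd 5915 = n10047 := ndS (p := 4674) (l := 9) rfl N4674 D10047
theorem N5916 : nd 5916 = n10048 := ndS (p := 4677) (l := 5) rfl N4677 D10048
theorem N5917 : nd 5917 = n10049 := ndS (p := 4677) (l := 7) rfl N4677 D10049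
theorem N5918 : nd 5918 = n10050 := ndS (p := 4677) (l := 8) rfl N4677 D10050
theorem N5919 : nd 5919 = n10051 := ndS (p := 4678) (l := 3) rfl N4678 D10051
theorem N5920 : nd 5920 = n10052 := ndS (p := 4678) (l := 9) rfl N4678 D10052
theorem N5921 : nd 5921 = n10053 := ndS (p := 4679) (l := 8) rfl N4679 D10053
theorem N5922 : nd 5922 = n10054 := ndS (p := 4680) (l := 9) rfl N4680 D10054
theorem N5923 : nd 5923 = n10055 := ndS (p := 4682) (l := 1) rfl N4682 D10055
theorem N5924 : nd 5924 = n10056 := ndS (p := 4682) (l := 5) rfl N4682 D10056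
theorem N5925 : nd 5925 = n10057 := ndS (p := 4682) (l := 8) rfl N4682 D10057
theorem N5926 : nd 5926 = n10058 := ndS (p := 4683) (l := 4) rfl N4683 D10058
theorem N5927 : nd 5927 = n10059 := ndS (p := 4683) (l := 6) rfl N4683 D10059
theorem N5928 : nd 5928 = n10060 := ndS (p := 4683) (l := 8) rfl N4683 D10060
theorem N5929 : nd 5929 = n10061 := ndS (p := 4684) (l := 9) rfl N4684 D10061
theorem N5930 : nd 5930 = n10062 := ndS (p := 4685) (l := 7) rfl N4685 D10062
theorem N5931 : nd 5931 = n10063 := ndS (p := 4686) (l := 4) rfl N4686 D10063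
theorem N5932 : nd 5932 = n10064 := ndS (p := 4686) (l := 6) rfl N4686 D10064
theorem N5933 : nd 5933 = n10065 := ndS (p := 4686) (l := 8) rfl N4686 D10065
theorem N5934 : nd 5934 = n10066 := ndS (p := 4687) (l := 3) rfl N4687 D10066
theorem N5935 : nd 5935 = n10067 := ndS (p := 4687) (l := 9) rfl N4687 D10067
theorem N5936 : nd 5936 = n10068 := ndS (p := 4688) (l := 6) rfl N4688 D10068
theorem N5937 : nd 5937 = n10069 := ndS (p := 4688) (l := 8) rfl N4688 D10069
theorem N5938 : nd 5938 = n10070 := ndS (p := 4689) (l := 7) rfl N4689 D10070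
theorem N5939 : nd 5939 = n10071 := ndS (p := 4689) (l := 8) rfl N4689 D10071
theorem N5940 : nd 5940 = n10072 := ndS (p := 4690) (l := 9) rfl N4690 D10072
theorem N5941 : nd 5941 = n10073 := ndS (p := 4693) (l := 5) rfl N4693 D10073
theorem N5942 : nd 5942 = n10074 := ndS (p := 4693) (l := 7) rfl N4693 D10074
theorem N5943 : nd 5943 = n10075 := ndS (p := 4693) (l := 8) rfl N4693 D10075
theorem N5944 : nd 5944 = n10076 := ndS (p := 4694) (l := 3) rfl N4694 D10076
theorem N5945 : nd 5945 = n10077 := ndS (p := 4694) (l := 9) rfl N4694 D10077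
theorem N5946 : nd 5946 = n10078 := ndS (p := 4695) (l := 8) rfl N4695 D10078
theorem N5947 : nd 5947 = n10079 := ndS (p := 4696) (l := 9) rfl N4696 D10079
theorem N5948 : nd 5948 = n10080 := ndS (p := 4698) (l := 5) rfl N4698 D10080
theorem N5949 : nd 5949 = n10082 := ndS (p := 4699) (l := 4) rfl N4699 D10082
theorem N5950 : nd 5950 = n10083 := ndS (p := 4699) (l := 6) rfl N4699 D10083
theorem N5951 : nd 5951 = n10084 := ndS (p := 4699) (l := 8) rfl N4699 D10084
theorem N5952 : nd 5952 = n10086 := ndS (p := 4700) (l := 9) rfl N4700 D10086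
theorem N5953 : nd 5953 = n10087 := ndS (p := 4701) (l := 6) rfl N4701 D10087
theorem N5954 : nd 5954 = n10088 := ndS (p := 4701) (l := 8) rfl N4701 D10088
theorem N5955 : nd 5955 = n10089 := ndS (p := 4702) (l := 7) rfl N4702 D10089
theorem N5956 : nd 5956 = n10090 := ndS (p := 4702) (l := 8) rfl N4702 D10090
theorem N5957 : nd 5957 = n10091 := ndS (p := 4703) (l := 9) rfl N4703 D10091
theorem N5958 : nd 5958 = n10092 := ndS (p := 4706) (l := 3) rfl N4706 D10092
theorem N5959 : nd 5959 = n10093 := ndS (p := 4706) (l := 6) rfl N4706 D10093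
theorem N5960 : nd 5960 = n10094 := ndS (p := 4706) (l := 8) rfl N4706 D10094
theorem N5961 : nd 5961 = n10095 := ndS (p := 4707) (l := 7) rfl N4707 D10095
theorem N5962 : nd 5962 = n10096 := ndS (p := 4707) (l := 8) rfl N4707 D10096
theorem N5963 : nd 5963 = n10097 := ndS (p := 4708) (l := 3) rfl N4708 D10097
theorem N5964 : nd 5964 = n10098 := ndS (p := 4708) (l := 9) rfl N4708 D10098
theorem N5965 : nd 5965 = n10099 := ndS (p := 4709) (l := 4) rfl N4709 D10099
theorem N5966 : nd 5966 = n10100 := ndS (p := 4709) (l := 9) rfl N4709 D10100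
theorem N5967 : nd 5967 = n10101 := ndS (p := 4711) (l := 5) rfl N4711 D10101
theorem N5968 : nd 5968 = n10102 := ndS (p := 4711) (l := 7) rfl N4711 D10102
theorem N5969 : nd 5969 = n10103 := ndS (p := 4711) (l := 8) rfl N4711 D10103
theorem N5970 : nd 5970 = n10104 := ndS (p := 4712) (l := 3) rfl N4712 D10104
theorem N5971 : nd 5971 = n10105 := ndS (p := 4712) (l := 9) rfl N4712 D10105
theorem N5972 : nd 5972 = n10106 := ndS (p := 4713) (l := 8) rfl N4713 D10106
theorem N5973 : nd 5973 = n10107 := ndS (p := 4714) (l := 9) rfl N4714 D10107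
theorem N5974 : nd 5974 = n10108 := ndS (p := 4716) (l := 7) rfl N4716 D10108
theorem N5975 : nd 5975 = n10109 := ndS (p := 4716) (l := 8) rfl N4716 D10109
theorem N5976 : nd 5976 = n10110 := ndS (p := 4717) (l := 8) rfl N4717 D10110
theorem N5977 : nd 5977 = n10111 := ndS (p := 4718) (l := 3) rfl N4718 D10111
theorem N5978 : nd 5978 = n10112 := ndS (p := 4718) (l := 9) rfl N4718 D10112
theorem N5979 : nd 5979 = n10113 := ndS (p := 4719) (l := 2) rfl N4719 D10113
theorem N5980 : nd 5980 = n10114 := ndS (p := 4719) (l := 9) rfl N4719 D10114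
theorem N5981 : nd 5981 = n10115 := ndS (p := 4721) (l := 9) rfl N4721 D10115
theorem N5982 : nd 5982 = n10116 := ndS (p := 4723) (l := 5) rfl N4723 D10116
theorem N5983 : nd 5983 = n10118 := ndS (p := 4724) (l := 4) rfl N4724 D10118
theorem N5984 : nd 5984 = n10119 := ndS (p := 4724) (l := 6) rfl N4724 D10119
theorem N5985 : nd 5985 = n10120 := ndS (p := 4724) (l := 8) rfl N4724 D10120
theorem N5986 : nd 5986 = n10122 := ndS (p := 4725) (l := 9) rfl N4725 D10122
theorem N5987 : nd 5987 = n10123 := ndS (p := 4726) (l := 6) rfl N4726 D10123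
theorem N5988 : nd 5988 = n10124 := ndS (p := 4726) (l := 8) rfl N4726 D10124
theorem N5989 : nd 5989 = n10125 := ndS (p := 4727) (l := 7) rfl N4727 D10125
theorem N5990 : nd 5990 = n10126 := ndS (p := 4727) (l := 8) rfl N4727 D10126
theorem N5991 : nd 5991 = n10127 := ndS (p := 4728) (l := 9) rfl N4728 D10127
theorem N5992 : nd 5992 = n10128 := ndS (p := 4731) (l := 3) rfl N4731 D10128
theorem N5993 : nd 5993 = n10129 := ndS (p := 4731) (l := 6) rfl N4731 D10129
theorem N5994 : nd 5994 = n10130 := ndS (p := 4731) (l := 8) rfl N4731 D10130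
theorem N5995 : nd 5995 = n10131 := ndS (p := 4732) (l := 7) rfl N4732 D10131
theorem N5996 : nd 5996 = n10132 := ndS (p := 4732) (l := 8) rfl N4732 D10132
theorem N5997 : nd 5997 = n10133 := ndS (p := 4733) (l := 3) rfl N4733 D10133
theorem N5998 : nd 5998 = n10134 := ndS (p := 4733) (l := 9) rfl N4733 D10134
theorem N5999 : nd 5999 = n10136 := ndS (p := 4734) (l := 9) rfl N4734 D10136
theorem N6000 : nd 6000 = n10137 := ndS (p := 4736) (l := 5) rfl N4736 D10137
theorem N6001 : nd 6001 = n10138 := ndS (p := 4736) (l := 7) rfl N4736 D10138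
theorem N6002 : nd 6002 = n10139 := ndS (p := 4736) (l := 8) rfl N4736 D10139
theorem N6003 : nd 6003 = n10140 := ndS (p := 4737) (l := 3) rfl N4737 D10140
theorem N6004 : nd 6004 = n10141 := ndS (p := 4737) (l := 9) rfl N4737 D10141
theorem N6005 : nd 6005 = n10142 := ndS (p := 4738) (l := 8) rfl N4738 D10142
theorem N6006 : nd 6006 = n10143 := ndS (p := 4739) (l := 9) rfl N4739 D10143
theorem N6007 : nd 6007 = n10144 := ndS (p := 4741) (l := 7) rfl N4741 D10144
theorem N6008 : nd 6008 = n10145 := ndS (p := 4741) (l := 8) rfl N4741 D10145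
theorem N6009 : nd 6009 = n10146 := ndS (p := 4742) (l := 8) rfl N4742 D10146
theorem N6010 : nd 6010 = n10147 := ndS (p := 4743) (l := 3) rfl N4743 D10147
theorem N6011 : nd 6011 = n10148 := ndS (p := 4743) (l := 9) rfl N4743 D10148
theorem N6012 : nd 6012 = n10149 := ndS (p := 4744) (l := 2) rfl N4744 D10149
theorem N6013 : nd 6013 = n10150 := ndS (p := 4744) (l := 9) rfl N4744 D10150
theorem N6014 : nd 6014 = n10151 := ndS (p := 4746) (l := 9) rfl N4746 D10151
theorem N6015 : nd 6015 = n10152 := ndS (p := 4748) (l := 4) rfl N4748 D10152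
theorem N6016 : nd 6016 = n10153 := ndS (p := 4748) (l := 6) rfl N4748 D10153
theorem N6017 : nd 6017 = n10157 := ndS (p := 4749) (l := 3) rfl N4749 D10157
theorem N6018 : nd 6018 = n10158 := ndS (p := 4749) (l := 6) rfl N4749 D10158
theorem N6019 : nd 6019 = n10159 := ndS (p := 4749) (l := 8) rfl N4749 D10159
theorem N6020 : nd 6020 = n10160 := ndS (p := 4750) (l := 7) rfl N4750 D10160
theorem N6021 : nd 6021 = n10161 := ndS (p := 4750) (l := 8) rfl N4750 D10161
theorem N6022 : nd 6022 = n10163 := ndS (p := 4751) (l := 9) rfl N4751 D10163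
theorem N6023 : nd 6023 = n10166 := ndS (p := 4753) (l := 5) rfl N4753 D10166
theorem N6024 : nd 6024 = n10167 := ndS (p := 4753) (l := 7) rfl N4753 D10167
theorem N6025 : nd 6025 = n10168 := ndS (p := 4753) (l := 8) rfl N4753 D10168
theorem N6026 : nd 6026 = n10169 := ndS (p := 4754) (l := 3) rfl N4754 D10169
theorem N6027 : nd 6027 = n10170 := ndS (p := 4754) (l := 9) rfl N4754 D10170
theorem N6028 : nd 6028 = n10171 := ndS (p := 4755) (l := 8) rfl N4755 D10171
theorem N6029 : nd 6029 = n10172 := ndS (p := 4756) (l := 9) rfl N4756 D10172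
theorem N6030 : nd 6030 = n10173 := ndS (p := 4758) (l := 6) rfl N4758 D10173
theorem N6031 : nd 6031 = n10174 := ndS (p := 4758) (l := 8) rfl N4758 D10174
theorem N6032 : nd 6032 = n10175 := ndS (p := 4759) (l := 5) rfl N4759 D10175
theorem N6033 : nd 6033 = n10176 := ndS (p := 4759) (l := 7) rfl N4759 D10176
theorem N6034 : nd 6034 = n10177 := ndS (p := 4759) (l := 8) rfl N4759 D10177
theorem N6035 : nd 6035 = n10178 := ndS (p := 4760) (l := 3) rfl N4760 D10178
theorem N6036 : nd 6036 = n10179 := ndS (p := 4760) (l := 9) rfl N4760 D10179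
theorem N6037 : nd 6037 = n10180 := ndS (p := 4761) (l := 8) rfl N4761 D10180
theorem N6038 : nd 6038 = n10181 := ndS (p := 4762) (l := 3) rfl N4762 D10181
theorem N6039 : nd 6039 = n10182 := ndS (p := 4762) (l := 9) rfl N4762 D10182
theorem N6040 : nd 6040 = n10183 := ndS (p := 4763) (l := 4) rfl N4763 D10183
theorem N6041 : nd 6041 = n10184 := ndS (p := 4763) (l := 9) rfl N4763 D10184
theorem N6042 : nd 6042 = n10185 := ndS (p := 4765) (l := 5) rfl N4765 D10185
theorem N6043 : nd 6043 = n10186 := ndS (p := 4765) (l := 9) rfl N4765 D10186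
theorem N6044 : nd 6044 = n10188 := ndS (p := 4767) (l := 7) rfl N4767 D10188
theorem N6045 : nd 6045 = n10189 := ndS (p := 4767) (l := 8) rfl N4767 D10189
theorem N6046 : nd 6046 = n10190 := ndS (p := 4768) (l := 8) rfl N4768 D10190
theorem N6047 : nd 6047 = n10191 := ndS (p := 4769) (l := 3) rfl N4769 D10191
theorem N6048 : nd 6048 = n10192 := ndS (p := 4769) (l := 9) rfl N4769 D10192
theorem N6049 : nd 6049 = n10193 := ndS (p := 4770) (l := 2) rfl N4770 D10193
theorem N6050 : nd 6050 = n10194 := ndS (p := 4770) (l := 9) rfl N4770 D10194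
theorem N6051 : nd 6051 = n10195 := ndS (p := 4772) (l := 9) rfl N4772 D10195
theorem N6052 : nd 6052 = n10196 := ndS (p := 4774) (l := 6) rfl N4774 D10196
theorem N6053 : nd 6053 = n10197 := ndS (p := 4774) (l := 8) rfl N4774 D10197
theorem N6054 : nd 6054 = n10198 := ndS (p := 4775) (l := 3) rfl N4775 D10198
theorem N6055 : nd 6055 = n10199 := ndS (p := 4775) (l := 9) rfl N4775 D10199
theorem N6056 : nd 6056 = n10200 := ndS (p := 4776) (l := 3) rfl N4776 D10200
theorem N6057 : nd 6057 = n10201 := ndS (p := 4776) (l := 9) rfl N4776 D10201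
theorem N6058 : nd 6058 = n10202 := ndS (p := 4777) (l := 2) rfl N4777 D10202
theorem N6059 : nd 6059 = n10203 := ndS (p := 4777) (l := 9) rfl N4777 D10203
theorem N6060 : nd 6060 = n10204 := ndS (p := 4779) (l := 1) rfl N4779 D10204
theorem N6061 : nd 6061 = n10205 := ndS (p := 4779) (l := 9) rfl N4779 D10205
theorem N6062 : nd 6062 = n10206 := ndS (p := 4780) (l := 8) rfl N4780 D10206
theorem N6063 : nd 6063 = n10221 := ndS (p := 4782) (l := 5) rfl N4782 D10221
theorem N6064 : nd 6064 = n10222 := ndS (p := 4782) (l := 7) rfl N4782 D10222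
theorem N6065 : nd 6065 = n10228 := ndS (p := 4784) (l := 6) rfl N4784 D10228
theorem N6066 : nd 6066 = n10229 := ndS (p := 4784) (l := 8) rfl N4784 D10229
theorem N6067 : nd 6067 = n10230 := ndS (p := 4785) (l := 5) rfl N4785 D10230
theorem N6068 : nd 6068 = n10231 := ndS (p := 4785) (l := 7) rfl N4785 D10231
theorem N6069 : nd 6069 = n10242 := ndS (p := 4787) (l := 7) rfl N4787 D10242
theorem N6070 : nd 6070 = n10243 := ndS (p := 4787) (l := 8) rfl N4787 D10243
theorem N6071 : nd 6071 = n10244 := ndS (p := 4788) (l := 8) rfl N4788 D10244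
theorem N6072 : nd 6072 = n10245 := ndS (p := 4789) (l := 3) rfl N4789 D10245
theorem N6073 : nd 6073 = n10247 := ndS (p := 4790) (l := 2) rfl N4790 D10247
theorem N6074 : nd 6074 = n10250 := ndS (p := 4792) (l := 6) rfl N4792 D10250
theorem N6075 : nd 6075 = n10251 := ndS (p := 4792) (l := 8) rfl N4792 D10251
theorem N6076 : nd 6076 = n10252 := ndS (p := 4793) (l := 3) rfl N4793 D10252
theorem N6077 : nd 6077 = n10253 := ndS (p := 4793) (l := 9) rfl N4793 D10253
theorem N6078 : nd 6078 = n10254 := ndS (p := 4794) (l := 3) rfl N4794 D10254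
theorem N6079 : nd 6079 = n10255 := ndS (p := 4794) (l := 9) rfl N4794 D10255
theorem N6080 : nd 6080 = n10256 := ndS (p := 4795) (l := 2) rfl N4795 D10256
theorem N6081 : nd 6081 = n10257 := ndS (p := 4795) (l := 9) rfl N4795 D10257
theorem N6082 : nd 6082 = n10258 := ndS (p := 4797) (l := 1) rfl N4797 D10258
theorem N6083 : nd 6083 = n10259 := ndS (p := 4797) (l := 9) rfl N4797 D10259
theorem N6084 : nd 6084 = n10260 := ndS (p := 4798) (l := 8) rfl N4798 D10260
theorem N6085 : nd 6085 = n10267 := ndS (p := 4800) (l := 6) rfl N4800 D10267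
theorem N6086 : nd 6086 = n10268 := ndS (p := 4800) (l := 8) rfl N4800 D10268
theorem N6087 : nd 6087 = n10269 := ndS (p := 4801) (l := 5) rfl N4801 D10269
theorem N6088 : nd 6088 = n10270 := ndS (p := 4801) (l := 7) rfl N4801 D10270
theorem N6089 : nd 6089 = n10276 := ndS (p := 4803) (l := 7) rfl N4803 D10276
theorem N6090 : nd 6090 = n10277 := ndS (p := 4803) (l := 8) rfl N4803 D10277
theorem N6091 : nd 6091 = n10278 := ndS (p := 4804) (l := 8) rfl N4804 D10278
theorem N6092 : nd 6092 = n10279 := ndS (p := 4805) (l := 3) rfl N4805 D10279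
theorem N6093 : nd 6093 = n10281 := ndS (p := 4806) (l := 2) rfl N4806 D10281
theorem N6094 : nd 6094 = n10284 := ndS (p := 4808) (l := 5) rfl N4808 D10284
theorem N6095 : nd 6095 = n10285 := ndS (p := 4808) (l := 7) rfl N4808 D10285
theorem N6096 : nd 6096 = n10286 := ndS (p := 4808) (l := 8) rfl N4808 D10286
theorem N6097 : nd 6097 = n10287 := ndS (p := 4809) (l := 3) rfl N4809 D10287
theorem N6098 : nd 6098 = n10288 := ndS (p := 4809) (l := 9) rfl N4809 D10288
theorem N6099 : nd 6099 = n10289 := ndS (p := 4810) (l := 7) rfl N4810 D10289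
theorem N6100 : nd 6100 = n10290 := ndS (p := 4810) (l := 8) rfl N4810 D10290
theorem N6101 : nd 6101 = n10291 := ndS (p := 4811) (l := 8) rfl N4811 D10291
theorem N6102 : nd 6102 = n10292 := ndS (p := 4812) (l := 3) rfl N4812 D10292
theorem N6103 : nd 6103 = n10294 := ndS (p := 4813) (l := 2) rfl N4813 D10294
theorem N6104 : nd 6104 = n10297 := ndS (p := 4815) (l := 6) rfl N4815 D10297
theorem N6105 : nd 6105 = n10298 := ndS (p := 4815) (l := 8) rfl N4815 D10298
theorem N6106 : nd 6106 = n10299 := ndS (p := 4816) (l := 3) rfl N4816 D10299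
theorem N6107 : nd 6107 = n10300 := ndS (p := 4816) (l := 9) rfl N4816 D10300
theorem N6108 : nd 6108 = n10301 := ndS (p := 4817) (l := 3) rfl N4817 D10301
theorem N6109 : nd 6109 = n10302 := ndS (p := 4817) (l := 9) rfl N4817 D10302
theorem N6110 : nd 6110 = n10303 := ndS (p := 4818) (l := 2) rfl N4818 D10303
theorem N6111 : nd 6111 = n10304 := ndS (p := 4818) (l := 9) rfl N4818 D10304
theorem N6112 : nd 6112 = n10305 := ndS (p := 4820) (l := 1) rfl N4820 D10305
theorem N6113 : nd 6113 = n10306 := ndS (p := 4820) (l := 9) rfl N4820 D10306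
theorem N6114 : nd 6114 = n10307 := ndS (p := 4821) (l := 8) rfl N4821 D10307
theorem N6115 : nd 6115 = n10308 := ndS (p := 4823) (l := 8) rfl N4823 D10308
theorem N6116 : nd 6116 = n10309 := ndS (p := 4824) (l := 3) rfl N4824 D10309
theorem N6117 : nd 6117 = n10310 := ndS (p := 4824) (l := 9) rfl N4824 D10310
theorem N6118 : nd 6118 = n10311 := ndS (p := 4825) (l := 2) rfl N4825 D10311
theorem N6119 : nd 6119 = n10312 := ndS (p := 4825) (l := 4) rfl N4825 D10312
theorem N6120 : nd 6120 = n10313 := ndS (p := 4825) (l := 9) rfl N4825 D10313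
theorem N6121 : nd 6121 = n10314 := ndS (p := 4827) (l := 2) rfl N4827 D10314
theorem N6122 : nd 6122 = n10315 := ndS (p := 4827) (l := 9) rfl N4827 D10315
theorem N6123 : nd 6123 = n10316 := ndS (p := 4829) (l := 1) rfl N4829 D10316
theorem N6124 : nd 6124 = n10317 := ndS (p := 4829) (l := 9) rfl N4829 D10317
theorem N6125 : nd 6125 = n10318 := ndS (p := 4830) (l := 8) rfl N4830 D10318
theorem N6126 : nd 6126 = n10319 := ndS (p := 4831) (l := 0) rfl N4831 D10319
theorem N6127 : nd 6127 = n10320 := ndS (p := 4831) (l := 9) rfl N4831 D10320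
theorem N6128 : nd 6128 = n10321 := ndS (p := 4832) (l := 8) rfl N4832 D10321
theorem N6129 : nd 6129 = n10324 := ndS (p := 4834) (l := 4) rfl N4834 D10324
theorem N6130 : nd 6130 = n10325 := ndS (p := 4834) (l := 6) rfl N4834 D10325
theorem N6131 : nd 6131 = n10326 := ndS (p := 4834) (l := 8) rfl N4834 D10326
theorem N6132 : nd 6132 = n10328 := ndS (p := 4835) (l := 9) rfl N4835 D10328
theorem N6133 : nd 6133 = n10329 := ndS (p := 4836) (l := 6) rfl N4836 D10329
theorem N6134 : nd 6134 = n10330 := ndS (p := 4836) (l := 8) rfl N4836 D10330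
theorem N6135 : nd 6135 = n10331 := ndS (p := 4837) (l := 7) rfl N4837 D10331
theorem N6136 : nd 6136 = n10332 := ndS (p := 4837) (l := 8) rfl N4837 D10332
theorem N6137 : nd 6137 = n10333 := ndS (p := 4838) (l := 9) rfl N4838 D10333
theorem N6138 : nd 6138 = n10334 := ndS (p := 4841) (l := 3) rfl N4841 D10334
theorem N6139 : nd 6139 = n10335 := ndS (p := 4841) (l := 6) rfl N4841 D10335
theorem N6140 : nd 6140 = n10336 := ndS (p := 4841) (l := 8) rfl N4841 D10336
theorem N6141 : nd 6141 = n10337 := ndS (p := 4842) (l := 7) rfl N4842 D10337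
theorem N6142 : nd 6142 = n10338 := ndS (p := 4842) (l := 8) rfl N4842 D10338
theorem N6143 : nd 6143 = n10339 := ndS (p := 4843) (l := 3) rfl N4843 D10339
theorem N6144 : nd 6144 = n10340 := ndS (p := 4843) (l := 9) rfl N4843 D10340
theorem N6145 : nd 6145 = n10341 := ndS (p := 4844) (l := 4) rfl N4844 D10341
theorem N6146 : nd 6146 = n10342 := ndS (p := 4844) (l := 9) rfl N4844 D10342
theorem N6147 : nd 6147 = n10343 := ndS (p := 4846) (l := 5) rfl N4846 D10343
theorem N6148 : nd 6148 = n10344 := ndS (p := 4846) (l := 7) rfl N4846 D10344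
theorem N6149 : nd 6149 = n10345 := ndS (p := 4846) (l := 8) rfl N4846 D10345
theorem N6150 : nd 6150 = n10346 := ndS (p := 4847) (l := 3) rfl N4847 D10346
theorem N6151 : nd 6151 = n10347 := ndS (p := 4847) (l := 9) rfl N4847 D10347
theorem N6152 : nd 6152 = n10348 := ndS (p := 4848) (l := 8) rfl N4848 D10348
theorem N6153 : nd 6153 = n10349 := ndS (p := 4849) (l := 9) rfl N4849 D10349
theorem N6154 : nd 6154 = n10350 := ndS (p := 4851) (l := 7) rfl N4851 D10350
theorem N6155 : nd 6155 = n10351 := ndS (p := 4851) (l := 8) rfl N4851 D10351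
theorem N6156 : nd 6156 = n10352 := ndS (p := 4852) (l := 8) rfl N4852 D10352
theorem N6157 : nd 6157 = n10353 := ndS (p := 4853) (l := 3) rfl N4853 D10353
theorem N6158 : nd 6158 = n10354 := ndS (p := 4853) (l := 9) rfl N4853 D10354
theorem N6159 : nd 6159 = n10355 := ndS (p := 4854) (l := 2) rfl N4854 D10355
theorem N6160 : nd 6160 = n10356 := ndS (p := 4854) (l := 9) rfl N4854 D10356
theorem N6161 : nd 6161 = n10357 := ndS (p := 4856) (l := 9) rfl N4856 D10357
theorem N6162 : nd 6162 = n10363 := ndS (p := 4858) (l := 3) rfl N4858 D10363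
theorem N6163 : nd 6163 = n10364 := ndS (p := 4858) (l := 6) rfl N4858 D10364
theorem N6164 : nd 6164 = n10365 := ndS (p := 4858) (l := 8) rfl N4858 D10365
theorem N6165 : nd 6165 = n10366 := ndS (p := 4859) (l := 7) rfl N4859 D10366
theorem N6166 : nd 6166 = n10367 := ndS (p := 4859) (l := 8) rfl N4859 D10367
theorem N6167 : nd 6167 = n10369 := ndS (p := 4860) (l := 9) rfl N4860 D10369
theorem N6168 : nd 6168 = n10372 := ndS (p := 4862) (l := 5) rfl N4862 D10372
theorem N6169 : nd 6169 = n10373 := ndS (p := 4862) (l := 7) rfl N4862 D10373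
theorem N6170 : nd 6170 = n10374 := ndS (p := 4862) (l := 8) rfl N4862 D10374
theorem N6171 : nd 6171 = n10375 := ndS (p := 4863) (l := 3) rfl N4863 D10375
theorem N6172 : nd 6172 = n10376 := ndS (p := 4863) (l := 9) rfl N4863 D10376
theorem N6173 : nd 6173 = n10377 := ndS (p := 4864) (l := 8) rfl N4864 D10377
theorem N6174 : nd 6174 = n10378 := ndS (p := 4865) (l := 9) rfl N4865 D10378
theorem N6175 : nd 6175 = n10379 := ndS (p := 4867) (l := 6) rfl N4867 D10379
theorem N6176 : nd 6176 = n10380 := ndS (p := 4867) (l := 8) rfl N4867 D10380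
theorem N6177 : nd 6177 = n10381 := ndS (p := 4868) (l := 5) rfl N4868 D10381
theorem N6178 : nd 6178 = n10382 := ndS (p := 4868) (l := 7) rfl N4868 D10382
theorem N6179 : nd 6179 = n10383 := ndS (p := 4868) (l := 8) rfl N4868 D10383
theorem N6180 : nd 6180 = n10384 := ndS (p := 4869) (l := 3) rfl N4869 D10384
theorem N6181 : nd 6181 = n10385 := ndS (p := 4869) (l := 9) rfl N4869 D10385
theorem N6182 : nd 6182 = n10386 := ndS (p := 4870) (l := 8) rfl N4870 D10386
theorem N6183 : nd 6183 = n10387 := ndS (p := 4871) (l := 3) rfl N4871 D10387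
theorem N6184 : nd 6184 = n10388 := ndS (p := 4871) (l := 9) rfl N4871 D10388
theorem N6185 : nd 6185 = n10389 := ndS (p := 4872) (l := 4) rfl N4872 D10389
theorem N6186 : nd 6186 = n10390 := ndS (p := 4872) (l := 9) rfl N4872 D10390
theorem N6187 : nd 6187 = n10391 := ndS (p := 4874) (l := 5) rfl N4874 D10391
theorem N6188 : nd 6188 = n10392 := ndS (p := 4874) (l := 9) rfl N4874 D10392
theorem N6189 : nd 6189 = n10394 := ndS (p := 4876) (l := 7) rfl N4876 D10394
theorem N6190 : nd 6190 = n10395 := ndS (p := 4876) (l := 8) rfl N4876 D10395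
theorem N6191 : nd 6191 = n10396 := ndS (p := 4877) (l := 8) rfl N4877 D10396
theorem N6192 : nd 6192 = n10397 := ndS (p := 4878) (l := 3) rfl N4878 D10397
theorem N6193 : nd 6193 = n10398 := ndS (p := 4878) (l := 9) rfl N4878 D10398
theorem N6194 : nd 6194 = n10399 := ndS (p := 4879) (l := 2) rfl N4879 D10399
theorem N6195 : nd 6195 = n10400 := ndS (p := 4879) (l := 9) rfl N4879 D10400
theorem N6196 : nd 6196 = n10401 := ndS (p := 4881) (l := 9) rfl N4881 D10401
theorem N6197 : nd 6197 = n10402 := ndS (p := 4883) (l := 6) rfl N4883 D10402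
theorem N6198 : nd 6198 = n10403 := ndS (p := 4883) (l := 8) rfl N4883 D10403
theorem N6199 : nd 6199 = n10404 := ndS (p := 4884) (l := 3) rfl N4884 D10404
theorem N6200 : nd 6200 = n10405 := ndS (p := 4884) (l := 9) rfl N4884 D10405
theorem N6201 : nd 6201 = n10406 := ndS (p := 4885) (l := 3) rfl N4885 D10406
theorem N6202 : nd 6202 = n10407 := ndS (p := 4885) (l := 9) rfl N4885 D10407
theorem N6203 : nd 6203 = n10408 := ndS (p := 4886) (l := 2) rfl N4886 D10408
theorem N6204 : nd 6204 = n10409 := ndS (p := 4886) (l := 9) rfl N4886 D10409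
theorem N6205 : nd 6205 = n10410 := ndS (p := 4888) (l := 1) rfl N4888 D10410
theorem N6206 : nd 6206 = n10411 := ndS (p := 4888) (l := 9) rfl N4888 D10411
theorem N6207 : nd 6207 = n10412 := ndS (p := 4889) (l := 8) rfl N4889 D10412
theorem N6208 : nd 6208 = n10422 := ndS (p := 4891) (l := 5) rfl N4891 D10422
theorem N6209 : nd 6209 = n10423 := ndS (p := 4891) (l := 7) rfl N4891 D10423
theorem N6210 : nd 6210 = n10424 := ndS (p := 4891) (l := 8) rfl N4891 D10424
theorem N6211 : nd 6211 = n10425 := ndS (p := 4892) (l := 3) rfl N4892 D10425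
theorem N6212 : nd 6212 = n10426 := ndS (p := 4892) (l := 9) rfl N4892 D10426
theorem N6213 : nd 6213 = n10427 := ndS (p := 4893) (l := 8) rfl N4893 D10427
theorem N6214 : nd 6214 = n10429 := ndS (p := 4894) (l := 9) rfl N4894 D10429
theorem N6215 : nd 6215 = n10435 := ndS (p := 4896) (l := 7) rfl N4896 D10435
theorem N6216 : nd 6216 = n10436 := ndS (p := 4896) (l := 8) rfl N4896 D10436
theorem N6217 : nd 6217 = n10437 := ndS (p := 4897) (l := 8) rfl N4897 D10437
theorem N6218 : nd 6218 = n10438 := ndS (p := 4898) (l := 3) rfl N4898 D10438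
theorem N6219 : nd 6219 = n10439 := ndS (p := 4898) (l := 9) rfl N4898 D10439
theorem N6220 : nd 6220 = n10440 := ndS (p := 4899) (l := 2) rfl N4899 D10440
theorem N6221 : nd 6221 = n10441 := ndS (p := 4899) (l := 9) rfl N4899 D10441
theorem N6222 : nd 6222 = n10442 := ndS (p := 4901) (l := 9) rfl N4901 D10442
theorem N6223 : nd 6223 = n10443 := ndS (p := 4903) (l := 7) rfl N4903 D10443
theorem N6224 : nd 6224 = n10444 := ndS (p := 4903) (l := 8) rfl N4903 D10444
theorem N6225 : nd 6225 = n10445 := ndS (p := 4904) (l := 8) rfl N4904 D10445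
theorem N6226 : nd 6226 = n10446 := ndS (p := 4905) (l := 3) rfl N4905 D10446
theorem N6227 : nd 6227 = n10447 := ndS (p := 4905) (l := 9) rfl N4905 D10447
theorem N6228 : nd 6228 = n10448 := ndS (p := 4906) (l := 2) rfl N4906 D10448
theorem N6229 : nd 6229 = n10449 := ndS (p := 4906) (l := 4) rfl N4906 D10449
theorem N6230 : nd 6230 = n10450 := ndS (p := 4906) (l := 9) rfl N4906 D10450
theorem N6231 : nd 6231 = n10451 := ndS (p := 4908) (l := 3) rfl N4908 D10451
theorem N6232 : nd 6232 = n10452 := ndS (p := 4908) (l := 9) rfl N4908 D10452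
theorem N6233 : nd 6233 = n10453 := ndS (p := 4909) (l := 4) rfl N4909 D10453
theorem N6234 : nd 6234 = n10454 := ndS (p := 4909) (l := 9) rfl N4909 D10454
theorem N6235 : nd 6235 = n10455 := ndS (p := 4911) (l := 5) rfl N4911 D10455
theorem N6236 : nd 6236 = n10456 := ndS (p := 4911) (l := 9) rfl N4911 D10456
theorem N6237 : nd 6237 = n10458 := ndS (p := 4913) (l := 6) rfl N4913 D10458
theorem N6238 : nd 6238 = n10459 := ndS (p := 4913) (l := 9) rfl N4913 D10459
theorem N6239 : nd 6239 = n10461 := ndS (p := 4915) (l := 6) rfl N4915 D10461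
theorem N6240 : nd 6240 = n10462 := ndS (p := 4915) (l := 8) rfl N4915 D10462
theorem N6241 : nd 6241 = n10463 := ndS (p := 4916) (l := 3) rfl N4916 D10463
theorem N6242 : nd 6242 = n10464 := ndS (p := 4916) (l := 9) rfl N4916 D10464
theorem N6243 : nd 6243 = n10465 := ndS (p := 4917) (l := 3) rfl N4917 D10465
theorem N6244 : nd 6244 = n10466 := ndS (p := 4917) (l := 9) rfl N4917 D10466
theorem N6245 : nd 6245 = n10467 := ndS (p := 4918) (l := 2) rfl N4918 D10467
theorem N6246 : nd 6246 = n10468 := ndS (p := 4918) (l := 9) rfl N4918 D10468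
theorem N6247 : nd 6247 = n10469 := ndS (p := 4920) (l := 1) rfl N4920 D10469
theorem N6248 : nd 6248 = n10470 := ndS (p := 4920) (l := 9) rfl N4920 D10470
theorem N6249 : nd 6249 = n10471 := ndS (p := 4921) (l := 8) rfl N4921 D10471
theorem N6250 : nd 6250 = n10472 := ndS (p := 4923) (l := 8) rfl N4923 D10472
theorem N6251 : nd 6251 = n10473 := ndS (p := 4924) (l := 3) rfl N4924 D10473
theorem N6252 : nd 6252 = n10474 := ndS (p := 4924) (l := 9) rfl N4924 D10474
theorem N6253 : nd 6253 = n10475 := ndS (p := 4925) (l := 2) rfl N4925 D10475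
theorem N6254 : nd 6254 = n10476 := ndS (p := 4925) (l := 4) rfl N4925 D10476
theorem N6255 : nd 6255 = n10477 := ndS (p := 4925) (l := 9) rfl N4925 D10477
theorem N6256 : nd 6256 = n10478 := ndS (p := 4927) (l := 2) rfl N4927 D10478
theorem N6257 : nd 6257 = n10479 := ndS (p := 4927) (l := 9) rfl N4927 D10479
theorem N6258 : nd 6258 = n10480 := ndS (p := 4929) (l := 1) rfl N4929 D10480
theorem N6259 : nd 6259 = n10481 := ndS (p := 4929) (l := 9) rfl N4929 D10481
theorem N6260 : nd 6260 = n10482 := ndS (p := 4930) (l := 8) rfl N4930 D10482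
theorem N6261 : nd 6261 = n10483 := ndS (p := 4931) (l := 0) rfl N4931 D10483
theorem N6262 : nd 6262 = n10484 := ndS (p := 4931) (l := 9) rfl N4931 D10484
theorem N6263 : nd 6263 = n10485 := ndS (p := 4932) (l := 8) rfl N4932 D10485
theorem N6264 : nd 6264 = n10486 := ndS (p := 4934) (l := 6) rfl N4934 D10486
theorem N6265 : nd 6265 = n10487 := ndS (p := 4934) (l := 8) rfl N4934 D10487
theorem N6266 : nd 6266 = n10488 := ndS (p := 4935) (l := 3) rfl N4935 D10488
theorem N6267 : nd 6267 = n10489 := ndS (p := 4935) (l := 9) rfl N4935 D10489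
theorem N6268 : nd 6268 = n10490 := ndS (p := 4936) (l := 3) rfl N4936 D10490
theorem N6269 : nd 6269 = n10491 := ndS (p := 4936) (l := 9) rfl N4936 D10491
theorem N6270 : nd 6270 = n10492 := ndS (p := 4937) (l := 2) rfl N4937 D10492
theorem N6271 : nd 6271 = n10493 := ndS (p := 4937) (l := 9) rfl N4937 D10493
theorem N6272 : nd 6272 = n10494 := ndS (p := 4939) (l := 1) rfl N4939 D10494
theorem N6273 : nd 6273 = n10495 := ndS (p := 4939) (l := 9) rfl N4939 D10495
theorem N6274 : nd 6274 = n10496 := ndS (p := 4940) (l := 8) rfl N4940 D10496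
theorem N6275 : nd 6275 = n10498 := ndS (p := 4943) (l := 3) rfl N4943 D10498
theorem N6276 : nd 6276 = n10500 := ndS (p := 4944) (l := 2) rfl N4944 D10500
theorem N6277 : nd 6277 = n10501 := ndS (p := 4944) (l := 4) rfl N4944 D10501
theorem N6278 : nd 6278 = n10502 := ndS (p := 4944) (l := 9) rfl N4944 D10502
theorem N6279 : nd 6279 = n10503 := ndS (p := 4946) (l := 2) rfl N4946 D10503
theorem N6280 : nd 6280 = n10504 := ndS (p := 4946) (l := 9) rfl N4946 D10504
theorem N6281 : nd 6281 = n10505 := ndS (p := 4948) (l := 1) rfl N4948 D10505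
theorem N6282 : nd 6282 = n10506 := ndS (p := 4948) (l := 9) rfl N4948 D10506
theorem N6283 : nd 6283 = n10507 := ndS (p := 4949) (l := 8) rfl N4949 D10507
theorem N6284 : nd 6284 = n10508 := ndS (p := 4950) (l := 0) rfl N4950 D10508
theorem N6285 : nd 6285 = n10509 := ndS (p := 4950) (l := 9) rfl N4950 D10509
theorem N6286 : nd 6286 = n10510 := ndS (p := 4951) (l := 8) rfl N4951 D10510
theorem N6287 : nd 6287 = n10524 := ndS (p := 4957) (l := 0) rfl N4957 D10524
theorem N6288 : nd 6288 = n10527 := ndS (p := 4959) (l := 9) rfl N4959 D10527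
theorem N6289 : nd 6289 = n10528 := ndS (p := 4960) (l := 8) rfl N4960 D10528
theorem N6290 : nd 6290 = n10554 := ndS (p := 4964) (l := 8) rfl N4964 D10554
theorem N6291 : nd 6291 = n10555 := ndS (p := 4964) (l := 9) rfl N4964 D10555
theorem N6292 : nd 6292 = n10567 := ndS (p := 4967) (l := 4) rfl N4967 D10567
theorem N6293 : nd 6293 = n10570 := ndS (p := 4968) (l := 5) rfl N4968 D10570
theorem N6294 : nd 6294 = n10575 := ndS (p := 4969) (l := 6) rfl N4969 D10575
theorem N6295 : nd 6295 = n10577 := ndS (p := 4970) (l := 3) rfl N4970 D10577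
theorem N6296 : nd 6296 = n10578 := ndS (p := 4970) (l := 5) rfl N4970 D10578
theorem N6297 : nd 6297 = n10585 := ndS (p := 4975) (l := 2) rfl N4975 D10585
theorem N6298 : nd 6298 = n10609 := ndS (p := 4977) (l := 6) rfl N4977 D10609
theorem N6299 : nd 6299 = n10616 := ndS (p := 4978) (l := 7) rfl N4978 D10616
theorem N6300 : nd 6300 = n10619 := ndS (p := 4979) (l := 2) rfl N4979 D10619
theorem N6301 : nd 6301 = n10620 := ndS (p := 4979) (l := 5) rfl N4979 D10620
theorem N6302 : nd 6302 = n10622 := ndS (p := 4980) (l := 6) rfl N4980 D10622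
theorem N6303 : nd 6303 = n10628 := ndS (p := 4984) (l := 2) rfl N4984 D10628
theorem N6304 : nd 6304 = n10630 := ndS (p := 4984) (l := 8) rfl N4984 D10630
theorem N6305 : nd 6305 = n10632 := ndS (p := 4986) (l := 5) rfl N4986 D10632
theorem N6306 : nd 6306 = n10633 := ndS (p := 4986) (l := 8) rfl N4986 D10633
theorem N6307 : nd 6307 = n10667 := ndS (p := 4990) (l := 7) rfl N4990 D10667
theorem N6308 : nd 6308 = n10683 := ndS (p := 4992) (l := 5) rfl N4992 D10683
theorem N6309 : nd 6309 = n10685 := ndS (p := 4993) (l := 4) rfl N4993 D10685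
theorem N6310 : nd 6310 = n10686 := ndS (p := 4993) (l := 6) rfl N4993 D10686
theorem N6311 : nd 6311 = n10689 := ndS (p := 4994) (l := 7) rfl N4994 D10689
theorem N6312 : nd 6312 = n10696 := ndS (p := 4998) (l := 5) rfl N4998 D10696
theorem N6313 : nd 6313 = n10698 := ndS (p := 4999) (l := 4) rfl N4999 D10698
theorem N6314 : nd 6314 = n10700 := ndS (p := 4999) (l := 8) rfl N4999 D10700
theorem N6315 : nd 6315 = n10703 := ndS (p := 5002) (l := 4) rfl N5002 D10703
theorem N6316 : nd 6316 = n10704 := ndS (p := 5002) (l := 6) rfl N5002 D10704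
theorem N6317 : nd 6317 = n10705 := ndS (p := 5002) (l := 8) rfl N5002 D10705
theorem N6318 : nd 6318 = n10742 := ndS (p := 5009) (l := 5) rfl N5009 D10742
theorem N6319 : nd 6319 = n10744 := ndS (p := 5010) (l := 4) rfl N5010 D10744
theorem N6320 : nd 6320 = n10745 := ndS (p := 5010) (l := 6) rfl N5010 D10745
theorem N6321 : nd 6321 = n10754 := ndS (p := 5015) (l := 1) rfl N5015 D10754
theorem N6322 : nd 6322 = n10755 := ndS (p := 5015) (l := 5) rfl N5015 D10755
theorem N6323 : nd 6323 = n10756 := ndS (p := 5015) (l := 8) rfl N5015 D10756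
theorem N6324 : nd 6324 = n10759 := ndS (p := 5016) (l := 8) rfl N5016 D10759
theorem N6325 : nd 6325 = n10762 := ndS (p := 5019) (l := 4) rfl N5019 D10762
theorem N6326 : nd 6326 = n10763 := ndS (p := 5019) (l := 6) rfl N5019 D10763
theorem N6327 : nd 6327 = n10764 := ndS (p := 5019) (l := 8) rfl N5019 D10764
theorem N6328 : nd 6328 = n10765 := ndS (p := 5020) (l := 3) rfl N5020 D10765
theorem N6329 : nd 6329 = n10771 := ndS (p := 5023) (l := 9) rfl N5023 D10771
theorem N6330 : nd 6330 = n10814 := ndS (p := 5027) (l := 4) rfl N5027 D10814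
theorem N6331 : nd 6331 = n10815 := ndS (p := 5027) (l := 6) rfl N5027 D10815
theorem N6332 : nd 6332 = n10819 := ndS (p := 5028) (l := 6) rfl N5028 D10819
theorem N6333 : nd 6333 = n10821 := ndS (p := 5029) (l := 7) rfl N5029 D10821
theorem N6334 : nd 6334 = n10831 := ndS (p := 5033) (l := 5) rfl N5033 D10831
theorem N6335 : nd 6335 = n10833 := ndS (p := 5034) (l := 4) rfl N5034 D10833
theorem N6336 : nd 6336 = n10834 := ndS (p := 5034) (l := 6) rfl N5034 D10834
theorem N6337 : nd 6337 = n10835 := ndS (p := 5034) (l := 8) rfl N5034 D10835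
theorem N6338 : nd 6338 = n10839 := ndS (p := 5036) (l := 8) rfl N5036 D10839
theorem N6339 : nd 6339 = n10841 := ndS (p := 5037) (l := 8) rfl N5037 D10841
theorem N6340 : nd 6340 = n10843 := ndS (p := 5040) (l := 3) rfl N5040 D10843
theorem N6341 : nd 6341 = n10844 := ndS (p := 5040) (l := 6) rfl N5040 D10844
theorem N6342 : nd 6342 = n10845 := ndS (p := 5040) (l := 8) rfl N5040 D10845
theorem N6343 : nd 6343 = n10846 := ndS (p := 5041) (l := 7) rfl N5041 D10846
theorem N6344 : nd 6344 = n10847 := ndS (p := 5041) (l := 8) rfl N5041 D10847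
theorem N6345 : nd 6345 = n10848 := ndS (p := 5042) (l := 3) rfl N5042 D10848
theorem N6346 : nd 6346 = n10850 := ndS (p := 5043) (l := 4) rfl N5043 D10850
theorem N6347 : nd 6347 = n10856 := ndS (p := 5045) (l := 9) rfl N5045 D10856
theorem N6348 : nd 6348 = n10858 := ndS (p := 5047) (l := 9) rfl N5047 D10858
theorem N6349 : nd 6349 = n10920 := ndS (p := 5051) (l := 3) rfl N5051 D10920
theorem N6350 : nd 6350 = n10921 := ndS (p := 5051) (l := 6) rfl N5051 D10921
theorem N6351 : nd 6351 = n10923 := ndS (p := 5052) (l := 7) rfl N5052 D10923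
theorem N6352 : nd 6352 = n10929 := ndS (p := 5053) (l := 5) rfl N5053 D10929
theorem N6353 : nd 6353 = n10930 := ndS (p := 5053) (l := 7) rfl N5053 D10930
theorem N6354 : nd 6354 = n10944 := ndS (p := 5057) (l := 4) rfl N5057 D10944
theorem N6355 : nd 6355 = n10945 := ndS (p := 5057) (l := 6) rfl N5057 D10945
theorem N6356 : nd 6356 = n10949 := ndS (p := 5058) (l := 3) rfl N5058 D10949
theorem N6357 : nd 6357 = n10950 := ndS (p := 5058) (l := 6) rfl N5058 D10950
theorem N6358 : nd 6358 = n10951 := ndS (p := 5058) (l := 8) rfl N5058 D10951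
theorem N6359 : nd 6359 = n10952 := ndS (p := 5059) (l := 7) rfl N5059 D10952
theorem N6360 : nd 6360 = n10953 := ndS (p := 5059) (l := 8) rfl N5059 D10953
theorem N6361 : nd 6361 = n10960 := ndS (p := 5061) (l := 8) rfl N5061 D10960
theorem N6362 : nd 6362 = n10961 := ndS (p := 5062) (l := 3) rfl N5062 D10961
theorem N6363 : nd 6363 = n10963 := ndS (p := 5063) (l := 8) rfl N5063 D10963
theorem N6364 : nd 6364 = n10965 := ndS (p := 5065) (l := 6) rfl N5065 D10965
theorem N6365 : nd 6365 = n10966 := ndS (p := 5065) (l := 8) rfl N5065 D10966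
theorem N6366 : nd 6366 = n10967 := ndS (p := 5066) (l := 5) rfl N5066 D10967
theorem N6367 : nd 6367 = n10968 := ndS (p := 5066) (l := 7) rfl N5066 D10968
theorem N6368 : nd 6368 = n10969 := ndS (p := 5066) (l := 8) rfl N5066 D10969
theorem N6369 : nd 6369 = n10970 := ndS (p := 5067) (l := 3) rfl N5067 D10970
theorem N6370 : nd 6370 = n10972 := ndS (p := 5068) (l := 8) rfl N5068 D10972
theorem N6371 : nd 6371 = n10973 := ndS (p := 5069) (l := 3) rfl N5069 D10973
theorem N6372 : nd 6372 = n10975 := ndS (p := 5070) (l := 4) rfl N5070 D10975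
theorem N6373 : nd 6373 = n10977 := ndS (p := 5071) (l := 5) rfl N5071 D10977
theorem N6374 : nd 6374 = n10984 := ndS (p := 5074) (l := 9) rfl N5074 D10984
theorem N6375 : nd 6375 = n10985 := ndS (p := 5075) (l := 2) rfl N5075 D10985
theorem N6376 : nd 6376 = n10986 := ndS (p := 5075) (l := 9) rfl N5075 D10986
theorem N6377 : nd 6377 = n10987 := ndS (p := 5077) (l := 9) rfl N5077 D10987
theorem N6378 : nd 6378 = n10997 := ndS (p := 5082) (l := 5) rfl N5082 D10997
theorem N6379 : nd 6379 = n10999 := ndS (p := 5083) (l := 4) rfl N5083 D10999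
theorem N6380 : nd 6380 = n11000 := ndS (p := 5083) (l := 6) rfl N5083 D11000
theorem N6381 : nd 6381 = n11003 := ndS (p := 5084) (l := 7) rfl N5084 D11003
theorem N6382 : nd 6382 = n11004 := ndS (p := 5085) (l := 4) rfl N5085 D11004
theorem N6383 : nd 6383 = n11005 := ndS (p := 5085) (l := 6) rfl N5085 D11005
theorem N6384 : nd 6384 = n11006 := ndS (p := 5085) (l := 8) rfl N5085 D11006
theorem N6385 : nd 6385 = n11023 := ndS (p := 5094) (l := 4) rfl N5094 D11023
theorem N6386 : nd 6386 = n11024 := ndS (p := 5094) (l := 6) rfl N5094 D11024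
theorem N6387 : nd 6387 = n11033 := ndS (p := 5098) (l := 3) rfl N5098 D11033
theorem N6388 : nd 6388 = n11038 := ndS (p := 5100) (l := 3) rfl N5100 D11038
theorem N6389 : nd 6389 = n11040 := ndS (p := 5101) (l := 4) rfl N5101 D11040
theorem N6390 : nd 6390 = n11059 := ndS (p := 5102) (l := 4) rfl N5102 D11059
theorem N6391 : nd 6391 = n11060 := ndS (p := 5102) (l := 6) rfl N5102 D11060
theorem N6392 : nd 6392 = n11064 := ndS (p := 5103) (l := 6) rfl N5103 D11064
theorem N6393 : nd 6393 = n11066 := ndS (p := 5104) (l := 7) rfl N5104 D11066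
theorem N6394 : nd 6394 = n11069 := ndS (p := 5106) (l := 3) rfl N5106 D11069
theorem N6395 : nd 6395 = n11070 := ndS (p := 5106) (l := 6) rfl N5106 D11070
theorem N6396 : nd 6396 = n11071 := ndS (p := 5106) (l := 8) rfl N5106 D11071
theorem N6397 : nd 6397 = n11072 := ndS (p := 5107) (l := 7) rfl N5107 D11072
theorem N6398 : nd 6398 = n11073 := ndS (p := 5107) (l := 8) rfl N5107 D11073
theorem N6399 : nd 6399 = n11098 := ndS (p := 5118) (l := 3) rfl N5118 D11098
theorem N6400 : nd 6400 = n11099 := ndS (p := 5118) (l := 6) rfl N5118 D11099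
theorem N6401 : nd 6401 = n11101 := ndS (p := 5119) (l := 7) rfl N5119 D11101
theorem N6402 : nd 6402 = n11114 := ndS (p := 5122) (l := 6) rfl N5122 D11114
theorem N6403 : nd 6403 = n11115 := ndS (p := 5122) (l := 8) rfl N5122 D11115
theorem N6404 : nd 6404 = n11119 := ndS (p := 5124) (l := 3) rfl N5124 D11119
theorem N6405 : nd 6405 = n11122 := ndS (p := 5126) (l := 3) rfl N5126 D11122
theorem N6406 : nd 6406 = n11124 := ndS (p := 5127) (l := 4) rfl N5127 D11124
theorem N6407 : nd 6407 = n11126 := ndS (p := 5128) (l := 5) rfl N5128 D11126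
theorem N6408 : nd 6408 = n11153 := ndS (p := 5129) (l := 3) rfl N5129 D11153
theorem N6409 : nd 6409 = n11154 := ndS (p := 5129) (l := 6) rfl N5129 D11154
theorem N6410 : nd 6410 = n11156 := ndS (p := 5130) (l := 7) rfl N5130 D11156
theorem N6411 : nd 6411 = n11162 := ndS (p := 5131) (l := 5) rfl N5131 D11162
theorem N6412 : nd 6412 = n11163 := ndS (p := 5131) (l := 7) rfl N5131 D11163
theorem N6413 : nd 6413 = n11169 := ndS (p := 5133) (l := 6) rfl N5133 D11169
theorem N6414 : nd 6414 = n11170 := ndS (p := 5133) (l := 8) rfl N5133 D11170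
theorem N6415 : nd 6415 = n11171 := ndS (p := 5134) (l := 5) rfl N5134 D11171
theorem N6416 : nd 6416 = n11172 := ndS (p := 5134) (l := 7) rfl N5134 D11172
theorem N6417 : nd 6417 = n11173 := ndS (p := 5134) (l := 8) rfl N5134 D11173
theorem N6418 : nd 6418 = n11174 := ndS (p := 5135) (l := 3) rfl N5135 D11174
theorem N6419 : nd 6419 = n11176 := ndS (p := 5136) (l := 8) rfl N5136 D11176
theorem N6420 : nd 6420 = n11187 := ndS (p := 5140) (l := 3) rfl N5140 D11187
theorem N6421 : nd 6421 = n11189 := ndS (p := 5141) (l := 2) rfl N5141 D11189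
theorem N6422 : nd 6422 = n11212 := ndS (p := 5149) (l := 6) rfl N5149 D11212
theorem N6423 : nd 6423 = n11213 := ndS (p := 5149) (l := 8) rfl N5149 D11213
theorem N6424 : nd 6424 = n11214 := ndS (p := 5150) (l := 5) rfl N5150 D11214
theorem N6425 : nd 6425 = n11215 := ndS (p := 5150) (l := 7) rfl N5150 D11215
theorem N6426 : nd 6426 = n11232 := ndS (p := 5154) (l := 5) rfl N5154 D11232
theorem N6427 : nd 6427 = n11233 := ndS (p := 5154) (l := 7) rfl N5154 D11233
theorem N6428 : nd 6428 = n11234 := ndS (p := 5154) (l := 8) rfl N5154 D11234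
theorem N6429 : nd 6429 = n11235 := ndS (p := 5155) (l := 3) rfl N5155 D11235
theorem N6430 : nd 6430 = n11236 := ndS (p := 5155) (l := 9) rfl N5155 D11236
theorem N6431 : nd 6431 = n11240 := ndS (p := 5158) (l := 3) rfl N5158 D11240
theorem N6432 : nd 6432 = n11242 := ndS (p := 5159) (l := 4) rfl N5159 D11242
theorem N6433 : nd 6433 = n11244 := ndS (p := 5160) (l := 3) rfl N5160 D11244
theorem N6434 : nd 6434 = n11246 := ndS (p := 5161) (l := 4) rfl N5161 D11246
theorem N6435 : nd 6435 = n11248 := ndS (p := 5162) (l := 5) rfl N5162 D11248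
theorem N6436 : nd 6436 = n11251 := ndS (p := 5163) (l := 6) rfl N5163 D11251
theorem N6437 : nd 6437 = n11268 := ndS (p := 5164) (l := 6) rfl N5164 D11268
theorem N6438 : nd 6438 = n11269 := ndS (p := 5164) (l := 8) rfl N5164 D11269
theorem N6439 : nd 6439 = n11270 := ndS (p := 5165) (l := 5) rfl N5165 D11270
theorem N6440 : nd 6440 = n11271 := ndS (p := 5165) (l := 7) rfl N5165 D11271
theorem N6441 : nd 6441 = n11279 := ndS (p := 5167) (l := 8) rfl N5167 D11279
theorem N6442 : nd 6442 = n11280 := ndS (p := 5168) (l := 8) rfl N5168 D11280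
theorem N6443 : nd 6443 = n11281 := ndS (p := 5169) (l := 3) rfl N5169 D11281
theorem N6444 : nd 6444 = n11282 := ndS (p := 5170) (l := 2) rfl N5170 D11282
theorem N6445 : nd 6445 = n11283 := ndS (p := 5172) (l := 5) rfl N5172 D11283
theorem N6446 : nd 6446 = n11284 := ndS (p := 5172) (l := 7) rfl N5172 D11284
theorem N6447 : nd 6447 = n11285 := ndS (p := 5172) (l := 8) rfl N5172 D11285
theorem N6448 : nd 6448 = n11286 := ndS (p := 5173) (l := 3) rfl N5173 D11286
theorem N6449 : nd 6449 = n11287 := ndS (p := 5173) (l := 9) rfl N5173 D11287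
theorem N6450 : nd 6450 = n11288 := ndS (p := 5174) (l := 7) rfl N5174 D11288
theorem N6451 : nd 6451 = n11289 := ndS (p := 5174) (l := 8) rfl N5174 D11289
theorem N6452 : nd 6452 = n11290 := ndS (p := 5175) (l := 8) rfl N5175 D11290
theorem N6453 : nd 6453 = n11291 := ndS (p := 5176) (l := 3) rfl N5176 D11291
theorem N6454 : nd 6454 = n11292 := ndS (p := 5177) (l := 2) rfl N5177 D11292
theorem N6455 : nd 6455 = n11302 := ndS (p := 5182) (l := 2) rfl N5182 D11302
theorem N6456 : nd 6456 = n11303 := ndS (p := 5183) (l := 1) rfl N5183 D11303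
theorem N6457 : nd 6457 = n11306 := ndS (p := 5185) (l := 2) rfl N5185 D11306
theorem N6458 : nd 6458 = n11308 := ndS (p := 5186) (l := 2) rfl N5186 D11308
theorem N6459 : nd 6459 = n11309 := ndS (p := 5187) (l := 1) rfl N5187 D11309
theorem N6460 : nd 6460 = n11311 := ndS (p := 5189) (l := 2) rfl N5189 D11311
theorem N6461 : nd 6461 = n11312 := ndS (p := 5189) (l := 6) rfl N5189 D11312
theorem N6462 : nd 6462 = n11313 := ndS (p := 5189) (l := 8) rfl N5189 D11313
theorem N6463 : nd 6463 = n11314 := ndS (p := 5190) (l := 5) rfl N5190 D11314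
theorem N6464 : nd 6464 = n11315 := ndS (p := 5190) (l := 7) rfl N5190 D11315
theorem N6465 : nd 6465 = n11316 := ndS (p := 5192) (l := 5) rfl N5192 D11316
theorem N6466 : nd 6466 = n11317 := ndS (p := 5192) (l := 7) rfl N5192 D11317
theorem N6467 : nd 6467 = n11318 := ndS (p := 5192) (l := 8) rfl N5192 D11318
theorem N6468 : nd 6468 = n11319 := ndS (p := 5193) (l := 9) rfl N5193 D11319
theorem N6469 : nd 6469 = n11320 := ndS (p := 5194) (l := 7) rfl N5194 D11320
theorem N6470 : nd 6470 = n11322 := ndS (p := 5197) (l := 4) rfl N5197 D11322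
theorem N6471 : nd 6471 = n11323 := ndS (p := 5197) (l := 7) rfl N5197 D11323
theorem N6472 : nd 6472 = n11324 := ndS (p := 5197) (l := 8) rfl N5197 D11324
theorem N6473 : nd 6473 = n11325 := ndS (p := 5198) (l := 8) rfl N5198 D11325
theorem N6474 : nd 6474 = n11326 := ndS (p := 5199) (l := 9) rfl N5199 D11326
theorem N6475 : nd 6475 = n11333 := ndS (p := 5202) (l := 3) rfl N5202 D11333
theorem N6476 : nd 6476 = n11334 := ndS (p := 5202) (l := 6) rfl N5202 D11334
theorem N6477 : nd 6477 = n11336 := ndS (p := 5203) (l := 7) rfl N5203 D11336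
theorem N6478 : nd 6478 = n11349 := ndS (p := 5206) (l := 6) rfl N5206 D11349
theorem N6479 : nd 6479 = n11350 := ndS (p := 5206) (l := 8) rfl N5206 D11350
theorem N6480 : nd 6480 = n11354 := ndS (p := 5208) (l := 3) rfl N5208 D11354
theorem N6481 : nd 6481 = n11357 := ndS (p := 5210) (l := 3) rfl N5210 D11357
theorem N6482 : nd 6482 = n11359 := ndS (p := 5211) (l := 4) rfl N5211 D11359
theorem N6483 : nd 6483 = n11361 := ndS (p := 5212) (l := 5) rfl N5212 D11361
theorem N6484 : nd 6484 = n11392 := ndS (p := 5213) (l := 6) rfl N5213 D11392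
theorem N6485 : nd 6485 = n11393 := ndS (p := 5213) (l := 8) rfl N5213 D11393
theorem N6486 : nd 6486 = n11394 := ndS (p := 5214) (l := 7) rfl N5214 D11394
theorem N6487 : nd 6487 = n11412 := ndS (p := 5217) (l := 7) rfl N5217 D11412
theorem N6488 : nd 6488 = n11413 := ndS (p := 5217) (l := 8) rfl N5217 D11413
theorem N6489 : nd 6489 = n11414 := ndS (p := 5218) (l := 3) rfl N5218 D11414
theorem N6490 : nd 6490 = n11415 := ndS (p := 5218) (l := 9) rfl N5218 D11415
theorem N6491 : nd 6491 = n11417 := ndS (p := 5220) (l := 3) rfl N5220 D11417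
theorem N6492 : nd 6492 = n11419 := ndS (p := 5221) (l := 2) rfl N5221 D11419
theorem N6493 : nd 6493 = n11420 := ndS (p := 5221) (l := 4) rfl N5221 D11420
theorem N6494 : nd 6494 = n11422 := ndS (p := 5222) (l := 3) rfl N5222 D11422
theorem N6495 : nd 6495 = n11424 := ndS (p := 5223) (l := 4) rfl N5223 D11424
theorem N6496 : nd 6496 = n11426 := ndS (p := 5224) (l := 5) rfl N5224 D11426
theorem N6497 : nd 6497 = n11429 := ndS (p := 5225) (l := 6) rfl N5225 D11429
theorem N6498 : nd 6498 = n11468 := ndS (p := 5228) (l := 4) rfl N5228 D11468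
theorem N6499 : nd 6499 = n11470 := ndS (p := 5229) (l := 5) rfl N5229 D11470
theorem N6500 : nd 6500 = n11473 := ndS (p := 5230) (l := 6) rfl N5230 D11473
theorem N6501 : nd 6501 = n11476 := ndS (p := 5231) (l := 7) rfl N5231 D11476
theorem N6502 : nd 6502 = n11489 := ndS (p := 5232) (l := 6) rfl N5232 D11489
theorem N6503 : nd 6503 = n11490 := ndS (p := 5232) (l := 8) rfl N5232 D11490
theorem N6504 : nd 6504 = n11491 := ndS (p := 5233) (l := 5) rfl N5233 D11491
theorem N6505 : nd 6505 = n11507 := ndS (p := 5235) (l := 5) rfl N5235 D11507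
theorem N6506 : nd 6506 = n11508 := ndS (p := 5235) (l := 8) rfl N5235 D11508
theorem N6507 : nd 6507 = n11509 := ndS (p := 5236) (l := 3) rfl N5236 D11509
theorem N6508 : nd 6508 = n11510 := ndS (p := 5236) (l := 9) rfl N5236 D11510
theorem N6509 : nd 6509 = n11512 := ndS (p := 5238) (l := 3) rfl N5238 D11512
theorem N6510 : nd 6510 = n11514 := ndS (p := 5239) (l := 2) rfl N5239 D11514
theorem N6511 : nd 6511 = n11515 := ndS (p := 5239) (l := 4) rfl N5239 D11515
theorem N6512 : nd 6512 = n11517 := ndS (p := 5240) (l := 4) rfl N5240 D11517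
theorem N6513 : nd 6513 = n11519 := ndS (p := 5241) (l := 5) rfl N5241 D11519
theorem N6514 : nd 6514 = n11522 := ndS (p := 5242) (l := 6) rfl N5242 D11522
theorem N6515 : nd 6515 = n11554 := ndS (p := 5245) (l := 9) rfl N5245 D11554
theorem N6516 : nd 6516 = n11567 := ndS (p := 5246) (l := 2) rfl N5246 D11567
theorem N6517 : nd 6517 = n11568 := ndS (p := 5246) (l := 4) rfl N5246 D11568
theorem N6518 : nd 6518 = n11569 := ndS (p := 5246) (l := 9) rfl N5246 D11569
theorem N6519 : nd 6519 = n11573 := ndS (p := 5249) (l := 5) rfl N5249 D11573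
theorem N6520 : nd 6520 = n11576 := ndS (p := 5250) (l := 6) rfl N5250 D11576
theorem N6521 : nd 6521 = n11579 := ndS (p := 5251) (l := 7) rfl N5251 D11579
theorem N6522 : nd 6522 = n11604 := ndS (p := 5256) (l := 4) rfl N5256 D11604
theorem N6523 : nd 6523 = n11605 := ndS (p := 5256) (l := 8) rfl N5256 D11605
theorem N6524 : nd 6524 = n11607 := ndS (p := 5257) (l := 3) rfl N5257 D11607
theorem N6525 : nd 6525 = n11610 := ndS (p := 5258) (l := 8) rfl N5258 D11610
theorem N6526 : nd 6526 = n11622 := ndS (p := 5260) (l := 3) rfl N5260 D11622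
theorem N6527 : nd 6527 = n11642 := ndS (p := 5262) (l := 5) rfl N5262 D11642
theorem N6528 : nd 6528 = n11647 := ndS (p := 5263) (l := 6) rfl N5263 D11647
theorem N6529 : nd 6529 = n11682 := ndS (p := 5265) (l := 4) rfl N5265 D11682
theorem N6530 : nd 6530 = n11720 := ndS (p := 5266) (l := 7) rfl N5266 D11720
theorem N6531 : nd 6531 = n11773 := ndS (p := 5268) (l := 5) rfl N5268 D11773
theorem N6532 : nd 6532 = n12736 := ndS (p := 5271) (l := 2) rfl N5271 D12736
theorem N6533 : nd 6533 = n12737 := ndS (p := 5271) (l := 6) rfl N5271 D12737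
theorem N6534 : nd 6534 = n12739 := ndS (p := 5272) (l := 5) rfl N5272 D12739
theorem N6535 : nd 6535 = n12740 := ndS (p := 5272) (l := 7) rfl N5272 D12740
theorem N6536 : nd 6536 = n12806 := ndS (p := 5282) (l := 6) rfl N5282 D12806
theorem N6537 : nd 6537 = n13333 := ndS (p := 5286) (l := 3) rfl N5286 D13333
theorem N6538 : nd 6538 = n13463 := ndS (p := 5287) (l := 2) rfl N5287 D13463
theorem N6539 : nd 6539 = n13464 := ndS (p := 5287) (l := 4) rfl N5287 D13464
theorem N6540 : nd 6540 = n13465 := ndS (p := 5288) (l := 1) rfl N5288 D13465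
theorem N6541 : nd 6541 = n13466 := ndS (p := 5288) (l := 4) rfl N5288 D13466
theorem N6542 : nd 6542 = n13467 := ndS (p := 5289) (l := 5) rfl N5289 D13467
theorem N6543 : nd 6543 = n13468 := ndS (p := 5290) (l := 0) rfl N5290 D13468
theorem N6544 : nd 6544 = n13469 := ndS (p := 5290) (l := 4) rfl N5290 D13469
theorem N6545 : nd 6545 = n13470 := ndS (p := 5291) (l := 3) rfl N5291 D13470
theorem N6546 : nd 6546 = n13471 := ndS (p := 5291) (l := 5) rfl N5291 D13471
theorem N6547 : nd 6547 = n13472 := ndS (p := 5292) (l := 6) rfl N5292 D13472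
theorem N6548 : nd 6548 = n13475 := ndS (p := 5294) (l := 5) rfl N5294 D13475
theorem N6549 : nd 6549 = n13476 := ndS (p := 5295) (l := 5) rfl N5295 D13476
theorem N6550 : nd 6550 = n13478 := ndS (p := 5296) (l := 6) rfl N5296 D13478
theorem N6551 : nd 6551 = n13479 := ndS (p := 5297) (l := 7) rfl N5297 D13479
theorem N6552 : nd 6552 = n13480 := ndS (p := 5298) (l := 0) rfl N5298 D13480
theorem N6553 : nd 6553 = n13481 := ndS (p := 5298) (l := 4) rfl N5298 D13481
theorem N6554 : nd 6554 = n13482 := ndS (p := 5299) (l := 3) rfl N5299 D13482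
theorem N6555 : nd 6555 = n13483 := ndS (p := 5299) (l := 5) rfl N5299 D13483
theorem N6556 : nd 6556 = n13484 := ndS (p := 5300) (l := 6) rfl N5300 D13484
theorem N6557 : nd 6557 = n13485 := ndS (p := 5301) (l := 4) rfl N5301 D13485
theorem N6558 : nd 6558 = n13486 := ndS (p := 5302) (l := 3) rfl N5302 D13486
theorem N6559 : nd 6559 = n13487 := ndS (p := 5302) (l := 5) rfl N5302 D13487
theorem N6560 : nd 6560 = n13488 := ndS (p := 5303) (l := 5) rfl N5303 D13488
theorem N6561 : nd 6561 = n13489 := ndS (p := 5303) (l := 8) rfl N5303 D13489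
theorem N6562 : nd 6562 = n13490 := ndS (p := 5304) (l := 6) rfl N5304 D13490
theorem N6563 : nd 6563 = n13491 := ndS (p := 5305) (l := 7) rfl N5305 D13491
theorem N6564 : nd 6564 = n13493 := ndS (p := 5306) (l := 5) rfl N5306 D13493
theorem N6565 : nd 6565 = n13495 := ndS (p := 5307) (l := 5) rfl N5307 D13495
theorem N6566 : nd 6566 = n13497 := ndS (p := 5308) (l := 6) rfl N5308 D13497
theorem N6567 : nd 6567 = n13498 := ndS (p := 5309) (l := 4) rfl N5309 D13498
theorem N6568 : nd 6568 = n13499 := ndS (p := 5309) (l := 6) rfl N5309 D13499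
theorem N6569 : nd 6569 = n13500 := ndS (p := 5309) (l := 8) rfl N5309 D13500
theorem N6570 : nd 6570 = n13502 := ndS (p := 5311) (l := 7) rfl N5311 D13502
theorem N6571 : nd 6571 = n13503 := ndS (p := 5313) (l := 3) rfl N5313 D13503
theorem N6572 : nd 6572 = n13504 := ndS (p := 5313) (l := 5) rfl N5313 D13504
theorem N6573 : nd 6573 = n13505 := ndS (p := 5314) (l := 2) rfl N5314 D13505
theorem N6574 : nd 6574 = n13506 := ndS (p := 5314) (l := 5) rfl N5314 D13506
theorem N6575 : nd 6575 = n13507 := ndS (p := 5314) (l := 8) rfl N5314 D13507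
theorem N6576 : nd 6576 = n13508 := ndS (p := 5315) (l := 6) rfl N5315 D13508
theorem N6577 : nd 6577 = n13509 := ndS (p := 5316) (l := 4) rfl N5316 D13509
theorem N6578 : nd 6578 = n13510 := ndS (p := 5316) (l := 6) rfl N5316 D13510
theorem N6579 : nd 6579 = n13511 := ndS (p := 5316) (l := 8) rfl N5316 D13511
theorem N6580 : nd 6580 = n13512 := ndS (p := 5317) (l := 9) rfl N5317 D13512
theorem N6581 : nd 6581 = n13513 := ndS (p := 5318) (l := 7) rfl N5318 D13513
theorem N6582 : nd 6582 = n13514 := ndS (p := 5320) (l := 2) rfl N5320 D13514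
theorem N6583 : nd 6583 = n13515 := ndS (p := 5320) (l := 5) rfl N5320 D13515
theorem N6584 : nd 6584 = n13516 := ndS (p := 5320) (l := 8) rfl N5320 D13516
theorem N6585 : nd 6585 = n13517 := ndS (p := 5321) (l := 6) rfl N5321 D13517
theorem N6586 : nd 6586 = n13518 := ndS (p := 5322) (l := 5) rfl N5322 D13518
theorem N6587 : nd 6587 = n13519 := ndS (p := 5322) (l := 8) rfl N5322 D13519
theorem N6588 : nd 6588 = n13520 := ndS (p := 5323) (l := 4) rfl N5323 D13520
theorem N6589 : nd 6589 = n13521 := ndS (p := 5323) (l := 6) rfl N5323 D13521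
theorem N6590 : nd 6590 = n13522 := ndS (p := 5323) (l := 8) rfl N5323 D13522
theorem N6591 : nd 6591 = n13523 := ndS (p := 5324) (l := 9) rfl N5324 D13523
theorem N6592 : nd 6592 = n13524 := ndS (p := 5325) (l := 7) rfl N5325 D13524
theorem N6593 : nd 6593 = n13525 := ndS (p := 5326) (l := 6) rfl N5326 D13525
theorem N6594 : nd 6594 = n13526 := ndS (p := 5326) (l := 8) rfl N5326 D13526
theorem N6595 : nd 6595 = n13527 := ndS (p := 5327) (l := 7) rfl N5327 D13527
theorem N6596 : nd 6596 = n13528 := ndS (p := 5327) (l := 8) rfl N5327 D13528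
theorem N6597 : nd 6597 = n13529 := ndS (p := 5328) (l := 9) rfl N5328 D13529
theorem N6598 : nd 6598 = n13530 := ndS (p := 5331) (l := 1) rfl N5331 D13530
theorem N6599 : nd 6599 = n13531 := ndS (p := 5331) (l := 5) rfl N5331 D13531
theorem N6600 : nd 6600 = n13532 := ndS (p := 5331) (l := 8) rfl N5331 D13532
theorem N6601 : nd 6601 = n13533 := ndS (p := 5332) (l := 4) rfl N5332 D13533
theorem N6602 : nd 6602 = n13534 := ndS (p := 5332) (l := 6) rfl N5332 D13534
theorem N6603 : nd 6603 = n13535 := ndS (p := 5332) (l := 8) rfl N5332 D13535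
theorem N6604 : nd 6604 = n13536 := ndS (p := 5333) (l := 9) rfl N5333 D13536
theorem N6605 : nd 6605 = n13537 := ndS (p := 5334) (l := 7) rfl N5334 D13537
theorem N6606 : nd 6606 = n13538 := ndS (p := 5335) (l := 4) rfl N5335 D13538
theorem N6607 : nd 6607 = n13539 := ndS (p := 5335) (l := 6) rfl N5335 D13539
theorem N6608 : nd 6608 = n13540 := ndS (p := 5335) (l := 8) rfl N5335 D13540
theorem N6609 : nd 6609 = n13541 := ndS (p := 5336) (l := 3) rfl N5336 D13541
theorem N6610 : nd 6610 = n13542 := ndS (p := 5336) (l := 9) rfl N5336 D13542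
theorem N6611 : nd 6611 = n13543 := ndS (p := 5337) (l := 6) rfl N5337 D13543
theorem N6612 : nd 6612 = n13544 := ndS (p := 5337) (l := 8) rfl N5337 D13544
theorem N6613 : nd 6613 = n13545 := ndS (p := 5338) (l := 7) rfl N5338 D13545
theorem N6614 : nd 6614 = n13546 := ndS (p := 5338) (l := 8) rfl N5338 D13546
theorem N6615 : nd 6615 = n13547 := ndS (p := 5339) (l := 9) rfl N5339 D13547
theorem N6616 : nd 6616 = n13548 := ndS (p := 5342) (l := 5) rfl N5342 D13548
theorem N6617 : nd 6617 = n13549 := ndS (p := 5342) (l := 7) rfl N5342 D13549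
theorem N6618 : nd 6618 = n13550 := ndS (p := 5342) (l := 8) rfl N5342 D13550
theorem N6619 : nd 6619 = n13551 := ndS (p := 5343) (l := 3) rfl N5343 D13551
theorem N6620 : nd 6620 = n13552 := ndS (p := 5343) (l := 9) rfl N5343 D13552
theorem N6621 : nd 6621 = n13553 := ndS (p := 5344) (l := 8) rfl N5344 D13553
theorem N6622 : nd 6622 = n13554 := ndS (p := 5345) (l := 9) rfl N5345 D13554
theorem N6623 : nd 6623 = n13556 := ndS (p := 5347) (l := 4) rfl N5347 D13556
theorem N6624 : nd 6624 = n13557 := ndS (p := 5348) (l := 3) rfl N5348 D13557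
theorem N6625 : nd 6625 = n13558 := ndS (p := 5348) (l := 5) rfl N5348 D13558
theorem N6626 : nd 6626 = n13559 := ndS (p := 5349) (l := 6) rfl N5349 D13559
theorem N6627 : nd 6627 = n13560 := ndS (p := 5350) (l := 4) rfl N5350 D13560
theorem N6628 : nd 6628 = n13561 := ndS (p := 5351) (l := 3) rfl N5351 D13561
theorem N6629 : nd 6629 = n13562 := ndS (p := 5351) (l := 5) rfl N5351 D13562
theorem N6630 : nd 6630 = n13563 := ndS (p := 5352) (l := 5) rfl N5352 D13563
theorem N6631 : nd 6631 = n13564 := ndS (p := 5352) (l := 8) rfl N5352 D13564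
theorem N6632 : nd 6632 = n13565 := ndS (p := 5353) (l := 6) rfl N5353 D13565
theorem N6633 : nd 6633 = n13566 := ndS (p := 5354) (l := 7) rfl N5354 D13566
theorem N6634 : nd 6634 = n13568 := ndS (p := 5355) (l := 3) rfl N5355 D13568
theorem N6635 : nd 6635 = n13569 := ndS (p := 5355) (l := 5) rfl N5355 D13569
theorem N6636 : nd 6636 = n13570 := ndS (p := 5356) (l := 5) rfl N5356 D13570
theorem N6637 : nd 6637 = n13571 := ndS (p := 5356) (l := 8) rfl N5356 D13571
theorem N6638 : nd 6638 = n13572 := ndS (p := 5357) (l := 6) rfl N5357 D13572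
theorem N6639 : nd 6639 = n13573 := ndS (p := 5358) (l := 7) rfl N5358 D13573
theorem N6640 : nd 6640 = n13574 := ndS (p := 5359) (l := 3) rfl N5359 D13574
theorem N6641 : nd 6641 = n13575 := ndS (p := 5359) (l := 5) rfl N5359 D13575
theorem N6642 : nd 6642 = n13576 := ndS (p := 5360) (l := 2) rfl N5360 D13576
theorem N6643 : nd 6643 = n13577 := ndS (p := 5360) (l := 5) rfl N5360 D13577
theorem N6644 : nd 6644 = n13578 := ndS (p := 5360) (l := 8) rfl N5360 D13578
theorem N6645 : nd 6645 = n13579 := ndS (p := 5361) (l := 6) rfl N5361 D13579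
theorem N6646 : nd 6646 = n13580 := ndS (p := 5362) (l := 4) rfl N5362 D13580
theorem N6647 : nd 6647 = n13581 := ndS (p := 5362) (l := 6) rfl N5362 D13581
theorem N6648 : nd 6648 = n13582 := ndS (p := 5362) (l := 8) rfl N5362 D13582
theorem N6649 : nd 6649 = n13583 := ndS (p := 5363) (l := 9) rfl N5363 D13583
theorem N6650 : nd 6650 = n13584 := ndS (p := 5364) (l := 7) rfl N5364 D13584
theorem N6651 : nd 6651 = n13587 := ndS (p := 5366) (l := 2) rfl N5366 D13587
theorem N6652 : nd 6652 = n13588 := ndS (p := 5366) (l := 5) rfl N5366 D13588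
theorem N6653 : nd 6653 = n13589 := ndS (p := 5366) (l := 8) rfl N5366 D13589
theorem N6654 : nd 6654 = n13590 := ndS (p := 5367) (l := 6) rfl N5367 D13590
theorem N6655 : nd 6655 = n13591 := ndS (p := 5368) (l := 4) rfl N5368 D13591
theorem N6656 : nd 6656 = n13592 := ndS (p := 5368) (l := 6) rfl N5368 D13592
theorem N6657 : nd 6657 = n13593 := ndS (p := 5368) (l := 8) rfl N5368 D13593
theorem N6658 : nd 6658 = n13594 := ndS (p := 5369) (l := 9) rfl N5369 D13594
theorem N6659 : nd 6659 = n13595 := ndS (p := 5370) (l := 7) rfl N5370 D13595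
theorem N6660 : nd 6660 = n13597 := ndS (p := 5372) (l := 5) rfl N5372 D13597
theorem N6661 : nd 6661 = n13599 := ndS (p := 5373) (l := 6) rfl N5373 D13599
theorem N6662 : nd 6662 = n13600 := ndS (p := 5374) (l := 5) rfl N5374 D13600
theorem N6663 : nd 6663 = n13602 := ndS (p := 5375) (l := 4) rfl N5375 D13602
theorem N6664 : nd 6664 = n13603 := ndS (p := 5375) (l := 6) rfl N5375 D13603
theorem N6665 : nd 6665 = n13604 := ndS (p := 5375) (l := 8) rfl N5375 D13604
theorem N6666 : nd 6666 = n13606 := ndS (p := 5377) (l := 7) rfl N5377 D13606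
theorem N6667 : nd 6667 = n13607 := ndS (p := 5378) (l := 6) rfl N5378 D13607
theorem N6668 : nd 6668 = n13608 := ndS (p := 5378) (l := 8) rfl N5378 D13608
theorem N6669 : nd 6669 = n13609 := ndS (p := 5379) (l := 7) rfl N5379 D13609
theorem N6670 : nd 6670 = n13610 := ndS (p := 5379) (l := 8) rfl N5379 D13610
theorem N6671 : nd 6671 = n13611 := ndS (p := 5380) (l := 9) rfl N5380 D13611
theorem N6672 : nd 6672 = n13614 := ndS (p := 5383) (l := 2) rfl N5383 D13614
theorem N6673 : nd 6673 = n13615 := ndS (p := 5383) (l := 5) rfl N5383 D13615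
theorem N6674 : nd 6674 = n13616 := ndS (p := 5383) (l := 8) rfl N5383 D13616
theorem N6675 : nd 6675 = n13617 := ndS (p := 5384) (l := 6) rfl N5384 D13617
theorem N6676 : nd 6676 = n13618 := ndS (p := 5385) (l := 4) rfl N5385 D13618
theorem N6677 : nd 6677 = n13619 := ndS (p := 5385) (l := 6) rfl N5385 D13619
theorem N6678 : nd 6678 = n13620 := ndS (p := 5385) (l := 8) rfl N5385 D13620
theorem N6679 : nd 6679 = n13621 := ndS (p := 5386) (l := 9) rfl N5386 D13621
theorem N6680 : nd 6680 = n13622 := ndS (p := 5387) (l := 7) rfl N5387 D13622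
theorem N6681 : nd 6681 = n13623 := ndS (p := 5389) (l := 2) rfl N5389 D13623
theorem N6682 : nd 6682 = n13624 := ndS (p := 5389) (l := 5) rfl N5389 D13624
theorem N6683 : nd 6683 = n13625 := ndS (p := 5389) (l := 8) rfl N5389 D13625
theorem N6684 : nd 6684 = n13626 := ndS (p := 5390) (l := 6) rfl N5390 D13626
theorem N6685 : nd 6685 = n13627 := ndS (p := 5391) (l := 5) rfl N5391 D13627
theorem N6686 : nd 6686 = n13628 := ndS (p := 5391) (l := 8) rfl N5391 D13628
theorem N6687 : nd 6687 = n13629 := ndS (p := 5392) (l := 4) rfl N5392 D13629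
theorem N6688 : nd 6688 = n13630 := ndS (p := 5392) (l := 6) rfl N5392 D13630
theorem N6689 : nd 6689 = n13631 := ndS (p := 5392) (l := 8) rfl N5392 D13631
theorem N6690 : nd 6690 = n13632 := ndS (p := 5393) (l := 9) rfl N5393 D13632
theorem N6691 : nd 6691 = n13633 := ndS (p := 5394) (l := 7) rfl N5394 D13633
theorem N6692 : nd 6692 = n13634 := ndS (p := 5395) (l := 6) rfl N5395 D13634
theorem N6693 : nd 6693 = n13635 := ndS (p := 5395) (l := 8) rfl N5395 D13635
theorem N6694 : nd 6694 = n13636 := ndS (p := 5396) (l := 7) rfl N5396 D13636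
theorem N6695 : nd 6695 = n13637 := ndS (p := 5396) (l := 8) rfl N5396 D13637
theorem N6696 : nd 6696 = n13638 := ndS (p := 5397) (l := 9) rfl N5397 D13638
theorem N6697 : nd 6697 = n13643 := ndS (p := 5400) (l := 5) rfl N5400 D13643
theorem N6698 : nd 6698 = n13644 := ndS (p := 5400) (l := 8) rfl N5400 D13644
theorem N6699 : nd 6699 = n13645 := ndS (p := 5401) (l := 4) rfl N5401 D13645
theorem N6700 : nd 6700 = n13646 := ndS (p := 5401) (l := 6) rfl N5401 D13646
theorem N6701 : nd 6701 = n13647 := ndS (p := 5401) (l := 8) rfl N5401 D13647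
theorem N6702 : nd 6702 = n13648 := ndS (p := 5402) (l := 9) rfl N5402 D13648
theorem N6703 : nd 6703 = n13649 := ndS (p := 5403) (l := 7) rfl N5403 D13649
theorem N6704 : nd 6704 = n13650 := ndS (p := 5404) (l := 6) rfl N5404 D13650
theorem N6705 : nd 6705 = n13651 := ndS (p := 5404) (l := 8) rfl N5404 D13651
theorem N6706 : nd 6706 = n13652 := ndS (p := 5405) (l := 7) rfl N5405 D13652
theorem N6707 : nd 6707 = n13653 := ndS (p := 5405) (l := 8) rfl N5405 D13653
theorem N6708 : nd 6708 = n13654 := ndS (p := 5406) (l := 9) rfl N5406 D13654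
theorem N6709 : nd 6709 = n13655 := ndS (p := 5409) (l := 1) rfl N5409 D13655
theorem N6710 : nd 6710 = n13656 := ndS (p := 5409) (l := 5) rfl N5409 D13656
theorem N6711 : nd 6711 = n13657 := ndS (p := 5409) (l := 8) rfl N5409 D13657
theorem N6712 : nd 6712 = n13658 := ndS (p := 5410) (l := 4) rfl N5410 D13658
theorem N6713 : nd 6713 = n13659 := ndS (p := 5410) (l := 6) rfl N5410 D13659
theorem N6714 : nd 6714 = n13660 := ndS (p := 5410) (l := 8) rfl N5410 D13660
theorem N6715 : nd 6715 = n13661 := ndS (p := 5411) (l := 9) rfl N5411 D13661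
theorem N6716 : nd 6716 = n13662 := ndS (p := 5412) (l := 7) rfl N5412 D13662
theorem N6717 : nd 6717 = n13663 := ndS (p := 5413) (l := 4) rfl N5413 D13663
theorem N6718 : nd 6718 = n13664 := ndS (p := 5413) (l := 6) rfl N5413 D13664
theorem N6719 : nd 6719 = n13665 := ndS (p := 5413) (l := 8) rfl N5413 D13665
theorem N6720 : nd 6720 = n13666 := ndS (p := 5414) (l := 3) rfl N5414 D13666
theorem N6721 : nd 6721 = n13667 := ndS (p := 5414) (l := 9) rfl N5414 D13667
theorem N6722 : nd 6722 = n13668 := ndS (p := 5415) (l := 6) rfl N5415 D13668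
theorem N6723 : nd 6723 = n13669 := ndS (p := 5415) (l := 8) rfl N5415 D13669
theorem N6724 : nd 6724 = n13670 := ndS (p := 5416) (l := 7) rfl N5416 D13670
theorem N6725 : nd 6725 = n13671 := ndS (p := 5416) (l := 8) rfl N5416 D13671
theorem N6726 : nd 6726 = n13672 := ndS (p := 5417) (l := 9) rfl N5417 D13672
theorem N6727 : nd 6727 = n13673 := ndS (p := 5420) (l := 5) rfl N5420 D13673
theorem N6728 : nd 6728 = n13674 := ndS (p := 5420) (l := 7) rfl N5420 D13674
theorem N6729 : nd 6729 = n13675 := ndS (p := 5420) (l := 8) rfl N5420 D13675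
theorem N6730 : nd 6730 = n13676 := ndS (p := 5421) (l := 3) rfl N5421 D13676
theorem N6731 : nd 6731 = n13677 := ndS (p := 5421) (l := 9) rfl N5421 D13677
theorem N6732 : nd 6732 = n13678 := ndS (p := 5422) (l := 8) rfl N5422 D13678
theorem N6733 : nd 6733 = n13679 := ndS (p := 5423) (l := 9) rfl N5423 D13679
theorem N6734 : nd 6734 = n13688 := ndS (p := 5425) (l := 4) rfl N5425 D13688
theorem N6735 : nd 6735 = n13689 := ndS (p := 5425) (l := 6) rfl N5425 D13689
theorem N6736 : nd 6736 = n13690 := ndS (p := 5425) (l := 8) rfl N5425 D13690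
theorem N6737 : nd 6737 = n13691 := ndS (p := 5426) (l := 3) rfl N5426 D13691
theorem N6738 : nd 6738 = n13692 := ndS (p := 5426) (l := 9) rfl N5426 D13692
theorem N6739 : nd 6739 = n13693 := ndS (p := 5427) (l := 6) rfl N5427 D13693
theorem N6740 : nd 6740 = n13694 := ndS (p := 5427) (l := 8) rfl N5427 D13694
theorem N6741 : nd 6741 = n13695 := ndS (p := 5428) (l := 7) rfl N5428 D13695
theorem N6742 : nd 6742 = n13696 := ndS (p := 5428) (l := 8) rfl N5428 D13696
theorem N6743 : nd 6743 = n13697 := ndS (p := 5429) (l := 9) rfl N5429 D13697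
theorem N6744 : nd 6744 = n13698 := ndS (p := 5432) (l := 5) rfl N5432 D13698
theorem N6745 : nd 6745 = n13699 := ndS (p := 5432) (l := 7) rfl N5432 D13699
theorem N6746 : nd 6746 = n13700 := ndS (p := 5432) (l := 8) rfl N5432 D13700
theorem N6747 : nd 6747 = n13701 := ndS (p := 5433) (l := 3) rfl N5433 D13701
theorem N6748 : nd 6748 = n13702 := ndS (p := 5433) (l := 9) rfl N5433 D13702
theorem N6749 : nd 6749 = n13703 := ndS (p := 5434) (l := 8) rfl N5434 D13703
theorem N6750 : nd 6750 = n13704 := ndS (p := 5435) (l := 9) rfl N5435 D13704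
theorem N6751 : nd 6751 = n13705 := ndS (p := 5437) (l := 5) rfl N5437 D13705
theorem N6752 : nd 6752 = n13706 := ndS (p := 5437) (l := 8) rfl N5437 D13706
theorem N6753 : nd 6753 = n13707 := ndS (p := 5438) (l := 4) rfl N5438 D13707
theorem N6754 : nd 6754 = n13708 := ndS (p := 5438) (l := 6) rfl N5438 D13708
theorem N6755 : nd 6755 = n13709 := ndS (p := 5438) (l := 8) rfl N5438 D13709
theorem N6756 : nd 6756 = n13710 := ndS (p := 5439) (l := 3) rfl N5439 D13710
theorem N6757 : nd 6757 = n13711 := ndS (p := 5439) (l := 9) rfl N5439 D13711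
theorem N6758 : nd 6758 = n13712 := ndS (p := 5440) (l := 6) rfl N5440 D13712
theorem N6759 : nd 6759 = n13713 := ndS (p := 5440) (l := 8) rfl N5440 D13713
theorem N6760 : nd 6760 = n13714 := ndS (p := 5441) (l := 7) rfl N5441 D13714
theorem N6761 : nd 6761 = n13715 := ndS (p := 5441) (l := 8) rfl N5441 D13715
theorem N6762 : nd 6762 = n13716 := ndS (p := 5442) (l := 9) rfl N5442 D13716
theorem N6763 : nd 6763 = n13717 := ndS (p := 5445) (l := 3) rfl N5445 D13717
theorem N6764 : nd 6764 = n13718 := ndS (p := 5445) (l := 6) rfl N5445 D13718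
theorem N6765 : nd 6765 = n13719 := ndS (p := 5445) (l := 8) rfl N5445 D13719
theorem N6766 : nd 6766 = n13720 := ndS (p := 5446) (l := 7) rfl N5446 D13720
theorem N6767 : nd 6767 = n13721 := ndS (p := 5446) (l := 8) rfl N5446 D13721
theorem N6768 : nd 6768 = n13722 := ndS (p := 5447) (l := 3) rfl N5447 D13722
theorem N6769 : nd 6769 = n13723 := ndS (p := 5447) (l := 9) rfl N5447 D13723
theorem N6770 : nd 6770 = n13724 := ndS (p := 5448) (l := 4) rfl N5448 D13724
theorem N6771 : nd 6771 = n13725 := ndS (p := 5448) (l := 9) rfl N5448 D13725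
theorem N6772 : nd 6772 = n13726 := ndS (p := 5450) (l := 5) rfl N5450 D13726
theorem N6773 : nd 6773 = n13727 := ndS (p := 5450) (l := 7) rfl N5450 D13727
theorem N6774 : nd 6774 = n13728 := ndS (p := 5450) (l := 8) rfl N5450 D13728
theorem N6775 : nd 6775 = n13729 := ndS (p := 5451) (l := 3) rfl N5451 D13729
theorem N6776 : nd 6776 = n13730 := ndS (p := 5451) (l := 9) rfl N5451 D13730
theorem N6777 : nd 6777 = n13731 := ndS (p := 5452) (l := 8) rfl N5452 D13731
theorem N6778 : nd 6778 = n13732 := ndS (p := 5453) (l := 9) rfl N5453 D13732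
theorem N6779 : nd 6779 = n13733 := ndS (p := 5455) (l := 7) rfl N5455 D13733
theorem N6780 : nd 6780 = n13734 := ndS (p := 5455) (l := 8) rfl N5455 D13734
theorem N6781 : nd 6781 = n13735 := ndS (p := 5456) (l := 8) rfl N5456 D13735
theorem N6782 : nd 6782 = n13736 := ndS (p := 5457) (l := 3) rfl N5457 D13736
theorem N6783 : nd 6783 = n13737 := ndS (p := 5457) (l := 9) rfl N5457 D13737
theorem N6784 : nd 6784 = n13738 := ndS (p := 5458) (l := 2) rfl N5458 D13738
theorem N6785 : nd 6785 = n13739 := ndS (p := 5458) (l := 9) rfl N5458 D13739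
theorem N6786 : nd 6786 = n13740 := ndS (p := 5460) (l := 9) rfl N5460 D13740
theorem N6787 : nd 6787 = n13741 := ndS (p := 5462) (l := 3) rfl N5462 D13741
theorem N6788 : nd 6788 = n13742 := ndS (p := 5462) (l := 5) rfl N5462 D13742
theorem N6789 : nd 6789 = n13743 := ndS (p := 5463) (l := 2) rfl N5463 D13743
theorem N6790 : nd 6790 = n13744 := ndS (p := 5463) (l := 5) rfl N5463 D13744
theorem N6791 : nd 6791 = n13745 := ndS (p := 5463) (l := 8) rfl N5463 D13745
theorem N6792 : nd 6792 = n13746 := ndS (p := 5464) (l := 6) rfl N5464 D13746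
theorem N6793 : nd 6793 = n13747 := ndS (p := 5465) (l := 4) rfl N5465 D13747
theorem N6794 : nd 6794 = n13748 := ndS (p := 5465) (l := 6) rfl N5465 D13748
theorem N6795 : nd 6795 = n13749 := ndS (p := 5465) (l := 8) rfl N5465 D13749
theorem N6796 : nd 6796 = n13750 := ndS (p := 5466) (l := 9) rfl N5466 D13750
theorem N6797 : nd 6797 = n13751 := ndS (p := 5467) (l := 7) rfl N5467 D13751
theorem N6798 : nd 6798 = n13752 := ndS (p := 5469) (l := 2) rfl N5469 D13752
theorem N6799 : nd 6799 = n13753 := ndS (p := 5469) (l := 5) rfl N5469 D13753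
theorem N6800 : nd 6800 = n13754 := ndS (p := 5469) (l := 8) rfl N5469 D13754
theorem N6801 : nd 6801 = n13755 := ndS (p := 5470) (l := 6) rfl N5470 D13755
theorem N6802 : nd 6802 = n13756 := ndS (p := 5471) (l := 5) rfl N5471 D13756
theorem N6803 : nd 6803 = n13757 := ndS (p := 5471) (l := 8) rfl N5471 D13757
theorem N6804 : nd 6804 = n13758 := ndS (p := 5472) (l := 4) rfl N5472 D13758
theorem N6805 : nd 6805 = n13759 := ndS (p := 5472) (l := 6) rfl N5472 D13759
theorem N6806 : nd 6806 = n13760 := ndS (p := 5472) (l := 8) rfl N5472 D13760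
theorem N6807 : nd 6807 = n13761 := ndS (p := 5473) (l := 9) rfl N5473 D13761
theorem N6808 : nd 6808 = n13762 := ndS (p := 5474) (l := 7) rfl N5474 D13762
theorem N6809 : nd 6809 = n13763 := ndS (p := 5475) (l := 6) rfl N5475 D13763
theorem N6810 : nd 6810 = n13764 := ndS (p := 5475) (l := 8) rfl N5475 D13764
theorem N6811 : nd 6811 = n13765 := ndS (p := 5476) (l := 7) rfl N5476 D13765
theorem N6812 : nd 6812 = n13766 := ndS (p := 5476) (l := 8) rfl N5476 D13766
theorem N6813 : nd 6813 = n13767 := ndS (p := 5477) (l := 9) rfl N5477 D13767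
theorem N6814 : nd 6814 = n13768 := ndS (p := 5480) (l := 1) rfl N5480 D13768
theorem N6815 : nd 6815 = n13769 := ndS (p := 5480) (l := 5) rfl N5480 D13769
theorem N6816 : nd 6816 = n13770 := ndS (p := 5480) (l := 8) rfl N5480 D13770
theorem N6817 : nd 6817 = n13771 := ndS (p := 5481) (l := 4) rfl N5481 D13771
theorem N6818 : nd 6818 = n13772 := ndS (p := 5481) (l := 6) rfl N5481 D13772
theorem N6819 : nd 6819 = n13773 := ndS (p := 5481) (l := 8) rfl N5481 D13773
theorem N6820 : nd 6820 = n13774 := ndS (p := 5482) (l := 9) rfl N5482 D13774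
theorem N6821 : nd 6821 = n13775 := ndS (p := 5483) (l := 7) rfl N5483 D13775
theorem N6822 : nd 6822 = n13776 := ndS (p := 5484) (l := 4) rfl N5484 D13776
theorem N6823 : nd 6823 = n13777 := ndS (p := 5484) (l := 6) rfl N5484 D13777
theorem N6824 : nd 6824 = n13778 := ndS (p := 5484) (l := 8) rfl N5484 D13778
theorem N6825 : nd 6825 = n13779 := ndS (p := 5485) (l := 3) rfl N5485 D13779
theorem N6826 : nd 6826 = n13780 := ndS (p := 5485) (l := 9) rfl N5485 D13780
theorem N6827 : nd 6827 = n13781 := ndS (p := 5486) (l := 6) rfl N5486 D13781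
theorem N6828 : nd 6828 = n13782 := ndS (p := 5486) (l := 8) rfl N5486 D13782
theorem N6829 : nd 6829 = n13783 := ndS (p := 5487) (l := 7) rfl N5487 D13783
theorem N6830 : nd 6830 = n13784 := ndS (p := 5487) (l := 8) rfl N5487 D13784
theorem N6831 : nd 6831 = n13785 := ndS (p := 5488) (l := 9) rfl N5488 D13785
theorem N6832 : nd 6832 = n13786 := ndS (p := 5491) (l := 5) rfl N5491 D13786
theorem N6833 : nd 6833 = n13787 := ndS (p := 5491) (l := 7) rfl N5491 D13787
theorem N6834 : nd 6834 = n13788 := ndS (p := 5491) (l := 8) rfl N5491 D13788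
theorem N6835 : nd 6835 = n13789 := ndS (p := 5492) (l := 3) rfl N5492 D13789
theorem N6836 : nd 6836 = n13790 := ndS (p := 5492) (l := 9) rfl N5492 D13790
theorem N6837 : nd 6837 = n13791 := ndS (p := 5493) (l := 8) rfl N5493 D13791
theorem N6838 : nd 6838 = n13792 := ndS (p := 5494) (l := 9) rfl N5494 D13792
theorem N6839 : nd 6839 = n13793 := ndS (p := 5496) (l := 2) rfl N5496 D13793
theorem N6840 : nd 6840 = n13794 := ndS (p := 5496) (l := 5) rfl N5496 D13794
theorem N6841 : nd 6841 = n13795 := ndS (p := 5496) (l := 8) rfl N5496 D13795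
theorem N6842 : nd 6842 = n13796 := ndS (p := 5497) (l := 6) rfl N5497 D13796
theorem N6843 : nd 6843 = n13797 := ndS (p := 5498) (l := 5) rfl N5498 D13797
theorem N6844 : nd 6844 = n13798 := ndS (p := 5498) (l := 8) rfl N5498 D13798
theorem N6845 : nd 6845 = n13799 := ndS (p := 5499) (l := 4) rfl N5499 D13799
theorem N6846 : nd 6846 = n13800 := ndS (p := 5499) (l := 6) rfl N5499 D13800
theorem N6847 : nd 6847 = n13801 := ndS (p := 5499) (l := 8) rfl N5499 D13801
theorem N6848 : nd 6848 = n13802 := ndS (p := 5500) (l := 9) rfl N5500 D13802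
theorem N6849 : nd 6849 = n13803 := ndS (p := 5501) (l := 7) rfl N5501 D13803
theorem N6850 : nd 6850 = n13804 := ndS (p := 5502) (l := 6) rfl N5502 D13804
theorem N6851 : nd 6851 = n13805 := ndS (p := 5502) (l := 8) rfl N5502 D13805
theorem N6852 : nd 6852 = n13806 := ndS (p := 5503) (l := 7) rfl N5503 D13806
theorem N6853 : nd 6853 = n13807 := ndS (p := 5503) (l := 8) rfl N5503 D13807
theorem N6854 : nd 6854 = n13808 := ndS (p := 5504) (l := 9) rfl N5504 D13808
theorem N6855 : nd 6855 = n13809 := ndS (p := 5507) (l := 1) rfl N5507 D13809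
theorem N6856 : nd 6856 = n13810 := ndS (p := 5507) (l := 5) rfl N5507 D13810
theorem N6857 : nd 6857 = n13811 := ndS (p := 5507) (l := 8) rfl N5507 D13811
theorem N6858 : nd 6858 = n13812 := ndS (p := 5508) (l := 4) rfl N5508 D13812
theorem N6859 : nd 6859 = n13813 := ndS (p := 5508) (l := 6) rfl N5508 D13813
theorem N6860 : nd 6860 = n13814 := ndS (p := 5508) (l := 8) rfl N5508 D13814
theorem N6861 : nd 6861 = n13815 := ndS (p := 5509) (l := 9) rfl N5509 D13815
theorem N6862 : nd 6862 = n13816 := ndS (p := 5510) (l := 7) rfl N5510 D13816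
theorem N6863 : nd 6863 = n13817 := ndS (p := 5511) (l := 4) rfl N5511 D13817
theorem N6864 : nd 6864 = n13818 := ndS (p := 5511) (l := 6) rfl N5511 D13818
theorem N6865 : nd 6865 = n13819 := ndS (p := 5511) (l := 8) rfl N5511 D13819
theorem N6866 : nd 6866 = n13820 := ndS (p := 5512) (l := 3) rfl N5512 D13820
theorem N6867 : nd 6867 = n13821 := ndS (p := 5512) (l := 9) rfl N5512 D13821
theorem N6868 : nd 6868 = n13822 := ndS (p := 5513) (l := 6) rfl N5513 D13822
theorem N6869 : nd 6869 = n13823 := ndS (p := 5513) (l := 8) rfl N5513 D13823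
theorem N6870 : nd 6870 = n13824 := ndS (p := 5514) (l := 7) rfl N5514 D13824
theorem N6871 : nd 6871 = n13825 := ndS (p := 5514) (l := 8) rfl N5514 D13825
theorem N6872 : nd 6872 = n13826 := ndS (p := 5515) (l := 9) rfl N5515 D13826
theorem N6873 : nd 6873 = n13827 := ndS (p := 5518) (l := 5) rfl N5518 D13827
theorem N6874 : nd 6874 = n13828 := ndS (p := 5518) (l := 7) rfl N5518 D13828
theorem N6875 : nd 6875 = n13829 := ndS (p := 5518) (l := 8) rfl N5518 D13829
theorem N6876 : nd 6876 = n13830 := ndS (p := 5519) (l := 3) rfl N5519 D13830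
theorem N6877 : nd 6877 = n13831 := ndS (p := 5519) (l := 9) rfl N5519 D13831
theorem N6878 : nd 6878 = n13832 := ndS (p := 5520) (l := 8) rfl N5520 D13832
theorem N6879 : nd 6879 = n13833 := ndS (p := 5521) (l := 9) rfl N5521 D13833
theorem N6880 : nd 6880 = n13834 := ndS (p := 5523) (l := 5) rfl N5523 D13834
theorem N6881 : nd 6881 = n13835 := ndS (p := 5523) (l := 8) rfl N5523 D13835
theorem N6882 : nd 6882 = n13836 := ndS (p := 5524) (l := 4) rfl N5524 D13836
theorem N6883 : nd 6883 = n13837 := ndS (p := 5524) (l := 6) rfl N5524 D13837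
theorem N6884 : nd 6884 = n13838 := ndS (p := 5524) (l := 8) rfl N5524 D13838
theorem N6885 : nd 6885 = n13839 := ndS (p := 5525) (l := 3) rfl N5525 D13839
theorem N6886 : nd 6886 = n13840 := ndS (p := 5525) (l := 9) rfl N5525 D13840
theorem N6887 : nd 6887 = n13841 := ndS (p := 5526) (l := 6) rfl N5526 D13841
theorem N6888 : nd 6888 = n13842 := ndS (p := 5526) (l := 8) rfl N5526 D13842
theorem N6889 : nd 6889 = n13843 := ndS (p := 5527) (l := 7) rfl N5527 D13843
theorem N6890 : nd 6890 = n13844 := ndS (p := 5527) (l := 8) rfl N5527 D13844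
theorem N6891 : nd 6891 = n13845 := ndS (p := 5528) (l := 9) rfl N5528 D13845
theorem N6892 : nd 6892 = n13846 := ndS (p := 5531) (l := 3) rfl N5531 D13846
theorem N6893 : nd 6893 = n13847 := ndS (p := 5531) (l := 6) rfl N5531 D13847
theorem N6894 : nd 6894 = n13848 := ndS (p := 5531) (l := 8) rfl N5531 D13848
theorem N6895 : nd 6895 = n13849 := ndS (p := 5532) (l := 7) rfl N5532 D13849
theorem N6896 : nd 6896 = n13850 := ndS (p := 5532) (l := 8) rfl N5532 D13850
theorem N6897 : nd 6897 = n13851 := ndS (p := 5533) (l := 3) rfl N5533 D13851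
theorem N6898 : nd 6898 = n13852 := ndS (p := 5533) (l := 9) rfl N5533 D13852
theorem N6899 : nd 6899 = n13853 := ndS (p := 5534) (l := 4) rfl N5534 D13853
theorem N6900 : nd 6900 = n13854 := ndS (p := 5534) (l := 9) rfl N5534 D13854
theorem N6901 : nd 6901 = n13855 := ndS (p := 5536) (l := 5) rfl N5536 D13855
theorem N6902 : nd 6902 = n13856 := ndS (p := 5536) (l := 7) rfl N5536 D13856
theorem N6903 : nd 6903 = n13857 := ndS (p := 5536) (l := 8) rfl N5536 D13857
theorem N6904 : nd 6904 = n13858 := ndS (p := 5537) (l := 3) rfl N5537 D13858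
theorem N6905 : nd 6905 = n13859 := ndS (p := 5537) (l := 9) rfl N5537 D13859
theorem N6906 : nd 6906 = n13860 := ndS (p := 5538) (l := 8) rfl N5538 D13860
theorem N6907 : nd 6907 = n13861 := ndS (p := 5539) (l := 9) rfl N5539 D13861
theorem N6908 : nd 6908 = n13862 := ndS (p := 5541) (l := 7) rfl N5541 D13862
theorem N6909 : nd 6909 = n13863 := ndS (p := 5541) (l := 8) rfl N5541 D13863
theorem N6910 : nd 6910 = n13864 := ndS (p := 5542) (l := 8) rfl N5542 D13864
theorem N6911 : nd 6911 = n13865 := ndS (p := 5543) (l := 3) rfl N5543 D13865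
theorem N6912 : nd 6912 = n13866 := ndS (p := 5543) (l := 9) rfl N5543 D13866
theorem N6913 : nd 6913 = n13867 := ndS (p := 5544) (l := 2) rfl N5544 D13867
theorem N6914 : nd 6914 = n13868 := ndS (p := 5544) (l := 9) rfl N5544 D13868
theorem N6915 : nd 6915 = n13869 := ndS (p := 5546) (l := 9) rfl N5546 D13869
theorem N6916 : nd 6916 = n13870 := ndS (p := 5548) (l := 1) rfl N5548 D13870
theorem N6917 : nd 6917 = n13871 := ndS (p := 5548) (l := 5) rfl N5548 D13871
theorem N6918 : nd 6918 = n13872 := ndS (p := 5548) (l := 8) rfl N5548 D13872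
theorem N6919 : nd 6919 = n13874 := ndS (p := 5549) (l := 6) rfl N5549 D13874
theorem N6920 : nd 6920 = n13875 := ndS (p := 5549) (l := 8) rfl N5549 D13875
theorem N6921 : nd 6921 = n13876 := ndS (p := 5550) (l := 9) rfl N5550 D13876
theorem N6922 : nd 6922 = n13877 := ndS (p := 5551) (l := 7) rfl N5551 D13877
theorem N6923 : nd 6923 = n13878 := ndS (p := 5552) (l := 4) rfl N5552 D13878
theorem N6924 : nd 6924 = n13879 := ndS (p := 5552) (l := 6) rfl N5552 D13879
theorem N6925 : nd 6925 = n13880 := ndS (p := 5552) (l := 8) rfl N5552 D13880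
theorem N6926 : nd 6926 = n13881 := ndS (p := 5553) (l := 3) rfl N5553 D13881
theorem N6927 : nd 6927 = n13882 := ndS (p := 5553) (l := 9) rfl N5553 D13882
theorem N6928 : nd 6928 = n13883 := ndS (p := 5554) (l := 6) rfl N5554 D13883
theorem N6929 : nd 6929 = n13884 := ndS (p := 5554) (l := 8) rfl N5554 D13884
theorem N6930 : nd 6930 = n13885 := ndS (p := 5555) (l := 7) rfl N5555 D13885
theorem N6931 : nd 6931 = n13886 := ndS (p := 5555) (l := 8) rfl N5555 D13886
theorem N6932 : nd 6932 = n13887 := ndS (p := 5556) (l := 9) rfl N5556 D13887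
theorem N6933 : nd 6933 = n13888 := ndS (p := 5559) (l := 5) rfl N5559 D13888
theorem N6934 : nd 6934 = n13889 := ndS (p := 5559) (l := 7) rfl N5559 D13889
theorem N6935 : nd 6935 = n13890 := ndS (p := 5559) (l := 8) rfl N5559 D13890
theorem N6936 : nd 6936 = n13891 := ndS (p := 5560) (l := 3) rfl N5560 D13891
theorem N6937 : nd 6937 = n13892 := ndS (p := 5560) (l := 9) rfl N5560 D13892
theorem N6938 : nd 6938 = n13893 := ndS (p := 5561) (l := 8) rfl N5561 D13893
theorem N6939 : nd 6939 = n13894 := ndS (p := 5562) (l := 9) rfl N5562 D13894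
theorem N6940 : nd 6940 = n13895 := ndS (p := 5564) (l := 5) rfl N5564 D13895
theorem N6941 : nd 6941 = n13896 := ndS (p := 5564) (l := 8) rfl N5564 D13896
theorem N6942 : nd 6942 = n13897 := ndS (p := 5565) (l := 4) rfl N5565 D13897
theorem N6943 : nd 6943 = n13898 := ndS (p := 5565) (l := 6) rfl N5565 D13898
theorem N6944 : nd 6944 = n13899 := ndS (p := 5565) (l := 8) rfl N5565 D13899
theorem N6945 : nd 6945 = n13900 := ndS (p := 5566) (l := 3) rfl N5566 D13900
theorem N6946 : nd 6946 = n13901 := ndS (p := 5566) (l := 9) rfl N5566 D13901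
theorem N6947 : nd 6947 = n13902 := ndS (p := 5567) (l := 6) rfl N5567 D13902
theorem N6948 : nd 6948 = n13903 := ndS (p := 5567) (l := 8) rfl N5567 D13903
theorem N6949 : nd 6949 = n13904 := ndS (p := 5568) (l := 7) rfl N5568 D13904
theorem N6950 : nd 6950 = n13905 := ndS (p := 5568) (l := 8) rfl N5568 D13905
theorem N6951 : nd 6951 = n13906 := ndS (p := 5569) (l := 9) rfl N5569 D13906
theorem N6952 : nd 6952 = n13907 := ndS (p := 5572) (l := 3) rfl N5572 D13907
theorem N6953 : nd 6953 = n13908 := ndS (p := 5572) (l := 6) rfl N5572 D13908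
theorem N6954 : nd 6954 = n13909 := ndS (p := 5572) (l := 8) rfl N5572 D13909
theorem N6955 : nd 6955 = n13910 := ndS (p := 5573) (l := 7) rfl N5573 D13910
theorem N6956 : nd 6956 = n13911 := ndS (p := 5573) (l := 8) rfl N5573 D13911
theorem N6957 : nd 6957 = n13912 := ndS (p := 5574) (l := 3) rfl N5574 D13912
theorem N6958 : nd 6958 = n13913 := ndS (p := 5574) (l := 9) rfl N5574 D13913
theorem N6959 : nd 6959 = n13914 := ndS (p := 5575) (l := 4) rfl N5575 D13914
theorem N6960 : nd 6960 = n13915 := ndS (p := 5575) (l := 9) rfl N5575 D13915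
theorem N6961 : nd 6961 = n13916 := ndS (p := 5577) (l := 5) rfl N5577 D13916
theorem N6962 : nd 6962 = n13917 := ndS (p := 5577) (l := 7) rfl N5577 D13917
theorem N6963 : nd 6963 = n13918 := ndS (p := 5577) (l := 8) rfl N5577 D13918
theorem N6964 : nd 6964 = n13919 := ndS (p := 5578) (l := 3) rfl N5578 D13919
theorem N6965 : nd 6965 = n13920 := ndS (p := 5578) (l := 9) rfl N5578 D13920
theorem N6966 : nd 6966 = n13921 := ndS (p := 5579) (l := 8) rfl N5579 D13921
theorem N6967 : nd 6967 = n13922 := ndS (p := 5580) (l := 9) rfl N5580 D13922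
theorem N6968 : nd 6968 = n13923 := ndS (p := 5582) (l := 7) rfl N5582 D13923
theorem N6969 : nd 6969 = n13924 := ndS (p := 5582) (l := 8) rfl N5582 D13924
theorem N6970 : nd 6970 = n13925 := ndS (p := 5583) (l := 8) rfl N5583 D13925
theorem N6971 : nd 6971 = n13926 := ndS (p := 5584) (l := 3) rfl N5584 D13926
theorem N6972 : nd 6972 = n13927 := ndS (p := 5584) (l := 9) rfl N5584 D13927
theorem N6973 : nd 6973 = n13928 := ndS (p := 5585) (l := 2) rfl N5585 D13928
theorem N6974 : nd 6974 = n13929 := ndS (p := 5585) (l := 9) rfl N5585 D13929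
theorem N6975 : nd 6975 = n13930 := ndS (p := 5587) (l := 9) rfl N5587 D13930
theorem N6976 : nd 6976 = n13931 := ndS (p := 5589) (l := 4) rfl N5589 D13931
theorem N6977 : nd 6977 = n13932 := ndS (p := 5589) (l := 6) rfl N5589 D13932
theorem N6978 : nd 6978 = n13933 := ndS (p := 5589) (l := 8) rfl N5589 D13933
theorem N6979 : nd 6979 = n13935 := ndS (p := 5590) (l := 9) rfl N5590 D13935
theorem N6980 : nd 6980 = n13936 := ndS (p := 5591) (l := 3) rfl N5591 D13936
theorem N6981 : nd 6981 = n13937 := ndS (p := 5591) (l := 6) rfl N5591 D13937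
theorem N6982 : nd 6982 = n13938 := ndS (p := 5591) (l := 8) rfl N5591 D13938
theorem N6983 : nd 6983 = n13939 := ndS (p := 5592) (l := 7) rfl N5592 D13939
theorem N6984 : nd 6984 = n13940 := ndS (p := 5592) (l := 8) rfl N5592 D13940
theorem N6985 : nd 6985 = n13941 := ndS (p := 5593) (l := 3) rfl N5593 D13941
theorem N6986 : nd 6986 = n13942 := ndS (p := 5593) (l := 9) rfl N5593 D13942
theorem N6987 : nd 6987 = n13944 := ndS (p := 5594) (l := 9) rfl N5594 D13944
theorem N6988 : nd 6988 = n13945 := ndS (p := 5596) (l := 5) rfl N5596 D13945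
theorem N6989 : nd 6989 = n13946 := ndS (p := 5596) (l := 7) rfl N5596 D13946
theorem N6990 : nd 6990 = n13947 := ndS (p := 5596) (l := 8) rfl N5596 D13947
theorem N6991 : nd 6991 = n13948 := ndS (p := 5597) (l := 3) rfl N5597 D13948
theorem N6992 : nd 6992 = n13949 := ndS (p := 5597) (l := 9) rfl N5597 D13949
theorem N6993 : nd 6993 = n13950 := ndS (p := 5598) (l := 8) rfl N5598 D13950
theorem N6994 : nd 6994 = n13951 := ndS (p := 5599) (l := 9) rfl N5599 D13951
theorem N6995 : nd 6995 = n13952 := ndS (p := 5601) (l := 6) rfl N5601 D13952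
theorem N6996 : nd 6996 = n13953 := ndS (p := 5601) (l := 8) rfl N5601 D13953
theorem N6997 : nd 6997 = n13954 := ndS (p := 5602) (l := 5) rfl N5602 D13954
theorem N6998 : nd 6998 = n13955 := ndS (p := 5602) (l := 7) rfl N5602 D13955
theorem N6999 : nd 6999 = n13956 := ndS (p := 5602) (l := 8) rfl N5602 D13956
theorem N7000 : nd 7000 = n13957 := ndS (p := 5603) (l := 3) rfl N5603 D13957
theorem N7001 : nd 7001 = n13958 := ndS (p := 5603) (l := 9) rfl N5603 D13958
theorem N7002 : nd 7002 = n13959 := ndS (p := 5604) (l := 8) rfl N5604 D13959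
theorem N7003 : nd 7003 = n13960 := ndS (p := 5605) (l := 3) rfl N5605 D13960
theorem N7004 : nd 7004 = n13961 := ndS (p := 5605) (l := 9) rfl N5605 D13961
theorem N7005 : nd 7005 = n13962 := ndS (p := 5606) (l := 4) rfl N5606 D13962
theorem N7006 : nd 7006 = n13963 := ndS (p := 5606) (l := 9) rfl N5606 D13963
theorem N7007 : nd 7007 = n13964 := ndS (p := 5608) (l := 5) rfl N5608 D13964
theorem N7008 : nd 7008 = n13965 := ndS (p := 5608) (l := 9) rfl N5608 D13965
theorem N7009 : nd 7009 = n13966 := ndS (p := 5609) (l := 8) rfl N5609 D13966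
theorem N7010 : nd 7010 = n13967 := ndS (p := 5610) (l := 7) rfl N5610 D13967
theorem N7011 : nd 7011 = n13968 := ndS (p := 5610) (l := 8) rfl N5610 D13968
theorem N7012 : nd 7012 = n13969 := ndS (p := 5611) (l := 8) rfl N5611 D13969
theorem N7013 : nd 7013 = n13970 := ndS (p := 5612) (l := 3) rfl N5612 D13970
theorem N7014 : nd 7014 = n13971 := ndS (p := 5612) (l := 9) rfl N5612 D13971
theorem N7015 : nd 7015 = n13972 := ndS (p := 5613) (l := 2) rfl N5613 D13972
theorem N7016 : nd 7016 = n13973 := ndS (p := 5613) (l := 9) rfl N5613 D13973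
theorem N7017 : nd 7017 = n13974 := ndS (p := 5615) (l := 9) rfl N5615 D13974
theorem N7018 : nd 7018 = n13975 := ndS (p := 5617) (l := 6) rfl N5617 D13975
theorem N7019 : nd 7019 = n13976 := ndS (p := 5617) (l := 8) rfl N5617 D13976
theorem N7020 : nd 7020 = n13977 := ndS (p := 5618) (l := 3) rfl N5618 D13977
theorem N7021 : nd 7021 = n13978 := ndS (p := 5618) (l := 9) rfl N5618 D13978
theorem N7022 : nd 7022 = n13979 := ndS (p := 5619) (l := 3) rfl N5619 D13979
theorem N7023 : nd 7023 = n13980 := ndS (p := 5619) (l := 9) rfl N5619 D13980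
theorem N7024 : nd 7024 = n13981 := ndS (p := 5620) (l := 2) rfl N5620 D13981
theorem N7025 : nd 7025 = n13982 := ndS (p := 5620) (l := 9) rfl N5620 D13982
theorem N7026 : nd 7026 = n13983 := ndS (p := 5622) (l := 1) rfl N5622 D13983
theorem N7027 : nd 7027 = n13984 := ndS (p := 5622) (l := 9) rfl N5622 D13984
theorem N7028 : nd 7028 = n13985 := ndS (p := 5623) (l := 8) rfl N5623 D13985
theorem N7029 : nd 7029 = n14004 := ndS (p := 5626) (l := 5) rfl N5626 D14004
theorem N7030 : nd 7030 = n14005 := ndS (p := 5626) (l := 7) rfl N5626 D14005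
theorem N7031 : nd 7031 = n14032 := ndS (p := 5629) (l := 5) rfl N5629 D14032
theorem N7032 : nd 7032 = n14033 := ndS (p := 5629) (l := 7) rfl N5629 D14033
theorem N7033 : nd 7033 = n14039 := ndS (p := 5631) (l := 7) rfl N5631 D14039
theorem N7034 : nd 7034 = n14040 := ndS (p := 5631) (l := 8) rfl N5631 D14040
theorem N7035 : nd 7035 = n14041 := ndS (p := 5632) (l := 8) rfl N5632 D14041
theorem N7036 : nd 7036 = n14042 := ndS (p := 5633) (l := 3) rfl N5633 D14042
theorem N7037 : nd 7037 = n14044 := ndS (p := 5634) (l := 2) rfl N5634 D14044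
theorem N7038 : nd 7038 = n14061 := ndS (p := 5636) (l := 5) rfl N5636 D14061
theorem N7039 : nd 7039 = n14062 := ndS (p := 5636) (l := 7) rfl N5636 D14062
theorem N7040 : nd 7040 = n14068 := ndS (p := 5638) (l := 6) rfl N5638 D14068
theorem N7041 : nd 7041 = n14069 := ndS (p := 5638) (l := 8) rfl N5638 D14069
theorem N7042 : nd 7042 = n14070 := ndS (p := 5639) (l := 5) rfl N5639 D14070
theorem N7043 : nd 7043 = n14071 := ndS (p := 5639) (l := 7) rfl N5639 D14071
theorem N7044 : nd 7044 = n14083 := ndS (p := 5641) (l := 7) rfl N5641 D14083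
theorem N7045 : nd 7045 = n14084 := ndS (p := 5641) (l := 8) rfl N5641 D14084
theorem N7046 : nd 7046 = n14085 := ndS (p := 5642) (l := 8) rfl N5642 D14085
theorem N7047 : nd 7047 = n14086 := ndS (p := 5643) (l := 3) rfl N5643 D14086
theorem N7048 : nd 7048 = n14088 := ndS (p := 5644) (l := 2) rfl N5644 D14088
theorem N7049 : nd 7049 = n14091 := ndS (p := 5646) (l := 6) rfl N5646 D14091
theorem N7050 : nd 7050 = n14092 := ndS (p := 5646) (l := 8) rfl N5646 D14092
theorem N7051 : nd 7051 = n14093 := ndS (p := 5647) (l := 3) rfl N5647 D14093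
theorem N7052 : nd 7052 = n14094 := ndS (p := 5647) (l := 9) rfl N5647 D14094
theorem N7053 : nd 7053 = n14095 := ndS (p := 5648) (l := 3) rfl N5648 D14095
theorem N7054 : nd 7054 = n14096 := ndS (p := 5648) (l := 9) rfl N5648 D14096
theorem N7055 : nd 7055 = n14097 := ndS (p := 5649) (l := 2) rfl N5649 D14097
theorem N7056 : nd 7056 = n14098 := ndS (p := 5649) (l := 9) rfl N5649 D14098
theorem N7057 : nd 7057 = n14099 := ndS (p := 5651) (l := 1) rfl N5651 D14099
theorem N7058 : nd 7058 = n14100 := ndS (p := 5651) (l := 9) rfl N5651 D14100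
theorem N7059 : nd 7059 = n14101 := ndS (p := 5652) (l := 8) rfl N5652 D14101
theorem N7060 : nd 7060 = n14111 := ndS (p := 5654) (l := 6) rfl N5654 D14111
theorem N7061 : nd 7061 = n14112 := ndS (p := 5654) (l := 8) rfl N5654 D14112
theorem N7062 : nd 7062 = n14113 := ndS (p := 5655) (l := 5) rfl N5655 D14113
theorem N7063 : nd 7063 = n14114 := ndS (p := 5655) (l := 7) rfl N5655 D14114
theorem N7064 : nd 7064 = n14124 := ndS (p := 5657) (l := 7) rfl N5657 D14124
theorem N7065 : nd 7065 = n14125 := ndS (p := 5657) (l := 8) rfl N5657 D14125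
theorem N7066 : nd 7066 = n14126 := ndS (p := 5658) (l := 8) rfl N5658 D14126
theorem N7067 : nd 7067 = n14127 := ndS (p := 5659) (l := 3) rfl N5659 D14127
theorem N7068 : nd 7068 = n14129 := ndS (p := 5660) (l := 2) rfl N5660 D14129
theorem N7069 : nd 7069 = n14132 := ndS (p := 5662) (l := 5) rfl N5662 D14132
theorem N7070 : nd 7070 = n14133 := ndS (p := 5662) (l := 7) rfl N5662 D14133
theorem N7071 : nd 7071 = n14134 := ndS (p := 5662) (l := 8) rfl N5662 D14134
theorem N7072 : nd 7072 = n14135 := ndS (p := 5663) (l := 3) rfl N5663 D14135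
theorem N7073 : nd 7073 = n14136 := ndS (p := 5663) (l := 9) rfl N5663 D14136
theorem N7074 : nd 7074 = n14137 := ndS (p := 5664) (l := 7) rfl N5664 D14137
theorem N7075 : nd 7075 = n14138 := ndS (p := 5664) (l := 8) rfl N5664 D14138
theorem N7076 : nd 7076 = n14139 := ndS (p := 5665) (l := 8) rfl N5665 D14139
theorem N7077 : nd 7077 = n14140 := ndS (p := 5666) (l := 3) rfl N5666 D14140
theorem N7078 : nd 7078 = n14142 := ndS (p := 5667) (l := 2) rfl N5667 D14142
theorem N7079 : nd 7079 = n14151 := ndS (p := 5669) (l := 6) rfl N5669 D14151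
theorem N7080 : nd 7080 = n14152 := ndS (p := 5669) (l := 8) rfl N5669 D14152
theorem N7081 : nd 7081 = n14153 := ndS (p := 5670) (l := 3) rfl N5670 D14153
theorem N7082 : nd 7082 = n14154 := ndS (p := 5670) (l := 9) rfl N5670 D14154
theorem N7083 : nd 7083 = n14155 := ndS (p := 5671) (l := 3) rfl N5671 D14155
theorem N7084 : nd 7084 = n14156 := ndS (p := 5671) (l := 9) rfl N5671 D14156
theorem N7085 : nd 7085 = n14157 := ndS (p := 5672) (l := 2) rfl N5672 D14157
theorem N7086 : nd 7086 = n14158 := ndS (p := 5672) (l := 9) rfl N5672 D14158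
theorem N7087 : nd 7087 = n14159 := ndS (p := 5674) (l := 1) rfl N5674 D14159
theorem N7088 : nd 7088 = n14160 := ndS (p := 5674) (l := 9) rfl N5674 D14160
theorem N7089 : nd 7089 = n14161 := ndS (p := 5675) (l := 8) rfl N5675 D14161
theorem N7090 : nd 7090 = n14162 := ndS (p := 5677) (l := 8) rfl N5677 D14162
theorem N7091 : nd 7091 = n14163 := ndS (p := 5678) (l := 3) rfl N5678 D14163
theorem N7092 : nd 7092 = n14164 := ndS (p := 5678) (l := 9) rfl N5678 D14164
theorem N7093 : nd 7093 = n14165 := ndS (p := 5679) (l := 2) rfl N5679 D14165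
theorem N7094 : nd 7094 = n14166 := ndS (p := 5679) (l := 4) rfl N5679 D14166
theorem N7095 : nd 7095 = n14167 := ndS (p := 5679) (l := 9) rfl N5679 D14167
theorem N7096 : nd 7096 = n14168 := ndS (p := 5681) (l := 2) rfl N5681 D14168
theorem N7097 : nd 7097 = n14169 := ndS (p := 5681) (l := 9) rfl N5681 D14169
theorem N7098 : nd 7098 = n14170 := ndS (p := 5683) (l := 1) rfl N5683 D14170
theorem N7099 : nd 7099 = n14171 := ndS (p := 5683) (l := 9) rfl N5683 D14171
theorem N7100 : nd 7100 = n14172 := ndS (p := 5684) (l := 8) rfl N5684 D14172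
theorem N7101 : nd 7101 = n14173 := ndS (p := 5685) (l := 0) rfl N5685 D14173
theorem N7102 : nd 7102 = n14174 := ndS (p := 5685) (l := 9) rfl N5685 D14174
theorem N7103 : nd 7103 = n14175 := ndS (p := 5686) (l := 8) rfl N5686 D14175
theorem N7104 : nd 7104 = n14187 := ndS (p := 5693) (l := 3) rfl N5693 D14187
theorem N7105 : nd 7105 = n14188 := ndS (p := 5693) (l := 5) rfl N5693 D14188
theorem N7106 : nd 7106 = n14193 := ndS (p := 5697) (l := 3) rfl N5697 D14193
theorem N7107 : nd 7107 = n14194 := ndS (p := 5697) (l := 5) rfl N5697 D14194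
theorem N7108 : nd 7108 = n14195 := ndS (p := 5698) (l := 2) rfl N5698 D14195
theorem N7109 : nd 7109 = n14196 := ndS (p := 5698) (l := 5) rfl N5698 D14196
theorem N7110 : nd 7110 = n14197 := ndS (p := 5698) (l := 8) rfl N5698 D14197
theorem N7111 : nd 7111 = n14199 := ndS (p := 5700) (l := 4) rfl N5700 D14199
theorem N7112 : nd 7112 = n14201 := ndS (p := 5700) (l := 8) rfl N5700 D14201
theorem N7113 : nd 7113 = n14218 := ndS (p := 5708) (l := 2) rfl N5708 D14218
theorem N7114 : nd 7114 = n14219 := ndS (p := 5708) (l := 5) rfl N5708 D14219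
theorem N7115 : nd 7115 = n14220 := ndS (p := 5708) (l := 8) rfl N5708 D14220
theorem N7116 : nd 7116 = n14221 := ndS (p := 5709) (l := 6) rfl N5709 D14221
theorem N7117 : nd 7117 = n14222 := ndS (p := 5710) (l := 4) rfl N5710 D14222
theorem N7118 : nd 7118 = n14225 := ndS (p := 5711) (l := 9) rfl N5711 D14225
theorem N7119 : nd 7119 = n14228 := ndS (p := 5714) (l := 5) rfl N5714 D14228
theorem N7120 : nd 7120 = n14230 := ndS (p := 5715) (l := 6) rfl N5715 D14230
theorem N7121 : nd 7121 = n14231 := ndS (p := 5716) (l := 5) rfl N5716 D14231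
theorem N7122 : nd 7122 = n14233 := ndS (p := 5717) (l := 4) rfl N5717 D14233
theorem N7123 : nd 7123 = n14234 := ndS (p := 5717) (l := 6) rfl N5717 D14234
theorem N7124 : nd 7124 = n14235 := ndS (p := 5717) (l := 8) rfl N5717 D14235
theorem N7125 : nd 7125 = n14236 := ndS (p := 5718) (l := 9) rfl N5718 D14236
theorem N7126 : nd 7126 = n14238 := ndS (p := 5720) (l := 6) rfl N5720 D14238
theorem N7127 : nd 7127 = n14239 := ndS (p := 5720) (l := 8) rfl N5720 D14239
theorem N7128 : nd 7128 = n14241 := ndS (p := 5721) (l := 8) rfl N5721 D14241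
theorem N7129 : nd 7129 = n14242 := ndS (p := 5722) (l := 9) rfl N5722 D14242
theorem N7130 : nd 7130 = n14259 := ndS (p := 5729) (l := 9) rfl N5729 D14259
theorem N7131 : nd 7131 = n14265 := ndS (p := 5732) (l := 5) rfl N5732 D14265
theorem N7132 : nd 7132 = n14266 := ndS (p := 5732) (l := 8) rfl N5732 D14266
theorem N7133 : nd 7133 = n14267 := ndS (p := 5733) (l := 4) rfl N5733 D14267
theorem N7134 : nd 7134 = n14268 := ndS (p := 5733) (l := 6) rfl N5733 D14268
theorem N7135 : nd 7135 = n14269 := ndS (p := 5733) (l := 8) rfl N5733 D14269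
theorem N7136 : nd 7136 = n14270 := ndS (p := 5734) (l := 9) rfl N5734 D14270
theorem N7137 : nd 7137 = n14271 := ndS (p := 5735) (l := 7) rfl N5735 D14271
theorem N7138 : nd 7138 = n14272 := ndS (p := 5736) (l := 6) rfl N5736 D14272
theorem N7139 : nd 7139 = n14273 := ndS (p := 5736) (l := 8) rfl N5736 D14273
theorem N7140 : nd 7140 = n14276 := ndS (p := 5738) (l := 9) rfl N5738 D14276
theorem N7141 : nd 7141 = n14280 := ndS (p := 5741) (l := 4) rfl N5741 D14280
theorem N7142 : nd 7142 = n14281 := ndS (p := 5741) (l := 6) rfl N5741 D14281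
theorem N7143 : nd 7143 = n14284 := ndS (p := 5742) (l := 7) rfl N5742 D14284
theorem N7144 : nd 7144 = n14285 := ndS (p := 5743) (l := 4) rfl N5743 D14285
theorem N7145 : nd 7145 = n14286 := ndS (p := 5743) (l := 6) rfl N5743 D14286
theorem N7146 : nd 7146 = n14290 := ndS (p := 5744) (l := 6) rfl N5744 D14290
theorem N7147 : nd 7147 = n14291 := ndS (p := 5744) (l := 8) rfl N5744 D14291
theorem N7148 : nd 7148 = n14292 := ndS (p := 5745) (l := 7) rfl N5745 D14292
theorem N7149 : nd 7149 = n14293 := ndS (p := 5745) (l := 8) rfl N5745 D14293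
theorem N7150 : nd 7150 = n14294 := ndS (p := 5746) (l := 9) rfl N5746 D14294
theorem N7151 : nd 7151 = n14295 := ndS (p := 5749) (l := 5) rfl N5749 D14295
theorem N7152 : nd 7152 = n14296 := ndS (p := 5749) (l := 7) rfl N5749 D14296
theorem N7153 : nd 7153 = n14297 := ndS (p := 5749) (l := 8) rfl N5749 D14297
theorem N7154 : nd 7154 = n14298 := ndS (p := 5750) (l := 3) rfl N5750 D14298
theorem N7155 : nd 7155 = n14299 := ndS (p := 5750) (l := 9) rfl N5750 D14299
theorem N7156 : nd 7156 = n14300 := ndS (p := 5751) (l := 8) rfl N5751 D14300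
theorem N7157 : nd 7157 = n14301 := ndS (p := 5752) (l := 9) rfl N5752 D14301
theorem N7158 : nd 7158 = n14310 := ndS (p := 5754) (l := 8) rfl N5754 D14310
theorem N7159 : nd 7159 = n14311 := ndS (p := 5755) (l := 9) rfl N5755 D14311
theorem N7160 : nd 7160 = n14317 := ndS (p := 5758) (l := 5) rfl N5758 D14317
theorem N7161 : nd 7161 = n14318 := ndS (p := 5758) (l := 8) rfl N5758 D14318
theorem N7162 : nd 7162 = n14319 := ndS (p := 5759) (l := 4) rfl N5759 D14319
theorem N7163 : nd 7163 = n14320 := ndS (p := 5759) (l := 6) rfl N5759 D14320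
theorem N7164 : nd 7164 = n14321 := ndS (p := 5759) (l := 8) rfl N5759 D14321
theorem N7165 : nd 7165 = n14322 := ndS (p := 5760) (l := 9) rfl N5760 D14322
theorem N7166 : nd 7166 = n14323 := ndS (p := 5761) (l := 7) rfl N5761 D14323
theorem N7167 : nd 7167 = n14324 := ndS (p := 5762) (l := 6) rfl N5762 D14324
theorem N7168 : nd 7168 = n14325 := ndS (p := 5762) (l := 8) rfl N5762 D14325
theorem N7169 : nd 7169 = n14326 := ndS (p := 5763) (l := 7) rfl N5763 D14326
theorem N7170 : nd 7170 = n14327 := ndS (p := 5763) (l := 8) rfl N5763 D14327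
theorem N7171 : nd 7171 = n14328 := ndS (p := 5764) (l := 9) rfl N5764 D14328
theorem N7172 : nd 7172 = n14329 := ndS (p := 5767) (l := 1) rfl N5767 D14329
theorem N7173 : nd 7173 = n14330 := ndS (p := 5767) (l := 5) rfl N5767 D14330
theorem N7174 : nd 7174 = n14331 := ndS (p := 5767) (l := 8) rfl N5767 D14331
theorem N7175 : nd 7175 = n14332 := ndS (p := 5768) (l := 4) rfl N5768 D14332
theorem N7176 : nd 7176 = n14333 := ndS (p := 5768) (l := 6) rfl N5768 D14333
theorem N7177 : nd 7177 = n14334 := ndS (p := 5768) (l := 8) rfl N5768 D14334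
theorem N7178 : nd 7178 = n14335 := ndS (p := 5769) (l := 9) rfl N5769 D14335
theorem N7179 : nd 7179 = n14336 := ndS (p := 5770) (l := 7) rfl N5770 D14336
theorem N7180 : nd 7180 = n14337 := ndS (p := 5771) (l := 4) rfl N5771 D14337
theorem N7181 : nd 7181 = n14338 := ndS (p := 5771) (l := 6) rfl N5771 D14338
theorem N7182 : nd 7182 = n14339 := ndS (p := 5771) (l := 8) rfl N5771 D14339
theorem N7183 : nd 7183 = n14340 := ndS (p := 5772) (l := 3) rfl N5772 D14340
theorem N7184 : nd 7184 = n14341 := ndS (p := 5772) (l := 9) rfl N5772 D14341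
theorem N7185 : nd 7185 = n14342 := ndS (p := 5773) (l := 6) rfl N5773 D14342
theorem N7186 : nd 7186 = n14343 := ndS (p := 5773) (l := 8) rfl N5773 D14343
theorem N7187 : nd 7187 = n14344 := ndS (p := 5774) (l := 7) rfl N5774 D14344
theorem N7188 : nd 7188 = n14345 := ndS (p := 5774) (l := 8) rfl N5774 D14345
theorem N7189 : nd 7189 = n14346 := ndS (p := 5775) (l := 9) rfl N5775 D14346
theorem N7190 : nd 7190 = n14347 := ndS (p := 5778) (l := 5) rfl N5778 D14347
theorem N7191 : nd 7191 = n14348 := ndS (p := 5778) (l := 7) rfl N5778 D14348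
theorem N7192 : nd 7192 = n14349 := ndS (p := 5778) (l := 8) rfl N5778 D14349
theorem N7193 : nd 7193 = n14350 := ndS (p := 5779) (l := 3) rfl N5779 D14350
theorem N7194 : nd 7194 = n14351 := ndS (p := 5779) (l := 9) rfl N5779 D14351
theorem N7195 : nd 7195 = n14352 := ndS (p := 5780) (l := 8) rfl N5780 D14352
theorem N7196 : nd 7196 = n14353 := ndS (p := 5781) (l := 9) rfl N5781 D14353
theorem N7197 : nd 7197 = n14366 := ndS (p := 5783) (l := 8) rfl N5783 D14366
theorem N7198 : nd 7198 = n14368 := ndS (p := 5784) (l := 8) rfl N5784 D14368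
theorem N7199 : nd 7199 = n14369 := ndS (p := 5785) (l := 9) rfl N5785 D14369
theorem N7200 : nd 7200 = n14378 := ndS (p := 5788) (l := 4) rfl N5788 D14378
theorem N7201 : nd 7201 = n14379 := ndS (p := 5788) (l := 6) rfl N5788 D14379
theorem N7202 : nd 7202 = n14380 := ndS (p := 5788) (l := 8) rfl N5788 D14380
theorem N7203 : nd 7203 = n14382 := ndS (p := 5789) (l := 9) rfl N5789 D14382
theorem N7204 : nd 7204 = n14383 := ndS (p := 5790) (l := 6) rfl N5790 D14383
theorem N7205 : nd 7205 = n14384 := ndS (p := 5790) (l := 8) rfl N5790 D14384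
theorem N7206 : nd 7206 = n14385 := ndS (p := 5791) (l := 7) rfl N5791 D14385
theorem N7207 : nd 7207 = n14386 := ndS (p := 5791) (l := 8) rfl N5791 D14386
theorem N7208 : nd 7208 = n14387 := ndS (p := 5792) (l := 9) rfl N5792 D14387
theorem N7209 : nd 7209 = n14388 := ndS (p := 5795) (l := 5) rfl N5795 D14388
theorem N7210 : nd 7210 = n14389 := ndS (p := 5795) (l := 7) rfl N5795 D14389
theorem N7211 : nd 7211 = n14390 := ndS (p := 5795) (l := 8) rfl N5795 D14390
theorem N7212 : nd 7212 = n14391 := ndS (p := 5796) (l := 3) rfl N5796 D14391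
theorem N7213 : nd 7213 = n14392 := ndS (p := 5796) (l := 9) rfl N5796 D14392
theorem N7214 : nd 7214 = n14393 := ndS (p := 5797) (l := 8) rfl N5797 D14393
theorem N7215 : nd 7215 = n14394 := ndS (p := 5798) (l := 9) rfl N5798 D14394
theorem N7216 : nd 7216 = n14395 := ndS (p := 5800) (l := 5) rfl N5800 D14395
theorem N7217 : nd 7217 = n14396 := ndS (p := 5800) (l := 8) rfl N5800 D14396
theorem N7218 : nd 7218 = n14397 := ndS (p := 5801) (l := 4) rfl N5801 D14397
theorem N7219 : nd 7219 = n14398 := ndS (p := 5801) (l := 6) rfl N5801 D14398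
theorem N7220 : nd 7220 = n14399 := ndS (p := 5801) (l := 8) rfl N5801 D14399
theorem N7221 : nd 7221 = n14400 := ndS (p := 5802) (l := 3) rfl N5802 D14400
theorem N7222 : nd 7222 = n14401 := ndS (p := 5802) (l := 9) rfl N5802 D14401
theorem N7223 : nd 7223 = n14402 := ndS (p := 5803) (l := 6) rfl N5803 D14402
theorem N7224 : nd 7224 = n14403 := ndS (p := 5803) (l := 8) rfl N5803 D14403
theorem N7225 : nd 7225 = n14404 := ndS (p := 5804) (l := 7) rfl N5804 D14404
theorem N7226 : nd 7226 = n14405 := ndS (p := 5804) (l := 8) rfl N5804 D14405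
theorem N7227 : nd 7227 = n14406 := ndS (p := 5805) (l := 9) rfl N5805 D14406
theorem N7228 : nd 7228 = n14407 := ndS (p := 5808) (l := 3) rfl N5808 D14407
theorem N7229 : nd 7229 = n14408 := ndS (p := 5808) (l := 6) rfl N5808 D14408
theorem N7230 : nd 7230 = n14409 := ndS (p := 5808) (l := 8) rfl N5808 D14409
theorem N7231 : nd 7231 = n14410 := ndS (p := 5809) (l := 7) rfl N5809 D14410
theorem N7232 : nd 7232 = n14411 := ndS (p := 5809) (l := 8) rfl N5809 D14411
theorem N7233 : nd 7233 = n14412 := ndS (p := 5810) (l := 3) rfl N5810 D14412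
theorem N7234 : nd 7234 = n14413 := ndS (p := 5810) (l := 9) rfl N5810 D14413
theorem N7235 : nd 7235 = n14414 := ndS (p := 5811) (l := 4) rfl N5811 D14414
theorem N7236 : nd 7236 = n14415 := ndS (p := 5811) (l := 9) rfl N5811 D14415
theorem N7237 : nd 7237 = n14416 := ndS (p := 5813) (l := 5) rfl N5813 D14416
theorem N7238 : nd 7238 = n14417 := ndS (p := 5813) (l := 7) rfl N5813 D14417
theorem N7239 : nd 7239 = n14418 := ndS (p := 5813) (l := 8) rfl N5813 D14418
theorem N7240 : nd 7240 = n14419 := ndS (p := 5814) (l := 3) rfl N5814 D14419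
theorem N7241 : nd 7241 = n14420 := ndS (p := 5814) (l := 9) rfl N5814 D14420
theorem N7242 : nd 7242 = n14421 := ndS (p := 5815) (l := 8) rfl N5815 D14421
theorem N7243 : nd 7243 = n14422 := ndS (p := 5816) (l := 9) rfl N5816 D14422
theorem N7244 : nd 7244 = n14423 := ndS (p := 5818) (l := 7) rfl N5818 D14423
theorem N7245 : nd 7245 = n14424 := ndS (p := 5818) (l := 8) rfl N5818 D14424
theorem N7246 : nd 7246 = n14425 := ndS (p := 5819) (l := 8) rfl N5819 D14425
theorem N7247 : nd 7247 = n14426 := ndS (p := 5820) (l := 3) rfl N5820 D14426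
theorem N7248 : nd 7248 = n14427 := ndS (p := 5820) (l := 9) rfl N5820 D14427
theorem N7249 : nd 7249 = n14428 := ndS (p := 5821) (l := 2) rfl N5821 D14428
theorem N7250 : nd 7250 = n14429 := ndS (p := 5821) (l := 9) rfl N5821 D14429
theorem N7251 : nd 7251 = n14430 := ndS (p := 5823) (l := 9) rfl N5823 D14430
theorem N7252 : nd 7252 = n14451 := ndS (p := 5825) (l := 8) rfl N5825 D14451
theorem N7253 : nd 7253 = n14452 := ndS (p := 5826) (l := 3) rfl N5826 D14452
theorem N7254 : nd 7254 = n14453 := ndS (p := 5826) (l := 9) rfl N5826 D14453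
theorem N7255 : nd 7255 = n14454 := ndS (p := 5827) (l := 8) rfl N5827 D14454
theorem N7256 : nd 7256 = n14455 := ndS (p := 5828) (l := 9) rfl N5828 D14455
theorem N7257 : nd 7257 = n14468 := ndS (p := 5830) (l := 3) rfl N5830 D14468
theorem N7258 : nd 7258 = n14469 := ndS (p := 5830) (l := 6) rfl N5830 D14469
theorem N7259 : nd 7259 = n14470 := ndS (p := 5830) (l := 8) rfl N5830 D14470
theorem N7260 : nd 7260 = n14471 := ndS (p := 5831) (l := 7) rfl N5831 D14471
theorem N7261 : nd 7261 = n14472 := ndS (p := 5831) (l := 8) rfl N5831 D14472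
theorem N7262 : nd 7262 = n14474 := ndS (p := 5832) (l := 9) rfl N5832 D14474
theorem N7263 : nd 7263 = n14477 := ndS (p := 5834) (l := 5) rfl N5834 D14477
theorem N7264 : nd 7264 = n14478 := ndS (p := 5834) (l := 7) rfl N5834 D14478
theorem N7265 : nd 7265 = n14479 := ndS (p := 5834) (l := 8) rfl N5834 D14479
theorem N7266 : nd 7266 = n14480 := ndS (p := 5835) (l := 3) rfl N5835 D14480
theorem N7267 : nd 7267 = n14481 := ndS (p := 5835) (l := 9) rfl N5835 D14481
theorem N7268 : nd 7268 = n14482 := ndS (p := 5836) (l := 8) rfl N5836 D14482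
theorem N7269 : nd 7269 = n14483 := ndS (p := 5837) (l := 9) rfl N5837 D14483
theorem N7270 : nd 7270 = n14484 := ndS (p := 5839) (l := 7) rfl N5839 D14484
theorem N7271 : nd 7271 = n14485 := ndS (p := 5839) (l := 8) rfl N5839 D14485
theorem N7272 : nd 7272 = n14486 := ndS (p := 5840) (l := 8) rfl N5840 D14486
theorem N7273 : nd 7273 = n14487 := ndS (p := 5841) (l := 3) rfl N5841 D14487
theorem N7274 : nd 7274 = n14488 := ndS (p := 5841) (l := 9) rfl N5841 D14488
theorem N7275 : nd 7275 = n14489 := ndS (p := 5842) (l := 2) rfl N5842 D14489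
theorem N7276 : nd 7276 = n14490 := ndS (p := 5842) (l := 9) rfl N5842 D14490
theorem N7277 : nd 7277 = n14491 := ndS (p := 5844) (l := 9) rfl N5844 D14491
theorem N7278 : nd 7278 = n14492 := ndS (p := 5846) (l := 4) rfl N5846 D14492
theorem N7279 : nd 7279 = n14493 := ndS (p := 5846) (l := 6) rfl N5846 D14493
theorem N7280 : nd 7280 = n14494 := ndS (p := 5846) (l := 8) rfl N5846 D14494
theorem N7281 : nd 7281 = n14496 := ndS (p := 5847) (l := 9) rfl N5847 D14496
theorem N7282 : nd 7282 = n14497 := ndS (p := 5848) (l := 3) rfl N5848 D14497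
theorem N7283 : nd 7283 = n14498 := ndS (p := 5848) (l := 6) rfl N5848 D14498
theorem N7284 : nd 7284 = n14499 := ndS (p := 5848) (l := 8) rfl N5848 D14499
theorem N7285 : nd 7285 = n14500 := ndS (p := 5849) (l := 7) rfl N5849 D14500
theorem N7286 : nd 7286 = n14501 := ndS (p := 5849) (l := 8) rfl N5849 D14501
theorem N7287 : nd 7287 = n14502 := ndS (p := 5850) (l := 3) rfl N5850 D14502
theorem N7288 : nd 7288 = n14503 := ndS (p := 5850) (l := 9) rfl N5850 D14503
theorem N7289 : nd 7289 = n14505 := ndS (p := 5851) (l := 9) rfl N5851 D14505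
theorem N7290 : nd 7290 = n14506 := ndS (p := 5853) (l := 5) rfl N5853 D14506
theorem N7291 : nd 7291 = n14507 := ndS (p := 5853) (l := 7) rfl N5853 D14507
theorem N7292 : nd 7292 = n14508 := ndS (p := 5853) (l := 8) rfl N5853 D14508
theorem N7293 : nd 7293 = n14509 := ndS (p := 5854) (l := 3) rfl N5854 D14509
theorem N7294 : nd 7294 = n14510 := ndS (p := 5854) (l := 9) rfl N5854 D14510
theorem N7295 : nd 7295 = n14511 := ndS (p := 5855) (l := 8) rfl N5855 D14511
theorem N7296 : nd 7296 = n14512 := ndS (p := 5856) (l := 9) rfl N5856 D14512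
theorem N7297 : nd 7297 = n14513 := ndS (p := 5858) (l := 6) rfl N5858 D14513
theorem N7298 : nd 7298 = n14514 := ndS (p := 5858) (l := 8) rfl N5858 D14514
theorem N7299 : nd 7299 = n14515 := ndS (p := 5859) (l := 5) rfl N5859 D14515
theorem N7300 : nd 7300 = n14516 := ndS (p := 5859) (l := 7) rfl N5859 D14516
theorem N7301 : nd 7301 = n14517 := ndS (p := 5859) (l := 8) rfl N5859 D14517
theorem N7302 : nd 7302 = n14518 := ndS (p := 5860) (l := 3) rfl N5860 D14518
theorem N7303 : nd 7303 = n14519 := ndS (p := 5860) (l := 9) rfl N5860 D14519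
theorem N7304 : nd 7304 = n14520 := ndS (p := 5861) (l := 8) rfl N5861 D14520
theorem N7305 : nd 7305 = n14521 := ndS (p := 5862) (l := 3) rfl N5862 D14521
theorem N7306 : nd 7306 = n14522 := ndS (p := 5862) (l := 9) rfl N5862 D14522
theorem N7307 : nd 7307 = n14523 := ndS (p := 5863) (l := 4) rfl N5863 D14523
theorem N7308 : nd 7308 = n14524 := ndS (p := 5863) (l := 9) rfl N5863 D14524
theorem N7309 : nd 7309 = n14525 := ndS (p := 5865) (l := 5) rfl N5865 D14525
theorem N7310 : nd 7310 = n14526 := ndS (p := 5865) (l := 9) rfl N5865 D14526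
theorem N7311 : nd 7311 = n14528 := ndS (p := 5867) (l := 7) rfl N5867 D14528
theorem N7312 : nd 7312 = n14529 := ndS (p := 5867) (l := 8) rfl N5867 D14529
theorem N7313 : nd 7313 = n14530 := ndS (p := 5868) (l := 8) rfl N5868 D14530
theorem N7314 : nd 7314 = n14531 := ndS (p := 5869) (l := 3) rfl N5869 D14531
theorem N7315 : nd 7315 = n14532 := ndS (p := 5869) (l := 9) rfl N5869 D14532
theorem N7316 : nd 7316 = n14533 := ndS (p := 5870) (l := 2) rfl N5870 D14533
theorem N7317 : nd 7317 = n14534 := ndS (p := 5870) (l := 9) rfl N5870 D14534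
theorem N7318 : nd 7318 = n14535 := ndS (p := 5872) (l := 9) rfl N5872 D14535
theorem N7319 : nd 7319 = n14536 := ndS (p := 5874) (l := 6) rfl N5874 D14536
theorem N7320 : nd 7320 = n14537 := ndS (p := 5874) (l := 8) rfl N5874 D14537
theorem N7321 : nd 7321 = n14538 := ndS (p := 5875) (l := 3) rfl N5875 D14538
theorem N7322 : nd 7322 = n14539 := ndS (p := 5875) (l := 9) rfl N5875 D14539
theorem N7323 : nd 7323 = n14540 := ndS (p := 5876) (l := 3) rfl N5876 D14540
theorem N7324 : nd 7324 = n14541 := ndS (p := 5876) (l := 9) rfl N5876 D14541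
theorem N7325 : nd 7325 = n14542 := ndS (p := 5877) (l := 2) rfl N5877 D14542
theorem N7326 : nd 7326 = n14543 := ndS (p := 5877) (l := 9) rfl N5877 D14543
theorem N7327 : nd 7327 = n14544 := ndS (p := 5879) (l := 1) rfl N5879 D14544
theorem N7328 : nd 7328 = n14545 := ndS (p := 5879) (l := 9) rfl N5879 D14545
theorem N7329 : nd 7329 = n14546 := ndS (p := 5880) (l := 8) rfl N5880 D14546
theorem N7330 : nd 7330 = n14547 := ndS (p := 5882) (l := 1) rfl N5882 D14547
theorem N7331 : nd 7331 = n14548 := ndS (p := 5882) (l := 5) rfl N5882 D14548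
theorem N7332 : nd 7332 = n14549 := ndS (p := 5882) (l := 8) rfl N5882 D14549
theorem N7333 : nd 7333 = n14550 := ndS (p := 5883) (l := 4) rfl N5883 D14550
theorem N7334 : nd 7334 = n14551 := ndS (p := 5883) (l := 6) rfl N5883 D14551
theorem N7335 : nd 7335 = n14552 := ndS (p := 5883) (l := 8) rfl N5883 D14552
theorem N7336 : nd 7336 = n14553 := ndS (p := 5884) (l := 9) rfl N5884 D14553
theorem N7337 : nd 7337 = n14554 := ndS (p := 5885) (l := 7) rfl N5885 D14554
theorem N7338 : nd 7338 = n14555 := ndS (p := 5886) (l := 4) rfl N5886 D14555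
theorem N7339 : nd 7339 = n14556 := ndS (p := 5886) (l := 6) rfl N5886 D14556
theorem N7340 : nd 7340 = n14557 := ndS (p := 5886) (l := 8) rfl N5886 D14557
theorem N7341 : nd 7341 = n14558 := ndS (p := 5887) (l := 3) rfl N5887 D14558
theorem N7342 : nd 7342 = n14559 := ndS (p := 5887) (l := 9) rfl N5887 D14559
theorem N7343 : nd 7343 = n14560 := ndS (p := 5888) (l := 6) rfl N5888 D14560
theorem N7344 : nd 7344 = n14561 := ndS (p := 5888) (l := 8) rfl N5888 D14561
theorem N7345 : nd 7345 = n14562 := ndS (p := 5889) (l := 7) rfl N5889 D14562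
theorem N7346 : nd 7346 = n14563 := ndS (p := 5889) (l := 8) rfl N5889 D14563
theorem N7347 : nd 7347 = n14564 := ndS (p := 5890) (l := 9) rfl N5890 D14564
theorem N7348 : nd 7348 = n14565 := ndS (p := 5893) (l := 5) rfl N5893 D14565
theorem N7349 : nd 7349 = n14566 := ndS (p := 5893) (l := 7) rfl N5893 D14566
theorem N7350 : nd 7350 = n14567 := ndS (p := 5893) (l := 8) rfl N5893 D14567
theorem N7351 : nd 7351 = n14568 := ndS (p := 5894) (l := 3) rfl N5894 D14568
theorem N7352 : nd 7352 = n14569 := ndS (p := 5894) (l := 9) rfl N5894 D14569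
theorem N7353 : nd 7353 = n14570 := ndS (p := 5895) (l := 8) rfl N5895 D14570
theorem N7354 : nd 7354 = n14571 := ndS (p := 5896) (l := 9) rfl N5896 D14571
theorem N7355 : nd 7355 = n14572 := ndS (p := 5898) (l := 5) rfl N5898 D14572
theorem N7356 : nd 7356 = n14574 := ndS (p := 5899) (l := 4) rfl N5899 D14574
theorem N7357 : nd 7357 = n14575 := ndS (p := 5899) (l := 6) rfl N5899 D14575
theorem N7358 : nd 7358 = n14576 := ndS (p := 5899) (l := 8) rfl N5899 D14576
theorem N7359 : nd 7359 = n14578 := ndS (p := 5900) (l := 9) rfl N5900 D14578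
theorem N7360 : nd 7360 = n14579 := ndS (p := 5901) (l := 6) rfl N5901 D14579
theorem N7361 : nd 7361 = n14580 := ndS (p := 5901) (l := 8) rfl N5901 D14580
theorem N7362 : nd 7362 = n14581 := ndS (p := 5902) (l := 7) rfl N5902 D14581
theorem N7363 : nd 7363 = n14582 := ndS (p := 5902) (l := 8) rfl N5902 D14582
theorem N7364 : nd 7364 = n14583 := ndS (p := 5903) (l := 9) rfl N5903 D14583
theorem N7365 : nd 7365 = n14584 := ndS (p := 5906) (l := 3) rfl N5906 D14584
theorem N7366 : nd 7366 = n14585 := ndS (p := 5906) (l := 6) rfl N5906 D14585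
theorem N7367 : nd 7367 = n14586 := ndS (p := 5906) (l := 8) rfl N5906 D14586
theorem N7368 : nd 7368 = n14587 := ndS (p := 5907) (l := 7) rfl N5907 D14587
theorem N7369 : nd 7369 = n14588 := ndS (p := 5907) (l := 8) rfl N5907 D14588
theorem N7370 : nd 7370 = n14589 := ndS (p := 5908) (l := 3) rfl N5908 D14589
theorem N7371 : nd 7371 = n14590 := ndS (p := 5908) (l := 9) rfl N5908 D14590
theorem N7372 : nd 7372 = n14591 := ndS (p := 5909) (l := 4) rfl N5909 D14591
theorem N7373 : nd 7373 = n14592 := ndS (p := 5909) (l := 9) rfl N5909 D14592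
theorem N7374 : nd 7374 = n14593 := ndS (p := 5911) (l := 5) rfl N5911 D14593
theorem N7375 : nd 7375 = n14594 := ndS (p := 5911) (l := 7) rfl N5911 D14594
theorem N7376 : nd 7376 = n14595 := ndS (p := 5911) (l := 8) rfl N5911 D14595
theorem N7377 : nd 7377 = n14596 := ndS (p := 5912) (l := 3) rfl N5912 D14596
theorem N7378 : nd 7378 = n14597 := ndS (p := 5912) (l := 9) rfl N5912 D14597
theorem N7379 : nd 7379 = n14598 := ndS (p := 5913) (l := 8) rfl N5913 D14598
theorem N7380 : nd 7380 = n14599 := ndS (p := 5914) (l := 9) rfl N5914 D14599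
theorem N7381 : nd 7381 = n14600 := ndS (p := 5916) (l := 7) rfl N5916 D14600
theorem N7382 : nd 7382 = n14601 := ndS (p := 5916) (l := 8) rfl N5916 D14601
theorem N7383 : nd 7383 = n14602 := ndS (p := 5917) (l := 8) rfl N5917 D14602
theorem N7384 : nd 7384 = n14603 := ndS (p := 5918) (l := 3) rfl N5918 D14603
theorem N7385 : nd 7385 = n14604 := ndS (p := 5918) (l := 9) rfl N5918 D14604
theorem N7386 : nd 7386 = n14605 := ndS (p := 5919) (l := 2) rfl N5919 D14605
theorem N7387 : nd 7387 = n14606 := ndS (p := 5919) (l := 9) rfl N5919 D14606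
theorem N7388 : nd 7388 = n14607 := ndS (p := 5921) (l := 9) rfl N5921 D14607
theorem N7389 : nd 7389 = n14608 := ndS (p := 5923) (l := 5) rfl N5923 D14608
theorem N7390 : nd 7390 = n14610 := ndS (p := 5924) (l := 4) rfl N5924 D14610
theorem N7391 : nd 7391 = n14611 := ndS (p := 5924) (l := 6) rfl N5924 D14611
theorem N7392 : nd 7392 = n14612 := ndS (p := 5924) (l := 8) rfl N5924 D14612
theorem N7393 : nd 7393 = n14614 := ndS (p := 5925) (l := 9) rfl N5925 D14614
theorem N7394 : nd 7394 = n14615 := ndS (p := 5926) (l := 6) rfl N5926 D14615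
theorem N7395 : nd 7395 = n14616 := ndS (p := 5926) (l := 8) rfl N5926 D14616
theorem N7396 : nd 7396 = n14617 := ndS (p := 5927) (l := 7) rfl N5927 D14617
theorem N7397 : nd 7397 = n14618 := ndS (p := 5927) (l := 8) rfl N5927 D14618
theorem N7398 : nd 7398 = n14619 := ndS (p := 5928) (l := 9) rfl N5928 D14619
theorem N7399 : nd 7399 = n14620 := ndS (p := 5931) (l := 3) rfl N5931 D14620
theorem N7400 : nd 7400 = n14621 := ndS (p := 5931) (l := 6) rfl N5931 D14621
theorem N7401 : nd 7401 = n14622 := ndS (p := 5931) (l := 8) rfl N5931 D14622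
theorem N7402 : nd 7402 = n14623 := ndS (p := 5932) (l := 7) rfl N5932 D14623
theorem N7403 : nd 7403 = n14624 := ndS (p := 5932) (l := 8) rfl N5932 D14624
theorem N7404 : nd 7404 = n14625 := ndS (p := 5933) (l := 3) rfl N5933 D14625
theorem N7405 : nd 7405 = n14626 := ndS (p := 5933) (l := 9) rfl N5933 D14626
theorem N7406 : nd 7406 = n14628 := ndS (p := 5934) (l := 9) rfl N5934 D14628
theorem N7407 : nd 7407 = n14629 := ndS (p := 5936) (l := 5) rfl N5936 D14629
theorem N7408 : nd 7408 = n14630 := ndS (p := 5936) (l := 7) rfl N5936 D14630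
theorem N7409 : nd 7409 = n14631 := ndS (p := 5936) (l := 8) rfl N5936 D14631
theorem N7410 : nd 7410 = n14632 := ndS (p := 5937) (l := 3) rfl N5937 D14632
theorem N7411 : nd 7411 = n14633 := ndS (p := 5937) (l := 9) rfl N5937 D14633
theorem N7412 : nd 7412 = n14634 := ndS (p := 5938) (l := 8) rfl N5938 D14634
theorem N7413 : nd 7413 = n14635 := ndS (p := 5939) (l := 9) rfl N5939 D14635
theorem N7414 : nd 7414 = n14636 := ndS (p := 5941) (l := 7) rfl N5941 D14636
theorem N7415 : nd 7415 = n14637 := ndS (p := 5941) (l := 8) rfl N5941 D14637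
theorem N7416 : nd 7416 = n14638 := ndS (p := 5942) (l := 8) rfl N5942 D14638
theorem N7417 : nd 7417 = n14639 := ndS (p := 5943) (l := 3) rfl N5943 D14639
theorem N7418 : nd 7418 = n14640 := ndS (p := 5943) (l := 9) rfl N5943 D14640
theorem N7419 : nd 7419 = n14641 := ndS (p := 5944) (l := 2) rfl N5944 D14641
theorem N7420 : nd 7420 = n14642 := ndS (p := 5944) (l := 9) rfl N5944 D14642
theorem N7421 : nd 7421 = n14643 := ndS (p := 5946) (l := 9) rfl N5946 D14643
theorem N7422 : nd 7422 = n14644 := ndS (p := 5948) (l := 4) rfl N5948 D14644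
theorem N7423 : nd 7423 = n14645 := ndS (p := 5948) (l := 6) rfl N5948 D14645
theorem N7424 : nd 7424 = n14649 := ndS (p := 5949) (l := 3) rfl N5949 D14649
theorem N7425 : nd 7425 = n14650 := ndS (p := 5949) (l := 6) rfl N5949 D14650
theorem N7426 : nd 7426 = n14651 := ndS (p := 5949) (l := 8) rfl N5949 D14651
theorem N7427 : nd 7427 = n14652 := ndS (p := 5950) (l := 7) rfl N5950 D14652
theorem N7428 : nd 7428 = n14653 := ndS (p := 5950) (l := 8) rfl N5950 D14653
theorem N7429 : nd 7429 = n14655 := ndS (p := 5951) (l := 9) rfl N5951 D14655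
theorem N7430 : nd 7430 = n14658 := ndS (p := 5953) (l := 5) rfl N5953 D14658
theorem N7431 : nd 7431 = n14659 := ndS (p := 5953) (l := 7) rfl N5953 D14659
theorem N7432 : nd 7432 = n14660 := ndS (p := 5953) (l := 8) rfl N5953 D14660
theorem N7433 : nd 7433 = n14661 := ndS (p := 5954) (l := 3) rfl N5954 D14661
theorem N7434 : nd 7434 = n14662 := ndS (p := 5954) (l := 9) rfl N5954 D14662
theorem N7435 : nd 7435 = n14663 := ndS (p := 5955) (l := 8) rfl N5955 D14663
theorem N7436 : nd 7436 = n14664 := ndS (p := 5956) (l := 9) rfl N5956 D14664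
theorem N7437 : nd 7437 = n14665 := ndS (p := 5958) (l := 6) rfl N5958 D14665
theorem N7438 : nd 7438 = n14666 := ndS (p := 5958) (l := 8) rfl N5958 D14666
theorem N7439 : nd 7439 = n14667 := ndS (p := 5959) (l := 5) rfl N5959 D14667
theorem N7440 : nd 7440 = n14668 := ndS (p := 5959) (l := 7) rfl N5959 D14668
theorem N7441 : nd 7441 = n14669 := ndS (p := 5959) (l := 8) rfl N5959 D14669
theorem N7442 : nd 7442 = n14670 := ndS (p := 5960) (l := 3) rfl N5960 D14670
theorem N7443 : nd 7443 = n14671 := ndS (p := 5960) (l := 9) rfl N5960 D14671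
theorem N7444 : nd 7444 = n14672 := ndS (p := 5961) (l := 8) rfl N5961 D14672
theorem N7445 : nd 7445 = n14673 := ndS (p := 5962) (l := 3) rfl N5962 D14673
theorem N7446 : nd 7446 = n14674 := ndS (p := 5962) (l := 9) rfl N5962 D14674
theorem N7447 : nd 7447 = n14675 := ndS (p := 5963) (l := 4) rfl N5963 D14675
theorem N7448 : nd 7448 = n14676 := ndS (p := 5963) (l := 9) rfl N5963 D14676
theorem N7449 : nd 7449 = n14677 := ndS (p := 5965) (l := 5) rfl N5965 D14677
theorem N7450 : nd 7450 = n14678 := ndS (p := 5965) (l := 9) rfl N5965 D14678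
theorem N7451 : nd 7451 = n14680 := ndS (p := 5967) (l := 7) rfl N5967 D14680
theorem N7452 : nd 7452 = n14681 := ndS (p := 5967) (l := 8) rfl N5967 D14681
theorem N7453 : nd 7453 = n14682 := ndS (p := 5968) (l := 8) rfl N5968 D14682
theorem N7454 : nd 7454 = n14683 := ndS (p := 5969) (l := 3) rfl N5969 D14683
theorem N7455 : nd 7455 = n14684 := ndS (p := 5969) (l := 9) rfl N5969 D14684
theorem N7456 : nd 7456 = n14685 := ndS (p := 5970) (l := 2) rfl N5970 D14685
theorem N7457 : nd 7457 = n14686 := ndS (p := 5970) (l := 9) rfl N5970 D14686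
theorem N7458 : nd 7458 = n14687 := ndS (p := 5972) (l := 9) rfl N5972 D14687
theorem N7459 : nd 7459 = n14688 := ndS (p := 5974) (l := 6) rfl N5974 D14688
theorem N7460 : nd 7460 = n14689 := ndS (p := 5974) (l := 8) rfl N5974 D14689
theorem N7461 : nd 7461 = n14690 := ndS (p := 5975) (l := 3) rfl N5975 D14690
theorem N7462 : nd 7462 = n14691 := ndS (p := 5975) (l := 9) rfl N5975 D14691
theorem N7463 : nd 7463 = n14692 := ndS (p := 5976) (l := 3) rfl N5976 D14692
theorem N7464 : nd 7464 = n14693 := ndS (p := 5976) (l := 9) rfl N5976 D14693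
theorem N7465 : nd 7465 = n14694 := ndS (p := 5977) (l := 2) rfl N5977 D14694
theorem N7466 : nd 7466 = n14695 := ndS (p := 5977) (l := 9) rfl N5977 D14695
theorem N7467 : nd 7467 = n14696 := ndS (p := 5979) (l := 1) rfl N5979 D14696
theorem N7468 : nd 7468 = n14697 := ndS (p := 5979) (l := 9) rfl N5979 D14697
theorem N7469 : nd 7469 = n14698 := ndS (p := 5980) (l := 8) rfl N5980 D14698
theorem N7470 : nd 7470 = n14699 := ndS (p := 5982) (l := 4) rfl N5982 D14699
theorem N7471 : nd 7471 = n14700 := ndS (p := 5982) (l := 6) rfl N5982 D14700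
theorem N7472 : nd 7472 = n14705 := ndS (p := 5983) (l := 6) rfl N5983 D14705
theorem N7473 : nd 7473 = n14706 := ndS (p := 5983) (l := 8) rfl N5983 D14706
theorem N7474 : nd 7474 = n14707 := ndS (p := 5984) (l := 7) rfl N5984 D14707
theorem N7475 : nd 7475 = n14708 := ndS (p := 5984) (l := 8) rfl N5984 D14708
theorem N7476 : nd 7476 = n14710 := ndS (p := 5985) (l := 9) rfl N5985 D14710
theorem N7477 : nd 7477 = n14713 := ndS (p := 5987) (l := 5) rfl N5987 D14713
theorem N7478 : nd 7478 = n14714 := ndS (p := 5987) (l := 7) rfl N5987 D14714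
theorem N7479 : nd 7479 = n14715 := ndS (p := 5987) (l := 8) rfl N5987 D14715
theorem N7480 : nd 7480 = n14717 := ndS (p := 5988) (l := 9) rfl N5988 D14717
theorem N7481 : nd 7481 = n14718 := ndS (p := 5989) (l := 8) rfl N5989 D14718
theorem N7482 : nd 7482 = n14719 := ndS (p := 5990) (l := 9) rfl N5990 D14719
theorem N7483 : nd 7483 = n14720 := ndS (p := 5992) (l := 6) rfl N5992 D14720
theorem N7484 : nd 7484 = n14721 := ndS (p := 5992) (l := 8) rfl N5992 D14721
theorem N7485 : nd 7485 = n14722 := ndS (p := 5993) (l := 5) rfl N5993 D14722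
theorem N7486 : nd 7486 = n14723 := ndS (p := 5993) (l := 7) rfl N5993 D14723
theorem N7487 : nd 7487 = n14724 := ndS (p := 5993) (l := 8) rfl N5993 D14724
theorem N7488 : nd 7488 = n14725 := ndS (p := 5994) (l := 3) rfl N5994 D14725
theorem N7489 : nd 7489 = n14726 := ndS (p := 5994) (l := 9) rfl N5994 D14726
theorem N7490 : nd 7490 = n14727 := ndS (p := 5995) (l := 8) rfl N5995 D14727
theorem N7491 : nd 7491 = n14728 := ndS (p := 5996) (l := 3) rfl N5996 D14728
theorem N7492 : nd 7492 = n14729 := ndS (p := 5996) (l := 9) rfl N5996 D14729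
theorem N7493 : nd 7493 = n14730 := ndS (p := 5997) (l := 4) rfl N5997 D14730
theorem N7494 : nd 7494 = n14731 := ndS (p := 5997) (l := 9) rfl N5997 D14731
theorem N7495 : nd 7495 = n14735 := ndS (p := 6000) (l := 7) rfl N6000 D14735
theorem N7496 : nd 7496 = n14736 := ndS (p := 6000) (l := 8) rfl N6000 D14736
theorem N7497 : nd 7497 = n14737 := ndS (p := 6001) (l := 8) rfl N6001 D14737
theorem N7498 : nd 7498 = n14738 := ndS (p := 6002) (l := 3) rfl N6002 D14738
theorem N7499 : nd 7499 = n14739 := ndS (p := 6002) (l := 9) rfl N6002 D14739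
theorem N7500 : nd 7500 = n14740 := ndS (p := 6003) (l := 2) rfl N6003 D14740
theorem N7501 : nd 7501 = n14741 := ndS (p := 6003) (l := 9) rfl N6003 D14741
theorem N7502 : nd 7502 = n14742 := ndS (p := 6005) (l := 9) rfl N6005 D14742
theorem N7503 : nd 7503 = n14743 := ndS (p := 6007) (l := 6) rfl N6007 D14743
theorem N7504 : nd 7504 = n14744 := ndS (p := 6007) (l := 8) rfl N6007 D14744
theorem N7505 : nd 7505 = n14745 := ndS (p := 6008) (l := 3) rfl N6008 D14745
theorem N7506 : nd 7506 = n14746 := ndS (p := 6008) (l := 9) rfl N6008 D14746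
theorem N7507 : nd 7507 = n14747 := ndS (p := 6009) (l := 3) rfl N6009 D14747
theorem N7508 : nd 7508 = n14748 := ndS (p := 6009) (l := 9) rfl N6009 D14748
theorem N7509 : nd 7509 = n14749 := ndS (p := 6010) (l := 2) rfl N6010 D14749
theorem N7510 : nd 7510 = n14750 := ndS (p := 6010) (l := 9) rfl N6010 D14750
theorem N7511 : nd 7511 = n14751 := ndS (p := 6012) (l := 1) rfl N6012 D14751
theorem N7512 : nd 7512 = n14752 := ndS (p := 6012) (l := 9) rfl N6012 D14752
theorem N7513 : nd 7513 = n14753 := ndS (p := 6013) (l := 8) rfl N6013 D14753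
theorem N7514 : nd 7514 = n14754 := ndS (p := 6015) (l := 3) rfl N6015 D14754
theorem N7515 : nd 7515 = n14755 := ndS (p := 6015) (l := 6) rfl N6015 D14755
theorem N7516 : nd 7516 = n14757 := ndS (p := 6016) (l := 7) rfl N6016 D14757
theorem N7517 : nd 7517 = n14764 := ndS (p := 6017) (l := 6) rfl N6017 D14764
theorem N7518 : nd 7518 = n14765 := ndS (p := 6017) (l := 8) rfl N6017 D14765
theorem N7519 : nd 7519 = n14766 := ndS (p := 6018) (l := 5) rfl N6018 D14766
theorem N7520 : nd 7520 = n14767 := ndS (p := 6018) (l := 7) rfl N6018 D14767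
theorem N7521 : nd 7521 = n14768 := ndS (p := 6018) (l := 8) rfl N6018 D14768
theorem N7522 : nd 7522 = n14769 := ndS (p := 6019) (l := 3) rfl N6019 D14769
theorem N7523 : nd 7523 = n14770 := ndS (p := 6019) (l := 9) rfl N6019 D14770
theorem N7524 : nd 7524 = n14771 := ndS (p := 6020) (l := 8) rfl N6020 D14771
theorem N7525 : nd 7525 = n14773 := ndS (p := 6021) (l := 9) rfl N6021 D14773
theorem N7526 : nd 7526 = n14779 := ndS (p := 6023) (l := 7) rfl N6023 D14779
theorem N7527 : nd 7527 = n14780 := ndS (p := 6023) (l := 8) rfl N6023 D14780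
theorem N7528 : nd 7528 = n14781 := ndS (p := 6024) (l := 8) rfl N6024 D14781
theorem N7529 : nd 7529 = n14782 := ndS (p := 6025) (l := 3) rfl N6025 D14782
theorem N7530 : nd 7530 = n14783 := ndS (p := 6025) (l := 9) rfl N6025 D14783
theorem N7531 : nd 7531 = n14784 := ndS (p := 6026) (l := 2) rfl N6026 D14784
theorem N7532 : nd 7532 = n14785 := ndS (p := 6026) (l := 9) rfl N6026 D14785
theorem N7533 : nd 7533 = n14786 := ndS (p := 6028) (l := 9) rfl N6028 D14786
theorem N7534 : nd 7534 = n14787 := ndS (p := 6030) (l := 5) rfl N6030 D14787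
theorem N7535 : nd 7535 = n14788 := ndS (p := 6030) (l := 7) rfl N6030 D14788
theorem N7536 : nd 7536 = n14789 := ndS (p := 6030) (l := 8) rfl N6030 D14789
theorem N7537 : nd 7537 = n14790 := ndS (p := 6031) (l := 3) rfl N6031 D14790
theorem N7538 : nd 7538 = n14791 := ndS (p := 6031) (l := 9) rfl N6031 D14791
theorem N7539 : nd 7539 = n14792 := ndS (p := 6032) (l := 7) rfl N6032 D14792
theorem N7540 : nd 7540 = n14793 := ndS (p := 6032) (l := 8) rfl N6032 D14793
theorem N7541 : nd 7541 = n14794 := ndS (p := 6033) (l := 8) rfl N6033 D14794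
theorem N7542 : nd 7542 = n14795 := ndS (p := 6034) (l := 3) rfl N6034 D14795
theorem N7543 : nd 7543 = n14796 := ndS (p := 6034) (l := 9) rfl N6034 D14796
theorem N7544 : nd 7544 = n14797 := ndS (p := 6035) (l := 2) rfl N6035 D14797
theorem N7545 : nd 7545 = n14798 := ndS (p := 6035) (l := 4) rfl N6035 D14798
theorem N7546 : nd 7546 = n14799 := ndS (p := 6035) (l := 9) rfl N6035 D14799
theorem N7547 : nd 7547 = n14800 := ndS (p := 6037) (l := 3) rfl N6037 D14800
theorem N7548 : nd 7548 = n14801 := ndS (p := 6037) (l := 9) rfl N6037 D14801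
theorem N7549 : nd 7549 = n14802 := ndS (p := 6038) (l := 4) rfl N6038 D14802
theorem N7550 : nd 7550 = n14803 := ndS (p := 6038) (l := 9) rfl N6038 D14803
theorem N7551 : nd 7551 = n14804 := ndS (p := 6040) (l := 5) rfl N6040 D14804
theorem N7552 : nd 7552 = n14805 := ndS (p := 6040) (l := 9) rfl N6040 D14805
theorem N7553 : nd 7553 = n14807 := ndS (p := 6042) (l := 6) rfl N6042 D14807
theorem N7554 : nd 7554 = n14808 := ndS (p := 6042) (l := 9) rfl N6042 D14808
theorem N7555 : nd 7555 = n14810 := ndS (p := 6044) (l := 6) rfl N6044 D14810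
theorem N7556 : nd 7556 = n14811 := ndS (p := 6044) (l := 8) rfl N6044 D14811
theorem N7557 : nd 7557 = n14812 := ndS (p := 6045) (l := 3) rfl N6045 D14812
theorem N7558 : nd 7558 = n14813 := ndS (p := 6045) (l := 9) rfl N6045 D14813
theorem N7559 : nd 7559 = n14814 := ndS (p := 6046) (l := 3) rfl N6046 D14814
theorem N7560 : nd 7560 = n14815 := ndS (p := 6046) (l := 9) rfl N6046 D14815
theorem N7561 : nd 7561 = n14816 := ndS (p := 6047) (l := 2) rfl N6047 D14816
theorem N7562 : nd 7562 = n14817 := ndS (p := 6047) (l := 9) rfl N6047 D14817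
theorem N7563 : nd 7563 = n14818 := ndS (p := 6049) (l := 1) rfl N6049 D14818
theorem N7564 : nd 7564 = n14819 := ndS (p := 6049) (l := 9) rfl N6049 D14819
theorem N7565 : nd 7565 = n14820 := ndS (p := 6050) (l := 8) rfl N6050 D14820
theorem N7566 : nd 7566 = n14821 := ndS (p := 6052) (l := 8) rfl N6052 D14821
theorem N7567 : nd 7567 = n14822 := ndS (p := 6053) (l := 3) rfl N6053 D14822
theorem N7568 : nd 7568 = n14823 := ndS (p := 6053) (l := 9) rfl N6053 D14823
theorem N7569 : nd 7569 = n14824 := ndS (p := 6054) (l := 2) rfl N6054 D14824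
theorem N7570 : nd 7570 = n14825 := ndS (p := 6054) (l := 4) rfl N6054 D14825
theorem N7571 : nd 7571 = n14826 := ndS (p := 6054) (l := 9) rfl N6054 D14826
theorem N7572 : nd 7572 = n14827 := ndS (p := 6056) (l := 2) rfl N6056 D14827
theorem N7573 : nd 7573 = n14828 := ndS (p := 6056) (l := 9) rfl N6056 D14828
theorem N7574 : nd 7574 = n14829 := ndS (p := 6058) (l := 1) rfl N6058 D14829
theorem N7575 : nd 7575 = n14830 := ndS (p := 6058) (l := 9) rfl N6058 D14830
theorem N7576 : nd 7576 = n14831 := ndS (p := 6059) (l := 8) rfl N6059 D14831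
theorem N7577 : nd 7577 = n14832 := ndS (p := 6060) (l := 0) rfl N6060 D14832
theorem N7578 : nd 7578 = n14833 := ndS (p := 6060) (l := 9) rfl N6060 D14833
theorem N7579 : nd 7579 = n14834 := ndS (p := 6061) (l := 8) rfl N6061 D14834
theorem N7580 : nd 7580 = n14859 := ndS (p := 6063) (l := 7) rfl N6063 D14859
theorem N7581 : nd 7581 = n14867 := ndS (p := 6065) (l := 5) rfl N6065 D14867
theorem N7582 : nd 7582 = n14868 := ndS (p := 6065) (l := 7) rfl N6065 D14868
theorem N7583 : nd 7583 = n14869 := ndS (p := 6065) (l := 8) rfl N6065 D14869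
theorem N7584 : nd 7584 = n14871 := ndS (p := 6066) (l := 9) rfl N6066 D14871
theorem N7585 : nd 7585 = n14872 := ndS (p := 6067) (l := 7) rfl N6067 D14872
theorem N7586 : nd 7586 = n14888 := ndS (p := 6069) (l := 6) rfl N6069 D14888
theorem N7587 : nd 7587 = n14889 := ndS (p := 6069) (l := 8) rfl N6069 D14889
theorem N7588 : nd 7588 = n14890 := ndS (p := 6070) (l := 3) rfl N6070 D14890
theorem N7589 : nd 7589 = n14892 := ndS (p := 6071) (l := 3) rfl N6071 D14892
theorem N7590 : nd 7590 = n14894 := ndS (p := 6072) (l := 2) rfl N6072 D14894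
theorem N7591 : nd 7591 = n14896 := ndS (p := 6073) (l := 1) rfl N6073 D14896
theorem N7592 : nd 7592 = n14899 := ndS (p := 6074) (l := 8) rfl N6074 D14899
theorem N7593 : nd 7593 = n14900 := ndS (p := 6075) (l := 3) rfl N6075 D14900
theorem N7594 : nd 7594 = n14901 := ndS (p := 6075) (l := 9) rfl N6075 D14901
theorem N7595 : nd 7595 = n14902 := ndS (p := 6076) (l := 2) rfl N6076 D14902
theorem N7596 : nd 7596 = n14903 := ndS (p := 6076) (l := 4) rfl N6076 D14903
theorem N7597 : nd 7597 = n14904 := ndS (p := 6076) (l := 9) rfl N6076 D14904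
theorem N7598 : nd 7598 = n14905 := ndS (p := 6078) (l := 2) rfl N6078 D14905
theorem N7599 : nd 7599 = n14906 := ndS (p := 6078) (l := 9) rfl N6078 D14906
theorem N7600 : nd 7600 = n14907 := ndS (p := 6080) (l := 1) rfl N6080 D14907
theorem N7601 : nd 7601 = n14908 := ndS (p := 6080) (l := 9) rfl N6080 D14908
theorem N7602 : nd 7602 = n14909 := ndS (p := 6081) (l := 8) rfl N6081 D14909
theorem N7603 : nd 7603 = n14910 := ndS (p := 6082) (l := 0) rfl N6082 D14910
theorem N7604 : nd 7604 = n14911 := ndS (p := 6082) (l := 9) rfl N6082 D14911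
theorem N7605 : nd 7605 = n14912 := ndS (p := 6083) (l := 8) rfl N6083 D14912
theorem N7606 : nd 7606 = n14923 := ndS (p := 6085) (l := 5) rfl N6085 D14923
theorem N7607 : nd 7607 = n14924 := ndS (p := 6085) (l := 7) rfl N6085 D14924
theorem N7608 : nd 7608 = n14925 := ndS (p := 6085) (l := 8) rfl N6085 D14925
theorem N7609 : nd 7609 = n14927 := ndS (p := 6086) (l := 9) rfl N6086 D14927
theorem N7610 : nd 7610 = n14928 := ndS (p := 6087) (l := 7) rfl N6087 D14928
theorem N7611 : nd 7611 = n14936 := ndS (p := 6089) (l := 6) rfl N6089 D14936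
theorem N7612 : nd 7612 = n14937 := ndS (p := 6089) (l := 8) rfl N6089 D14937
theorem N7613 : nd 7613 = n14938 := ndS (p := 6090) (l := 3) rfl N6090 D14938
theorem N7614 : nd 7614 = n14940 := ndS (p := 6091) (l := 3) rfl N6091 D14940
theorem N7615 : nd 7615 = n14942 := ndS (p := 6092) (l := 2) rfl N6092 D14942
theorem N7616 : nd 7616 = n14944 := ndS (p := 6093) (l := 1) rfl N6093 D14944
theorem N7617 : nd 7617 = n14947 := ndS (p := 6094) (l := 4) rfl N6094 D14947
theorem N7618 : nd 7618 = n14948 := ndS (p := 6094) (l := 7) rfl N6094 D14948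
theorem N7619 : nd 7619 = n14949 := ndS (p := 6094) (l := 8) rfl N6094 D14949
theorem N7620 : nd 7620 = n14950 := ndS (p := 6095) (l := 8) rfl N6095 D14950
theorem N7621 : nd 7621 = n14951 := ndS (p := 6096) (l := 3) rfl N6096 D14951
theorem N7622 : nd 7622 = n14952 := ndS (p := 6096) (l := 9) rfl N6096 D14952
theorem N7623 : nd 7623 = n14953 := ndS (p := 6097) (l := 2) rfl N6097 D14953
theorem N7624 : nd 7624 = n14954 := ndS (p := 6097) (l := 9) rfl N6097 D14954
theorem N7625 : nd 7625 = n14955 := ndS (p := 6099) (l := 6) rfl N6099 D14955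
theorem N7626 : nd 7626 = n14956 := ndS (p := 6099) (l := 8) rfl N6099 D14956
theorem N7627 : nd 7627 = n14957 := ndS (p := 6100) (l := 3) rfl N6100 D14957
theorem N7628 : nd 7628 = n14959 := ndS (p := 6101) (l := 3) rfl N6101 D14959
theorem N7629 : nd 7629 = n14961 := ndS (p := 6102) (l := 2) rfl N6102 D14961
theorem N7630 : nd 7630 = n14963 := ndS (p := 6103) (l := 1) rfl N6103 D14963
theorem N7631 : nd 7631 = n14966 := ndS (p := 6104) (l := 8) rfl N6104 D14966
theorem N7632 : nd 7632 = n14967 := ndS (p := 6105) (l := 3) rfl N6105 D14967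
theorem N7633 : nd 7633 = n14968 := ndS (p := 6105) (l := 9) rfl N6105 D14968
theorem N7634 : nd 7634 = n14969 := ndS (p := 6106) (l := 2) rfl N6106 D14969
theorem N7635 : nd 7635 = n14970 := ndS (p := 6106) (l := 4) rfl N6106 D14970
theorem N7636 : nd 7636 = n14971 := ndS (p := 6106) (l := 9) rfl N6106 D14971
theorem N7637 : nd 7637 = n14972 := ndS (p := 6108) (l := 2) rfl N6108 D14972
theorem N7638 : nd 7638 = n14973 := ndS (p := 6108) (l := 9) rfl N6108 D14973
theorem N7639 : nd 7639 = n14974 := ndS (p := 6110) (l := 1) rfl N6110 D14974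
theorem N7640 : nd 7640 = n14975 := ndS (p := 6110) (l := 9) rfl N6110 D14975
theorem N7641 : nd 7641 = n14976 := ndS (p := 6111) (l := 8) rfl N6111 D14976
theorem N7642 : nd 7642 = n14977 := ndS (p := 6112) (l := 0) rfl N6112 D14977
theorem N7643 : nd 7643 = n14978 := ndS (p := 6112) (l := 9) rfl N6112 D14978
theorem N7644 : nd 7644 = n14979 := ndS (p := 6113) (l := 8) rfl N6113 D14979
theorem N7645 : nd 7645 = n14980 := ndS (p := 6115) (l := 3) rfl N6115 D14980
theorem N7646 : nd 7646 = n14981 := ndS (p := 6115) (l := 9) rfl N6115 D14981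
theorem N7647 : nd 7647 = n14982 := ndS (p := 6116) (l := 2) rfl N6116 D14982
theorem N7648 : nd 7648 = n14983 := ndS (p := 6116) (l := 4) rfl N6116 D14983
theorem N7649 : nd 7649 = n14984 := ndS (p := 6116) (l := 9) rfl N6116 D14984
theorem N7650 : nd 7650 = n14985 := ndS (p := 6118) (l := 1) rfl N6118 D14985
theorem N7651 : nd 7651 = n14989 := ndS (p := 6120) (l := 8) rfl N6120 D14989
theorem N7652 : nd 7652 = n14990 := ndS (p := 6121) (l := 1) rfl N6121 D14990
theorem N7653 : nd 7653 = n14992 := ndS (p := 6122) (l := 8) rfl N6122 D14992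
theorem N7654 : nd 7654 = n14993 := ndS (p := 6123) (l := 0) rfl N6123 D14993
theorem N7655 : nd 7655 = n14994 := ndS (p := 6123) (l := 9) rfl N6123 D14994
theorem N7656 : nd 7656 = n14995 := ndS (p := 6124) (l := 8) rfl N6124 D14995
theorem N7657 : nd 7657 = n14996 := ndS (p := 6126) (l := 9) rfl N6126 D14996
theorem N7658 : nd 7658 = n14997 := ndS (p := 6127) (l := 8) rfl N6127 D14997
theorem N7659 : nd 7659 = n14998 := ndS (p := 6128) (l := 3) rfl N6128 D14998
theorem N7660 : nd 7660 = n15006 := ndS (p := 6129) (l := 8) rfl N6129 D15006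
theorem N7661 : nd 7661 = n15008 := ndS (p := 6130) (l := 8) rfl N6130 D15008
theorem N7662 : nd 7662 = n15010 := ndS (p := 6131) (l := 9) rfl N6131 D15010
theorem N7663 : nd 7663 = n15015 := ndS (p := 6133) (l := 8) rfl N6133 D15015
theorem N7664 : nd 7664 = n15016 := ndS (p := 6134) (l := 3) rfl N6134 D15016
theorem N7665 : nd 7665 = n15017 := ndS (p := 6134) (l := 9) rfl N6134 D15017
theorem N7666 : nd 7666 = n15018 := ndS (p := 6135) (l := 8) rfl N6135 D15018
theorem N7667 : nd 7667 = n15019 := ndS (p := 6136) (l := 9) rfl N6136 D15019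
theorem N7668 : nd 7668 = n15024 := ndS (p := 6139) (l := 8) rfl N6139 D15024
theorem N7669 : nd 7669 = n15025 := ndS (p := 6140) (l := 3) rfl N6140 D15025
theorem N7670 : nd 7670 = n15026 := ndS (p := 6140) (l := 9) rfl N6140 D15026
theorem N7671 : nd 7671 = n15027 := ndS (p := 6141) (l := 8) rfl N6141 D15027
theorem N7672 : nd 7672 = n15028 := ndS (p := 6142) (l := 3) rfl N6142 D15028
theorem N7673 : nd 7673 = n15029 := ndS (p := 6142) (l := 9) rfl N6142 D15029
theorem N7674 : nd 7674 = n15030 := ndS (p := 6143) (l := 4) rfl N6143 D15030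
theorem N7675 : nd 7675 = n15031 := ndS (p := 6143) (l := 9) rfl N6143 D15031
theorem N7676 : nd 7676 = n15032 := ndS (p := 6145) (l := 5) rfl N6145 D15032
theorem N7677 : nd 7677 = n15033 := ndS (p := 6145) (l := 9) rfl N6145 D15033
theorem N7678 : nd 7678 = n15036 := ndS (p := 6147) (l := 8) rfl N6147 D15036
theorem N7679 : nd 7679 = n15037 := ndS (p := 6148) (l := 8) rfl N6148 D15037
theorem N7680 : nd 7680 = n15038 := ndS (p := 6149) (l := 3) rfl N6149 D15038
theorem N7681 : nd 7681 = n15039 := ndS (p := 6149) (l := 9) rfl N6149 D15039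
theorem N7682 : nd 7682 = n15040 := ndS (p := 6150) (l := 2) rfl N6150 D15040
theorem N7683 : nd 7683 = n15041 := ndS (p := 6150) (l := 9) rfl N6150 D15041
theorem N7684 : nd 7684 = n15042 := ndS (p := 6152) (l := 9) rfl N6152 D15042
theorem N7685 : nd 7685 = n15044 := ndS (p := 6154) (l := 8) rfl N6154 D15044
theorem N7686 : nd 7686 = n15045 := ndS (p := 6155) (l := 3) rfl N6155 D15045
theorem N7687 : nd 7687 = n15046 := ndS (p := 6155) (l := 9) rfl N6155 D15046
theorem N7688 : nd 7688 = n15047 := ndS (p := 6156) (l := 3) rfl N6156 D15047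
theorem N7689 : nd 7689 = n15048 := ndS (p := 6156) (l := 9) rfl N6156 D15048
theorem N7690 : nd 7690 = n15049 := ndS (p := 6157) (l := 2) rfl N6157 D15049
theorem N7691 : nd 7691 = n15050 := ndS (p := 6157) (l := 9) rfl N6157 D15050
theorem N7692 : nd 7692 = n15051 := ndS (p := 6159) (l := 1) rfl N6159 D15051
theorem N7693 : nd 7693 = n15052 := ndS (p := 6159) (l := 9) rfl N6159 D15052
theorem N7694 : nd 7694 = n15053 := ndS (p := 6160) (l := 8) rfl N6160 D15053
theorem N7695 : nd 7695 = n15068 := ndS (p := 6163) (l := 8) rfl N6163 D15068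
theorem N7696 : nd 7696 = n15069 := ndS (p := 6164) (l := 3) rfl N6164 D15069
theorem N7697 : nd 7697 = n15070 := ndS (p := 6164) (l := 9) rfl N6164 D15070
theorem N7698 : nd 7698 = n15071 := ndS (p := 6165) (l := 8) rfl N6165 D15071
theorem N7699 : nd 7699 = n15073 := ndS (p := 6166) (l := 9) rfl N6166 D15073
theorem N7700 : nd 7700 = n15080 := ndS (p := 6168) (l := 8) rfl N6168 D15080
theorem N7701 : nd 7701 = n15081 := ndS (p := 6169) (l := 8) rfl N6169 D15081
theorem N7702 : nd 7702 = n15082 := ndS (p := 6170) (l := 3) rfl N6170 D15082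
theorem N7703 : nd 7703 = n15083 := ndS (p := 6170) (l := 9) rfl N6170 D15083
theorem N7704 : nd 7704 = n15084 := ndS (p := 6171) (l := 2) rfl N6171 D15084
theorem N7705 : nd 7705 = n15085 := ndS (p := 6171) (l := 9) rfl N6171 D15085
theorem N7706 : nd 7706 = n15086 := ndS (p := 6173) (l := 9) rfl N6173 D15086
theorem N7707 : nd 7707 = n15090 := ndS (p := 6176) (l := 3) rfl N6176 D15090
theorem N7708 : nd 7708 = n15091 := ndS (p := 6176) (l := 9) rfl N6176 D15091
theorem N7709 : nd 7709 = n15093 := ndS (p := 6177) (l := 8) rfl N6177 D15093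
theorem N7710 : nd 7710 = n15094 := ndS (p := 6178) (l := 8) rfl N6178 D15094
theorem N7711 : nd 7711 = n15095 := ndS (p := 6179) (l := 3) rfl N6179 D15095
theorem N7712 : nd 7712 = n15096 := ndS (p := 6179) (l := 9) rfl N6179 D15096
theorem N7713 : nd 7713 = n15097 := ndS (p := 6180) (l := 2) rfl N6180 D15097
theorem N7714 : nd 7714 = n15098 := ndS (p := 6180) (l := 4) rfl N6180 D15098
theorem N7715 : nd 7715 = n15099 := ndS (p := 6180) (l := 9) rfl N6180 D15099
theorem N7716 : nd 7716 = n15100 := ndS (p := 6182) (l := 3) rfl N6182 D15100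
theorem N7717 : nd 7717 = n15101 := ndS (p := 6182) (l := 9) rfl N6182 D15101
theorem N7718 : nd 7718 = n15102 := ndS (p := 6183) (l := 4) rfl N6183 D15102
theorem N7719 : nd 7719 = n15103 := ndS (p := 6183) (l := 9) rfl N6183 D15103
theorem N7720 : nd 7720 = n15104 := ndS (p := 6185) (l := 5) rfl N6185 D15104
theorem N7721 : nd 7721 = n15105 := ndS (p := 6185) (l := 9) rfl N6185 D15105
theorem N7722 : nd 7722 = n15107 := ndS (p := 6187) (l := 6) rfl N6187 D15107
theorem N7723 : nd 7723 = n15108 := ndS (p := 6187) (l := 9) rfl N6187 D15108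
theorem N7724 : nd 7724 = n15111 := ndS (p := 6189) (l := 8) rfl N6189 D15111
theorem N7725 : nd 7725 = n15112 := ndS (p := 6190) (l := 3) rfl N6190 D15112
theorem N7726 : nd 7726 = n15113 := ndS (p := 6190) (l := 9) rfl N6190 D15113
theorem N7727 : nd 7727 = n15114 := ndS (p := 6191) (l := 3) rfl N6191 D15114
theorem N7728 : nd 7728 = n15115 := ndS (p := 6191) (l := 9) rfl N6191 D15115
theorem N7729 : nd 7729 = n15116 := ndS (p := 6192) (l := 2) rfl N6192 D15116
theorem N7730 : nd 7730 = n15117 := ndS (p := 6192) (l := 9) rfl N6192 D15117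
theorem N7731 : nd 7731 = n15118 := ndS (p := 6194) (l := 1) rfl N6194 D15118
theorem N7732 : nd 7732 = n15119 := ndS (p := 6194) (l := 9) rfl N6194 D15119
theorem N7733 : nd 7733 = n15120 := ndS (p := 6195) (l := 8) rfl N6195 D15120
theorem N7734 : nd 7734 = n15121 := ndS (p := 6197) (l := 8) rfl N6197 D15121
theorem N7735 : nd 7735 = n15122 := ndS (p := 6198) (l := 3) rfl N6198 D15122
theorem N7736 : nd 7736 = n15123 := ndS (p := 6198) (l := 9) rfl N6198 D15123
theorem N7737 : nd 7737 = n15124 := ndS (p := 6199) (l := 2) rfl N6199 D15124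
theorem N7738 : nd 7738 = n15125 := ndS (p := 6199) (l := 4) rfl N6199 D15125
theorem N7739 : nd 7739 = n15126 := ndS (p := 6199) (l := 9) rfl N6199 D15126
theorem N7740 : nd 7740 = n15127 := ndS (p := 6201) (l := 2) rfl N6201 D15127
theorem N7741 : nd 7741 = n15128 := ndS (p := 6201) (l := 9) rfl N6201 D15128
theorem N7742 : nd 7742 = n15129 := ndS (p := 6203) (l := 1) rfl N6203 D15129
theorem N7743 : nd 7743 = n15130 := ndS (p := 6203) (l := 9) rfl N6203 D15130
theorem N7744 : nd 7744 = n15131 := ndS (p := 6204) (l := 8) rfl N6204 D15131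
theorem N7745 : nd 7745 = n15132 := ndS (p := 6205) (l := 0) rfl N6205 D15132
theorem N7746 : nd 7746 = n15133 := ndS (p := 6205) (l := 9) rfl N6205 D15133
theorem N7747 : nd 7747 = n15134 := ndS (p := 6206) (l := 8) rfl N6206 D15134
theorem N7748 : nd 7748 = n15152 := ndS (p := 6208) (l := 8) rfl N6208 D15152
theorem N7749 : nd 7749 = n15153 := ndS (p := 6209) (l := 8) rfl N6209 D15153
theorem N7750 : nd 7750 = n15154 := ndS (p := 6210) (l := 3) rfl N6210 D15154
theorem N7751 : nd 7751 = n15155 := ndS (p := 6210) (l := 9) rfl N6210 D15155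
theorem N7752 : nd 7752 = n15156 := ndS (p := 6211) (l := 2) rfl N6211 D15156
theorem N7753 : nd 7753 = n15158 := ndS (p := 6211) (l := 9) rfl N6211 D15158
theorem N7754 : nd 7754 = n15160 := ndS (p := 6213) (l := 9) rfl N6213 D15160
theorem N7755 : nd 7755 = n15170 := ndS (p := 6215) (l := 8) rfl N6215 D15170
theorem N7756 : nd 7756 = n15171 := ndS (p := 6216) (l := 3) rfl N6216 D15171
theorem N7757 : nd 7757 = n15172 := ndS (p := 6216) (l := 9) rfl N6216 D15172
theorem N7758 : nd 7758 = n15173 := ndS (p := 6217) (l := 3) rfl N6217 D15173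
theorem N7759 : nd 7759 = n15174 := ndS (p := 6217) (l := 9) rfl N6217 D15174
theorem N7760 : nd 7760 = n15175 := ndS (p := 6218) (l := 2) rfl N6218 D15175
theorem N7761 : nd 7761 = n15176 := ndS (p := 6218) (l := 9) rfl N6218 D15176
theorem N7762 : nd 7762 = n15177 := ndS (p := 6220) (l := 1) rfl N6220 D15177
theorem N7763 : nd 7763 = n15178 := ndS (p := 6220) (l := 9) rfl N6220 D15178
theorem N7764 : nd 7764 = n15179 := ndS (p := 6221) (l := 8) rfl N6221 D15179
theorem N7765 : nd 7765 = n15181 := ndS (p := 6223) (l := 8) rfl N6223 D15181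
theorem N7766 : nd 7766 = n15182 := ndS (p := 6224) (l := 3) rfl N6224 D15182
theorem N7767 : nd 7767 = n15183 := ndS (p := 6224) (l := 9) rfl N6224 D15183
theorem N7768 : nd 7768 = n15184 := ndS (p := 6225) (l := 3) rfl N6225 D15184
theorem N7769 : nd 7769 = n15185 := ndS (p := 6225) (l := 9) rfl N6225 D15185
theorem N7770 : nd 7770 = n15186 := ndS (p := 6226) (l := 2) rfl N6226 D15186
theorem N7771 : nd 7771 = n15187 := ndS (p := 6226) (l := 4) rfl N6226 D15187
theorem N7772 : nd 7772 = n15188 := ndS (p := 6226) (l := 9) rfl N6226 D15188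
theorem N7773 : nd 7773 = n15189 := ndS (p := 6228) (l := 1) rfl N6228 D15189
theorem N7774 : nd 7774 = n15190 := ndS (p := 6228) (l := 4) rfl N6228 D15190
theorem N7775 : nd 7775 = n15191 := ndS (p := 6228) (l := 9) rfl N6228 D15191
theorem N7776 : nd 7776 = n15192 := ndS (p := 6229) (l := 5) rfl N6229 D15192
theorem N7777 : nd 7777 = n15193 := ndS (p := 6229) (l := 9) rfl N6229 D15193
theorem N7778 : nd 7778 = n15194 := ndS (p := 6230) (l := 8) rfl N6230 D15194
theorem N7779 : nd 7779 = n15195 := ndS (p := 6231) (l := 4) rfl N6231 D15195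
theorem N7780 : nd 7780 = n15196 := ndS (p := 6231) (l := 9) rfl N6231 D15196
theorem N7781 : nd 7781 = n15197 := ndS (p := 6233) (l := 5) rfl N6233 D15197
theorem N7782 : nd 7782 = n15198 := ndS (p := 6233) (l := 9) rfl N6233 D15198
theorem N7783 : nd 7783 = n15200 := ndS (p := 6235) (l := 6) rfl N6235 D15200
theorem N7784 : nd 7784 = n15201 := ndS (p := 6235) (l := 9) rfl N6235 D15201
theorem N7785 : nd 7785 = n15203 := ndS (p := 6237) (l := 7) rfl N6237 D15203
theorem N7786 : nd 7786 = n15204 := ndS (p := 6237) (l := 9) rfl N6237 D15204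
theorem N7787 : nd 7787 = n15207 := ndS (p := 6239) (l := 8) rfl N6239 D15207
theorem N7788 : nd 7788 = n15208 := ndS (p := 6240) (l := 3) rfl N6240 D15208
theorem N7789 : nd 7789 = n15209 := ndS (p := 6240) (l := 9) rfl N6240 D15209
theorem N7790 : nd 7790 = n15210 := ndS (p := 6241) (l := 2) rfl N6241 D15210
theorem N7791 : nd 7791 = n15211 := ndS (p := 6241) (l := 4) rfl N6241 D15211
theorem N7792 : nd 7792 = n15212 := ndS (p := 6241) (l := 9) rfl N6241 D15212
theorem N7793 : nd 7793 = n15213 := ndS (p := 6243) (l := 2) rfl N6243 D15213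
theorem N7794 : nd 7794 = n15214 := ndS (p := 6243) (l := 9) rfl N6243 D15214
theorem N7795 : nd 7795 = n15215 := ndS (p := 6245) (l := 1) rfl N6245 D15215
theorem N7796 : nd 7796 = n15216 := ndS (p := 6245) (l := 9) rfl N6245 D15216
theorem N7797 : nd 7797 = n15217 := ndS (p := 6246) (l := 8) rfl N6246 D15217
theorem N7798 : nd 7798 = n15218 := ndS (p := 6247) (l := 0) rfl N6247 D15218
theorem N7799 : nd 7799 = n15219 := ndS (p := 6247) (l := 9) rfl N6247 D15219
theorem N7800 : nd 7800 = n15220 := ndS (p := 6248) (l := 8) rfl N6248 D15220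
theorem N7801 : nd 7801 = n15222 := ndS (p := 6250) (l := 9) rfl N6250 D15222
theorem N7802 : nd 7802 = n15225 := ndS (p := 6251) (l := 9) rfl N6251 D15225
theorem N7803 : nd 7803 = n15226 := ndS (p := 6253) (l := 1) rfl N6253 D15226
theorem N7804 : nd 7804 = n15228 := ndS (p := 6253) (l := 9) rfl N6253 D15228
theorem N7805 : nd 7805 = n15229 := ndS (p := 6254) (l := 9) rfl N6254 D15229
theorem N7806 : nd 7806 = n15230 := ndS (p := 6255) (l := 8) rfl N6255 D15230
theorem N7807 : nd 7807 = n15231 := ndS (p := 6256) (l := 1) rfl N6256 D15231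
theorem N7808 : nd 7808 = n15234 := ndS (p := 6258) (l := 0) rfl N6258 D15234
theorem N7809 : nd 7809 = n15235 := ndS (p := 6258) (l := 9) rfl N6258 D15235
theorem N7810 : nd 7810 = n15237 := ndS (p := 6261) (l := 9) rfl N6261 D15237
theorem N7811 : nd 7811 = n15238 := ndS (p := 6262) (l := 8) rfl N6262 D15238
theorem N7812 : nd 7812 = n15241 := ndS (p := 6265) (l := 3) rfl N6265 D15241
theorem N7813 : nd 7813 = n15243 := ndS (p := 6266) (l := 2) rfl N6266 D15243
theorem N7814 : nd 7814 = n15244 := ndS (p := 6266) (l := 4) rfl N6266 D15244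
theorem N7815 : nd 7815 = n15245 := ndS (p := 6266) (l := 9) rfl N6266 D15245
theorem N7816 : nd 7816 = n15246 := ndS (p := 6268) (l := 2) rfl N6268 D15246
theorem N7817 : nd 7817 = n15247 := ndS (p := 6268) (l := 9) rfl N6268 D15247
theorem N7818 : nd 7818 = n15248 := ndS (p := 6270) (l := 1) rfl N6270 D15248
theorem N7819 : nd 7819 = n15249 := ndS (p := 6270) (l := 9) rfl N6270 D15249
theorem N7820 : nd 7820 = n15250 := ndS (p := 6271) (l := 8) rfl N6271 D15250
theorem N7821 : nd 7821 = n15251 := ndS (p := 6272) (l := 0) rfl N6272 D15251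
theorem N7822 : nd 7822 = n15252 := ndS (p := 6272) (l := 9) rfl N6272 D15252
theorem N7823 : nd 7823 = n15253 := ndS (p := 6273) (l := 8) rfl N6273 D15253
theorem N7824 : nd 7824 = n15256 := ndS (p := 6275) (l := 2) rfl N6275 D15256
theorem N7825 : nd 7825 = n15259 := ndS (p := 6276) (l := 1) rfl N6276 D15259
theorem N7826 : nd 7826 = n15260 := ndS (p := 6276) (l := 4) rfl N6276 D15260
theorem N7827 : nd 7827 = n15261 := ndS (p := 6276) (l := 9) rfl N6276 D15261
theorem N7828 : nd 7828 = n15267 := ndS (p := 6281) (l := 0) rfl N6281 D15267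
theorem N7829 : nd 7829 = n15269 := ndS (p := 6282) (l := 8) rfl N6282 D15269
theorem N7830 : nd 7830 = n15270 := ndS (p := 6284) (l := 9) rfl N6284 D15270
theorem N7831 : nd 7831 = n15271 := ndS (p := 6285) (l := 8) rfl N6285 D15271
theorem N7832 : nd 7832 = n15272 := ndS (p := 6286) (l := 3) rfl N6286 D15272
theorem N7833 : nd 7833 = n15294 := ndS (p := 6288) (l := 8) rfl N6288 D15294
theorem N7834 : nd 7834 = n15330 := ndS (p := 6290) (l := 3) rfl N6290 D15330
theorem N7835 : nd 7835 = n15556 := ndS (p := 6315) (l := 3) rfl N6315 D15556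
theorem N7836 : nd 7836 = n15615 := ndS (p := 6318) (l := 4) rfl N6318 D15615
theorem N7837 : nd 7837 = n15616 := ndS (p := 6318) (l := 6) rfl N6318 D15616
theorem N7838 : nd 7838 = n15632 := ndS (p := 6321) (l := 5) rfl N6321 D15632
theorem N7839 : nd 7839 = n15636 := ndS (p := 6322) (l := 8) rfl N6322 D15636
theorem N7840 : nd 7840 = n15644 := ndS (p := 6325) (l := 3) rfl N6325 D15644
theorem N7841 : nd 7841 = n15649 := ndS (p := 6327) (l := 3) rfl N6327 D15649
theorem N7842 : nd 7842 = n15651 := ndS (p := 6328) (l := 4) rfl N6328 D15651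
theorem N7843 : nd 7843 = n15721 := ndS (p := 6330) (l := 3) rfl N6330 D15721
theorem N7844 : nd 7844 = n15722 := ndS (p := 6330) (l := 6) rfl N6330 D15722
theorem N7845 : nd 7845 = n15724 := ndS (p := 6331) (l := 7) rfl N6331 D15724
theorem N7846 : nd 7846 = n15745 := ndS (p := 6334) (l := 4) rfl N6334 D15745
theorem N7847 : nd 7847 = n15746 := ndS (p := 6334) (l := 6) rfl N6334 D15746
theorem N7848 : nd 7848 = n15750 := ndS (p := 6335) (l := 3) rfl N6335 D15750
theorem N7849 : nd 7849 = n15752 := ndS (p := 6335) (l := 8) rfl N6335 D15752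
theorem N7850 : nd 7850 = n15754 := ndS (p := 6336) (l := 8) rfl N6336 D15754
theorem N7851 : nd 7851 = n15766 := ndS (p := 6340) (l := 6) rfl N6340 D15766
theorem N7852 : nd 7852 = n15767 := ndS (p := 6340) (l := 8) rfl N6340 D15767
theorem N7853 : nd 7853 = n15774 := ndS (p := 6344) (l := 3) rfl N6344 D15774
theorem N7854 : nd 7854 = n15776 := ndS (p := 6345) (l := 4) rfl N6345 D15776
theorem N7855 : nd 7855 = n15778 := ndS (p := 6346) (l := 5) rfl N6346 D15778
theorem N7856 : nd 7856 = n15882 := ndS (p := 6349) (l := 6) rfl N6349 D15882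
theorem N7857 : nd 7857 = n15883 := ndS (p := 6349) (l := 8) rfl N6349 D15883
theorem N7858 : nd 7858 = n15884 := ndS (p := 6350) (l := 5) rfl N6350 D15884
theorem N7859 : nd 7859 = n15885 := ndS (p := 6350) (l := 7) rfl N6350 D15885
theorem N7860 : nd 7860 = n15916 := ndS (p := 6354) (l := 3) rfl N6354 D15916
theorem N7861 : nd 7861 = n15917 := ndS (p := 6354) (l := 6) rfl N6354 D15917
theorem N7862 : nd 7862 = n15919 := ndS (p := 6355) (l := 7) rfl N6355 D15919
theorem N7863 : nd 7863 = n15926 := ndS (p := 6356) (l := 6) rfl N6356 D15926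
theorem N7864 : nd 7864 = n15927 := ndS (p := 6356) (l := 8) rfl N6356 D15927
theorem N7865 : nd 7865 = n15930 := ndS (p := 6357) (l := 8) rfl N6357 D15930
theorem N7866 : nd 7866 = n15931 := ndS (p := 6358) (l := 3) rfl N6358 D15931
theorem N7867 : nd 7867 = n15933 := ndS (p := 6359) (l := 8) rfl N6359 D15933
theorem N7868 : nd 7868 = n15946 := ndS (p := 6362) (l := 2) rfl N6362 D15946
theorem N7869 : nd 7869 = n15949 := ndS (p := 6364) (l := 5) rfl N6364 D15949
theorem N7870 : nd 7870 = n15950 := ndS (p := 6364) (l := 7) rfl N6364 D15950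
theorem N7871 : nd 7871 = n15951 := ndS (p := 6364) (l := 8) rfl N6364 D15951
theorem N7872 : nd 7872 = n15952 := ndS (p := 6365) (l := 3) rfl N6365 D15952
theorem N7873 : nd 7873 = n15953 := ndS (p := 6365) (l := 9) rfl N6365 D15953
theorem N7874 : nd 7874 = n15957 := ndS (p := 6368) (l := 3) rfl N6368 D15957
theorem N7875 : nd 7875 = n15959 := ndS (p := 6369) (l := 2) rfl N6369 D15959
theorem N7876 : nd 7876 = n15960 := ndS (p := 6369) (l := 4) rfl N6369 D15960
theorem N7877 : nd 7877 = n15962 := ndS (p := 6370) (l := 3) rfl N6370 D15962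
theorem N7878 : nd 7878 = n15964 := ndS (p := 6371) (l := 4) rfl N6371 D15964
theorem N7879 : nd 7879 = n15966 := ndS (p := 6372) (l := 5) rfl N6372 D15966
theorem N7880 : nd 7880 = n15969 := ndS (p := 6373) (l := 6) rfl N6373 D15969
theorem N7881 : nd 7881 = n15980 := ndS (p := 6375) (l := 9) rfl N6375 D15980
theorem N7882 : nd 7882 = n15991 := ndS (p := 6378) (l := 4) rfl N6378 D15991
theorem N7883 : nd 7883 = n15992 := ndS (p := 6378) (l := 6) rfl N6378 D15992
theorem N7884 : nd 7884 = n16001 := ndS (p := 6382) (l := 3) rfl N6382 D16001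
theorem N7885 : nd 7885 = n16030 := ndS (p := 6385) (l := 3) rfl N6385 D16030
theorem N7886 : nd 7886 = n16047 := ndS (p := 6387) (l := 8) rfl N6387 D16047
theorem N7887 : nd 7887 = n16056 := ndS (p := 6388) (l := 4) rfl N6388 D16056
theorem N7888 : nd 7888 = n16058 := ndS (p := 6389) (l := 5) rfl N6389 D16058
theorem N7889 : nd 7889 = n16085 := ndS (p := 6390) (l := 3) rfl N6390 D16085
theorem N7890 : nd 7890 = n16086 := ndS (p := 6390) (l := 6) rfl N6390 D16086
theorem N7891 : nd 7891 = n16088 := ndS (p := 6391) (l := 7) rfl N6391 D16088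
theorem N7892 : nd 7892 = n16101 := ndS (p := 6394) (l := 6) rfl N6394 D16101
theorem N7893 : nd 7893 = n16102 := ndS (p := 6394) (l := 8) rfl N6394 D16102
theorem N7894 : nd 7894 = n16106 := ndS (p := 6396) (l := 3) rfl N6396 D16106
theorem N7895 : nd 7895 = n16145 := ndS (p := 6399) (l := 6) rfl N6399 D16145
theorem N7896 : nd 7896 = n16146 := ndS (p := 6399) (l := 8) rfl N6399 D16146
theorem N7897 : nd 7897 = n16170 := ndS (p := 6402) (l := 8) rfl N6402 D16170
theorem N7898 : nd 7898 = n16171 := ndS (p := 6403) (l := 3) rfl N6403 D16171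
theorem N7899 : nd 7899 = n16172 := ndS (p := 6403) (l := 9) rfl N6403 D16172
theorem N7900 : nd 7900 = n16179 := ndS (p := 6404) (l := 4) rfl N6404 D16179
theorem N7901 : nd 7901 = n16183 := ndS (p := 6405) (l := 4) rfl N6405 D16183
theorem N7902 : nd 7902 = n16185 := ndS (p := 6406) (l := 5) rfl N6406 D16185
theorem N7903 : nd 7903 = n16188 := ndS (p := 6407) (l := 6) rfl N6407 D16188
theorem N7904 : nd 7904 = n16225 := ndS (p := 6408) (l := 6) rfl N6408 D16225
theorem N7905 : nd 7905 = n16226 := ndS (p := 6408) (l := 8) rfl N6408 D16226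
theorem N7906 : nd 7906 = n16227 := ndS (p := 6409) (l := 5) rfl N6409 D16227
theorem N7907 : nd 7907 = n16228 := ndS (p := 6409) (l := 7) rfl N6409 D16228
theorem N7908 : nd 7908 = n16248 := ndS (p := 6413) (l := 5) rfl N6413 D16248
theorem N7909 : nd 7909 = n16249 := ndS (p := 6413) (l := 7) rfl N6413 D16249
theorem N7910 : nd 7910 = n16250 := ndS (p := 6413) (l := 8) rfl N6413 D16250
theorem N7911 : nd 7911 = n16251 := ndS (p := 6414) (l := 3) rfl N6414 D16251
theorem N7912 : nd 7912 = n16252 := ndS (p := 6414) (l := 9) rfl N6414 D16252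
theorem N7913 : nd 7913 = n16256 := ndS (p := 6417) (l := 3) rfl N6417 D16256
theorem N7914 : nd 7914 = n16258 := ndS (p := 6418) (l := 2) rfl N6418 D16258
theorem N7915 : nd 7915 = n16277 := ndS (p := 6420) (l := 2) rfl N6420 D16277
theorem N7916 : nd 7916 = n16312 := ndS (p := 6422) (l := 5) rfl N6422 D16312
theorem N7917 : nd 7917 = n16313 := ndS (p := 6422) (l := 7) rfl N6422 D16313
theorem N7918 : nd 7918 = n16314 := ndS (p := 6422) (l := 8) rfl N6422 D16314
theorem N7919 : nd 7919 = n16316 := ndS (p := 6423) (l := 9) rfl N6423 D16316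
theorem N7920 : nd 7920 = n16338 := ndS (p := 6426) (l := 4) rfl N6426 D16338
theorem N7921 : nd 7921 = n16340 := ndS (p := 6426) (l := 8) rfl N6426 D16340
theorem N7922 : nd 7922 = n16341 := ndS (p := 6427) (l := 8) rfl N6427 D16341
theorem N7923 : nd 7923 = n16342 := ndS (p := 6428) (l := 3) rfl N6428 D16342
theorem N7924 : nd 7924 = n16343 := ndS (p := 6428) (l := 9) rfl N6428 D16343
theorem N7925 : nd 7925 = n16344 := ndS (p := 6429) (l := 4) rfl N6429 D16344
theorem N7926 : nd 7926 = n16345 := ndS (p := 6429) (l := 9) rfl N6429 D16345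
theorem N7927 : nd 7927 = n16352 := ndS (p := 6431) (l := 4) rfl N6431 D16352
theorem N7928 : nd 7928 = n16354 := ndS (p := 6432) (l := 5) rfl N6432 D16354
theorem N7929 : nd 7929 = n16357 := ndS (p := 6433) (l := 4) rfl N6433 D16357
theorem N7930 : nd 7930 = n16359 := ndS (p := 6434) (l := 5) rfl N6434 D16359
theorem N7931 : nd 7931 = n16362 := ndS (p := 6435) (l := 6) rfl N6435 D16362
theorem N7932 : nd 7932 = n16365 := ndS (p := 6436) (l := 7) rfl N6436 D16365
theorem N7933 : nd 7933 = n16385 := ndS (p := 6437) (l := 5) rfl N6437 D16385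
theorem N7934 : nd 7934 = n16386 := ndS (p := 6437) (l := 7) rfl N6437 D16386
theorem N7935 : nd 7935 = n16387 := ndS (p := 6437) (l := 8) rfl N6437 D16387
theorem N7936 : nd 7936 = n16389 := ndS (p := 6438) (l := 9) rfl N6438 D16389
theorem N7937 : nd 7937 = n16404 := ndS (p := 6443) (l := 2) rfl N6443 D16404
theorem N7938 : nd 7938 = n16406 := ndS (p := 6445) (l := 4) rfl N6445 D16406
theorem N7939 : nd 7939 = n16407 := ndS (p := 6445) (l := 7) rfl N6445 D16407
theorem N7940 : nd 7940 = n16408 := ndS (p := 6445) (l := 8) rfl N6445 D16408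
theorem N7941 : nd 7941 = n16409 := ndS (p := 6446) (l := 8) rfl N6446 D16409
theorem N7942 : nd 7942 = n16410 := ndS (p := 6447) (l := 3) rfl N6447 D16410
theorem N7943 : nd 7943 = n16411 := ndS (p := 6447) (l := 9) rfl N6447 D16411
theorem N7944 : nd 7944 = n16412 := ndS (p := 6448) (l := 2) rfl N6448 D16412
theorem N7945 : nd 7945 = n16414 := ndS (p := 6448) (l := 9) rfl N6448 D16414
theorem N7946 : nd 7946 = n16417 := ndS (p := 6451) (l := 3) rfl N6451 D16417
theorem N7947 : nd 7947 = n16418 := ndS (p := 6452) (l := 3) rfl N6452 D16418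
theorem N7948 : nd 7948 = n16419 := ndS (p := 6453) (l := 2) rfl N6453 D16419
theorem N7949 : nd 7949 = n16421 := ndS (p := 6454) (l := 1) rfl N6454 D16421
theorem N7950 : nd 7950 = n16442 := ndS (p := 6460) (l := 6) rfl N6460 D16442
theorem N7951 : nd 7951 = n16443 := ndS (p := 6460) (l := 8) rfl N6460 D16443
theorem N7952 : nd 7952 = n16444 := ndS (p := 6461) (l := 5) rfl N6461 D16444
theorem N7953 : nd 7953 = n16445 := ndS (p := 6461) (l := 7) rfl N6461 D16445
theorem N7954 : nd 7954 = n16446 := ndS (p := 6461) (l := 8) rfl N6461 D16446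
theorem N7955 : nd 7955 = n16447 := ndS (p := 6462) (l := 9) rfl N6462 D16447
theorem N7956 : nd 7956 = n16448 := ndS (p := 6463) (l := 7) rfl N6463 D16448
theorem N7957 : nd 7957 = n16449 := ndS (p := 6465) (l := 4) rfl N6465 D16449
theorem N7958 : nd 7958 = n16450 := ndS (p := 6465) (l := 7) rfl N6465 D16450
theorem N7959 : nd 7959 = n16451 := ndS (p := 6465) (l := 8) rfl N6465 D16451
theorem N7960 : nd 7960 = n16452 := ndS (p := 6466) (l := 8) rfl N6466 D16452
theorem N7961 : nd 7961 = n16453 := ndS (p := 6467) (l := 9) rfl N6467 D16453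
theorem N7962 : nd 7962 = n16455 := ndS (p := 6470) (l := 7) rfl N6470 D16455
theorem N7963 : nd 7963 = n16456 := ndS (p := 6470) (l := 8) rfl N6470 D16456
theorem N7964 : nd 7964 = n16458 := ndS (p := 6471) (l := 8) rfl N6471 D16458
theorem N7965 : nd 7965 = n16459 := ndS (p := 6472) (l := 9) rfl N6472 D16459
theorem N7966 : nd 7966 = n16460 := ndS (p := 6473) (l := 9) rfl N6473 D16460
theorem N7967 : nd 7967 = n16497 := ndS (p := 6479) (l := 3) rfl N6479 D16497
theorem N7968 : nd 7968 = n16498 := ndS (p := 6479) (l := 9) rfl N6479 D16498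
theorem N7969 : nd 7969 = n16505 := ndS (p := 6480) (l := 4) rfl N6480 D16505
theorem N7970 : nd 7970 = n16509 := ndS (p := 6481) (l := 4) rfl N6481 D16509
theorem N7971 : nd 7971 = n16511 := ndS (p := 6482) (l := 5) rfl N6482 D16511
theorem N7972 : nd 7972 = n16514 := ndS (p := 6483) (l := 6) rfl N6483 D16514
theorem N7973 : nd 7973 = n16561 := ndS (p := 6485) (l := 9) rfl N6485 D16561
theorem N7974 : nd 7974 = n16586 := ndS (p := 6488) (l := 3) rfl N6488 D16586
theorem N7975 : nd 7975 = n16587 := ndS (p := 6488) (l := 9) rfl N6488 D16587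
theorem N7976 : nd 7976 = n16588 := ndS (p := 6489) (l := 2) rfl N6489 D16588
theorem N7977 : nd 7977 = n16589 := ndS (p := 6489) (l := 4) rfl N6489 D16589
theorem N7978 : nd 7978 = n16590 := ndS (p := 6489) (l := 9) rfl N6489 D16590
theorem N7979 : nd 7979 = n16594 := ndS (p := 6491) (l := 4) rfl N6491 D16594
theorem N7980 : nd 7980 = n16597 := ndS (p := 6492) (l := 4) rfl N6492 D16597
theorem N7981 : nd 7981 = n16599 := ndS (p := 6493) (l := 5) rfl N6493 D16599
theorem N7982 : nd 7982 = n16602 := ndS (p := 6494) (l := 4) rfl N6494 D16602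
theorem N7983 : nd 7983 = n16604 := ndS (p := 6495) (l := 5) rfl N6495 D16604
theorem N7984 : nd 7984 = n16607 := ndS (p := 6496) (l := 6) rfl N6496 D16607
theorem N7985 : nd 7985 = n16610 := ndS (p := 6497) (l := 7) rfl N6497 D16610
theorem N7986 : nd 7986 = n16660 := ndS (p := 6498) (l := 5) rfl N6498 D16660
theorem N7987 : nd 7987 = n16663 := ndS (p := 6499) (l := 6) rfl N6499 D16663
theorem N7988 : nd 7988 = n16666 := ndS (p := 6500) (l := 7) rfl N6500 D16666
theorem N7989 : nd 7989 = n16694 := ndS (p := 6503) (l := 9) rfl N6503 D16694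
theorem N7990 : nd 7990 = n16718 := ndS (p := 6506) (l := 3) rfl N6506 D16718
theorem N7991 : nd 7991 = n16719 := ndS (p := 6506) (l := 9) rfl N6506 D16719
theorem N7992 : nd 7992 = n16720 := ndS (p := 6507) (l := 2) rfl N6507 D16720
theorem N7993 : nd 7993 = n16721 := ndS (p := 6507) (l := 4) rfl N6507 D16721
theorem N7994 : nd 7994 = n16722 := ndS (p := 6507) (l := 9) rfl N6507 D16722
theorem N7995 : nd 7995 = n16726 := ndS (p := 6509) (l := 4) rfl N6509 D16726
theorem N7996 : nd 7996 = n16731 := ndS (p := 6511) (l := 5) rfl N6511 D16731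
theorem N7997 : nd 7997 = n16804 := ndS (p := 6517) (l := 5) rfl N6517 D16804
theorem N7998 : nd 7998 = n16813 := ndS (p := 6519) (l := 6) rfl N6519 D16813
theorem N7999 : nd 7999 = n16850 := ndS (p := 6522) (l := 3) rfl N6522 D16850
theorem N8000 : nd 8000 = n16851 := ndS (p := 6522) (l := 8) rfl N6522 D16851
theorem N8001 : nd 8001 = n16853 := ndS (p := 6523) (l := 3) rfl N6523 D16853
theorem N8002 : nd 8002 = n16856 := ndS (p := 6524) (l := 4) rfl N6524 D16856
theorem N8003 : nd 8003 = n16860 := ndS (p := 6525) (l := 3) rfl N6525 D16860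
theorem N8004 : nd 8004 = n16878 := ndS (p := 6526) (l := 2) rfl N6526 D16878
theorem N8005 : nd 8005 = n16969 := ndS (p := 6529) (l := 5) rfl N6529 D16969
theorem N8006 : nd 8006 = n17106 := ndS (p := 6531) (l := 6) rfl N6531 D17106
theorem N8007 : nd 8007 = n19372 := ndS (p := 6537) (l := 8) rfl N6537 D19372
theorem N8008 : nd 8008 = n19613 := ndS (p := 6571) (l := 8) rfl N6571 D19613
theorem N8009 : nd 8009 = n19616 := ndS (p := 6573) (l := 8) rfl N6573 D19616
theorem N8010 : nd 8010 = n19619 := ndS (p := 6574) (l := 8) rfl N6574 D19619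
theorem N8011 : nd 8011 = n19620 := ndS (p := 6575) (l := 9) rfl N6575 D19620
theorem N8012 : nd 8012 = n19623 := ndS (p := 6577) (l := 8) rfl N6577 D19623
theorem N8013 : nd 8013 = n19625 := ndS (p := 6578) (l := 8) rfl N6578 D19625
theorem N8014 : nd 8014 = n19626 := ndS (p := 6579) (l := 9) rfl N6579 D19626
theorem N8015 : nd 8015 = n19629 := ndS (p := 6582) (l := 8) rfl N6582 D19629
theorem N8016 : nd 8016 = n19632 := ndS (p := 6583) (l := 8) rfl N6583 D19632
theorem N8017 : nd 8017 = n19633 := ndS (p := 6584) (l := 9) rfl N6584 D19633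
theorem N8018 : nd 8018 = n19637 := ndS (p := 6586) (l := 8) rfl N6586 D19637
theorem N8019 : nd 8019 = n19638 := ndS (p := 6587) (l := 3) rfl N6587 D19638
theorem N8020 : nd 8020 = n19639 := ndS (p := 6587) (l := 9) rfl N6587 D19639
theorem N8021 : nd 8021 = n19641 := ndS (p := 6588) (l := 8) rfl N6588 D19641
theorem N8022 : nd 8022 = n19643 := ndS (p := 6589) (l := 8) rfl N6589 D19643
theorem N8023 : nd 8023 = n19644 := ndS (p := 6590) (l := 9) rfl N6590 D19644
theorem N8024 : nd 8024 = n19647 := ndS (p := 6593) (l := 8) rfl N6593 D19647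
theorem N8025 : nd 8025 = n19648 := ndS (p := 6594) (l := 3) rfl N6594 D19648
theorem N8026 : nd 8026 = n19649 := ndS (p := 6594) (l := 9) rfl N6594 D19649
theorem N8027 : nd 8027 = n19650 := ndS (p := 6595) (l := 8) rfl N6595 D19650
theorem N8028 : nd 8028 = n19651 := ndS (p := 6596) (l := 9) rfl N6596 D19651
theorem N8029 : nd 8029 = n19653 := ndS (p := 6598) (l := 8) rfl N6598 D19653
theorem N8030 : nd 8030 = n19656 := ndS (p := 6599) (l := 8) rfl N6599 D19656
theorem N8031 : nd 8031 = n19657 := ndS (p := 6600) (l := 3) rfl N6600 D19657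
theorem N8032 : nd 8032 = n19658 := ndS (p := 6600) (l := 9) rfl N6600 D19658
theorem N8033 : nd 8033 = n19660 := ndS (p := 6601) (l := 8) rfl N6601 D19660
theorem N8034 : nd 8034 = n19662 := ndS (p := 6602) (l := 8) rfl N6602 D19662
theorem N8035 : nd 8035 = n19663 := ndS (p := 6603) (l := 9) rfl N6603 D19663
theorem N8036 : nd 8036 = n19666 := ndS (p := 6606) (l := 8) rfl N6606 D19666
theorem N8037 : nd 8037 = n19668 := ndS (p := 6607) (l := 8) rfl N6607 D19668
theorem N8038 : nd 8038 = n19669 := ndS (p := 6608) (l := 3) rfl N6608 D19669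
theorem N8039 : nd 8039 = n19670 := ndS (p := 6608) (l := 9) rfl N6608 D19670
theorem N8040 : nd 8040 = n19671 := ndS (p := 6609) (l := 4) rfl N6609 D19671
theorem N8041 : nd 8041 = n19672 := ndS (p := 6609) (l := 9) rfl N6609 D19672
theorem N8042 : nd 8042 = n19675 := ndS (p := 6611) (l := 8) rfl N6611 D19675
theorem N8043 : nd 8043 = n19676 := ndS (p := 6612) (l := 3) rfl N6612 D19676
theorem N8044 : nd 8044 = n19677 := ndS (p := 6612) (l := 9) rfl N6612 D19677
theorem N8045 : nd 8045 = n19678 := ndS (p := 6613) (l := 8) rfl N6613 D19678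
theorem N8046 : nd 8046 = n19679 := ndS (p := 6614) (l := 9) rfl N6614 D19679
theorem N8047 : nd 8047 = n19681 := ndS (p := 6616) (l := 8) rfl N6616 D19681
theorem N8048 : nd 8048 = n19682 := ndS (p := 6617) (l := 8) rfl N6617 D19682
theorem N8049 : nd 8049 = n19683 := ndS (p := 6618) (l := 3) rfl N6618 D19683
theorem N8050 : nd 8050 = n19684 := ndS (p := 6618) (l := 9) rfl N6618 D19684
theorem N8051 : nd 8051 = n19685 := ndS (p := 6619) (l := 2) rfl N6619 D19685
theorem N8052 : nd 8052 = n19686 := ndS (p := 6619) (l := 9) rfl N6619 D19686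
theorem N8053 : nd 8053 = n19687 := ndS (p := 6621) (l := 9) rfl N6621 D19687
theorem N8054 : nd 8054 = n19689 := ndS (p := 6623) (l := 3) rfl N6623 D19689
theorem N8055 : nd 8055 = n19690 := ndS (p := 6623) (l := 5) rfl N6623 D19690
theorem N8056 : nd 8056 = n19691 := ndS (p := 6624) (l := 5) rfl N6624 D19691
theorem N8057 : nd 8057 = n19692 := ndS (p := 6624) (l := 8) rfl N6624 D19692
theorem N8058 : nd 8058 = n19693 := ndS (p := 6625) (l := 6) rfl N6625 D19693
theorem N8059 : nd 8059 = n19694 := ndS (p := 6626) (l := 7) rfl N6626 D19694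
theorem N8060 : nd 8060 = n19695 := ndS (p := 6627) (l := 3) rfl N6627 D19695
theorem N8061 : nd 8061 = n19697 := ndS (p := 6628) (l := 2) rfl N6628 D19697
theorem N8062 : nd 8062 = n19698 := ndS (p := 6628) (l := 5) rfl N6628 D19698
theorem N8063 : nd 8063 = n19699 := ndS (p := 6628) (l := 8) rfl N6628 D19699
theorem N8064 : nd 8064 = n19708 := ndS (p := 6634) (l := 2) rfl N6634 D19708
theorem N8065 : nd 8065 = n19709 := ndS (p := 6634) (l := 5) rfl N6634 D19709
theorem N8066 : nd 8066 = n19710 := ndS (p := 6634) (l := 8) rfl N6634 D19710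
theorem N8067 : nd 8067 = n19711 := ndS (p := 6635) (l := 6) rfl N6635 D19711
theorem N8068 : nd 8068 = n19712 := ndS (p := 6636) (l := 4) rfl N6636 D19712
theorem N8069 : nd 8069 = n19713 := ndS (p := 6636) (l := 6) rfl N6636 D19713
theorem N8070 : nd 8070 = n19714 := ndS (p := 6636) (l := 8) rfl N6636 D19714
theorem N8071 : nd 8071 = n19715 := ndS (p := 6637) (l := 9) rfl N6637 D19715
theorem N8072 : nd 8072 = n19716 := ndS (p := 6638) (l := 7) rfl N6638 D19716
theorem N8073 : nd 8073 = n19718 := ndS (p := 6640) (l := 5) rfl N6640 D19718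
theorem N8074 : nd 8074 = n19721 := ndS (p := 6642) (l := 5) rfl N6642 D19721
theorem N8075 : nd 8075 = n19723 := ndS (p := 6643) (l := 4) rfl N6643 D19723
theorem N8076 : nd 8076 = n19724 := ndS (p := 6643) (l := 6) rfl N6643 D19724
theorem N8077 : nd 8077 = n19725 := ndS (p := 6643) (l := 8) rfl N6643 D19725
theorem N8078 : nd 8078 = n19728 := ndS (p := 6646) (l := 6) rfl N6646 D19728
theorem N8079 : nd 8079 = n19729 := ndS (p := 6646) (l := 8) rfl N6646 D19729
theorem N8080 : nd 8080 = n19737 := ndS (p := 6651) (l := 5) rfl N6651 D19737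
theorem N8081 : nd 8081 = n19739 := ndS (p := 6652) (l := 4) rfl N6652 D19739
theorem N8082 : nd 8082 = n19740 := ndS (p := 6652) (l := 6) rfl N6652 D19740
theorem N8083 : nd 8083 = n19741 := ndS (p := 6652) (l := 8) rfl N6652 D19741
theorem N8084 : nd 8084 = n19743 := ndS (p := 6654) (l := 7) rfl N6654 D19743
theorem N8085 : nd 8085 = n19744 := ndS (p := 6655) (l := 6) rfl N6655 D19744
theorem N8086 : nd 8086 = n19745 := ndS (p := 6655) (l := 8) rfl N6655 D19745
theorem N8087 : nd 8087 = n19746 := ndS (p := 6656) (l := 7) rfl N6656 D19746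
theorem N8088 : nd 8088 = n19747 := ndS (p := 6656) (l := 8) rfl N6656 D19747
theorem N8089 : nd 8089 = n19748 := ndS (p := 6657) (l := 9) rfl N6657 D19748
theorem N8090 : nd 8090 = n19752 := ndS (p := 6660) (l := 4) rfl N6660 D19752
theorem N8091 : nd 8091 = n19753 := ndS (p := 6660) (l := 6) rfl N6660 D19753
theorem N8092 : nd 8092 = n19757 := ndS (p := 6662) (l := 4) rfl N6662 D19757
theorem N8093 : nd 8093 = n19758 := ndS (p := 6662) (l := 6) rfl N6662 D19758
theorem N8094 : nd 8094 = n19762 := ndS (p := 6663) (l := 6) rfl N6663 D19762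
theorem N8095 : nd 8095 = n19763 := ndS (p := 6663) (l := 8) rfl N6663 D19763
theorem N8096 : nd 8096 = n19764 := ndS (p := 6664) (l := 7) rfl N6664 D19764
theorem N8097 : nd 8097 = n19765 := ndS (p := 6664) (l := 8) rfl N6664 D19765
theorem N8098 : nd 8098 = n19767 := ndS (p := 6667) (l := 5) rfl N6667 D19767
theorem N8099 : nd 8099 = n19768 := ndS (p := 6667) (l := 7) rfl N6667 D19768
theorem N8100 : nd 8100 = n19769 := ndS (p := 6667) (l := 8) rfl N6667 D19769
theorem N8101 : nd 8101 = n19770 := ndS (p := 6668) (l := 3) rfl N6668 D19770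
theorem N8102 : nd 8102 = n19771 := ndS (p := 6668) (l := 9) rfl N6668 D19771
theorem N8103 : nd 8103 = n19778 := ndS (p := 6672) (l := 5) rfl N6672 D19778
theorem N8104 : nd 8104 = n19779 := ndS (p := 6672) (l := 8) rfl N6672 D19779
theorem N8105 : nd 8105 = n19780 := ndS (p := 6673) (l := 4) rfl N6673 D19780
theorem N8106 : nd 8106 = n19781 := ndS (p := 6673) (l := 6) rfl N6673 D19781
theorem N8107 : nd 8107 = n19782 := ndS (p := 6673) (l := 8) rfl N6673 D19782
theorem N8108 : nd 8108 = n19783 := ndS (p := 6674) (l := 9) rfl N6674 D19783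
theorem N8109 : nd 8109 = n19784 := ndS (p := 6675) (l := 7) rfl N6675 D19784
theorem N8110 : nd 8110 = n19785 := ndS (p := 6676) (l := 6) rfl N6676 D19785
theorem N8111 : nd 8111 = n19786 := ndS (p := 6676) (l := 8) rfl N6676 D19786
theorem N8112 : nd 8112 = n19787 := ndS (p := 6677) (l := 7) rfl N6677 D19787
theorem N8113 : nd 8113 = n19788 := ndS (p := 6677) (l := 8) rfl N6677 D19788
theorem N8114 : nd 8114 = n19789 := ndS (p := 6678) (l := 9) rfl N6678 D19789
theorem N8115 : nd 8115 = n19790 := ndS (p := 6681) (l := 1) rfl N6681 D19790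
theorem N8116 : nd 8116 = n19791 := ndS (p := 6681) (l := 5) rfl N6681 D19791
theorem N8117 : nd 8117 = n19792 := ndS (p := 6681) (l := 8) rfl N6681 D19792
theorem N8118 : nd 8118 = n19793 := ndS (p := 6682) (l := 4) rfl N6682 D19793
theorem N8119 : nd 8119 = n19794 := ndS (p := 6682) (l := 6) rfl N6682 D19794
theorem N8120 : nd 8120 = n19795 := ndS (p := 6682) (l := 8) rfl N6682 D19795
theorem N8121 : nd 8121 = n19796 := ndS (p := 6683) (l := 9) rfl N6683 D19796
theorem N8122 : nd 8122 = n19798 := ndS (p := 6685) (l := 4) rfl N6685 D19798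
theorem N8123 : nd 8123 = n19799 := ndS (p := 6685) (l := 6) rfl N6685 D19799
theorem N8124 : nd 8124 = n19800 := ndS (p := 6685) (l := 8) rfl N6685 D19800
theorem N8125 : nd 8125 = n19801 := ndS (p := 6686) (l := 3) rfl N6686 D19801
theorem N8126 : nd 8126 = n19802 := ndS (p := 6686) (l := 9) rfl N6686 D19802
theorem N8127 : nd 8127 = n19803 := ndS (p := 6687) (l := 6) rfl N6687 D19803
theorem N8128 : nd 8128 = n19804 := ndS (p := 6687) (l := 8) rfl N6687 D19804
theorem N8129 : nd 8129 = n19805 := ndS (p := 6688) (l := 7) rfl N6688 D19805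
theorem N8130 : nd 8130 = n19806 := ndS (p := 6688) (l := 8) rfl N6688 D19806
theorem N8131 : nd 8131 = n19807 := ndS (p := 6689) (l := 9) rfl N6689 D19807
theorem N8132 : nd 8132 = n19808 := ndS (p := 6692) (l := 5) rfl N6692 D19808
theorem N8133 : nd 8133 = n19809 := ndS (p := 6692) (l := 7) rfl N6692 D19809
theorem N8134 : nd 8134 = n19810 := ndS (p := 6692) (l := 8) rfl N6692 D19810
theorem N8135 : nd 8135 = n19811 := ndS (p := 6693) (l := 3) rfl N6693 D19811
theorem N8136 : nd 8136 = n19812 := ndS (p := 6693) (l := 9) rfl N6693 D19812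
theorem N8137 : nd 8137 = n19813 := ndS (p := 6694) (l := 8) rfl N6694 D19813
theorem N8138 : nd 8138 = n19814 := ndS (p := 6695) (l := 9) rfl N6695 D19814
theorem N8139 : nd 8139 = n19823 := ndS (p := 6697) (l := 4) rfl N6697 D19823
theorem N8140 : nd 8140 = n19824 := ndS (p := 6697) (l := 6) rfl N6697 D19824
theorem N8141 : nd 8141 = n19825 := ndS (p := 6697) (l := 8) rfl N6697 D19825
theorem N8142 : nd 8142 = n19826 := ndS (p := 6698) (l := 3) rfl N6698 D19826
theorem N8143 : nd 8143 = n19827 := ndS (p := 6698) (l := 9) rfl N6698 D19827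
theorem N8144 : nd 8144 = n19828 := ndS (p := 6699) (l := 6) rfl N6699 D19828
theorem N8145 : nd 8145 = n19829 := ndS (p := 6699) (l := 8) rfl N6699 D19829
theorem N8146 : nd 8146 = n19830 := ndS (p := 6700) (l := 7) rfl N6700 D19830
theorem N8147 : nd 8147 = n19831 := ndS (p := 6700) (l := 8) rfl N6700 D19831
theorem N8148 : nd 8148 = n19832 := ndS (p := 6701) (l := 9) rfl N6701 D19832
theorem N8149 : nd 8149 = n19833 := ndS (p := 6704) (l := 5) rfl N6704 D19833
theorem N8150 : nd 8150 = n19834 := ndS (p := 6704) (l := 7) rfl N6704 D19834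
theorem N8151 : nd 8151 = n19835 := ndS (p := 6704) (l := 8) rfl N6704 D19835
theorem N8152 : nd 8152 = n19836 := ndS (p := 6705) (l := 3) rfl N6705 D19836
theorem N8153 : nd 8153 = n19837 := ndS (p := 6705) (l := 9) rfl N6705 D19837
theorem N8154 : nd 8154 = n19838 := ndS (p := 6706) (l := 8) rfl N6706 D19838
theorem N8155 : nd 8155 = n19839 := ndS (p := 6707) (l := 9) rfl N6707 D19839
theorem N8156 : nd 8156 = n19840 := ndS (p := 6709) (l := 5) rfl N6709 D19840
theorem N8157 : nd 8157 = n19841 := ndS (p := 6709) (l := 8) rfl N6709 D19841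
theorem N8158 : nd 8158 = n19842 := ndS (p := 6710) (l := 4) rfl N6710 D19842
theorem N8159 : nd 8159 = n19843 := ndS (p := 6710) (l := 6) rfl N6710 D19843
theorem N8160 : nd 8160 = n19844 := ndS (p := 6710) (l := 8) rfl N6710 D19844
theorem N8161 : nd 8161 = n19845 := ndS (p := 6711) (l := 3) rfl N6711 D19845
theorem N8162 : nd 8162 = n19846 := ndS (p := 6711) (l := 9) rfl N6711 D19846
theorem N8163 : nd 8163 = n19847 := ndS (p := 6712) (l := 6) rfl N6712 D19847
theorem N8164 : nd 8164 = n19848 := ndS (p := 6712) (l := 8) rfl N6712 D19848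
theorem N8165 : nd 8165 = n19849 := ndS (p := 6713) (l := 7) rfl N6713 D19849
theorem N8166 : nd 8166 = n19850 := ndS (p := 6713) (l := 8) rfl N6713 D19850
theorem N8167 : nd 8167 = n19851 := ndS (p := 6714) (l := 9) rfl N6714 D19851
theorem N8168 : nd 8168 = n19852 := ndS (p := 6717) (l := 3) rfl N6717 D19852
theorem N8169 : nd 8169 = n19853 := ndS (p := 6717) (l := 6) rfl N6717 D19853
theorem N8170 : nd 8170 = n19854 := ndS (p := 6717) (l := 8) rfl N6717 D19854
theorem N8171 : nd 8171 = n19855 := ndS (p := 6718) (l := 7) rfl N6718 D19855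
theorem N8172 : nd 8172 = n19856 := ndS (p := 6718) (l := 8) rfl N6718 D19856
theorem N8173 : nd 8173 = n19857 := ndS (p := 6719) (l := 3) rfl N6719 D19857
theorem N8174 : nd 8174 = n19858 := ndS (p := 6719) (l := 9) rfl N6719 D19858
theorem N8175 : nd 8175 = n19859 := ndS (p := 6720) (l := 4) rfl N6720 D19859
theorem N8176 : nd 8176 = n19860 := ndS (p := 6720) (l := 9) rfl N6720 D19860
theorem N8177 : nd 8177 = n19861 := ndS (p := 6722) (l := 5) rfl N6722 D19861
theorem N8178 : nd 8178 = n19862 := ndS (p := 6722) (l := 7) rfl N6722 D19862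
theorem N8179 : nd 8179 = n19863 := ndS (p := 6722) (l := 8) rfl N6722 D19863
theorem N8180 : nd 8180 = n19864 := ndS (p := 6723) (l := 3) rfl N6723 D19864
theorem N8181 : nd 8181 = n19865 := ndS (p := 6723) (l := 9) rfl N6723 D19865
theorem N8182 : nd 8182 = n19866 := ndS (p := 6724) (l := 8) rfl N6724 D19866
theorem N8183 : nd 8183 = n19867 := ndS (p := 6725) (l := 9) rfl N6725 D19867
theorem N8184 : nd 8184 = n19868 := ndS (p := 6727) (l := 7) rfl N6727 D19868
theorem N8185 : nd 8185 = n19869 := ndS (p := 6727) (l := 8) rfl N6727 D19869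
theorem N8186 : nd 8186 = n19870 := ndS (p := 6728) (l := 8) rfl N6728 D19870
theorem N8187 : nd 8187 = n19871 := ndS (p := 6729) (l := 3) rfl N6729 D19871
theorem N8188 : nd 8188 = n19872 := ndS (p := 6729) (l := 9) rfl N6729 D19872
theorem N8189 : nd 8189 = n19873 := ndS (p := 6730) (l := 2) rfl N6730 D19873
theorem N8190 : nd 8190 = n19874 := ndS (p := 6730) (l := 9) rfl N6730 D19874
theorem N8191 : nd 8191 = n19875 := ndS (p := 6732) (l := 9) rfl N6732 D19875
theorem N8192 : nd 8192 = n19888 := ndS (p := 6734) (l := 3) rfl N6734 D19888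
theorem N8193 : nd 8193 = n19889 := ndS (p := 6734) (l := 6) rfl N6734 D19889
theorem N8194 : nd 8194 = n19890 := ndS (p := 6734) (l := 8) rfl N6734 D19890
theorem N8195 : nd 8195 = n19891 := ndS (p := 6735) (l := 7) rfl N6735 D19891
theorem N8196 : nd 8196 = n19892 := ndS (p := 6735) (l := 8) rfl N6735 D19892
theorem N8197 : nd 8197 = n19893 := ndS (p := 6736) (l := 3) rfl N6736 D19893
theorem N8198 : nd 8198 = n19894 := ndS (p := 6736) (l := 9) rfl N6736 D19894
theorem N8199 : nd 8199 = n19896 := ndS (p := 6737) (l := 9) rfl N6737 D19896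
theorem N8200 : nd 8200 = n19897 := ndS (p := 6739) (l := 5) rfl N6739 D19897
theorem N8201 : nd 8201 = n19898 := ndS (p := 6739) (l := 7) rfl N6739 D19898
theorem N8202 : nd 8202 = n19899 := ndS (p := 6739) (l := 8) rfl N6739 D19899
theorem N8203 : nd 8203 = n19900 := ndS (p := 6740) (l := 3) rfl N6740 D19900
theorem N8204 : nd 8204 = n19901 := ndS (p := 6740) (l := 9) rfl N6740 D19901
theorem N8205 : nd 8205 = n19902 := ndS (p := 6741) (l := 8) rfl N6741 D19902
theorem N8206 : nd 8206 = n19903 := ndS (p := 6742) (l := 9) rfl N6742 D19903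
theorem N8207 : nd 8207 = n19904 := ndS (p := 6744) (l := 7) rfl N6744 D19904
theorem N8208 : nd 8208 = n19905 := ndS (p := 6744) (l := 8) rfl N6744 D19905
theorem N8209 : nd 8209 = n19906 := ndS (p := 6745) (l := 8) rfl N6745 D19906
theorem N8210 : nd 8210 = n19907 := ndS (p := 6746) (l := 3) rfl N6746 D19907
theorem N8211 : nd 8211 = n19908 := ndS (p := 6746) (l := 9) rfl N6746 D19908
theorem N8212 : nd 8212 = n19909 := ndS (p := 6747) (l := 2) rfl N6747 D19909
theorem N8213 : nd 8213 = n19910 := ndS (p := 6747) (l := 9) rfl N6747 D19910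
theorem N8214 : nd 8214 = n19911 := ndS (p := 6749) (l := 9) rfl N6749 D19911
theorem N8215 : nd 8215 = n19912 := ndS (p := 6751) (l := 4) rfl N6751 D19912
theorem N8216 : nd 8216 = n19913 := ndS (p := 6751) (l := 6) rfl N6751 D19913
theorem N8217 : nd 8217 = n19914 := ndS (p := 6751) (l := 8) rfl N6751 D19914
theorem N8218 : nd 8218 = n19915 := ndS (p := 6752) (l := 3) rfl N6752 D19915
theorem N8219 : nd 8219 = n19916 := ndS (p := 6752) (l := 9) rfl N6752 D19916
theorem N8220 : nd 8220 = n19917 := ndS (p := 6753) (l := 3) rfl N6753 D19917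
theorem N8221 : nd 8221 = n19918 := ndS (p := 6753) (l := 6) rfl N6753 D19918
theorem N8222 : nd 8222 = n19919 := ndS (p := 6753) (l := 8) rfl N6753 D19919
theorem N8223 : nd 8223 = n19920 := ndS (p := 6754) (l := 7) rfl N6754 D19920
theorem N8224 : nd 8224 = n19921 := ndS (p := 6754) (l := 8) rfl N6754 D19921
theorem N8225 : nd 8225 = n19922 := ndS (p := 6755) (l := 3) rfl N6755 D19922
theorem N8226 : nd 8226 = n19923 := ndS (p := 6755) (l := 9) rfl N6755 D19923
theorem N8227 : nd 8227 = n19924 := ndS (p := 6756) (l := 4) rfl N6756 D19924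
theorem N8228 : nd 8228 = n19925 := ndS (p := 6756) (l := 9) rfl N6756 D19925
theorem N8229 : nd 8229 = n19926 := ndS (p := 6758) (l := 5) rfl N6758 D19926
theorem N8230 : nd 8230 = n19927 := ndS (p := 6758) (l := 7) rfl N6758 D19927
theorem N8231 : nd 8231 = n19928 := ndS (p := 6758) (l := 8) rfl N6758 D19928
theorem N8232 : nd 8232 = n19929 := ndS (p := 6759) (l := 3) rfl N6759 D19929
theorem N8233 : nd 8233 = n19930 := ndS (p := 6759) (l := 9) rfl N6759 D19930
theorem N8234 : nd 8234 = n19931 := ndS (p := 6760) (l := 8) rfl N6760 D19931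
theorem N8235 : nd 8235 = n19932 := ndS (p := 6761) (l := 9) rfl N6761 D19932
theorem N8236 : nd 8236 = n19933 := ndS (p := 6763) (l := 6) rfl N6763 D19933
theorem N8237 : nd 8237 = n19934 := ndS (p := 6763) (l := 8) rfl N6763 D19934
theorem N8238 : nd 8238 = n19935 := ndS (p := 6764) (l := 5) rfl N6764 D19935
theorem N8239 : nd 8239 = n19936 := ndS (p := 6764) (l := 7) rfl N6764 D19936
theorem N8240 : nd 8240 = n19937 := ndS (p := 6764) (l := 8) rfl N6764 D19937
theorem N8241 : nd 8241 = n19938 := ndS (p := 6765) (l := 3) rfl N6765 D19938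
theorem N8242 : nd 8242 = n19939 := ndS (p := 6765) (l := 9) rfl N6765 D19939
theorem N8243 : nd 8243 = n19940 := ndS (p := 6766) (l := 8) rfl N6766 D19940
theorem N8244 : nd 8244 = n19941 := ndS (p := 6767) (l := 3) rfl N6767 D19941
theorem N8245 : nd 8245 = n19942 := ndS (p := 6767) (l := 9) rfl N6767 D19942
theorem N8246 : nd 8246 = n19943 := ndS (p := 6768) (l := 4) rfl N6768 D19943
theorem N8247 : nd 8247 = n19944 := ndS (p := 6768) (l := 9) rfl N6768 D19944
theorem N8248 : nd 8248 = n19945 := ndS (p := 6770) (l := 5) rfl N6770 D19945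
theorem N8249 : nd 8249 = n19946 := ndS (p := 6770) (l := 9) rfl N6770 D19946
theorem N8250 : nd 8250 = n19947 := ndS (p := 6771) (l := 8) rfl N6771 D19947
theorem N8251 : nd 8251 = n19948 := ndS (p := 6772) (l := 7) rfl N6772 D19948
theorem N8252 : nd 8252 = n19949 := ndS (p := 6772) (l := 8) rfl N6772 D19949
theorem N8253 : nd 8253 = n19950 := ndS (p := 6773) (l := 8) rfl N6773 D19950
theorem N8254 : nd 8254 = n19951 := ndS (p := 6774) (l := 3) rfl N6774 D19951
theorem N8255 : nd 8255 = n19952 := ndS (p := 6774) (l := 9) rfl N6774 D19952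
theorem N8256 : nd 8256 = n19953 := ndS (p := 6775) (l := 2) rfl N6775 D19953
theorem N8257 : nd 8257 = n19954 := ndS (p := 6775) (l := 9) rfl N6775 D19954
theorem N8258 : nd 8258 = n19955 := ndS (p := 6777) (l := 9) rfl N6777 D19955
theorem N8259 : nd 8259 = n19956 := ndS (p := 6779) (l := 6) rfl N6779 D19956
theorem N8260 : nd 8260 = n19957 := ndS (p := 6779) (l := 8) rfl N6779 D19957
theorem N8261 : nd 8261 = n19958 := ndS (p := 6780) (l := 3) rfl N6780 D19958
theorem N8262 : nd 8262 = n19959 := ndS (p := 6780) (l := 9) rfl N6780 D19959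
theorem N8263 : nd 8263 = n19960 := ndS (p := 6781) (l := 3) rfl N6781 D19960
theorem N8264 : nd 8264 = n19961 := ndS (p := 6781) (l := 9) rfl N6781 D19961
theorem N8265 : nd 8265 = n19962 := ndS (p := 6782) (l := 2) rfl N6782 D19962
theorem N8266 : nd 8266 = n19963 := ndS (p := 6782) (l := 9) rfl N6782 D19963
theorem N8267 : nd 8267 = n19964 := ndS (p := 6784) (l := 1) rfl N6784 D19964
theorem N8268 : nd 8268 = n19965 := ndS (p := 6784) (l := 9) rfl N6784 D19965
theorem N8269 : nd 8269 = n19966 := ndS (p := 6785) (l := 8) rfl N6785 D19966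
theorem N8270 : nd 8270 = n19967 := ndS (p := 6787) (l := 2) rfl N6787 D19967
theorem N8271 : nd 8271 = n19968 := ndS (p := 6787) (l := 5) rfl N6787 D19968
theorem N8272 : nd 8272 = n19969 := ndS (p := 6787) (l := 8) rfl N6787 D19969
theorem N8273 : nd 8273 = n19970 := ndS (p := 6788) (l := 6) rfl N6788 D19970
theorem N8274 : nd 8274 = n19971 := ndS (p := 6789) (l := 5) rfl N6789 D19971
theorem N8275 : nd 8275 = n19972 := ndS (p := 6789) (l := 8) rfl N6789 D19972
theorem N8276 : nd 8276 = n19973 := ndS (p := 6790) (l := 4) rfl N6790 D19973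
theorem N8277 : nd 8277 = n19974 := ndS (p := 6790) (l := 6) rfl N6790 D19974
theorem N8278 : nd 8278 = n19975 := ndS (p := 6790) (l := 8) rfl N6790 D19975
theorem N8279 : nd 8279 = n19976 := ndS (p := 6791) (l := 9) rfl N6791 D19976
theorem N8280 : nd 8280 = n19977 := ndS (p := 6792) (l := 7) rfl N6792 D19977
theorem N8281 : nd 8281 = n19978 := ndS (p := 6793) (l := 6) rfl N6793 D19978
theorem N8282 : nd 8282 = n19979 := ndS (p := 6793) (l := 8) rfl N6793 D19979
theorem N8283 : nd 8283 = n19980 := ndS (p := 6794) (l := 7) rfl N6794 D19980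
theorem N8284 : nd 8284 = n19981 := ndS (p := 6794) (l := 8) rfl N6794 D19981
theorem N8285 : nd 8285 = n19982 := ndS (p := 6795) (l := 9) rfl N6795 D19982
theorem N8286 : nd 8286 = n19983 := ndS (p := 6798) (l := 1) rfl N6798 D19983
theorem N8287 : nd 8287 = n19984 := ndS (p := 6798) (l := 5) rfl N6798 D19984
theorem N8288 : nd 8288 = n19985 := ndS (p := 6798) (l := 8) rfl N6798 D19985
theorem N8289 : nd 8289 = n19986 := ndS (p := 6799) (l := 4) rfl N6799 D19986
theorem N8290 : nd 8290 = n19987 := ndS (p := 6799) (l := 6) rfl N6799 D19987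
theorem N8291 : nd 8291 = n19988 := ndS (p := 6799) (l := 8) rfl N6799 D19988
theorem N8292 : nd 8292 = n19989 := ndS (p := 6800) (l := 9) rfl N6800 D19989
theorem N8293 : nd 8293 = n19990 := ndS (p := 6801) (l := 7) rfl N6801 D19990
theorem N8294 : nd 8294 = n19991 := ndS (p := 6802) (l := 4) rfl N6802 D19991
theorem N8295 : nd 8295 = n19992 := ndS (p := 6802) (l := 6) rfl N6802 D19992
theorem N8296 : nd 8296 = n19993 := ndS (p := 6802) (l := 8) rfl N6802 D19993
theorem N8297 : nd 8297 = n19994 := ndS (p := 6803) (l := 3) rfl N6803 D19994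
theorem N8298 : nd 8298 = n19995 := ndS (p := 6803) (l := 9) rfl N6803 D19995
theorem N8299 : nd 8299 = n19996 := ndS (p := 6804) (l := 6) rfl N6804 D19996
theorem N8300 : nd 8300 = n19997 := ndS (p := 6804) (l := 8) rfl N6804 D19997
theorem N8301 : nd 8301 = n19998 := ndS (p := 6805) (l := 7) rfl N6805 D19998
theorem N8302 : nd 8302 = n19999 := ndS (p := 6805) (l := 8) rfl N6805 D19999
theorem N8303 : nd 8303 = n20000 := ndS (p := 6806) (l := 9) rfl N6806 D20000
theorem N8304 : nd 8304 = n20001 := ndS (p := 6809) (l := 5) rfl N6809 D20001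
theorem N8305 : nd 8305 = n20002 := ndS (p := 6809) (l := 7) rfl N6809 D20002
theorem N8306 : nd 8306 = n20003 := ndS (p := 6809) (l := 8) rfl N6809 D20003
theorem N8307 : nd 8307 = n20004 := ndS (p := 6810) (l := 3) rfl N6810 D20004
theorem N8308 : nd 8308 = n20005 := ndS (p := 6810) (l := 9) rfl N6810 D20005
theorem N8309 : nd 8309 = n20006 := ndS (p := 6811) (l := 8) rfl N6811 D20006
theorem N8310 : nd 8310 = n20007 := ndS (p := 6812) (l := 9) rfl N6812 D20007
theorem N8311 : nd 8311 = n20008 := ndS (p := 6814) (l := 5) rfl N6814 D20008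
theorem N8312 : nd 8312 = n20009 := ndS (p := 6814) (l := 8) rfl N6814 D20009
theorem N8313 : nd 8313 = n20010 := ndS (p := 6815) (l := 4) rfl N6815 D20010
theorem N8314 : nd 8314 = n20011 := ndS (p := 6815) (l := 6) rfl N6815 D20011
theorem N8315 : nd 8315 = n20012 := ndS (p := 6815) (l := 8) rfl N6815 D20012
theorem N8316 : nd 8316 = n20013 := ndS (p := 6816) (l := 3) rfl N6816 D20013
theorem N8317 : nd 8317 = n20014 := ndS (p := 6816) (l := 9) rfl N6816 D20014
theorem N8318 : nd 8318 = n20015 := ndS (p := 6817) (l := 6) rfl N6817 D20015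
theorem N8319 : nd 8319 = n20016 := ndS (p := 6817) (l := 8) rfl N6817 D20016
theorem N8320 : nd 8320 = n20017 := ndS (p := 6818) (l := 7) rfl N6818 D20017
theorem N8321 : nd 8321 = n20018 := ndS (p := 6818) (l := 8) rfl N6818 D20018
theorem N8322 : nd 8322 = n20019 := ndS (p := 6819) (l := 9) rfl N6819 D20019
theorem N8323 : nd 8323 = n20020 := ndS (p := 6822) (l := 3) rfl N6822 D20020
theorem N8324 : nd 8324 = n20021 := ndS (p := 6822) (l := 6) rfl N6822 D20021
theorem N8325 : nd 8325 = n20022 := ndS (p := 6822) (l := 8) rfl N6822 D20022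
theorem N8326 : nd 8326 = n20023 := ndS (p := 6823) (l := 7) rfl N6823 D20023
theorem N8327 : nd 8327 = n20024 := ndS (p := 6823) (l := 8) rfl N6823 D20024
theorem N8328 : nd 8328 = n20025 := ndS (p := 6824) (l := 3) rfl N6824 D20025
theorem N8329 : nd 8329 = n20026 := ndS (p := 6824) (l := 9) rfl N6824 D20026
theorem N8330 : nd 8330 = n20027 := ndS (p := 6825) (l := 4) rfl N6825 D20027
theorem N8331 : nd 8331 = n20028 := ndS (p := 6825) (l := 9) rfl N6825 D20028
theorem N8332 : nd 8332 = n20029 := ndS (p := 6827) (l := 5) rfl N6827 D20029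
theorem N8333 : nd 8333 = n20030 := ndS (p := 6827) (l := 7) rfl N6827 D20030
theorem N8334 : nd 8334 = n20031 := ndS (p := 6827) (l := 8) rfl N6827 D20031
theorem N8335 : nd 8335 = n20032 := ndS (p := 6828) (l := 3) rfl N6828 D20032
theorem N8336 : nd 8336 = n20033 := ndS (p := 6828) (l := 9) rfl N6828 D20033
theorem N8337 : nd 8337 = n20034 := ndS (p := 6829) (l := 8) rfl N6829 D20034
theorem N8338 : nd 8338 = n20035 := ndS (p := 6830) (l := 9) rfl N6830 D20035
theorem N8339 : nd 8339 = n20036 := ndS (p := 6832) (l := 7) rfl N6832 D20036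
theorem N8340 : nd 8340 = n20037 := ndS (p := 6832) (l := 8) rfl N6832 D20037
theorem N8341 : nd 8341 = n20038 := ndS (p := 6833) (l := 8) rfl N6833 D20038
theorem N8342 : nd 8342 = n20039 := ndS (p := 6834) (l := 3) rfl N6834 D20039
theorem N8343 : nd 8343 = n20040 := ndS (p := 6834) (l := 9) rfl N6834 D20040
theorem N8344 : nd 8344 = n20041 := ndS (p := 6835) (l := 2) rfl N6835 D20041
theorem N8345 : nd 8345 = n20042 := ndS (p := 6835) (l := 9) rfl N6835 D20042
theorem N8346 : nd 8346 = n20043 := ndS (p := 6837) (l := 9) rfl N6837 D20043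
theorem N8347 : nd 8347 = n20044 := ndS (p := 6839) (l := 1) rfl N6839 D20044
theorem N8348 : nd 8348 = n20045 := ndS (p := 6839) (l := 5) rfl N6839 D20045
theorem N8349 : nd 8349 = n20046 := ndS (p := 6839) (l := 8) rfl N6839 D20046
theorem N8350 : nd 8350 = n20047 := ndS (p := 6840) (l := 4) rfl N6840 D20047
theorem N8351 : nd 8351 = n20048 := ndS (p := 6840) (l := 6) rfl N6840 D20048
theorem N8352 : nd 8352 = n20049 := ndS (p := 6840) (l := 8) rfl N6840 D20049
theorem N8353 : nd 8353 = n20050 := ndS (p := 6841) (l := 9) rfl N6841 D20050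
theorem N8354 : nd 8354 = n20051 := ndS (p := 6842) (l := 7) rfl N6842 D20051
theorem N8355 : nd 8355 = n20052 := ndS (p := 6843) (l := 4) rfl N6843 D20052
theorem N8356 : nd 8356 = n20053 := ndS (p := 6843) (l := 6) rfl N6843 D20053
theorem N8357 : nd 8357 = n20054 := ndS (p := 6843) (l := 8) rfl N6843 D20054
theorem N8358 : nd 8358 = n20055 := ndS (p := 6844) (l := 3) rfl N6844 D20055
theorem N8359 : nd 8359 = n20056 := ndS (p := 6844) (l := 9) rfl N6844 D20056
theorem N8360 : nd 8360 = n20057 := ndS (p := 6845) (l := 6) rfl N6845 D20057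
theorem N8361 : nd 8361 = n20058 := ndS (p := 6845) (l := 8) rfl N6845 D20058
theorem N8362 : nd 8362 = n20059 := ndS (p := 6846) (l := 7) rfl N6846 D20059
theorem N8363 : nd 8363 = n20060 := ndS (p := 6846) (l := 8) rfl N6846 D20060
theorem N8364 : nd 8364 = n20061 := ndS (p := 6847) (l := 9) rfl N6847 D20061
theorem N8365 : nd 8365 = n20062 := ndS (p := 6850) (l := 5) rfl N6850 D20062
theorem N8366 : nd 8366 = n20063 := ndS (p := 6850) (l := 7) rfl N6850 D20063
theorem N8367 : nd 8367 = n20064 := ndS (p := 6850) (l := 8) rfl N6850 D20064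
theorem N8368 : nd 8368 = n20065 := ndS (p := 6851) (l := 3) rfl N6851 D20065
theorem N8369 : nd 8369 = n20066 := ndS (p := 6851) (l := 9) rfl N6851 D20066
theorem N8370 : nd 8370 = n20067 := ndS (p := 6852) (l := 8) rfl N6852 D20067
theorem N8371 : nd 8371 = n20068 := ndS (p := 6853) (l := 9) rfl N6853 D20068
theorem N8372 : nd 8372 = n20069 := ndS (p := 6855) (l := 5) rfl N6855 D20069
theorem N8373 : nd 8373 = n20070 := ndS (p := 6855) (l := 8) rfl N6855 D20070
theorem N8374 : nd 8374 = n20071 := ndS (p := 6856) (l := 4) rfl N6856 D20071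
theorem N8375 : nd 8375 = n20072 := ndS (p := 6856) (l := 6) rfl N6856 D20072
theorem N8376 : nd 8376 = n20073 := ndS (p := 6856) (l := 8) rfl N6856 D20073
theorem N8377 : nd 8377 = n20074 := ndS (p := 6857) (l := 3) rfl N6857 D20074
theorem N8378 : nd 8378 = n20075 := ndS (p := 6857) (l := 9) rfl N6857 D20075
theorem N8379 : nd 8379 = n20076 := ndS (p := 6858) (l := 6) rfl N6858 D20076
theorem N8380 : nd 8380 = n20077 := ndS (p := 6858) (l := 8) rfl N6858 D20077
theorem N8381 : nd 8381 = n20078 := ndS (p := 6859) (l := 7) rfl N6859 D20078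
theorem N8382 : nd 8382 = n20079 := ndS (p := 6859) (l := 8) rfl N6859 D20079
theorem N8383 : nd 8383 = n20080 := ndS (p := 6860) (l := 9) rfl N6860 D20080
theorem N8384 : nd 8384 = n20081 := ndS (p := 6863) (l := 3) rfl N6863 D20081
theorem N8385 : nd 8385 = n20082 := ndS (p := 6863) (l := 6) rfl N6863 D20082
theorem N8386 : nd 8386 = n20083 := ndS (p := 6863) (l := 8) rfl N6863 D20083
theorem N8387 : nd 8387 = n20084 := ndS (p := 6864) (l := 7) rfl N6864 D20084
theorem N8388 : nd 8388 = n20085 := ndS (p := 6864) (l := 8) rfl N6864 D20085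
theorem N8389 : nd 8389 = n20086 := ndS (p := 6865) (l := 3) rfl N6865 D20086
theorem N8390 : nd 8390 = n20087 := ndS (p := 6865) (l := 9) rfl N6865 D20087
theorem N8391 : nd 8391 = n20088 := ndS (p := 6866) (l := 4) rfl N6866 D20088
theorem N8392 : nd 8392 = n20089 := ndS (p := 6866) (l := 9) rfl N6866 D20089
theorem N8393 : nd 8393 = n20090 := ndS (p := 6868) (l := 5) rfl N6868 D20090
theorem N8394 : nd 8394 = n20091 := ndS (p := 6868) (l := 7) rfl N6868 D20091
theorem N8395 : nd 8395 = n20092 := ndS (p := 6868) (l := 8) rfl N6868 D20092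
theorem N8396 : nd 8396 = n20093 := ndS (p := 6869) (l := 3) rfl N6869 D20093
theorem N8397 : nd 8397 = n20094 := ndS (p := 6869) (l := 9) rfl N6869 D20094
theorem N8398 : nd 8398 = n20095 := ndS (p := 6870) (l := 8) rfl N6870 D20095
theorem N8399 : nd 8399 = n20096 := ndS (p := 6871) (l := 9) rfl N6871 D20096
theorem N8400 : nd 8400 = n20097 := ndS (p := 6873) (l := 7) rfl N6873 D20097
theorem N8401 : nd 8401 = n20098 := ndS (p := 6873) (l := 8) rfl N6873 D20098
theorem N8402 : nd 8402 = n20099 := ndS (p := 6874) (l := 8) rfl N6874 D20099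
theorem N8403 : nd 8403 = n20100 := ndS (p := 6875) (l := 3) rfl N6875 D20100
theorem N8404 : nd 8404 = n20101 := ndS (p := 6875) (l := 9) rfl N6875 D20101
theorem N8405 : nd 8405 = n20102 := ndS (p := 6876) (l := 2) rfl N6876 D20102
theorem N8406 : nd 8406 = n20103 := ndS (p := 6876) (l := 9) rfl N6876 D20103
theorem N8407 : nd 8407 = n20104 := ndS (p := 6878) (l := 9) rfl N6878 D20104
theorem N8408 : nd 8408 = n20105 := ndS (p := 6880) (l := 4) rfl N6880 D20105
theorem N8409 : nd 8409 = n20106 := ndS (p := 6880) (l := 6) rfl N6880 D20106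
theorem N8410 : nd 8410 = n20107 := ndS (p := 6880) (l := 8) rfl N6880 D20107
theorem N8411 : nd 8411 = n20109 := ndS (p := 6881) (l := 9) rfl N6881 D20109
theorem N8412 : nd 8412 = n20110 := ndS (p := 6882) (l := 3) rfl N6882 D20110
theorem N8413 : nd 8413 = n20111 := ndS (p := 6882) (l := 6) rfl N6882 D20111
theorem N8414 : nd 8414 = n20112 := ndS (p := 6882) (l := 8) rfl N6882 D20112
theorem N8415 : nd 8415 = n20113 := ndS (p := 6883) (l := 7) rfl N6883 D20113
theorem N8416 : nd 8416 = n20114 := ndS (p := 6883) (l := 8) rfl N6883 D20114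
theorem N8417 : nd 8417 = n20115 := ndS (p := 6884) (l := 3) rfl N6884 D20115
theorem N8418 : nd 8418 = n20116 := ndS (p := 6884) (l := 9) rfl N6884 D20116
theorem N8419 : nd 8419 = n20118 := ndS (p := 6885) (l := 9) rfl N6885 D20118
theorem N8420 : nd 8420 = n20119 := ndS (p := 6887) (l := 5) rfl N6887 D20119
theorem N8421 : nd 8421 = n20120 := ndS (p := 6887) (l := 7) rfl N6887 D20120
theorem N8422 : nd 8422 = n20121 := ndS (p := 6887) (l := 8) rfl N6887 D20121
theorem N8423 : nd 8423 = n20122 := ndS (p := 6888) (l := 3) rfl N6888 D20122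
theorem N8424 : nd 8424 = n20123 := ndS (p := 6888) (l := 9) rfl N6888 D20123
theorem N8425 : nd 8425 = n20124 := ndS (p := 6889) (l := 8) rfl N6889 D20124
theorem N8426 : nd 8426 = n20125 := ndS (p := 6890) (l := 9) rfl N6890 D20125
theorem N8427 : nd 8427 = n20126 := ndS (p := 6892) (l := 6) rfl N6892 D20126
theorem N8428 : nd 8428 = n20127 := ndS (p := 6892) (l := 8) rfl N6892 D20127
theorem N8429 : nd 8429 = n20128 := ndS (p := 6893) (l := 5) rfl N6893 D20128
theorem N8430 : nd 8430 = n20129 := ndS (p := 6893) (l := 7) rfl N6893 D20129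
theorem N8431 : nd 8431 = n20130 := ndS (p := 6893) (l := 8) rfl N6893 D20130
theorem N8432 : nd 8432 = n20131 := ndS (p := 6894) (l := 3) rfl N6894 D20131
theorem N8433 : nd 8433 = n20132 := ndS (p := 6894) (l := 9) rfl N6894 D20132
theorem N8434 : nd 8434 = n20133 := ndS (p := 6895) (l := 8) rfl N6895 D20133
theorem N8435 : nd 8435 = n20134 := ndS (p := 6896) (l := 3) rfl N6896 D20134
theorem N8436 : nd 8436 = n20135 := ndS (p := 6896) (l := 9) rfl N6896 D20135
theorem N8437 : nd 8437 = n20136 := ndS (p := 6897) (l := 4) rfl N6897 D20136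
theorem N8438 : nd 8438 = n20137 := ndS (p := 6897) (l := 9) rfl N6897 D20137
theorem N8439 : nd 8439 = n20138 := ndS (p := 6899) (l := 5) rfl N6899 D20138
theorem N8440 : nd 8440 = n20139 := ndS (p := 6899) (l := 9) rfl N6899 D20139
theorem N8441 : nd 8441 = n20140 := ndS (p := 6900) (l := 8) rfl N6900 D20140
theorem N8442 : nd 8442 = n20141 := ndS (p := 6901) (l := 7) rfl N6901 D20141
theorem N8443 : nd 8443 = n20142 := ndS (p := 6901) (l := 8) rfl N6901 D20142
theorem N8444 : nd 8444 = n20143 := ndS (p := 6902) (l := 8) rfl N6902 D20143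
theorem N8445 : nd 8445 = n20144 := ndS (p := 6903) (l := 3) rfl N6903 D20144
theorem N8446 : nd 8446 = n20145 := ndS (p := 6903) (l := 9) rfl N6903 D20145
theorem N8447 : nd 8447 = n20146 := ndS (p := 6904) (l := 2) rfl N6904 D20146
theorem N8448 : nd 8448 = n20147 := ndS (p := 6904) (l := 9) rfl N6904 D20147
theorem N8449 : nd 8449 = n20148 := ndS (p := 6906) (l := 9) rfl N6906 D20148
theorem N8450 : nd 8450 = n20149 := ndS (p := 6908) (l := 6) rfl N6908 D20149
theorem N8451 : nd 8451 = n20150 := ndS (p := 6908) (l := 8) rfl N6908 D20150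
theorem N8452 : nd 8452 = n20151 := ndS (p := 6909) (l := 3) rfl N6909 D20151
theorem N8453 : nd 8453 = n20152 := ndS (p := 6909) (l := 9) rfl N6909 D20152
theorem N8454 : nd 8454 = n20153 := ndS (p := 6910) (l := 3) rfl N6910 D20153
theorem N8455 : nd 8455 = n20154 := ndS (p := 6910) (l := 9) rfl N6910 D20154
theorem N8456 : nd 8456 = n20155 := ndS (p := 6911) (l := 2) rfl N6911 D20155
theorem N8457 : nd 8457 = n20156 := ndS (p := 6911) (l := 9) rfl N6911 D20156
theorem N8458 : nd 8458 = n20157 := ndS (p := 6913) (l := 1) rfl N6913 D20157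
theorem N8459 : nd 8459 = n20158 := ndS (p := 6913) (l := 9) rfl N6913 D20158
theorem N8460 : nd 8460 = n20159 := ndS (p := 6914) (l := 8) rfl N6914 D20159
theorem N8461 : nd 8461 = n20160 := ndS (p := 6916) (l := 5) rfl N6916 D20160
theorem N8462 : nd 8462 = n20161 := ndS (p := 6916) (l := 8) rfl N6916 D20161
theorem N8463 : nd 8463 = n20163 := ndS (p := 6917) (l := 6) rfl N6917 D20163
theorem N8464 : nd 8464 = n20164 := ndS (p := 6917) (l := 8) rfl N6917 D20164
theorem N8465 : nd 8465 = n20165 := ndS (p := 6918) (l := 3) rfl N6918 D20165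
theorem N8466 : nd 8466 = n20166 := ndS (p := 6918) (l := 9) rfl N6918 D20166
theorem N8467 : nd 8467 = n20169 := ndS (p := 6919) (l := 7) rfl N6919 D20169
theorem N8468 : nd 8468 = n20170 := ndS (p := 6919) (l := 8) rfl N6919 D20170
theorem N8469 : nd 8469 = n20171 := ndS (p := 6920) (l := 9) rfl N6920 D20171
theorem N8470 : nd 8470 = n20173 := ndS (p := 6923) (l := 6) rfl N6923 D20173
theorem N8471 : nd 8471 = n20174 := ndS (p := 6923) (l := 8) rfl N6923 D20174
theorem N8472 : nd 8472 = n20175 := ndS (p := 6924) (l := 7) rfl N6924 D20175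
theorem N8473 : nd 8473 = n20176 := ndS (p := 6924) (l := 8) rfl N6924 D20176
theorem N8474 : nd 8474 = n20177 := ndS (p := 6925) (l := 3) rfl N6925 D20177
theorem N8475 : nd 8475 = n20178 := ndS (p := 6925) (l := 9) rfl N6925 D20178
theorem N8476 : nd 8476 = n20179 := ndS (p := 6926) (l := 4) rfl N6926 D20179
theorem N8477 : nd 8477 = n20180 := ndS (p := 6926) (l := 9) rfl N6926 D20180
theorem N8478 : nd 8478 = n20181 := ndS (p := 6928) (l := 5) rfl N6928 D20181
theorem N8479 : nd 8479 = n20182 := ndS (p := 6928) (l := 7) rfl N6928 D20182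
theorem N8480 : nd 8480 = n20183 := ndS (p := 6928) (l := 8) rfl N6928 D20183
theorem N8481 : nd 8481 = n20185 := ndS (p := 6929) (l := 9) rfl N6929 D20185
theorem N8482 : nd 8482 = n20186 := ndS (p := 6930) (l := 8) rfl N6930 D20186
theorem N8483 : nd 8483 = n20187 := ndS (p := 6931) (l := 9) rfl N6931 D20187
theorem N8484 : nd 8484 = n20188 := ndS (p := 6933) (l := 7) rfl N6933 D20188
theorem N8485 : nd 8485 = n20189 := ndS (p := 6933) (l := 8) rfl N6933 D20189
theorem N8486 : nd 8486 = n20190 := ndS (p := 6934) (l := 8) rfl N6934 D20190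
theorem N8487 : nd 8487 = n20191 := ndS (p := 6935) (l := 3) rfl N6935 D20191
theorem N8488 : nd 8488 = n20192 := ndS (p := 6935) (l := 9) rfl N6935 D20192
theorem N8489 : nd 8489 = n20193 := ndS (p := 6936) (l := 2) rfl N6936 D20193
theorem N8490 : nd 8490 = n20194 := ndS (p := 6936) (l := 9) rfl N6936 D20194
theorem N8491 : nd 8491 = n20195 := ndS (p := 6938) (l := 9) rfl N6938 D20195
theorem N8492 : nd 8492 = n20196 := ndS (p := 6940) (l := 4) rfl N6940 D20196
theorem N8493 : nd 8493 = n20197 := ndS (p := 6940) (l := 6) rfl N6940 D20197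
theorem N8494 : nd 8494 = n20198 := ndS (p := 6940) (l := 8) rfl N6940 D20198
theorem N8495 : nd 8495 = n20200 := ndS (p := 6941) (l := 9) rfl N6941 D20200
theorem N8496 : nd 8496 = n20202 := ndS (p := 6942) (l := 6) rfl N6942 D20202
theorem N8497 : nd 8497 = n20203 := ndS (p := 6942) (l := 8) rfl N6942 D20203
theorem N8498 : nd 8498 = n20204 := ndS (p := 6943) (l := 7) rfl N6943 D20204
theorem N8499 : nd 8499 = n20205 := ndS (p := 6943) (l := 8) rfl N6943 D20205
theorem N8500 : nd 8500 = n20206 := ndS (p := 6944) (l := 3) rfl N6944 D20206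
theorem N8501 : nd 8501 = n20207 := ndS (p := 6944) (l := 9) rfl N6944 D20207
theorem N8502 : nd 8502 = n20209 := ndS (p := 6945) (l := 9) rfl N6945 D20209
theorem N8503 : nd 8503 = n20210 := ndS (p := 6947) (l := 5) rfl N6947 D20210
theorem N8504 : nd 8504 = n20211 := ndS (p := 6947) (l := 7) rfl N6947 D20211
theorem N8505 : nd 8505 = n20212 := ndS (p := 6947) (l := 8) rfl N6947 D20212
theorem N8506 : nd 8506 = n20214 := ndS (p := 6948) (l := 9) rfl N6948 D20214
theorem N8507 : nd 8507 = n20215 := ndS (p := 6949) (l := 8) rfl N6949 D20215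
theorem N8508 : nd 8508 = n20216 := ndS (p := 6950) (l := 9) rfl N6950 D20216
theorem N8509 : nd 8509 = n20217 := ndS (p := 6952) (l := 6) rfl N6952 D20217
theorem N8510 : nd 8510 = n20218 := ndS (p := 6952) (l := 8) rfl N6952 D20218
theorem N8511 : nd 8511 = n20219 := ndS (p := 6953) (l := 5) rfl N6953 D20219
theorem N8512 : nd 8512 = n20220 := ndS (p := 6953) (l := 7) rfl N6953 D20220
theorem N8513 : nd 8513 = n20221 := ndS (p := 6953) (l := 8) rfl N6953 D20221
theorem N8514 : nd 8514 = n20222 := ndS (p := 6954) (l := 3) rfl N6954 D20222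
theorem N8515 : nd 8515 = n20223 := ndS (p := 6954) (l := 9) rfl N6954 D20223
theorem N8516 : nd 8516 = n20224 := ndS (p := 6955) (l := 8) rfl N6955 D20224
theorem N8517 : nd 8517 = n20225 := ndS (p := 6956) (l := 3) rfl N6956 D20225
theorem N8518 : nd 8518 = n20226 := ndS (p := 6956) (l := 9) rfl N6956 D20226
theorem N8519 : nd 8519 = n20227 := ndS (p := 6957) (l := 4) rfl N6957 D20227
theorem N8520 : nd 8520 = n20228 := ndS (p := 6957) (l := 9) rfl N6957 D20228
theorem N8521 : nd 8521 = n20229 := ndS (p := 6959) (l := 5) rfl N6959 D20229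
theorem N8522 : nd 8522 = n20230 := ndS (p := 6959) (l := 9) rfl N6959 D20230
theorem N8523 : nd 8523 = n20231 := ndS (p := 6960) (l := 8) rfl N6960 D20231
theorem N8524 : nd 8524 = n20232 := ndS (p := 6961) (l := 7) rfl N6961 D20232
theorem N8525 : nd 8525 = n20233 := ndS (p := 6961) (l := 8) rfl N6961 D20233
theorem N8526 : nd 8526 = n20234 := ndS (p := 6962) (l := 8) rfl N6962 D20234
theorem N8527 : nd 8527 = n20235 := ndS (p := 6963) (l := 3) rfl N6963 D20235
theorem N8528 : nd 8528 = n20236 := ndS (p := 6963) (l := 9) rfl N6963 D20236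
theorem N8529 : nd 8529 = n20237 := ndS (p := 6964) (l := 2) rfl N6964 D20237
theorem N8530 : nd 8530 = n20238 := ndS (p := 6964) (l := 9) rfl N6964 D20238
theorem N8531 : nd 8531 = n20239 := ndS (p := 6966) (l := 9) rfl N6966 D20239
theorem N8532 : nd 8532 = n20240 := ndS (p := 6968) (l := 6) rfl N6968 D20240
theorem N8533 : nd 8533 = n20241 := ndS (p := 6968) (l := 8) rfl N6968 D20241
theorem N8534 : nd 8534 = n20242 := ndS (p := 6969) (l := 3) rfl N6969 D20242
theorem N8535 : nd 8535 = n20243 := ndS (p := 6969) (l := 9) rfl N6969 D20243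
theorem N8536 : nd 8536 = n20244 := ndS (p := 6970) (l := 3) rfl N6970 D20244
theorem N8537 : nd 8537 = n20245 := ndS (p := 6970) (l := 9) rfl N6970 D20245
theorem N8538 : nd 8538 = n20246 := ndS (p := 6971) (l := 2) rfl N6971 D20246
theorem N8539 : nd 8539 = n20247 := ndS (p := 6971) (l := 9) rfl N6971 D20247
theorem N8540 : nd 8540 = n20248 := ndS (p := 6973) (l := 1) rfl N6973 D20248
theorem N8541 : nd 8541 = n20249 := ndS (p := 6973) (l := 9) rfl N6973 D20249
theorem N8542 : nd 8542 = n20250 := ndS (p := 6974) (l := 8) rfl N6974 D20250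
theorem N8543 : nd 8543 = n20251 := ndS (p := 6976) (l := 3) rfl N6976 D20251
theorem N8544 : nd 8544 = n20252 := ndS (p := 6976) (l := 6) rfl N6976 D20252
theorem N8545 : nd 8545 = n20253 := ndS (p := 6976) (l := 8) rfl N6976 D20253
theorem N8546 : nd 8546 = n20254 := ndS (p := 6977) (l := 7) rfl N6977 D20254
theorem N8547 : nd 8547 = n20255 := ndS (p := 6977) (l := 8) rfl N6977 D20255
theorem N8548 : nd 8548 = n20257 := ndS (p := 6978) (l := 9) rfl N6978 D20257
theorem N8549 : nd 8549 = n20261 := ndS (p := 6980) (l := 6) rfl N6980 D20261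
theorem N8550 : nd 8550 = n20262 := ndS (p := 6980) (l := 8) rfl N6980 D20262
theorem N8551 : nd 8551 = n20263 := ndS (p := 6981) (l := 5) rfl N6981 D20263
theorem N8552 : nd 8552 = n20264 := ndS (p := 6981) (l := 7) rfl N6981 D20264
theorem N8553 : nd 8553 = n20265 := ndS (p := 6981) (l := 8) rfl N6981 D20265
theorem N8554 : nd 8554 = n20266 := ndS (p := 6982) (l := 3) rfl N6982 D20266
theorem N8555 : nd 8555 = n20267 := ndS (p := 6982) (l := 9) rfl N6982 D20267
theorem N8556 : nd 8556 = n20268 := ndS (p := 6983) (l := 8) rfl N6983 D20268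
theorem N8557 : nd 8557 = n20269 := ndS (p := 6984) (l := 3) rfl N6984 D20269
theorem N8558 : nd 8558 = n20270 := ndS (p := 6984) (l := 9) rfl N6984 D20270
theorem N8559 : nd 8559 = n20271 := ndS (p := 6985) (l := 4) rfl N6985 D20271
theorem N8560 : nd 8560 = n20272 := ndS (p := 6985) (l := 9) rfl N6985 D20272
theorem N8561 : nd 8561 = n20275 := ndS (p := 6987) (l := 8) rfl N6987 D20275
theorem N8562 : nd 8562 = n20276 := ndS (p := 6988) (l := 7) rfl N6988 D20276
theorem N8563 : nd 8563 = n20277 := ndS (p := 6988) (l := 8) rfl N6988 D20277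
theorem N8564 : nd 8564 = n20278 := ndS (p := 6989) (l := 8) rfl N6989 D20278
theorem N8565 : nd 8565 = n20279 := ndS (p := 6990) (l := 3) rfl N6990 D20279
theorem N8566 : nd 8566 = n20280 := ndS (p := 6990) (l := 9) rfl N6990 D20280
theorem N8567 : nd 8567 = n20281 := ndS (p := 6991) (l := 2) rfl N6991 D20281
theorem N8568 : nd 8568 = n20282 := ndS (p := 6991) (l := 9) rfl N6991 D20282
theorem N8569 : nd 8569 = n20283 := ndS (p := 6993) (l := 9) rfl N6993 D20283
theorem N8570 : nd 8570 = n20284 := ndS (p := 6995) (l := 5) rfl N6995 D20284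
theorem N8571 : nd 8571 = n20285 := ndS (p := 6995) (l := 7) rfl N6995 D20285
theorem N8572 : nd 8572 = n20286 := ndS (p := 6995) (l := 8) rfl N6995 D20286
theorem N8573 : nd 8573 = n20287 := ndS (p := 6996) (l := 3) rfl N6996 D20287
theorem N8574 : nd 8574 = n20288 := ndS (p := 6996) (l := 9) rfl N6996 D20288
theorem N8575 : nd 8575 = n20289 := ndS (p := 6997) (l := 7) rfl N6997 D20289
theorem N8576 : nd 8576 = n20290 := ndS (p := 6997) (l := 8) rfl N6997 D20290
theorem N8577 : nd 8577 = n20291 := ndS (p := 6998) (l := 8) rfl N6998 D20291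
theorem N8578 : nd 8578 = n20292 := ndS (p := 6999) (l := 3) rfl N6999 D20292
theorem N8579 : nd 8579 = n20293 := ndS (p := 6999) (l := 9) rfl N6999 D20293
theorem N8580 : nd 8580 = n20294 := ndS (p := 7000) (l := 2) rfl N7000 D20294
theorem N8581 : nd 8581 = n20295 := ndS (p := 7000) (l := 4) rfl N7000 D20295
theorem N8582 : nd 8582 = n20296 := ndS (p := 7000) (l := 9) rfl N7000 D20296
theorem N8583 : nd 8583 = n20297 := ndS (p := 7002) (l := 3) rfl N7002 D20297
theorem N8584 : nd 8584 = n20298 := ndS (p := 7002) (l := 9) rfl N7002 D20298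
theorem N8585 : nd 8585 = n20299 := ndS (p := 7003) (l := 4) rfl N7003 D20299
theorem N8586 : nd 8586 = n20300 := ndS (p := 7003) (l := 9) rfl N7003 D20300
theorem N8587 : nd 8587 = n20301 := ndS (p := 7005) (l := 5) rfl N7005 D20301
theorem N8588 : nd 8588 = n20302 := ndS (p := 7005) (l := 9) rfl N7005 D20302
theorem N8589 : nd 8589 = n20303 := ndS (p := 7006) (l := 8) rfl N7006 D20303
theorem N8590 : nd 8590 = n20304 := ndS (p := 7007) (l := 6) rfl N7007 D20304
theorem N8591 : nd 8591 = n20305 := ndS (p := 7007) (l := 9) rfl N7007 D20305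
theorem N8592 : nd 8592 = n20306 := ndS (p := 7008) (l := 8) rfl N7008 D20306
theorem N8593 : nd 8593 = n20307 := ndS (p := 7010) (l := 6) rfl N7010 D20307
theorem N8594 : nd 8594 = n20308 := ndS (p := 7010) (l := 8) rfl N7010 D20308
theorem N8595 : nd 8595 = n20309 := ndS (p := 7011) (l := 3) rfl N7011 D20309
theorem N8596 : nd 8596 = n20310 := ndS (p := 7011) (l := 9) rfl N7011 D20310
theorem N8597 : nd 8597 = n20311 := ndS (p := 7012) (l := 3) rfl N7012 D20311
theorem N8598 : nd 8598 = n20312 := ndS (p := 7012) (l := 9) rfl N7012 D20312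
theorem N8599 : nd 8599 = n20313 := ndS (p := 7013) (l := 2) rfl N7013 D20313
theorem N8600 : nd 8600 = n20314 := ndS (p := 7013) (l := 9) rfl N7013 D20314
theorem N8601 : nd 8601 = n20315 := ndS (p := 7015) (l := 1) rfl N7015 D20315
theorem N8602 : nd 8602 = n20316 := ndS (p := 7015) (l := 9) rfl N7015 D20316
theorem N8603 : nd 8603 = n20317 := ndS (p := 7016) (l := 8) rfl N7016 D20317
theorem N8604 : nd 8604 = n20318 := ndS (p := 7018) (l := 8) rfl N7018 D20318
theorem N8605 : nd 8605 = n20319 := ndS (p := 7019) (l := 3) rfl N7019 D20319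
theorem N8606 : nd 8606 = n20320 := ndS (p := 7019) (l := 9) rfl N7019 D20320
theorem N8607 : nd 8607 = n20321 := ndS (p := 7020) (l := 2) rfl N7020 D20321
theorem N8608 : nd 8608 = n20322 := ndS (p := 7020) (l := 4) rfl N7020 D20322
theorem N8609 : nd 8609 = n20323 := ndS (p := 7020) (l := 9) rfl N7020 D20323
theorem N8610 : nd 8610 = n20324 := ndS (p := 7022) (l := 2) rfl N7022 D20324
theorem N8611 : nd 8611 = n20325 := ndS (p := 7022) (l := 9) rfl N7022 D20325
theorem N8612 : nd 8612 = n20326 := ndS (p := 7024) (l := 1) rfl N7024 D20326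
theorem N8613 : nd 8613 = n20327 := ndS (p := 7024) (l := 9) rfl N7024 D20327
theorem N8614 : nd 8614 = n20328 := ndS (p := 7025) (l := 8) rfl N7025 D20328
theorem N8615 : nd 8615 = n20329 := ndS (p := 7026) (l := 0) rfl N7026 D20329
theorem N8616 : nd 8616 = n20330 := ndS (p := 7026) (l := 9) rfl N7026 D20330
theorem N8617 : nd 8617 = n20331 := ndS (p := 7027) (l := 8) rfl N7027 D20331
theorem N8618 : nd 8618 = n20414 := ndS (p := 7034) (l := 3) rfl N7034 D20414
theorem N8619 : nd 8619 = n20416 := ndS (p := 7035) (l := 3) rfl N7035 D20416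
theorem N8620 : nd 8620 = n20418 := ndS (p := 7036) (l := 2) rfl N7036 D20418
theorem N8621 : nd 8621 = n20420 := ndS (p := 7037) (l := 1) rfl N7037 D20420
theorem N8622 : nd 8622 = n20448 := ndS (p := 7038) (l := 7) rfl N7038 D20448
theorem N8623 : nd 8623 = n20456 := ndS (p := 7040) (l := 5) rfl N7040 D20456
theorem N8624 : nd 8624 = n20457 := ndS (p := 7040) (l := 7) rfl N7040 D20457
theorem N8625 : nd 8625 = n20458 := ndS (p := 7040) (l := 8) rfl N7040 D20458
theorem N8626 : nd 8626 = n20460 := ndS (p := 7041) (l := 9) rfl N7041 D20460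
theorem N8627 : nd 8627 = n20461 := ndS (p := 7042) (l := 7) rfl N7042 D20461
theorem N8628 : nd 8628 = n20479 := ndS (p := 7044) (l := 6) rfl N7044 D20479
theorem N8629 : nd 8629 = n20480 := ndS (p := 7044) (l := 8) rfl N7044 D20480
theorem N8630 : nd 8630 = n20481 := ndS (p := 7045) (l := 3) rfl N7045 D20481
theorem N8631 : nd 8631 = n20483 := ndS (p := 7046) (l := 3) rfl N7046 D20483
theorem N8632 : nd 8632 = n20485 := ndS (p := 7047) (l := 2) rfl N7047 D20485
theorem N8633 : nd 8633 = n20487 := ndS (p := 7048) (l := 1) rfl N7048 D20487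
theorem N8634 : nd 8634 = n20490 := ndS (p := 7049) (l := 8) rfl N7049 D20490
theorem N8635 : nd 8635 = n20491 := ndS (p := 7050) (l := 3) rfl N7050 D20491
theorem N8636 : nd 8636 = n20492 := ndS (p := 7050) (l := 9) rfl N7050 D20492
theorem N8637 : nd 8637 = n20493 := ndS (p := 7051) (l := 2) rfl N7051 D20493
theorem N8638 : nd 8638 = n20494 := ndS (p := 7051) (l := 4) rfl N7051 D20494
theorem N8639 : nd 8639 = n20495 := ndS (p := 7051) (l := 9) rfl N7051 D20495
theorem N8640 : nd 8640 = n20496 := ndS (p := 7053) (l := 2) rfl N7053 D20496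
theorem N8641 : nd 8641 = n20497 := ndS (p := 7053) (l := 9) rfl N7053 D20497
theorem N8642 : nd 8642 = n20498 := ndS (p := 7055) (l := 1) rfl N7055 D20498
theorem N8643 : nd 8643 = n20499 := ndS (p := 7055) (l := 9) rfl N7055 D20499
theorem N8644 : nd 8644 = n20500 := ndS (p := 7056) (l := 8) rfl N7056 D20500
theorem N8645 : nd 8645 = n20501 := ndS (p := 7057) (l := 0) rfl N7057 D20501
theorem N8646 : nd 8646 = n20502 := ndS (p := 7057) (l := 9) rfl N7057 D20502
theorem N8647 : nd 8647 = n20503 := ndS (p := 7058) (l := 8) rfl N7058 D20503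
theorem N8648 : nd 8648 = n20520 := ndS (p := 7060) (l := 5) rfl N7060 D20520
theorem N8649 : nd 8649 = n20521 := ndS (p := 7060) (l := 7) rfl N7060 D20521
theorem N8650 : nd 8650 = n20522 := ndS (p := 7060) (l := 8) rfl N7060 D20522
theorem N8651 : nd 8651 = n20524 := ndS (p := 7061) (l := 9) rfl N7061 D20524
theorem N8652 : nd 8652 = n20525 := ndS (p := 7062) (l := 7) rfl N7062 D20525
theorem N8653 : nd 8653 = n20539 := ndS (p := 7064) (l := 6) rfl N7064 D20539
theorem N8654 : nd 8654 = n20540 := ndS (p := 7064) (l := 8) rfl N7064 D20540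
theorem N8655 : nd 8655 = n20541 := ndS (p := 7065) (l := 3) rfl N7065 D20541
theorem N8656 : nd 8656 = n20543 := ndS (p := 7066) (l := 3) rfl N7066 D20543
theorem N8657 : nd 8657 = n20545 := ndS (p := 7067) (l := 2) rfl N7067 D20545
theorem N8658 : nd 8658 = n20547 := ndS (p := 7068) (l := 1) rfl N7068 D20547
theorem N8659 : nd 8659 = n20550 := ndS (p := 7069) (l := 4) rfl N7069 D20550
theorem N8660 : nd 8660 = n20551 := ndS (p := 7069) (l := 7) rfl N7069 D20551
theorem N8661 : nd 8661 = n20552 := ndS (p := 7069) (l := 8) rfl N7069 D20552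
theorem N8662 : nd 8662 = n20553 := ndS (p := 7070) (l := 8) rfl N7070 D20553
theorem N8663 : nd 8663 = n20554 := ndS (p := 7071) (l := 3) rfl N7071 D20554
theorem N8664 : nd 8664 = n20555 := ndS (p := 7071) (l := 9) rfl N7071 D20555
theorem N8665 : nd 8665 = n20556 := ndS (p := 7072) (l := 2) rfl N7072 D20556
theorem N8666 : nd 8666 = n20558 := ndS (p := 7072) (l := 9) rfl N7072 D20558
theorem N8667 : nd 8667 = n20559 := ndS (p := 7074) (l := 6) rfl N7074 D20559
theorem N8668 : nd 8668 = n20560 := ndS (p := 7074) (l := 8) rfl N7074 D20560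
theorem N8669 : nd 8669 = n20561 := ndS (p := 7075) (l := 3) rfl N7075 D20561
theorem N8670 : nd 8670 = n20563 := ndS (p := 7076) (l := 3) rfl N7076 D20563
theorem N8671 : nd 8671 = n20565 := ndS (p := 7077) (l := 2) rfl N7077 D20565
theorem N8672 : nd 8672 = n20568 := ndS (p := 7078) (l := 1) rfl N7078 D20568
theorem N8673 : nd 8673 = n20579 := ndS (p := 7079) (l := 8) rfl N7079 D20579
theorem N8674 : nd 8674 = n20580 := ndS (p := 7080) (l := 3) rfl N7080 D20580
theorem N8675 : nd 8675 = n20581 := ndS (p := 7080) (l := 9) rfl N7080 D20581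
theorem N8676 : nd 8676 = n20582 := ndS (p := 7081) (l := 2) rfl N7081 D20582
theorem N8677 : nd 8677 = n20583 := ndS (p := 7081) (l := 4) rfl N7081 D20583
theorem N8678 : nd 8678 = n20584 := ndS (p := 7081) (l := 9) rfl N7081 D20584
theorem N8679 : nd 8679 = n20585 := ndS (p := 7083) (l := 2) rfl N7083 D20585
theorem N8680 : nd 8680 = n20586 := ndS (p := 7083) (l := 9) rfl N7083 D20586
theorem N8681 : nd 8681 = n20587 := ndS (p := 7085) (l := 1) rfl N7085 D20587
theorem N8682 : nd 8682 = n20588 := ndS (p := 7085) (l := 9) rfl N7085 D20588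
theorem N8683 : nd 8683 = n20589 := ndS (p := 7086) (l := 8) rfl N7086 D20589
theorem N8684 : nd 8684 = n20590 := ndS (p := 7087) (l := 0) rfl N7087 D20590
theorem N8685 : nd 8685 = n20591 := ndS (p := 7087) (l := 9) rfl N7087 D20591
theorem N8686 : nd 8686 = n20592 := ndS (p := 7088) (l := 8) rfl N7088 D20592
theorem N8687 : nd 8687 = n20593 := ndS (p := 7090) (l := 3) rfl N7090 D20593
theorem N8688 : nd 8688 = n20594 := ndS (p := 7090) (l := 9) rfl N7090 D20594
theorem N8689 : nd 8689 = n20595 := ndS (p := 7091) (l := 2) rfl N7091 D20595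
theorem N8690 : nd 8690 = n20596 := ndS (p := 7091) (l := 4) rfl N7091 D20596
theorem N8691 : nd 8691 = n20597 := ndS (p := 7091) (l := 9) rfl N7091 D20597
theorem N8692 : nd 8692 = n20598 := ndS (p := 7093) (l := 1) rfl N7093 D20598
theorem N8693 : nd 8693 = n20599 := ndS (p := 7093) (l := 4) rfl N7093 D20599
theorem N8694 : nd 8694 = n20600 := ndS (p := 7093) (l := 9) rfl N7093 D20600
theorem N8695 : nd 8695 = n20601 := ndS (p := 7094) (l := 9) rfl N7094 D20601
theorem N8696 : nd 8696 = n20602 := ndS (p := 7095) (l := 8) rfl N7095 D20602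
theorem N8697 : nd 8697 = n20603 := ndS (p := 7096) (l := 1) rfl N7096 D20603
theorem N8698 : nd 8698 = n20604 := ndS (p := 7096) (l := 9) rfl N7096 D20604
theorem N8699 : nd 8699 = n20605 := ndS (p := 7097) (l := 8) rfl N7097 D20605
theorem N8700 : nd 8700 = n20606 := ndS (p := 7098) (l := 0) rfl N7098 D20606
theorem N8701 : nd 8701 = n20607 := ndS (p := 7098) (l := 9) rfl N7098 D20607
theorem N8702 : nd 8702 = n20608 := ndS (p := 7099) (l := 8) rfl N7099 D20608
theorem N8703 : nd 8703 = n20609 := ndS (p := 7101) (l := 9) rfl N7101 D20609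
theorem N8704 : nd 8704 = n20610 := ndS (p := 7102) (l := 8) rfl N7102 D20610
theorem N8705 : nd 8705 = n20611 := ndS (p := 7103) (l := 3) rfl N7103 D20611
theorem N8706 : nd 8706 = n20629 := ndS (p := 7104) (l := 2) rfl N7104 D20629
theorem N8707 : nd 8707 = n20644 := ndS (p := 7109) (l := 4) rfl N7109 D20644
theorem N8708 : nd 8708 = n20646 := ndS (p := 7109) (l := 8) rfl N7109 D20646
theorem N8709 : nd 8709 = n20676 := ndS (p := 7113) (l := 5) rfl N7113 D20676
theorem N8710 : nd 8710 = n20677 := ndS (p := 7113) (l := 8) rfl N7113 D20677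
theorem N8711 : nd 8711 = n20678 := ndS (p := 7114) (l := 4) rfl N7114 D20678
theorem N8712 : nd 8712 = n20681 := ndS (p := 7115) (l := 9) rfl N7115 D20681
theorem N8713 : nd 8713 = n20691 := ndS (p := 7119) (l := 4) rfl N7119 D20691
theorem N8714 : nd 8714 = n20696 := ndS (p := 7121) (l := 4) rfl N7121 D20696
theorem N8715 : nd 8715 = n20701 := ndS (p := 7122) (l := 6) rfl N7122 D20701
theorem N8716 : nd 8716 = n20702 := ndS (p := 7122) (l := 8) rfl N7122 D20702
theorem N8717 : nd 8717 = n20704 := ndS (p := 7123) (l := 8) rfl N7123 D20704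
theorem N8718 : nd 8718 = n20705 := ndS (p := 7124) (l := 9) rfl N7124 D20705
theorem N8719 : nd 8719 = n20706 := ndS (p := 7126) (l := 5) rfl N7126 D20706
theorem N8720 : nd 8720 = n20708 := ndS (p := 7126) (l := 8) rfl N7126 D20708
theorem N8721 : nd 8721 = n20709 := ndS (p := 7127) (l := 3) rfl N7127 D20709
theorem N8722 : nd 8722 = n20748 := ndS (p := 7131) (l := 4) rfl N7131 D20748
theorem N8723 : nd 8723 = n20749 := ndS (p := 7131) (l := 6) rfl N7131 D20749
theorem N8724 : nd 8724 = n20750 := ndS (p := 7131) (l := 8) rfl N7131 D20750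
theorem N8725 : nd 8725 = n20753 := ndS (p := 7133) (l := 6) rfl N7133 D20753
theorem N8726 : nd 8726 = n20754 := ndS (p := 7133) (l := 8) rfl N7133 D20754
theorem N8727 : nd 8727 = n20757 := ndS (p := 7135) (l := 9) rfl N7135 D20757
theorem N8728 : nd 8728 = n20758 := ndS (p := 7138) (l := 5) rfl N7138 D20758
theorem N8729 : nd 8729 = n20762 := ndS (p := 7139) (l := 9) rfl N7139 D20762
theorem N8730 : nd 8730 = n20772 := ndS (p := 7141) (l := 6) rfl N7141 D20772
theorem N8731 : nd 8731 = n20777 := ndS (p := 7144) (l := 3) rfl N7144 D20777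
theorem N8732 : nd 8732 = n20778 := ndS (p := 7144) (l := 6) rfl N7144 D20778
theorem N8733 : nd 8733 = n20786 := ndS (p := 7146) (l := 5) rfl N7146 D20786
theorem N8734 : nd 8734 = n20787 := ndS (p := 7146) (l := 7) rfl N7146 D20787
theorem N8735 : nd 8735 = n20788 := ndS (p := 7146) (l := 8) rfl N7146 D20788
theorem N8736 : nd 8736 = n20789 := ndS (p := 7147) (l := 3) rfl N7147 D20789
theorem N8737 : nd 8737 = n20790 := ndS (p := 7147) (l := 9) rfl N7147 D20790
theorem N8738 : nd 8738 = n20791 := ndS (p := 7148) (l := 8) rfl N7148 D20791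
theorem N8739 : nd 8739 = n20792 := ndS (p := 7149) (l := 9) rfl N7149 D20792
theorem N8740 : nd 8740 = n20793 := ndS (p := 7151) (l := 7) rfl N7151 D20793
theorem N8741 : nd 8741 = n20794 := ndS (p := 7151) (l := 8) rfl N7151 D20794
theorem N8742 : nd 8742 = n20795 := ndS (p := 7152) (l := 8) rfl N7152 D20795
theorem N8743 : nd 8743 = n20796 := ndS (p := 7153) (l := 3) rfl N7153 D20796
theorem N8744 : nd 8744 = n20797 := ndS (p := 7153) (l := 9) rfl N7153 D20797
theorem N8745 : nd 8745 = n20798 := ndS (p := 7154) (l := 2) rfl N7154 D20798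
theorem N8746 : nd 8746 = n20799 := ndS (p := 7154) (l := 9) rfl N7154 D20799
theorem N8747 : nd 8747 = n20816 := ndS (p := 7158) (l := 9) rfl N7158 D20816
theorem N8748 : nd 8748 = n20825 := ndS (p := 7160) (l := 4) rfl N7160 D20825
theorem N8749 : nd 8749 = n20826 := ndS (p := 7160) (l := 6) rfl N7160 D20826
theorem N8750 : nd 8750 = n20827 := ndS (p := 7160) (l := 8) rfl N7160 D20827
theorem N8751 : nd 8751 = n20829 := ndS (p := 7161) (l := 9) rfl N7161 D20829
theorem N8752 : nd 8752 = n20830 := ndS (p := 7162) (l := 6) rfl N7162 D20830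
theorem N8753 : nd 8753 = n20831 := ndS (p := 7162) (l := 8) rfl N7162 D20831
theorem N8754 : nd 8754 = n20832 := ndS (p := 7163) (l := 7) rfl N7163 D20832
theorem N8755 : nd 8755 = n20833 := ndS (p := 7163) (l := 8) rfl N7163 D20833
theorem N8756 : nd 8756 = n20834 := ndS (p := 7164) (l := 9) rfl N7164 D20834
theorem N8757 : nd 8757 = n20839 := ndS (p := 7168) (l := 9) rfl N7168 D20839
theorem N8758 : nd 8758 = n20841 := ndS (p := 7170) (l := 9) rfl N7170 D20841
theorem N8759 : nd 8759 = n20842 := ndS (p := 7172) (l := 5) rfl N7172 D20842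
theorem N8760 : nd 8760 = n20843 := ndS (p := 7172) (l := 8) rfl N7172 D20843
theorem N8761 : nd 8761 = n20844 := ndS (p := 7173) (l := 4) rfl N7173 D20844
theorem N8762 : nd 8762 = n20845 := ndS (p := 7173) (l := 6) rfl N7173 D20845
theorem N8763 : nd 8763 = n20846 := ndS (p := 7173) (l := 8) rfl N7173 D20846
theorem N8764 : nd 8764 = n20847 := ndS (p := 7174) (l := 3) rfl N7174 D20847
theorem N8765 : nd 8765 = n20848 := ndS (p := 7174) (l := 9) rfl N7174 D20848
theorem N8766 : nd 8766 = n20849 := ndS (p := 7175) (l := 6) rfl N7175 D20849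
theorem N8767 : nd 8767 = n20850 := ndS (p := 7175) (l := 8) rfl N7175 D20850
theorem N8768 : nd 8768 = n20851 := ndS (p := 7176) (l := 7) rfl N7176 D20851
theorem N8769 : nd 8769 = n20852 := ndS (p := 7176) (l := 8) rfl N7176 D20852
theorem N8770 : nd 8770 = n20853 := ndS (p := 7177) (l := 9) rfl N7177 D20853
theorem N8771 : nd 8771 = n20854 := ndS (p := 7180) (l := 3) rfl N7180 D20854
theorem N8772 : nd 8772 = n20855 := ndS (p := 7180) (l := 6) rfl N7180 D20855
theorem N8773 : nd 8773 = n20856 := ndS (p := 7180) (l := 8) rfl N7180 D20856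
theorem N8774 : nd 8774 = n20858 := ndS (p := 7181) (l := 8) rfl N7181 D20858
theorem N8775 : nd 8775 = n20859 := ndS (p := 7182) (l := 3) rfl N7182 D20859
theorem N8776 : nd 8776 = n20860 := ndS (p := 7182) (l := 9) rfl N7182 D20860
theorem N8777 : nd 8777 = n20861 := ndS (p := 7183) (l := 4) rfl N7183 D20861
theorem N8778 : nd 8778 = n20862 := ndS (p := 7183) (l := 9) rfl N7183 D20862
theorem N8779 : nd 8779 = n20863 := ndS (p := 7185) (l := 5) rfl N7185 D20863
theorem N8780 : nd 8780 = n20864 := ndS (p := 7185) (l := 7) rfl N7185 D20864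
theorem N8781 : nd 8781 = n20865 := ndS (p := 7185) (l := 8) rfl N7185 D20865
theorem N8782 : nd 8782 = n20866 := ndS (p := 7186) (l := 3) rfl N7186 D20866
theorem N8783 : nd 8783 = n20867 := ndS (p := 7186) (l := 9) rfl N7186 D20867
theorem N8784 : nd 8784 = n20868 := ndS (p := 7187) (l := 8) rfl N7187 D20868
theorem N8785 : nd 8785 = n20869 := ndS (p := 7188) (l := 9) rfl N7188 D20869
theorem N8786 : nd 8786 = n20871 := ndS (p := 7190) (l := 8) rfl N7190 D20871
theorem N8787 : nd 8787 = n20872 := ndS (p := 7191) (l := 8) rfl N7191 D20872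
theorem N8788 : nd 8788 = n20873 := ndS (p := 7192) (l := 3) rfl N7192 D20873
theorem N8789 : nd 8789 = n20874 := ndS (p := 7192) (l := 9) rfl N7192 D20874
theorem N8790 : nd 8790 = n20875 := ndS (p := 7193) (l := 2) rfl N7193 D20875
theorem N8791 : nd 8791 = n20876 := ndS (p := 7193) (l := 9) rfl N7193 D20876
theorem N8792 : nd 8792 = n20877 := ndS (p := 7195) (l := 9) rfl N7195 D20877
theorem N8793 : nd 8793 = n20900 := ndS (p := 7197) (l := 9) rfl N7197 D20900
theorem N8794 : nd 8794 = n20902 := ndS (p := 7198) (l := 9) rfl N7198 D20902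
theorem N8795 : nd 8795 = n20915 := ndS (p := 7200) (l := 3) rfl N7200 D20915
theorem N8796 : nd 8796 = n20916 := ndS (p := 7200) (l := 6) rfl N7200 D20916
theorem N8797 : nd 8797 = n20917 := ndS (p := 7200) (l := 8) rfl N7200 D20917
theorem N8798 : nd 8798 = n20918 := ndS (p := 7201) (l := 7) rfl N7201 D20918
theorem N8799 : nd 8799 = n20919 := ndS (p := 7201) (l := 8) rfl N7201 D20919
theorem N8800 : nd 8800 = n20921 := ndS (p := 7202) (l := 9) rfl N7202 D20921
theorem N8801 : nd 8801 = n20924 := ndS (p := 7204) (l := 5) rfl N7204 D20924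
theorem N8802 : nd 8802 = n20925 := ndS (p := 7204) (l := 7) rfl N7204 D20925
theorem N8803 : nd 8803 = n20926 := ndS (p := 7204) (l := 8) rfl N7204 D20926
theorem N8804 : nd 8804 = n20927 := ndS (p := 7205) (l := 3) rfl N7205 D20927
theorem N8805 : nd 8805 = n20928 := ndS (p := 7205) (l := 9) rfl N7205 D20928
theorem N8806 : nd 8806 = n20929 := ndS (p := 7206) (l := 8) rfl N7206 D20929
theorem N8807 : nd 8807 = n20930 := ndS (p := 7207) (l := 9) rfl N7207 D20930
theorem N8808 : nd 8808 = n20931 := ndS (p := 7209) (l := 7) rfl N7209 D20931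
theorem N8809 : nd 8809 = n20932 := ndS (p := 7209) (l := 8) rfl N7209 D20932
theorem N8810 : nd 8810 = n20935 := ndS (p := 7211) (l := 9) rfl N7211 D20935
theorem N8811 : nd 8811 = n20937 := ndS (p := 7212) (l := 9) rfl N7212 D20937
theorem N8812 : nd 8812 = n20938 := ndS (p := 7214) (l := 9) rfl N7214 D20938
theorem N8813 : nd 8813 = n20939 := ndS (p := 7216) (l := 4) rfl N7216 D20939
theorem N8814 : nd 8814 = n20940 := ndS (p := 7216) (l := 6) rfl N7216 D20940
theorem N8815 : nd 8815 = n20941 := ndS (p := 7216) (l := 8) rfl N7216 D20941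
theorem N8816 : nd 8816 = n20943 := ndS (p := 7217) (l := 9) rfl N7217 D20943
theorem N8817 : nd 8817 = n20944 := ndS (p := 7218) (l := 3) rfl N7218 D20944
theorem N8818 : nd 8818 = n20945 := ndS (p := 7218) (l := 6) rfl N7218 D20945
theorem N8819 : nd 8819 = n20946 := ndS (p := 7218) (l := 8) rfl N7218 D20946
theorem N8820 : nd 8820 = n20947 := ndS (p := 7219) (l := 7) rfl N7219 D20947
theorem N8821 : nd 8821 = n20948 := ndS (p := 7219) (l := 8) rfl N7219 D20948
theorem N8822 : nd 8822 = n20949 := ndS (p := 7220) (l := 3) rfl N7220 D20949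
theorem N8823 : nd 8823 = n20950 := ndS (p := 7220) (l := 9) rfl N7220 D20950
theorem N8824 : nd 8824 = n20952 := ndS (p := 7221) (l := 9) rfl N7221 D20952
theorem N8825 : nd 8825 = n20953 := ndS (p := 7223) (l := 5) rfl N7223 D20953
theorem N8826 : nd 8826 = n20954 := ndS (p := 7223) (l := 7) rfl N7223 D20954
theorem N8827 : nd 8827 = n20955 := ndS (p := 7223) (l := 8) rfl N7223 D20955
theorem N8828 : nd 8828 = n20956 := ndS (p := 7224) (l := 3) rfl N7224 D20956
theorem N8829 : nd 8829 = n20957 := ndS (p := 7224) (l := 9) rfl N7224 D20957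
theorem N8830 : nd 8830 = n20958 := ndS (p := 7225) (l := 8) rfl N7225 D20958
theorem N8831 : nd 8831 = n20959 := ndS (p := 7226) (l := 9) rfl N7226 D20959
theorem N8832 : nd 8832 = n20960 := ndS (p := 7228) (l := 6) rfl N7228 D20960
theorem N8833 : nd 8833 = n20961 := ndS (p := 7228) (l := 8) rfl N7228 D20961
theorem N8834 : nd 8834 = n20962 := ndS (p := 7229) (l := 5) rfl N7229 D20962
theorem N8835 : nd 8835 = n20963 := ndS (p := 7229) (l := 7) rfl N7229 D20963
theorem N8836 : nd 8836 = n20964 := ndS (p := 7229) (l := 8) rfl N7229 D20964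
theorem N8837 : nd 8837 = n20965 := ndS (p := 7230) (l := 3) rfl N7230 D20965
theorem N8838 : nd 8838 = n20966 := ndS (p := 7230) (l := 9) rfl N7230 D20966
theorem N8839 : nd 8839 = n20967 := ndS (p := 7231) (l := 8) rfl N7231 D20967
theorem N8840 : nd 8840 = n20968 := ndS (p := 7232) (l := 3) rfl N7232 D20968
theorem N8841 : nd 8841 = n20969 := ndS (p := 7232) (l := 9) rfl N7232 D20969
theorem N8842 : nd 8842 = n20970 := ndS (p := 7233) (l := 4) rfl N7233 D20970
theorem N8843 : nd 8843 = n20971 := ndS (p := 7233) (l := 9) rfl N7233 D20971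
theorem N8844 : nd 8844 = n20972 := ndS (p := 7235) (l := 5) rfl N7235 D20972
theorem N8845 : nd 8845 = n20973 := ndS (p := 7235) (l := 9) rfl N7235 D20973
theorem N8846 : nd 8846 = n20975 := ndS (p := 7237) (l := 7) rfl N7237 D20975
theorem N8847 : nd 8847 = n20976 := ndS (p := 7237) (l := 8) rfl N7237 D20976
theorem N8848 : nd 8848 = n20977 := ndS (p := 7238) (l := 8) rfl N7238 D20977
theorem N8849 : nd 8849 = n20978 := ndS (p := 7239) (l := 3) rfl N7239 D20978
theorem N8850 : nd 8850 = n20979 := ndS (p := 7239) (l := 9) rfl N7239 D20979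
theorem N8851 : nd 8851 = n20980 := ndS (p := 7240) (l := 2) rfl N7240 D20980
theorem N8852 : nd 8852 = n20981 := ndS (p := 7240) (l := 9) rfl N7240 D20981
theorem N8853 : nd 8853 = n20982 := ndS (p := 7242) (l := 9) rfl N7242 D20982
theorem N8854 : nd 8854 = n20983 := ndS (p := 7244) (l := 6) rfl N7244 D20983
theorem N8855 : nd 8855 = n20984 := ndS (p := 7244) (l := 8) rfl N7244 D20984
theorem N8856 : nd 8856 = n20985 := ndS (p := 7245) (l := 3) rfl N7245 D20985
theorem N8857 : nd 8857 = n20986 := ndS (p := 7245) (l := 9) rfl N7245 D20986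
theorem N8858 : nd 8858 = n20987 := ndS (p := 7246) (l := 3) rfl N7246 D20987
theorem N8859 : nd 8859 = n20988 := ndS (p := 7246) (l := 9) rfl N7246 D20988
theorem N8860 : nd 8860 = n20989 := ndS (p := 7247) (l := 2) rfl N7247 D20989
theorem N8861 : nd 8861 = n20990 := ndS (p := 7247) (l := 9) rfl N7247 D20990
theorem N8862 : nd 8862 = n20991 := ndS (p := 7249) (l := 1) rfl N7249 D20991
theorem N8863 : nd 8863 = n20992 := ndS (p := 7249) (l := 9) rfl N7249 D20992
theorem N8864 : nd 8864 = n20993 := ndS (p := 7250) (l := 8) rfl N7250 D20993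
theorem N8865 : nd 8865 = n21025 := ndS (p := 7252) (l := 3) rfl N7252 D21025
theorem N8866 : nd 8866 = n21026 := ndS (p := 7252) (l := 9) rfl N7252 D21026
theorem N8867 : nd 8867 = n21027 := ndS (p := 7253) (l := 2) rfl N7253 D21027
theorem N8868 : nd 8868 = n21028 := ndS (p := 7253) (l := 9) rfl N7253 D21028
theorem N8869 : nd 8869 = n21029 := ndS (p := 7255) (l := 9) rfl N7255 D21029
theorem N8870 : nd 8870 = n21051 := ndS (p := 7257) (l := 6) rfl N7257 D21051
theorem N8871 : nd 8871 = n21052 := ndS (p := 7257) (l := 8) rfl N7257 D21052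
theorem N8872 : nd 8872 = n21053 := ndS (p := 7258) (l := 5) rfl N7258 D21053
theorem N8873 : nd 8873 = n21054 := ndS (p := 7258) (l := 7) rfl N7258 D21054
theorem N8874 : nd 8874 = n21055 := ndS (p := 7258) (l := 8) rfl N7258 D21055
theorem N8875 : nd 8875 = n21056 := ndS (p := 7259) (l := 3) rfl N7259 D21056
theorem N8876 : nd 8876 = n21057 := ndS (p := 7259) (l := 9) rfl N7259 D21057
theorem N8877 : nd 8877 = n21058 := ndS (p := 7260) (l := 8) rfl N7260 D21058
theorem N8878 : nd 8878 = n21060 := ndS (p := 7261) (l := 9) rfl N7261 D21060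
theorem N8879 : nd 8879 = n21066 := ndS (p := 7263) (l := 7) rfl N7263 D21066
theorem N8880 : nd 8880 = n21067 := ndS (p := 7263) (l := 8) rfl N7263 D21067
theorem N8881 : nd 8881 = n21068 := ndS (p := 7264) (l := 8) rfl N7264 D21068
theorem N8882 : nd 8882 = n21069 := ndS (p := 7265) (l := 3) rfl N7265 D21069
theorem N8883 : nd 8883 = n21070 := ndS (p := 7265) (l := 9) rfl N7265 D21070
theorem N8884 : nd 8884 = n21071 := ndS (p := 7266) (l := 2) rfl N7266 D21071
theorem N8885 : nd 8885 = n21072 := ndS (p := 7266) (l := 9) rfl N7266 D21072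
theorem N8886 : nd 8886 = n21073 := ndS (p := 7268) (l := 9) rfl N7268 D21073
theorem N8887 : nd 8887 = n21074 := ndS (p := 7270) (l := 6) rfl N7270 D21074
theorem N8888 : nd 8888 = n21075 := ndS (p := 7270) (l := 8) rfl N7270 D21075
theorem N8889 : nd 8889 = n21076 := ndS (p := 7271) (l := 3) rfl N7271 D21076
theorem N8890 : nd 8890 = n21077 := ndS (p := 7271) (l := 9) rfl N7271 D21077
theorem N8891 : nd 8891 = n21078 := ndS (p := 7272) (l := 3) rfl N7272 D21078
theorem N8892 : nd 8892 = n21079 := ndS (p := 7272) (l := 9) rfl N7272 D21079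
theorem N8893 : nd 8893 = n21080 := ndS (p := 7273) (l := 2) rfl N7273 D21080
theorem N8894 : nd 8894 = n21081 := ndS (p := 7273) (l := 9) rfl N7273 D21081
theorem N8895 : nd 8895 = n21082 := ndS (p := 7275) (l := 1) rfl N7275 D21082
theorem N8896 : nd 8896 = n21083 := ndS (p := 7275) (l := 9) rfl N7275 D21083
theorem N8897 : nd 8897 = n21084 := ndS (p := 7276) (l := 8) rfl N7276 D21084
theorem N8898 : nd 8898 = n21085 := ndS (p := 7278) (l := 3) rfl N7278 D21085
theorem N8899 : nd 8899 = n21086 := ndS (p := 7278) (l := 6) rfl N7278 D21086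
theorem N8900 : nd 8900 = n21087 := ndS (p := 7278) (l := 8) rfl N7278 D21087
theorem N8901 : nd 8901 = n21088 := ndS (p := 7279) (l := 7) rfl N7279 D21088
theorem N8902 : nd 8902 = n21089 := ndS (p := 7279) (l := 8) rfl N7279 D21089
theorem N8903 : nd 8903 = n21091 := ndS (p := 7280) (l := 9) rfl N7280 D21091
theorem N8904 : nd 8904 = n21095 := ndS (p := 7282) (l := 6) rfl N7282 D21095
theorem N8905 : nd 8905 = n21096 := ndS (p := 7282) (l := 8) rfl N7282 D21096
theorem N8906 : nd 8906 = n21097 := ndS (p := 7283) (l := 5) rfl N7283 D21097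
theorem N8907 : nd 8907 = n21098 := ndS (p := 7283) (l := 7) rfl N7283 D21098
theorem N8908 : nd 8908 = n21099 := ndS (p := 7283) (l := 8) rfl N7283 D21099
theorem N8909 : nd 8909 = n21100 := ndS (p := 7284) (l := 3) rfl N7284 D21100
theorem N8910 : nd 8910 = n21101 := ndS (p := 7284) (l := 9) rfl N7284 D21101
theorem N8911 : nd 8911 = n21102 := ndS (p := 7285) (l := 8) rfl N7285 D21102
theorem N8912 : nd 8912 = n21103 := ndS (p := 7286) (l := 3) rfl N7286 D21103
theorem N8913 : nd 8913 = n21104 := ndS (p := 7286) (l := 9) rfl N7286 D21104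
theorem N8914 : nd 8914 = n21105 := ndS (p := 7287) (l := 4) rfl N7287 D21105
theorem N8915 : nd 8915 = n21106 := ndS (p := 7287) (l := 9) rfl N7287 D21106
theorem N8916 : nd 8916 = n21110 := ndS (p := 7290) (l := 7) rfl N7290 D21110
theorem N8917 : nd 8917 = n21111 := ndS (p := 7290) (l := 8) rfl N7290 D21111
theorem N8918 : nd 8918 = n21112 := ndS (p := 7291) (l := 8) rfl N7291 D21112
theorem N8919 : nd 8919 = n21113 := ndS (p := 7292) (l := 3) rfl N7292 D21113
theorem N8920 : nd 8920 = n21114 := ndS (p := 7292) (l := 9) rfl N7292 D21114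
theorem N8921 : nd 8921 = n21115 := ndS (p := 7293) (l := 2) rfl N7293 D21115
theorem N8922 : nd 8922 = n21116 := ndS (p := 7293) (l := 9) rfl N7293 D21116
theorem N8923 : nd 8923 = n21117 := ndS (p := 7295) (l := 9) rfl N7295 D21117
theorem N8924 : nd 8924 = n21118 := ndS (p := 7297) (l := 5) rfl N7297 D21118
theorem N8925 : nd 8925 = n21119 := ndS (p := 7297) (l := 7) rfl N7297 D21119
theorem N8926 : nd 8926 = n21120 := ndS (p := 7297) (l := 8) rfl N7297 D21120
theorem N8927 : nd 8927 = n21121 := ndS (p := 7298) (l := 3) rfl N7298 D21121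
theorem N8928 : nd 8928 = n21122 := ndS (p := 7298) (l := 9) rfl N7298 D21122
theorem N8929 : nd 8929 = n21123 := ndS (p := 7299) (l := 7) rfl N7299 D21123
theorem N8930 : nd 8930 = n21124 := ndS (p := 7299) (l := 8) rfl N7299 D21124
theorem N8931 : nd 8931 = n21125 := ndS (p := 7300) (l := 8) rfl N7300 D21125
theorem N8932 : nd 8932 = n21126 := ndS (p := 7301) (l := 3) rfl N7301 D21126
theorem N8933 : nd 8933 = n21127 := ndS (p := 7301) (l := 9) rfl N7301 D21127
theorem N8934 : nd 8934 = n21128 := ndS (p := 7302) (l := 2) rfl N7302 D21128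
theorem N8935 : nd 8935 = n21129 := ndS (p := 7302) (l := 4) rfl N7302 D21129
theorem N8936 : nd 8936 = n21130 := ndS (p := 7302) (l := 9) rfl N7302 D21130
theorem N8937 : nd 8937 = n21131 := ndS (p := 7304) (l := 3) rfl N7304 D21131
theorem N8938 : nd 8938 = n21132 := ndS (p := 7304) (l := 9) rfl N7304 D21132
theorem N8939 : nd 8939 = n21133 := ndS (p := 7305) (l := 4) rfl N7305 D21133
theorem N8940 : nd 8940 = n21134 := ndS (p := 7305) (l := 9) rfl N7305 D21134
theorem N8941 : nd 8941 = n21135 := ndS (p := 7307) (l := 5) rfl N7307 D21135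
theorem N8942 : nd 8942 = n21136 := ndS (p := 7307) (l := 9) rfl N7307 D21136
theorem N8943 : nd 8943 = n21138 := ndS (p := 7309) (l := 6) rfl N7309 D21138
theorem N8944 : nd 8944 = n21139 := ndS (p := 7309) (l := 9) rfl N7309 D21139
theorem N8945 : nd 8945 = n21141 := ndS (p := 7311) (l := 6) rfl N7311 D21141
theorem N8946 : nd 8946 = n21142 := ndS (p := 7311) (l := 8) rfl N7311 D21142
theorem N8947 : nd 8947 = n21143 := ndS (p := 7312) (l := 3) rfl N7312 D21143
theorem N8948 : nd 8948 = n21144 := ndS (p := 7312) (l := 9) rfl N7312 D21144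
theorem N8949 : nd 8949 = n21145 := ndS (p := 7313) (l := 3) rfl N7313 D21145
theorem N8950 : nd 8950 = n21146 := ndS (p := 7313) (l := 9) rfl N7313 D21146
theorem N8951 : nd 8951 = n21147 := ndS (p := 7314) (l := 2) rfl N7314 D21147
theorem N8952 : nd 8952 = n21148 := ndS (p := 7314) (l := 9) rfl N7314 D21148
theorem N8953 : nd 8953 = n21149 := ndS (p := 7316) (l := 1) rfl N7316 D21149
theorem N8954 : nd 8954 = n21150 := ndS (p := 7316) (l := 9) rfl N7316 D21150
theorem N8955 : nd 8955 = n21151 := ndS (p := 7317) (l := 8) rfl N7317 D21151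
theorem N8956 : nd 8956 = n21152 := ndS (p := 7319) (l := 8) rfl N7319 D21152
theorem N8957 : nd 8957 = n21153 := ndS (p := 7320) (l := 3) rfl N7320 D21153
theorem N8958 : nd 8958 = n21154 := ndS (p := 7320) (l := 9) rfl N7320 D21154
theorem N8959 : nd 8959 = n21155 := ndS (p := 7321) (l := 2) rfl N7321 D21155
theorem N8960 : nd 8960 = n21156 := ndS (p := 7321) (l := 4) rfl N7321 D21156
theorem N8961 : nd 8961 = n21157 := ndS (p := 7321) (l := 9) rfl N7321 D21157
theorem N8962 : nd 8962 = n21158 := ndS (p := 7323) (l := 2) rfl N7323 D21158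
theorem N8963 : nd 8963 = n21159 := ndS (p := 7323) (l := 9) rfl N7323 D21159
theorem N8964 : nd 8964 = n21160 := ndS (p := 7325) (l := 1) rfl N7325 D21160
theorem N8965 : nd 8965 = n21161 := ndS (p := 7325) (l := 9) rfl N7325 D21161
theorem N8966 : nd 8966 = n21162 := ndS (p := 7326) (l := 8) rfl N7326 D21162
theorem N8967 : nd 8967 = n21163 := ndS (p := 7327) (l := 0) rfl N7327 D21163
theorem N8968 : nd 8968 = n21164 := ndS (p := 7327) (l := 9) rfl N7327 D21164
theorem N8969 : nd 8969 = n21165 := ndS (p := 7328) (l := 8) rfl N7328 D21165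
theorem N8970 : nd 8970 = n21166 := ndS (p := 7330) (l := 5) rfl N7330 D21166
theorem N8971 : nd 8971 = n21168 := ndS (p := 7331) (l := 4) rfl N7331 D21168
theorem N8972 : nd 8972 = n21169 := ndS (p := 7331) (l := 6) rfl N7331 D21169
theorem N8973 : nd 8973 = n21170 := ndS (p := 7331) (l := 8) rfl N7331 D21170
theorem N8974 : nd 8974 = n21172 := ndS (p := 7332) (l := 9) rfl N7332 D21172
theorem N8975 : nd 8975 = n21173 := ndS (p := 7333) (l := 6) rfl N7333 D21173
theorem N8976 : nd 8976 = n21174 := ndS (p := 7333) (l := 8) rfl N7333 D21174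
theorem N8977 : nd 8977 = n21175 := ndS (p := 7334) (l := 7) rfl N7334 D21175
theorem N8978 : nd 8978 = n21176 := ndS (p := 7334) (l := 8) rfl N7334 D21176
theorem N8979 : nd 8979 = n21177 := ndS (p := 7335) (l := 9) rfl N7335 D21177
theorem N8980 : nd 8980 = n21178 := ndS (p := 7338) (l := 3) rfl N7338 D21178
theorem N8981 : nd 8981 = n21179 := ndS (p := 7338) (l := 6) rfl N7338 D21179
theorem N8982 : nd 8982 = n21180 := ndS (p := 7338) (l := 8) rfl N7338 D21180
theorem N8983 : nd 8983 = n21181 := ndS (p := 7339) (l := 7) rfl N7339 D21181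
theorem N8984 : nd 8984 = n21182 := ndS (p := 7339) (l := 8) rfl N7339 D21182
theorem N8985 : nd 8985 = n21183 := ndS (p := 7340) (l := 3) rfl N7340 D21183
theorem N8986 : nd 8986 = n21184 := ndS (p := 7340) (l := 9) rfl N7340 D21184
theorem N8987 : nd 8987 = n21186 := ndS (p := 7341) (l := 9) rfl N7341 D21186
theorem N8988 : nd 8988 = n21187 := ndS (p := 7343) (l := 5) rfl N7343 D21187
theorem N8989 : nd 8989 = n21188 := ndS (p := 7343) (l := 7) rfl N7343 D21188
theorem N8990 : nd 8990 = n21189 := ndS (p := 7343) (l := 8) rfl N7343 D21189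
theorem N8991 : nd 8991 = n21190 := ndS (p := 7344) (l := 3) rfl N7344 D21190
theorem N8992 : nd 8992 = n21191 := ndS (p := 7344) (l := 9) rfl N7344 D21191
theorem N8993 : nd 8993 = n21192 := ndS (p := 7345) (l := 8) rfl N7345 D21192
theorem N8994 : nd 8994 = n21193 := ndS (p := 7346) (l := 9) rfl N7346 D21193
theorem N8995 : nd 8995 = n21198 := ndS (p := 7350) (l := 9) rfl N7350 D21198
theorem N8996 : nd 8996 = n21200 := ndS (p := 7351) (l := 9) rfl N7351 D21200
theorem N8997 : nd 8997 = n21201 := ndS (p := 7353) (l := 9) rfl N7353 D21201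
theorem N8998 : nd 8998 = n21202 := ndS (p := 7355) (l := 4) rfl N7355 D21202
theorem N8999 : nd 8999 = n21203 := ndS (p := 7355) (l := 6) rfl N7355 D21203
theorem N9000 : nd 9000 = n21207 := ndS (p := 7356) (l := 3) rfl N7356 D21207
theorem N9001 : nd 9001 = n21208 := ndS (p := 7356) (l := 6) rfl N7356 D21208
theorem N9002 : nd 9002 = n21209 := ndS (p := 7356) (l := 8) rfl N7356 D21209
theorem N9003 : nd 9003 = n21210 := ndS (p := 7357) (l := 7) rfl N7357 D21210
theorem N9004 : nd 9004 = n21211 := ndS (p := 7357) (l := 8) rfl N7357 D21211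
theorem N9005 : nd 9005 = n21213 := ndS (p := 7358) (l := 9) rfl N7358 D21213
theorem N9006 : nd 9006 = n21216 := ndS (p := 7360) (l := 5) rfl N7360 D21216
theorem N9007 : nd 9007 = n21217 := ndS (p := 7360) (l := 7) rfl N7360 D21217
theorem N9008 : nd 9008 = n21218 := ndS (p := 7360) (l := 8) rfl N7360 D21218
theorem N9009 : nd 9009 = n21219 := ndS (p := 7361) (l := 3) rfl N7361 D21219
theorem N9010 : nd 9010 = n21220 := ndS (p := 7361) (l := 9) rfl N7361 D21220
theorem N9011 : nd 9011 = n21221 := ndS (p := 7362) (l := 8) rfl N7362 D21221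
theorem N9012 : nd 9012 = n21222 := ndS (p := 7363) (l := 9) rfl N7363 D21222
theorem N9013 : nd 9013 = n21223 := ndS (p := 7365) (l := 6) rfl N7365 D21223
theorem N9014 : nd 9014 = n21224 := ndS (p := 7365) (l := 8) rfl N7365 D21224
theorem N9015 : nd 9015 = n21225 := ndS (p := 7366) (l := 5) rfl N7366 D21225
theorem N9016 : nd 9016 = n21226 := ndS (p := 7366) (l := 7) rfl N7366 D21226
theorem N9017 : nd 9017 = n21227 := ndS (p := 7366) (l := 8) rfl N7366 D21227
theorem N9018 : nd 9018 = n21228 := ndS (p := 7367) (l := 3) rfl N7367 D21228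
theorem N9019 : nd 9019 = n21229 := ndS (p := 7367) (l := 9) rfl N7367 D21229
theorem N9020 : nd 9020 = n21230 := ndS (p := 7368) (l := 8) rfl N7368 D21230
theorem N9021 : nd 9021 = n21231 := ndS (p := 7369) (l := 3) rfl N7369 D21231
theorem N9022 : nd 9022 = n21232 := ndS (p := 7369) (l := 9) rfl N7369 D21232
theorem N9023 : nd 9023 = n21233 := ndS (p := 7370) (l := 4) rfl N7370 D21233
theorem N9024 : nd 9024 = n21234 := ndS (p := 7370) (l := 9) rfl N7370 D21234
theorem N9025 : nd 9025 = n21235 := ndS (p := 7372) (l := 5) rfl N7372 D21235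
theorem N9026 : nd 9026 = n21236 := ndS (p := 7372) (l := 9) rfl N7372 D21236
theorem N9027 : nd 9027 = n21238 := ndS (p := 7374) (l := 7) rfl N7374 D21238
theorem N9028 : nd 9028 = n21239 := ndS (p := 7374) (l := 8) rfl N7374 D21239
theorem N9029 : nd 9029 = n21240 := ndS (p := 7375) (l := 8) rfl N7375 D21240
theorem N9030 : nd 9030 = n21241 := ndS (p := 7376) (l := 3) rfl N7376 D21241
theorem N9031 : nd 9031 = n21242 := ndS (p := 7376) (l := 9) rfl N7376 D21242
theorem N9032 : nd 9032 = n21243 := ndS (p := 7377) (l := 2) rfl N7377 D21243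
theorem N9033 : nd 9033 = n21244 := ndS (p := 7377) (l := 9) rfl N7377 D21244
theorem N9034 : nd 9034 = n21245 := ndS (p := 7379) (l := 9) rfl N7379 D21245
theorem N9035 : nd 9035 = n21246 := ndS (p := 7381) (l := 6) rfl N7381 D21246
theorem N9036 : nd 9036 = n21247 := ndS (p := 7381) (l := 8) rfl N7381 D21247
theorem N9037 : nd 9037 = n21248 := ndS (p := 7382) (l := 3) rfl N7382 D21248
theorem N9038 : nd 9038 = n21249 := ndS (p := 7382) (l := 9) rfl N7382 D21249
theorem N9039 : nd 9039 = n21250 := ndS (p := 7383) (l := 3) rfl N7383 D21250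
theorem N9040 : nd 9040 = n21251 := ndS (p := 7383) (l := 9) rfl N7383 D21251
theorem N9041 : nd 9041 = n21252 := ndS (p := 7384) (l := 2) rfl N7384 D21252
theorem N9042 : nd 9042 = n21253 := ndS (p := 7384) (l := 9) rfl N7384 D21253
theorem N9043 : nd 9043 = n21254 := ndS (p := 7386) (l := 1) rfl N7386 D21254
theorem N9044 : nd 9044 = n21255 := ndS (p := 7386) (l := 9) rfl N7386 D21255
theorem N9045 : nd 9045 = n21256 := ndS (p := 7387) (l := 8) rfl N7387 D21256
theorem N9046 : nd 9046 = n21257 := ndS (p := 7389) (l := 4) rfl N7389 D21257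
theorem N9047 : nd 9047 = n21258 := ndS (p := 7389) (l := 6) rfl N7389 D21258
theorem N9048 : nd 9048 = n21262 := ndS (p := 7390) (l := 3) rfl N7390 D21262
theorem N9049 : nd 9049 = n21263 := ndS (p := 7390) (l := 6) rfl N7390 D21263
theorem N9050 : nd 9050 = n21264 := ndS (p := 7390) (l := 8) rfl N7390 D21264
theorem N9051 : nd 9051 = n21265 := ndS (p := 7391) (l := 7) rfl N7391 D21265
theorem N9052 : nd 9052 = n21266 := ndS (p := 7391) (l := 8) rfl N7391 D21266
theorem N9053 : nd 9053 = n21268 := ndS (p := 7392) (l := 9) rfl N7392 D21268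
theorem N9054 : nd 9054 = n21271 := ndS (p := 7394) (l := 5) rfl N7394 D21271
theorem N9055 : nd 9055 = n21272 := ndS (p := 7394) (l := 7) rfl N7394 D21272
theorem N9056 : nd 9056 = n21273 := ndS (p := 7394) (l := 8) rfl N7394 D21273
theorem N9057 : nd 9057 = n21274 := ndS (p := 7395) (l := 3) rfl N7395 D21274
theorem N9058 : nd 9058 = n21275 := ndS (p := 7395) (l := 9) rfl N7395 D21275
theorem N9059 : nd 9059 = n21276 := ndS (p := 7396) (l := 8) rfl N7396 D21276
theorem N9060 : nd 9060 = n21277 := ndS (p := 7397) (l := 9) rfl N7397 D21277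
theorem N9061 : nd 9061 = n21278 := ndS (p := 7399) (l := 6) rfl N7399 D21278
theorem N9062 : nd 9062 = n21279 := ndS (p := 7399) (l := 8) rfl N7399 D21279
theorem N9063 : nd 9063 = n21280 := ndS (p := 7400) (l := 5) rfl N7400 D21280
theorem N9064 : nd 9064 = n21281 := ndS (p := 7400) (l := 7) rfl N7400 D21281
theorem N9065 : nd 9065 = n21282 := ndS (p := 7400) (l := 8) rfl N7400 D21282
theorem N9066 : nd 9066 = n21283 := ndS (p := 7401) (l := 3) rfl N7401 D21283
theorem N9067 : nd 9067 = n21284 := ndS (p := 7401) (l := 9) rfl N7401 D21284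
theorem N9068 : nd 9068 = n21285 := ndS (p := 7402) (l := 8) rfl N7402 D21285
theorem N9069 : nd 9069 = n21286 := ndS (p := 7403) (l := 3) rfl N7403 D21286
theorem N9070 : nd 9070 = n21287 := ndS (p := 7403) (l := 9) rfl N7403 D21287
theorem N9071 : nd 9071 = n21288 := ndS (p := 7404) (l := 4) rfl N7404 D21288
theorem N9072 : nd 9072 = n21289 := ndS (p := 7404) (l := 9) rfl N7404 D21289
theorem N9073 : nd 9073 = n21293 := ndS (p := 7407) (l := 7) rfl N7407 D21293
theorem N9074 : nd 9074 = n21294 := ndS (p := 7407) (l := 8) rfl N7407 D21294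
theorem N9075 : nd 9075 = n21295 := ndS (p := 7408) (l := 8) rfl N7408 D21295
theorem N9076 : nd 9076 = n21296 := ndS (p := 7409) (l := 3) rfl N7409 D21296
theorem N9077 : nd 9077 = n21297 := ndS (p := 7409) (l := 9) rfl N7409 D21297
theorem N9078 : nd 9078 = n21298 := ndS (p := 7410) (l := 2) rfl N7410 D21298
theorem N9079 : nd 9079 = n21299 := ndS (p := 7410) (l := 9) rfl N7410 D21299
theorem N9080 : nd 9080 = n21300 := ndS (p := 7412) (l := 9) rfl N7412 D21300
theorem N9081 : nd 9081 = n21301 := ndS (p := 7414) (l := 6) rfl N7414 D21301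
theorem N9082 : nd 9082 = n21302 := ndS (p := 7414) (l := 8) rfl N7414 D21302
theorem N9083 : nd 9083 = n21303 := ndS (p := 7415) (l := 3) rfl N7415 D21303
theorem N9084 : nd 9084 = n21304 := ndS (p := 7415) (l := 9) rfl N7415 D21304
theorem N9085 : nd 9085 = n21306 := ndS (p := 7416) (l := 9) rfl N7416 D21306
theorem N9086 : nd 9086 = n21308 := ndS (p := 7417) (l := 9) rfl N7417 D21308
theorem N9087 : nd 9087 = n21309 := ndS (p := 7419) (l := 1) rfl N7419 D21309
theorem N9088 : nd 9088 = n21310 := ndS (p := 7419) (l := 9) rfl N7419 D21310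
theorem N9089 : nd 9089 = n21311 := ndS (p := 7420) (l := 8) rfl N7420 D21311
theorem N9090 : nd 9090 = n21312 := ndS (p := 7422) (l := 3) rfl N7422 D21312
theorem N9091 : nd 9091 = n21313 := ndS (p := 7422) (l := 6) rfl N7422 D21313
theorem N9092 : nd 9092 = n21315 := ndS (p := 7423) (l := 7) rfl N7423 D21315
theorem N9093 : nd 9093 = n21322 := ndS (p := 7424) (l := 6) rfl N7424 D21322
theorem N9094 : nd 9094 = n21323 := ndS (p := 7424) (l := 8) rfl N7424 D21323
theorem N9095 : nd 9095 = n21324 := ndS (p := 7425) (l := 5) rfl N7425 D21324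
theorem N9096 : nd 9096 = n21325 := ndS (p := 7425) (l := 7) rfl N7425 D21325
theorem N9097 : nd 9097 = n21326 := ndS (p := 7425) (l := 8) rfl N7425 D21326
theorem N9098 : nd 9098 = n21327 := ndS (p := 7426) (l := 3) rfl N7426 D21327
theorem N9099 : nd 9099 = n21328 := ndS (p := 7426) (l := 9) rfl N7426 D21328
theorem N9100 : nd 9100 = n21329 := ndS (p := 7427) (l := 8) rfl N7427 D21329
theorem N9101 : nd 9101 = n21331 := ndS (p := 7428) (l := 9) rfl N7428 D21331
theorem N9102 : nd 9102 = n21337 := ndS (p := 7430) (l := 7) rfl N7430 D21337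
theorem N9103 : nd 9103 = n21338 := ndS (p := 7430) (l := 8) rfl N7430 D21338
theorem N9104 : nd 9104 = n21339 := ndS (p := 7431) (l := 8) rfl N7431 D21339
theorem N9105 : nd 9105 = n21340 := ndS (p := 7432) (l := 3) rfl N7432 D21340
theorem N9106 : nd 9106 = n21341 := ndS (p := 7432) (l := 9) rfl N7432 D21341
theorem N9107 : nd 9107 = n21342 := ndS (p := 7433) (l := 2) rfl N7433 D21342
theorem N9108 : nd 9108 = n21343 := ndS (p := 7433) (l := 9) rfl N7433 D21343
theorem N9109 : nd 9109 = n21344 := ndS (p := 7435) (l := 9) rfl N7435 D21344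
theorem N9110 : nd 9110 = n21345 := ndS (p := 7437) (l := 5) rfl N7437 D21345
theorem N9111 : nd 9111 = n21346 := ndS (p := 7437) (l := 7) rfl N7437 D21346
theorem N9112 : nd 9112 = n21347 := ndS (p := 7437) (l := 8) rfl N7437 D21347
theorem N9113 : nd 9113 = n21348 := ndS (p := 7438) (l := 3) rfl N7438 D21348
theorem N9114 : nd 9114 = n21349 := ndS (p := 7438) (l := 9) rfl N7438 D21349
theorem N9115 : nd 9115 = n21350 := ndS (p := 7439) (l := 7) rfl N7439 D21350
theorem N9116 : nd 9116 = n21351 := ndS (p := 7439) (l := 8) rfl N7439 D21351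
theorem N9117 : nd 9117 = n21352 := ndS (p := 7440) (l := 8) rfl N7440 D21352
theorem N9118 : nd 9118 = n21353 := ndS (p := 7441) (l := 3) rfl N7441 D21353
theorem N9119 : nd 9119 = n21354 := ndS (p := 7441) (l := 9) rfl N7441 D21354
theorem N9120 : nd 9120 = n21355 := ndS (p := 7442) (l := 2) rfl N7442 D21355
theorem N9121 : nd 9121 = n21356 := ndS (p := 7442) (l := 4) rfl N7442 D21356
theorem N9122 : nd 9122 = n21357 := ndS (p := 7442) (l := 9) rfl N7442 D21357
theorem N9123 : nd 9123 = n21358 := ndS (p := 7444) (l := 3) rfl N7444 D21358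
theorem N9124 : nd 9124 = n21359 := ndS (p := 7444) (l := 9) rfl N7444 D21359
theorem N9125 : nd 9125 = n21360 := ndS (p := 7445) (l := 4) rfl N7445 D21360
theorem N9126 : nd 9126 = n21361 := ndS (p := 7445) (l := 9) rfl N7445 D21361
theorem N9127 : nd 9127 = n21362 := ndS (p := 7447) (l := 5) rfl N7447 D21362
theorem N9128 : nd 9128 = n21363 := ndS (p := 7447) (l := 9) rfl N7447 D21363
theorem N9129 : nd 9129 = n21365 := ndS (p := 7449) (l := 6) rfl N7449 D21365
theorem N9130 : nd 9130 = n21366 := ndS (p := 7449) (l := 9) rfl N7449 D21366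
theorem N9131 : nd 9131 = n21368 := ndS (p := 7451) (l := 6) rfl N7451 D21368
theorem N9132 : nd 9132 = n21369 := ndS (p := 7451) (l := 8) rfl N7451 D21369
theorem N9133 : nd 9133 = n21370 := ndS (p := 7452) (l := 3) rfl N7452 D21370
theorem N9134 : nd 9134 = n21371 := ndS (p := 7452) (l := 9) rfl N7452 D21371
theorem N9135 : nd 9135 = n21372 := ndS (p := 7453) (l := 3) rfl N7453 D21372
theorem N9136 : nd 9136 = n21373 := ndS (p := 7453) (l := 9) rfl N7453 D21373
theorem N9137 : nd 9137 = n21374 := ndS (p := 7454) (l := 2) rfl N7454 D21374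
theorem N9138 : nd 9138 = n21375 := ndS (p := 7454) (l := 9) rfl N7454 D21375
theorem N9139 : nd 9139 = n21376 := ndS (p := 7456) (l := 1) rfl N7456 D21376
theorem N9140 : nd 9140 = n21377 := ndS (p := 7456) (l := 9) rfl N7456 D21377
theorem N9141 : nd 9141 = n21378 := ndS (p := 7457) (l := 8) rfl N7457 D21378
theorem N9142 : nd 9142 = n21379 := ndS (p := 7459) (l := 8) rfl N7459 D21379
theorem N9143 : nd 9143 = n21380 := ndS (p := 7460) (l := 3) rfl N7460 D21380
theorem N9144 : nd 9144 = n21381 := ndS (p := 7460) (l := 9) rfl N7460 D21381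
theorem N9145 : nd 9145 = n21382 := ndS (p := 7461) (l := 2) rfl N7461 D21382
theorem N9146 : nd 9146 = n21383 := ndS (p := 7461) (l := 4) rfl N7461 D21383
theorem N9147 : nd 9147 = n21384 := ndS (p := 7461) (l := 9) rfl N7461 D21384
theorem N9148 : nd 9148 = n21385 := ndS (p := 7463) (l := 2) rfl N7463 D21385
theorem N9149 : nd 9149 = n21386 := ndS (p := 7463) (l := 9) rfl N7463 D21386
theorem N9150 : nd 9150 = n21387 := ndS (p := 7465) (l := 1) rfl N7465 D21387
theorem N9151 : nd 9151 = n21388 := ndS (p := 7465) (l := 9) rfl N7465 D21388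
theorem N9152 : nd 9152 = n21389 := ndS (p := 7466) (l := 8) rfl N7466 D21389
theorem N9153 : nd 9153 = n21390 := ndS (p := 7467) (l := 0) rfl N7467 D21390
theorem N9154 : nd 9154 = n21391 := ndS (p := 7467) (l := 9) rfl N7467 D21391
theorem N9155 : nd 9155 = n21392 := ndS (p := 7468) (l := 8) rfl N7468 D21392
theorem N9156 : nd 9156 = n21394 := ndS (p := 7470) (l := 6) rfl N7470 D21394
theorem N9157 : nd 9157 = n21396 := ndS (p := 7471) (l := 7) rfl N7471 D21396
theorem N9158 : nd 9158 = n21405 := ndS (p := 7472) (l := 5) rfl N7472 D21405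
theorem N9159 : nd 9159 = n21406 := ndS (p := 7472) (l := 7) rfl N7472 D21406
theorem N9160 : nd 9160 = n21407 := ndS (p := 7472) (l := 8) rfl N7472 D21407
theorem N9161 : nd 9161 = n21408 := ndS (p := 7473) (l := 3) rfl N7473 D21408
theorem N9162 : nd 9162 = n21409 := ndS (p := 7473) (l := 9) rfl N7473 D21409
theorem N9163 : nd 9163 = n21410 := ndS (p := 7474) (l := 8) rfl N7474 D21410
theorem N9164 : nd 9164 = n21412 := ndS (p := 7475) (l := 9) rfl N7475 D21412
theorem N9165 : nd 9165 = n21418 := ndS (p := 7477) (l := 7) rfl N7477 D21418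
theorem N9166 : nd 9166 = n21419 := ndS (p := 7477) (l := 8) rfl N7477 D21419
theorem N9167 : nd 9167 = n21420 := ndS (p := 7478) (l := 8) rfl N7478 D21420
theorem N9168 : nd 9168 = n21422 := ndS (p := 7479) (l := 9) rfl N7479 D21422
theorem N9169 : nd 9169 = n21425 := ndS (p := 7481) (l := 9) rfl N7481 D21425
theorem N9170 : nd 9170 = n21426 := ndS (p := 7483) (l := 5) rfl N7483 D21426
theorem N9171 : nd 9171 = n21427 := ndS (p := 7483) (l := 7) rfl N7483 D21427
theorem N9172 : nd 9172 = n21428 := ndS (p := 7483) (l := 8) rfl N7483 D21428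
theorem N9173 : nd 9173 = n21429 := ndS (p := 7484) (l := 3) rfl N7484 D21429
theorem N9174 : nd 9174 = n21430 := ndS (p := 7484) (l := 9) rfl N7484 D21430
theorem N9175 : nd 9175 = n21431 := ndS (p := 7485) (l := 7) rfl N7485 D21431
theorem N9176 : nd 9176 = n21432 := ndS (p := 7485) (l := 8) rfl N7485 D21432
theorem N9177 : nd 9177 = n21433 := ndS (p := 7486) (l := 8) rfl N7486 D21433
theorem N9178 : nd 9178 = n21434 := ndS (p := 7487) (l := 3) rfl N7487 D21434
theorem N9179 : nd 9179 = n21435 := ndS (p := 7487) (l := 9) rfl N7487 D21435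
theorem N9180 : nd 9180 = n21436 := ndS (p := 7488) (l := 2) rfl N7488 D21436
theorem N9181 : nd 9181 = n21437 := ndS (p := 7488) (l := 4) rfl N7488 D21437
theorem N9182 : nd 9182 = n21438 := ndS (p := 7488) (l := 9) rfl N7488 D21438
theorem N9183 : nd 9183 = n21439 := ndS (p := 7490) (l := 3) rfl N7490 D21439
theorem N9184 : nd 9184 = n21440 := ndS (p := 7490) (l := 9) rfl N7490 D21440
theorem N9185 : nd 9185 = n21441 := ndS (p := 7491) (l := 4) rfl N7491 D21441
theorem N9186 : nd 9186 = n21442 := ndS (p := 7491) (l := 9) rfl N7491 D21442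
theorem N9187 : nd 9187 = n21444 := ndS (p := 7493) (l := 9) rfl N7493 D21444
theorem N9188 : nd 9188 = n21449 := ndS (p := 7495) (l := 6) rfl N7495 D21449
theorem N9189 : nd 9189 = n21450 := ndS (p := 7495) (l := 8) rfl N7495 D21450
theorem N9190 : nd 9190 = n21451 := ndS (p := 7496) (l := 3) rfl N7496 D21451
theorem N9191 : nd 9191 = n21452 := ndS (p := 7496) (l := 9) rfl N7496 D21452
theorem N9192 : nd 9192 = n21453 := ndS (p := 7497) (l := 3) rfl N7497 D21453
theorem N9193 : nd 9193 = n21454 := ndS (p := 7497) (l := 9) rfl N7497 D21454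
theorem N9194 : nd 9194 = n21455 := ndS (p := 7498) (l := 2) rfl N7498 D21455
theorem N9195 : nd 9195 = n21456 := ndS (p := 7498) (l := 9) rfl N7498 D21456
theorem N9196 : nd 9196 = n21457 := ndS (p := 7500) (l := 1) rfl N7500 D21457
theorem N9197 : nd 9197 = n21458 := ndS (p := 7500) (l := 9) rfl N7500 D21458
theorem N9198 : nd 9198 = n21460 := ndS (p := 7503) (l := 8) rfl N7503 D21460
theorem N9199 : nd 9199 = n21461 := ndS (p := 7504) (l := 3) rfl N7504 D21461
theorem N9200 : nd 9200 = n21462 := ndS (p := 7504) (l := 9) rfl N7504 D21462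
theorem N9201 : nd 9201 = n21463 := ndS (p := 7505) (l := 2) rfl N7505 D21463
theorem N9202 : nd 9202 = n21464 := ndS (p := 7505) (l := 4) rfl N7505 D21464
theorem N9203 : nd 9203 = n21465 := ndS (p := 7505) (l := 9) rfl N7505 D21465
theorem N9204 : nd 9204 = n21466 := ndS (p := 7507) (l := 2) rfl N7507 D21466
theorem N9205 : nd 9205 = n21467 := ndS (p := 7507) (l := 9) rfl N7507 D21467
theorem N9206 : nd 9206 = n21468 := ndS (p := 7509) (l := 1) rfl N7509 D21468
theorem N9207 : nd 9207 = n21469 := ndS (p := 7509) (l := 9) rfl N7509 D21469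
theorem N9208 : nd 9208 = n21470 := ndS (p := 7510) (l := 8) rfl N7510 D21470
theorem N9209 : nd 9209 = n21471 := ndS (p := 7511) (l := 0) rfl N7511 D21471
theorem N9210 : nd 9210 = n21472 := ndS (p := 7511) (l := 9) rfl N7511 D21472
theorem N9211 : nd 9211 = n21473 := ndS (p := 7512) (l := 8) rfl N7512 D21473
theorem N9212 : nd 9212 = n21475 := ndS (p := 7514) (l := 6) rfl N7514 D21475
theorem N9213 : nd 9213 = n21476 := ndS (p := 7514) (l := 8) rfl N7514 D21476
theorem N9214 : nd 9214 = n21477 := ndS (p := 7515) (l := 5) rfl N7515 D21477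
theorem N9215 : nd 9215 = n21478 := ndS (p := 7515) (l := 7) rfl N7515 D21478
theorem N9216 : nd 9216 = n21493 := ndS (p := 7517) (l := 5) rfl N7517 D21493
theorem N9217 : nd 9217 = n21494 := ndS (p := 7517) (l := 7) rfl N7517 D21494
theorem N9218 : nd 9218 = n21495 := ndS (p := 7517) (l := 8) rfl N7517 D21495
theorem N9219 : nd 9219 = n21496 := ndS (p := 7518) (l := 3) rfl N7518 D21496
theorem N9220 : nd 9220 = n21497 := ndS (p := 7518) (l := 9) rfl N7518 D21497
theorem N9221 : nd 9221 = n21498 := ndS (p := 7519) (l := 7) rfl N7519 D21498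
theorem N9222 : nd 9222 = n21499 := ndS (p := 7519) (l := 8) rfl N7519 D21499
theorem N9223 : nd 9223 = n21500 := ndS (p := 7520) (l := 8) rfl N7520 D21500
theorem N9224 : nd 9224 = n21501 := ndS (p := 7521) (l := 3) rfl N7521 D21501
theorem N9225 : nd 9225 = n21502 := ndS (p := 7521) (l := 9) rfl N7521 D21502
theorem N9226 : nd 9226 = n21503 := ndS (p := 7522) (l := 2) rfl N7522 D21503
theorem N9227 : nd 9227 = n21505 := ndS (p := 7522) (l := 9) rfl N7522 D21505
theorem N9228 : nd 9228 = n21507 := ndS (p := 7524) (l := 9) rfl N7524 D21507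
theorem N9229 : nd 9229 = n21516 := ndS (p := 7526) (l := 6) rfl N7526 D21516
theorem N9230 : nd 9230 = n21517 := ndS (p := 7526) (l := 8) rfl N7526 D21517
theorem N9231 : nd 9231 = n21518 := ndS (p := 7527) (l := 3) rfl N7527 D21518
theorem N9232 : nd 9232 = n21519 := ndS (p := 7527) (l := 9) rfl N7527 D21519
theorem N9233 : nd 9233 = n21520 := ndS (p := 7528) (l := 3) rfl N7528 D21520
theorem N9234 : nd 9234 = n21521 := ndS (p := 7528) (l := 9) rfl N7528 D21521
theorem N9235 : nd 9235 = n21522 := ndS (p := 7529) (l := 2) rfl N7529 D21522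
theorem N9236 : nd 9236 = n21523 := ndS (p := 7529) (l := 9) rfl N7529 D21523
theorem N9237 : nd 9237 = n21524 := ndS (p := 7531) (l := 1) rfl N7531 D21524
theorem N9238 : nd 9238 = n21525 := ndS (p := 7531) (l := 9) rfl N7531 D21525
theorem N9239 : nd 9239 = n21527 := ndS (p := 7534) (l := 4) rfl N7534 D21527
theorem N9240 : nd 9240 = n21528 := ndS (p := 7534) (l := 7) rfl N7534 D21528
theorem N9241 : nd 9241 = n21529 := ndS (p := 7534) (l := 8) rfl N7534 D21529
theorem N9242 : nd 9242 = n21530 := ndS (p := 7535) (l := 8) rfl N7535 D21530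
theorem N9243 : nd 9243 = n21531 := ndS (p := 7536) (l := 3) rfl N7536 D21531
theorem N9244 : nd 9244 = n21532 := ndS (p := 7536) (l := 9) rfl N7536 D21532
theorem N9245 : nd 9245 = n21533 := ndS (p := 7537) (l := 2) rfl N7537 D21533
theorem N9246 : nd 9246 = n21534 := ndS (p := 7537) (l := 4) rfl N7537 D21534
theorem N9247 : nd 9247 = n21535 := ndS (p := 7537) (l := 9) rfl N7537 D21535
theorem N9248 : nd 9248 = n21536 := ndS (p := 7539) (l := 6) rfl N7539 D21536
theorem N9249 : nd 9249 = n21537 := ndS (p := 7539) (l := 8) rfl N7539 D21537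
theorem N9250 : nd 9250 = n21538 := ndS (p := 7540) (l := 3) rfl N7540 D21538
theorem N9251 : nd 9251 = n21539 := ndS (p := 7540) (l := 9) rfl N7540 D21539
theorem N9252 : nd 9252 = n21540 := ndS (p := 7541) (l := 3) rfl N7541 D21540
theorem N9253 : nd 9253 = n21541 := ndS (p := 7541) (l := 9) rfl N7541 D21541
theorem N9254 : nd 9254 = n21542 := ndS (p := 7542) (l := 2) rfl N7542 D21542
theorem N9255 : nd 9255 = n21543 := ndS (p := 7542) (l := 4) rfl N7542 D21543
theorem N9256 : nd 9256 = n21544 := ndS (p := 7542) (l := 9) rfl N7542 D21544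
theorem N9257 : nd 9257 = n21545 := ndS (p := 7544) (l := 1) rfl N7544 D21545
theorem N9258 : nd 9258 = n21546 := ndS (p := 7544) (l := 4) rfl N7544 D21546
theorem N9259 : nd 9259 = n21547 := ndS (p := 7544) (l := 9) rfl N7544 D21547
theorem N9260 : nd 9260 = n21548 := ndS (p := 7545) (l := 5) rfl N7545 D21548
theorem N9261 : nd 9261 = n21549 := ndS (p := 7545) (l := 9) rfl N7545 D21549
theorem N9262 : nd 9262 = n21550 := ndS (p := 7546) (l := 8) rfl N7546 D21550
theorem N9263 : nd 9263 = n21551 := ndS (p := 7547) (l := 4) rfl N7547 D21551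
theorem N9264 : nd 9264 = n21552 := ndS (p := 7547) (l := 9) rfl N7547 D21552
theorem N9265 : nd 9265 = n21553 := ndS (p := 7549) (l := 5) rfl N7549 D21553
theorem N9266 : nd 9266 = n21554 := ndS (p := 7549) (l := 9) rfl N7549 D21554
theorem N9267 : nd 9267 = n21556 := ndS (p := 7551) (l := 6) rfl N7551 D21556
theorem N9268 : nd 9268 = n21557 := ndS (p := 7551) (l := 9) rfl N7551 D21557
theorem N9269 : nd 9269 = n21559 := ndS (p := 7553) (l := 7) rfl N7553 D21559
theorem N9270 : nd 9270 = n21560 := ndS (p := 7553) (l := 9) rfl N7553 D21560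
theorem N9271 : nd 9271 = n21563 := ndS (p := 7555) (l := 8) rfl N7555 D21563
theorem N9272 : nd 9272 = n21564 := ndS (p := 7556) (l := 3) rfl N7556 D21564
theorem N9273 : nd 9273 = n21565 := ndS (p := 7556) (l := 9) rfl N7556 D21565
theorem N9274 : nd 9274 = n21566 := ndS (p := 7557) (l := 2) rfl N7557 D21566
theorem N9275 : nd 9275 = n21567 := ndS (p := 7557) (l := 4) rfl N7557 D21567
theorem N9276 : nd 9276 = n21568 := ndS (p := 7557) (l := 9) rfl N7557 D21568
theorem N9277 : nd 9277 = n21569 := ndS (p := 7559) (l := 2) rfl N7559 D21569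
theorem N9278 : nd 9278 = n21570 := ndS (p := 7559) (l := 9) rfl N7559 D21570
theorem N9279 : nd 9279 = n21571 := ndS (p := 7561) (l := 1) rfl N7561 D21571
theorem N9280 : nd 9280 = n21572 := ndS (p := 7561) (l := 9) rfl N7561 D21572
theorem N9281 : nd 9281 = n21573 := ndS (p := 7562) (l := 8) rfl N7562 D21573
theorem N9282 : nd 9282 = n21574 := ndS (p := 7563) (l := 0) rfl N7563 D21574
theorem N9283 : nd 9283 = n21575 := ndS (p := 7563) (l := 9) rfl N7563 D21575
theorem N9284 : nd 9284 = n21576 := ndS (p := 7564) (l := 8) rfl N7564 D21576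
theorem N9285 : nd 9285 = n21577 := ndS (p := 7566) (l := 3) rfl N7566 D21577
theorem N9286 : nd 9286 = n21578 := ndS (p := 7566) (l := 9) rfl N7566 D21578
theorem N9287 : nd 9287 = n21579 := ndS (p := 7567) (l := 2) rfl N7567 D21579
theorem N9288 : nd 9288 = n21580 := ndS (p := 7567) (l := 4) rfl N7567 D21580
theorem N9289 : nd 9289 = n21581 := ndS (p := 7567) (l := 9) rfl N7567 D21581
theorem N9290 : nd 9290 = n21582 := ndS (p := 7569) (l := 1) rfl N7569 D21582
theorem N9291 : nd 9291 = n21583 := ndS (p := 7569) (l := 4) rfl N7569 D21583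
theorem N9292 : nd 9292 = n21584 := ndS (p := 7569) (l := 9) rfl N7569 D21584
theorem N9293 : nd 9293 = n21585 := ndS (p := 7570) (l := 9) rfl N7570 D21585
theorem N9294 : nd 9294 = n21586 := ndS (p := 7571) (l := 8) rfl N7571 D21586
theorem N9295 : nd 9295 = n21587 := ndS (p := 7572) (l := 1) rfl N7572 D21587
theorem N9296 : nd 9296 = n21588 := ndS (p := 7572) (l := 9) rfl N7572 D21588
theorem N9297 : nd 9297 = n21589 := ndS (p := 7573) (l := 8) rfl N7573 D21589
theorem N9298 : nd 9298 = n21590 := ndS (p := 7574) (l := 0) rfl N7574 D21590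
theorem N9299 : nd 9299 = n21591 := ndS (p := 7574) (l := 9) rfl N7574 D21591
theorem N9300 : nd 9300 = n21592 := ndS (p := 7575) (l := 8) rfl N7575 D21592
theorem N9301 : nd 9301 = n21593 := ndS (p := 7577) (l := 9) rfl N7577 D21593
theorem N9302 : nd 9302 = n21594 := ndS (p := 7578) (l := 8) rfl N7578 D21594
theorem N9303 : nd 9303 = n21595 := ndS (p := 7579) (l := 3) rfl N7579 D21595
theorem N9304 : nd 9304 = n21635 := ndS (p := 7580) (l := 6) rfl N7580 D21635
theorem N9305 : nd 9305 = n21646 := ndS (p := 7581) (l := 4) rfl N7581 D21646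
theorem N9306 : nd 9306 = n21647 := ndS (p := 7581) (l := 7) rfl N7581 D21647
theorem N9307 : nd 9307 = n21648 := ndS (p := 7581) (l := 8) rfl N7581 D21648
theorem N9308 : nd 9308 = n21649 := ndS (p := 7582) (l := 8) rfl N7582 D21649
theorem N9309 : nd 9309 = n21651 := ndS (p := 7583) (l := 9) rfl N7583 D21651
theorem N9310 : nd 9310 = n21655 := ndS (p := 7585) (l := 6) rfl N7585 D21655
theorem N9311 : nd 9311 = n21678 := ndS (p := 7586) (l := 8) rfl N7586 D21678
theorem N9312 : nd 9312 = n21679 := ndS (p := 7587) (l := 3) rfl N7587 D21679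
theorem N9313 : nd 9313 = n21681 := ndS (p := 7588) (l := 2) rfl N7588 D21681
theorem N9314 : nd 9314 = n21682 := ndS (p := 7588) (l := 4) rfl N7588 D21682
theorem N9315 : nd 9315 = n21684 := ndS (p := 7589) (l := 2) rfl N7589 D21684
theorem N9316 : nd 9316 = n21686 := ndS (p := 7590) (l := 1) rfl N7590 D21686
theorem N9317 : nd 9317 = n21689 := ndS (p := 7591) (l := 0) rfl N7591 D21689
theorem N9318 : nd 9318 = n21692 := ndS (p := 7592) (l := 3) rfl N7592 D21692
theorem N9319 : nd 9319 = n21693 := ndS (p := 7592) (l := 9) rfl N7592 D21693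
theorem N9320 : nd 9320 = n21694 := ndS (p := 7593) (l := 2) rfl N7593 D21694
theorem N9321 : nd 9321 = n21695 := ndS (p := 7593) (l := 4) rfl N7593 D21695
theorem N9322 : nd 9322 = n21696 := ndS (p := 7593) (l := 9) rfl N7593 D21696
theorem N9323 : nd 9323 = n21697 := ndS (p := 7595) (l := 1) rfl N7595 D21697
theorem N9324 : nd 9324 = n21698 := ndS (p := 7595) (l := 4) rfl N7595 D21698
theorem N9325 : nd 9325 = n21699 := ndS (p := 7595) (l := 9) rfl N7595 D21699
theorem N9326 : nd 9326 = n21700 := ndS (p := 7596) (l := 9) rfl N7596 D21700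
theorem N9327 : nd 9327 = n21701 := ndS (p := 7597) (l := 8) rfl N7597 D21701
theorem N9328 : nd 9328 = n21702 := ndS (p := 7598) (l := 1) rfl N7598 D21702
theorem N9329 : nd 9329 = n21703 := ndS (p := 7598) (l := 9) rfl N7598 D21703
theorem N9330 : nd 9330 = n21704 := ndS (p := 7599) (l := 8) rfl N7599 D21704
theorem N9331 : nd 9331 = n21705 := ndS (p := 7600) (l := 0) rfl N7600 D21705
theorem N9332 : nd 9332 = n21706 := ndS (p := 7600) (l := 9) rfl N7600 D21706
theorem N9333 : nd 9333 = n21707 := ndS (p := 7601) (l := 8) rfl N7601 D21707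
theorem N9334 : nd 9334 = n21708 := ndS (p := 7603) (l := 9) rfl N7603 D21708
theorem N9335 : nd 9335 = n21709 := ndS (p := 7604) (l := 8) rfl N7604 D21709
theorem N9336 : nd 9336 = n21710 := ndS (p := 7605) (l := 3) rfl N7605 D21710
theorem N9337 : nd 9337 = n21726 := ndS (p := 7606) (l := 4) rfl N7606 D21726
theorem N9338 : nd 9338 = n21727 := ndS (p := 7606) (l := 7) rfl N7606 D21727
theorem N9339 : nd 9339 = n21728 := ndS (p := 7606) (l := 8) rfl N7606 D21728
theorem N9340 : nd 9340 = n21729 := ndS (p := 7607) (l := 8) rfl N7607 D21729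
theorem N9341 : nd 9341 = n21731 := ndS (p := 7608) (l := 9) rfl N7608 D21731
theorem N9342 : nd 9342 = n21734 := ndS (p := 7610) (l := 6) rfl N7610 D21734
theorem N9343 : nd 9343 = n21745 := ndS (p := 7611) (l := 8) rfl N7611 D21745
theorem N9344 : nd 9344 = n21746 := ndS (p := 7612) (l := 3) rfl N7612 D21746
theorem N9345 : nd 9345 = n21748 := ndS (p := 7613) (l := 2) rfl N7613 D21748
theorem N9346 : nd 9346 = n21749 := ndS (p := 7613) (l := 4) rfl N7613 D21749
theorem N9347 : nd 9347 = n21751 := ndS (p := 7614) (l := 2) rfl N7614 D21751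
theorem N9348 : nd 9348 = n21753 := ndS (p := 7615) (l := 1) rfl N7615 D21753
theorem N9349 : nd 9349 = n21756 := ndS (p := 7616) (l := 0) rfl N7616 D21756
theorem N9350 : nd 9350 = n21759 := ndS (p := 7617) (l := 7) rfl N7617 D21759
theorem N9351 : nd 9351 = n21760 := ndS (p := 7617) (l := 8) rfl N7617 D21760
theorem N9352 : nd 9352 = n21761 := ndS (p := 7618) (l := 6) rfl N7618 D21761
theorem N9353 : nd 9353 = n21762 := ndS (p := 7618) (l := 8) rfl N7618 D21762
theorem N9354 : nd 9354 = n21763 := ndS (p := 7619) (l := 3) rfl N7619 D21763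
theorem N9355 : nd 9355 = n21764 := ndS (p := 7619) (l := 9) rfl N7619 D21764
theorem N9356 : nd 9356 = n21765 := ndS (p := 7620) (l := 3) rfl N7620 D21765
theorem N9357 : nd 9357 = n21766 := ndS (p := 7620) (l := 9) rfl N7620 D21766
theorem N9358 : nd 9358 = n21767 := ndS (p := 7621) (l := 2) rfl N7621 D21767
theorem N9359 : nd 9359 = n21768 := ndS (p := 7621) (l := 9) rfl N7621 D21768
theorem N9360 : nd 9360 = n21769 := ndS (p := 7623) (l := 1) rfl N7623 D21769
theorem N9361 : nd 9361 = n21770 := ndS (p := 7623) (l := 9) rfl N7623 D21770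
theorem N9362 : nd 9362 = n21772 := ndS (p := 7625) (l := 8) rfl N7625 D21772
theorem N9363 : nd 9363 = n21773 := ndS (p := 7626) (l := 3) rfl N7626 D21773
theorem N9364 : nd 9364 = n21775 := ndS (p := 7627) (l := 2) rfl N7627 D21775
theorem N9365 : nd 9365 = n21776 := ndS (p := 7627) (l := 4) rfl N7627 D21776
theorem N9366 : nd 9366 = n21778 := ndS (p := 7628) (l := 2) rfl N7628 D21778
theorem N9367 : nd 9367 = n21780 := ndS (p := 7629) (l := 1) rfl N7629 D21780
theorem N9368 : nd 9368 = n21783 := ndS (p := 7630) (l := 0) rfl N7630 D21783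
theorem N9369 : nd 9369 = n21786 := ndS (p := 7631) (l := 3) rfl N7631 D21786
theorem N9370 : nd 9370 = n21787 := ndS (p := 7631) (l := 9) rfl N7631 D21787
theorem N9371 : nd 9371 = n21788 := ndS (p := 7632) (l := 2) rfl N7632 D21788
theorem N9372 : nd 9372 = n21789 := ndS (p := 7632) (l := 4) rfl N7632 D21789
theorem N9373 : nd 9373 = n21790 := ndS (p := 7632) (l := 9) rfl N7632 D21790
theorem N9374 : nd 9374 = n21791 := ndS (p := 7634) (l := 1) rfl N7634 D21791
theorem N9375 : nd 9375 = n21792 := ndS (p := 7634) (l := 4) rfl N7634 D21792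
theorem N9376 : nd 9376 = n21793 := ndS (p := 7634) (l := 9) rfl N7634 D21793
theorem N9377 : nd 9377 = n21794 := ndS (p := 7635) (l := 9) rfl N7635 D21794
theorem N9378 : nd 9378 = n21795 := ndS (p := 7636) (l := 8) rfl N7636 D21795
theorem N9379 : nd 9379 = n21796 := ndS (p := 7637) (l := 1) rfl N7637 D21796
theorem N9380 : nd 9380 = n21797 := ndS (p := 7637) (l := 9) rfl N7637 D21797
theorem N9381 : nd 9381 = n21798 := ndS (p := 7638) (l := 8) rfl N7638 D21798
theorem N9382 : nd 9382 = n21799 := ndS (p := 7639) (l := 0) rfl N7639 D21799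
theorem N9383 : nd 9383 = n21800 := ndS (p := 7639) (l := 9) rfl N7639 D21800
theorem N9384 : nd 9384 = n21801 := ndS (p := 7640) (l := 8) rfl N7640 D21801
theorem N9385 : nd 9385 = n21802 := ndS (p := 7642) (l := 9) rfl N7642 D21802
theorem N9386 : nd 9386 = n21803 := ndS (p := 7643) (l := 8) rfl N7643 D21803
theorem N9387 : nd 9387 = n21804 := ndS (p := 7644) (l := 3) rfl N7644 D21804
theorem N9388 : nd 9388 = n21813 := ndS (p := 7650) (l := 0) rfl N7650 D21813
theorem N9389 : nd 9389 = n21820 := ndS (p := 7652) (l := 0) rfl N7652 D21820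
theorem N9390 : nd 9390 = n21823 := ndS (p := 7654) (l := 9) rfl N7654 D21823
theorem N9391 : nd 9391 = n21824 := ndS (p := 7655) (l := 8) rfl N7655 D21824
theorem N9392 : nd 9392 = n21825 := ndS (p := 7656) (l := 3) rfl N7656 D21825
theorem N9393 : nd 9393 = n21826 := ndS (p := 7657) (l := 8) rfl N7657 D21826
theorem N9394 : nd 9394 = n21827 := ndS (p := 7658) (l := 3) rfl N7658 D21827
theorem N9395 : nd 9395 = n21828 := ndS (p := 7659) (l := 4) rfl N7659 D21828
theorem N9396 : nd 9396 = n21845 := ndS (p := 7660) (l := 9) rfl N7660 D21845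
theorem N9397 : nd 9397 = n21848 := ndS (p := 7661) (l := 9) rfl N7661 D21848
theorem N9398 : nd 9398 = n21857 := ndS (p := 7663) (l := 3) rfl N7663 D21857
theorem N9399 : nd 9399 = n21858 := ndS (p := 7663) (l := 9) rfl N7663 D21858
theorem N9400 : nd 9400 = n21859 := ndS (p := 7664) (l := 2) rfl N7664 D21859
theorem N9401 : nd 9401 = n21860 := ndS (p := 7664) (l := 9) rfl N7664 D21860
theorem N9402 : nd 9402 = n21861 := ndS (p := 7666) (l := 9) rfl N7666 D21861
theorem N9403 : nd 9403 = n21871 := ndS (p := 7668) (l := 9) rfl N7668 D21871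
theorem N9404 : nd 9404 = n21872 := ndS (p := 7669) (l := 2) rfl N7669 D21872
theorem N9405 : nd 9405 = n21873 := ndS (p := 7669) (l := 4) rfl N7669 D21873
theorem N9406 : nd 9406 = n21874 := ndS (p := 7669) (l := 9) rfl N7669 D21874
theorem N9407 : nd 9407 = n21875 := ndS (p := 7671) (l := 3) rfl N7671 D21875
theorem N9408 : nd 9408 = n21876 := ndS (p := 7671) (l := 9) rfl N7671 D21876
theorem N9409 : nd 9409 = n21877 := ndS (p := 7672) (l := 4) rfl N7672 D21877
theorem N9410 : nd 9410 = n21878 := ndS (p := 7672) (l := 9) rfl N7672 D21878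
theorem N9411 : nd 9411 = n21879 := ndS (p := 7674) (l := 5) rfl N7674 D21879
theorem N9412 : nd 9412 = n21880 := ndS (p := 7674) (l := 9) rfl N7674 D21880
theorem N9413 : nd 9413 = n21882 := ndS (p := 7676) (l := 6) rfl N7676 D21882
theorem N9414 : nd 9414 = n21883 := ndS (p := 7676) (l := 9) rfl N7676 D21883
theorem N9415 : nd 9415 = n21887 := ndS (p := 7678) (l := 3) rfl N7678 D21887
theorem N9416 : nd 9416 = n21888 := ndS (p := 7678) (l := 9) rfl N7678 D21888
theorem N9417 : nd 9417 = n21889 := ndS (p := 7679) (l := 3) rfl N7679 D21889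
theorem N9418 : nd 9418 = n21890 := ndS (p := 7679) (l := 9) rfl N7679 D21890
theorem N9419 : nd 9419 = n21891 := ndS (p := 7680) (l := 2) rfl N7680 D21891
theorem N9420 : nd 9420 = n21892 := ndS (p := 7680) (l := 9) rfl N7680 D21892
theorem N9421 : nd 9421 = n21893 := ndS (p := 7682) (l := 1) rfl N7682 D21893
theorem N9422 : nd 9422 = n21894 := ndS (p := 7682) (l := 9) rfl N7682 D21894
theorem N9423 : nd 9423 = n21895 := ndS (p := 7683) (l := 8) rfl N7683 D21895
theorem N9424 : nd 9424 = n21897 := ndS (p := 7685) (l := 3) rfl N7685 D21897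
theorem N9425 : nd 9425 = n21898 := ndS (p := 7685) (l := 9) rfl N7685 D21898
theorem N9426 : nd 9426 = n21899 := ndS (p := 7686) (l := 2) rfl N7686 D21899
theorem N9427 : nd 9427 = n21900 := ndS (p := 7686) (l := 4) rfl N7686 D21900
theorem N9428 : nd 9428 = n21901 := ndS (p := 7686) (l := 9) rfl N7686 D21901
theorem N9429 : nd 9429 = n21902 := ndS (p := 7688) (l := 2) rfl N7688 D21902
theorem N9430 : nd 9430 = n21903 := ndS (p := 7688) (l := 9) rfl N7688 D21903
theorem N9431 : nd 9431 = n21904 := ndS (p := 7690) (l := 1) rfl N7690 D21904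
theorem N9432 : nd 9432 = n21905 := ndS (p := 7690) (l := 9) rfl N7690 D21905
theorem N9433 : nd 9433 = n21906 := ndS (p := 7691) (l := 8) rfl N7691 D21906
theorem N9434 : nd 9434 = n21907 := ndS (p := 7692) (l := 0) rfl N7692 D21907
theorem N9435 : nd 9435 = n21908 := ndS (p := 7692) (l := 9) rfl N7692 D21908
theorem N9436 : nd 9436 = n21909 := ndS (p := 7693) (l := 8) rfl N7693 D21909
theorem N9437 : nd 9437 = n21938 := ndS (p := 7695) (l := 9) rfl N7695 D21938
theorem N9438 : nd 9438 = n21939 := ndS (p := 7696) (l := 2) rfl N7696 D21939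
theorem N9439 : nd 9439 = n21941 := ndS (p := 7696) (l := 9) rfl N7696 D21941
theorem N9440 : nd 9440 = n21943 := ndS (p := 7698) (l := 9) rfl N7698 D21943
theorem N9441 : nd 9441 = n21954 := ndS (p := 7700) (l := 3) rfl N7700 D21954
theorem N9442 : nd 9442 = n21955 := ndS (p := 7700) (l := 9) rfl N7700 D21955
theorem N9443 : nd 9443 = n21956 := ndS (p := 7701) (l := 3) rfl N7701 D21956
theorem N9444 : nd 9444 = n21957 := ndS (p := 7701) (l := 9) rfl N7701 D21957
theorem N9445 : nd 9445 = n21958 := ndS (p := 7702) (l := 2) rfl N7702 D21958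
theorem N9446 : nd 9446 = n21959 := ndS (p := 7702) (l := 9) rfl N7702 D21959
theorem N9447 : nd 9447 = n21960 := ndS (p := 7704) (l := 1) rfl N7704 D21960
theorem N9448 : nd 9448 = n21961 := ndS (p := 7704) (l := 9) rfl N7704 D21961
theorem N9449 : nd 9449 = n21962 := ndS (p := 7705) (l := 8) rfl N7705 D21962
theorem N9450 : nd 9450 = n21968 := ndS (p := 7707) (l := 2) rfl N7707 D21968
theorem N9451 : nd 9451 = n21969 := ndS (p := 7707) (l := 4) rfl N7707 D21969
theorem N9452 : nd 9452 = n21970 := ndS (p := 7707) (l := 9) rfl N7707 D21970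
theorem N9453 : nd 9453 = n21974 := ndS (p := 7709) (l := 9) rfl N7709 D21974
theorem N9454 : nd 9454 = n21976 := ndS (p := 7710) (l := 9) rfl N7710 D21976
theorem N9455 : nd 9455 = n21977 := ndS (p := 7711) (l := 2) rfl N7711 D21977
theorem N9456 : nd 9456 = n21978 := ndS (p := 7711) (l := 4) rfl N7711 D21978
theorem N9457 : nd 9457 = n21979 := ndS (p := 7711) (l := 9) rfl N7711 D21979
theorem N9458 : nd 9458 = n21980 := ndS (p := 7713) (l := 1) rfl N7713 D21980
theorem N9459 : nd 9459 = n21981 := ndS (p := 7713) (l := 4) rfl N7713 D21981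
theorem N9460 : nd 9460 = n21982 := ndS (p := 7713) (l := 9) rfl N7713 D21982
theorem N9461 : nd 9461 = n21983 := ndS (p := 7714) (l := 5) rfl N7714 D21983
theorem N9462 : nd 9462 = n21984 := ndS (p := 7714) (l := 9) rfl N7714 D21984
theorem N9463 : nd 9463 = n21985 := ndS (p := 7715) (l := 8) rfl N7715 D21985
theorem N9464 : nd 9464 = n21986 := ndS (p := 7716) (l := 4) rfl N7716 D21986
theorem N9465 : nd 9465 = n21987 := ndS (p := 7716) (l := 9) rfl N7716 D21987
theorem N9466 : nd 9466 = n21988 := ndS (p := 7718) (l := 5) rfl N7718 D21988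
theorem N9467 : nd 9467 = n21989 := ndS (p := 7718) (l := 9) rfl N7718 D21989
theorem N9468 : nd 9468 = n21991 := ndS (p := 7720) (l := 6) rfl N7720 D21991
theorem N9469 : nd 9469 = n21992 := ndS (p := 7720) (l := 9) rfl N7720 D21992
theorem N9470 : nd 9470 = n21994 := ndS (p := 7722) (l := 7) rfl N7722 D21994
theorem N9471 : nd 9471 = n21995 := ndS (p := 7722) (l := 9) rfl N7722 D21995
theorem N9472 : nd 9472 = n21999 := ndS (p := 7724) (l := 3) rfl N7724 D21999
theorem N9473 : nd 9473 = n22000 := ndS (p := 7724) (l := 9) rfl N7724 D22000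
theorem N9474 : nd 9474 = n22001 := ndS (p := 7725) (l := 2) rfl N7725 D22001
theorem N9475 : nd 9475 = n22002 := ndS (p := 7725) (l := 4) rfl N7725 D22002
theorem N9476 : nd 9476 = n22003 := ndS (p := 7725) (l := 9) rfl N7725 D22003
theorem N9477 : nd 9477 = n22004 := ndS (p := 7727) (l := 2) rfl N7727 D22004
theorem N9478 : nd 9478 = n22005 := ndS (p := 7727) (l := 9) rfl N7727 D22005
theorem N9479 : nd 9479 = n22006 := ndS (p := 7729) (l := 1) rfl N7729 D22006
theorem N9480 : nd 9480 = n22007 := ndS (p := 7729) (l := 9) rfl N7729 D22007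
theorem N9481 : nd 9481 = n22008 := ndS (p := 7730) (l := 8) rfl N7730 D22008
theorem N9482 : nd 9482 = n22009 := ndS (p := 7731) (l := 0) rfl N7731 D22009
theorem N9483 : nd 9483 = n22010 := ndS (p := 7731) (l := 9) rfl N7731 D22010
theorem N9484 : nd 9484 = n22011 := ndS (p := 7732) (l := 8) rfl N7732 D22011
theorem N9485 : nd 9485 = n22013 := ndS (p := 7734) (l := 9) rfl N7734 D22013
theorem N9486 : nd 9486 = n22014 := ndS (p := 7735) (l := 2) rfl N7735 D22014
theorem N9487 : nd 9487 = n22016 := ndS (p := 7735) (l := 9) rfl N7735 D22016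
theorem N9488 : nd 9488 = n22017 := ndS (p := 7737) (l := 1) rfl N7737 D22017
theorem N9489 : nd 9489 = n22018 := ndS (p := 7737) (l := 4) rfl N7737 D22018
theorem N9490 : nd 9490 = n22019 := ndS (p := 7737) (l := 9) rfl N7737 D22019
theorem N9491 : nd 9491 = n22020 := ndS (p := 7738) (l := 9) rfl N7738 D22020
theorem N9492 : nd 9492 = n22021 := ndS (p := 7739) (l := 8) rfl N7739 D22021
theorem N9493 : nd 9493 = n22022 := ndS (p := 7740) (l := 1) rfl N7740 D22022
theorem N9494 : nd 9494 = n22023 := ndS (p := 7740) (l := 9) rfl N7740 D22023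
theorem N9495 : nd 9495 = n22024 := ndS (p := 7741) (l := 8) rfl N7741 D22024
theorem N9496 : nd 9496 = n22025 := ndS (p := 7742) (l := 0) rfl N7742 D22025
theorem N9497 : nd 9497 = n22026 := ndS (p := 7742) (l := 9) rfl N7742 D22026
theorem N9498 : nd 9498 = n22027 := ndS (p := 7743) (l := 8) rfl N7743 D22027
theorem N9499 : nd 9499 = n22028 := ndS (p := 7745) (l := 9) rfl N7745 D22028
theorem N9500 : nd 9500 = n22029 := ndS (p := 7746) (l := 8) rfl N7746 D22029
theorem N9501 : nd 9501 = n22030 := ndS (p := 7747) (l := 3) rfl N7747 D22030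
theorem N9502 : nd 9502 = n22058 := ndS (p := 7748) (l := 3) rfl N7748 D22058
theorem N9503 : nd 9503 = n22059 := ndS (p := 7748) (l := 9) rfl N7748 D22059
theorem N9504 : nd 9504 = n22060 := ndS (p := 7749) (l := 3) rfl N7749 D22060
theorem N9505 : nd 9505 = n22061 := ndS (p := 7749) (l := 9) rfl N7749 D22061
theorem N9506 : nd 9506 = n22062 := ndS (p := 7750) (l := 2) rfl N7750 D22062
theorem N9507 : nd 9507 = n22064 := ndS (p := 7750) (l := 9) rfl N7750 D22064
theorem N9508 : nd 9508 = n22065 := ndS (p := 7752) (l := 1) rfl N7752 D22065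
theorem N9509 : nd 9509 = n22067 := ndS (p := 7752) (l := 9) rfl N7752 D22067
theorem N9510 : nd 9510 = n22070 := ndS (p := 7753) (l := 8) rfl N7753 D22070
theorem N9511 : nd 9511 = n22084 := ndS (p := 7755) (l := 3) rfl N7755 D22084
theorem N9512 : nd 9512 = n22085 := ndS (p := 7755) (l := 9) rfl N7755 D22085
theorem N9513 : nd 9513 = n22086 := ndS (p := 7756) (l := 2) rfl N7756 D22086
theorem N9514 : nd 9514 = n22087 := ndS (p := 7756) (l := 4) rfl N7756 D22087
theorem N9515 : nd 9515 = n22088 := ndS (p := 7756) (l := 9) rfl N7756 D22088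
theorem N9516 : nd 9516 = n22089 := ndS (p := 7758) (l := 2) rfl N7758 D22089
theorem N9517 : nd 9517 = n22090 := ndS (p := 7758) (l := 9) rfl N7758 D22090
theorem N9518 : nd 9518 = n22091 := ndS (p := 7760) (l := 1) rfl N7760 D22091
theorem N9519 : nd 9519 = n22092 := ndS (p := 7760) (l := 9) rfl N7760 D22092
theorem N9520 : nd 9520 = n22093 := ndS (p := 7761) (l := 8) rfl N7761 D22093
theorem N9521 : nd 9521 = n22094 := ndS (p := 7762) (l := 0) rfl N7762 D22094
theorem N9522 : nd 9522 = n22095 := ndS (p := 7762) (l := 9) rfl N7762 D22095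
theorem N9523 : nd 9523 = n22096 := ndS (p := 7763) (l := 8) rfl N7763 D22096
theorem N9524 : nd 9524 = n22098 := ndS (p := 7765) (l := 3) rfl N7765 D22098
theorem N9525 : nd 9525 = n22099 := ndS (p := 7765) (l := 9) rfl N7765 D22099
theorem N9526 : nd 9526 = n22100 := ndS (p := 7766) (l := 2) rfl N7766 D22100
theorem N9527 : nd 9527 = n22101 := ndS (p := 7766) (l := 4) rfl N7766 D22101
theorem N9528 : nd 9528 = n22102 := ndS (p := 7766) (l := 9) rfl N7766 D22102
theorem N9529 : nd 9529 = n22103 := ndS (p := 7768) (l := 2) rfl N7768 D22103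
theorem N9530 : nd 9530 = n22104 := ndS (p := 7768) (l := 4) rfl N7768 D22104
theorem N9531 : nd 9531 = n22105 := ndS (p := 7768) (l := 9) rfl N7768 D22105
theorem N9532 : nd 9532 = n22106 := ndS (p := 7770) (l := 1) rfl N7770 D22106
theorem N9533 : nd 9533 = n22107 := ndS (p := 7770) (l := 4) rfl N7770 D22107
theorem N9534 : nd 9534 = n22108 := ndS (p := 7770) (l := 9) rfl N7770 D22108
theorem N9535 : nd 9535 = n22109 := ndS (p := 7771) (l := 5) rfl N7771 D22109
theorem N9536 : nd 9536 = n22110 := ndS (p := 7771) (l := 9) rfl N7771 D22110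
theorem N9537 : nd 9537 = n22111 := ndS (p := 7772) (l := 8) rfl N7772 D22111
theorem N9538 : nd 9538 = n22112 := ndS (p := 7773) (l := 0) rfl N7773 D22112
theorem N9539 : nd 9539 = n22113 := ndS (p := 7773) (l := 4) rfl N7773 D22113
theorem N9540 : nd 9540 = n22114 := ndS (p := 7773) (l := 9) rfl N7773 D22114
theorem N9541 : nd 9541 = n22115 := ndS (p := 7774) (l := 5) rfl N7774 D22115
theorem N9542 : nd 9542 = n22116 := ndS (p := 7774) (l := 9) rfl N7774 D22116
theorem N9543 : nd 9543 = n22117 := ndS (p := 7775) (l := 8) rfl N7775 D22117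
theorem N9544 : nd 9544 = n22118 := ndS (p := 7776) (l := 6) rfl N7776 D22118
theorem N9545 : nd 9545 = n22119 := ndS (p := 7776) (l := 9) rfl N7776 D22119
theorem N9546 : nd 9546 = n22120 := ndS (p := 7777) (l := 8) rfl N7777 D22120
theorem N9547 : nd 9547 = n22121 := ndS (p := 7779) (l := 5) rfl N7779 D22121
theorem N9548 : nd 9548 = n22122 := ndS (p := 7779) (l := 9) rfl N7779 D22122
theorem N9549 : nd 9549 = n22124 := ndS (p := 7781) (l := 6) rfl N7781 D22124
theorem N9550 : nd 9550 = n22125 := ndS (p := 7781) (l := 9) rfl N7781 D22125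
theorem N9551 : nd 9551 = n22127 := ndS (p := 7783) (l := 7) rfl N7783 D22127
theorem N9552 : nd 9552 = n22128 := ndS (p := 7783) (l := 9) rfl N7783 D22128
theorem N9553 : nd 9553 = n22131 := ndS (p := 7785) (l := 9) rfl N7785 D22131
theorem N9554 : nd 9554 = n22136 := ndS (p := 7787) (l := 9) rfl N7787 D22136
theorem N9555 : nd 9555 = n22137 := ndS (p := 7788) (l := 2) rfl N7788 D22137
theorem N9556 : nd 9556 = n22139 := ndS (p := 7788) (l := 9) rfl N7788 D22139
theorem N9557 : nd 9557 = n22140 := ndS (p := 7790) (l := 1) rfl N7790 D22140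
theorem N9558 : nd 9558 = n22141 := ndS (p := 7790) (l := 4) rfl N7790 D22141
theorem N9559 : nd 9559 = n22142 := ndS (p := 7790) (l := 9) rfl N7790 D22142
theorem N9560 : nd 9560 = n22143 := ndS (p := 7791) (l := 9) rfl N7791 D22143
theorem N9561 : nd 9561 = n22144 := ndS (p := 7792) (l := 8) rfl N7792 D22144
theorem N9562 : nd 9562 = n22145 := ndS (p := 7793) (l := 1) rfl N7793 D22145
theorem N9563 : nd 9563 = n22146 := ndS (p := 7793) (l := 9) rfl N7793 D22146
theorem N9564 : nd 9564 = n22147 := ndS (p := 7794) (l := 8) rfl N7794 D22147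
theorem N9565 : nd 9565 = n22148 := ndS (p := 7795) (l := 0) rfl N7795 D22148
theorem N9566 : nd 9566 = n22149 := ndS (p := 7795) (l := 9) rfl N7795 D22149
theorem N9567 : nd 9567 = n22150 := ndS (p := 7796) (l := 8) rfl N7796 D22150
theorem N9568 : nd 9568 = n22151 := ndS (p := 7798) (l := 9) rfl N7798 D22151
theorem N9569 : nd 9569 = n22152 := ndS (p := 7799) (l := 8) rfl N7799 D22152
theorem N9570 : nd 9570 = n22153 := ndS (p := 7800) (l := 3) rfl N7800 D22153
theorem N9571 : nd 9571 = n22162 := ndS (p := 7803) (l := 0) rfl N7803 D22162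
theorem N9572 : nd 9572 = n22169 := ndS (p := 7807) (l := 0) rfl N7807 D22169
theorem N9573 : nd 9573 = n22172 := ndS (p := 7808) (l := 9) rfl N7808 D22172
theorem N9574 : nd 9574 = n22175 := ndS (p := 7810) (l := 8) rfl N7810 D22175
theorem N9575 : nd 9575 = n22180 := ndS (p := 7812) (l := 2) rfl N7812 D22180
theorem N9576 : nd 9576 = n22183 := ndS (p := 7813) (l := 1) rfl N7813 D22183
theorem N9577 : nd 9577 = n22184 := ndS (p := 7813) (l := 4) rfl N7813 D22184
theorem N9578 : nd 9578 = n22185 := ndS (p := 7813) (l := 9) rfl N7813 D22185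
theorem N9579 : nd 9579 = n22188 := ndS (p := 7816) (l := 1) rfl N7816 D22188
theorem N9580 : nd 9580 = n22189 := ndS (p := 7816) (l := 9) rfl N7816 D22189
theorem N9581 : nd 9581 = n22191 := ndS (p := 7818) (l := 0) rfl N7818 D22191
theorem N9582 : nd 9582 = n22192 := ndS (p := 7818) (l := 9) rfl N7818 D22192
theorem N9583 : nd 9583 = n22193 := ndS (p := 7819) (l := 8) rfl N7819 D22193
theorem N9584 : nd 9584 = n22194 := ndS (p := 7821) (l := 9) rfl N7821 D22194
theorem N9585 : nd 9585 = n22195 := ndS (p := 7822) (l := 8) rfl N7822 D22195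
theorem N9586 : nd 9586 = n22196 := ndS (p := 7823) (l := 3) rfl N7823 D22196
theorem N9587 : nd 9587 = n22208 := ndS (p := 7826) (l := 3) rfl N7826 D22208
theorem N9588 : nd 9588 = n22217 := ndS (p := 7829) (l := 3) rfl N7829 D22217
theorem N9589 : nd 9589 = n22218 := ndS (p := 7830) (l := 8) rfl N7830 D22218
theorem N9590 : nd 9590 = n22219 := ndS (p := 7831) (l := 3) rfl N7831 D22219
theorem N9591 : nd 9591 = n22220 := ndS (p := 7832) (l := 4) rfl N7832 D22220
theorem N9592 : nd 9592 = n22298 := ndS (p := 7834) (l := 2) rfl N7834 D22298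
theorem N9593 : nd 9593 = n22784 := ndS (p := 7842) (l := 5) rfl N7842 D22784
theorem N9594 : nd 9594 = n22889 := ndS (p := 7843) (l := 8) rfl N7843 D22889
theorem N9595 : nd 9595 = n22933 := ndS (p := 7848) (l := 8) rfl N7848 D22933
theorem N9596 : nd 9596 = n22959 := ndS (p := 7852) (l := 9) rfl N7852 D22959
theorem N9597 : nd 9597 = n22972 := ndS (p := 7854) (l := 5) rfl N7854 D22972
theorem N9598 : nd 9598 = n22975 := ndS (p := 7855) (l := 6) rfl N7855 D22975
theorem N9599 : nd 9599 = n23127 := ndS (p := 7856) (l := 5) rfl N7856 D23127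
theorem N9600 : nd 9600 = n23128 := ndS (p := 7856) (l := 7) rfl N7856 D23128
theorem N9601 : nd 9601 = n23129 := ndS (p := 7856) (l := 8) rfl N7856 D23129
theorem N9602 : nd 9602 = n23131 := ndS (p := 7857) (l := 9) rfl N7857 D23131
theorem N9603 : nd 9603 = n23175 := ndS (p := 7860) (l := 2) rfl N7860 D23175
theorem N9604 : nd 9604 = n23176 := ndS (p := 7860) (l := 6) rfl N7860 D23176
theorem N9605 : nd 9605 = n23177 := ndS (p := 7860) (l := 8) rfl N7860 D23177
theorem N9606 : nd 9606 = n23196 := ndS (p := 7863) (l := 8) rfl N7863 D23196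
theorem N9607 : nd 9607 = n23197 := ndS (p := 7864) (l := 3) rfl N7864 D23197
theorem N9608 : nd 9608 = n23198 := ndS (p := 7864) (l := 9) rfl N7864 D23198
theorem N9609 : nd 9609 = n23202 := ndS (p := 7865) (l := 3) rfl N7865 D23202
theorem N9610 : nd 9610 = n23228 := ndS (p := 7869) (l := 4) rfl N7869 D23228
theorem N9611 : nd 9611 = n23230 := ndS (p := 7869) (l := 8) rfl N7869 D23230
theorem N9612 : nd 9612 = n23231 := ndS (p := 7870) (l := 8) rfl N7870 D23231
theorem N9613 : nd 9613 = n23232 := ndS (p := 7871) (l := 3) rfl N7871 D23232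
theorem N9614 : nd 9614 = n23233 := ndS (p := 7871) (l := 9) rfl N7871 D23233
theorem N9615 : nd 9615 = n23234 := ndS (p := 7872) (l := 2) rfl N7872 D23234
theorem N9616 : nd 9616 = n23235 := ndS (p := 7872) (l := 4) rfl N7872 D23235
theorem N9617 : nd 9617 = n23236 := ndS (p := 7872) (l := 9) rfl N7872 D23236
theorem N9618 : nd 9618 = n23244 := ndS (p := 7874) (l := 4) rfl N7874 D23244
theorem N9619 : nd 9619 = n23251 := ndS (p := 7877) (l := 4) rfl N7877 D23251
theorem N9620 : nd 9620 = n23253 := ndS (p := 7878) (l := 5) rfl N7878 D23253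
theorem N9621 : nd 9621 = n23256 := ndS (p := 7879) (l := 6) rfl N7879 D23256
theorem N9622 : nd 9622 = n23259 := ndS (p := 7880) (l := 7) rfl N7880 D23259
theorem N9623 : nd 9623 = n23303 := ndS (p := 7884) (l := 8) rfl N7884 D23303
theorem N9624 : nd 9624 = n23347 := ndS (p := 7885) (l := 8) rfl N7885 D23347
theorem N9625 : nd 9625 = n23373 := ndS (p := 7886) (l := 9) rfl N7886 D23373
theorem N9626 : nd 9626 = n23386 := ndS (p := 7887) (l := 5) rfl N7887 D23386
theorem N9627 : nd 9627 = n23389 := ndS (p := 7888) (l := 6) rfl N7888 D23389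
theorem N9628 : nd 9628 = n23428 := ndS (p := 7889) (l := 8) rfl N7889 D23428
theorem N9629 : nd 9629 = n23452 := ndS (p := 7892) (l := 8) rfl N7892 D23452
theorem N9630 : nd 9630 = n23453 := ndS (p := 7893) (l := 3) rfl N7893 D23453
theorem N9631 : nd 9631 = n23454 := ndS (p := 7893) (l := 9) rfl N7893 D23454
theorem N9632 : nd 9632 = n23519 := ndS (p := 7895) (l := 8) rfl N7895 D23519
theorem N9633 : nd 9633 = n23521 := ndS (p := 7896) (l := 9) rfl N7896 D23521
theorem N9634 : nd 9634 = n23556 := ndS (p := 7897) (l := 9) rfl N7897 D23556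
theorem N9635 : nd 9635 = n23558 := ndS (p := 7898) (l := 4) rfl N7898 D23558
theorem N9636 : nd 9636 = n23559 := ndS (p := 7898) (l := 9) rfl N7898 D23559
theorem N9637 : nd 9637 = n23572 := ndS (p := 7900) (l := 5) rfl N7900 D23572
theorem N9638 : nd 9638 = n23577 := ndS (p := 7901) (l := 5) rfl N7901 D23577
theorem N9639 : nd 9639 = n23580 := ndS (p := 7902) (l := 6) rfl N7902 D23580
theorem N9640 : nd 9640 = n23583 := ndS (p := 7903) (l := 7) rfl N7903 D23583
theorem N9641 : nd 9641 = n23635 := ndS (p := 7904) (l := 5) rfl N7904 D23635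
theorem N9642 : nd 9642 = n23636 := ndS (p := 7904) (l := 7) rfl N7904 D23636
theorem N9643 : nd 9643 = n23637 := ndS (p := 7904) (l := 8) rfl N7904 D23637
theorem N9644 : nd 9644 = n23639 := ndS (p := 7905) (l := 9) rfl N7905 D23639
theorem N9645 : nd 9645 = n23668 := ndS (p := 7908) (l := 4) rfl N7908 D23668
theorem N9646 : nd 9646 = n23670 := ndS (p := 7908) (l := 8) rfl N7908 D23670
theorem N9647 : nd 9647 = n23671 := ndS (p := 7909) (l := 8) rfl N7909 D23671
theorem N9648 : nd 9648 = n23672 := ndS (p := 7910) (l := 3) rfl N7910 D23672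
theorem N9649 : nd 9649 = n23673 := ndS (p := 7910) (l := 9) rfl N7910 D23673
theorem N9650 : nd 9650 = n23674 := ndS (p := 7911) (l := 2) rfl N7911 D23674
theorem N9651 : nd 9651 = n23676 := ndS (p := 7911) (l := 9) rfl N7911 D23676
theorem N9652 : nd 9652 = n23683 := ndS (p := 7913) (l := 2) rfl N7913 D23683
theorem N9653 : nd 9653 = n23762 := ndS (p := 7916) (l := 4) rfl N7916 D23762
theorem N9654 : nd 9654 = n23764 := ndS (p := 7916) (l := 8) rfl N7916 D23764
theorem N9655 : nd 9655 = n23765 := ndS (p := 7917) (l := 8) rfl N7917 D23765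
theorem N9656 : nd 9656 = n23767 := ndS (p := 7918) (l := 9) rfl N7918 D23767
theorem N9657 : nd 9657 = n23796 := ndS (p := 7920) (l := 8) rfl N7920 D23796
theorem N9658 : nd 9658 = n23800 := ndS (p := 7921) (l := 9) rfl N7921 D23800
theorem N9659 : nd 9659 = n23802 := ndS (p := 7922) (l := 9) rfl N7922 D23802
theorem N9660 : nd 9660 = n23803 := ndS (p := 7923) (l := 4) rfl N7923 D23803
theorem N9661 : nd 9661 = n23804 := ndS (p := 7923) (l := 9) rfl N7923 D23804
theorem N9662 : nd 9662 = n23805 := ndS (p := 7925) (l := 5) rfl N7925 D23805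
theorem N9663 : nd 9663 = n23806 := ndS (p := 7925) (l := 9) rfl N7925 D23806
theorem N9664 : nd 9664 = n23815 := ndS (p := 7927) (l := 5) rfl N7927 D23815
theorem N9665 : nd 9665 = n23818 := ndS (p := 7928) (l := 6) rfl N7928 D23818
theorem N9666 : nd 9666 = n23821 := ndS (p := 7929) (l := 5) rfl N7929 D23821
theorem N9667 : nd 9667 = n23824 := ndS (p := 7930) (l := 6) rfl N7930 D23824
theorem N9668 : nd 9668 = n23827 := ndS (p := 7931) (l := 7) rfl N7931 D23827
theorem N9669 : nd 9669 = n23857 := ndS (p := 7933) (l := 4) rfl N7933 D23857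
theorem N9670 : nd 9670 = n23859 := ndS (p := 7933) (l := 8) rfl N7933 D23859
theorem N9671 : nd 9671 = n23860 := ndS (p := 7934) (l := 8) rfl N7934 D23860
theorem N9672 : nd 9672 = n23862 := ndS (p := 7935) (l := 9) rfl N7935 D23862
theorem N9673 : nd 9673 = n23886 := ndS (p := 7938) (l := 7) rfl N7938 D23886
theorem N9674 : nd 9674 = n23887 := ndS (p := 7938) (l := 8) rfl N7938 D23887
theorem N9675 : nd 9675 = n23889 := ndS (p := 7939) (l := 8) rfl N7939 D23889
theorem N9676 : nd 9676 = n23890 := ndS (p := 7940) (l := 3) rfl N7940 D23890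
theorem N9677 : nd 9677 = n23891 := ndS (p := 7940) (l := 9) rfl N7940 D23891
theorem N9678 : nd 9678 = n23892 := ndS (p := 7941) (l := 3) rfl N7941 D23892
theorem N9679 : nd 9679 = n23893 := ndS (p := 7941) (l := 9) rfl N7941 D23893
theorem N9680 : nd 9680 = n23894 := ndS (p := 7942) (l := 2) rfl N7942 D23894
theorem N9681 : nd 9681 = n23896 := ndS (p := 7942) (l := 9) rfl N7942 D23896
theorem N9682 : nd 9682 = n23897 := ndS (p := 7944) (l := 1) rfl N7944 D23897
theorem N9683 : nd 9683 = n23899 := ndS (p := 7944) (l := 9) rfl N7944 D23899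
theorem N9684 : nd 9684 = n23935 := ndS (p := 7950) (l := 8) rfl N7950 D23935
theorem N9685 : nd 9685 = n23937 := ndS (p := 7951) (l := 9) rfl N7951 D23937
theorem N9686 : nd 9686 = n23940 := ndS (p := 7952) (l := 8) rfl N7952 D23940
theorem N9687 : nd 9687 = n23941 := ndS (p := 7953) (l := 8) rfl N7953 D23941
theorem N9688 : nd 9688 = n23942 := ndS (p := 7954) (l := 9) rfl N7954 D23942
theorem N9689 : nd 9689 = n23945 := ndS (p := 7957) (l := 8) rfl N7957 D23945
theorem N9690 : nd 9690 = n23947 := ndS (p := 7958) (l := 8) rfl N7958 D23947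
theorem N9691 : nd 9691 = n23948 := ndS (p := 7959) (l := 9) rfl N7959 D23948
theorem N9692 : nd 9692 = n23949 := ndS (p := 7960) (l := 9) rfl N7960 D23949
theorem N9693 : nd 9693 = n23951 := ndS (p := 7962) (l := 8) rfl N7962 D23951
theorem N9694 : nd 9694 = n23952 := ndS (p := 7963) (l := 3) rfl N7963 D23952
theorem N9695 : nd 9695 = n23953 := ndS (p := 7963) (l := 9) rfl N7963 D23953
theorem N9696 : nd 9696 = n23955 := ndS (p := 7964) (l := 9) rfl N7964 D23955
theorem N9697 : nd 9697 = n24015 := ndS (p := 7967) (l := 4) rfl N7967 D24015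
theorem N9698 : nd 9698 = n24016 := ndS (p := 7967) (l := 9) rfl N7967 D24016
theorem N9699 : nd 9699 = n24028 := ndS (p := 7969) (l := 5) rfl N7969 D24028
theorem N9700 : nd 9700 = n24033 := ndS (p := 7970) (l := 5) rfl N7970 D24033
theorem N9701 : nd 9701 = n24036 := ndS (p := 7971) (l := 6) rfl N7971 D24036
theorem N9702 : nd 9702 = n24142 := ndS (p := 7974) (l := 4) rfl N7974 D24142
theorem N9703 : nd 9703 = n24143 := ndS (p := 7974) (l := 9) rfl N7974 D24143
theorem N9704 : nd 9704 = n24145 := ndS (p := 7976) (l := 4) rfl N7976 D24145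
theorem N9705 : nd 9705 = n24147 := ndS (p := 7977) (l := 5) rfl N7977 D24147
theorem N9706 : nd 9706 = n24148 := ndS (p := 7977) (l := 9) rfl N7977 D24148
theorem N9707 : nd 9707 = n24156 := ndS (p := 7979) (l := 5) rfl N7979 D24156
theorem N9708 : nd 9708 = n24165 := ndS (p := 7981) (l := 6) rfl N7981 D24165
theorem N9709 : nd 9709 = n24168 := ndS (p := 7982) (l := 5) rfl N7982 D24168
theorem N9710 : nd 9710 = n24171 := ndS (p := 7983) (l := 6) rfl N7983 D24171
theorem N9711 : nd 9711 = n24174 := ndS (p := 7984) (l := 7) rfl N7984 D24174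
theorem N9712 : nd 9712 = n24240 := ndS (p := 7986) (l := 6) rfl N7986 D24240
theorem N9713 : nd 9713 = n24243 := ndS (p := 7987) (l := 7) rfl N7987 D24243
theorem N9714 : nd 9714 = n24324 := ndS (p := 7990) (l := 4) rfl N7990 D24324
theorem N9715 : nd 9715 = n24325 := ndS (p := 7990) (l := 9) rfl N7990 D24325
theorem N9716 : nd 9716 = n24329 := ndS (p := 7993) (l := 5) rfl N7993 D24329
theorem N9717 : nd 9717 = n24447 := ndS (p := 7997) (l := 6) rfl N7997 D24447
theorem N9718 : nd 9718 = n28517 := ndS (p := 8008) (l := 9) rfl N8008 D28517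
theorem N9719 : nd 9719 = n28522 := ndS (p := 8009) (l := 3) rfl N8009 D28522
theorem N9720 : nd 9720 = n28523 := ndS (p := 8009) (l := 9) rfl N8009 D28523
theorem N9721 : nd 9721 = n28528 := ndS (p := 8010) (l := 9) rfl N8010 D28528
theorem N9722 : nd 9722 = n28533 := ndS (p := 8012) (l := 9) rfl N8012 D28533
theorem N9723 : nd 9723 = n28535 := ndS (p := 8013) (l := 9) rfl N8013 D28535
theorem N9724 : nd 9724 = n28541 := ndS (p := 8015) (l := 3) rfl N8015 D28541
theorem N9725 : nd 9725 = n28542 := ndS (p := 8015) (l := 9) rfl N8015 D28542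
theorem N9726 : nd 9726 = n28547 := ndS (p := 8016) (l := 9) rfl N8016 D28547
theorem N9727 : nd 9727 = n28553 := ndS (p := 8018) (l := 3) rfl N8018 D28553
theorem N9728 : nd 9728 = n28554 := ndS (p := 8018) (l := 9) rfl N8018 D28554
theorem N9729 : nd 9729 = n28555 := ndS (p := 8019) (l := 4) rfl N8019 D28555
theorem N9730 : nd 9730 = n28556 := ndS (p := 8019) (l := 9) rfl N8019 D28556
theorem N9731 : nd 9731 = n28560 := ndS (p := 8021) (l := 3) rfl N8021 D28560
theorem N9732 : nd 9732 = n28561 := ndS (p := 8021) (l := 9) rfl N8021 D28561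
theorem N9733 : nd 9733 = n28563 := ndS (p := 8022) (l := 9) rfl N8022 D28563
theorem N9734 : nd 9734 = n28568 := ndS (p := 8024) (l := 9) rfl N8024 D28568
theorem N9735 : nd 9735 = n28570 := ndS (p := 8025) (l := 9) rfl N8025 D28570
theorem N9736 : nd 9736 = n28571 := ndS (p := 8027) (l := 9) rfl N8027 D28571
theorem N9737 : nd 9737 = n28575 := ndS (p := 8029) (l := 3) rfl N8029 D28575
theorem N9738 : nd 9738 = n28576 := ndS (p := 8029) (l := 9) rfl N8029 D28576
theorem N9739 : nd 9739 = n28582 := ndS (p := 8030) (l := 3) rfl N8030 D28582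
theorem N9740 : nd 9740 = n28583 := ndS (p := 8030) (l := 9) rfl N8030 D28583
theorem N9741 : nd 9741 = n28584 := ndS (p := 8031) (l := 4) rfl N8031 D28584
theorem N9742 : nd 9742 = n28585 := ndS (p := 8031) (l := 9) rfl N8031 D28585
theorem N9743 : nd 9743 = n28589 := ndS (p := 8033) (l := 3) rfl N8033 D28589
theorem N9744 : nd 9744 = n28590 := ndS (p := 8033) (l := 9) rfl N8033 D28590
theorem N9745 : nd 9745 = n28592 := ndS (p := 8034) (l := 9) rfl N8034 D28592
theorem N9746 : nd 9746 = n28599 := ndS (p := 8036) (l := 9) rfl N8036 D28599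
theorem N9747 : nd 9747 = n28601 := ndS (p := 8037) (l := 3) rfl N8037 D28601
theorem N9748 : nd 9748 = n28602 := ndS (p := 8037) (l := 9) rfl N8037 D28602
theorem N9749 : nd 9749 = n28603 := ndS (p := 8038) (l := 4) rfl N8038 D28603
theorem N9750 : nd 9750 = n28604 := ndS (p := 8038) (l := 9) rfl N8038 D28604
theorem N9751 : nd 9751 = n28605 := ndS (p := 8040) (l := 5) rfl N8040 D28605
theorem N9752 : nd 9752 = n28606 := ndS (p := 8040) (l := 9) rfl N8040 D28606
theorem N9753 : nd 9753 = n28607 := ndS (p := 8041) (l := 8) rfl N8041 D28607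
theorem N9754 : nd 9754 = n28611 := ndS (p := 8042) (l := 3) rfl N8042 D28611
theorem N9755 : nd 9755 = n28612 := ndS (p := 8042) (l := 9) rfl N8042 D28612
theorem N9756 : nd 9756 = n28613 := ndS (p := 8043) (l := 2) rfl N8043 D28613
theorem N9757 : nd 9757 = n28614 := ndS (p := 8043) (l := 9) rfl N8043 D28614
theorem N9758 : nd 9758 = n28615 := ndS (p := 8045) (l := 9) rfl N8045 D28615
theorem N9759 : nd 9759 = n28618 := ndS (p := 8047) (l := 3) rfl N8047 D28618
theorem N9760 : nd 9760 = n28619 := ndS (p := 8047) (l := 9) rfl N8047 D28619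
theorem N9761 : nd 9761 = n28620 := ndS (p := 8048) (l := 3) rfl N8048 D28620
theorem N9762 : nd 9762 = n28621 := ndS (p := 8048) (l := 9) rfl N8048 D28621
theorem N9763 : nd 9763 = n28622 := ndS (p := 8049) (l := 2) rfl N8049 D28622
theorem N9764 : nd 9764 = n28623 := ndS (p := 8049) (l := 9) rfl N8049 D28623
theorem N9765 : nd 9765 = n28624 := ndS (p := 8051) (l := 1) rfl N8051 D28624
theorem N9766 : nd 9766 = n28625 := ndS (p := 8051) (l := 9) rfl N8051 D28625
theorem N9767 : nd 9767 = n28626 := ndS (p := 8052) (l := 8) rfl N8052 D28626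
theorem N9768 : nd 9768 = n28629 := ndS (p := 8054) (l := 2) rfl N8054 D28629
theorem N9769 : nd 9769 = n28630 := ndS (p := 8054) (l := 5) rfl N8054 D28630
theorem N9770 : nd 9770 = n28631 := ndS (p := 8054) (l := 8) rfl N8054 D28631
theorem N9771 : nd 9771 = n28642 := ndS (p := 8061) (l := 5) rfl N8061 D28642
theorem N9772 : nd 9772 = n28658 := ndS (p := 8064) (l := 5) rfl N8064 D28658
theorem N9773 : nd 9773 = n28660 := ndS (p := 8065) (l := 4) rfl N8065 D28660
theorem N9774 : nd 9774 = n28661 := ndS (p := 8065) (l := 6) rfl N8065 D28661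
theorem N9775 : nd 9775 = n28662 := ndS (p := 8065) (l := 8) rfl N8065 D28662
theorem N9776 : nd 9776 = n28665 := ndS (p := 8068) (l := 6) rfl N8068 D28665
theorem N9777 : nd 9777 = n28666 := ndS (p := 8068) (l := 8) rfl N8068 D28666
theorem N9778 : nd 9778 = n28673 := ndS (p := 8073) (l := 4) rfl N8073 D28673
theorem N9779 : nd 9779 = n28678 := ndS (p := 8074) (l := 4) rfl N8074 D28678
theorem N9780 : nd 9780 = n28679 := ndS (p := 8074) (l := 6) rfl N8074 D28679
theorem N9781 : nd 9781 = n28683 := ndS (p := 8075) (l := 6) rfl N8075 D28683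
theorem N9782 : nd 9782 = n28684 := ndS (p := 8075) (l := 8) rfl N8075 D28684
theorem N9783 : nd 9783 = n28703 := ndS (p := 8080) (l := 4) rfl N8080 D28703
theorem N9784 : nd 9784 = n28704 := ndS (p := 8080) (l := 6) rfl N8080 D28704
theorem N9785 : nd 9785 = n28708 := ndS (p := 8081) (l := 6) rfl N8081 D28708
theorem N9786 : nd 9786 = n28709 := ndS (p := 8081) (l := 8) rfl N8081 D28709
theorem N9787 : nd 9787 = n28710 := ndS (p := 8082) (l := 7) rfl N8082 D28710
theorem N9788 : nd 9788 = n28711 := ndS (p := 8082) (l := 8) rfl N8082 D28711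
theorem N9789 : nd 9789 = n28713 := ndS (p := 8085) (l := 5) rfl N8085 D28713
theorem N9790 : nd 9790 = n28714 := ndS (p := 8085) (l := 7) rfl N8085 D28714
theorem N9791 : nd 9791 = n28715 := ndS (p := 8085) (l := 8) rfl N8085 D28715
theorem N9792 : nd 9792 = n28716 := ndS (p := 8086) (l := 3) rfl N8086 D28716
theorem N9793 : nd 9793 = n28717 := ndS (p := 8086) (l := 9) rfl N8086 D28717
theorem N9794 : nd 9794 = n28727 := ndS (p := 8090) (l := 6) rfl N8090 D28727
theorem N9795 : nd 9795 = n28732 := ndS (p := 8092) (l := 3) rfl N8092 D28732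
theorem N9796 : nd 9796 = n28733 := ndS (p := 8092) (l := 6) rfl N8092 D28733
theorem N9797 : nd 9797 = n28735 := ndS (p := 8093) (l := 7) rfl N8093 D28735
theorem N9798 : nd 9798 = n28741 := ndS (p := 8094) (l := 5) rfl N8094 D28741
theorem N9799 : nd 9799 = n28742 := ndS (p := 8094) (l := 7) rfl N8094 D28742
theorem N9800 : nd 9800 = n28743 := ndS (p := 8094) (l := 8) rfl N8094 D28743
theorem N9801 : nd 9801 = n28744 := ndS (p := 8095) (l := 3) rfl N8095 D28744
theorem N9802 : nd 9802 = n28748 := ndS (p := 8098) (l := 7) rfl N8098 D28748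
theorem N9803 : nd 9803 = n28749 := ndS (p := 8098) (l := 8) rfl N8098 D28749
theorem N9804 : nd 9804 = n28764 := ndS (p := 8103) (l := 4) rfl N8103 D28764
theorem N9805 : nd 9805 = n28765 := ndS (p := 8103) (l := 6) rfl N8103 D28765
theorem N9806 : nd 9806 = n28766 := ndS (p := 8103) (l := 8) rfl N8103 D28766
theorem N9807 : nd 9807 = n28767 := ndS (p := 8104) (l := 3) rfl N8104 D28767
theorem N9808 : nd 9808 = n28768 := ndS (p := 8104) (l := 9) rfl N8104 D28768
theorem N9809 : nd 9809 = n28769 := ndS (p := 8105) (l := 6) rfl N8105 D28769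
theorem N9810 : nd 9810 = n28770 := ndS (p := 8105) (l := 8) rfl N8105 D28770
theorem N9811 : nd 9811 = n28771 := ndS (p := 8106) (l := 7) rfl N8106 D28771
theorem N9812 : nd 9812 = n28772 := ndS (p := 8106) (l := 8) rfl N8106 D28772
theorem N9813 : nd 9813 = n28773 := ndS (p := 8107) (l := 9) rfl N8107 D28773
theorem N9814 : nd 9814 = n28774 := ndS (p := 8110) (l := 5) rfl N8110 D28774
theorem N9815 : nd 9815 = n28775 := ndS (p := 8110) (l := 7) rfl N8110 D28775
theorem N9816 : nd 9816 = n28776 := ndS (p := 8110) (l := 8) rfl N8110 D28776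
theorem N9817 : nd 9817 = n28777 := ndS (p := 8111) (l := 3) rfl N8111 D28777
theorem N9818 : nd 9818 = n28778 := ndS (p := 8111) (l := 9) rfl N8111 D28778
theorem N9819 : nd 9819 = n28779 := ndS (p := 8112) (l := 8) rfl N8112 D28779
theorem N9820 : nd 9820 = n28780 := ndS (p := 8113) (l := 9) rfl N8113 D28780
theorem N9821 : nd 9821 = n28781 := ndS (p := 8115) (l := 5) rfl N8115 D28781
theorem N9822 : nd 9822 = n28782 := ndS (p := 8115) (l := 8) rfl N8115 D28782
theorem N9823 : nd 9823 = n28783 := ndS (p := 8116) (l := 4) rfl N8116 D28783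
theorem N9824 : nd 9824 = n28784 := ndS (p := 8116) (l := 6) rfl N8116 D28784
theorem N9825 : nd 9825 = n28785 := ndS (p := 8116) (l := 8) rfl N8116 D28785
theorem N9826 : nd 9826 = n28786 := ndS (p := 8117) (l := 3) rfl N8117 D28786
theorem N9827 : nd 9827 = n28787 := ndS (p := 8117) (l := 9) rfl N8117 D28787
theorem N9828 : nd 9828 = n28788 := ndS (p := 8118) (l := 6) rfl N8118 D28788
theorem N9829 : nd 9829 = n28789 := ndS (p := 8118) (l := 8) rfl N8118 D28789
theorem N9830 : nd 9830 = n28792 := ndS (p := 8120) (l := 9) rfl N8120 D28792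
theorem N9831 : nd 9831 = n28793 := ndS (p := 8122) (l := 3) rfl N8122 D28793
theorem N9832 : nd 9832 = n28794 := ndS (p := 8122) (l := 6) rfl N8122 D28794
theorem N9833 : nd 9833 = n28795 := ndS (p := 8122) (l := 8) rfl N8122 D28795
theorem N9834 : nd 9834 = n28796 := ndS (p := 8123) (l := 7) rfl N8123 D28796
theorem N9835 : nd 9835 = n28797 := ndS (p := 8123) (l := 8) rfl N8123 D28797
theorem N9836 : nd 9836 = n28798 := ndS (p := 8124) (l := 3) rfl N8124 D28798
theorem N9837 : nd 9837 = n28799 := ndS (p := 8124) (l := 9) rfl N8124 D28799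
theorem N9838 : nd 9838 = n28800 := ndS (p := 8125) (l := 4) rfl N8125 D28800
theorem N9839 : nd 9839 = n28801 := ndS (p := 8125) (l := 9) rfl N8125 D28801
theorem N9840 : nd 9840 = n28802 := ndS (p := 8127) (l := 5) rfl N8127 D28802
theorem N9841 : nd 9841 = n28803 := ndS (p := 8127) (l := 7) rfl N8127 D28803
theorem N9842 : nd 9842 = n28804 := ndS (p := 8127) (l := 8) rfl N8127 D28804
theorem N9843 : nd 9843 = n28805 := ndS (p := 8128) (l := 3) rfl N8128 D28805
theorem N9844 : nd 9844 = n28806 := ndS (p := 8128) (l := 9) rfl N8128 D28806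
theorem N9845 : nd 9845 = n28808 := ndS (p := 8130) (l := 9) rfl N8130 D28808
theorem N9846 : nd 9846 = n28813 := ndS (p := 8134) (l := 9) rfl N8134 D28813
theorem N9847 : nd 9847 = n28815 := ndS (p := 8135) (l := 9) rfl N8135 D28815
theorem N9848 : nd 9848 = n28816 := ndS (p := 8137) (l := 9) rfl N8137 D28816
theorem N9849 : nd 9849 = n28829 := ndS (p := 8139) (l := 3) rfl N8139 D28829
theorem N9850 : nd 9850 = n28830 := ndS (p := 8139) (l := 6) rfl N8139 D28830
theorem N9851 : nd 9851 = n28831 := ndS (p := 8139) (l := 8) rfl N8139 D28831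
theorem N9852 : nd 9852 = n28832 := ndS (p := 8140) (l := 7) rfl N8140 D28832
theorem N9853 : nd 9853 = n28833 := ndS (p := 8140) (l := 8) rfl N8140 D28833
theorem N9854 : nd 9854 = n28834 := ndS (p := 8141) (l := 3) rfl N8141 D28834
theorem N9855 : nd 9855 = n28835 := ndS (p := 8141) (l := 9) rfl N8141 D28835
theorem N9856 : nd 9856 = n28837 := ndS (p := 8142) (l := 9) rfl N8142 D28837
theorem N9857 : nd 9857 = n28838 := ndS (p := 8144) (l := 5) rfl N8144 D28838
theorem N9858 : nd 9858 = n28839 := ndS (p := 8144) (l := 7) rfl N8144 D28839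
theorem N9859 : nd 9859 = n28840 := ndS (p := 8144) (l := 8) rfl N8144 D28840
theorem N9860 : nd 9860 = n28841 := ndS (p := 8145) (l := 3) rfl N8145 D28841
theorem N9861 : nd 9861 = n28842 := ndS (p := 8145) (l := 9) rfl N8145 D28842
theorem N9862 : nd 9862 = n28843 := ndS (p := 8146) (l := 8) rfl N8146 D28843
theorem N9863 : nd 9863 = n28844 := ndS (p := 8147) (l := 9) rfl N8147 D28844
theorem N9864 : nd 9864 = n28845 := ndS (p := 8149) (l := 7) rfl N8149 D28845
theorem N9865 : nd 9865 = n28846 := ndS (p := 8149) (l := 8) rfl N8149 D28846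
theorem N9866 : nd 9866 = n28847 := ndS (p := 8150) (l := 8) rfl N8150 D28847
theorem N9867 : nd 9867 = n28848 := ndS (p := 8151) (l := 3) rfl N8151 D28848
theorem N9868 : nd 9868 = n28849 := ndS (p := 8151) (l := 9) rfl N8151 D28849
theorem N9869 : nd 9869 = n28850 := ndS (p := 8152) (l := 2) rfl N8152 D28850
theorem N9870 : nd 9870 = n28851 := ndS (p := 8152) (l := 9) rfl N8152 D28851
theorem N9871 : nd 9871 = n28852 := ndS (p := 8154) (l := 9) rfl N8154 D28852
theorem N9872 : nd 9872 = n28853 := ndS (p := 8156) (l := 4) rfl N8156 D28853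
theorem N9873 : nd 9873 = n28854 := ndS (p := 8156) (l := 6) rfl N8156 D28854
theorem N9874 : nd 9874 = n28855 := ndS (p := 8156) (l := 8) rfl N8156 D28855
theorem N9875 : nd 9875 = n28856 := ndS (p := 8157) (l := 3) rfl N8157 D28856
theorem N9876 : nd 9876 = n28857 := ndS (p := 8157) (l := 9) rfl N8157 D28857
theorem N9877 : nd 9877 = n28858 := ndS (p := 8158) (l := 3) rfl N8158 D28858
theorem N9878 : nd 9878 = n28859 := ndS (p := 8158) (l := 6) rfl N8158 D28859
theorem N9879 : nd 9879 = n28860 := ndS (p := 8158) (l := 8) rfl N8158 D28860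
theorem N9880 : nd 9880 = n28861 := ndS (p := 8159) (l := 7) rfl N8159 D28861
theorem N9881 : nd 9881 = n28862 := ndS (p := 8159) (l := 8) rfl N8159 D28862
theorem N9882 : nd 9882 = n28863 := ndS (p := 8160) (l := 3) rfl N8160 D28863
theorem N9883 : nd 9883 = n28864 := ndS (p := 8160) (l := 9) rfl N8160 D28864
theorem N9884 : nd 9884 = n28865 := ndS (p := 8161) (l := 4) rfl N8161 D28865
theorem N9885 : nd 9885 = n28866 := ndS (p := 8161) (l := 9) rfl N8161 D28866
theorem N9886 : nd 9886 = n28867 := ndS (p := 8163) (l := 5) rfl N8163 D28867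
theorem N9887 : nd 9887 = n28868 := ndS (p := 8163) (l := 7) rfl N8163 D28868
theorem N9888 : nd 9888 = n28869 := ndS (p := 8163) (l := 8) rfl N8163 D28869
theorem N9889 : nd 9889 = n28870 := ndS (p := 8164) (l := 3) rfl N8164 D28870
theorem N9890 : nd 9890 = n28871 := ndS (p := 8164) (l := 9) rfl N8164 D28871
theorem N9891 : nd 9891 = n28873 := ndS (p := 8166) (l := 9) rfl N8166 D28873
theorem N9892 : nd 9892 = n28874 := ndS (p := 8168) (l := 6) rfl N8168 D28874
theorem N9893 : nd 9893 = n28875 := ndS (p := 8168) (l := 8) rfl N8168 D28875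
theorem N9894 : nd 9894 = n28876 := ndS (p := 8169) (l := 5) rfl N8169 D28876
theorem N9895 : nd 9895 = n28877 := ndS (p := 8169) (l := 7) rfl N8169 D28877
theorem N9896 : nd 9896 = n28878 := ndS (p := 8169) (l := 8) rfl N8169 D28878
theorem N9897 : nd 9897 = n28879 := ndS (p := 8170) (l := 3) rfl N8170 D28879
theorem N9898 : nd 9898 = n28880 := ndS (p := 8170) (l := 9) rfl N8170 D28880
theorem N9899 : nd 9899 = n28881 := ndS (p := 8171) (l := 8) rfl N8171 D28881
theorem N9900 : nd 9900 = n28882 := ndS (p := 8172) (l := 3) rfl N8172 D28882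
theorem N9901 : nd 9901 = n28883 := ndS (p := 8172) (l := 9) rfl N8172 D28883
theorem N9902 : nd 9902 = n28884 := ndS (p := 8173) (l := 4) rfl N8173 D28884
theorem N9903 : nd 9903 = n28885 := ndS (p := 8173) (l := 9) rfl N8173 D28885
theorem N9904 : nd 9904 = n28886 := ndS (p := 8175) (l := 5) rfl N8175 D28886
theorem N9905 : nd 9905 = n28887 := ndS (p := 8175) (l := 9) rfl N8175 D28887
theorem N9906 : nd 9906 = n28888 := ndS (p := 8176) (l := 8) rfl N8176 D28888
theorem N9907 : nd 9907 = n28889 := ndS (p := 8177) (l := 7) rfl N8177 D28889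
theorem N9908 : nd 9908 = n28890 := ndS (p := 8177) (l := 8) rfl N8177 D28890
theorem N9909 : nd 9909 = n28891 := ndS (p := 8178) (l := 8) rfl N8178 D28891
theorem N9910 : nd 9910 = n28892 := ndS (p := 8179) (l := 3) rfl N8179 D28892
theorem N9911 : nd 9911 = n28893 := ndS (p := 8179) (l := 9) rfl N8179 D28893
theorem N9912 : nd 9912 = n28894 := ndS (p := 8180) (l := 2) rfl N8180 D28894
theorem N9913 : nd 9913 = n28895 := ndS (p := 8180) (l := 9) rfl N8180 D28895
theorem N9914 : nd 9914 = n28896 := ndS (p := 8182) (l := 9) rfl N8182 D28896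
theorem N9915 : nd 9915 = n28897 := ndS (p := 8184) (l := 6) rfl N8184 D28897
theorem N9916 : nd 9916 = n28898 := ndS (p := 8184) (l := 8) rfl N8184 D28898
theorem N9917 : nd 9917 = n28899 := ndS (p := 8185) (l := 3) rfl N8185 D28899
theorem N9918 : nd 9918 = n28900 := ndS (p := 8185) (l := 9) rfl N8185 D28900
theorem N9919 : nd 9919 = n28902 := ndS (p := 8186) (l := 9) rfl N8186 D28902
theorem N9920 : nd 9920 = n28904 := ndS (p := 8187) (l := 9) rfl N8187 D28904
theorem N9921 : nd 9921 = n28905 := ndS (p := 8189) (l := 1) rfl N8189 D28905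
theorem N9922 : nd 9922 = n28906 := ndS (p := 8189) (l := 9) rfl N8189 D28906
theorem N9923 : nd 9923 = n28907 := ndS (p := 8190) (l := 8) rfl N8190 D28907
theorem N9924 : nd 9924 = n28929 := ndS (p := 8192) (l := 6) rfl N8192 D28929
theorem N9925 : nd 9925 = n28930 := ndS (p := 8192) (l := 8) rfl N8192 D28930
theorem N9926 : nd 9926 = n28931 := ndS (p := 8193) (l := 5) rfl N8193 D28931
theorem N9927 : nd 9927 = n28932 := ndS (p := 8193) (l := 7) rfl N8193 D28932
theorem N9928 : nd 9928 = n28933 := ndS (p := 8193) (l := 8) rfl N8193 D28933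
theorem N9929 : nd 9929 = n28934 := ndS (p := 8194) (l := 3) rfl N8194 D28934
theorem N9930 : nd 9930 = n28935 := ndS (p := 8194) (l := 9) rfl N8194 D28935
theorem N9931 : nd 9931 = n28936 := ndS (p := 8195) (l := 8) rfl N8195 D28936
theorem N9932 : nd 9932 = n28937 := ndS (p := 8196) (l := 3) rfl N8196 D28937
theorem N9933 : nd 9933 = n28938 := ndS (p := 8196) (l := 9) rfl N8196 D28938
theorem N9934 : nd 9934 = n28939 := ndS (p := 8197) (l := 4) rfl N8197 D28939
theorem N9935 : nd 9935 = n28940 := ndS (p := 8197) (l := 9) rfl N8197 D28940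
theorem N9936 : nd 9936 = n28943 := ndS (p := 8199) (l := 8) rfl N8199 D28943
theorem N9937 : nd 9937 = n28944 := ndS (p := 8200) (l := 7) rfl N8200 D28944
theorem N9938 : nd 9938 = n28945 := ndS (p := 8200) (l := 8) rfl N8200 D28945
theorem N9939 : nd 9939 = n28946 := ndS (p := 8201) (l := 8) rfl N8201 D28946
theorem N9940 : nd 9940 = n28947 := ndS (p := 8202) (l := 3) rfl N8202 D28947
theorem N9941 : nd 9941 = n28948 := ndS (p := 8202) (l := 9) rfl N8202 D28948
theorem N9942 : nd 9942 = n28949 := ndS (p := 8203) (l := 2) rfl N8203 D28949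
theorem N9943 : nd 9943 = n28950 := ndS (p := 8203) (l := 9) rfl N8203 D28950
theorem N9944 : nd 9944 = n28951 := ndS (p := 8205) (l := 9) rfl N8205 D28951
theorem N9945 : nd 9945 = n28952 := ndS (p := 8207) (l := 6) rfl N8207 D28952
theorem N9946 : nd 9946 = n28953 := ndS (p := 8207) (l := 8) rfl N8207 D28953
theorem N9947 : nd 9947 = n28954 := ndS (p := 8208) (l := 3) rfl N8208 D28954
theorem N9948 : nd 9948 = n28955 := ndS (p := 8208) (l := 9) rfl N8208 D28955
theorem N9949 : nd 9949 = n28956 := ndS (p := 8209) (l := 3) rfl N8209 D28956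
theorem N9950 : nd 9950 = n28957 := ndS (p := 8209) (l := 9) rfl N8209 D28957
theorem N9951 : nd 9951 = n28958 := ndS (p := 8210) (l := 2) rfl N8210 D28958
theorem N9952 : nd 9952 = n28959 := ndS (p := 8210) (l := 9) rfl N8210 D28959
theorem N9953 : nd 9953 = n28960 := ndS (p := 8212) (l := 1) rfl N8212 D28960
theorem N9954 : nd 9954 = n28961 := ndS (p := 8212) (l := 9) rfl N8212 D28961
theorem N9955 : nd 9955 = n28962 := ndS (p := 8213) (l := 8) rfl N8213 D28962
theorem N9956 : nd 9956 = n28963 := ndS (p := 8215) (l := 3) rfl N8215 D28963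
theorem N9957 : nd 9957 = n28964 := ndS (p := 8215) (l := 6) rfl N8215 D28964
theorem N9958 : nd 9958 = n28965 := ndS (p := 8215) (l := 8) rfl N8215 D28965
theorem N9959 : nd 9959 = n28966 := ndS (p := 8216) (l := 7) rfl N8216 D28966
theorem N9960 : nd 9960 = n28967 := ndS (p := 8216) (l := 8) rfl N8216 D28967
theorem N9961 : nd 9961 = n28968 := ndS (p := 8217) (l := 3) rfl N8217 D28968
theorem N9962 : nd 9962 = n28969 := ndS (p := 8217) (l := 9) rfl N8217 D28969
theorem N9963 : nd 9963 = n28970 := ndS (p := 8218) (l := 2) rfl N8218 D28970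
theorem N9964 : nd 9964 = n28972 := ndS (p := 8218) (l := 9) rfl N8218 D28972
theorem N9965 : nd 9965 = n28973 := ndS (p := 8220) (l := 6) rfl N8220 D28973
theorem N9966 : nd 9966 = n28974 := ndS (p := 8220) (l := 8) rfl N8220 D28974
theorem N9967 : nd 9967 = n28975 := ndS (p := 8221) (l := 5) rfl N8221 D28975
theorem N9968 : nd 9968 = n28976 := ndS (p := 8221) (l := 7) rfl N8221 D28976
theorem N9969 : nd 9969 = n28977 := ndS (p := 8221) (l := 8) rfl N8221 D28977
theorem N9970 : nd 9970 = n28978 := ndS (p := 8222) (l := 3) rfl N8222 D28978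
theorem N9971 : nd 9971 = n28979 := ndS (p := 8222) (l := 9) rfl N8222 D28979
theorem N9972 : nd 9972 = n28980 := ndS (p := 8223) (l := 8) rfl N8223 D28980
theorem N9973 : nd 9973 = n28981 := ndS (p := 8224) (l := 3) rfl N8224 D28981
theorem N9974 : nd 9974 = n28982 := ndS (p := 8224) (l := 9) rfl N8224 D28982
theorem N9975 : nd 9975 = n28983 := ndS (p := 8225) (l := 4) rfl N8225 D28983
theorem N9976 : nd 9976 = n28984 := ndS (p := 8225) (l := 9) rfl N8225 D28984
theorem N9977 : nd 9977 = n28985 := ndS (p := 8227) (l := 5) rfl N8227 D28985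
theorem N9978 : nd 9978 = n28986 := ndS (p := 8227) (l := 9) rfl N8227 D28986
theorem N9979 : nd 9979 = n28987 := ndS (p := 8228) (l := 8) rfl N8228 D28987
theorem N9980 : nd 9980 = n28988 := ndS (p := 8229) (l := 7) rfl N8229 D28988
theorem N9981 : nd 9981 = n28989 := ndS (p := 8229) (l := 8) rfl N8229 D28989
theorem N9982 : nd 9982 = n28990 := ndS (p := 8230) (l := 8) rfl N8230 D28990
theorem N9983 : nd 9983 = n28991 := ndS (p := 8231) (l := 3) rfl N8231 D28991
theorem N9984 : nd 9984 = n28992 := ndS (p := 8231) (l := 9) rfl N8231 D28992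
theorem N9985 : nd 9985 = n28993 := ndS (p := 8232) (l := 2) rfl N8232 D28993
theorem N9986 : nd 9986 = n28994 := ndS (p := 8232) (l := 9) rfl N8232 D28994
theorem N9987 : nd 9987 = n28995 := ndS (p := 8234) (l := 9) rfl N8234 D28995
theorem N9988 : nd 9988 = n28996 := ndS (p := 8236) (l := 5) rfl N8236 D28996
theorem N9989 : nd 9989 = n28997 := ndS (p := 8236) (l := 7) rfl N8236 D28997
theorem N9990 : nd 9990 = n28998 := ndS (p := 8236) (l := 8) rfl N8236 D28998
theorem N9991 : nd 9991 = n28999 := ndS (p := 8237) (l := 3) rfl N8237 D28999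
theorem N9992 : nd 9992 = n29000 := ndS (p := 8237) (l := 9) rfl N8237 D29000
theorem N9993 : nd 9993 = n29001 := ndS (p := 8238) (l := 7) rfl N8238 D29001
theorem N9994 : nd 9994 = n29002 := ndS (p := 8238) (l := 8) rfl N8238 D29002
theorem N9995 : nd 9995 = n29003 := ndS (p := 8239) (l := 8) rfl N8239 D29003
theorem N9996 : nd 9996 = n29004 := ndS (p := 8240) (l := 3) rfl N8240 D29004
theorem N9997 : nd 9997 = n29005 := ndS (p := 8240) (l := 9) rfl N8240 D29005
theorem N9998 : nd 9998 = n29006 := ndS (p := 8241) (l := 2) rfl N8241 D29006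
theorem N9999 : nd 9999 = n29007 := ndS (p := 8241) (l := 4) rfl N8241 D29007
theorem N10000 : nd 10000 = n29008 := ndS (p := 8241) (l := 9) rfl N8241 D29008

end Cfsg.Agent.Helper17.Fi23TC
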